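import Mathlib

/-!
# Isometry groups of functions and orthogonal decompositions
-/

namespace CfsgLib.IsomDecomp

open Module

set_option linter.unusedSimpArgs false
set_option linter.unusedSectionVars false

variable {F V Y : Type*} [Field F] [AddCommGroup V] [Module F V]

/-- The group of linear automorphisms preserving a two-argument function. -/
def isomF (F : Type*) {V Y : Type*} [Field F] [AddCommGroup V] [Module F V] (f : V → V → Y) :
    Subgroup (V ≃ₗ[F] V) where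
  carrier := {g | ∀ u v, f (g u) (g v) = f u v}
  mul_mem' {a b} ha hb := by
    intro u v
    rw [LinearEquiv.mul_apply, LinearEquiv.mul_apply, ha, hb]
  one_mem' := by intro u v; rfl
  inv_mem' {a} ha := by
    intro u v
    have h := ha (a⁻¹ u) (a⁻¹ v)
    rw [← LinearEquiv.mul_apply, ← LinearEquiv.mul_apply, mul_inv_cancel] at h
    exact h.symm

lemma mem_isomF {f : V → V → Y} {g : V ≃ₗ[F] V} :
    g ∈ isomF F f ↔ ∀ u v, f (g u) (g v) = f u v := Iff.rfl

/-- Transport of `isomF` along a linear equivalence. -/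
def isomFCongr {V' : Type*} [AddCommGroup V'] [Module F V'] (e : V ≃ₗ[F] V') {f : V → V → Y}
    {f' : V' → V' → Y} (h : ∀ u v, f' (e u) (e v) = f u v) : isomF F f ≃* isomF F f' where
  toFun g := ⟨(e.symm.trans (g : V ≃ₗ[F] V)).trans e, by
    intro u v
    simp only [LinearEquiv.trans_apply]
    rw [h, g.2, ← h, e.apply_symm_apply, e.apply_symm_apply]⟩
  invFun g := ⟨(e.trans (g : V' ≃ₗ[F] V')).trans e.symm, by
    intro u v
    simp only [LinearEquiv.trans_apply]
    rw [← h, e.apply_symm_apply, e.apply_symm_apply, g.2, h]⟩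
  left_inv g := by
    apply Subtype.ext
    ext x
    simp
  right_inv g := by
    apply Subtype.ext
    ext x
    simp
  map_mul' a b := by
    apply Subtype.ext
    ext x
    simp [LinearEquiv.mul_apply]

/-- The linear automorphism of `V = W₁ ⊕ W₂` with given components. -/
noncomputable def glue {W₁ W₂ : Submodule F V} (h : IsCompl W₁ W₂) :
    ((W₁ ≃ₗ[F] W₁) × (W₂ ≃ₗ[F] W₂)) →* (V ≃ₗ[F] V) where
  toFun g := ((Submodule.prodEquivOfIsCompl W₁ W₂ h).symm.trans (g.1.prodCongr g.2)).trans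
    (Submodule.prodEquivOfIsCompl W₁ W₂ h)
  map_one' := by
    ext x
    simp only [LinearEquiv.trans_apply, Prod.fst_one, Prod.snd_one]
    have : (LinearEquiv.prodCongr (1 : W₁ ≃ₗ[F] W₁) (1 : W₂ ≃ₗ[F] W₂))
        ((Submodule.prodEquivOfIsCompl W₁ W₂ h).symm x) =
        (Submodule.prodEquivOfIsCompl W₁ W₂ h).symm x := rfl
    rw [this, LinearEquiv.apply_symm_apply]
    rfl
  map_mul' a b := by
    ext x
    rw [LinearEquiv.mul_apply]
    simp only [LinearEquiv.trans_apply, LinearEquiv.symm_apply_apply]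
    rfl

lemma glue_apply {W₁ W₂ : Submodule F V} (h : IsCompl W₁ W₂)
    (g : (W₁ ≃ₗ[F] W₁) × (W₂ ≃ₗ[F] W₂)) (a : W₁) (b : W₂) :
    glue h g ((a : V) + b) = (g.1 a : V) + g.2 b := by
  have h1 : ∀ (a : W₁) (b : W₂), (Submodule.prodEquivOfIsCompl W₁ W₂ h) (a, b) = (a : V) + b :=
    fun a b => Submodule.coe_prodEquivOfIsCompl' W₁ W₂ h (a, b)
  change (Submodule.prodEquivOfIsCompl W₁ W₂ h) ((g.1.prodCongr g.2)
    ((Submodule.prodEquivOfIsCompl W₁ W₂ h).symm ((a : V) + b))) = _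
  rw [← h1, LinearEquiv.symm_apply_apply]
  exact h1 (g.1 a) (g.2 b)

lemma glue_left {W₁ W₂ : Submodule F V} (h : IsCompl W₁ W₂)
    (g : (W₁ ≃ₗ[F] W₁) × (W₂ ≃ₗ[F] W₂)) (a : W₁) : glue h g (a : V) = g.1 a := by
  have := glue_apply h g a 0
  simpa using this

lemma glue_right {W₁ W₂ : Submodule F V} (h : IsCompl W₁ W₂)
    (g : (W₁ ≃ₗ[F] W₁) × (W₂ ≃ₗ[F] W₂)) (b : W₂) : glue h g (b : V) = g.2 b := by
  have := glue_apply h g 0 b
  simpa using this

lemma glue_injective {W₁ W₂ : Submodule F V} (h : IsCompl W₁ W₂) :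
    Function.Injective (glue h) := by
  intro a b hab
  refine Prod.ext ?_ ?_
  · ext x
    rw [← glue_left h, ← glue_left h, hab]
  · ext x
    rw [← glue_right h, ← glue_right h, hab]

lemma exists_add_of_isCompl {W₁ W₂ : Submodule F V} (h : IsCompl W₁ W₂) (x : V) :
    ∃ (a : W₁) (b : W₂), x = (a : V) + b := by
  have : x ∈ W₁ ⊔ W₂ := by rw [h.sup_eq_top]; trivial
  obtain ⟨a, ha, b, hb, rfl⟩ := Submodule.mem_sup.mp this
  exact ⟨⟨a, ha⟩, ⟨b, hb⟩, rfl⟩

/-- The restriction of `f` to a subspace. -/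
def restr (f : V → V → Y) (W : Submodule F V) : W → W → Y := fun a b => f a b

/-- `f` is the orthogonal sum of its restrictions to `W₁` and `W₂`. -/
def IsOrthoSum [Add Y] (f : V → V → Y) (W₁ W₂ : Submodule F V) : Prop :=
  ∀ a ∈ W₁, ∀ b ∈ W₂, ∀ c ∈ W₁, ∀ d ∈ W₂, f (a + b) (c + d) = f a c + f b d

/-- The elements of `isomF f` stabilising both `W₁` and `W₂`. -/
def isomPair (f : V → V → Y) (W₁ W₂ : Submodule F V) : Subgroup (V ≃ₗ[F] V) where
  carrier := {g | g ∈ isomF F f ∧ (∀ x, x ∈ W₁ ↔ g x ∈ W₁) ∧ (∀ x, x ∈ W₂ ↔ g x ∈ W₂)}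
  mul_mem' {a b} ha hb := by
    refine ⟨mul_mem ha.1 hb.1, fun x => ?_, fun x => ?_⟩
    · rw [LinearEquiv.mul_apply, ← ha.2.1, ← hb.2.1]
    · rw [LinearEquiv.mul_apply, ← ha.2.2, ← hb.2.2]
  one_mem' := ⟨one_mem _, fun _ => Iff.rfl, fun _ => Iff.rfl⟩
  inv_mem' {a} ha := by
    refine ⟨inv_mem ha.1, fun x => ?_, fun x => ?_⟩
    · rw [ha.2.1 (a⁻¹ x), ← LinearEquiv.mul_apply, mul_inv_cancel]; rfl
    · rw [ha.2.2 (a⁻¹ x), ← LinearEquiv.mul_apply, mul_inv_cancel]; rfl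

lemma glue_mem_isomPair [Add Y] {f : V → V → Y} {W₁ W₂ : Submodule F V} (h : IsCompl W₁ W₂)
    (hf : IsOrthoSum f W₁ W₂) (g : (W₁ ≃ₗ[F] W₁) × (W₂ ≃ₗ[F] W₂))
    (h1 : g.1 ∈ isomF F (restr f W₁)) (h2 : g.2 ∈ isomF F (restr f W₂)) :
    glue h g ∈ isomPair f W₁ W₂ := by
  have key : ∀ (g : (W₁ ≃ₗ[F] W₁) × (W₂ ≃ₗ[F] W₂)),
      (∀ x ∈ W₁, glue h g x ∈ W₁) ∧ (∀ x ∈ W₂, glue h g x ∈ W₂) := by
    intro g
    refine ⟨fun x hx => ?_, fun x hx => ?_⟩
    · rw [glue_left h g ⟨x, hx⟩]; exact Subtype.property _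
    · rw [glue_right h g ⟨x, hx⟩]; exact Subtype.property _
  refine ⟨fun u v => ?_, fun x => ⟨(key g).1 x, fun hx => ?_⟩, fun x => ⟨(key g).2 x, fun hx => ?_⟩⟩
  · obtain ⟨a, b, rfl⟩ := exists_add_of_isCompl h u
    obtain ⟨c, d, rfl⟩ := exists_add_of_isCompl h v
    rw [glue_apply, glue_apply, hf _ (g.1 a).2 _ (g.2 b).2 _ (g.1 c).2 _ (g.2 d).2,
      hf _ a.2 _ b.2 _ c.2 _ d.2]
    rw [show f (g.1 a) (g.1 c) = f a c from h1 a c, show f (g.2 b) (g.2 d) = f b d from h2 b d]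
  · have := (key g⁻¹).1 _ hx
    rw [← LinearEquiv.mul_apply, ← map_mul, inv_mul_cancel, map_one] at this
    exact this
  · have := (key g⁻¹).2 _ hx
    rw [← LinearEquiv.mul_apply, ← map_mul, inv_mul_cancel, map_one] at this
    exact this

/-- The component on `W` of an automorphism stabilising `W`. -/
noncomputable def comp (g : V ≃ₗ[F] V) (W : Submodule F V) (h : ∀ x, x ∈ W ↔ g x ∈ W) :
    W ≃ₗ[F] W :=
  LinearEquiv.ofSubmodules g W W (by
    ext x
    constructor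
    · rintro ⟨y, hy, rfl⟩
      exact (h y).mp hy
    · intro hx
      refine ⟨g.symm x, (h _).mpr ?_, ?_⟩
      · rwa [LinearEquiv.apply_symm_apply]
      · exact LinearEquiv.apply_symm_apply g x)

lemma comp_apply (g : V ≃ₗ[F] V) (W : Submodule F V) (h : ∀ x, x ∈ W ↔ g x ∈ W) (x : W) :
    (comp g W h x : V) = g x := rfl

lemma glue_comp {W₁ W₂ : Submodule F V} (h : IsCompl W₁ W₂) (g : V ≃ₗ[F] V)
    (h1 : ∀ x, x ∈ W₁ ↔ g x ∈ W₁) (h2 : ∀ x, x ∈ W₂ ↔ g x ∈ W₂) :
    glue h (comp g W₁ h1, comp g W₂ h2) = g := by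
  ext x
  obtain ⟨a, b, rfl⟩ := exists_add_of_isCompl h x
  rw [glue_apply, comp_apply, comp_apply, map_add]

/-- The stabiliser of an orthogonal decomposition is the direct product of the isometry groups
of the two parts. -/
noncomputable def prodEquiv [Add Y] {f : V → V → Y} {W₁ W₂ : Submodule F V} (h : IsCompl W₁ W₂)
    (hf : IsOrthoSum f W₁ W₂) :
    (isomF F (restr f W₁) × isomF F (restr f W₂)) ≃* isomPair f W₁ W₂ where
  toFun g := ⟨glue h (g.1, g.2), glue_mem_isomPair h hf _ g.1.2 g.2.2⟩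
  invFun g := (⟨comp (g : V ≃ₗ[F] V) W₁ g.2.2.1, fun _ _ => g.2.1 _ _⟩,
    ⟨comp (g : V ≃ₗ[F] V) W₂ g.2.2.2, fun _ _ => g.2.1 _ _⟩)
  left_inv g := by
    refine Prod.ext (Subtype.ext ?_) (Subtype.ext ?_)
    · ext x
      change glue h _ (x : V) = _
      rw [glue_left]
    · ext x
      change glue h _ (x : V) = _
      rw [glue_right]
  right_inv g := Subtype.ext (glue_comp h _ g.2.2.1 g.2.2.2)
  map_mul' a b := Subtype.ext (map_mul (glue h) ((a.1 : W₁ ≃ₗ[F] W₁), (a.2 : W₂ ≃ₗ[F] W₂))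
    ((b.1 : W₁ ≃ₗ[F] W₁), (b.2 : W₂ ≃ₗ[F] W₂)))

/-- The elements of `isomF f` fixing `W₁` pointwise. -/
def isomFix (f : V → V → Y) (W₁ : Submodule F V) : Subgroup (V ≃ₗ[F] V) where
  carrier := {g | g ∈ isomF F f ∧ ∀ x ∈ W₁, g x = x}
  mul_mem' {a b} ha hb := ⟨mul_mem ha.1 hb.1, fun x hx => by
    rw [LinearEquiv.mul_apply, hb.2 x hx, ha.2 x hx]⟩
  one_mem' := ⟨one_mem _, fun _ _ => rfl⟩
  inv_mem' {a} ha := ⟨inv_mem ha.1, fun x hx => by
    have := ha.2 x hx
    conv_lhs => rw [← this]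
    rw [← LinearEquiv.mul_apply, inv_mul_cancel]; rfl⟩

lemma mem_isomFix {f : V → V → Y} {W₁ : Submodule F V} {g : V ≃ₗ[F] V} :
    g ∈ isomFix f W₁ ↔ g ∈ isomF F f ∧ ∀ x ∈ W₁, g x = x := Iff.rfl

/-- If `W₂` is preserved by the isometries fixing `W₁` pointwise, these form a group isomorphic to
the isometry group of `W₂`. -/
noncomputable def fixEquiv [Add Y] {f : V → V → Y} {W₁ W₂ : Submodule F V} (h : IsCompl W₁ W₂)
    (hf : IsOrthoSum f W₁ W₂) (h2 : ∀ g ∈ isomFix f W₁, ∀ x ∈ W₂, g x ∈ W₂) :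
    isomF F (restr f W₂) ≃* isomFix f W₁ :=
  have h3 : ∀ g ∈ isomFix f W₁, ∀ x, x ∈ W₂ ↔ g x ∈ W₂ := fun g hg x =>
    ⟨h2 g hg x, fun hx => by
      have := h2 _ (inv_mem hg) _ hx
      rw [← LinearEquiv.mul_apply, inv_mul_cancel] at this
      exact this⟩
  { toFun := fun g => ⟨glue h (1, g), (glue_mem_isomPair h hf (1, (g : W₂ ≃ₗ[F] W₂))
        (one_mem _) g.2).1, fun x hx => by
          rw [glue_left h _ ⟨x, hx⟩]; rfl⟩
    invFun := fun g => ⟨comp (g : V ≃ₗ[F] V) W₂ (h3 _ g.2), fun _ _ => g.2.1 _ _⟩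
    left_inv := fun g => by
      refine Subtype.ext ?_
      ext x
      change glue h _ (x : V) = _
      rw [glue_right]
    right_inv := fun g => by
      refine Subtype.ext ?_
      ext x
      obtain ⟨a, b, rfl⟩ := exists_add_of_isCompl h x
      change glue h _ ((a : V) + b) = _
      rw [glue_apply, map_add, g.2.2 _ a.2]
      rfl
    map_mul' := fun a b => Subtype.ext (by
      have := map_mul (glue h) ((1 : W₁ ≃ₗ[F] W₁), (a : W₂ ≃ₗ[F] W₂)) (1, (b : W₂ ≃ₗ[F] W₂))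
      rw [Prod.mk_mul_mk, one_mul] at this
      exact this) }

/-- Orbit-stabiliser: the isometry group acts on families; if the orbit of a family spanning `W₁`
is the finite set `S` then `|isomF f| = |S| · |isomFix f W₁|`. -/
lemma card_isomF_eq {f : V → V → Y} {ι : Type*} (v : ι → V)
    (S : Set (ι → V)) (hS : ∀ w, w ∈ S ↔ ∃ g ∈ isomF F f, ∀ i, g (v i) = w i) :
    Nat.card (isomF F f) = Nat.card S * Nat.card (isomFix f (Submodule.span F (Set.range v))) := by
  have horb : MulAction.orbit (isomF F f) v = S := by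
    ext w
    rw [hS, MulAction.mem_orbit_iff]
    constructor
    · rintro ⟨g, rfl⟩
      exact ⟨g, g.2, fun i => rfl⟩
    · rintro ⟨g, hg, hgw⟩
      exact ⟨⟨g, hg⟩, funext hgw⟩
  have hstab : (MulAction.stabilizer (isomF F f) v).map (isomF F f).subtype =
      isomFix f (Submodule.span F (Set.range v)) := by
    ext g
    constructor
    · rintro ⟨g, hg, rfl⟩
      refine ⟨g.2, fun x hx => ?_⟩
      have hg' : ∀ i, (g : V ≃ₗ[F] V) (v i) = v i := fun i => congrFun hg i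
      induction hx using Submodule.span_induction with
      | mem x hx => obtain ⟨i, rfl⟩ := hx; exact hg' i
      | zero => exact map_zero _
      | add x y _ _ hx hy =>
        have : (isomF F f).subtype g (x + y) = (isomF F f).subtype g x +
          (isomF F f).subtype g y := map_add _ _ _
        rw [this, hx, hy]
      | smul a x _ hx =>
        have : (isomF F f).subtype g (a • x) = a • (isomF F f).subtype g x := map_smul _ _ _
        rw [this, hx]
    · intro hg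
      refine ⟨⟨g, hg.1⟩, ?_, rfl⟩
      exact funext fun i => hg.2 _ (Submodule.subset_span ⟨i, rfl⟩)
  have h1 := (MulAction.stabilizer (isomF F f) v).card_mul_index
  rw [MulAction.index_stabilizer, horb] at h1
  rw [← h1, mul_comm, ← hstab]
  congr 1
  exact Nat.card_congr ((MulAction.stabilizer (isomF F f) v).equivMapOfInjective _
    Subtype.val_injective).toEquiv

end CfsgLib.IsomDecomp
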