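import Cfsg.Agent.Lib.AltForm
import Cfsg.Agent.Lib.IsomDecomp

/-!
# Non-degenerate alternating forms II: hyperbolic splitting, order of the isometry group,
classification.
-/

namespace CfsgLib.AltForm

open Module CfsgLib.IsomDecomp

set_option linter.unusedSimpArgs false
set_option linter.unusedSectionVars false

variable {F V : Type*} [Field F] [AddCommGroup V] [Module F V]

lemma isom_eq_isomF (B : LinearMap.BilinForm F V) : isom B = isomF F (fun u v => B u v) := rfl

lemma linearIndependent_pair_of_eq_one {B : LinearMap.BilinForm F V} (hA : B.IsAlt) {e f : V}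
    (h : B e f = 1) : LinearIndependent F ![e, f] := by
  rw [LinearIndependent.pair_iff]
  intro s t hst
  have h1 : B e (s • e + t • f) = 0 := by rw [hst, map_zero]
  have h2 : B (s • e + t • f) f = 0 := by rw [hst, map_zero]; rfl
  simp only [map_add, map_smul, LinearMap.add_apply, LinearMap.smul_apply, smul_eq_mul,
    hA.self_eq_zero, h] at h1 h2
  constructor
  · linear_combination h2
  · linear_combination h1

lemma exists_eq_one_of_ne_zero {B : LinearMap.BilinForm F V} {e f : V} (h : B e f ≠ 0) :
    ∃ f', B e f' = 1 := ⟨(B e f)⁻¹ • f, by rw [map_smul, smul_eq_mul, inv_mul_cancel₀ h]⟩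

lemma mem_orthogonal_span_pair {B : LinearMap.BilinForm F V} {e f x : V} :
    x ∈ B.orthogonal (Submodule.span F (Set.range ![e, f])) ↔ B e x = 0 ∧ B f x = 0 := by
  rw [LinearMap.BilinForm.mem_orthogonal_iff]
  constructor
  · intro h
    exact ⟨h e (Submodule.subset_span ⟨0, rfl⟩), h f (Submodule.subset_span ⟨1, rfl⟩)⟩
  · rintro ⟨h1, h2⟩ z hz
    induction hz using Submodule.span_induction with
    | mem z hz =>
      obtain ⟨i, rfl⟩ := hz
      fin_cases i
      · exact h1
      · exact h2
    | zero => simp
    | add a b _ _ ha hb => rw [map_add, LinearMap.add_apply, ha, hb, add_zero]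
    | smul a b _ hb => rw [map_smul, LinearMap.smul_apply, hb, smul_zero]

lemma isCompl_hyperbolic {B : LinearMap.BilinForm F V} (hA : B.IsAlt) {e f : V}
    (h : B e f = 1) : IsCompl (Submodule.span F (Set.range ![e, f]))
      (B.orthogonal (Submodule.span F (Set.range ![e, f]))) := by
  have hfe : B f e = -1 := by rw [← hA.neg_eq e f, h]
  constructor
  · rw [Submodule.disjoint_def]
    intro x hx hx'
    rw [Submodule.mem_span_range_iff_exists_fun] at hx
    obtain ⟨c, rfl⟩ := hx
    rw [mem_orthogonal_span_pair] at hx'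
    simp only [Fin.sum_univ_two, Matrix.cons_val_zero, Matrix.cons_val_one, map_add, map_smul,
      hA.self_eq_zero, h, hfe, smul_eq_mul] at hx' ⊢
    have h1 : c 1 = 0 := by linear_combination hx'.1
    have h0 : c 0 = 0 := by linear_combination -hx'.2
    rw [h0, h1, zero_smul, zero_smul, add_zero]
  · rw [codisjoint_iff, eq_top_iff]
    intro x _
    have hx : x = ((B x f) • e - (B x e) • f) + (x - ((B x f) • e - (B x e) • f)) := by abel
    rw [hx]
    apply Submodule.add_mem_sup
    · exact Submodule.sub_mem _ (Submodule.smul_mem _ _ (Submodule.subset_span ⟨0, rfl⟩))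
        (Submodule.smul_mem _ _ (Submodule.subset_span ⟨1, rfl⟩))
    · rw [mem_orthogonal_span_pair]
      simp only [map_sub, map_smul, hA.self_eq_zero, h, hfe, smul_eq_mul]
      rw [← hA.neg_eq x e, ← hA.neg_eq x f]
      constructor <;> ring

lemma isOrthoSum_orthogonal {B : LinearMap.BilinForm F V} (hR : B.IsRefl) (W : Submodule F V) :
    IsOrthoSum (fun u v => B u v) W (B.orthogonal W) := by
  intro a ha b hb c hc d hd
  rw [LinearMap.BilinForm.mem_orthogonal_iff] at hb hd
  have h1 : B a d = 0 := hd a ha
  have h2 : B b c = 0 := hR c b (hb c hc)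
  simp only [map_add, LinearMap.add_apply, h1, h2]
  ring

lemma fix_preserves_orthogonal {B : LinearMap.BilinForm F V} {W : Submodule F V}
    {g : V ≃ₗ[F] V} (hg : g ∈ isomFix (fun u v => B u v) W) {x : V} (hx : x ∈ B.orthogonal W) :
    g x ∈ B.orthogonal W := by
  rw [LinearMap.BilinForm.mem_orthogonal_iff] at hx ⊢
  intro z hz
  have h1 : B (g z) (g x) = B z x := hg.1 z x
  have h2 : B z x = 0 := hx z hz
  rw [hg.2 z hz] at h1
  change B z (g x) = 0
  rw [h1, h2]

lemma restrict_nondegenerate_of_isCompl {B : LinearMap.BilinForm F V} (hB : B.Nondegenerate)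
    (hR : B.IsRefl) {W : Submodule F V} (h : IsCompl W (B.orthogonal W)) :
    (B.restrict (B.orthogonal W)).Nondegenerate := by
  have hR' : (B.restrict (B.orthogonal W)).IsRefl := fun x y hxy => hR _ _ hxy
  refine hR'.nondegenerate_iff_separatingLeft.mpr ?_
  intro x hx
  apply Subtype.ext
  apply hB.1 (x : V)
  intro v
  obtain ⟨a, b, rfl⟩ := exists_add_of_isCompl h v
  rw [map_add]
  have h1 : B x a = 0 := hR _ _ ((LinearMap.BilinForm.mem_orthogonal_iff.mp x.2) a a.2)
  have h2 : B x b = 0 := hx b
  rw [h1, h2, add_zero]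

lemma restrict_isAlt {B : LinearMap.BilinForm F V} (hA : B.IsAlt) (W : Submodule F V) :
    (B.restrict W).IsAlt := fun x => hA x

section Finite

variable [Fintype F] [FiniteDimensional F V]

omit [Fintype F] in
lemma card_eq_pow_finrank' [Finite F] : Nat.card V = Nat.card F ^ finrank F V :=
  Module.natCard_eq_pow_finrank

omit [Fintype F] in
/-- Fibres of a non-zero linear functional. -/
lemma card_fiber [Finite F] (φ : V →ₗ[F] F) (hφ : φ ≠ 0) (c : F) :
    Nat.card {v : V // φ v = c} = Nat.card F ^ (finrank F V - 1) := by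
  obtain ⟨w, hw⟩ : ∃ w, φ w ≠ 0 := by
    by_contra hcon
    push Not at hcon
    exact hφ (LinearMap.ext hcon)
  have hsurj : Function.Surjective φ := fun a => ⟨(a / φ w) • w, by
    rw [map_smul, smul_eq_mul, div_mul_cancel₀ _ hw]⟩
  obtain ⟨v₀, hv₀⟩ := hsurj c
  have hker : finrank F (LinearMap.ker φ) = finrank F V - 1 := by
    have h1 := LinearMap.finrank_range_add_finrank_ker φ
    rw [LinearMap.range_eq_top.mpr hsurj, finrank_top, finrank_self] at h1
    omega
  rw [← hker, ← Module.natCard_eq_pow_finrank]
  refine Nat.card_congr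
    { toFun := fun v => ⟨v - v₀, by rw [LinearMap.mem_ker, map_sub, v.2, hv₀, sub_self]⟩
      invFun := fun v => ⟨v + v₀, by
        have := v.2
        rw [LinearMap.mem_ker] at this
        rw [map_add, this, hv₀, zero_add]⟩
      left_inv := fun v => by simp
      right_inv := fun v => by simp }

omit [Fintype F] in
lemma card_hyperbolic_pairs [Finite F] {B : LinearMap.BilinForm F V} (hB : B.Nondegenerate) :
    Nat.card {w : Fin 2 → V | B (w 0) (w 1) = 1} =
      (Nat.card F ^ finrank F V - 1) * Nat.card F ^ (finrank F V - 1) := by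
  have hV : Finite V := Module.finite_of_finite F
  have e : {w : Fin 2 → V | B (w 0) (w 1) = 1} ≃
      Σ u : {u : V // u ≠ 0}, {v : V // B u v = 1} :=
    { toFun := fun w => ⟨⟨(w : Fin 2 → V) 0, fun h0 => by
          have h1 : B ((w : Fin 2 → V) 0) ((w : Fin 2 → V) 1) = 1 := w.2
          rw [h0, map_zero, LinearMap.zero_apply] at h1
          exact zero_ne_one h1⟩, ⟨(w : Fin 2 → V) 1, w.2⟩⟩
      invFun := fun p => ⟨![p.1, p.2], p.2.2⟩
      left_inv := fun w => by
        apply Subtype.ext
        ext i
        fin_cases i <;> rfl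
      right_inv := fun p => rfl }
  have hfin : Fintype {u : V // u ≠ 0} := Fintype.ofFinite _
  rw [Nat.card_congr e, Nat.card_sigma]
  have : ∀ u : {u : V // u ≠ 0}, Nat.card {v : V // B u v = 1} =
      Nat.card F ^ (finrank F V - 1) := by
    intro u
    refine card_fiber (B u) ?_ 1
    intro h
    exact u.2 (hB.1 (u : V) fun v => by rw [h]; rfl)
  rw [Finset.sum_congr rfl fun u _ => this u, Finset.sum_const, Finset.card_univ, smul_eq_mul]
  congr 1
  have h1 : Fintype.card {u : V // u ≠ 0} = Nat.card V - 1 := by
    classical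
    have hfV : Fintype V := Fintype.ofFinite V
    rw [Nat.card_eq_fintype_card]
    rw [Fintype.card_subtype_compl (fun u : V => u = 0), Fintype.card_subtype_eq]
  rw [h1, Module.natCard_eq_pow_finrank (K := F)]

omit [Fintype F] in
/-- The order of the isometry group of a non-degenerate alternating form in dimension `2m`. -/
theorem card_isom [Finite F] (m : ℕ) : ∀ (V : Type _) [AddCommGroup V] [Module F V]
    [FiniteDimensional F V] (B : LinearMap.BilinForm F V), B.Nondegenerate → B.IsAlt →
    finrank F V = 2 * m → Nat.card (isom B) = Nat.card F ^ (m ^ 2) *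
      ∏ i ∈ Finset.range m, (Nat.card F ^ (2 * (i + 1)) - 1) := by
  induction m with
  | zero =>
    intro V _ _ _ B _ _ hd
    have hs : Subsingleton V := finrank_zero_iff.mp hd
    have : Subsingleton (V ≃ₗ[F] V) := ⟨fun a b => LinearEquiv.ext fun x => Subsingleton.elim _ _⟩
    simp
  | succ m ih =>
    intro V _ _ _ B hB hA hd
    have hnt : Nontrivial V := nontrivial_of_finrank_pos (R := F) (by omega)
    obtain ⟨e, he⟩ := exists_ne (0 : V)
    obtain ⟨f', hf'⟩ : ∃ f', B e f' ≠ 0 := by
      by_contra hcon
      push Not at hcon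
      exact he (hB.1 e hcon)
    obtain ⟨f, hf⟩ := exists_eq_one_of_ne_zero hf'
    have hc := isCompl_hyperbolic hA hf
    have hli := linearIndependent_pair_of_eq_one hA hf
    have hd1 : finrank F (Submodule.span F (Set.range ![e, f])) = 2 := by
      rw [finrank_span_eq_card hli, Fintype.card_fin]
    have hd2 : finrank F (B.orthogonal (Submodule.span F (Set.range ![e, f]))) = 2 * m := by
      have := Submodule.finrank_add_eq_of_isCompl hc
      omega
    have h1 := card_isomF_eq (F := F) (f := fun u v => B u v) ![e, f]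
      {w : Fin 2 → V | B (w 0) (w 1) = 1} (by
        intro w
        constructor
        · intro hw
          have hw' : B (w 0) (w 1) = 1 := hw
          have hwe : w = ![w 0, w 1] := by ext i; fin_cases i <;> rfl
          obtain ⟨g, hg, hgv⟩ := exists_transv_family hB hA ![e, f] w hli
            (by rw [hwe]; exact linearIndependent_pair_of_eq_one hA hw') (by
              intro i j
              fin_cases i <;> fin_cases j
              · simp [hA.self_eq_zero]
              · simp [hf, hw']
              · simp only [Fin.mk_one, Fin.zero_eta, Matrix.cons_val_one, Matrix.cons_val_zero]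
                rw [← hA.neg_eq e f, ← hA.neg_eq (w 0) (w 1), hf, hw']
              · simp [hA.self_eq_zero])
          exact ⟨g, transvGroup_le_isom B hA hg, hgv⟩
        · rintro ⟨g, hg, hgv⟩
          change B (w 0) (w 1) = 1
          rw [← hgv 0, ← hgv 1, ← hf]
          exact hg _ _)
    have h2 : Nat.card (isomFix (fun u v => B u v) (Submodule.span F (Set.range ![e, f]))) =
        Nat.card (isom (B.restrict (B.orthogonal (Submodule.span F (Set.range ![e, f]))))) :=
      (Nat.card_congr (fixEquiv hc (isOrthoSum_orthogonal hA.isRefl _)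
        (fun g hg x hx => fix_preserves_orthogonal hg hx)).toEquiv).symm
    rw [isom_eq_isomF, h1, h2, ih _ _ (restrict_nondegenerate_of_isCompl hB hA.isRefl hc)
      (restrict_isAlt hA _) hd2, card_hyperbolic_pairs hB, hd, Finset.prod_range_succ]
    have hp : Nat.card F ^ ((m + 1) ^ 2) = Nat.card F ^ (m ^ 2) * Nat.card F ^ (2 * m + 1) := by
      rw [← pow_add]
      congr 1
      ring
    rw [hp, show 2 * (m + 1) - 1 = 2 * m + 1 by omega]
    ring

end Finite

end CfsgLib.AltForm
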