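import Cfsg.Agent.Lib.AltForm2

/-!
# Non-degenerate alternating forms III: classification, primitivity on points, perfectness,
simplicity.
-/

namespace CfsgLib.AltForm

open Module CfsgLib.IsomDecomp
open scoped LinearAlgebra.Projectivization commutatorElement Pointwise

set_option linter.unusedSimpArgs false
set_option linter.unusedSectionVars false

variable {F V : Type*} [Field F] [AddCommGroup V] [Module F V]

/-- Classification of alternating forms, with arbitrary finite index types. -/
theorem exists_symplectic_basis_aux (n : ℕ) : ∀ (V : Type _) [AddCommGroup V] [Module F V]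
    [FiniteDimensional F V] (B : LinearMap.BilinForm F V), B.IsAlt → finrank F V = n →
    ∃ (α κ : Type) (_ : Fintype α) (_ : DecidableEq α) (_ : Fintype κ)
      (b : Module.Basis ((α ⊕ α) ⊕ κ) F V),
      (∀ i j, B (b (Sum.inl (Sum.inl i))) (b (Sum.inl (Sum.inr j))) = if i = j then 1 else 0) ∧
      (∀ i j, B (b (Sum.inl (Sum.inl i))) (b (Sum.inl (Sum.inl j))) = 0) ∧
      (∀ i j, B (b (Sum.inl (Sum.inr i))) (b (Sum.inl (Sum.inr j))) = 0) ∧
      (∀ j v, B (b (Sum.inr j)) v = 0) := by
  induction n using Nat.strong_induction_on with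
  | _ n ih =>
    intro V _ _ _ B hA hn
    by_cases h0 : ∀ u v, B u v = 0
    · let b := (Module.finBasis F V).reindex (Equiv.emptySum (Empty ⊕ Empty) _).symm
      exact ⟨Empty, Fin (finrank F V), inferInstance, inferInstance, inferInstance, b,
        fun i => i.elim, fun i => i.elim, fun i => i.elim, fun j v => h0 _ _⟩
    · push Not at h0
      obtain ⟨e, f', hf'⟩ := h0
      obtain ⟨f, hf⟩ := exists_eq_one_of_ne_zero hf'
      have hc := isCompl_hyperbolic hA hf
      have hli := linearIndependent_pair_of_eq_one hA hf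
      have hd1 : finrank F (Submodule.span F (Set.range ![e, f])) = 2 := by
        rw [finrank_span_eq_card hli, Fintype.card_fin]
      have hd2 := Submodule.finrank_add_eq_of_isCompl hc
      set W := B.orthogonal (Submodule.span F (Set.range ![e, f])) with hW
      obtain ⟨α, κ, _, _, _, b, h1, h2, h3, h4⟩ := ih (finrank F W) (by omega) W (B.restrict W)
        (restrict_isAlt hA W) rfl
      have hbe : ∀ i, B e (b i) = 0 := fun i => (mem_orthogonal_span_pair.mp (b i).2).1
      have hbf : ∀ i, B f (b i) = 0 := fun i => (mem_orthogonal_span_pair.mp (b i).2).2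
      have hbe' : ∀ i, B (b i) e = 0 := fun i => hA.isRefl _ _ (hbe i)
      have hbf' : ∀ i, B (b i) f = 0 := fun i => hA.isRefl _ _ (hbf i)
      let c : (Option α ⊕ Option α) ⊕ κ → V := fun x =>
        match x with
        | Sum.inl (Sum.inl none) => e
        | Sum.inl (Sum.inr none) => f
        | Sum.inl (Sum.inl (some i)) => b (Sum.inl (Sum.inl i))
        | Sum.inl (Sum.inr (some i)) => b (Sum.inl (Sum.inr i))
        | Sum.inr j => b (Sum.inr j)
      have hspan : ⊤ ≤ Submodule.span F (Set.range c) := by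
        intro x _
        obtain ⟨a, w, rfl⟩ := exists_add_of_isCompl hc x
        apply Submodule.add_mem
        · have : Submodule.span F (Set.range ![e, f]) ≤ Submodule.span F (Set.range c) := by
            rw [Submodule.span_le]
            rintro _ ⟨i, rfl⟩
            fin_cases i
            · exact Submodule.subset_span ⟨Sum.inl (Sum.inl none), rfl⟩
            · exact Submodule.subset_span ⟨Sum.inl (Sum.inr none), rfl⟩
          exact this a.2
        · have h5 : w ∈ Submodule.span F (Set.range b) := by rw [b.span_eq]; trivial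
          have h6 : (w : V) ∈ (Submodule.span F (Set.range b)).map W.subtype := ⟨w, h5, rfl⟩
          rw [Submodule.map_span, ← Set.range_comp] at h6
          refine Submodule.span_mono ?_ h6
          rintro _ ⟨i, rfl⟩
          rcases i with (i | i) | i
          · exact ⟨Sum.inl (Sum.inl (some i)), rfl⟩
          · exact ⟨Sum.inl (Sum.inr (some i)), rfl⟩
          · exact ⟨Sum.inr i, rfl⟩
      have hcard : Fintype.card ((Option α ⊕ Option α) ⊕ κ) = finrank F V := by
        have h7 := Module.finrank_eq_card_basis b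
        simp only [Fintype.card_sum, Fintype.card_option] at h7 ⊢
        omega
      let b' := basisOfTopLeSpanOfCardEqFinrank c hspan hcard
      have hb' : ∀ i, b' i = c i := fun i => by simp [b']
      refine ⟨Option α, κ, inferInstance, inferInstance, inferInstance, b', ?_, ?_, ?_, ?_⟩
      · intro i j
        rw [hb', hb']
        rcases i with _ | i <;> rcases j with _ | j
        · simpa [c] using hf
        · simpa [c] using hbe _
        · simpa [c] using hbf' _
        · simpa [c] using h1 i j
      · intro i j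
        rw [hb', hb']
        rcases i with _ | i <;> rcases j with _ | j
        · simpa [c] using hA.self_eq_zero e
        · simpa [c] using hbe _
        · simpa [c] using hbe' _
        · simpa [c] using h2 i j
      · intro i j
        rw [hb', hb']
        rcases i with _ | i <;> rcases j with _ | j
        · simpa [c] using hA.self_eq_zero f
        · simpa [c] using hbf _
        · simpa [c] using hbf' _
        · simpa [c] using h3 i j
      · intro j v
        rw [hb']
        obtain ⟨a, w, rfl⟩ := exists_add_of_isCompl hc v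
        rw [map_add]
        have h8 : B (c (Sum.inr j)) a = 0 := by
          refine hA.isRefl _ _ ?_
          exact (LinearMap.BilinForm.mem_orthogonal_iff.mp (b (Sum.inr j)).2) a a.2
        have h9 : B (c (Sum.inr j)) w = 0 := h4 j w
        rw [h8, h9, add_zero]

/-- Classification of alternating forms. -/
theorem exists_symplectic_basis [FiniteDimensional F V] (B : LinearMap.BilinForm F V)
    (hA : B.IsAlt) :
    ∃ (m k : ℕ) (b : Module.Basis ((Fin m ⊕ Fin m) ⊕ Fin k) F V),
      (∀ i j, B (b (Sum.inl (Sum.inl i))) (b (Sum.inl (Sum.inr j))) = if i = j then 1 else 0) ∧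
      (∀ i j, B (b (Sum.inl (Sum.inl i))) (b (Sum.inl (Sum.inl j))) = 0) ∧
      (∀ i j, B (b (Sum.inl (Sum.inr i))) (b (Sum.inl (Sum.inr j))) = 0) ∧
      (∀ j v, B (b (Sum.inr j)) v = 0) := by
  obtain ⟨α, κ, _, _, _, b, h1, h2, h3, h4⟩ := exists_symplectic_basis_aux _ V B hA rfl
  let eα := Fintype.equivFin α
  let eκ := Fintype.equivFin κ
  refine ⟨Fintype.card α, Fintype.card κ, b.reindex ((eα.sumCongr eα).sumCongr eκ), ?_, ?_, ?_, ?_⟩
  · intro i j
    simp only [Module.Basis.reindex_apply, Equiv.sumCongr_symm, Equiv.sumCongr_apply, Sum.map_inl,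
      Sum.map_inr, h1, EmbeddingLike.apply_eq_iff_eq]
  · intro i j
    simp only [Module.Basis.reindex_apply, Equiv.sumCongr_symm, Equiv.sumCongr_apply, Sum.map_inl,
      Sum.map_inr, h2]
  · intro i j
    simp only [Module.Basis.reindex_apply, Equiv.sumCongr_symm, Equiv.sumCongr_apply, Sum.map_inl,
      Sum.map_inr, h3]
  · intro j v
    simp only [Module.Basis.reindex_apply, Equiv.sumCongr_symm, Equiv.sumCongr_apply, Sum.map_inl,
      Sum.map_inr, h4]

/-! ### Conjugation of transvections -/

lemma conj_transv {B : LinearMap.BilinForm F V} (hA : B.IsAlt) {g : V ≃ₗ[F] V} (hg : g ∈ isom B)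
    (v : V) (c : F) : g * transv B hA v c * g⁻¹ = transv B hA (g v) c := by
  ext x
  rw [LinearEquiv.mul_apply, LinearEquiv.mul_apply, transv_apply, transv_apply, map_add, map_smul]
  have h1 : g (g⁻¹ x) = x := by rw [← LinearEquiv.mul_apply, mul_inv_cancel]; rfl
  have h2 : B (g⁻¹ x) v = B x (g v) := by
    have := hg (g⁻¹ x) v
    rw [h1] at this
    exact this.symm
  rw [h1, h2]

lemma transv_smul {B : LinearMap.BilinForm F V} (hA : B.IsAlt) (v : V) (a c : F) :
    transv B hA (a • v) c = transv B hA v (a ^ 2 * c) := by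
  ext x
  rw [transv_apply, transv_apply, map_smul, smul_smul, smul_eq_mul]
  congr 2
  ring

lemma transv_add {B : LinearMap.BilinForm F V} (hA : B.IsAlt) (v : V) (c d : F) :
    transv B hA v (c + d) = transv B hA v c * transv B hA v d := by
  ext x
  rw [LinearEquiv.mul_apply, transv_apply, transv_apply, transv_apply, map_add, map_smul,
    LinearMap.add_apply, LinearMap.smul_apply, hA.self_eq_zero v]
  simp only [smul_eq_mul, mul_zero, add_zero, add_mul, add_smul]
  abel

lemma transv_zero {B : LinearMap.BilinForm F V} (hA : B.IsAlt) (v : V) :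
    transv B hA v 0 = 1 := by
  ext x
  rw [transv_apply, zero_mul, zero_smul, add_zero]
  rfl

lemma transv_zero' {B : LinearMap.BilinForm F V} (hA : B.IsAlt) (c : F) :
    transv B hA 0 c = 1 := by
  ext x
  rw [transv_apply, smul_zero, add_zero]
  rfl

lemma transv_inv {B : LinearMap.BilinForm F V} (hA : B.IsAlt) (v : V) (c : F) :
    (transv B hA v c)⁻¹ = transv B hA v (-c) := by
  rw [inv_eq_iff_mul_eq_one, ← transv_add, add_neg_cancel, transv_zero]

/-- The double transvection `S_{u,v}(c) : x ↦ x + c (B(x,u) v + B(x,v) u)`, for `u ⊥ v`. -/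
noncomputable def dtransv (B : LinearMap.BilinForm F V) (hA : B.IsAlt) (u v : V) (c : F) :
    V ≃ₗ[F] V := transv B hA (u + v) c * transv B hA u (-c) * transv B hA v (-c)

lemma dtransv_apply {B : LinearMap.BilinForm F V} (hA : B.IsAlt) {u v : V} (h : B u v = 0)
    (c : F) (x : V) :
    dtransv B hA u v c x = x + (c * B x u) • v + (c * B x v) • u := by
  have h' : B v u = 0 := hA.isRefl _ _ h
  rw [dtransv, LinearEquiv.mul_apply, LinearEquiv.mul_apply]
  simp only [transv_apply, map_add, map_smul, LinearMap.add_apply, LinearMap.smul_apply,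
    hA.self_eq_zero, h, h', smul_eq_mul, mul_zero, add_zero, smul_add]
  module

lemma dtransv_mem_isom {B : LinearMap.BilinForm F V} (hA : B.IsAlt) (u v : V) (c : F) :
    dtransv B hA u v c ∈ isom B :=
  mul_mem (mul_mem (transv_mem_isom _ _ _ _) (transv_mem_isom _ _ _ _)) (transv_mem_isom _ _ _ _)

lemma conj_dtransv {B : LinearMap.BilinForm F V} (hA : B.IsAlt) {g : V ≃ₗ[F] V} (hg : g ∈ isom B)
    (u v : V) (c : F) : g * dtransv B hA u v c * g⁻¹ = dtransv B hA (g u) (g v) c := by
  rw [dtransv, dtransv, ← map_add, ← conj_transv hA hg, ← conj_transv hA hg, ← conj_transv hA hg]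
  group

lemma dtransv_smul {B : LinearMap.BilinForm F V} (hA : B.IsAlt) {u v : V} (h : B u v = 0)
    (a c : F) : dtransv B hA (a • u) v c = dtransv B hA u v (a * c) := by
  ext x
  rw [dtransv_apply hA (by rw [map_smul, LinearMap.smul_apply, h, smul_zero]), dtransv_apply hA h]
  simp only [map_smul, smul_eq_mul]
  module

lemma dtransv_add {B : LinearMap.BilinForm F V} (hA : B.IsAlt) {u v : V} (h : B u v = 0)
    (c d : F) : dtransv B hA u v (c + d) = dtransv B hA u v c * dtransv B hA u v d := by
  have h' : B v u = 0 := hA.isRefl _ _ h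
  ext x
  rw [LinearEquiv.mul_apply]
  simp only [dtransv_apply hA h, map_add, map_smul, LinearMap.add_apply, LinearMap.smul_apply,
    hA.self_eq_zero, h, h', smul_eq_mul, mul_zero, add_zero]
  module

lemma dtransv_add_right {B : LinearMap.BilinForm F V} (hA : B.IsAlt) {u v w : V} (h : B u v = 0)
    (h2 : B u w = 0) (h3 : B v w = 0)
    (c : F) : dtransv B hA u (v + w) c = dtransv B hA u v c * dtransv B hA u w c := by
  have h' : B v u = 0 := hA.isRefl _ _ h
  have h2' : B w u = 0 := hA.isRefl _ _ h2
  have h3' : B w v = 0 := hA.isRefl _ _ h3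
  ext x
  rw [LinearEquiv.mul_apply]
  rw [dtransv_apply hA (by rw [map_add, h, h2, add_zero]), dtransv_apply hA h, dtransv_apply hA h2]
  simp only [map_add, map_smul, LinearMap.add_apply, LinearMap.smul_apply,
    hA.self_eq_zero, h, h', h2, h2', h3, h3', smul_eq_mul, mul_zero, add_zero, mul_add, add_smul]
  module

lemma transv_add_vec {B : LinearMap.BilinForm F V} (hA : B.IsAlt) (u v : V) (c : F) :
    transv B hA (u + v) c = dtransv B hA u v c * transv B hA v c * transv B hA u c := by
  rw [dtransv, ← transv_inv, ← transv_inv]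
  group

variable [FiniteDimensional F V]

/-- Any non-zero vector can be moved to any other. -/
lemma exists_isom_vec {B : LinearMap.BilinForm F V} (hB : B.Nondegenerate) (hA : B.IsAlt)
    {u v : V} (hu : u ≠ 0) (hv : v ≠ 0) : ∃ g ∈ isom B, g u = v := by
  obtain ⟨g, hg, hgv⟩ := exists_transv_family hB hA (n := 1) (fun _ => u) (fun _ => v)
    (LinearIndependent.of_subsingleton (R := F) 0 hu)
    (LinearIndependent.of_subsingleton (R := F) 0 hv)
    (fun i j => by rw [hA.self_eq_zero, hA.self_eq_zero])
  exact ⟨g, transvGroup_le_isom B hA hg, hgv 0⟩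

lemma exists_isom_pair {B : LinearMap.BilinForm F V} (hB : B.Nondegenerate) (hA : B.IsAlt)
    {u v u' v' : V} (h : LinearIndependent F ![u, v]) (h' : LinearIndependent F ![u', v'])
    (heq : B u v = B u' v') : ∃ g ∈ isom B, g u = u' ∧ g v = v' := by
  obtain ⟨g, hg, hgv⟩ := exists_transv_family hB hA ![u, v] ![u', v'] h h' (by
      intro i j
      fin_cases i <;> fin_cases j
      · simp [hA.self_eq_zero]
      · simp [heq]
      · simp only [Fin.mk_one, Fin.zero_eta, Matrix.cons_val_one, Matrix.cons_val_zero]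
        rw [← hA.neg_eq u v, ← hA.neg_eq u' v', heq]
      · simp [hA.self_eq_zero])
  exact ⟨g, transvGroup_le_isom B hA hg, hgv 0, hgv 1⟩

/-! ### Perfectness -/

/-- The images of all non-trivial transvections with a given scalar in the abelianisation of the
isometry group agree. -/
lemma isom_conj_mem {B : LinearMap.BilinForm F V} {N : Subgroup (V ≃ₗ[F] V)}
    (hN : ⁅isom B, isom B⁆ ≤ N) {g h : V ≃ₗ[F] V} (hg : g ∈ isom B) (hh : h ∈ isom B) :
    h ∈ N ↔ g * h * g⁻¹ ∈ N := by
  have h1 : ⁅g, h⁆ ∈ N := hN (Subgroup.commutator_mem_commutator hg hh)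
  have h2 : g * h * g⁻¹ = ⁅g, h⁆ * h := by rw [commutatorElement_def]; group
  rw [h2]
  exact (Subgroup.mul_mem_cancel_left N h1).symm

/-- All transvections lie in the commutator subgroup. -/
theorem transv_mem_commutator {B : LinearMap.BilinForm F V} (hB : B.Nondegenerate) (hA : B.IsAlt)
    (h : (∃ a : F, a ≠ 0 ∧ a ^ 2 ≠ 1) ∨ (4 ≤ finrank F V ∧ ∃ a : F, a ≠ 0 ∧ a ≠ 1) ∨
      6 ≤ finrank F V) (v : V) (c : F) : transv B hA v c ∈ ⁅isom B, isom B⁆ := by
  by_cases hv : v = 0
  · rw [hv, transv_zero']; exact one_mem _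
  by_cases h0 : ∃ a : F, a ≠ 0 ∧ a ^ 2 ≠ 1
  · obtain ⟨a, ha, ha2⟩ := h0
    have ha2' : a ^ 2 - 1 ≠ 0 := sub_ne_zero.mpr ha2
    obtain ⟨g, hg, hgv⟩ := exists_isom_vec hB hA hv (smul_ne_zero ha hv)
    have h1 : ⁅g, transv B hA v (c / (a ^ 2 - 1))⁆ = transv B hA v c := by
      rw [commutatorElement_def, conj_transv hA hg, hgv, transv_inv, transv_smul, ← transv_add]
      congr 1
      field_simp
      ring
    rw [← h1]
    exact Subgroup.commutator_mem_commutator hg (transv_mem_isom _ _ _ _)
  -- enough to treat double transvections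
  suffices hS : ∃ u w : V, LinearIndependent F ![u, w] ∧ B u w = 0 ∧
      dtransv B hA u w c ∈ ⁅isom B, isom B⁆ by
    obtain ⟨u, w, hli, huw, hmem⟩ := hS
    have hu : u ≠ 0 := hli.ne_zero 0
    have hw : w ≠ 0 := hli.ne_zero 1
    have hsum : u + w ≠ 0 := by
      intro h
      rw [LinearIndependent.pair_iff] at hli
      have := hli 1 1 (by rw [one_smul, one_smul, h])
      exact one_ne_zero this.1
    have hN : ⁅isom B, isom B⁆ ≤ ⁅isom B, isom B⁆ := le_rfl
    obtain ⟨g₁, hg₁, hgv₁⟩ := exists_isom_vec hB hA hv hu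
    obtain ⟨g₂, hg₂, hgv₂⟩ := exists_isom_vec hB hA hv hw
    obtain ⟨g₃, hg₃, hgv₃⟩ := exists_isom_vec hB hA hv hsum
    have key := transv_add_vec hA u w c
    -- [g₃,T] T = S [g₂,T] T [g₁,T] T
    set T := transv B hA v c with hT
    have hTm : T ∈ isom B := transv_mem_isom _ _ _ _
    have e₁ : transv B hA u c = ⁅g₁, T⁆ * T := by
      rw [commutatorElement_def, hT, conj_transv hA hg₁, hgv₁]; group
    have e₂ : transv B hA w c = ⁅g₂, T⁆ * T := by
      rw [commutatorElement_def, hT, conj_transv hA hg₂, hgv₂]; group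
    have e₃ : transv B hA (u + w) c = ⁅g₃, T⁆ * T := by
      rw [commutatorElement_def, hT, conj_transv hA hg₃, hgv₃]; group
    rw [e₁, e₂, e₃] at key
    have c₁ := Subgroup.commutator_mem_commutator hg₁ hTm
    have c₂ := Subgroup.commutator_mem_commutator hg₂ hTm
    have c₃ := Subgroup.commutator_mem_commutator hg₃ hTm
    have key2 : T * ⁅g₁, T⁆ * T⁻¹ * T = (dtransv B hA u w c * ⁅g₂, T⁆)⁻¹ * ⁅g₃, T⁆ := by
      have : ⁅g₃, T⁆ = dtransv B hA u w c * ⁅g₂, T⁆ * (T * ⁅g₁, T⁆) := by
        have := congrArg (· * T⁻¹) key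
        simpa [mul_assoc] using this
      rw [this]
      group
    have c₄ : T * ⁅g₁, T⁆ * T⁻¹ ∈ ⁅isom B, isom B⁆ :=
      (isom_conj_mem hN hTm (by
        exact mul_mem (mul_mem (mul_mem hg₁ hTm) (inv_mem hg₁)) (inv_mem hTm))).mp c₁
    have c₅ : T * ⁅g₁, T⁆ * T⁻¹ * T ∈ ⁅isom B, isom B⁆ := by
      rw [key2]
      exact mul_mem (inv_mem (mul_mem hmem c₂)) c₃
    exact (Subgroup.mul_mem_cancel_left _ c₄).mp c₅
  rcases h with h | ⟨h4, a, ha0, ha1⟩ | h6
  · exact absurd h h0
  · -- dimension at least four, `a ≠ 0, 1`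
    obtain ⟨u, hu⟩ : ∃ u : V, u ≠ 0 := by
      have : Nontrivial V := nontrivial_of_finrank_pos (R := F) (by omega)
      exact exists_ne 0
    -- w in u^⊥ not in ⟨u⟩
    obtain ⟨w, hwu, hw⟩ : ∃ w ∈ B.orthogonal (F ∙ u), w ∉ F ∙ u := by
      by_contra hcon
      push Not at hcon
      have h1 := LinearMap.BilinForm.finrank_orthogonal hB (F ∙ u)
      have h2 := Submodule.finrank_mono (show B.orthogonal (F ∙ u) ≤ F ∙ u from hcon)
      have h3 := finrank_span_singleton (K := F) hu
      omega
    have huw : B u w = 0 := LinearMap.BilinForm.mem_orthogonal_iff.mp hwu u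
      (Submodule.mem_span_singleton_self u)
    have hli : LinearIndependent F ![u, w] := by
      rw [LinearIndependent.pair_iff' hu]
      intro a ha
      exact hw (Submodule.mem_span_singleton.mpr ⟨a, ha⟩)
    have hli' : LinearIndependent F ![a • u, w] := by
      rw [LinearIndependent.pair_iff' (smul_ne_zero ha0 hu)]
      intro b hb
      exact hw (Submodule.mem_span_singleton.mpr ⟨b * a, by rw [mul_smul, hb]⟩)
    refine ⟨u, w, hli, huw, ?_⟩
    obtain ⟨g, hg, hgu, hgw⟩ := exists_isom_pair hB hA hli hli' (by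
      rw [map_smul, LinearMap.smul_apply, huw, smul_zero])
    have h1 : ⁅g, dtransv B hA u w (c / (a - 1))⁆ = dtransv B hA u w c := by
      have ha1' : a - 1 ≠ 0 := sub_ne_zero.mpr ha1
      rw [commutatorElement_def, conj_dtransv hA hg, hgu, hgw, dtransv_smul hA huw]
      rw [mul_inv_eq_iff_eq_mul, ← dtransv_add hA huw]
      congr 1
      field_simp
      ring
    rw [← h1]
    exact Subgroup.commutator_mem_commutator hg (dtransv_mem_isom _ _ _ _)
  · -- dimension at least six
    obtain ⟨u, hu⟩ : ∃ u : V, u ≠ 0 := by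
      have : Nontrivial V := nontrivial_of_finrank_pos (R := F) (by omega)
      exact exists_ne 0
    obtain ⟨w, hwu, hw⟩ : ∃ w ∈ B.orthogonal (F ∙ u), w ∉ F ∙ u := by
      by_contra hcon
      push Not at hcon
      have h1 := LinearMap.BilinForm.finrank_orthogonal hB (F ∙ u)
      have h2 := Submodule.finrank_mono (show B.orthogonal (F ∙ u) ≤ F ∙ u from hcon)
      have h3 := finrank_span_singleton (K := F) hu
      omega
    have huw : B u w = 0 := LinearMap.BilinForm.mem_orthogonal_iff.mp hwu u
      (Submodule.mem_span_singleton_self u)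
    have hli : LinearIndependent F ![u, w] := by
      rw [LinearIndependent.pair_iff' hu]
      intro a ha
      exact hw (Submodule.mem_span_singleton.mpr ⟨a, ha⟩)
    obtain ⟨z, hzu, hz⟩ : ∃ z ∈ B.orthogonal (Submodule.span F (Set.range ![u, w])),
        z ∉ Submodule.span F (Set.range ![u, w]) := by
      by_contra hcon
      push Not at hcon
      have h1 := LinearMap.BilinForm.finrank_orthogonal hB (Submodule.span F (Set.range ![u, w]))
      have h2 := Submodule.finrank_mono (show B.orthogonal (Submodule.span F (Set.range ![u, w])) ≤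
        Submodule.span F (Set.range ![u, w]) from hcon)
      have h3 := finrank_span_eq_card hli
      rw [Fintype.card_fin] at h3
      omega
    rw [mem_orthogonal_span_pair] at hzu
    refine ⟨u, w, hli, huw, ?_⟩
    have hz1 : z ∉ F ∙ u := fun hzz => hz (by
      have : F ∙ u ≤ Submodule.span F (Set.range ![u, w]) := by
        rw [Submodule.span_singleton_le_iff_mem]
        exact Submodule.subset_span ⟨0, rfl⟩
      exact this hzz)
    have hwz1 : w + z ∉ F ∙ u := fun hzz => hz (by
      have h1 : F ∙ u ≤ Submodule.span F (Set.range ![u, w]) := by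
        rw [Submodule.span_singleton_le_iff_mem]
        exact Submodule.subset_span ⟨0, rfl⟩
      have h2 := Submodule.sub_mem _ (h1 hzz) (Submodule.subset_span ⟨1, rfl⟩ :
        w ∈ Submodule.span F (Set.range ![u, w]))
      simpa using h2)
    have hliz : LinearIndependent F ![u, z] := by
      rw [LinearIndependent.pair_iff' hu]
      intro a ha
      exact hz1 (Submodule.mem_span_singleton.mpr ⟨a, ha⟩)
    have hliwz : LinearIndependent F ![u, w + z] := by
      rw [LinearIndependent.pair_iff' hu]
      intro a ha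
      exact hwz1 (Submodule.mem_span_singleton.mpr ⟨a, ha⟩)
    obtain ⟨g₁, hg₁, h1u, h1w⟩ := exists_isom_pair hB hA hli hliz (by rw [huw, hzu.1])
    obtain ⟨g₂, hg₂, h2u, h2w⟩ := exists_isom_pair hB hA hli hliwz (by
      rw [huw, map_add, huw, hzu.1, add_zero])
    have key := dtransv_add_right hA huw hzu.1 hzu.2 c
    set S := dtransv B hA u w c with hS
    have hSm : S ∈ isom B := dtransv_mem_isom _ _ _ _
    have e₁ : dtransv B hA u z c = ⁅g₁, S⁆ * S := by
      rw [commutatorElement_def, hS, conj_dtransv hA hg₁, h1u, h1w]; group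
    have e₂ : dtransv B hA u (w + z) c = ⁅g₂, S⁆ * S := by
      rw [commutatorElement_def, hS, conj_dtransv hA hg₂, h2u, h2w]; group
    rw [e₁, e₂] at key
    have key2 : S = (S * ⁅g₁, S⁆ * S⁻¹)⁻¹ * ⁅g₂, S⁆ := by
      have h3 : ⁅g₂, S⁆ = S * ⁅g₁, S⁆ := by
        have := congrArg (· * S⁻¹) key
        simpa [mul_assoc] using this
      rw [h3]
      group
    rw [key2]
    have c₁ := Subgroup.commutator_mem_commutator hg₁ hSm
    refine mul_mem (inv_mem ?_) (Subgroup.commutator_mem_commutator hg₂ hSm)
    exact (isom_conj_mem le_rfl hSm (by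
        exact mul_mem (mul_mem (mul_mem hg₁ hSm) (inv_mem hg₁)) (inv_mem hSm))).mp c₁

/-- The isometry group of a non-degenerate alternating form is perfect (with known exceptions). -/
theorem commutator_isom_eq_top {B : LinearMap.BilinForm F V} (hB : B.Nondegenerate) (hA : B.IsAlt)
    (h : (∃ a : F, a ≠ 0 ∧ a ^ 2 ≠ 1) ∨ (4 ≤ finrank F V ∧ ∃ a : F, a ≠ 0 ∧ a ≠ 1) ∨
      6 ≤ finrank F V) : commutator (isom B) = ⊤ := by
  have h1 : ⁅isom B, isom B⁆ = isom B := by
    apply le_antisymm
    · rw [Subgroup.commutator_le]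
      intro a ha b hb
      exact mul_mem (mul_mem (mul_mem ha hb) (inv_mem ha)) (inv_mem hb)
    · rw [← transvGroup_eq_isom hB hA, transvGroup, Subgroup.closure_le,
        ← transvGroup, transvGroup_eq_isom hB hA]
      rintro g ⟨w, c, rfl⟩
      exact transv_mem_commutator hB hA h w c
  apply Subgroup.map_injective (isom B).subtype_injective
  rw [commutator_def, Subgroup.map_commutator, ← MonoidHom.range_eq_map, Subgroup.range_subtype, h1]

end CfsgLib.AltForm
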