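import Cfsg.Agent.Lib.AltForm3
import Cfsg.Agent.Lib.Linear

/-!
# Non-degenerate alternating forms IV: primitivity, centre, simplicity.
-/

namespace CfsgLib.AltForm

open Module CfsgLib.IsomDecomp
open scoped LinearAlgebra.Projectivization commutatorElement Pointwise

set_option linter.unusedSimpArgs false
set_option linter.unusedSectionVars false

/-- A version of Iwasawa's criterion for the quotient by the centre. -/
theorem isSimpleGroup_quotient_center {G α : Type*} [Group G] [MulAction G α]
    [MulAction.IsQuasiPreprimitive G α] (I : MulAction.IwasawaStructure G α)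
    (hperf : commutator G = ⊤) (hker : (MulAction.toPermHom G α).ker ≤ Subgroup.center G)
    (hnt : Subgroup.center G ≠ ⊤) : IsSimpleGroup (G ⧸ Subgroup.center G) := by
  have : Nontrivial (G ⧸ Subgroup.center G) := QuotientGroup.nontrivial_iff.mpr hnt
  refine ⟨fun N hN => ?_⟩
  set M := N.comap (QuotientGroup.mk' (Subgroup.center G)) with hM
  have hMN : M.Normal := hN.comap _
  by_cases h : MulAction.fixedPoints M α = Set.univ
  · left
    have h1 : M ≤ Subgroup.center G := by
      intro g hg
      apply hker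
      rw [MonoidHom.mem_ker]
      ext x
      have hx : x ∈ MulAction.fixedPoints M α := by rw [h]; trivial
      exact hx ⟨g, hg⟩
    rw [eq_bot_iff]
    intro x hx
    obtain ⟨g, rfl⟩ := QuotientGroup.mk'_surjective _ x
    have : g ∈ M := hx
    rw [Subgroup.mem_bot, QuotientGroup.mk'_apply, QuotientGroup.eq_one_iff]
    exact h1 this
  · right
    have h1 := I.commutator_le M h
    rw [hperf] at h1
    rw [eq_top_iff]
    intro x _
    obtain ⟨g, rfl⟩ := QuotientGroup.mk'_surjective _ x
    exact h1 (Subgroup.mem_top g)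

variable {F V : Type*} [Field F] [AddCommGroup V] [Module F V]

lemma smul_def' {B : LinearMap.BilinForm F V} (g : isom B) (v : V) :
    g • v = (g : V ≃ₗ[F] V) v := rfl

lemma smul_mk' {B : LinearMap.BilinForm F V} (g : isom B) {v : V} (hv : v ≠ 0) :
    g • Projectivization.mk F v hv = Projectivization.mk F ((g : V ≃ₗ[F] V) v)
      ((LinearEquiv.map_ne_zero_iff _).mpr hv) := rfl

section

variable [FiniteDimensional F V]

theorem isPretransitive_points {B : LinearMap.BilinForm F V} (hB : B.Nondegenerate)
    (hA : B.IsAlt) : MulAction.IsPretransitive (isom B) (ℙ F V) := by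
  refine ⟨fun x y => ?_⟩
  induction x using Projectivization.ind with | _ u hu => ?_
  induction y using Projectivization.ind with | _ v hv => ?_
  obtain ⟨g, hg, hgv⟩ := exists_isom_vec hB hA hu hv
  refine ⟨⟨g, hg⟩, ?_⟩
  rw [smul_mk', Projectivization.mk_eq_mk_iff']
  exact ⟨1, by rw [one_smul]; exact hgv.symm⟩

lemma mk_ne_mk_iff {v w : V} (hv : v ≠ 0) (hw : w ≠ 0) :
    Projectivization.mk F v hv ≠ Projectivization.mk F w hw ↔
      LinearIndependent F ![v, w] := by
  rw [LinearIndependent.pair_iff' hv, Ne, Projectivization.mk_eq_mk_iff']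
  push Not
  constructor
  · intro h a ha
    exact h a⁻¹ (by
      have ha0 : a ≠ 0 := by
        rintro rfl
        rw [zero_smul] at ha
        exact hw ha.symm
      rw [← ha, smul_smul, inv_mul_cancel₀ ha0, one_smul])
  · intro h a ha
    have ha0 : a ≠ 0 := by
      rintro rfl
      rw [zero_smul] at ha
      exact hv ha.symm
    exact h a⁻¹ (by rw [← ha, smul_smul, inv_mul_cancel₀ ha0, one_smul])

/-- The isometry group is primitive on the points of projective space. -/
theorem isPreprimitive_points {B : LinearMap.BilinForm F V} (hB : B.Nondegenerate)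
    (hA : B.IsAlt) : MulAction.IsPreprimitive (isom B) (ℙ F V) := by
  have hpt := isPretransitive_points hB hA
  -- orbits on pairs
  have orb1 : ∀ {u v u' v' : V} (hu : u ≠ 0) (hv : v ≠ 0) (hu' : u' ≠ 0) (hv' : v' ≠ 0),
      B u v ≠ 0 → B u' v' ≠ 0 → ∃ g : isom B,
        g • Projectivization.mk F u hu = Projectivization.mk F u' hu' ∧
        g • Projectivization.mk F v hv = Projectivization.mk F v' hv' := by
    intro u v u' v' hu hv hu' hv' h h'
    have e1 : B u ((B u v)⁻¹ • v) = 1 := by rw [map_smul, smul_eq_mul, inv_mul_cancel₀ h]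
    have e2 : B u' ((B u' v')⁻¹ • v') = 1 := by rw [map_smul, smul_eq_mul, inv_mul_cancel₀ h']
    obtain ⟨g, hg, hgu, hgv⟩ := exists_isom_pair hB hA
      (linearIndependent_pair_of_eq_one hA e1) (linearIndependent_pair_of_eq_one hA e2)
      (e1.trans e2.symm)
    refine ⟨⟨g, hg⟩, ?_, ?_⟩
    · rw [smul_mk', Projectivization.mk_eq_mk_iff']
      exact ⟨1, by rw [one_smul]; exact hgu.symm⟩
    · rw [smul_mk', Projectivization.mk_eq_mk_iff']
      refine ⟨B u v * (B u' v')⁻¹, ?_⟩
      rw [mul_smul, ← hgv, map_smul, smul_smul, mul_inv_cancel₀ h, one_smul]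
  have orb2 : ∀ {u v u' v' : V} (hu : u ≠ 0) (hv : v ≠ 0) (hu' : u' ≠ 0) (hv' : v' ≠ 0),
      B u v = 0 → B u' v' = 0 → LinearIndependent F ![u, v] → LinearIndependent F ![u', v'] →
      ∃ g : isom B,
        g • Projectivization.mk F u hu = Projectivization.mk F u' hu' ∧
        g • Projectivization.mk F v hv = Projectivization.mk F v' hv' := by
    intro u v u' v' hu hv hu' hv' h h' hli hli'
    obtain ⟨g, hg, hgu, hgv⟩ := exists_isom_pair hB hA hli hli' (h.trans h'.symm)
    refine ⟨⟨g, hg⟩, ?_, ?_⟩
    · rw [smul_mk', Projectivization.mk_eq_mk_iff']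
      exact ⟨1, by rw [one_smul]; exact hgu.symm⟩
    · rw [smul_mk', Projectivization.mk_eq_mk_iff']
      exact ⟨1, by rw [one_smul]; exact hgv.symm⟩
  refine ⟨fun {S} hS => ?_⟩
  by_cases hsub : S.Subsingleton
  · exact Or.inl hsub
  right
  have hmove : ∀ {g : isom B} {x y : ℙ F V}, x ∈ S → y ∈ S → g • x ∈ S → g • y ∈ S := by
    intro g x y hx hy hgx
    have h1 : g • S = S := by
      rcases hS.smul_eq_smul_or_disjoint g 1 with h | h
      · rw [one_smul] at h; exact h
      · rw [one_smul] at h
        exact absurd hgx (fun hh => Set.disjoint_left.mp h ⟨x, hx, rfl⟩ hh)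
    rw [← h1]
    exact ⟨y, hy, rfl⟩
  rw [Set.not_subsingleton_iff] at hsub
  obtain ⟨x, hx, y, hy, hxy⟩ := hsub
  induction x using Projectivization.ind with | _ u hu => ?_
  induction y using Projectivization.ind with | _ v hv => ?_
  rw [Set.eq_univ_iff_forall]
  intro z
  induction z using Projectivization.ind with | _ w hw => ?_
  by_cases huv : B u v = 0
  · -- orthogonal case
    have hli := (mk_ne_mk_iff hu hv).mp hxy
    have step : ∀ {a b : V} (ha : a ≠ 0) (hb : b ≠ 0), B a b = 0 →
        Projectivization.mk F a ha ∈ S → Projectivization.mk F b hb ∈ S := by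
      intro a b ha hb hab haS
      by_cases hne : Projectivization.mk F a ha = Projectivization.mk F b hb
      · rwa [← hne]
      · obtain ⟨g, hg1, hg2⟩ := orb2 hu hv ha hb huv hab hli ((mk_ne_mk_iff ha hb).mp hne)
        rw [← hg2]
        exact hmove hx hy (by rw [hg1]; exact haS)
    obtain ⟨t, ht0, htu, htw⟩ : ∃ t : V, t ≠ 0 ∧ B u t = 0 ∧ B w t = 0 := by
      have h2 : 3 ≤ finrank F V := by
        by_contra hlt
        have h3 := Submodule.finrank_le (Submodule.span F (Set.range ![u, v]))
        rw [finrank_span_eq_card hli, Fintype.card_fin] at h3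
        have h4 : Submodule.span F (Set.range ![u, v]) = ⊤ := by
          apply Submodule.eq_top_of_finrank_eq
          rw [finrank_span_eq_card hli, Fintype.card_fin]
          omega
        apply hu
        apply hB.1
        intro x
        have hx : x ∈ Submodule.span F (Set.range ![u, v]) := by rw [h4]; trivial
        rw [Submodule.mem_span_range_iff_exists_fun] at hx
        obtain ⟨c, rfl⟩ := hx
        simp [Fin.sum_univ_two, hA.self_eq_zero, huv]
      have h3 : finrank F (Submodule.span F (Set.range ![u, w])) ≤ 2 := by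
        have := finrank_range_le_card (R := F) ![u, w]
        simpa [Set.finrank] using this
      have h4 := LinearMap.BilinForm.finrank_orthogonal hB (Submodule.span F (Set.range ![u, w]))
      have h5 : Nontrivial (B.orthogonal (Submodule.span F (Set.range ![u, w]))) :=
        nontrivial_of_finrank_pos (R := F) (by omega)
      obtain ⟨t, ht⟩ := exists_ne (0 : B.orthogonal (Submodule.span F (Set.range ![u, w])))
      obtain ⟨h6, h7⟩ := mem_orthogonal_span_pair.mp t.2
      exact ⟨t, fun h => ht (Subtype.ext h), h6, h7⟩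
    exact step ht0 hw (hA.isRefl _ _ htw) (step hu ht0 htu hx)
  · have step : ∀ {a b : V} (ha : a ≠ 0) (hb : b ≠ 0), B a b ≠ 0 →
        Projectivization.mk F a ha ∈ S → Projectivization.mk F b hb ∈ S := by
      intro a b ha hb hab haS
      obtain ⟨g, hg1, hg2⟩ := orb1 hu hv ha hb huv hab
      rw [← hg2]
      exact hmove hx hy (by rw [hg1]; exact haS)
    obtain ⟨r, -, hru, hrw⟩ := exists_orthogonal_ne_zero_two hB hA.isRefl (X := ⊥)
      (x := u) (y := w) (by simpa using hu) (by simpa using hw)
    have hr : r ≠ 0 := by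
      rintro rfl
      exact hru (by simp)
    refine step hr hw hrw (step hu hr ?_ hx)
    intro h
    exact hru (hA.isRefl _ _ h)

end

lemma eq_smul_of_fix_points {g : V ≃ₗ[F] V} (h : ∀ v : V, ∃ a : F, g v = a • v) :
    ∃ a : F, ∀ v, g v = a • v := by
  obtain ⟨a, ha⟩ := (g : V →ₗ[F] V).exists_eq_smul_id_of_forall_notLinearIndependent fun v => by
    by_cases hv : v = 0
    · simp [hv, linearIndependent_fin2]
    · obtain ⟨a, ha⟩ := h v
      rw [LinearIndependent.pair_iff' hv]
      push Not
      exact ⟨a, ha.symm⟩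
  exact ⟨a, fun v => by
    have := DFunLike.congr_fun ha v
    simpa using this⟩

/-- The transvection group of a point. -/
noncomputable def pointT {B : LinearMap.BilinForm F V} (hA : B.IsAlt) (v : V) :
    Subgroup (isom B) where
  carrier := {g | ∃ c, (g : V ≃ₗ[F] V) = transv B hA v c}
  mul_mem' := by
    rintro a b ⟨c, hc⟩ ⟨d, hd⟩
    exact ⟨c + d, by rw [Subgroup.coe_mul, hc, hd, transv_add]⟩
  one_mem' := ⟨0, by rw [transv_zero]; rfl⟩
  inv_mem' := by
    rintro a ⟨c, hc⟩
    exact ⟨-c, by rw [Subgroup.coe_inv, hc, transv_inv]⟩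

lemma mem_pointT {B : LinearMap.BilinForm F V} (hA : B.IsAlt) {v : V} {g : isom B} :
    g ∈ pointT hA v ↔ ∃ c, (g : V ≃ₗ[F] V) = transv B hA v c := Iff.rfl

lemma pointT_smul {B : LinearMap.BilinForm F V} (hA : B.IsAlt) {v : V} {a : F} (ha : a ≠ 0) :
    pointT hA (a • v) = pointT hA v := by
  ext g
  rw [mem_pointT, mem_pointT]
  constructor
  · rintro ⟨c, hc⟩
    exact ⟨a ^ 2 * c, by rw [hc, transv_smul]⟩
  · rintro ⟨c, hc⟩
    exact ⟨(a ^ 2)⁻¹ * c, by
      rw [hc, transv_smul, ← mul_assoc, mul_inv_cancel₀ (pow_ne_zero 2 ha), one_mul]⟩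

lemma conj_pointT {B : LinearMap.BilinForm F V} (hA : B.IsAlt) (g : isom B) (v : V) :
    pointT hA ((g : V ≃ₗ[F] V) v) = MulAut.conj g • pointT hA v := by
  ext h
  rw [Subgroup.mem_pointwise_smul_iff_inv_smul_mem, mem_pointT, mem_pointT]
  refine exists_congr fun c => ?_
  rw [← conj_transv hA g.2]
  simp only [MulAut.smul_def, MulAut.inv_apply, MulAut.conj_symm_apply, Subgroup.coe_mul,
    Subgroup.coe_inv]
  constructor
  · intro h; rw [h]; group
  · intro h; rw [← h]; group

variable [FiniteDimensional F V]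

/-- The Iwasawa structure of the symplectic group on points. -/
noncomputable def iwasawa {B : LinearMap.BilinForm F V} (hB : B.Nondegenerate) (hA : B.IsAlt) :
    MulAction.IwasawaStructure (isom B) (ℙ F V) where
  T x := pointT hA x.rep
  is_comm x := by
    refine ⟨⟨fun a b => ?_⟩⟩
    obtain ⟨⟨a, ha⟩, c, hc⟩ := a
    obtain ⟨⟨b, hb⟩, d, hd⟩ := b
    apply Subtype.ext
    apply Subtype.ext
    change a * b = b * a
    change a = _ at hc
    change b = _ at hd
    rw [hc, hd, ← transv_add, ← transv_add, add_comm]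
  is_conj g x := by
    rw [← conj_pointT]
    have h1 : Projectivization.mk F (g • x).rep (g • x).rep_nonzero = g • x :=
      Projectivization.mk_rep _
    have h2 : g • x = Projectivization.mk F ((g : V ≃ₗ[F] V) x.rep)
        ((LinearEquiv.map_ne_zero_iff _).mpr x.rep_nonzero) := by
      conv_lhs => rw [← Projectivization.mk_rep x]
      rw [smul_mk']
    rw [h2] at h1
    have h3 := (Projectivization.mk_eq_mk_iff' F _ _ _ _).mp (h1.trans rfl)
    obtain ⟨a, ha⟩ := h3
    have ha0 : a ≠ 0 := by
      rintro rfl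
      rw [zero_smul] at ha
      exact (Projectivization.rep_nonzero _) ha.symm
    rw [h2, ← ha, pointT_smul hA ha0]
  is_generator := by
    rw [eq_top_iff]
    intro g _
    have hg : (g : V ≃ₗ[F] V) ∈ transvGroup B hA := by
      rw [transvGroup_eq_isom hB hA]; exact g.2
    have key : transvGroup B hA ≤ (⨆ x : ℙ F V, pointT hA x.rep).map (isom B).subtype := by
      rw [transvGroup, Subgroup.closure_le]
      rintro _ ⟨w, c, rfl⟩
      by_cases hw : w = 0
      · rw [hw, transv_zero']; exact one_mem _
      refine ⟨⟨transv B hA w c, transv_mem_isom _ _ _ _⟩, ?_, rfl⟩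
      refine Subgroup.mem_iSup_of_mem (Projectivization.mk F w hw) ?_
      obtain ⟨a, ha⟩ := Projectivization.exists_smul_eq_mk_rep F w hw
      rw [← ha, show (a • w) = (a : F) • w from rfl, pointT_smul hA a.ne_zero]
      exact ⟨c, rfl⟩
    obtain ⟨h, hh, hhg⟩ := key hg
    have : h = g := Subtype.ext hhg
    rwa [← this]

lemma center_scalar {B : LinearMap.BilinForm F V} (hB : B.Nondegenerate) (hA : B.IsAlt)
    {g : isom B} (hg : g ∈ Subgroup.center (isom B)) : ∃ a : F, ∀ v, (g : V ≃ₗ[F] V) v = a • v := by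
  apply eq_smul_of_fix_points
  intro v
  by_cases hv : v = 0
  · exact ⟨0, by rw [hv, map_zero, smul_zero]⟩
  obtain ⟨w, hw⟩ : ∃ w, B w v ≠ 0 := by
    by_contra hcon
    push Not at hcon
    exact hv (hB.2 v hcon)
  have h1 := Subgroup.mem_center_iff.mp hg ⟨transv B hA v 1, transv_mem_isom _ _ _ _⟩
  have h2 := congrArg (fun x : isom B => (x : V ≃ₗ[F] V) w) h1
  simp only [Subgroup.coe_mul, LinearEquiv.mul_apply, transv_apply, map_add, map_smul, one_mul,
    add_right_inj] at h2
  refine ⟨B ((g : V ≃ₗ[F] V) w) v / B w v, ?_⟩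
  rw [div_eq_inv_mul, mul_smul, h2, smul_smul, inv_mul_cancel₀ hw, one_smul]

lemma ker_le_center (B : LinearMap.BilinForm F V) :
    (MulAction.toPermHom (isom B) (ℙ F V)).ker ≤ Subgroup.center (isom B) := by
  intro g hg
  rw [MonoidHom.mem_ker] at hg
  obtain ⟨a, ha⟩ := eq_smul_of_fix_points (g := (g : V ≃ₗ[F] V)) fun v => by
    by_cases hv : v = 0
    · exact ⟨0, by rw [hv, map_zero, smul_zero]⟩
    have h1 : g • Projectivization.mk F v hv = Projectivization.mk F v hv :=
      DFunLike.congr_fun hg (Projectivization.mk F v hv)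
    rw [smul_mk', Projectivization.mk_eq_mk_iff'] at h1
    obtain ⟨a, ha⟩ := h1
    exact ⟨a, ha.symm⟩
  rw [Subgroup.mem_center_iff]
  intro h
  apply Subtype.ext
  ext v
  simp only [Subgroup.coe_mul, LinearEquiv.mul_apply]
  rw [ha, ha, map_smul]

/-- Simplicity of the projective symplectic group. -/
theorem isSimpleGroup_quotient {B : LinearMap.BilinForm F V} (hB : B.Nondegenerate)
    (hA : B.IsAlt) (hV : 2 ≤ finrank F V)
    (h : (∃ a : F, a ≠ 0 ∧ a ^ 2 ≠ 1) ∨ (4 ≤ finrank F V ∧ ∃ a : F, a ≠ 0 ∧ a ≠ 1) ∨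
      6 ≤ finrank F V) : IsSimpleGroup (isom B ⧸ Subgroup.center (isom B)) := by
  have hprim := isPreprimitive_points hB hA
  refine isSimpleGroup_quotient_center (iwasawa hB hA) (commutator_isom_eq_top hB hA h)
    (ker_le_center B) ?_
  intro hcen
  have hnt : Nontrivial V := nontrivial_of_finrank_pos (R := F) (by omega)
  obtain ⟨v, hv⟩ := exists_ne (0 : V)
  obtain ⟨w, hw⟩ : ∃ w, B w v ≠ 0 := by
    by_contra hcon
    push Not at hcon
    exact hv (hB.2 v hcon)
  obtain ⟨a, ha⟩ := center_scalar hB hA (g := ⟨transv B hA v 1, transv_mem_isom _ _ _ _⟩)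
    (by rw [hcen]; trivial)
  have h1 := ha v
  have h2 := ha w
  simp only [transv_apply, hA.self_eq_zero, mul_zero, zero_smul, add_zero, one_mul] at h1 h2
  have ha1 : a = 1 := by
    by_contra hne
    have : (a - 1) • v = 0 := by rw [sub_smul, ← h1, one_smul, sub_self]
    rcases smul_eq_zero.mp this with h3 | h3
    · exact hne (sub_eq_zero.mp h3)
    · exact hv h3
  rw [ha1, one_smul, add_eq_left] at h2
  rcases smul_eq_zero.mp h2 with h3 | h3
  · exact hw h3
  · exact hv h3

/-- The scalars `±1` in the symplectic group. -/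
noncomputable def scalarHom (B : LinearMap.BilinForm F V) :
    rootsOfUnity 2 F →* Subgroup.center (isom B) where
  toFun a := ⟨⟨LinearEquiv.smulOfUnit (a : Fˣ), fun u v => by
      have h1 : ((a : Fˣ) : F) ^ 2 = 1 := by
        have := a.2
        rw [mem_rootsOfUnity] at this
        have := congrArg Units.val this
        simpa using this
      change B ((a : Fˣ) • u) ((a : Fˣ) • v) = B u v
      rw [Units.smul_def, Units.smul_def, map_smul, map_smul, LinearMap.smul_apply, smul_eq_mul,
        smul_eq_mul, ← mul_assoc, ← pow_two, h1, one_mul]⟩, by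
      rw [Subgroup.mem_center_iff]
      intro h
      apply Subtype.ext
      ext v
      change (h : V ≃ₗ[F] V) ((a : Fˣ) • v) = (a : Fˣ) • (h : V ≃ₗ[F] V) v
      rw [Units.smul_def, Units.smul_def, map_smul]⟩
  map_one' := by
    apply Subtype.ext
    apply Subtype.ext
    ext v
    exact one_smul Fˣ v
  map_mul' := fun a b => by
    apply Subtype.ext
    apply Subtype.ext
    ext v
    exact mul_smul (a : Fˣ) (b : Fˣ) v

/-- The centre of the symplectic group. -/
noncomputable def centerEquiv [Nontrivial V] {B : LinearMap.BilinForm F V} (hB : B.Nondegenerate)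
    (hA : B.IsAlt) : rootsOfUnity 2 F ≃* Subgroup.center (isom B) :=
  MulEquiv.ofBijective (scalarHom B) (by
    constructor
    · intro a b hab
      obtain ⟨v, hv⟩ := exists_ne (0 : V)
      have h1 : (a : Fˣ) • v = (b : Fˣ) • v :=
        congrArg (fun x : Subgroup.center (isom B) => ((x : isom B) : V ≃ₗ[F] V) v) hab
      apply Subtype.ext
      apply Units.ext
      rw [Units.smul_def, Units.smul_def] at h1
      exact smul_left_injective F hv h1
    · intro g
      obtain ⟨a, ha⟩ := center_scalar hB hA g.2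
      obtain ⟨v, hv⟩ := exists_ne (0 : V)
      obtain ⟨w, hw⟩ : ∃ w, B w v ≠ 0 := by
        by_contra hcon
        push Not at hcon
        exact hv (hB.2 v hcon)
      have h1 := (g : isom B).2 w v
      rw [ha, ha, map_smul, map_smul, LinearMap.smul_apply, smul_eq_mul, smul_eq_mul, ← mul_assoc,
        ← pow_two] at h1
      have h2 : a ^ 2 = 1 := mul_right_cancel₀ hw (by rw [h1, one_mul])
      have ha0 : a ≠ 0 := by
        rintro rfl
        simp at h2
      refine ⟨⟨Units.mk0 a ha0, ?_⟩, ?_⟩
      · rw [mem_rootsOfUnity]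
        ext
        simpa using h2
      · apply Subtype.ext
        apply Subtype.ext
        ext v
        exact (ha v).symm)

end CfsgLib.AltForm
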