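import Cfsg.Agent.Lib.IsomDecomp

/-!
# Counting subspaces and frames over finite fields
-/

namespace CfsgLib.CountSub

open Module CfsgLib.IsomDecomp

set_option linter.unusedSimpArgs false
set_option linter.unusedSectionVars false

variable {F V : Type*} [Field F] [AddCommGroup V] [Module F V] [FiniteDimensional F V]

lemma card_linInd [Finite F] (W : Submodule F V) {k : ℕ} (hk : finrank F W = k) :
    Nat.card {w : Fin k → W // LinearIndependent F w} =
      ∏ i : Fin k, (Nat.card F ^ k - Nat.card F ^ (i : ℕ)) := by
  have := Fintype.ofFinite F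
  have hW : Finite W := Module.finite_of_finite F
  have h := card_linearIndependent (K := F) (V := W) (k := k) hk.ge
  rw [Nat.card_eq_fintype_card (α := F), h, hk]

lemma sigma_frames_ext {k : ℕ} {P : Submodule F V → Prop}
    (x y : Σ W : {W : Submodule F V // finrank F W = k ∧ P W},
        {w : Fin k → (W : Submodule F V) // LinearIndependent F w})
    (h1 : x.1.1 = y.1.1) (h2 : ∀ i, (x.2.1 i : V) = y.2.1 i) : x = y := by
  obtain ⟨⟨W, hW⟩, ⟨w, hw⟩⟩ := x
  obtain ⟨⟨W', hW'⟩, ⟨w', hw'⟩⟩ := y
  obtain rfl : W = W' := h1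
  obtain rfl : w = w' := funext fun i => Subtype.ext (h2 i)
  rfl

/-- Counting `k`-dimensional subspaces with a property through their ordered bases. -/
theorem card_frames [Finite F] (k : ℕ) (P : Submodule F V → Prop) :
    Nat.card {w : Fin k → V // LinearIndependent F w ∧ P (Submodule.span F (Set.range w))} =
      Nat.card {W : Submodule F V // finrank F W = k ∧ P W} *
        ∏ i : Fin k, (Nat.card F ^ k - Nat.card F ^ (i : ℕ)) := by
  have hV : Finite V := Module.finite_of_finite F
  have hfinS : Finite (Submodule F V) := inferInstance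
  have e : {w : Fin k → V // LinearIndependent F w ∧ P (Submodule.span F (Set.range w))} ≃
      Σ W : {W : Submodule F V // finrank F W = k ∧ P W},
        {w : Fin k → (W : Submodule F V) // LinearIndependent F w} :=
    { toFun := fun w => ⟨⟨Submodule.span F (Set.range w.1), by
          rw [finrank_span_eq_card w.2.1, Fintype.card_fin], w.2.2⟩,
        ⟨fun i => ⟨w.1 i, Submodule.subset_span ⟨i, rfl⟩⟩, by
          apply LinearIndependent.of_comp (Submodule.span F (Set.range w.1)).subtype
          exact w.2.1⟩⟩
      invFun := fun p => ⟨fun i => (p.2.1 i : V), by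
          refine ⟨p.2.2.map' _ (Submodule.ker_subtype _), ?_⟩
          have h1 : Submodule.span F (Set.range fun i => (p.2.1 i : V)) = p.1.1 := by
            apply Submodule.eq_of_le_of_finrank_eq
            · rw [Submodule.span_le]
              rintro _ ⟨i, rfl⟩
              exact (p.2.1 i).2
            · rw [finrank_span_eq_card (b := fun i => (p.2.1 i : V))
                (p.2.2.map' _ (Submodule.ker_subtype _)), Fintype.card_fin, p.1.2.1]
          rw [h1]
          exact p.1.2.2⟩
      left_inv := fun w => rfl
      right_inv := by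
        rintro ⟨⟨W, hW, hP⟩, ⟨w, hw⟩⟩
        have h1 : Submodule.span F (Set.range fun i => (w i : V)) = W := by
          apply Submodule.eq_of_le_of_finrank_eq
          · rw [Submodule.span_le]
            rintro _ ⟨i, rfl⟩
            exact (w i).2
          · rw [finrank_span_eq_card (b := fun i => (w i : V))
              (hw.map' _ (Submodule.ker_subtype _)), Fintype.card_fin, hW]
        exact sigma_frames_ext _ _ h1 fun i => rfl }
  have hft : Fintype {W : Submodule F V // finrank F W = k ∧ P W} := Fintype.ofFinite _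
  rw [Nat.card_congr e, Nat.card_sigma, Finset.sum_congr rfl fun W _ => card_linInd W.1 W.2.1,
    Finset.sum_const, Finset.card_univ, smul_eq_mul,
    ← Nat.card_eq_fintype_card (α := {W : Submodule F V // finrank F W = k ∧ P W})]

/-- The number of vectors in `W' \ W`. -/
lemma card_sdiff [Finite F] {W W' : Submodule F V} (h : W ≤ W') :
    Nat.card {x : V // x ∈ W' ∧ x ∉ W} =
      Nat.card F ^ finrank F W' - Nat.card F ^ finrank F W := by
  classical
  have hV : Finite V := Module.finite_of_finite F
  have := Fintype.ofFinite V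
  rw [← Module.natCard_eq_pow_finrank, ← Module.natCard_eq_pow_finrank, Nat.card_eq_fintype_card,
    Nat.card_eq_fintype_card, Nat.card_eq_fintype_card, Fintype.card_subtype,
    Fintype.card_subtype, Fintype.card_subtype, ← Finset.card_sdiff_of_subset]
  · congr 1
    ext x
    simp
  · intro x
    simp only [Finset.mem_filter, Finset.mem_univ, true_and]
    exact fun hx => h hx

/-- Step of the count of frames: families `Fin (k+1) → V` as pairs. -/
lemma card_snoc_frames [Finite F] (k : ℕ) (Q : (Fin k → V) → Prop) (R : (Fin k → V) → V → Prop)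
    (P : (Fin (k + 1) → V) → Prop)
    (hP : ∀ w x, P (Fin.snoc w x) ↔ Q w ∧ R w x) (c : ℕ)
    (hc : ∀ w, Q w → Nat.card {x // R w x} = c) :
    Nat.card {w : Fin (k + 1) → V // P w} = Nat.card {w : Fin k → V // Q w} * c := by
  have hV : Finite V := Module.finite_of_finite F
  have e : {w : Fin (k + 1) → V // P w} ≃ Σ w : {w : Fin k → V // Q w}, {x // R w x} :=
    { toFun := fun w => ⟨⟨Fin.init w.1, ((hP _ (w.1 (Fin.last k))).mp
          (by rw [Fin.snoc_init_self]; exact w.2)).1⟩,
          ⟨w.1 (Fin.last k), ((hP _ (w.1 (Fin.last k))).mp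
          (by rw [Fin.snoc_init_self]; exact w.2)).2⟩⟩
      invFun := fun p => ⟨Fin.snoc p.1.1 p.2.1, (hP _ _).mpr ⟨p.1.2, p.2.2⟩⟩
      left_inv := fun w => by
        apply Subtype.ext
        exact Fin.snoc_init_self _
      right_inv := by
        rintro ⟨⟨w, hw⟩, ⟨x, hx⟩⟩
        have h1 : Fin.init (Fin.snoc (α := fun _ => V) w x) = w := Fin.init_snoc _ _
        have h2 : (Fin.snoc (α := fun _ => V) w x) (Fin.last k) = x := Fin.snoc_last _ _
        refine Sigma.ext (Subtype.ext h1) ?_
        refine (Subtype.heq_iff_coe_eq ?_).mpr h2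
        intro y
        change R (Fin.init (Fin.snoc (α := fun _ => V) w x)) y ↔ R w y
        rw [h1] }
  have hft : Fintype {w : Fin k → V // Q w} := Fintype.ofFinite _
  rw [Nat.card_congr e, Nat.card_sigma, Finset.sum_congr rfl fun w _ => hc w.1 w.2,
    Finset.sum_const, Finset.card_univ, smul_eq_mul, Nat.card_eq_fintype_card]

/-- The order of `GL(W)`. -/
lemma card_linearEquiv [Finite F] {W : Type*} [AddCommGroup W] [Module F W]
    [FiniteDimensional F W] {k : ℕ} (hk : finrank F W = k) :
    Nat.card (W ≃ₗ[F] W) = ∏ i : Fin k, (Nat.card F ^ k - Nat.card F ^ (i : ℕ)) := by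
  have := Fintype.ofFinite F
  classical
  let e : W ≃ₗ[F] (Fin k → F) := LinearEquiv.ofFinrankEq _ _ (by simp [hk])
  have h1 : (W ≃ₗ[F] W) ≃ GL (Fin k) F :=
    { toFun := fun g => Matrix.GeneralLinearGroup.toLin.symm
        ((LinearMap.GeneralLinearGroup.generalLinearEquiv F (Fin k → F)).symm
          ((e.symm.trans g).trans e))
      invFun := fun g => (e.trans (LinearMap.GeneralLinearGroup.generalLinearEquiv F (Fin k → F)
        (Matrix.GeneralLinearGroup.toLin g))).trans e.symm
      left_inv := fun g => by
        ext x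
        simp
      right_inv := fun g => by
        simp only [MulEquiv.symm_apply_eq, MulEquiv.apply_symm_apply]
        ext x
        simp }
  rw [Nat.card_congr h1, Matrix.card_GL_field, Nat.card_eq_fintype_card (α := F)]

/-! ### Setwise stabilisers -/

variable {Y : Type*}

/-- The elements of `isomF f` stabilising `W`. -/
def isomStab (f : V → V → Y) (W : Submodule F V) : Subgroup (V ≃ₗ[F] V) where
  carrier := {g | g ∈ isomF F f ∧ ∀ x, x ∈ W ↔ g x ∈ W}
  mul_mem' {a b} ha hb := by
    refine ⟨mul_mem ha.1 hb.1, fun x => ?_⟩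
    rw [LinearEquiv.mul_apply, ← ha.2, ← hb.2]
  one_mem' := ⟨one_mem _, fun _ => Iff.rfl⟩
  inv_mem' {a} ha := by
    refine ⟨inv_mem ha.1, fun x => ?_⟩
    rw [ha.2 (a⁻¹ x), ← LinearEquiv.mul_apply, mul_inv_cancel]; rfl

/-- Restriction to a stabilised subspace. -/
noncomputable def resHom (f : V → V → Y) (W : Submodule F V) :
    isomStab f W →* isomF F (restr f W) where
  toFun g := ⟨comp (g : V ≃ₗ[F] V) W g.2.2, fun _ _ => g.2.1 _ _⟩
  map_one' := by
    apply Subtype.ext; ext x; rfl
  map_mul' a b := by
    apply Subtype.ext; ext x; rfl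

theorem card_isomStab (f : V → V → Y) (W : Submodule F V)
    (h : ∀ g₀ ∈ isomF F (restr f W), ∃ g ∈ isomF F f, ∀ x : W, g x = g₀ x) :
    Nat.card (isomStab f W) = Nat.card (isomF F (restr f W)) * Nat.card (isomFix f W) := by
  have hsurj : Function.Surjective (resHom f W) := by
    rintro ⟨g₀, hg₀⟩
    obtain ⟨g, hg, hgx⟩ := h g₀ hg₀
    have hst : ∀ x, x ∈ W ↔ g x ∈ W := by
      intro x
      constructor
      · intro hx
        rw [hgx ⟨x, hx⟩]; exact Subtype.property _
      · intro hx
        have h1 := hgx (g₀.symm ⟨g x, hx⟩)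
        rw [LinearEquiv.apply_symm_apply] at h1
        have h2 := g.injective h1
        rw [← h2]
        exact Subtype.property _
    refine ⟨⟨g, hg, hst⟩, ?_⟩
    apply Subtype.ext
    ext x
    exact hgx x
  have hker : (resHom f W).ker.map (isomStab f W).subtype = isomFix f W := by
    ext g
    constructor
    · rintro ⟨g, hg, rfl⟩
      refine ⟨g.2.1, fun x hx => ?_⟩
      have := congrArg (fun z : isomF F (restr f W) => ((z : W ≃ₗ[F] W) ⟨x, hx⟩ : V))
        (MonoidHom.mem_ker.mp hg)
      exact this
    · rintro ⟨h1, h2⟩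
      have hst : ∀ x, x ∈ W ↔ g x ∈ W := by
        intro x
        constructor
        · intro hx
          rw [h2 x hx]; exact hx
        · intro hx
          have h3 := h2 _ hx
          have h4 := g.injective h3
          rwa [h4] at hx
      refine ⟨⟨g, h1, hst⟩, ?_, rfl⟩
      rw [SetLike.mem_coe, MonoidHom.mem_ker]
      apply Subtype.ext
      ext x
      exact h2 x x.2
  have h1 := (resHom f W).ker.card_mul_index
  rw [Subgroup.index_ker, MonoidHom.range_eq_top.mpr hsurj] at h1
  rw [← h1, mul_comm]
  congr 1
  · exact Nat.card_congr Subgroup.topEquiv.toEquiv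
  · rw [← hker]
    exact Nat.card_congr ((resHom f W).ker.equivMapOfInjective _ Subtype.val_injective).toEquiv

end CfsgLib.CountSub
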