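import Cfsg.Agent.Lib.AltForm4
import Cfsg.Agent.Lib.CountSub

/-!
# Non-degenerate alternating forms V: totally isotropic subspaces
-/

namespace CfsgLib.AltForm

open Module CfsgLib.IsomDecomp CfsgLib.CountSub

set_option linter.unusedSimpArgs false
set_option linter.unusedSectionVars false

variable {F V : Type*} [Field F] [AddCommGroup V] [Module F V] [FiniteDimensional F V]

/-- Isotropic frames. -/
def IsFrame (B : LinearMap.BilinForm F V) {k : ℕ} (w : Fin k → V) : Prop :=
  LinearIndependent F w ∧ ∀ i j, B (w i) (w j) = 0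

lemma isFrame_iff_span (B : LinearMap.BilinForm F V) {k : ℕ} (w : Fin k → V) :
    IsFrame B w ↔ LinearIndependent F w ∧
      ∀ u ∈ Submodule.span F (Set.range w), ∀ v ∈ Submodule.span F (Set.range w), B u v = 0 := by
  refine and_congr_right fun _ => ⟨fun h u hu v hv => ?_, fun h i j =>
    h _ (Submodule.subset_span ⟨i, rfl⟩) _ (Submodule.subset_span ⟨j, rfl⟩)⟩
  induction hu using Submodule.span_induction with
  | mem u hu =>
    obtain ⟨i, rfl⟩ := hu
    induction hv using Submodule.span_induction with
    | mem v hv => obtain ⟨j, rfl⟩ := hv; exact h i j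
    | zero => simp
    | add a b _ _ ha hb => rw [map_add, ha, hb, add_zero]
    | smul a b _ hb => rw [map_smul, hb, smul_zero]
  | zero => simp
  | add a b _ _ ha hb => rw [map_add, LinearMap.add_apply, ha, hb, add_zero]
  | smul a b _ hb => rw [map_smul, LinearMap.smul_apply, hb, smul_zero]

lemma isFrame_snoc {B : LinearMap.BilinForm F V} (hA : B.IsAlt) {k : ℕ} (w : Fin k → V) (x : V) :
    IsFrame B (Fin.snoc w x : Fin (k + 1) → V) ↔ IsFrame B w ∧
      (x ∈ B.orthogonal (Submodule.span F (Set.range w)) ∧
        x ∉ Submodule.span F (Set.range w)) := by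
  rw [IsFrame, IsFrame, linearIndependent_finSnoc]
  constructor
  · rintro ⟨⟨h1, h2⟩, h3⟩
    refine ⟨⟨h1, fun i j => ?_⟩, ?_, h2⟩
    · have := h3 i.castSucc j.castSucc
      simpa using this
    · rw [LinearMap.BilinForm.mem_orthogonal_iff]
      intro z hz
      induction hz using Submodule.span_induction with
      | mem z hz =>
        obtain ⟨i, rfl⟩ := hz
        have := h3 i.castSucc (Fin.last k)
        simpa using this
      | zero => simp
      | add a b _ _ ha hb => rw [map_add, LinearMap.add_apply, ha, hb, add_zero]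
      | smul a b _ hb => rw [map_smul, LinearMap.smul_apply, hb, smul_zero]
  · rintro ⟨⟨h1, h2⟩, h3, h4⟩
    refine ⟨⟨h1, h4⟩, ?_⟩
    rw [LinearMap.BilinForm.mem_orthogonal_iff] at h3
    have h5 : ∀ i, B (w i) x = 0 := fun i => h3 _ (Submodule.subset_span ⟨i, rfl⟩)
    intro i j
    refine Fin.lastCases ?_ (fun i => ?_) i
    · refine Fin.lastCases ?_ (fun j => ?_) j
      · simp [hA.self_eq_zero]
      · simpa using hA.isRefl _ _ (h5 j)
    · refine Fin.lastCases ?_ (fun j => ?_) j
      · simpa using h5 i
      · simpa using h2 i j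

/-- The number of isotropic `k`-frames in dimension `n`. -/
theorem card_isFrame [Finite F] {B : LinearMap.BilinForm F V} (hB : B.Nondegenerate)
    (hA : B.IsAlt) (k : ℕ) : Nat.card {w : Fin k → V // IsFrame B w} =
      ∏ i ∈ Finset.range k, (Nat.card F ^ (finrank F V - i) - Nat.card F ^ i) := by
  induction k with
  | zero =>
    rw [Finset.prod_range_zero]
    have : Unique {w : Fin 0 → V // IsFrame B w} :=
      { default := ⟨Fin.elim0, linearIndependent_empty_type, fun i => i.elim0⟩
        uniq := fun w => Subtype.ext (funext fun i => i.elim0) }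
    exact Nat.card_unique
  | succ k ih =>
    rw [Finset.prod_range_succ, ← ih]
    refine card_snoc_frames (F := F) k _ (fun w x => x ∈ B.orthogonal (Submodule.span F (Set.range w)) ∧
        x ∉ Submodule.span F (Set.range w)) _ (isFrame_snoc hA) _ fun w hw => ?_
    have hle : Submodule.span F (Set.range w) ≤ B.orthogonal (Submodule.span F (Set.range w)) := by
      intro x hx
      rw [LinearMap.BilinForm.mem_orthogonal_iff]
      intro y hy
      exact ((isFrame_iff_span B w).mp hw).2 y hy x hx
    rw [card_sdiff hle, LinearMap.BilinForm.finrank_orthogonal hB, finrank_span_eq_card hw.1,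
      Fintype.card_fin]

/-- The group fixing pointwise a totally isotropic subspace. -/
theorem card_isom_eq_frames_mul [Finite F] {B : LinearMap.BilinForm F V} (hB : B.Nondegenerate)
    (hA : B.IsAlt) {k : ℕ} (W : Submodule F V) (hk : finrank F W = k)
    (hW : ∀ u ∈ W, ∀ v ∈ W, B u v = 0) :
    Nat.card (isom B) = (∏ i ∈ Finset.range k, (Nat.card F ^ (finrank F V - i) - Nat.card F ^ i)) *
      Nat.card (isomFix (fun u v => B u v) W) := by
  subst hk
  set b := Module.finBasis F W with hb
  have hspan : Submodule.span F (Set.range fun i => (b i : V)) = W := by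
    have h1 : (Set.range fun i => (b i : V)) = W.subtype '' (Set.range b) := by
      rw [← Set.range_comp]; rfl
    rw [h1, ← Submodule.map_span, b.span_eq, Submodule.map_top, Submodule.range_subtype]
  have hli : LinearIndependent F (fun i => (b i : V)) :=
    b.linearIndependent.map' _ (Submodule.ker_subtype W)
  have h1 := card_isomF_eq (F := F) (f := fun u v => B u v) (fun i => (b i : V))
    {w | IsFrame B w} (by
      intro w
      constructor
      · rintro ⟨hw1, hw2⟩
        obtain ⟨g, hg, hgv⟩ := exists_transv_family hB hA (fun i => (b i : V)) w hli hw1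
          (fun i j => by rw [hw2, hW _ (b i).2 _ (b j).2])
        exact ⟨g, transvGroup_le_isom B hA hg, hgv⟩
      · rintro ⟨g, hg, hgv⟩
        have hwe : w = (g : V →ₗ[F] V) ∘ (fun i => (b i : V)) := funext fun i => (hgv i).symm
        refine ⟨?_, fun i j => ?_⟩
        · rw [hwe]
          exact hli.map' _ (LinearEquiv.ker g)
        · rw [← hgv, ← hgv]
          exact (hg _ _).trans (hW _ (b i).2 _ (b j).2))
  rw [isom_eq_isomF, h1, hspan]
  congr 1
  exact card_isFrame hB hA _

theorem card_isomStab_isotropic [Finite F] {B : LinearMap.BilinForm F V} (hB : B.Nondegenerate)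
    (hA : B.IsAlt) {k : ℕ} (W : Submodule F V) (hk : finrank F W = k)
    (hW : ∀ u ∈ W, ∀ v ∈ W, B u v = 0) :
    Nat.card (isomStab (fun u v => B u v) W) = (∏ i : Fin k, (Nat.card F ^ k - Nat.card F ^ (i : ℕ))) *
      Nat.card (isomFix (fun u v => B u v) W) := by
  rw [card_isomStab, ← card_linearEquiv hk]
  · congr 1
    have : isomF F (restr (fun u v => B u v) W) = ⊤ := by
      rw [eq_top_iff]
      intro g _ u v
      change B (g u) (g v) = B u v
      rw [hW _ (g u).2 _ (g v).2, hW _ u.2 _ v.2]
    rw [this]
    exact Nat.card_congr Subgroup.topEquiv.toEquiv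
  · intro g₀ hg₀
    obtain ⟨g, hg, hgx⟩ := exists_transv_extension hB hA W (W.subtype.comp (g₀ : W →ₗ[F] W))
      (Subtype.val_injective.comp g₀.injective) (fun x x' => hg₀ x x')
    exact ⟨g, transvGroup_le_isom B hA hg, hgx⟩

/-- The number of totally isotropic `k`-subspaces, in product form. -/
theorem card_isotropic_subspaces [Finite F] {B : LinearMap.BilinForm F V} (hB : B.Nondegenerate)
    (hA : B.IsAlt) (k : ℕ) :
    Nat.card {W : Submodule F V // finrank F W = k ∧ ∀ u ∈ W, ∀ v ∈ W, B u v = 0} *
        ∏ i : Fin k, (Nat.card F ^ k - Nat.card F ^ (i : ℕ)) =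
      ∏ i ∈ Finset.range k, (Nat.card F ^ (finrank F V - i) - Nat.card F ^ i) := by
  rw [← card_frames k (fun W : Submodule F V => ∀ u ∈ W, ∀ v ∈ W, B u v = 0),
    ← card_isFrame hB hA k]
  exact Nat.card_congr (Equiv.subtypeEquivRight fun w => (isFrame_iff_span B w).symm)

end CfsgLib.AltForm
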