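import Mathlib

/-!
# Automorphisms of `PSL_n(F)`, part 1: transvections in `SL_n(F)`, points and hyperplanes.
-/

set_option autoImplicit false

namespace CfsgLib.AutPSL

open Matrix

variable {F : Type*} [Field F] {n : ℕ}

theorem tmv (u v w : Fin n → F) : (vecMulVec u v) *ᵥ w = (v ⬝ᵥ w) • u := by
  ext i
  simp only [mulVec, dotProduct, vecMulVec_apply, Pi.smul_apply, smul_eq_mul, Finset.sum_mul]
  exact Finset.sum_congr rfl fun j _ => by ring

theorem det_one_add (v φ : Fin n → F) : (1 + vecMulVec v φ).det = 1 + φ ⬝ᵥ v := by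
  rw [vecMulVec_eq Unit, det_one_add_replicateCol_mul_replicateRow]

/-- two non-zero vectors span the same line -/
def Par (v w : Fin n → F) : Prop := ∃ c : F, c ≠ 0 ∧ w = c • v

theorem Par.refl (v : Fin n → F) : Par v v := ⟨1, one_ne_zero, (one_smul _ _).symm⟩

theorem Par.symm {v w : Fin n → F} (h : Par v w) : Par w v := by
  obtain ⟨c, hc, rfl⟩ := h
  exact ⟨c⁻¹, inv_ne_zero hc, by rw [smul_smul, inv_mul_cancel₀ hc, one_smul]⟩

theorem Par.trans {u v w : Fin n → F} (h : Par u v) (h' : Par v w) : Par u w := by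
  obtain ⟨c, hc, rfl⟩ := h
  obtain ⟨d, hd, rfl⟩ := h'
  exact ⟨d * c, mul_ne_zero hd hc, by rw [smul_smul]⟩

theorem Par.mulVec {v w : Fin n → F} (h : Par v w) (A : Matrix (Fin n) (Fin n) F) : Par (A *ᵥ v) (A *ᵥ w) := by
  obtain ⟨c, hc, rfl⟩ := h
  exact ⟨c, hc, by rw [mulVec_smul]⟩

/-- `s` is the transvection `1 + v ⊗ φ` -/
def Tr (v φ : Fin n → F) (s : Matrix.SpecialLinearGroup (Fin n) F) : Prop :=
  v ≠ 0 ∧ φ ≠ 0 ∧ (s : Matrix (Fin n) (Fin n) F) = 1 + vecMulVec v φ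

theorem Tr.dot {v φ : Fin n → F} {s : Matrix.SpecialLinearGroup (Fin n) F} (h : Tr v φ s) : φ ⬝ᵥ v = 0 := by
  have h1 := s.2
  have h2 : (s : Matrix (Fin n) (Fin n) F).det = 1 := h1
  rw [h.2.2, det_one_add] at h2
  simpa using h2

theorem exists_Tr {v φ : Fin n → F} (hv : v ≠ 0) (hφ : φ ≠ 0) (h : φ ⬝ᵥ v = 0) :
    ∃ s : Matrix.SpecialLinearGroup (Fin n) F, Tr v φ s :=
  ⟨⟨1 + vecMulVec v φ, by rw [det_one_add, h, add_zero]⟩, hv, hφ, rfl⟩

theorem Tr.unique {v φ v' φ' : Fin n → F} {s : Matrix.SpecialLinearGroup (Fin n) F} (h : Tr v φ s) (h' : Tr v' φ' s) :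
    ∃ c : F, c ≠ 0 ∧ v' = c • v ∧ φ = c • φ' := by
  have h1 : vecMulVec v φ = vecMulVec v' φ' := add_left_cancel (h.2.2.symm.trans h'.2.2)
  have h2 : ∀ i j, v i * φ j = v' i * φ' j := fun i j => by
    have := congrFun (congrFun h1 i) j
    rwa [vecMulVec_apply, vecMulVec_apply] at this
  obtain ⟨j, hj⟩ := Function.ne_iff.1 h'.2.1
  obtain ⟨i, hi⟩ := Function.ne_iff.1 h.1
  rw [Pi.zero_apply] at hi hj
  have h3 : v' = (φ j / φ' j) • v := by
    ext k
    rw [Pi.smul_apply, smul_eq_mul, div_mul_eq_mul_div, eq_div_iff hj, mul_comm (φ j), h2]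
  have hc : φ j / φ' j ≠ 0 := by
    intro h0
    rw [h0, zero_smul] at h3
    exact h'.1 h3
  refine ⟨φ j / φ' j, hc, h3, ?_⟩
  ext k
  have h4 := h2 i k
  rw [h3, Pi.smul_apply, smul_eq_mul] at h4
  rw [Pi.smul_apply, smul_eq_mul]
  apply mul_left_cancel₀ hi
  rw [h4]; ring

theorem Tr.inj {v φ : Fin n → F} {s t : Matrix.SpecialLinearGroup (Fin n) F} (h : Tr v φ s) (h' : Tr v φ t) : s = t :=
  Subtype.ext (h.2.2.trans h'.2.2.symm)

theorem Tr.smul {v φ : Fin n → F} {s : Matrix.SpecialLinearGroup (Fin n) F} (h : Tr v φ s) {c : F} (hc : c ≠ 0) :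
    Tr (c • v) (c⁻¹ • φ) s :=
  ⟨smul_ne_zero hc h.1, smul_ne_zero (inv_ne_zero hc) h.2.1, by
    rw [h.2.2, smul_vecMulVec, vecMulVec_smul, smul_smul, mul_inv_cancel₀ hc, one_smul]⟩

theorem Tr.smul' {v φ : Fin n → F} {s : Matrix.SpecialLinearGroup (Fin n) F} (h : Tr v φ s) {c : F} (hc : c ≠ 0) :
    Tr (c⁻¹ • v) (c • φ) s := by
  have := h.smul (inv_ne_zero hc)
  rwa [inv_inv] at this

theorem Tr.of_par_left {v φ w : Fin n → F} {s : Matrix.SpecialLinearGroup (Fin n) F} (h : Tr v φ s) (hp : Par v w) :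
    ∃ ψ, Par φ ψ ∧ Tr w ψ s := by
  obtain ⟨c, hc, rfl⟩ := hp
  exact ⟨_, ⟨_, inv_ne_zero hc, rfl⟩, h.smul hc⟩

theorem Tr.of_par_right {v φ ψ : Fin n → F} {s : Matrix.SpecialLinearGroup (Fin n) F} (h : Tr v φ s) (hp : Par φ ψ) :
    ∃ w, Par v w ∧ Tr w ψ s := by
  obtain ⟨c, hc, rfl⟩ := hp
  exact ⟨_, ⟨_, inv_ne_zero hc, rfl⟩, h.smul' hc⟩

theorem Tr.mul_left {v φ ψ : Fin n → F} {s t : Matrix.SpecialLinearGroup (Fin n) F} (h : Tr v φ s) (h' : Tr v ψ t)
    (hne : φ + ψ ≠ 0) : Tr v (φ + ψ) (s * t) := by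
  refine ⟨h.1, hne, ?_⟩
  rw [Matrix.SpecialLinearGroup.coe_mul, h.2.2, h'.2.2, mul_add, mul_one, add_mul, one_mul, vecMulVec_mul_vecMulVec, h.dot,
    zero_smul, vecMulVec_zero, add_zero, vecMulVec_add, add_assoc]

theorem Tr.mul_right {v w φ : Fin n → F} {s t : Matrix.SpecialLinearGroup (Fin n) F} (h : Tr v φ s) (h' : Tr w φ t)
    (hne : v + w ≠ 0) : Tr (v + w) φ (s * t) := by
  refine ⟨hne, h.2.1, ?_⟩
  rw [Matrix.SpecialLinearGroup.coe_mul, h.2.2, h'.2.2, mul_add, mul_one, add_mul, one_mul, vecMulVec_mul_vecMulVec, h'.dot,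
    zero_smul, vecMulVec_zero, add_zero, add_vecMulVec, add_assoc]

theorem Tr.conj {v φ : Fin n → F} {s : Matrix.SpecialLinearGroup (Fin n) F} (h : Tr v φ s)
    (x : Matrix.SpecialLinearGroup (Fin n) F) :
    Tr ((x : Matrix (Fin n) (Fin n) F) *ᵥ v) (φ ᵥ* ((x⁻¹ : Matrix.SpecialLinearGroup (Fin n) F) : Matrix (Fin n) (Fin n) F))
      (x * s * x⁻¹) := by
  have hx : (x : Matrix (Fin n) (Fin n) F) * ((x⁻¹ : Matrix.SpecialLinearGroup (Fin n) F) : Matrix (Fin n) (Fin n) F) = 1 := by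
    rw [← Matrix.SpecialLinearGroup.coe_mul, mul_inv_cancel, Matrix.SpecialLinearGroup.coe_one]
  have hx' : ((x⁻¹ : Matrix.SpecialLinearGroup (Fin n) F) : Matrix (Fin n) (Fin n) F) * (x : Matrix (Fin n) (Fin n) F) = 1 := by
    rw [← Matrix.SpecialLinearGroup.coe_mul, inv_mul_cancel, Matrix.SpecialLinearGroup.coe_one]
  refine ⟨?_, ?_, ?_⟩
  · intro h0
    apply h.1
    have := congrArg (fun z => ((x⁻¹ : Matrix.SpecialLinearGroup (Fin n) F) : Matrix (Fin n) (Fin n) F) *ᵥ z) h0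
    simp only [mulVec_mulVec, hx', one_mulVec, mulVec_zero] at this
    exact this
  · intro h0
    apply h.2.1
    have := congrArg (fun z => z ᵥ* (x : Matrix (Fin n) (Fin n) F)) h0
    simp only [vecMul_vecMul, hx', vecMul_one, zero_vecMul] at this
    exact this
  · rw [Matrix.SpecialLinearGroup.coe_mul, Matrix.SpecialLinearGroup.coe_mul, h.2.2, mul_add, mul_one, add_mul, hx, mul_vecMulVec,
      vecMulVec_mul]

/-- a transvection has only the eigenvalue `1` -/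
theorem Tr.eigen {v φ : Fin n → F} {s : Matrix.SpecialLinearGroup (Fin n) F} (h : Tr v φ s) {u : Fin n → F} (hu : u ≠ 0)
    {c : F} (hc : (s : Matrix (Fin n) (Fin n) F) *ᵥ u = c • u) : c = 1 := by
  rw [h.2.2, add_mulVec, one_mulVec, tmv] at hc
  by_cases h0 : φ ⬝ᵥ u = 0
  · rw [h0, zero_smul, add_zero] at hc
    have h1 : (c - 1) • u = 0 := by rw [sub_smul, one_smul, ← hc, sub_self]
    rcases smul_eq_zero.1 h1 with h2 | h2
    · exact sub_eq_zero.1 h2
    · exact absurd h2 hu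
  · have h1 : (φ ⬝ᵥ u) • v = (c - 1) • u := by rw [sub_smul, one_smul, ← hc]; abel
    have h2 := congrArg (fun z => φ ⬝ᵥ z) h1
    simp only [dotProduct_smul, h.dot, smul_eq_mul, mul_zero] at h2
    rcases mul_eq_zero.1 h2.symm with h3 | h3
    · exact sub_eq_zero.1 h3
    · exact absurd h3 h0

/-- equality of classes in `PSL` -/
theorem mk_eq_iff (s t : Matrix.SpecialLinearGroup (Fin n) F) :
    (QuotientGroup.mk s : Matrix.ProjectiveSpecialLinearGroup (Fin n) F) = QuotientGroup.mk t ↔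
      ∃ c : F, (t : Matrix (Fin n) (Fin n) F) = c • (s : Matrix (Fin n) (Fin n) F) := by
  have hs' : (s : Matrix (Fin n) (Fin n) F) * ((s⁻¹ : Matrix.SpecialLinearGroup (Fin n) F) : Matrix (Fin n) (Fin n) F) = 1 := by
    rw [← Matrix.SpecialLinearGroup.coe_mul, mul_inv_cancel, Matrix.SpecialLinearGroup.coe_one]
  have hs'' : ((s⁻¹ : Matrix.SpecialLinearGroup (Fin n) F) : Matrix (Fin n) (Fin n) F) * (s : Matrix (Fin n) (Fin n) F) = 1 := by
    rw [← Matrix.SpecialLinearGroup.coe_mul, inv_mul_cancel, Matrix.SpecialLinearGroup.coe_one]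
  rw [QuotientGroup.eq, Matrix.SpecialLinearGroup.mem_center_iff]
  constructor
  · rintro ⟨r, _, hr⟩
    refine ⟨r, ?_⟩
    rw [Matrix.SpecialLinearGroup.coe_mul] at hr
    have h1 := congrArg (fun z => (s : Matrix (Fin n) (Fin n) F) * z) hr
    simp only [← mul_assoc, hs', one_mul] at h1
    rw [← h1, scalar_apply, ← smul_one_eq_diagonal, Matrix.mul_smul, mul_one]
  · rintro ⟨c, hc⟩
    refine ⟨c, ?_, ?_⟩
    · have h1 : (t : Matrix (Fin n) (Fin n) F).det = 1 := t.2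
      have h2 : (s : Matrix (Fin n) (Fin n) F).det = 1 := s.2
      rw [hc, det_smul, h2, mul_one] at h1
      exact h1
    · rw [Matrix.SpecialLinearGroup.coe_mul, hc, Matrix.mul_smul, hs'', scalar_apply, ← smul_one_eq_diagonal]

theorem Tr.mk_inj {v φ w ψ : Fin n → F} {s t : Matrix.SpecialLinearGroup (Fin n) F} (h : Tr v φ s) (h' : Tr w ψ t)
    (hst : (QuotientGroup.mk s : Matrix.ProjectiveSpecialLinearGroup (Fin n) F) = QuotientGroup.mk t) : s = t := by
  obtain ⟨c, hc⟩ := (mk_eq_iff s t).1 hst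
  have h1 : (s : Matrix (Fin n) (Fin n) F) *ᵥ v = v := by
    rw [h.2.2, add_mulVec, one_mulVec, tmv, h.dot, zero_smul, add_zero]
  have h2 : (t : Matrix (Fin n) (Fin n) F) *ᵥ v = c • v := by rw [hc, smul_mulVec, h1]
  have h3 := h'.eigen h.1 h2
  rw [h3, one_smul] at hc
  exact Subtype.ext hc.symm

/-- a linear functional not proportional to a second one -/
theorem exists_dot {φ ψ : Fin n → F} (hψ : ψ ≠ 0) (h : ¬ ∃ c : F, φ = c • ψ) : ∃ x, ψ ⬝ᵥ x = 0 ∧ φ ⬝ᵥ x = 1 := by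
  classical
  obtain ⟨i, hi⟩ := Function.ne_iff.1 hψ
  rw [Pi.zero_apply] at hi
  have h1 : ∃ j, φ j * ψ i - φ i * ψ j ≠ 0 := by
    by_contra hcon
    push Not at hcon
    apply h
    refine ⟨φ i / ψ i, ?_⟩
    ext j
    rw [Pi.smul_apply, smul_eq_mul, div_mul_eq_mul_div, eq_div_iff hi]
    exact sub_eq_zero.1 (hcon j)
  obtain ⟨j, hj⟩ := h1
  refine ⟨(φ j * ψ i - φ i * ψ j)⁻¹ • (ψ i • Pi.single j 1 - ψ j • Pi.single i 1), ?_, ?_⟩
  · rw [dotProduct_smul, dotProduct_sub, dotProduct_smul, dotProduct_smul, dotProduct_single, dotProduct_single]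
    simp [mul_comm]
  · rw [dotProduct_smul, dotProduct_sub, dotProduct_smul, dotProduct_smul, dotProduct_single, dotProduct_single]
    simp only [smul_eq_mul, mul_one]
    rw [mul_comm (ψ i), mul_comm (ψ j)]
    exact inv_mul_cancel₀ hj

theorem exists_common (hn : 3 ≤ n) (φ ψ : Fin n → F) : ∃ u : Fin n → F, u ≠ 0 ∧ φ ⬝ᵥ u = 0 ∧ ψ ⬝ᵥ u = 0 := by
  let f : (Fin n → F) →ₗ[F] (Fin 2 → F) := (Matrix.of ![φ, ψ]).mulVecLin
  have h1 : LinearMap.ker f ≠ ⊥ := by
    intro hbot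
    have hinj := LinearMap.ker_eq_bot.1 hbot
    have := LinearMap.finrank_le_finrank_of_injective hinj
    rw [Module.finrank_fin_fun, Module.finrank_fin_fun] at this
    omega
  obtain ⟨u, hu, hu0⟩ := Submodule.exists_mem_ne_zero_of_ne_bot h1
  refine ⟨u, hu0, ?_, ?_⟩
  · exact congrFun (LinearMap.mem_ker.1 hu) 0
  · exact congrFun (LinearMap.mem_ker.1 hu) 1

/-- `s` and `t` have the same point -/
def SP (s t : Matrix.SpecialLinearGroup (Fin n) F) : Prop := ∃ v φ ψ, Tr v φ s ∧ Tr v ψ t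

/-- `s` and `t` have the same hyperplane -/
def SH (s t : Matrix.SpecialLinearGroup (Fin n) F) : Prop := ∃ v w φ, Tr v φ s ∧ Tr w φ t

theorem SP_iff {v φ w ψ : Fin n → F} {s t : Matrix.SpecialLinearGroup (Fin n) F} (h : Tr v φ s) (h' : Tr w ψ t) :
    SP s t ↔ Par v w := by
  constructor
  · rintro ⟨a, b, c, h1, h2⟩
    obtain ⟨d, hd, hd', _⟩ := h.unique h1
    obtain ⟨e, he, he', _⟩ := h2.unique h'
    exact Par.trans ⟨d, hd, hd'⟩ ⟨e, he, he'⟩
  · intro hp
    obtain ⟨ψ', _, h3⟩ := h.of_par_left hp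
    exact ⟨w, ψ', ψ, h3, h'⟩

theorem SH_iff {v φ w ψ : Fin n → F} {s t : Matrix.SpecialLinearGroup (Fin n) F} (h : Tr v φ s) (h' : Tr w ψ t) :
    SH s t ↔ Par φ ψ := by
  constructor
  · rintro ⟨a, b, c, h1, h2⟩
    obtain ⟨d, hd, _, hd'⟩ := h.unique h1
    obtain ⟨e, he, _, he'⟩ := h2.unique h'
    exact Par.trans (Par.symm ⟨d, hd, hd'⟩) (Par.symm ⟨e, he, he'⟩)
  · intro hp
    obtain ⟨v', _, h3⟩ := h.of_par_right hp
    exact ⟨v', w, ψ, h3, h'⟩

/-- `s` is a transvection -/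
def IsT (s : Matrix.SpecialLinearGroup (Fin n) F) : Prop := ∃ v φ, Tr v φ s

/-- the product of the transvections `s` and `t` is a transvection or trivial in `PSL` -/
def Rel (s t : Matrix.SpecialLinearGroup (Fin n) F) : Prop :=
  (QuotientGroup.mk (s * t) : Matrix.ProjectiveSpecialLinearGroup (Fin n) F) = 1 ∨
    ∃ r, IsT r ∧ (QuotientGroup.mk (s * t) : Matrix.ProjectiveSpecialLinearGroup (Fin n) F) = QuotientGroup.mk r

theorem Rel_iff (hn : 3 ≤ n) {v φ w ψ : Fin n → F} {s t : Matrix.SpecialLinearGroup (Fin n) F} (h : Tr v φ s)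
    (h' : Tr w ψ t) : Rel s t ↔ (Par v w ∨ Par φ ψ) := by
  constructor
  · intro hr
    -- `s t = 1 + a ⊗ χ`
    obtain ⟨a, χ, hst⟩ : ∃ a χ : Fin n → F, ((s * t : Matrix.SpecialLinearGroup (Fin n) F) : Matrix (Fin n) (Fin n) F) = 1 + vecMulVec a χ := by
      obtain ⟨u, hu, hu1, hu2⟩ := exists_common hn φ ψ
      have hfix : ((s * t : Matrix.SpecialLinearGroup (Fin n) F) : Matrix (Fin n) (Fin n) F) *ᵥ u = u := by
        rw [Matrix.SpecialLinearGroup.coe_mul, ← mulVec_mulVec, h'.2.2, add_mulVec, one_mulVec, tmv, hu2, zero_smul, add_zero,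
          h.2.2, add_mulVec, one_mulVec, tmv, hu1, zero_smul, add_zero]
      rcases hr with hr | ⟨r, ⟨a, χ, har⟩, hr⟩
      · rw [← QuotientGroup.mk_one, mk_eq_iff] at hr
        obtain ⟨c, hc⟩ := hr
        rw [Matrix.SpecialLinearGroup.coe_one] at hc
        have h1 : c • u = u := by
          conv_lhs => rw [← hfix]
          rw [← smul_mulVec, ← hc, one_mulVec]
        have h2 : c = 1 := by
          have h3 : (c - 1) • u = 0 := by rw [sub_smul, one_smul, h1, sub_self]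
          rcases smul_eq_zero.1 h3 with h4 | h4
          · exact sub_eq_zero.1 h4
          · exact absurd h4 hu
        rw [h2, one_smul] at hc
        exact ⟨0, 0, by rw [← hc]; simp⟩
      · rw [mk_eq_iff] at hr
        obtain ⟨c, hc⟩ := hr
        have h1 : (r : Matrix (Fin n) (Fin n) F) *ᵥ u = c • u := by rw [hc, smul_mulVec, hfix]
        have h2 := har.eigen hu h1
        rw [h2, one_smul] at hc
        exact ⟨a, χ, by rw [← hc, har.2.2]⟩
    rw [Matrix.SpecialLinearGroup.coe_mul, h.2.2, h'.2.2, mul_add, mul_one, add_mul, one_mul, vecMulVec_mul_vecMulVec, add_assoc] at hst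
    have h1 := add_left_cancel hst
    by_contra hcon
    push Not at hcon
    obtain ⟨hcon1, hcon2⟩ := hcon
    have hc : ¬ ∃ c : F, φ = c • ψ := by
      rintro ⟨c, hc⟩
      apply hcon2
      refine Par.symm ⟨c, ?_, hc⟩
      rintro rfl
      exact h.2.1 (by rw [hc, zero_smul])
    have hc' : ¬ ∃ c : F, ψ = c • (φ + (φ ⬝ᵥ w) • ψ) := by
      rintro ⟨c, hc'⟩
      rcases eq_or_ne c 0 with h0 | h0
      · rw [h0, zero_smul] at hc'
        exact h'.2.1 hc'
      · apply hc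
        refine ⟨c⁻¹ - φ ⬝ᵥ w, ?_⟩
        rw [sub_smul, eq_sub_iff_add_eq]
        conv_rhs => rw [hc']
        rw [smul_smul, inv_mul_cancel₀ h0, one_smul]
    obtain ⟨x, hx1, hx2⟩ := exists_dot h'.2.1 hc
    have hne : φ + (φ ⬝ᵥ w) • ψ ≠ 0 := by
      intro h0
      apply hc
      exact ⟨-(φ ⬝ᵥ w), by rw [neg_smul]; exact eq_neg_of_add_eq_zero_left h0⟩
    obtain ⟨y, hy1, hy2⟩ := exists_dot hne hc'
    have h2 : v = (χ ⬝ᵥ x) • a := by
      have h3 := congrArg (fun M => M *ᵥ x) h1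
      simp only [add_mulVec, tmv, hx1, zero_smul, zero_add] at h3
      rw [smul_dotProduct, hx1, smul_zero, zero_smul, add_zero, hx2, one_smul] at h3
      exact h3
    have h3 : w = (χ ⬝ᵥ y) • a := by
      have h3 := congrArg (fun M => M *ᵥ y) h1
      simp only [add_mulVec, tmv] at h3
      rw [smul_dotProduct, hy2] at h3
      rw [add_dotProduct, smul_dotProduct, hy2] at hy1
      rw [← add_assoc, one_smul, add_right_comm, ← add_smul, hy1, zero_smul, zero_add] at h3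
      exact h3
    apply hcon1
    have hx0 : χ ⬝ᵥ x ≠ 0 := by
      intro h0
      rw [h0, zero_smul] at h2
      exact h.1 h2
    have hy0 : χ ⬝ᵥ y ≠ 0 := by
      intro h0
      rw [h0, zero_smul] at h3
      exact h'.1 h3
    exact Par.trans (Par.symm ⟨_, hx0, h2⟩) ⟨_, hy0, h3⟩
  · rintro (hp | hp)
    · obtain ⟨ψ', _, h1⟩ := h.of_par_left hp
      by_cases h0 : ψ' + ψ = 0
      · left
        have h2 : s * t = 1 := by
          apply Subtype.ext
          rw [Matrix.SpecialLinearGroup.coe_mul, h1.2.2, h'.2.2, mul_add, mul_one, add_mul, one_mul, vecMulVec_mul_vecMulVec, h1.dot,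
            zero_smul, vecMulVec_zero, add_zero, add_assoc, ← vecMulVec_add, h0, vecMulVec_zero, add_zero]
          rfl
        rw [h2]; rfl
      · right
        exact ⟨_, ⟨_, _, h1.mul_left h' h0⟩, rfl⟩
    · obtain ⟨v', _, h1⟩ := h.of_par_right hp
      by_cases h0 : v' + w = 0
      · left
        have h2 : s * t = 1 := by
          apply Subtype.ext
          rw [Matrix.SpecialLinearGroup.coe_mul, h1.2.2, h'.2.2, mul_add, mul_one, add_mul, one_mul, vecMulVec_mul_vecMulVec, h'.dot,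
            zero_smul, vecMulVec_zero, add_zero, add_assoc, ← add_vecMulVec, h0, zero_vecMulVec, add_zero]
          rfl
        rw [h2]; rfl
      · right
        exact ⟨_, ⟨_, _, h1.mul_right h' h0⟩, rfl⟩

end CfsgLib.AutPSL
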