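import Mathlib

set_option autoImplicit false

namespace CfsgLib.SqZero

open Module

variable {F V : Type*} [Field F] [AddCommGroup V] [Module F V] [FiniteDimensional F V]

/-- canonical basis of a square-zero endomorphism. -/
theorem exists_basis (N : V →ₗ[F] V) (hN : N ∘ₗ N = 0) {l s : ℕ} (hl : finrank F (LinearMap.range N) = l)
    (hs : finrank F V = l + (l + s)) :
    ∃ b : Basis (Fin l ⊕ (Fin l ⊕ Fin s)) F V,
      (∀ i, N (b (Sum.inl i)) = b (Sum.inr (Sum.inl i))) ∧ (∀ i, N (b (Sum.inr i)) = 0) := by
  classical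
  have hIK : LinearMap.range N ≤ LinearMap.ker N := by
    rintro _ ⟨x, rfl⟩
    exact LinearMap.congr_fun hN x
  let bI : Basis (Fin l) F (LinearMap.range N) := finBasisOfFinrankEq F _ hl
  have hw : ∀ i, ∃ w, N w = (bI i : V) := fun i => (bI i).2
  choose w hw using hw
  obtain ⟨L', hL'⟩ := exists_isCompl ((LinearMap.range N).comap (LinearMap.ker N).subtype)
  have hkdim : finrank F (LinearMap.ker N) = l + s := by
    have := LinearMap.finrank_range_add_finrank_ker N
    omega
  have hcomap : finrank F ((LinearMap.range N).comap (LinearMap.ker N).subtype) = l := by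
    rw [(Submodule.comapSubtypeEquivOfLe hIK).finrank_eq, hl]
  have hL'dim : finrank F L' = s := by
    have := Submodule.finrank_add_eq_of_isCompl hL'
    omega
  let bL : Basis (Fin s) F L' := finBasisOfFinrankEq F _ hL'dim
  let f : Fin l ⊕ (Fin l ⊕ Fin s) → V := Sum.elim w (Sum.elim (fun i => (bI i : V)) (fun j => ((bL j : LinearMap.ker N) : V)))
  have hli : LinearIndependent F f := by
    rw [Fintype.linearIndependent_iff]
    intro g hg
    rw [Fintype.sum_sum_type, Fintype.sum_sum_type] at hg
    simp only [f, Sum.elim_inl, Sum.elim_inr] at hg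
    have h1 := congrArg N hg
    rw [map_add, map_add, map_zero, map_sum, map_sum, map_sum] at h1
    have h2 : ∑ x, N (g (Sum.inr (Sum.inl x)) • (bI x : V)) = 0 := by
      apply Finset.sum_eq_zero
      intro x _
      rw [map_smul, show N (bI x : V) = 0 from hIK (bI x).2, smul_zero]
    have h3 : ∑ x, N (g (Sum.inr (Sum.inr x)) • ((bL x : LinearMap.ker N) : V)) = 0 := by
      apply Finset.sum_eq_zero
      intro x _
      rw [map_smul, show N ((bL x : LinearMap.ker N) : V) = 0 from (bL x : LinearMap.ker N).2, smul_zero]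
    rw [h2, h3, add_zero, add_zero] at h1
    have h4 : ∑ x, g (Sum.inl x) • bI x = 0 := by
      apply Subtype.ext
      rw [Submodule.coe_sum]
      simp only [Submodule.coe_smul, Submodule.coe_zero]
      rw [← h1]
      apply Finset.sum_congr rfl
      intro x _
      rw [map_smul, hw]
    have h5 : ∀ x, g (Sum.inl x) = 0 := Fintype.linearIndependent_iff.1 bI.linearIndependent _ h4
    have h6 : ∑ x, g (Sum.inr (Sum.inl x)) • (bI x : V) + ∑ x, g (Sum.inr (Sum.inr x)) • ((bL x : LinearMap.ker N) : V) = 0 := by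
      rw [← hg]
      simp [h5]
    -- the L' part
    set y : LinearMap.ker N := ∑ x, g (Sum.inr (Sum.inr x)) • (bL x : LinearMap.ker N) with hy
    have hyV : (y : V) = ∑ x, g (Sum.inr (Sum.inr x)) • ((bL x : LinearMap.ker N) : V) := by
      rw [hy, Submodule.coe_sum]; rfl
    have hyL : y ∈ L' := by
      rw [hy]
      exact Submodule.sum_mem _ fun x _ => L'.smul_mem _ (bL x).2
    have hyI : y ∈ (LinearMap.range N).comap (LinearMap.ker N).subtype := by
      show (y : V) ∈ LinearMap.range N
      rw [hyV, ← neg_eq_of_add_eq_zero_right h6]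
      apply Submodule.neg_mem
      exact Submodule.sum_mem _ fun x _ => Submodule.smul_mem _ _ (bI x).2
    have hy0 : y = 0 := by
      have := (Submodule.disjoint_def.1 hL'.disjoint) y hyI hyL
      exact this
    have h7 : ∑ x, g (Sum.inr (Sum.inr x)) • bL x = 0 := by
      apply Subtype.ext
      rw [Submodule.coe_sum]
      exact hy0
    have h8 : ∀ x, g (Sum.inr (Sum.inr x)) = 0 := Fintype.linearIndependent_iff.1 bL.linearIndependent _ h7
    have h9 : ∑ x, g (Sum.inr (Sum.inl x)) • bI x = 0 := by
      apply Subtype.ext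
      rw [Submodule.coe_sum]
      rw [← hyV, hy0] at h6
      simpa using h6
    have h10 : ∀ x, g (Sum.inr (Sum.inl x)) = 0 := Fintype.linearIndependent_iff.1 bI.linearIndependent _ h9
    rintro (i | i | i)
    · exact h5 i
    · exact h10 i
    · exact h8 i
  have hcard : Fintype.card (Fin l ⊕ (Fin l ⊕ Fin s)) = finrank F V := by simp [hs]
  rcases isEmpty_or_nonempty (Fin l ⊕ (Fin l ⊕ Fin s)) with he | he
  · have h0 : finrank F V = 0 := by rw [← hcard]; exact Fintype.card_eq_zero
    have : Subsingleton V := finrank_zero_iff.1 h0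
    exact ⟨Basis.empty V, fun i => (he.false (Sum.inl i)).elim, fun i => (he.false (Sum.inr i)).elim⟩
  · let b := basisOfLinearIndependentOfCardEqFinrank hli hcard
    have hb : ∀ i, b i = f i := fun i => by simp [b]
    refine ⟨b, ?_, ?_⟩
    · intro i
      rw [hb, hb]
      exact hw i
    · rintro (i | i)
      · rw [hb]; exact hIK (bI i).2
      · rw [hb]; exact (bL i : LinearMap.ker N).2

/-- square-zero endomorphisms of the same rank are conjugate -/
theorem exists_equiv (N N' : V →ₗ[F] V) (hN : N ∘ₗ N = 0) (hN' : N' ∘ₗ N' = 0)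
    (hr : finrank F (LinearMap.range N) = finrank F (LinearMap.range N')) :
    ∃ e : V ≃ₗ[F] V, ∀ v, e (N v) = N' (e v) := by
  have hle : finrank F (LinearMap.range N) + finrank F (LinearMap.range N) ≤ finrank F V := by
    have h1 := LinearMap.finrank_range_add_finrank_ker N
    have h2 : finrank F (LinearMap.range N) ≤ finrank F (LinearMap.ker N) := by
      apply Submodule.finrank_mono
      rintro _ ⟨x, rfl⟩
      exact LinearMap.congr_fun hN x
    omega
  obtain ⟨s, hs⟩ := Nat.exists_eq_add_of_le hle
  obtain ⟨b, hb1, hb2⟩ := exists_basis (s := s) N hN rfl (by omega)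
  obtain ⟨b', hb1', hb2'⟩ := exists_basis (s := s) N' hN' hr.symm (by omega)
  refine ⟨b.equiv b' (Equiv.refl _), ?_⟩
  have : ((b.equiv b' (Equiv.refl _)) : V →ₗ[F] V) ∘ₗ N = N' ∘ₗ ((b.equiv b' (Equiv.refl _)) : V →ₗ[F] V) := by
    apply b.ext
    rintro (i | i)
    · simp [hb1, hb1']
    · simp [hb2, hb2']
  intro v
  exact LinearMap.congr_fun this v

/-- the centralizer of a square-zero endomorphism contains elements of prescribed determinant:
any determinant if `2 rank < dim`, any square determinant if `rank ≥ 1`. -/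
theorem exists_commuting_det (N : V →ₗ[F] V) (hN : N ∘ₗ N = 0) (δ : F)
    (h : 2 * finrank F (LinearMap.range N) < finrank F V ∨ (1 ≤ finrank F (LinearMap.range N) ∧ IsSquare δ)) :
    ∃ D : V →ₗ[F] V, D ∘ₗ N = N ∘ₗ D ∧ LinearMap.det D = δ := by
  classical
  have hle : finrank F (LinearMap.range N) + finrank F (LinearMap.range N) ≤ finrank F V := by
    have h1 := LinearMap.finrank_range_add_finrank_ker N
    have h2 : finrank F (LinearMap.range N) ≤ finrank F (LinearMap.ker N) := by
      apply Submodule.finrank_mono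
      rintro _ ⟨x, rfl⟩
      exact LinearMap.congr_fun hN x
    omega
  obtain ⟨s, hs⟩ := Nat.exists_eq_add_of_le hle
  obtain ⟨b, hb1, hb2⟩ := exists_basis (s := s) N hN rfl (by omega)
  rcases h with h | ⟨h, ⟨c, hc⟩⟩
  · have hs1 : 0 < s := by omega
    let d : Fin (finrank F (LinearMap.range N)) ⊕ (Fin (finrank F (LinearMap.range N)) ⊕ Fin s) → F :=
      Sum.elim (fun _ => 1) (Sum.elim (fun _ => 1) (fun j => if j = ⟨0, hs1⟩ then δ else 1))
    refine ⟨Matrix.toLin b b (Matrix.diagonal d), ?_, ?_⟩
    · apply b.ext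
      rintro (i | i)
      · simp only [LinearMap.comp_apply, hb1, Matrix.toLin_self, Matrix.diagonal_apply, ite_smul, zero_smul,
          Finset.sum_ite_eq', Finset.mem_univ, if_true, map_smul]
        simp [d]
      · simp only [LinearMap.comp_apply, hb2, Matrix.toLin_self, Matrix.diagonal_apply, ite_smul, zero_smul,
          Finset.sum_ite_eq', Finset.mem_univ, if_true, map_smul, map_zero, smul_zero]
    · rw [LinearMap.det_toLin, Matrix.det_diagonal, Fintype.prod_sum_type, Fintype.prod_sum_type]
      simp [d]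
  · let d : Fin (finrank F (LinearMap.range N)) ⊕ (Fin (finrank F (LinearMap.range N)) ⊕ Fin s) → F :=
      Sum.elim (fun j => if j = ⟨0, h⟩ then c else 1) (Sum.elim (fun j => if j = ⟨0, h⟩ then c else 1) (fun _ => 1))
    refine ⟨Matrix.toLin b b (Matrix.diagonal d), ?_, ?_⟩
    · apply b.ext
      rintro (i | i)
      · simp only [LinearMap.comp_apply, hb1, Matrix.toLin_self, Matrix.diagonal_apply, ite_smul, zero_smul,
          Finset.sum_ite_eq', Finset.mem_univ, if_true, map_smul]
        simp [d]
      · simp only [LinearMap.comp_apply, hb2, Matrix.toLin_self, Matrix.diagonal_apply, ite_smul, zero_smul,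
          Finset.sum_ite_eq', Finset.mem_univ, if_true, map_smul, map_zero, smul_zero]
    · rw [LinearMap.det_toLin, Matrix.det_diagonal, Fintype.prod_sum_type, Fintype.prod_sum_type]
      simp [d, hc]

/-- square-zero displaced elements of `SL_n` with the same rank are conjugate in `SL_n`,
if `2 rank < n`, or all field elements are squares. -/
theorem sl_conj {ι : Type*} [Fintype ι] [DecidableEq ι] {F : Type*} [Field F] (s t : Matrix.SpecialLinearGroup ι F)
    (hs : ((s : Matrix ι ι F) - 1) * ((s : Matrix ι ι F) - 1) = 0)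
    (ht : ((t : Matrix ι ι F) - 1) * ((t : Matrix ι ι F) - 1) = 0)
    (hr : ((s : Matrix ι ι F) - 1).rank = ((t : Matrix ι ι F) - 1).rank)
    (h : 2 * ((s : Matrix ι ι F) - 1).rank < Fintype.card ι ∨ ∀ x : F, IsSquare x) : IsConj s t := by
  classical
  rcases Nat.eq_zero_or_pos ((s : Matrix ι ι F) - 1).rank with h0 | h0
  · have e1 : ∀ M : Matrix ι ι F, M.rank = 0 → M = 0 := by
      intro M hM
      have h1 : LinearMap.range M.mulVecLin = ⊥ := Submodule.finrank_eq_zero.1 hM
      rw [LinearMap.range_eq_bot] at h1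
      apply Matrix.ext_of_mulVec_single
      intro i
      have := LinearMap.congr_fun h1 (Pi.single i 1)
      rw [Matrix.zero_mulVec]
      exact this
    have hs1 := e1 _ h0
    have ht1 := e1 _ (by rw [← hr]; exact h0)
    have : s = t := by
      apply Subtype.ext
      exact (sub_eq_zero.1 hs1).trans (sub_eq_zero.1 ht1).symm
    rw [this]
  · set Ns := ((s : Matrix ι ι F) - 1).mulVecLin with hNs
    set Nt := ((t : Matrix ι ι F) - 1).mulVecLin with hNt
    have hNs2 : Ns ∘ₗ Ns = 0 := by
      rw [hNs, ← Matrix.mulVecLin_mul, hs]; ext; simp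
    have hNt2 : Nt ∘ₗ Nt = 0 := by
      rw [hNt, ← Matrix.mulVecLin_mul, ht]; ext; simp
    obtain ⟨e, he⟩ := exists_equiv Ns Nt hNs2 hNt2 hr
    have hdet0 : LinearMap.det (e : (ι → F) →ₗ[F] (ι → F)) ≠ 0 := (LinearEquiv.isUnit_det' e).ne_zero
    obtain ⟨D, hD1, hD2⟩ := exists_commuting_det Ns hNs2 (LinearMap.det (e : (ι → F) →ₗ[F] (ι → F)))⁻¹ (by
      rcases h with h | h
      · left
        rw [Module.finrank_fintype_fun_eq_card]
        exact h
      · right
        exact ⟨h0, h _⟩)
    let P : Matrix ι ι F := LinearMap.toMatrix' ((e : (ι → F) →ₗ[F] (ι → F)) ∘ₗ D)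
    have hP : P.det = 1 := by
      rw [LinearMap.det_toMatrix', LinearMap.det_comp, hD2, mul_inv_cancel₀ hdet0]
    have hPs : P * ((s : Matrix ι ι F) - 1) = ((t : Matrix ι ι F) - 1) * P := by
      have h1 : LinearMap.toMatrix' Ns = (s : Matrix ι ι F) - 1 := by
        rw [hNs]; exact LinearMap.toMatrix'_toLin' _
      have h2 : LinearMap.toMatrix' Nt = (t : Matrix ι ι F) - 1 := by
        rw [hNt]; exact LinearMap.toMatrix'_toLin' _
      rw [← h1, ← h2, ← LinearMap.toMatrix'_comp, ← LinearMap.toMatrix'_comp]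
      congr 1
      ext1 v
      apply LinearMap.ext
      intro x
      simp only [LinearMap.comp_apply]
      have h3 := LinearMap.congr_fun hD1
      simp only [LinearMap.comp_apply] at h3
      rw [h3]
      exact he _
    rw [isConj_iff]
    let P' : Matrix.SpecialLinearGroup ι F := ⟨P, hP⟩
    refine ⟨P', ?_⟩
    rw [mul_inv_eq_iff_eq_mul]
    apply Subtype.ext
    rw [Matrix.SpecialLinearGroup.coe_mul, Matrix.SpecialLinearGroup.coe_mul]
    show P * (s : Matrix ι ι F) = (t : Matrix ι ι F) * P
    rw [mul_sub, sub_mul, mul_one, one_mul, sub_left_inj] at hPs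
    exact hPs

end CfsgLib.SqZero
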