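import Cfsg.Agent.Lib.AutPSL1
import Cfsg.Agent.Lib.SqZero
import Cfsg.Agent.Lib.Unip

/-!
# Automorphisms of `PSL_n(F)`, part 2: semilinear automorphisms; automorphisms preserve transvections.
-/

set_option autoImplicit false

namespace CfsgLib.AutPSL

open Matrix
open scoped Pointwise

variable {F : Type*} [Field F] {n : ℕ}

/-- the automorphism `s ↦ g σ(s) g⁻¹` of `SL_n(F)` -/
def semi (g : GL (Fin n) F) (σ : F ≃+* F) :
    Matrix.SpecialLinearGroup (Fin n) F ≃* Matrix.SpecialLinearGroup (Fin n) F where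
  toFun s := ⟨g.1 * (s : Matrix (Fin n) (Fin n) F).map σ * (g⁻¹).1, by
    have h1 : ((s : Matrix (Fin n) (Fin n) F).map σ).det = 1 := by
      have h2 := RingHom.map_det (σ : F →+* F) (s : Matrix (Fin n) (Fin n) F)
      have h3 : (s : Matrix (Fin n) (Fin n) F).det = 1 := s.2
      rw [h3, map_one] at h2
      exact h2.symm
    rw [det_mul, det_mul, h1, mul_one, ← det_mul, g.mul_inv, det_one]⟩
  invFun s := ⟨((g⁻¹).1 * (s : Matrix (Fin n) (Fin n) F) * g.1).map σ.symm, by
    have h3 : (s : Matrix (Fin n) (Fin n) F).det = 1 := s.2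
    have h1 : ((g⁻¹).1 * (s : Matrix (Fin n) (Fin n) F) * g.1).det = 1 := by
      rw [det_mul, det_mul, h3, mul_one, ← det_mul, g.inv_mul, det_one]
    have h2 := RingHom.map_det (σ.symm : F →+* F) ((g⁻¹).1 * (s : Matrix (Fin n) (Fin n) F) * g.1)
    rw [h1, map_one] at h2
    exact h2.symm⟩
  left_inv s := by
    apply Subtype.ext
    show ((g⁻¹).1 * (g.1 * (s : Matrix (Fin n) (Fin n) F).map σ * (g⁻¹).1) * g.1).map σ.symm = (s : Matrix (Fin n) (Fin n) F)
    have h1 : (g⁻¹).1 * (g.1 * (s : Matrix (Fin n) (Fin n) F).map σ * (g⁻¹).1) * g.1 = (s : Matrix (Fin n) (Fin n) F).map σ := by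
      rw [mul_assoc, mul_assoc (g.1 * _), g.inv_mul, mul_one, ← mul_assoc, g.inv_mul, one_mul]
    rw [h1]
    ext i j
    simp
  right_inv s := by
    apply Subtype.ext
    show g.1 * (((g⁻¹).1 * (s : Matrix (Fin n) (Fin n) F) * g.1).map σ.symm).map σ * (g⁻¹).1 = (s : Matrix (Fin n) (Fin n) F)
    have h1 : (((g⁻¹).1 * (s : Matrix (Fin n) (Fin n) F) * g.1).map σ.symm).map σ = (g⁻¹).1 * (s : Matrix (Fin n) (Fin n) F) * g.1 := by
      ext i j
      exact σ.apply_symm_apply _
    rw [h1, mul_assoc, mul_assoc ((g⁻¹).1 * _), g.mul_inv, mul_one, ← mul_assoc, g.mul_inv, one_mul]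
  map_mul' s t := by
    apply Subtype.ext
    show g.1 * ((s : Matrix (Fin n) (Fin n) F) * (t : Matrix (Fin n) (Fin n) F)).map σ * (g⁻¹).1 =
      (g.1 * (s : Matrix (Fin n) (Fin n) F).map σ * (g⁻¹).1) * (g.1 * (t : Matrix (Fin n) (Fin n) F).map σ * (g⁻¹).1)
    have h1 : ((s : Matrix (Fin n) (Fin n) F) * (t : Matrix (Fin n) (Fin n) F)).map σ = (s : Matrix (Fin n) (Fin n) F).map σ * (t : Matrix (Fin n) (Fin n) F).map σ :=
      Matrix.map_mul (f := (σ : F →+* F))
    rw [h1]
    have h2 : (g⁻¹).1 * g.1 = 1 := g.inv_mul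
    calc g.1 * ((s : Matrix (Fin n) (Fin n) F).map σ * (t : Matrix (Fin n) (Fin n) F).map σ) * (g⁻¹).1
        = g.1 * (s : Matrix (Fin n) (Fin n) F).map σ * 1 * (t : Matrix (Fin n) (Fin n) F).map σ * (g⁻¹).1 := by
          rw [mul_one]; simp only [mul_assoc]
      _ = _ := by rw [← h2]; simp only [mul_assoc]

theorem semi_coe (g : GL (Fin n) F) (σ : F ≃+* F) (s : Matrix.SpecialLinearGroup (Fin n) F) :
    ((semi g σ s : Matrix.SpecialLinearGroup (Fin n) F) : Matrix (Fin n) (Fin n) F) =
      g.1 * (s : Matrix (Fin n) (Fin n) F).map σ * (g⁻¹).1 := rfl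

/-- the inverse-transpose automorphism of `SL_n(F)` -/
def invTr : Matrix.SpecialLinearGroup (Fin n) F ≃* Matrix.SpecialLinearGroup (Fin n) F where
  toFun s := (s⁻¹).transpose
  invFun s := (s⁻¹).transpose
  left_inv s := by
    apply Subtype.ext
    show (((((s⁻¹ : Matrix.SpecialLinearGroup (Fin n) F) : Matrix (Fin n) (Fin n) F).transpose).adjugate)).transpose = (s : Matrix (Fin n) (Fin n) F)
    rw [← adjugate_transpose, transpose_transpose]
    show ((s : Matrix (Fin n) (Fin n) F).adjugate).adjugate = _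
    have h1 : ((s⁻¹)⁻¹ : Matrix.SpecialLinearGroup (Fin n) F) = s := inv_inv s
    have := congrArg (fun x : Matrix.SpecialLinearGroup (Fin n) F => (x : Matrix (Fin n) (Fin n) F)) h1
    exact this
  right_inv s := by
    apply Subtype.ext
    show (((((s⁻¹ : Matrix.SpecialLinearGroup (Fin n) F) : Matrix (Fin n) (Fin n) F).transpose).adjugate)).transpose = (s : Matrix (Fin n) (Fin n) F)
    rw [← adjugate_transpose, transpose_transpose]
    show ((s : Matrix (Fin n) (Fin n) F).adjugate).adjugate = _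
    have h1 : ((s⁻¹)⁻¹ : Matrix.SpecialLinearGroup (Fin n) F) = s := inv_inv s
    have := congrArg (fun x : Matrix.SpecialLinearGroup (Fin n) F => (x : Matrix (Fin n) (Fin n) F)) h1
    exact this
  map_mul' s t := by
    apply Subtype.ext
    show (((s * t)⁻¹ : Matrix.SpecialLinearGroup (Fin n) F) : Matrix (Fin n) (Fin n) F).transpose = 
      ((s⁻¹ : Matrix.SpecialLinearGroup (Fin n) F) : Matrix (Fin n) (Fin n) F).transpose *
      ((t⁻¹ : Matrix.SpecialLinearGroup (Fin n) F) : Matrix (Fin n) (Fin n) F).transpose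
    rw [_root_.mul_inv_rev, Matrix.SpecialLinearGroup.coe_mul, transpose_mul]

theorem invTr_coe (s : Matrix.SpecialLinearGroup (Fin n) F) :
    ((invTr s : Matrix.SpecialLinearGroup (Fin n) F) : Matrix (Fin n) (Fin n) F) =
      ((s⁻¹ : Matrix.SpecialLinearGroup (Fin n) F) : Matrix (Fin n) (Fin n) F).transpose := rfl

/-- the automorphism of `PSL` induced by an automorphism of `SL` -/
def psl (e : Matrix.SpecialLinearGroup (Fin n) F ≃* Matrix.SpecialLinearGroup (Fin n) F) :
    MulAut (Matrix.ProjectiveSpecialLinearGroup (Fin n) F) :=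
  QuotientGroup.congr _ _ e (Subgroup.characteristic_iff_map_eq.1 inferInstance e)

theorem psl_mk (e : Matrix.SpecialLinearGroup (Fin n) F ≃* Matrix.SpecialLinearGroup (Fin n) F)
    (s : Matrix.SpecialLinearGroup (Fin n) F) :
    psl e (QuotientGroup.mk s) = QuotientGroup.mk (e s) := rfl

theorem map_vecMulVec (σ : F ≃+* F) (v φ : Fin n → F) :
    (vecMulVec v φ).map σ = vecMulVec (fun i => σ (v i)) (fun i => σ (φ i)) := by
  ext i j
  simp [vecMulVec_apply]

theorem Tr.semi {v φ : Fin n → F} {s : Matrix.SpecialLinearGroup (Fin n) F} (h : Tr v φ s) (g : GL (Fin n) F) (σ : F ≃+* F) :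
    Tr (g.1 *ᵥ fun i => σ (v i)) ((fun i => σ (φ i)) ᵥ* (g⁻¹).1) (semi g σ s) := by
  have hg : g.1 * (g⁻¹).1 = 1 := g.mul_inv
  have hg' : (g⁻¹).1 * g.1 = 1 := g.inv_mul
  refine ⟨?_, ?_, ?_⟩
  · intro h0
    apply h.1
    have := congrArg (fun z => (g⁻¹).1 *ᵥ z) h0
    simp only [mulVec_mulVec, hg', one_mulVec, mulVec_zero] at this
    ext i
    have := congrFun this i
    simpa using this
  · intro h0
    apply h.2.1
    have := congrArg (fun z => z ᵥ* g.1) h0
    simp only [vecMul_vecMul, hg', vecMul_one, zero_vecMul] at this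
    ext i
    have := congrFun this i
    simpa using this
  · rw [semi_coe, h.2.2]
    have h1 : (1 + vecMulVec v φ).map σ = 1 + vecMulVec (fun i => σ (v i)) (fun i => σ (φ i)) := by
      rw [← map_vecMulVec]
      ext i j
      rw [map_apply, Matrix.add_apply, Matrix.add_apply, map_apply, map_add]
      congr 1
      rw [one_apply]
      split_ifs <;> simp
    rw [h1, mul_add, mul_one, add_mul, hg, mul_vecMulVec, vecMulVec_mul]

theorem Tr.invTr {v φ : Fin n → F} {s : Matrix.SpecialLinearGroup (Fin n) F} (h : Tr v φ s) :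
    Tr φ (-v) (invTr s) := by
  refine ⟨h.2.1, neg_ne_zero.2 h.1, ?_⟩
  have h1 : ((s⁻¹ : Matrix.SpecialLinearGroup (Fin n) F) : Matrix (Fin n) (Fin n) F) = 1 - vecMulVec v φ := by
    have h2 : (s : Matrix (Fin n) (Fin n) F) * (1 - vecMulVec v φ) = 1 := by
      rw [h.2.2, mul_sub, mul_one, add_mul, one_mul, vecMulVec_mul_vecMulVec, h.dot, zero_smul, vecMulVec_zero]
      abel
    have h3 : ((s⁻¹ : Matrix.SpecialLinearGroup (Fin n) F) : Matrix (Fin n) (Fin n) F) * (s : Matrix (Fin n) (Fin n) F) = 1 := by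
      rw [← Matrix.SpecialLinearGroup.coe_mul, inv_mul_cancel, Matrix.SpecialLinearGroup.coe_one]
    exact left_inv_eq_right_inv h3 h2
  rw [invTr_coe, h1, transpose_sub, transpose_one, transpose_vecMulVec, vecMulVec_neg]
  exact sub_eq_add_neg _ _

/-- an element with a scalar lift has a trivial class -/
theorem Tr.mk_ne_one {v φ : Fin n → F} {s : Matrix.SpecialLinearGroup (Fin n) F} (h : Tr v φ s) :
    (QuotientGroup.mk s : Matrix.ProjectiveSpecialLinearGroup (Fin n) F) ≠ 1 := by
  intro h0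
  rw [← QuotientGroup.mk_one, mk_eq_iff, Matrix.SpecialLinearGroup.coe_one] at h0
  obtain ⟨c, hc⟩ := h0
  have h1 : (s : Matrix (Fin n) (Fin n) F) *ᵥ v = v := by
    rw [h.2.2, add_mulVec, one_mulVec, tmv, h.dot, zero_smul, add_zero]
  have h2 : v = c • v := by
    conv_lhs => rw [← one_mulVec v, hc, smul_mulVec, h1]
  have h3 : c = 1 := by
    have h4 : (1 - c) • v = 0 := by rw [sub_smul, one_smul, ← h2, sub_self]
    rcases smul_eq_zero.1 h4 with h5 | h5
    · exact (sub_eq_zero.1 h5).symm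
    · exact absurd h5 h.1
  rw [h3, one_smul, h.2.2] at hc
  have h4 : vecMulVec v φ = 0 := by
    have := sub_eq_zero.2 hc.symm
    rwa [add_sub_cancel_left] at this
  rw [vecMulVec_eq_zero] at h4
  rcases h4 with h4 | h4
  · exact h.1 h4
  · exact h.2.1 h4

section uni

variable [Finite F]

/-- upper unitriangular matrices -/
def U (F : Type*) [Field F] [Finite F] (n : ℕ) : Subgroup (Matrix.SpecialLinearGroup (Fin n) F) where
  carrier := {s | ∀ i j, j ≤ i → (s : Matrix (Fin n) (Fin n) F) i j = (1 : Matrix (Fin n) (Fin n) F) i j}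
  one_mem' := fun i j _ => rfl
  mul_mem' := by
    intro s t hs ht i j hij
    rw [Matrix.SpecialLinearGroup.coe_mul, mul_apply]
    rcases eq_or_lt_of_le hij with h | h
    · subst h
      rw [Finset.sum_eq_single j]
      · rw [hs j j le_rfl, ht j j le_rfl, one_apply_eq, one_mul]
      · intro k _ hk
        rcases lt_or_gt_of_ne hk with h1 | h1
        · rw [hs j k h1.le, one_apply_ne h1.ne', zero_mul]
        · rw [ht k j h1.le, one_apply_ne h1.ne', mul_zero]
      · intro h; exact absurd (Finset.mem_univ _) h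
    · rw [one_apply_ne h.ne']
      apply Finset.sum_eq_zero
      intro k _
      rcases lt_or_ge k i with h1 | h1
      · rw [hs i k h1.le, one_apply_ne h1.ne', zero_mul]
      · rw [ht k j (h.le.trans h1), one_apply_ne (h.trans_le h1).ne', mul_zero]
  inv_mem' := by
    intro s hs
    have h1 : s⁻¹ = s ^ (orderOf s - 1) := by
      apply inv_eq_of_mul_eq_one_right
      rw [← pow_succ', Nat.sub_add_cancel (orderOf_pos s), pow_orderOf_eq_one]
    rw [h1]
    generalize orderOf s - 1 = k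
    induction k with
    | zero => rw [pow_zero]; exact fun i j _ => rfl
    | succ k ih =>
      rw [pow_succ]
      intro i j hij
      rw [Matrix.SpecialLinearGroup.coe_mul, mul_apply]
      rcases eq_or_lt_of_le hij with h | h
      · subst h
        rw [Finset.sum_eq_single j]
        · rw [ih j j le_rfl, hs j j le_rfl, one_apply_eq, one_mul]
        · intro k _ hk
          rcases lt_or_gt_of_ne hk with h1 | h1
          · rw [ih j k h1.le, one_apply_ne h1.ne', zero_mul]
          · rw [hs k j h1.le, one_apply_ne h1.ne', mul_zero]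
        · intro h; exact absurd (Finset.mem_univ _) h
      · rw [one_apply_ne h.ne']
        apply Finset.sum_eq_zero
        intro k _
        rcases lt_or_ge k i with h1 | h1
        · rw [ih i k h1.le, one_apply_ne h1.ne', zero_mul]
        · rw [hs k j (h.le.trans h1), one_apply_ne (h.trans_le h1).ne', mul_zero]

theorem U_isPGroup (p : ℕ) [Fact p.Prime] [CharP F p] : IsPGroup p (U F n) := by
  rintro ⟨s, hs⟩
  have hN : ((s : Matrix (Fin n) (Fin n) F) - 1) ^ n = 0 := by
    have h1 : ((s : Matrix (Fin n) (Fin n) F) - 1).charpoly = Polynomial.X ^ n := by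
      rw [charpoly_of_isUpperTriangular]
      · have : ∀ i : Fin n, ((s : Matrix (Fin n) (Fin n) F) - 1) i i = 0 := by
          intro i
          rw [Matrix.sub_apply, hs i i le_rfl, sub_self]
        simp [this]
      · intro i j hij
        have hij' : j < i := hij
        rw [Matrix.sub_apply, hs i j hij'.le, sub_self]
    have h2 := aeval_self_charpoly ((s : Matrix (Fin n) (Fin n) F) - 1)
    rw [h1] at h2
    simpa using h2
  refine ⟨n, ?_⟩
  apply Subtype.ext
  apply Subtype.ext
  show (s : Matrix (Fin n) (Fin n) F) ^ p ^ n = 1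
  have h3 := CfsgLib.Unip.sub_one_pow_prime_pow p (s : Matrix (Fin n) (Fin n) F) n
  rw [pow_eq_zero_of_le ((Nat.lt_pow_self (Fact.out : p.Prime).one_lt).le) hN] at h3
  exact (sub_eq_zero.1 h3.symm)

/-- the elements of `PSL` centralizing the upper unitriangular group -/
theorem centralizer_U (hn : 2 ≤ n) (s : Matrix.SpecialLinearGroup (Fin n) F)
    (hs : ∀ u ∈ U F n, (QuotientGroup.mk (s * u) : Matrix.ProjectiveSpecialLinearGroup (Fin n) F) = QuotientGroup.mk (u * s))
    (hs1 : (QuotientGroup.mk s : Matrix.ProjectiveSpecialLinearGroup (Fin n) F) ≠ 1) :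
    ∃ (c : F) (t : Matrix.SpecialLinearGroup (Fin n) F), c ≠ 0 ∧
      Tr (Pi.single ⟨0, by omega⟩ 1) (c • Pi.single ⟨n - 1, by omega⟩ 1) t ∧
      (QuotientGroup.mk s : Matrix.ProjectiveSpecialLinearGroup (Fin n) F) = QuotientGroup.mk t := by
  classical
  set M := (s : Matrix (Fin n) (Fin n) F) with hM
  have hcomm : ∀ i j : Fin n, i < j → M * vecMulVec (Pi.single i 1) (Pi.single j 1) = vecMulVec (Pi.single i 1) (Pi.single j 1) * M := by
    intro i j hij
    have hne1 : (Pi.single i 1 : Fin n → F) ≠ 0 := by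
      intro h; have := congrFun h i; simp at this
    have hne2 : (Pi.single j 1 : Fin n → F) ≠ 0 := by
      intro h; have := congrFun h j; simp at this
    obtain ⟨u, hu⟩ := exists_Tr (F := F) hne1 hne2 (by rw [dotProduct_single]; simp [hij.ne])
    have huU : u ∈ U F n := by
      intro k l hkl
      rw [hu.2.2, Matrix.add_apply, vecMulVec_apply, add_eq_left]
      by_cases hk : k = i
      · subst hk
        by_cases hl : l = j
        · subst hl
          exact absurd hkl (not_le.2 hij)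
        · rw [Pi.single_eq_of_ne hl, mul_zero]
      · rw [Pi.single_eq_of_ne hk, zero_mul]
    have h1 := hs u huU
    have h2 : (QuotientGroup.mk (s * u * s⁻¹) : Matrix.ProjectiveSpecialLinearGroup (Fin n) F) = QuotientGroup.mk u := by
      rw [QuotientGroup.mk_mul, h1, ← QuotientGroup.mk_mul, mul_assoc, mul_inv_cancel, mul_one]
    have h3 := (hu.conj s).mk_inj hu h2
    have h4 : s * u = u * s := mul_inv_eq_iff_eq_mul.1 h3
    have h5 := congrArg (fun x : Matrix.SpecialLinearGroup (Fin n) F => (x : Matrix (Fin n) (Fin n) F)) h4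
    simp only [Matrix.SpecialLinearGroup.coe_mul, hu.2.2, mul_add, add_mul, mul_one, one_mul] at h5
    exact add_left_cancel h5
  have hcomm' : ∀ i j : Fin n, i < j → ∀ k l, M k i * (Pi.single j 1 : Fin n → F) l = (Pi.single i 1 : Fin n → F) k * M j l := by
    intro i j hij k l
    have h1 := congrFun (congrFun (hcomm i j hij) k) l
    rw [mul_vecMulVec, vecMulVec_mul, vecMulVec_apply, vecMulVec_apply, mulVec_single_one, single_one_vecMul] at h1
    exact h1
  let i0 : Fin n := ⟨0, by omega⟩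
  let il : Fin n := ⟨n - 1, by omega⟩
  have h0l : i0 < il := by
    show (0 : ℕ) < n - 1
    omega
  have hdiag : ∀ i, M i i = M i0 i0 := by
    intro i
    rcases eq_or_ne i i0 with h | h
    · rw [h]
    · have hlt : i0 < i := lt_of_le_of_ne (Nat.zero_le _) h.symm
      have := hcomm' i0 i hlt i0 i
      rw [Pi.single_eq_same, Pi.single_eq_same, mul_one, one_mul] at this
      exact this.symm
  have hoff : ∀ k i, k ≠ i → ¬ (k = i0 ∧ i = il) → M k i = 0 := by
    intro k i hki hni
    by_cases hi : i = il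
    · have hk : k ≠ i0 := fun h => hni ⟨h, hi⟩
      have hlt : i0 < k := lt_of_le_of_ne (Nat.zero_le _) hk.symm
      have := hcomm' i0 k hlt i0 i
      rw [Pi.single_eq_of_ne hki.symm, mul_zero, Pi.single_eq_same, one_mul] at this
      exact this.symm
    · have hlt : i < il := by
        apply lt_of_le_of_ne _ hi
        show i.1 ≤ n - 1
        have := i.2
        omega
      have := hcomm' i il hlt k il
      rw [Pi.single_eq_same, mul_one, Pi.single_eq_of_ne hki, zero_mul] at this
      exact this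
  set lam := M i0 i0 with hlam
  have hMeq : M = lam • (1 : Matrix (Fin n) (Fin n) F) + M i0 il • vecMulVec (Pi.single i0 1) (Pi.single il 1) := by
    ext k i
    rw [Matrix.add_apply, Matrix.smul_apply, Matrix.smul_apply, vecMulVec_apply, smul_eq_mul, smul_eq_mul]
    by_cases hki : k = i
    · subst hki
      rw [one_apply_eq, mul_one, hdiag]
      by_cases h1 : k = i0
      · subst h1
        rw [Pi.single_eq_of_ne h0l.ne]; ring
      · rw [Pi.single_eq_of_ne h1]; ring
    · rw [one_apply_ne hki]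
      by_cases h1 : k = i0 ∧ i = il
      · obtain ⟨rfl, rfl⟩ := h1
        simp
      · rw [hoff k i hki h1]
        by_cases h2 : k = i0
        · have h3 : i ≠ il := fun h => h1 ⟨h2, h⟩
          rw [Pi.single_eq_of_ne h3]; ring
        · rw [Pi.single_eq_of_ne h2]; ring
  have hlam0 : lam ≠ 0 := by
    intro h0
    have hdet : M.det = 1 := s.2
    have : M.det = 0 := by
      apply det_eq_zero_of_row_eq_zero il
      intro j
      by_cases hj : il = j
      · rw [← hj, hdiag, h0]
      · exact hoff il j hj (fun h => h0l.ne' h.1)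
    rw [this] at hdet
    exact zero_ne_one hdet
  have hMc : M i0 il ≠ 0 := by
    intro h0
    apply hs1
    rw [← QuotientGroup.mk_one, mk_eq_iff, Matrix.SpecialLinearGroup.coe_one]
    refine ⟨lam⁻¹, ?_⟩
    show 1 = lam⁻¹ • M
    rw [hMeq, h0, zero_smul, add_zero, smul_smul, inv_mul_cancel₀ hlam0, one_smul]
  have hne1 : (Pi.single i0 1 : Fin n → F) ≠ 0 := by
    intro h; have := congrFun h i0; simp at this
  have hne2 : ((lam⁻¹ * M i0 il) • Pi.single il 1 : Fin n → F) ≠ 0 := by
    intro h; have := congrFun h il; simp [hlam0, hMc] at this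
  have hdot : ((lam⁻¹ * M i0 il) • Pi.single il 1 : Fin n → F) ⬝ᵥ (Pi.single i0 1) = 0 := by
    rw [dotProduct_single]; simp [h0l.ne]
  obtain ⟨t, ht⟩ := exists_Tr hne1 hne2 hdot
  refine ⟨lam⁻¹ * M i0 il, t, mul_ne_zero (inv_ne_zero hlam0) hMc, ht, ?_⟩
  rw [mk_eq_iff]
  refine ⟨lam⁻¹, ?_⟩
  show (t : Matrix (Fin n) (Fin n) F) = lam⁻¹ • M
  rw [ht.2.2]
  conv_rhs => rw [hMeq]
  rw [smul_add, smul_smul, inv_mul_cancel₀ hlam0, one_smul, smul_smul, vecMulVec_smul]

end uni

/-- all transvections are conjugate under `GL_n(F)` -/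
theorem exists_GL_conj {v φ w ψ : Fin n → F} {s t : Matrix.SpecialLinearGroup (Fin n) F} (h : Tr v φ s) (h' : Tr w ψ t) :
    ∃ g : GL (Fin n) F, semi g (RingEquiv.refl F) s = t := by
  have hN : ∀ (v φ : Fin n → F), φ ⬝ᵥ v = 0 → (vecMulVec v φ).mulVecLin ∘ₗ (vecMulVec v φ).mulVecLin = 0 := by
    intro v φ hd
    apply LinearMap.ext
    intro x
    rw [LinearMap.comp_apply, mulVecLin_apply, mulVecLin_apply, tmv, tmv, dotProduct_smul, hd, smul_zero, zero_smul]
    rfl
  have hr : ∀ (v φ : Fin n → F), v ≠ 0 → φ ≠ 0 → Module.finrank F (LinearMap.range (vecMulVec v φ).mulVecLin) = 1 := by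
    intro v φ hv hφ
    have h1 : LinearMap.range (vecMulVec v φ).mulVecLin = Submodule.span F {v} := by
      apply le_antisymm
      · rintro _ ⟨x, rfl⟩
        rw [mulVecLin_apply, tmv]
        exact Submodule.smul_mem _ _ (Submodule.mem_span_singleton_self v)
      · rw [Submodule.span_singleton_le_iff_mem]
        obtain ⟨i, hi⟩ := Function.ne_iff.1 hφ
        rw [Pi.zero_apply] at hi
        refine ⟨(φ i)⁻¹ • Pi.single i 1, ?_⟩
        rw [mulVecLin_apply, tmv, dotProduct_smul, dotProduct_single, mul_one, smul_eq_mul, inv_mul_cancel₀ hi, one_smul]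
    rw [h1, finrank_span_singleton hv]
  obtain ⟨e, he⟩ := CfsgLib.SqZero.exists_equiv _ _ (hN v φ h.dot) (hN w ψ h'.dot)
    (by rw [hr v φ h.1 h.2.1, hr w ψ h'.1 h'.2.1])
  let g : GL (Fin n) F := ⟨LinearMap.toMatrix' (e : (Fin n → F) →ₗ[F] (Fin n → F)),
    LinearMap.toMatrix' (e.symm : (Fin n → F) →ₗ[F] (Fin n → F)),
    by rw [← LinearMap.toMatrix'_comp]; simp, by rw [← LinearMap.toMatrix'_comp]; simp⟩
  have h1 : g.1 * vecMulVec v φ = vecMulVec w ψ * g.1 := by
    have h2 : LinearMap.toMatrix' (vecMulVec v φ).mulVecLin = vecMulVec v φ := LinearMap.toMatrix'_toLin' _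
    have h3 : LinearMap.toMatrix' (vecMulVec w ψ).mulVecLin = vecMulVec w ψ := LinearMap.toMatrix'_toLin' _
    conv_lhs => rw [← h2]
    conv_rhs => rw [← h3]
    show LinearMap.toMatrix' (e : (Fin n → F) →ₗ[F] (Fin n → F)) * _ = _ * LinearMap.toMatrix' (e : (Fin n → F) →ₗ[F] (Fin n → F))
    rw [← LinearMap.toMatrix'_comp, ← LinearMap.toMatrix'_comp]
    congr 1
    apply LinearMap.ext
    intro x
    exact he x
  refine ⟨g, ?_⟩
  apply Subtype.ext
  show g.1 * (s : Matrix (Fin n) (Fin n) F).map (RingEquiv.refl F) * (g⁻¹).1 = (t : Matrix (Fin n) (Fin n) F)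
  have h2 : (s : Matrix (Fin n) (Fin n) F).map (RingEquiv.refl F) = s := by ext i j; rfl
  rw [h2, h.2.2, h'.2.2, mul_add, mul_one, add_mul, h1, mul_assoc, g.mul_inv, mul_one]

/-- centralized by a Sylow `p`-subgroup -/
def Cent (p : ℕ) (x : Matrix.ProjectiveSpecialLinearGroup (Fin n) F) : Prop :=
  ∃ P : Sylow p (Matrix.ProjectiveSpecialLinearGroup (Fin n) F), ∀ y ∈ P, x * y = y * x

theorem Cent.map {p : ℕ} {x : Matrix.ProjectiveSpecialLinearGroup (Fin n) F} (h : Cent p x)
    (α : MulAut (Matrix.ProjectiveSpecialLinearGroup (Fin n) F)) : Cent p (α x) := by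
  obtain ⟨P, hP⟩ := h
  refine ⟨α • P, fun y hy => ?_⟩
  have hy' : y ∈ α • (P : Subgroup (Matrix.ProjectiveSpecialLinearGroup (Fin n) F)) := hy
  rw [Subgroup.mem_pointwise_smul_iff_inv_smul_mem] at hy'
  have h1 := hP _ hy'
  have h2 := congrArg α h1
  rw [map_mul, map_mul] at h2
  have h3 : α (α⁻¹ • y) = y := MulAut.apply_inv_self _ α y
  rw [h3] at h2
  exact h2

variable [Finite F]

theorem exists_central (p : ℕ) [Fact p.Prime] [CharP F p] (hn : 2 ≤ n) :
    ∃ (P : Sylow p (Matrix.ProjectiveSpecialLinearGroup (Fin n) F)) (t : Matrix.SpecialLinearGroup (Fin n) F),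
      IsT t ∧ (∀ u ∈ U F n, (QuotientGroup.mk u : Matrix.ProjectiveSpecialLinearGroup (Fin n) F) ∈ P) ∧
      (∀ y ∈ P, (QuotientGroup.mk t : Matrix.ProjectiveSpecialLinearGroup (Fin n) F) * y = y * QuotientGroup.mk t) := by
  classical
  have h1 : IsPGroup p ((U F n).map (QuotientGroup.mk' (Subgroup.center (Matrix.SpecialLinearGroup (Fin n) F)))) :=
    (U_isPGroup p).map _
  obtain ⟨P, hP⟩ := h1.exists_le_sylow
  have hUP : ∀ u ∈ U F n, (QuotientGroup.mk u : Matrix.ProjectiveSpecialLinearGroup (Fin n) F) ∈ P :=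
    fun u hu => hP ⟨u, hu, rfl⟩
  -- `P` is nontrivial
  let i0 : Fin n := ⟨0, by omega⟩
  let il : Fin n := ⟨n - 1, by omega⟩
  have h0l : i0 < il := by
    show (0 : ℕ) < n - 1
    omega
  have hne1 : (Pi.single i0 1 : Fin n → F) ≠ 0 := by
    intro h; have := congrFun h i0; simp at this
  have hne2 : (Pi.single il 1 : Fin n → F) ≠ 0 := by
    intro h; have := congrFun h il; simp at this
  obtain ⟨u, hu⟩ := exists_Tr (F := F) hne1 hne2 (by rw [dotProduct_single]; simp [h0l.ne])
  have huU : u ∈ U F n := by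
    intro k l hkl
    rw [hu.2.2, Matrix.add_apply, vecMulVec_apply, add_eq_left]
    by_cases hk : k = i0
    · subst hk
      by_cases hl : l = il
      · subst hl
        exact absurd hkl (not_le.2 h0l)
      · rw [Pi.single_eq_of_ne hl, mul_zero]
    · rw [Pi.single_eq_of_ne hk, zero_mul]
  have hnt : Nontrivial P := by
    refine ⟨⟨⟨QuotientGroup.mk u, hUP u huU⟩, 1, ?_⟩⟩
    intro h
    exact hu.mk_ne_one (Subtype.ext_iff.1 h)
  have hfin : Finite (Matrix.ProjectiveSpecialLinearGroup (Fin n) F) := inferInstance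
  have hZ := IsPGroup.center_nontrivial (p := p) P.2
  obtain ⟨z, hz⟩ := exists_ne (1 : Subgroup.center P)
  obtain ⟨s, hs⟩ := QuotientGroup.mk_surjective (z.1.1)
  have hs1 : (QuotientGroup.mk s : Matrix.ProjectiveSpecialLinearGroup (Fin n) F) ≠ 1 := by
    rw [hs]
    intro h
    exact hz (Subtype.ext (Subtype.ext h))
  have hcent : ∀ y ∈ P, (QuotientGroup.mk s : Matrix.ProjectiveSpecialLinearGroup (Fin n) F) * y = y * QuotientGroup.mk s := by
    intro y hy
    rw [hs]
    have := Subgroup.mem_center_iff.1 z.2 ⟨y, hy⟩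
    exact (Subtype.ext_iff.1 this).symm
  obtain ⟨c, t, _, ht, hst⟩ := centralizer_U hn s (fun u hu => by
    have := hcent _ (hUP u hu)
    rw [QuotientGroup.mk_mul, QuotientGroup.mk_mul, this]) hs1
  refine ⟨P, t, ⟨_, _, ht⟩, hUP, ?_⟩
  rw [← hst]
  exact hcent

/-- transvections are the elements centralized by a Sylow `p`-subgroup -/
theorem isT_iff (p : ℕ) [Fact p.Prime] [CharP F p] (hn : 2 ≤ n) (x : Matrix.ProjectiveSpecialLinearGroup (Fin n) F) (hx : x ≠ 1) :
    (∃ t, IsT t ∧ x = QuotientGroup.mk t) ↔ Cent p x := by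
  have hfin : Finite (Matrix.ProjectiveSpecialLinearGroup (Fin n) F) := inferInstance
  obtain ⟨P, t0, ⟨v0, φ0, ht0⟩, hU, hP⟩ := exists_central (F := F) (n := n) p hn
  constructor
  · rintro ⟨t, ⟨v, φ, ht⟩, rfl⟩
    obtain ⟨g, hg⟩ := exists_GL_conj ht0 ht
    have h1 : Cent p (QuotientGroup.mk t0 : Matrix.ProjectiveSpecialLinearGroup (Fin n) F) := ⟨P, hP⟩
    have h2 := h1.map (psl (semi g (RingEquiv.refl F)))
    rw [psl_mk, hg] at h2
    exact h2
  · rintro ⟨P', hP'⟩
    obtain ⟨y, hy⟩ := MulAction.exists_smul_eq (Matrix.ProjectiveSpecialLinearGroup (Fin n) F) P' P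
    obtain ⟨s, hs⟩ := QuotientGroup.mk_surjective (y * x * y⁻¹)
    obtain ⟨w, hw⟩ := QuotientGroup.mk_surjective y
    have h1 : ∀ u ∈ U F n, (QuotientGroup.mk (s * u) : Matrix.ProjectiveSpecialLinearGroup (Fin n) F) = QuotientGroup.mk (u * s) := by
      intro u hu
      have h2 : (QuotientGroup.mk u : Matrix.ProjectiveSpecialLinearGroup (Fin n) F) ∈ P := hU u hu
      rw [← hy] at h2
      have h3 : (QuotientGroup.mk u : Matrix.ProjectiveSpecialLinearGroup (Fin n) F) ∈ MulAut.conj y • (P' : Subgroup (Matrix.ProjectiveSpecialLinearGroup (Fin n) F)) := h2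
      rw [Subgroup.mem_pointwise_smul_iff_inv_smul_mem, ← map_inv, MulAut.smul_def, MulAut.conj_apply, inv_inv] at h3
      have h4 := hP' _ h3
      rw [QuotientGroup.mk_mul, QuotientGroup.mk_mul, hs]
      generalize (QuotientGroup.mk u : Matrix.ProjectiveSpecialLinearGroup (Fin n) F) = z at *
      have h5 : x * y⁻¹ * z * y = y⁻¹ * z * y * x := by rw [← h4]; group
      calc y * x * y⁻¹ * z = y * (x * y⁻¹ * z * y) * y⁻¹ := by group
        _ = y * (y⁻¹ * z * y * x) * y⁻¹ := by rw [h5]
        _ = z * (y * x * y⁻¹) := by group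
    have h2 : (QuotientGroup.mk s : Matrix.ProjectiveSpecialLinearGroup (Fin n) F) ≠ 1 := by
      rw [hs]
      intro h0
      apply hx
      have : x = y⁻¹ * (y * x * y⁻¹) * y := by group
      rw [this, h0]; group
    obtain ⟨c, t, _, ht, hst⟩ := centralizer_U hn s h1 h2
    refine ⟨w⁻¹ * t * w, ⟨_, _, by simpa using ht.conj w⁻¹⟩, ?_⟩
    rw [QuotientGroup.mk_mul, QuotientGroup.mk_mul, QuotientGroup.mk_inv, hw, ← hst, hs]
    group

theorem exists_isT (hn : 2 ≤ n) (α : MulAut (Matrix.ProjectiveSpecialLinearGroup (Fin n) F))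
    {s : Matrix.SpecialLinearGroup (Fin n) F} (hs : IsT s) : ∃ t, IsT t ∧ α (QuotientGroup.mk s) = QuotientGroup.mk t := by
  obtain ⟨p, hp⟩ := CharP.exists F
  have : Fact p.Prime := ⟨(CharP.char_is_prime F p)⟩
  obtain ⟨v, φ, h⟩ := hs
  rw [isT_iff p hn]
  · apply Cent.map
    rw [← isT_iff p hn _ h.mk_ne_one]
    exact ⟨s, ⟨v, φ, h⟩, rfl⟩
  · intro h0
    exact h.mk_ne_one ((EmbeddingLike.map_eq_one_iff).1 h0)

end CfsgLib.AutPSL
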