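import Cfsg.Agent.Lib.AutPSL2

/-!
# Automorphisms of `PSL_n(F)`, part 3: an automorphism preserves points and hyperplanes or interchanges them.
-/

set_option autoImplicit false

namespace CfsgLib.AutPSL

open Matrix

variable {F : Type*} [Field F] {n : ℕ}

/-- transvections or the identity: equality can be tested in `PSL` -/
theorem isT_mk_inj {s t : Matrix.SpecialLinearGroup (Fin n) F} (hs : IsT s ∨ s = 1) (ht : IsT t ∨ t = 1)
    (h : (QuotientGroup.mk s : Matrix.ProjectiveSpecialLinearGroup (Fin n) F) = QuotientGroup.mk t) : s = t := by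
  rcases hs with ⟨v, φ, hs⟩ | rfl <;> rcases ht with ⟨w, ψ, ht⟩ | rfl
  · exact hs.mk_inj ht h
  · exact absurd h hs.mk_ne_one
  · exact absurd h.symm ht.mk_ne_one
  · rfl

/-- a lift of `α` to `SL`, mapping transvections to transvections -/
structure Lift (α : MulAut (Matrix.ProjectiveSpecialLinearGroup (Fin n) F))
    (a : Matrix.SpecialLinearGroup (Fin n) F → Matrix.SpecialLinearGroup (Fin n) F) : Prop where
  mkEq : ∀ s, α (QuotientGroup.mk s) = QuotientGroup.mk (a s)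
  isT : ∀ s, IsT s → IsT (a s)
  one : a 1 = 1

theorem exists_lift [Finite F] (hn : 2 ≤ n) (α : MulAut (Matrix.ProjectiveSpecialLinearGroup (Fin n) F)) :
    ∃ a, Lift α a := by
  classical
  have h1 : ∀ s : Matrix.SpecialLinearGroup (Fin n) F, ∃ t : Matrix.SpecialLinearGroup (Fin n) F,
      α (QuotientGroup.mk s) = QuotientGroup.mk t ∧ (IsT s → IsT t) ∧ (s = 1 → t = 1) := by
    intro s
    by_cases hs : IsT s
    · obtain ⟨t, ht, ht'⟩ := exists_isT hn α hs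
      refine ⟨t, ht', fun _ => ht, fun h1 => ?_⟩
      obtain ⟨v, φ, h2⟩ := hs
      exact absurd (by rw [h1]; rfl) h2.mk_ne_one
    · by_cases hs1 : s = 1
      · refine ⟨1, ?_, fun h => absurd h hs, fun _ => rfl⟩
        rw [hs1, QuotientGroup.mk_one, map_one]
      · obtain ⟨t, ht⟩ := QuotientGroup.mk_surjective (α (QuotientGroup.mk s))
        exact ⟨t, ht.symm, fun h => absurd h hs, fun h => absurd h hs1⟩
  choose a ha using h1
  exact ⟨a, ⟨fun s => (ha s).1, fun s => (ha s).2.1, (ha 1).2.2 rfl⟩⟩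

variable {α : MulAut (Matrix.ProjectiveSpecialLinearGroup (Fin n) F)}
  {a b : Matrix.SpecialLinearGroup (Fin n) F → Matrix.SpecialLinearGroup (Fin n) F}

theorem Lift.conj (ha : Lift α a) {s : Matrix.SpecialLinearGroup (Fin n) F} (hs : IsT s) (x : Matrix.SpecialLinearGroup (Fin n) F) :
    a (x * s * x⁻¹) = a x * a s * (a x)⁻¹ := by
  obtain ⟨v, φ, h⟩ := hs
  obtain ⟨v', φ', h'⟩ := ha.isT s ⟨v, φ, h⟩
  have h1 : IsT (a (x * s * x⁻¹)) := ha.isT _ ⟨_, _, h.conj x⟩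
  refine isT_mk_inj (Or.inl h1) (Or.inl ⟨_, _, h'.conj (a x)⟩) ?_
  rw [← ha.mkEq, QuotientGroup.mk_mul, QuotientGroup.mk_mul, QuotientGroup.mk_inv, QuotientGroup.mk_mul, QuotientGroup.mk_mul,
    QuotientGroup.mk_inv, map_mul, map_mul, map_inv, ha.mkEq, ha.mkEq]

theorem Lift.rel (ha : Lift α a) {s t : Matrix.SpecialLinearGroup (Fin n) F} (h : Rel s t) : Rel (a s) (a t) := by
  have h1 : (QuotientGroup.mk (a s * a t) : Matrix.ProjectiveSpecialLinearGroup (Fin n) F) = α (QuotientGroup.mk (s * t)) := by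
    rw [QuotientGroup.mk_mul, QuotientGroup.mk_mul, map_mul, ha.mkEq, ha.mkEq]
  rcases h with h | ⟨r, hr, h⟩
  · left
    rw [h1, h, map_one]
  · right
    exact ⟨a r, ha.isT r hr, by rw [h1, h, ha.mkEq]⟩

theorem Lift.symm_apply (ha : Lift α a) (hb : Lift α⁻¹ b) {s : Matrix.SpecialLinearGroup (Fin n) F} (hs : IsT s) :
    b (a s) = s := by
  refine isT_mk_inj (Or.inl (hb.isT _ (ha.isT _ hs))) (Or.inl hs) ?_
  rw [← hb.mkEq, ← ha.mkEq]
  exact MulAut.inv_apply_self _ α _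

theorem Lift.apply_symm (ha : Lift α a) (hb : Lift α⁻¹ b) {s : Matrix.SpecialLinearGroup (Fin n) F} (hs : IsT s) :
    a (b s) = s := by
  refine isT_mk_inj (Or.inl (ha.isT _ (hb.isT _ hs))) (Or.inl hs) ?_
  rw [← ha.mkEq, ← hb.mkEq]
  exact MulAut.apply_inv_self _ α _

theorem Lift.rel_iff (ha : Lift α a) (hb : Lift α⁻¹ b) {s t : Matrix.SpecialLinearGroup (Fin n) F} (hs : IsT s) (ht : IsT t) :
    Rel (a s) (a t) ↔ Rel s t := by
  refine ⟨fun h => ?_, ha.rel⟩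
  have := hb.rel h
  rwa [ha.symm_apply hb hs, ha.symm_apply hb ht] at this

/-- `SL` is transitive on lines -/
theorem exists_par {v w : Fin n → F} (hv : v ≠ 0) (hw : w ≠ 0) :
    ∃ x : Matrix.SpecialLinearGroup (Fin n) F, Par ((x : Matrix (Fin n) (Fin n) F) *ᵥ v) w := by
  by_cases hp : Par v w
  · refine ⟨1, ?_⟩
    rw [Matrix.SpecialLinearGroup.coe_one, one_mulVec]
    exact hp
  · have h1 : w - v ≠ 0 := by
      intro h0
      exact hp ⟨1, one_ne_zero, by rw [one_smul]; exact sub_eq_zero.1 h0⟩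
    have h2 : ¬ ∃ c : F, v = c • (w - v) := by
      rintro ⟨c, hc⟩
      have hc0 : c ≠ 0 := by
        rintro rfl
        exact hv (by rw [hc, zero_smul])
      have h3 : w = (c⁻¹ + 1) • v := by
        rw [add_smul, one_smul]
        conv_rhs => rw [hc]
        rw [smul_smul, inv_mul_cancel₀ hc0, one_smul, ← hc, sub_add_cancel]
      apply hp
      refine ⟨c⁻¹ + 1, ?_, h3⟩
      intro h0
      rw [h0, zero_smul] at h3
      exact hw h3
    obtain ⟨φ, hφ1, hφ2⟩ := exists_dot h1 h2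
    have hφ0 : φ ≠ 0 := by
      rintro rfl
      rw [dotProduct_zero] at hφ2
      exact zero_ne_one hφ2
    obtain ⟨x, hx⟩ := exists_Tr h1 hφ0 (by rw [dotProduct_comm]; exact hφ1)
    refine ⟨x, ?_⟩
    rw [hx.2.2, add_mulVec, one_mulVec, tmv, dotProduct_comm φ v, hφ2, one_smul, add_sub_cancel]
    exact Par.refl w

theorem exists_two (hn : 3 ≤ n) (v : Fin n → F) :
    ∃ φ ψ : Fin n → F, φ ≠ 0 ∧ ψ ≠ 0 ∧ φ ⬝ᵥ v = 0 ∧ ψ ⬝ᵥ v = 0 ∧ ¬ Par φ ψ := by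
  obtain ⟨φ, hφ, hφv, _⟩ := exists_common hn v v
  obtain ⟨i, hi⟩ := Function.ne_iff.1 hφ
  rw [Pi.zero_apply] at hi
  obtain ⟨ψ, hψ, hψv, hψi⟩ := exists_common hn v (Pi.single i 1)
  refine ⟨φ, ψ, hφ, hψ, by rw [dotProduct_comm]; exact hφv, by rw [dotProduct_comm]; exact hψv, ?_⟩
  rintro ⟨c, hc, rfl⟩
  rw [single_dotProduct, one_mul, Pi.smul_apply, smul_eq_mul] at hψi
  exact mul_ne_zero hc hi hψi

theorem exists_not_par (hn : 3 ≤ n) (v u : Fin n → F) :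
    ∃ φ : Fin n → F, φ ≠ 0 ∧ φ ⬝ᵥ v = 0 ∧ ¬ Par φ u := by
  obtain ⟨φ, ψ, hφ, hψ, hφv, hψv, hp⟩ := exists_two hn v
  by_cases h : Par φ u
  · exact ⟨ψ, hψ, hψv, fun h' => hp (h.trans h'.symm)⟩
  · exact ⟨φ, hφ, hφv, h⟩

theorem exists_not_par' (hn : 3 ≤ n) (φ u : Fin n → F) :
    ∃ v : Fin n → F, v ≠ 0 ∧ φ ⬝ᵥ v = 0 ∧ ¬ Par v u := by
  obtain ⟨v, h1, h2, h3⟩ := exists_not_par hn φ u
  exact ⟨v, h1, by rw [dotProduct_comm]; exact h2, h3⟩

theorem SP.symm {s t : Matrix.SpecialLinearGroup (Fin n) F} (h : SP s t) : SP t s := by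
  obtain ⟨v, φ, ψ, h1, h2⟩ := h
  exact ⟨v, ψ, φ, h2, h1⟩

theorem SH.symm {s t : Matrix.SpecialLinearGroup (Fin n) F} (h : SH s t) : SH t s := by
  obtain ⟨v, φ, ψ, h1, h2⟩ := h
  exact ⟨φ, v, ψ, h2, h1⟩

theorem SP.trans {r s t : Matrix.SpecialLinearGroup (Fin n) F} (h : SP r s) (h' : SP s t) : SP r t := by
  obtain ⟨v, φ, ψ, h1, h2⟩ := h
  obtain ⟨w, φ', ψ', h3, h4⟩ := h'
  rw [SP_iff h1 h4]
  exact (SP_iff h2 h4).1 ⟨w, φ', ψ', h3, h4⟩

theorem SH.trans {r s t : Matrix.SpecialLinearGroup (Fin n) F} (h : SH r s) (h' : SH s t) : SH r t := by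
  obtain ⟨v, φ, ψ, h1, h2⟩ := h
  obtain ⟨w, φ', ψ', h3, h4⟩ := h'
  rw [SH_iff h1 h4]
  exact (SH_iff h2 h4).1 ⟨w, φ', ψ', h3, h4⟩

theorem SP.conj {s t : Matrix.SpecialLinearGroup (Fin n) F} (h : SP s t) (x : Matrix.SpecialLinearGroup (Fin n) F) :
    SP (x * s * x⁻¹) (x * t * x⁻¹) := by
  obtain ⟨v, φ, ψ, h1, h2⟩ := h
  exact ⟨_, _, _, h1.conj x, h2.conj x⟩

theorem SH.conj {s t : Matrix.SpecialLinearGroup (Fin n) F} (h : SH s t) (x : Matrix.SpecialLinearGroup (Fin n) F) :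
    SH (x * s * x⁻¹) (x * t * x⁻¹) := by
  obtain ⟨v, φ, ψ, h1, h2⟩ := h
  exact ⟨_, _, _, h1.conj x, h2.conj x⟩

theorem SP.isT {s t : Matrix.SpecialLinearGroup (Fin n) F} (h : SP s t) : IsT s ∧ IsT t := by
  obtain ⟨v, φ, ψ, h1, h2⟩ := h
  exact ⟨⟨_, _, h1⟩, ⟨_, _, h2⟩⟩

theorem SH.isT {s t : Matrix.SpecialLinearGroup (Fin n) F} (h : SH s t) : IsT s ∧ IsT t := by
  obtain ⟨v, φ, ψ, h1, h2⟩ := h
  exact ⟨⟨_, _, h1⟩, ⟨_, _, h2⟩⟩

theorem Rel_iff' (hn : 3 ≤ n) {s t : Matrix.SpecialLinearGroup (Fin n) F} (hs : IsT s) (ht : IsT t) :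
    Rel s t ↔ (SP s t ∨ SH s t) := by
  obtain ⟨v, φ, h1⟩ := hs
  obtain ⟨w, ψ, h2⟩ := ht
  rw [SP_iff h1 h2, SH_iff h1 h2, Rel_iff hn h1 h2]

/-- an automorphism preserves or reverses the type -/
theorem Lift.type (hn : 3 ≤ n) (ha : Lift α a) (hb : Lift α⁻¹ b) :
    (∀ s t, SP s t → SP (a s) (a t)) ∨ (∀ s t, SP s t → SH (a s) (a t)) := by
  have h0lt : 0 < n := by omega
  let v0 : Fin n → F := Pi.single ⟨0, h0lt⟩ 1
  have hv0 : v0 ≠ 0 := by
    intro h; have := congrFun h ⟨0, h0lt⟩; simp [v0] at this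
  obtain ⟨φ1, φ2, hφ1, hφ2, hd1, hd2, hnp⟩ := exists_two hn v0
  obtain ⟨t1, ht1⟩ := exists_Tr hv0 hφ1 hd1
  obtain ⟨t2, ht2⟩ := exists_Tr hv0 hφ2 hd2
  have hT1 : IsT t1 := ⟨_, _, ht1⟩
  have hT2 : IsT t2 := ⟨_, _, ht2⟩
  have hsp12 : SP t1 t2 := ⟨_, _, _, ht1, ht2⟩
  have hsh12 : ¬ SH t1 t2 := fun h => hnp ((SH_iff ht1 ht2).1 h)
  have hrel : SP (a t1) (a t2) ∨ SH (a t1) (a t2) := by
    rw [← Rel_iff' hn (ha.isT _ hT1) (ha.isT _ hT2), ha.rel_iff hb hT1 hT2, Rel_iff' hn hT1 hT2]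
    exact Or.inl hsp12
  have hnb : ¬ (SP (a t1) (a t2) ∧ SH (a t1) (a t2)) := by
    rintro ⟨h1, h2⟩
    obtain ⟨w, hw, hw1, hw2⟩ := exists_not_par' hn φ1 v0
    obtain ⟨r, hr⟩ := exists_Tr hw hφ1 hw1
    have hTr : IsT r := ⟨_, _, hr⟩
    have h3 : Rel r t1 := (Rel_iff' hn hTr hT1).2 (Or.inr ⟨_, _, _, hr, ht1⟩)
    have h4 : ¬ Rel r t2 := by
      rw [Rel_iff hn hr ht2]
      rintro (h | h)
      · exact hw2 h
      · exact hnp h
    apply h4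
    rw [← ha.rel_iff hb hTr hT2, Rel_iff' hn (ha.isT _ hTr) (ha.isT _ hT2)]
    have h5 := ha.rel h3
    rw [Rel_iff' hn (ha.isT _ hTr) (ha.isT _ hT1)] at h5
    rcases h5 with h5 | h5
    · exact Or.inl (h5.trans h1)
    · exact Or.inr (h5.trans h2)
  -- elements with the same point as `t1`
  have hall : ∀ s, SP s t1 → (SP (a s) (a t1) ∨ SH (a s) (a t1)) ∧ (SP (a s) (a t2) ∨ SH (a s) (a t2)) := by
    intro s hs
    have hTs := hs.isT.1
    constructor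
    · rw [← Rel_iff' hn (ha.isT _ hTs) (ha.isT _ hT1), ha.rel_iff hb hTs hT1, Rel_iff' hn hTs hT1]
      exact Or.inl hs
    · rw [← Rel_iff' hn (ha.isT _ hTs) (ha.isT _ hT2), ha.rel_iff hb hTs hT2, Rel_iff' hn hTs hT2]
      exact Or.inl (hs.trans hsp12)
  have hmove : ∀ s t, SP s t → ∃ x s0 t0, s = x * s0 * x⁻¹ ∧ t = x * t0 * x⁻¹ ∧ SP s0 t1 ∧ SP t0 t1 := by
    rintro s t ⟨v, φ, ψ, h1, h2⟩
    obtain ⟨x, hx⟩ := exists_par hv0 h1.1
    have hxi : ((x⁻¹ : Matrix.SpecialLinearGroup (Fin n) F) : Matrix (Fin n) (Fin n) F) * (x : Matrix (Fin n) (Fin n) F) = 1 := by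
      rw [← Matrix.SpecialLinearGroup.coe_mul, inv_mul_cancel, Matrix.SpecialLinearGroup.coe_one]
    have h3 : ∀ (χ : Fin n → F) (y : Matrix.SpecialLinearGroup (Fin n) F), Tr v χ y → SP (x⁻¹ * y * x) t1 := by
      intro χ y hy
      have h4 := hy.conj x⁻¹
      rw [inv_inv] at h4
      rw [SP_iff h4 ht1]
      have h5 := hx.symm.mulVec ((x⁻¹ : Matrix.SpecialLinearGroup (Fin n) F) : Matrix (Fin n) (Fin n) F)
      rw [mulVec_mulVec, hxi, one_mulVec] at h5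
      exact h5
    exact ⟨x, x⁻¹ * s * x, x⁻¹ * t * x, by group, by group, h3 _ _ h1, h3 _ _ h2⟩
  rcases hrel with hc | hc
  · left
    have hnsh : ¬ SH (a t1) (a t2) := fun h => hnb ⟨hc, h⟩
    have h1 : ∀ s, SP s t1 → SP (a s) (a t1) := by
      intro s hs
      obtain ⟨h2 | h2, h3 | h3⟩ := hall s hs
      · exact h2
      · exact h2
      · exact h3.trans hc.symm
      · exact absurd (h2.symm.trans h3) hnsh
    intro s t hst
    obtain ⟨x, s0, t0, rfl, rfl, h4, h5⟩ := hmove s t hst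
    rw [ha.conj h4.isT.1, ha.conj h5.isT.1]
    exact ((h1 _ h4).trans (h1 _ h5).symm).conj _
  · right
    have hnsp : ¬ SP (a t1) (a t2) := fun h => hnb ⟨h, hc⟩
    have h1 : ∀ s, SP s t1 → SH (a s) (a t1) := by
      intro s hs
      obtain ⟨h2 | h2, h3 | h3⟩ := hall s hs
      · exact absurd (h2.symm.trans h3) hnsp
      · exact h3.trans hc.symm
      · exact h2
      · exact h2
    intro s t hst
    obtain ⟨x, s0, t0, rfl, rfl, h4, h5⟩ := hmove s t hst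
    rw [ha.conj h4.isT.1, ha.conj h5.isT.1]
    exact ((h1 _ h4).trans (h1 _ h5).symm).conj _

/-- if `α` preserves points, so does its inverse -/
theorem Lift.sp_iff (hn : 3 ≤ n) (ha : Lift α a) (hb : Lift α⁻¹ b) (h : ∀ s t, SP s t → SP (a s) (a t))
    {s t : Matrix.SpecialLinearGroup (Fin n) F} (hs : IsT s) (ht : IsT t) : SP (a s) (a t) ↔ SP s t := by
  refine ⟨fun h1 => ?_, h s t⟩
  have ha' : Lift (α⁻¹)⁻¹ a := by rw [inv_inv]; exact ha
  rcases hb.type hn ha' with h2 | h2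
  · have := h2 _ _ h1
    rwa [ha.symm_apply hb hs, ha.symm_apply hb ht] at this
  · exfalso
    have h0lt : 0 < n := by omega
    let v0 : Fin n → F := Pi.single ⟨0, h0lt⟩ 1
    have hv0 : v0 ≠ 0 := by
      intro h; have := congrFun h ⟨0, h0lt⟩; simp [v0] at this
    obtain ⟨φ1, φ2, hφ1, hφ2, hd1, hd2, hnp⟩ := exists_two hn v0
    obtain ⟨t1, ht1⟩ := exists_Tr hv0 hφ1 hd1
    obtain ⟨t2, ht2⟩ := exists_Tr hv0 hφ2 hd2
    have h3 := h2 _ _ (h _ _ (⟨_, _, _, ht1, ht2⟩ : SP t1 t2))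
    rw [ha.symm_apply hb ⟨_, _, ht1⟩, ha.symm_apply hb ⟨_, _, ht2⟩, SH_iff ht1 ht2] at h3
    exact hnp h3

theorem Lift.sh (hn : 3 ≤ n) (ha : Lift α a) (hb : Lift α⁻¹ b) (h : ∀ s t, SP s t → SP (a s) (a t))
    {s t : Matrix.SpecialLinearGroup (Fin n) F} (hst : SH s t) : SH (a s) (a t) := by
  have key : ∀ s t, SH s t → ¬ SP s t → SH (a s) (a t) := by
    intro s t h1 h2
    have h3 : Rel s t := (Rel_iff' hn h1.isT.1 h1.isT.2).2 (Or.inr h1)
    have h4 := ha.rel h3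
    rw [Rel_iff' hn (ha.isT _ h1.isT.1) (ha.isT _ h1.isT.2)] at h4
    rcases h4 with h4 | h4
    · exact absurd ((ha.sp_iff hn hb h h1.isT.1 h1.isT.2).1 h4) h2
    · exact h4
  by_cases h1 : SP s t
  · obtain ⟨v, w, φ, hs, ht⟩ := id hst
    obtain ⟨u, hu, hu1, hu2⟩ := exists_not_par' hn φ v
    obtain ⟨r, hr⟩ := exists_Tr hu hs.2.1 hu1
    have h3 : ¬ SP r s := fun h => hu2 ((SP_iff hr hs).1 h)
    have h4 : ¬ SP r t := fun h => h3 (h.trans h1.symm)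
    exact (key r s ⟨_, _, _, hr, hs⟩ h3).symm.trans (key r t ⟨_, _, _, hr, ht⟩ h4)
  · exact key s t hst h1

end CfsgLib.AutPSL
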