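import Cfsg.Agent.Lib.AutPSL3

/-!
# Automorphisms of `PSL_n(F)`, part 4: semilinearity.
-/

set_option autoImplicit false

namespace CfsgLib.AutPSL

open Matrix

/-- an additive map of vector spaces of dimension at least two mapping lines to lines is semilinear -/
theorem semilinear_of_lines {F : Type*} [Field F] {K V : Type*} [AddCommGroup K] [Module F K] [AddCommGroup V] [Module F V]
    (h : K →+ V) (h0 : ∀ w, w ≠ 0 → h w ≠ 0) (hl : ∀ w, ∀ c : F, ∃ d : F, h (c • w) = d • h w)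
    (hr : ∀ w w', w ≠ 0 → (∃ d : F, h w' = d • h w) → ∃ c : F, w' = c • w)
    (h2 : ∃ w w' : K, w ≠ 0 ∧ w' ≠ 0 ∧ (¬ ∃ c : F, w' = c • w) ∧ (¬ ∃ c : F, w = c • w')) :
    ∃ σ : F →+* F, ∀ (c : F) (w : K), h (c • w) = σ c • h w := by
  classical
  choose d hd using hl
  have huniq : ∀ w, w ≠ 0 → ∀ x y : F, x • h w = y • h w → x = y := by
    intro w hw x y hxy
    have h3 : (x - y) • h w = 0 := by rw [sub_smul, hxy, sub_self]
    rcases smul_eq_zero.1 h3 with h4 | h4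
    · exact sub_eq_zero.1 h4
    · exact absurd h4 (h0 w hw)
  -- independent vectors
  have hind : ∀ w w', w ≠ 0 → (¬ ∃ c : F, w' = c • w) → ∀ c, d w c = d w' c := by
    intro w w' hw hww' c
    have hw' : w' ≠ 0 := by
      rintro rfl
      exact hww' ⟨0, (zero_smul _ _).symm⟩
    have hsum : w + w' ≠ 0 := by
      intro h3
      apply hww'
      exact ⟨-1, by rw [neg_smul, one_smul]; exact (neg_eq_of_add_eq_zero_right h3).symm⟩
    have h3 : d (w + w') c • (h w + h w') = d w c • h w + d w' c • h w' := by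
      rw [← map_add, ← hd, smul_add, map_add, hd, hd]
    have h4 : (d (w + w') c - d w c) • h w = (d w' c - d (w + w') c) • h w' := by
      rw [sub_smul, sub_smul, sub_eq_sub_iff_add_eq_add, ← smul_add, h3]
      abel
    have h5 : d w' c - d (w + w') c = 0 := by
      by_contra hne
      apply hww'
      apply hr w w' hw
      refine ⟨(d w' c - d (w + w') c)⁻¹ * (d (w + w') c - d w c), ?_⟩
      rw [mul_smul, h4, smul_smul, inv_mul_cancel₀ hne, one_smul]
    rw [h5, zero_smul] at h4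
    have h6 : d (w + w') c - d w c = 0 := by
      rcases smul_eq_zero.1 h4 with h7 | h7
      · exact h7
      · exact absurd h7 (h0 w hw)
    rw [← sub_eq_zero.1 h6, sub_eq_zero.1 h5]
  obtain ⟨w1, w2, hw1, hw2, hw21, hw12⟩ := h2
  have hall : ∀ w, w ≠ 0 → ∀ c, d w c = d w1 c := by
    intro w hw c
    by_cases h3 : ∃ x : F, w1 = x • w
    · obtain ⟨x, hx⟩ := h3
      have h4 : ¬ ∃ y : F, w2 = y • w := by
        rintro ⟨y, hy⟩
        have hx0 : x ≠ 0 := by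
          rintro rfl
          exact hw1 (by rw [hx, zero_smul])
        apply hw21
        exact ⟨y * x⁻¹, by rw [hx, smul_smul, mul_assoc, inv_mul_cancel₀ hx0, mul_one]; exact hy⟩
      rw [hind w w2 hw h4 c, hind w1 w2 hw1 hw21 c]
    · exact hind w w1 hw h3 c
  have hd0 : ∀ c w, h (c • w) = d w1 c • h w := by
    intro c w
    rcases eq_or_ne w 0 with h3 | h3
    · rw [h3, smul_zero, map_zero, smul_zero]
    · rw [hd, hall w h3]
  refine ⟨{ toFun := d w1, map_one' := ?_, map_mul' := ?_, map_zero' := ?_, map_add' := ?_ }, hd0⟩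
  · apply huniq w1 hw1
    rw [← hd0, one_smul, one_smul]
  · intro x y
    apply huniq w1 hw1
    rw [← hd0, mul_smul, hd0, hd0, smul_smul]
  · apply huniq w1 hw1
    rw [← hd0, zero_smul, zero_smul, map_zero]
  · intro x y
    apply huniq w1 hw1
    rw [← hd0, add_smul, map_add, hd0, hd0, add_smul]

variable {F : Type*} [Field F] {n : ℕ} {α : MulAut (Matrix.ProjectiveSpecialLinearGroup (Fin n) F)}
  {a b : Matrix.SpecialLinearGroup (Fin n) F → Matrix.SpecialLinearGroup (Fin n) F}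

/-- the point of the image -/
def R (a : Matrix.SpecialLinearGroup (Fin n) F → Matrix.SpecialLinearGroup (Fin n) F) (v v' : Fin n → F) : Prop :=
  ∃ φ φ' s, Tr v φ s ∧ Tr v' φ' (a s)

/-- `a` preserves points -/
def PP (a : Matrix.SpecialLinearGroup (Fin n) F → Matrix.SpecialLinearGroup (Fin n) F) : Prop :=
  ∀ s t, IsT s → IsT t → (SP (a s) (a t) ↔ SP s t)

theorem exists_cov (hn : 2 ≤ n) (v : Fin n → F) : ∃ φ : Fin n → F, φ ≠ 0 ∧ φ ⬝ᵥ v = 0 := by
  let f : (Fin n → F) →ₗ[F] (Fin 1 → F) := (Matrix.of ![v]).mulVecLin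
  have h1 : LinearMap.ker f ≠ ⊥ := by
    intro hbot
    have hinj := LinearMap.ker_eq_bot.1 hbot
    have := LinearMap.finrank_le_finrank_of_injective hinj
    rw [Module.finrank_fin_fun, Module.finrank_fin_fun] at this
    omega
  obtain ⟨u, hu, hu0⟩ := Submodule.exists_mem_ne_zero_of_ne_bot h1
  refine ⟨u, hu0, ?_⟩
  rw [dotProduct_comm]
  exact congrFun (LinearMap.mem_ker.1 hu) 0

theorem R.ne {v v' : Fin n → F} (h : R a v v') : v ≠ 0 ∧ v' ≠ 0 := by
  obtain ⟨φ, φ', s, h1, h2⟩ := h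
  exact ⟨h1.1, h2.1⟩

theorem R.par_iff (hP : PP a) {v v' w w' : Fin n → F} (h : R a v v') (h' : R a w w') : Par v' w' ↔ Par v w := by
  obtain ⟨φ, φ', s, h1, h2⟩ := h
  obtain ⟨ψ, ψ', t, h3, h4⟩ := h'
  rw [← SP_iff h2 h4, ← SP_iff h1 h3]
  exact hP s t ⟨_, _, h1⟩ ⟨_, _, h3⟩

theorem R.act (ha : Lift α a) {v v' : Fin n → F} (h : R a v v') (x : Matrix.SpecialLinearGroup (Fin n) F) :
    R a ((x : Matrix (Fin n) (Fin n) F) *ᵥ v) ((a x : Matrix (Fin n) (Fin n) F) *ᵥ v') := by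
  obtain ⟨φ, φ', s, h1, h2⟩ := h
  refine ⟨_, φ' ᵥ* (((a x)⁻¹ : Matrix.SpecialLinearGroup (Fin n) F) : Matrix (Fin n) (Fin n) F), _, h1.conj x, ?_⟩
  rw [ha.conj ⟨_, _, h1⟩]
  exact h2.conj (a x)

theorem R.smul {v v' : Fin n → F} (h : R a v v') {c d : F} (hc : c ≠ 0) (hd : d ≠ 0) : R a (c • v) (d • v') := by
  obtain ⟨φ, φ', s, h1, h2⟩ := h
  exact ⟨_, _, s, h1.smul hc, h2.smul hd⟩

/-- constructor for `SL` -/
def mkSL (A : Matrix (Fin n) (Fin n) F) (h : A.det = 1) : Matrix.SpecialLinearGroup (Fin n) F := ⟨A, h⟩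

open Classical in
/-- the transvection `1 + v ⊗ φ` (or `1`) -/
noncomputable def tv (v φ : Fin n → F) : Matrix.SpecialLinearGroup (Fin n) F :=
  if h : φ ⬝ᵥ v = 0 then mkSL (1 + vecMulVec v φ) (by rw [det_one_add, h, add_zero]) else 1

theorem tv_coe {v φ : Fin n → F} (h : φ ⬝ᵥ v = 0) :
    ((tv v φ : Matrix.SpecialLinearGroup (Fin n) F) : Matrix (Fin n) (Fin n) F) = 1 + vecMulVec v φ := by
  rw [tv, dif_pos h]; rfl

theorem tv_Tr {v φ : Fin n → F} (hv : v ≠ 0) (hφ : φ ≠ 0) (h : φ ⬝ᵥ v = 0) : Tr v φ (tv v φ) :=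
  ⟨hv, hφ, tv_coe h⟩

theorem tv_zero (φ : Fin n → F) : tv 0 φ = 1 := by
  apply Subtype.ext
  show ((tv 0 φ : Matrix.SpecialLinearGroup (Fin n) F) : Matrix (Fin n) (Fin n) F) = 1
  rw [tv_coe (dotProduct_zero φ), zero_vecMulVec, add_zero]

theorem tv_mul {v w φ : Fin n → F} (hv : φ ⬝ᵥ v = 0) (hw : φ ⬝ᵥ w = 0) : tv (v + w) φ = tv v φ * tv w φ := by
  apply Subtype.ext
  show ((tv (v + w) φ : Matrix.SpecialLinearGroup (Fin n) F) : Matrix (Fin n) (Fin n) F) =
    (tv v φ : Matrix (Fin n) (Fin n) F) * (tv w φ : Matrix (Fin n) (Fin n) F)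
  rw [tv_coe (by rw [dotProduct_add, hv, hw, add_zero]), tv_coe hv, tv_coe hw, mul_add, mul_one, add_mul, one_mul,
    vecMulVec_mul_vecMulVec, hw, zero_smul, vecMulVec_zero, add_zero, add_vecMulVec, add_assoc]

theorem stageD (ha : Lift α a) {φ0 φ0' e e' : Fin n → F} (hφ0 : φ0 ≠ 0) (he : φ0 ⬝ᵥ e = 1)
    (he' : φ0' ⬝ᵥ e' = 1) (hR : R a e e') (h : (Fin n → F) → (Fin n → F)) (σ : F ≃+* F)
    (hadd : ∀ w w', φ0 ⬝ᵥ w = 0 → φ0 ⬝ᵥ w' = 0 → h (w + w') = h w + h w')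
    (hsmul : ∀ (c : F) w, φ0 ⬝ᵥ w = 0 → h (c • w) = σ c • h w)
    (hh : ∀ w, φ0 ⬝ᵥ w = 0 → w ≠ 0 → Tr (h w) φ0' (a (tv w φ0))) :
    ∃ g : GL (Fin n) F, ∀ v, v ≠ 0 → R a v (g.1 *ᵥ fun i => σ (v i)) := by
  have hz : h 0 = 0 := by
    have := hsmul 0 0 (dotProduct_zero φ0)
    rwa [zero_smul, map_zero, zero_smul] at this
  have hK : ∀ v, φ0 ⬝ᵥ (v - (φ0 ⬝ᵥ v) • e) = 0 := by
    intro v
    rw [dotProduct_sub, dotProduct_smul, he, smul_eq_mul, mul_one, sub_self]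
  let G : (Fin n → F) →ₛₗ[(σ : F →+* F)] (Fin n → F) :=
    { toFun := fun v => σ (φ0 ⬝ᵥ v) • e' + h (v - (φ0 ⬝ᵥ v) • e)
      map_add' := by
        intro v w
        have h1 : v + w - (φ0 ⬝ᵥ (v + w)) • e = (v - (φ0 ⬝ᵥ v) • e) + (w - (φ0 ⬝ᵥ w) • e) := by
          rw [dotProduct_add, add_smul]; abel
        rw [h1, hadd _ _ (hK v) (hK w), dotProduct_add, map_add, add_smul]
        abel
      map_smul' := by
        intro c v
        have h1 : c • v - (φ0 ⬝ᵥ (c • v)) • e = c • (v - (φ0 ⬝ᵥ v) • e) := by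
          rw [dotProduct_smul, smul_sub, smul_smul, smul_eq_mul]
        rw [h1, hsmul _ _ (hK v), dotProduct_smul, smul_eq_mul, map_mul, smul_add, smul_smul]
        rfl }
  have hG : ∀ v, G v = σ (φ0 ⬝ᵥ v) • e' + h (v - (φ0 ⬝ᵥ v) • e) := fun v => rfl
  have hRK : ∀ w, φ0 ⬝ᵥ w = 0 → w ≠ 0 → R a w (h w) := fun w hw hw0 =>
    ⟨φ0, φ0', tv w φ0, tv_Tr hw0 hφ0 hw, hh w hw hw0⟩
  have hRe : ∀ w, φ0 ⬝ᵥ w = 0 → R a (e + w) (e' + h w) := by
    intro w hw
    rcases eq_or_ne w 0 with h0 | h0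
    · rw [h0, hz, add_zero, add_zero]; exact hR
    · have h1 := hR.act ha (tv w φ0)
      rw [tv_coe hw, (hh w hw h0).2.2, add_mulVec, add_mulVec, one_mulVec, one_mulVec, tmv, tmv, he, he', one_smul,
        one_smul] at h1
      exact h1
  have hRG : ∀ v, v ≠ 0 → R a v (G v) := by
    intro v hv
    rw [hG]
    by_cases hc : φ0 ⬝ᵥ v = 0
    · rw [hc, map_zero, zero_smul, zero_smul, sub_zero, zero_add]
      exact hRK v hc hv
    · have h1 : φ0 ⬝ᵥ ((φ0 ⬝ᵥ v)⁻¹ • (v - (φ0 ⬝ᵥ v) • e)) = 0 := by rw [dotProduct_smul, hK, smul_zero]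
      have h2 := (hRe _ h1).smul hc ((map_ne_zero σ).2 hc)
      rw [smul_add, smul_smul, mul_inv_cancel₀ hc, one_smul, add_sub_cancel, smul_add, ← hsmul _ _ h1, smul_smul,
        mul_inv_cancel₀ hc, one_smul] at h2
      exact h2
  let g : Matrix (Fin n) (Fin n) F := Matrix.of fun i j => G (Pi.single j 1) i
  have hg : ∀ v : Fin n → F, g *ᵥ (fun i => σ (v i)) = G v := by
    intro v
    have h1 : v = ∑ j, v j • (Pi.single j 1 : Fin n → F) := by
      ext i
      simp [Finset.sum_apply, Pi.single_apply]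
    conv_rhs => rw [h1]
    rw [map_sum]
    ext i
    rw [Finset.sum_apply]
    simp only [mulVec, dotProduct, g, Matrix.of_apply]
    apply Finset.sum_congr rfl
    intro j _
    rw [map_smulₛₗ, Pi.smul_apply, smul_eq_mul, mul_comm]
    rfl
  have hu : IsUnit g := by
    rw [← mulVec_injective_iff_isUnit]
    have h1 : ∀ u, g *ᵥ u = 0 → u = 0 := by
      intro u hu
      by_contra hne
      have h2 : (fun i => σ.symm (u i)) ≠ 0 := by
        intro h3
        apply hne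
        ext i
        have := congrFun h3 i
        simpa using this
      have h3 := (hRG _ h2).ne.2
      apply h3
      rw [← hg]
      simpa using hu
    intro u u' huu
    have h2 : g *ᵥ (u - u') = 0 := by rw [mulVec_sub, sub_eq_zero]; exact huu
    exact sub_eq_zero.1 (h1 _ h2)
  obtain ⟨g', hg'⟩ := hu
  refine ⟨g', fun v hv => ?_⟩
  rw [hg', hg]
  exact hRG v hv

theorem scalar_of_par {M : Matrix (Fin n) (Fin n) F} (h : ∀ u, u ≠ 0 → ∃ c : F, M *ᵥ u = c • u) :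
    ∃ c : F, M = c • (1 : Matrix (Fin n) (Fin n) F) := by
  rcases isEmpty_or_nonempty (Fin n) with hem | ⟨⟨i0⟩⟩
  · exact ⟨1, Subsingleton.elim _ _⟩
  have hne : ∀ i : Fin n, (Pi.single i 1 : Fin n → F) ≠ 0 := by
    intro i h; have := congrFun h i; simp at this
  choose! c hc using h
  have h1 : ∀ i, c (Pi.single i 1) = c (Pi.single i0 1) := by
    intro i
    rcases eq_or_ne i i0 with h2 | h2
    · rw [h2]
    have hs : (Pi.single i 1 + Pi.single i0 1 : Fin n → F) ≠ 0 := by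
      intro h; have := congrFun h i; simp [h2] at this
    have h3 := hc _ hs
    rw [mulVec_add, hc _ (hne i), hc _ (hne i0)] at h3
    have h4 := congrFun h3 i
    have h5 := congrFun h3 i0
    simp [h2] at h4
    simp [h2.symm] at h5
    rw [h4, h5]
  refine ⟨c (Pi.single i0 1), ?_⟩
  apply Matrix.ext_of_mulVec_single
  intro i
  rw [hc _ (hne i), h1 i, smul_mulVec, one_mulVec]

theorem mk_eq_of_par {A B : Matrix.SpecialLinearGroup (Fin n) F}
    (h : ∀ u, u ≠ 0 → Par ((A : Matrix (Fin n) (Fin n) F) *ᵥ u) ((B : Matrix (Fin n) (Fin n) F) *ᵥ u)) :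
    (QuotientGroup.mk A : Matrix.ProjectiveSpecialLinearGroup (Fin n) F) = QuotientGroup.mk B := by
  have hA : ((A⁻¹ : Matrix.SpecialLinearGroup (Fin n) F) : Matrix (Fin n) (Fin n) F) * (A : Matrix (Fin n) (Fin n) F) = 1 := by
    rw [← Matrix.SpecialLinearGroup.coe_mul, inv_mul_cancel, Matrix.SpecialLinearGroup.coe_one]
  have hA' : (A : Matrix (Fin n) (Fin n) F) * ((A⁻¹ : Matrix.SpecialLinearGroup (Fin n) F) : Matrix (Fin n) (Fin n) F) = 1 := by
    rw [← Matrix.SpecialLinearGroup.coe_mul, mul_inv_cancel, Matrix.SpecialLinearGroup.coe_one]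
  obtain ⟨c, hc⟩ := scalar_of_par (M := ((A⁻¹ : Matrix.SpecialLinearGroup (Fin n) F) : Matrix (Fin n) (Fin n) F) * (B : Matrix (Fin n) (Fin n) F)) (by
    intro u hu
    obtain ⟨c, _, hc⟩ := h u hu
    refine ⟨c, ?_⟩
    rw [← mulVec_mulVec, hc, mulVec_smul, mulVec_mulVec, hA, one_mulVec])
  rw [mk_eq_iff]
  refine ⟨c, ?_⟩
  have := congrArg (fun z => (A : Matrix (Fin n) (Fin n) F) * z) hc
  simp only [← mul_assoc, hA', one_mul, Matrix.mul_smul, mul_one] at this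
  exact this

theorem semi_mulVec (g : GL (Fin n) F) (σ : F ≃+* F) (s : Matrix.SpecialLinearGroup (Fin n) F) (v : Fin n → F) :
    ((semi g σ s : Matrix.SpecialLinearGroup (Fin n) F) : Matrix (Fin n) (Fin n) F) *ᵥ (g.1 *ᵥ fun i => σ (v i)) =
      g.1 *ᵥ fun i => σ (((s : Matrix (Fin n) (Fin n) F) *ᵥ v) i) := by
  have hg : (g⁻¹).1 * g.1 = 1 := g.inv_mul
  rw [semi_coe, mulVec_mulVec, mul_assoc, hg, mul_one, ← mulVec_mulVec]
  congr 1
  ext i
  simp only [mulVec, dotProduct, map_sum, map_mul, Matrix.map_apply]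

theorem eq_semi (ha : Lift α a) (hP : PP a) (g : GL (Fin n) F) (σ : F ≃+* F)
    (hg : ∀ v, v ≠ 0 → R a v (g.1 *ᵥ fun i => σ (v i))) : α = psl (semi g σ) := by
  apply MulEquiv.ext
  intro x
  obtain ⟨s, rfl⟩ := QuotientGroup.mk_surjective x
  rw [ha.mkEq, psl_mk]
  apply mk_eq_of_par
  intro u hu
  have hg1 : g.1 * (g⁻¹).1 = 1 := g.mul_inv
  have hg2 : (g⁻¹).1 * g.1 = 1 := g.inv_mul
  have hs : ((s⁻¹ : Matrix.SpecialLinearGroup (Fin n) F) : Matrix (Fin n) (Fin n) F) * (s : Matrix (Fin n) (Fin n) F) = 1 := by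
    rw [← Matrix.SpecialLinearGroup.coe_mul, inv_mul_cancel, Matrix.SpecialLinearGroup.coe_one]
  let v : Fin n → F := fun i => σ.symm (((g⁻¹).1 *ᵥ u) i)
  have huv : u = g.1 *ᵥ fun i => σ (v i) := by
    simp only [v, RingEquiv.apply_symm_apply]
    rw [mulVec_mulVec, hg1, one_mulVec]
  have hv : v ≠ 0 := by
    intro h0
    apply hu
    rw [huv, h0]
    simp only [Pi.zero_apply, map_zero]
    exact mulVec_zero _
  have hsv : (s : Matrix (Fin n) (Fin n) F) *ᵥ v ≠ 0 := by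
    intro h0
    apply hv
    have := congrArg (fun z => ((s⁻¹ : Matrix.SpecialLinearGroup (Fin n) F) : Matrix (Fin n) (Fin n) F) *ᵥ z) h0
    simpa only [mulVec_mulVec, hs, one_mulVec, mulVec_zero] using this
  have h1 := (hg v hv).act ha s
  have h2 := hg _ hsv
  rw [← semi_mulVec] at h2
  rw [huv]
  exact (h1.par_iff hP h2).2 (Par.refl _)

end CfsgLib.AutPSL
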