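import Cfsg.Agent.Lib.AutPSL4

/-!
# Automorphisms of `PSL_n(F)`, part 5: the main theorem.
-/

set_option autoImplicit false

namespace CfsgLib.AutPSL

open Matrix

variable {F : Type*} [Field F] {n : ℕ} {α : MulAut (Matrix.ProjectiveSpecialLinearGroup (Fin n) F)}
  {a b : Matrix.SpecialLinearGroup (Fin n) F → Matrix.SpecialLinearGroup (Fin n) F}

theorem single_ne (i : Fin n) : (Pi.single i 1 : Fin n → F) ≠ 0 := by
  intro h; have := congrFun h i; simp at this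

/-- additivity of the action on the elements with a fixed hyperplane -/
theorem exists_h (ha : Lift α a) (hH : ∀ s t, SH s t → SH (a s) (a t)) {φ0 : Fin n → F} (hφ0 : φ0 ≠ 0)
    {k0 : Fin n → F} (hk0 : k0 ≠ 0) (hk : φ0 ⬝ᵥ k0 = 0) :
    ∃ (h : (Fin n → F) → (Fin n → F)) (φ0' : Fin n → F), φ0' ≠ 0 ∧
      (∀ w w', φ0 ⬝ᵥ w = 0 → φ0 ⬝ᵥ w' = 0 → h (w + w') = h w + h w') ∧
      (∀ w, φ0 ⬝ᵥ w = 0 → w ≠ 0 → Tr (h w) φ0' (a (tv w φ0))) ∧ h 0 = 0 := by
  obtain ⟨k0', φ0', ht0⟩ := ha.isT _ ⟨_, _, tv_Tr hk0 hφ0 hk⟩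
  have h1 : ∀ w, ∃ w' : Fin n → F, φ0 ⬝ᵥ w = 0 →
      ((a (tv w φ0) : Matrix.SpecialLinearGroup (Fin n) F) : Matrix (Fin n) (Fin n) F) = 1 + vecMulVec w' φ0' ∧ (w ≠ 0 → Tr w' φ0' (a (tv w φ0))) := by
    intro w
    by_cases hw : φ0 ⬝ᵥ w = 0
    · rcases eq_or_ne w 0 with h0 | h0
      · refine ⟨0, fun _ => ⟨?_, fun h => absurd h0 h⟩⟩
        rw [h0, tv_zero, ha.one, zero_vecMulVec, add_zero]; rfl
      · have h2 := tv_Tr h0 hφ0 hw
        obtain ⟨w1, φ1, h3⟩ := ha.isT _ ⟨_, _, h2⟩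
        have h4 := (SH_iff h3 ht0).1 (hH _ _ ⟨_, _, _, h2, tv_Tr hk0 hφ0 hk⟩)
        obtain ⟨w', _, h5⟩ := h3.of_par_right h4
        exact ⟨w', fun _ => ⟨h5.2.2, fun _ => h5⟩⟩
    · exact ⟨0, fun h => absurd h hw⟩
  choose h hh using h1
  have huniq : ∀ x y : Fin n → F, (1 : Matrix (Fin n) (Fin n) F) + vecMulVec x φ0' = 1 + vecMulVec y φ0' → x = y := by
    intro x y hxy
    have h2 := add_left_cancel hxy
    obtain ⟨i, hi⟩ := Function.ne_iff.1 ht0.2.1
    rw [Pi.zero_apply] at hi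
    ext j
    have h3 := congrFun (congrFun h2 j) i
    rw [vecMulVec_apply, vecMulVec_apply] at h3
    exact mul_right_cancel₀ hi h3
  have hdot : ∀ w, φ0 ⬝ᵥ w = 0 → φ0' ⬝ᵥ h w = 0 := by
    intro w hw
    rcases eq_or_ne w 0 with h0 | h0
    · have h2 := (hh w hw).1
      have h3 : h w = 0 := by
        apply huniq
        rw [← h2, h0, tv_zero, ha.one, zero_vecMulVec, add_zero]; rfl
      rw [h3, dotProduct_zero]
    · exact ((hh w hw).2 h0).dot
  have hT1 : ∀ w, φ0 ⬝ᵥ w = 0 → IsT (a (tv w φ0)) ∨ a (tv w φ0) = 1 := by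
    intro w hw
    rcases eq_or_ne w 0 with h0 | h0
    · right; rw [h0, tv_zero, ha.one]
    · left; exact ⟨_, _, (hh w hw).2 h0⟩
  refine ⟨h, φ0', ht0.2.1, ?_, fun w hw => (hh w hw).2, ?_⟩
  · intro w w' hw hw'
    have hww' : φ0 ⬝ᵥ (w + w') = 0 := by rw [dotProduct_add, hw, hw', add_zero]
    have hprod : ((a (tv w φ0) * a (tv w' φ0) : Matrix.SpecialLinearGroup (Fin n) F) : Matrix (Fin n) (Fin n) F) =
        1 + vecMulVec (h w + h w') φ0' := by
      rw [Matrix.SpecialLinearGroup.coe_mul, (hh w hw).1, (hh w' hw').1, mul_add, mul_one, add_mul, one_mul,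
        vecMulVec_mul_vecMulVec, hdot w' hw', zero_smul, vecMulVec_zero, add_zero, add_vecMulVec, add_assoc]
    have h3 : a (tv (w + w') φ0) = a (tv w φ0) * a (tv w' φ0) := by
      apply isT_mk_inj (hT1 _ hww')
      · by_cases h0 : h w + h w' = 0
        · right
          apply Subtype.ext
          show ((a (tv w φ0) * a (tv w' φ0) : Matrix.SpecialLinearGroup (Fin n) F) : Matrix (Fin n) (Fin n) F) = 1
          rw [hprod, h0, zero_vecMulVec, add_zero]
        · left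
          exact ⟨_, _, h0, ht0.2.1, hprod⟩
      · rw [← ha.mkEq, tv_mul hw hw', QuotientGroup.mk_mul, map_mul, ha.mkEq, ha.mkEq, QuotientGroup.mk_mul]
    apply huniq
    rw [← (hh _ hww').1, h3, hprod]
  · apply huniq
    rw [← (hh 0 (dotProduct_zero _)).1, tv_zero, ha.one, zero_vecMulVec, add_zero]; rfl

/-- the image of a vector off the hyperplane -/
theorem exists_e (hn : 2 ≤ n) (ha : Lift α a) (hb : Lift α⁻¹ b) (hP : PP a)
    (hH : ∀ s t, IsT s → IsT t → (SH (a s) (a t) ↔ SH s t)) {φ0 : Fin n → F} (hφ0 : φ0 ≠ 0)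
    {k0 : Fin n → F} (hk0 : k0 ≠ 0) (hk : φ0 ⬝ᵥ k0 = 0) {e : Fin n → F} (he : φ0 ⬝ᵥ e = 1) {k0' φ0' : Fin n → F}
    (ht : Tr k0' φ0' (a (tv k0 φ0))) : ∃ e', R a e e' ∧ φ0' ⬝ᵥ e' = 1 := by
  have he0 : e ≠ 0 := by
    rintro rfl
    rw [dotProduct_zero] at he
    exact zero_ne_one he
  obtain ⟨χ, hχ, hχe⟩ := exists_cov hn e
  have h1 := tv_Tr he0 hχ hχe
  obtain ⟨e1, χ1, h2⟩ := ha.isT _ ⟨_, _, h1⟩
  have hR : R a e e1 := ⟨_, _, _, h1, h2⟩
  have h3 : φ0' ⬝ᵥ e1 ≠ 0 := by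
    intro h0
    obtain ⟨r', hr'⟩ := exists_Tr h2.1 ht.2.1 h0
    have hTr : IsT r' := ⟨_, _, hr'⟩
    have hTb := hb.isT _ hTr
    obtain ⟨x, ψ, hx⟩ := hTb
    have h4 : a (b r') = r' := ha.apply_symm hb hTr
    have h5 : SP (b r') (tv e χ) := by
      rw [← hP _ _ ⟨_, _, hx⟩ ⟨_, _, h1⟩, h4]
      exact ⟨_, _, _, hr', h2⟩
    have h6 : SH (b r') (tv k0 φ0) := by
      rw [← hH _ _ ⟨_, _, hx⟩ ⟨_, _, tv_Tr hk0 hφ0 hk⟩, h4]
      exact ⟨_, _, _, hr', ht⟩
    rw [SP_iff hx h1] at h5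
    rw [SH_iff hx (tv_Tr hk0 hφ0 hk)] at h6
    obtain ⟨c, hc, rfl⟩ := h5
    obtain ⟨d, hd, rfl⟩ := h6
    rw [dotProduct_smul, smul_dotProduct, hx.dot, smul_zero, smul_zero] at he
    exact zero_ne_one he
  refine ⟨(φ0' ⬝ᵥ e1)⁻¹ • e1, ?_, ?_⟩
  · have := hR.smul one_ne_zero (inv_ne_zero h3)
    rwa [one_smul] at this
  · rw [dotProduct_smul, smul_eq_mul, inv_mul_cancel₀ h3]

/-- type-preserving automorphisms are semilinear, `n ≥ 3` -/
theorem main_three [Finite F] (hn : 3 ≤ n) (ha : Lift α a) (hb : Lift α⁻¹ b) (h : ∀ s t, SP s t → SP (a s) (a t)) :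
    ∃ (g : GL (Fin n) F) (σ : F ≃+* F), α = psl (semi g σ) := by
  have hP : PP a := fun s t hs ht => ha.sp_iff hn hb h hs ht
  have ha' : Lift (α⁻¹)⁻¹ a := by rw [inv_inv]; exact ha
  have hbP : ∀ s t, SP s t → SP (b s) (b t) := by
    intro s t hst
    rw [← hP _ _ (hb.isT _ hst.isT.1) (hb.isT _ hst.isT.2), ha.apply_symm hb hst.isT.1, ha.apply_symm hb hst.isT.2]
    exact hst
  have hH1 : ∀ s t, SH s t → SH (a s) (a t) := fun s t hst => ha.sh hn hb h hst
  have hH : ∀ s t, IsT s → IsT t → (SH (a s) (a t) ↔ SH s t) := by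
    intro s t hs ht
    refine ⟨fun h1 => ?_, hH1 s t⟩
    have := hb.sh hn ha' hbP h1
    rwa [ha.symm_apply hb hs, ha.symm_apply hb ht] at this
  have h0n : 0 < n := by omega
  let i0 : Fin n := ⟨0, h0n⟩
  let il : Fin n := ⟨n - 1, by omega⟩
  have h0l : i0 ≠ il := by
    intro h
    have := congrArg Fin.val h
    simp [i0, il] at this
    omega
  let φ0 : Fin n → F := Pi.single i0 1
  let e : Fin n → F := Pi.single i0 1
  let k0 : Fin n → F := Pi.single il 1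
  have hφ0 : φ0 ≠ 0 := single_ne i0
  have hk0 : k0 ≠ 0 := single_ne il
  have hk : φ0 ⬝ᵥ k0 = 0 := by simp [φ0, k0, h0l]
  have he : φ0 ⬝ᵥ e = 1 := by simp [φ0, e]
  obtain ⟨hf, φ0', hφ0', hadd, hh, hz⟩ := exists_h ha hH1 hφ0 hk0 hk
  obtain ⟨e', hR, he'⟩ := exists_e (by omega) ha hb hP hH hφ0 hk0 hk he (hh k0 hk hk0)
  -- the semilinear map on the hyperplane
  let L : (Fin n → F) →ₗ[F] F :=
    { toFun := fun w => φ0 ⬝ᵥ w
      map_add' := fun x y => dotProduct_add _ _ _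
      map_smul' := fun c x => by rw [dotProduct_smul]; rfl }
  let K : Submodule F (Fin n → F) := LinearMap.ker L
  have hK : ∀ w : K, φ0 ⬝ᵥ (w : Fin n → F) = 0 := fun w => LinearMap.mem_ker.1 w.2
  let H : K →+ (Fin n → F) :=
    { toFun := fun w => hf w
      map_zero' := hz
      map_add' := fun x y => hadd _ _ (hK x) (hK y) }
  have hHne : ∀ w : K, w ≠ 0 → H w ≠ 0 := fun w hw =>
    (hh w (hK w) (fun h => hw (Subtype.ext h))).1
  have hpar : ∀ w w' : K, w ≠ 0 → w' ≠ 0 → (Par (H w) (H w') ↔ Par (w : Fin n → F) w') := by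
    intro w w' hw hw'
    have hw1 : (w : Fin n → F) ≠ 0 := fun h => hw (Subtype.ext h)
    have hw1' : (w' : Fin n → F) ≠ 0 := fun h => hw' (Subtype.ext h)
    rw [← SP_iff (tv_Tr hw1 hφ0 (hK w)) (tv_Tr hw1' hφ0 (hK w')), ← hP _ _ ⟨_, _, tv_Tr hw1 hφ0 (hK w)⟩ ⟨_, _, tv_Tr hw1' hφ0 (hK w')⟩,
      SP_iff (hh w (hK w) hw1) (hh w' (hK w') hw1')]
    rfl
  obtain ⟨σ, hσ⟩ := semilinear_of_lines (F := F) H hHne
    (by
      intro w c
      rcases eq_or_ne w 0 with h1 | h1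
      · exact ⟨0, by rw [h1, smul_zero, map_zero, zero_smul]⟩
      rcases eq_or_ne c 0 with h2 | h2
      · exact ⟨0, by rw [h2, zero_smul, map_zero, zero_smul]⟩
      have h3 : c • w ≠ 0 := smul_ne_zero h2 h1
      obtain ⟨d, _, hd⟩ := (hpar w (c • w) h1 h3).2 ⟨c, h2, rfl⟩
      exact ⟨d, hd⟩)
    (by
      rintro w w' hw ⟨d, hd⟩
      rcases eq_or_ne w' 0 with h1 | h1
      · exact ⟨0, by rw [h1, zero_smul]⟩
      have hd0 : d ≠ 0 := by
        rintro rfl
        rw [zero_smul] at hd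
        exact hHne w' h1 hd
      obtain ⟨c, _, hc⟩ := (hpar w w' hw h1).1 ⟨d, hd0, hd⟩
      exact ⟨c, Subtype.ext hc⟩)
    (by
      obtain ⟨w, hw, hw1, hw2⟩ := exists_not_par' hn φ0 k0
      refine ⟨⟨k0, LinearMap.mem_ker.2 hk⟩, ⟨w, LinearMap.mem_ker.2 hw1⟩, fun h => hk0 (Subtype.ext_iff.1 h), fun h => hw (Subtype.ext_iff.1 h), ?_, ?_⟩
      · rintro ⟨c, hc⟩
        have hc' : w = c • k0 := Subtype.ext_iff.1 hc
        apply hw2
        apply Par.symm
        refine ⟨c, ?_, hc'⟩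
        rintro rfl
        exact hw (by rw [hc', zero_smul])
      · rintro ⟨c, hc⟩
        have hc' : k0 = c • w := Subtype.ext_iff.1 hc
        apply hw2
        refine ⟨c, ?_, hc'⟩
        rintro rfl
        exact hk0 (by rw [hc', zero_smul]))
  have hbij : Function.Bijective σ := Finite.injective_iff_bijective.1 σ.injective
  let σ' : F ≃+* F := RingEquiv.ofBijective σ hbij
  obtain ⟨g, hg⟩ := stageD ha hφ0 he he' hR hf σ' hadd
    (fun c w hw => hσ c ⟨w, LinearMap.mem_ker.2 hw⟩) hh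
  exact ⟨g, σ', eq_semi ha hP g σ' hg⟩

theorem two_dim {φ v x : Fin 2 → F} (hφ : φ ≠ 0) (hv : v ≠ 0) (h1 : φ ⬝ᵥ v = 0) (h2 : φ ⬝ᵥ x = 0) : ∃ k : F, x = k • v := by
  rw [Matrix.vec2_dotProduct] at h1 h2
  have hdet : v 0 * x 1 = v 1 * x 0 := by
    by_cases h0 : φ 0 = 0
    · have h3 : φ 1 ≠ 0 := by
        intro h4; apply hφ; ext i; fin_cases i <;> simpa
      rw [h0, zero_mul, zero_add] at h1 h2
      have h4 := (mul_eq_zero.1 h1).resolve_left h3
      have h5 := (mul_eq_zero.1 h2).resolve_left h3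
      rw [h4, h5]; ring
    · apply mul_left_cancel₀ h0
      linear_combination x 1 * h1 - v 1 * h2
  by_cases h0 : v 0 = 0
  · have h3 : v 1 ≠ 0 := by
      intro h4; apply hv; ext i; fin_cases i <;> simpa
    refine ⟨x 1 / v 1, ?_⟩
    rw [h0, zero_mul] at hdet
    have h4 := (mul_eq_zero.1 hdet.symm).resolve_left h3
    ext i; fin_cases i
    · simp [h0, h4]
    · simp [h3]
  · refine ⟨x 0 / v 0, ?_⟩
    ext i; fin_cases i
    · simp [h0]
    · simp only [Fin.mk_one, Pi.smul_apply, smul_eq_mul]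
      rw [div_mul_eq_mul_div, eq_div_iff h0]
      linear_combination hdet

theorem par_iff_two {v w φ ψ : Fin 2 → F} (hv : v ≠ 0) (hw : w ≠ 0) (hφ : φ ≠ 0) (hψ : ψ ≠ 0) (h1 : φ ⬝ᵥ v = 0)
    (h2 : ψ ⬝ᵥ w = 0) : Par v w ↔ Par φ ψ := by
  constructor
  · rintro ⟨c, hc, rfl⟩
    rw [dotProduct_smul, smul_eq_mul] at h2
    have h3 := (mul_eq_zero.1 h2).resolve_left hc
    obtain ⟨k, hk⟩ := two_dim hv hφ (by rw [dotProduct_comm]; exact h1) (by rw [dotProduct_comm]; exact h3)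
    refine ⟨k, ?_, hk⟩
    rintro rfl
    exact hψ (by rw [hk, zero_smul])
  · rintro ⟨c, hc, rfl⟩
    rw [smul_dotProduct, smul_eq_mul] at h2
    have h3 := (mul_eq_zero.1 h2).resolve_left hc
    obtain ⟨k, hk⟩ := two_dim hφ hv h1 h3
    refine ⟨k, ?_, hk⟩
    rintro rfl
    exact hw (by rw [hk, zero_smul])

theorem SP_iff_SH_two {s t : Matrix.SpecialLinearGroup (Fin 2) F} (hs : IsT s) (ht : IsT t) : SP s t ↔ SH s t := by
  obtain ⟨v, φ, h1⟩ := hs
  obtain ⟨w, ψ, h2⟩ := ht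
  rw [SP_iff h1 h2, SH_iff h1 h2]
  exact par_iff_two h1.1 h2.1 h1.2.1 h2.2.1 h1.dot h2.dot

theorem SP_iff_comm {s t : Matrix.SpecialLinearGroup (Fin 2) F} (hs : IsT s) (ht : IsT t) : SP s t ↔ s * t * s⁻¹ = t := by
  rw [mul_inv_eq_iff_eq_mul]
  constructor
  · rintro ⟨v, φ, ψ, h1, h2⟩
    apply Subtype.ext
    show ((s * t : Matrix.SpecialLinearGroup (Fin 2) F) : Matrix (Fin 2) (Fin 2) F) = ((t * s : Matrix.SpecialLinearGroup (Fin 2) F) : Matrix (Fin 2) (Fin 2) F)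
    rw [Matrix.SpecialLinearGroup.coe_mul, Matrix.SpecialLinearGroup.coe_mul, h1.2.2, h2.2.2, mul_add, mul_one, add_mul, one_mul,
      vecMulVec_mul_vecMulVec, h1.dot, mul_add, mul_one, add_mul, one_mul, vecMulVec_mul_vecMulVec, h2.dot]
    simp only [zero_smul, vecMulVec_zero, add_zero]
    abel
  · intro h
    obtain ⟨v, φ, h1⟩ := hs
    obtain ⟨w, ψ, h2⟩ := ht
    rw [SP_iff h1 h2]
    have h3 := congrArg (fun z : Matrix.SpecialLinearGroup (Fin 2) F => (z : Matrix (Fin 2) (Fin 2) F)) h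
    simp only [Matrix.SpecialLinearGroup.coe_mul, h1.2.2, h2.2.2, mul_add, mul_one, add_mul, one_mul, vecMulVec_mul_vecMulVec] at h3
    have h4 : vecMulVec v ((φ ⬝ᵥ w) • ψ) = vecMulVec w ((ψ ⬝ᵥ v) • φ) := by
      have h5 : (1 + vecMulVec v φ + vecMulVec w ψ) + vecMulVec v ((φ ⬝ᵥ w) • ψ) =
          (1 + vecMulVec v φ + vecMulVec w ψ) + vecMulVec w ((ψ ⬝ᵥ v) • φ) := by
        calc _ = 1 + vecMulVec v φ + (vecMulVec w ψ + vecMulVec v ((φ ⬝ᵥ w) • ψ)) := by abel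
          _ = 1 + vecMulVec w ψ + (vecMulVec v φ + vecMulVec w ((ψ ⬝ᵥ v) • φ)) := h3
          _ = _ := by abel
      exact add_left_cancel h5
    by_cases h0 : φ ⬝ᵥ w = 0
    · obtain ⟨k, hk⟩ := two_dim h1.2.1 h1.1 h1.dot h0
      refine ⟨k, ?_, hk⟩
      rintro rfl
      exact h2.1 (by rw [hk, zero_smul])
    · obtain ⟨i, hi⟩ := Function.ne_iff.1 h2.2.1
      rw [Pi.zero_apply] at hi
      have h5 := congrArg (fun M => M *ᵥ (Pi.single i 1)) h4
      simp only [tmv, dotProduct_single, mul_one, Pi.smul_apply, smul_eq_mul] at h5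
      apply Par.symm
      refine ⟨((φ ⬝ᵥ w) * ψ i)⁻¹ * ((ψ ⬝ᵥ v) * φ i), ?_, ?_⟩
      · intro h6
        rw [mul_eq_zero] at h6
        rcases h6 with h6 | h6
        · exact mul_ne_zero h0 hi (inv_eq_zero.1 h6)
        · rw [h6, zero_smul] at h5
          rcases smul_eq_zero.1 h5 with h7 | h7
          · exact mul_ne_zero h0 hi h7
          · exact h1.1 h7
      · rw [mul_smul, ← h5, smul_smul, inv_mul_cancel₀ (mul_ne_zero h0 hi), one_smul]

/-- the case `n = 2` -/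
theorem main_two [Finite F] {α : MulAut (Matrix.ProjectiveSpecialLinearGroup (Fin 2) F)}
    {a b : Matrix.SpecialLinearGroup (Fin 2) F → Matrix.SpecialLinearGroup (Fin 2) F} (ha : Lift α a) (hb : Lift α⁻¹ b) :
    ∃ (g : GL (Fin 2) F) (σ : F ≃+* F), α = psl (semi g σ) := by
  have hP : PP a := by
    intro s t hs ht
    rw [SP_iff_comm hs ht, SP_iff_comm (ha.isT _ hs) (ha.isT _ ht)]
    constructor
    · intro h
      have h1 := hb.conj (ha.isT _ ht) (a s)
      rw [h, ha.symm_apply hb ht, ha.symm_apply hb hs] at h1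
      exact h1.symm
    · intro h
      have h1 := ha.conj ht s
      rw [h] at h1
      exact h1.symm
  have hH : ∀ s t, IsT s → IsT t → (SH (a s) (a t) ↔ SH s t) := by
    intro s t hs ht
    rw [← SP_iff_SH_two hs ht, ← SP_iff_SH_two (ha.isT _ hs) (ha.isT _ ht)]
    exact hP s t hs ht
  have hH1 : ∀ s t, SH s t → SH (a s) (a t) := fun s t h => (hH s t h.isT.1 h.isT.2).2 h
  let φ0 : Fin 2 → F := Pi.single 0 1
  let e : Fin 2 → F := Pi.single 0 1
  let k0 : Fin 2 → F := Pi.single 1 1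
  have hφ0 : φ0 ≠ 0 := single_ne 0
  have hk0 : k0 ≠ 0 := single_ne 1
  have hk : φ0 ⬝ᵥ k0 = 0 := by simp [φ0, k0]
  have he : φ0 ⬝ᵥ e = 1 := by simp [φ0, e]
  obtain ⟨h, φ0', hφ0', hadd, hh, hz⟩ := exists_h ha hH1 hφ0 hk0 hk
  obtain ⟨e', hR, he'⟩ := exists_e le_rfl ha hb hP hH hφ0 hk0 hk he (hh k0 hk hk0)
  have hKc : ∀ c : F, φ0 ⬝ᵥ (c • k0) = 0 := fun c => by rw [dotProduct_smul, hk, smul_zero]
  have hRK : ∀ c : F, c ≠ 0 → R a (c • k0) (h (c • k0)) := fun c hc =>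
    ⟨φ0, φ0', tv (c • k0) φ0, tv_Tr (smul_ne_zero hc hk0) hφ0 (hKc c), hh _ (hKc c) (smul_ne_zero hc hk0)⟩
  have hk0' : h k0 ≠ 0 := (hh k0 hk hk0).1
  have hdk : φ0' ⬝ᵥ h k0 = 0 := (hh k0 hk hk0).dot
  have hR1 : R a k0 (h k0) := by have := hRK 1 one_ne_zero; rwa [one_smul] at this
  have hf : ∀ c : F, ∃ d : F, h (c • k0) = d • h k0 := by
    intro c
    rcases eq_or_ne c 0 with h0 | h0
    · exact ⟨0, by rw [h0, zero_smul, zero_smul, hz]⟩
    · obtain ⟨d, _, hd⟩ := (hR1.par_iff hP (hRK c h0)).2 ⟨c, h0, rfl⟩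
      exact ⟨d, hd⟩
  choose f hf using hf
  have huniq : ∀ x y : F, x • h k0 = y • h k0 → x = y := by
    intro x y hxy
    have h3 : (x - y) • h k0 = 0 := by rw [sub_smul, hxy, sub_self]
    rcases smul_eq_zero.1 h3 with h4 | h4
    · exact sub_eq_zero.1 h4
    · exact absurd h4 hk0'
  have hRe : ∀ c : F, R a (e + c • k0) (e' + f c • h k0) := by
    intro c
    rcases eq_or_ne c 0 with h0 | h0
    · rw [← hf, h0, zero_smul, hz, add_zero, add_zero]; exact hR
    · have h1 := hR.act ha (tv (c • k0) φ0)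
      rw [tv_coe (hKc c), (hh _ (hKc c) (smul_ne_zero h0 hk0)).2.2, add_mulVec, add_mulVec, one_mulVec, one_mulVec, tmv, tmv, he, he', one_smul,
        one_smul, hf] at h1
      exact h1
  have hfadd : ∀ x y, f (x + y) = f x + f y := by
    intro x y
    apply huniq
    rw [← hf, add_smul, hadd _ _ (hKc x) (hKc y), hf, hf, add_smul]
  have hf1 : f 1 = 1 := by
    apply huniq
    rw [← hf, one_smul, one_smul]
  have hf0 : f 0 = 0 := by
    apply huniq
    rw [← hf, zero_smul, zero_smul, hz]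
  -- the torus
  have hsq : ∀ x c : F, x ≠ 0 → f (x ^ 2 * c) = f (x ^ 2) * f c := by
    intro x c hx
    obtain ⟨X, hX⟩ : ∃ X : Matrix.SpecialLinearGroup (Fin 2) F, (X : Matrix (Fin 2) (Fin 2) F) = Matrix.diagonal ![x⁻¹, x] :=
      ⟨⟨Matrix.diagonal ![x⁻¹, x], by rw [det_diagonal]; simp [hx]⟩, rfl⟩
    have hXe : (X : Matrix (Fin 2) (Fin 2) F) *ᵥ e = x⁻¹ • e := by
      rw [hX]; ext i; fin_cases i <;> simp [e, mulVec_diagonal]
    have hXk : (X : Matrix (Fin 2) (Fin 2) F) *ᵥ k0 = x • k0 := by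
      rw [hX]; ext i; fin_cases i <;> simp [k0, mulVec_diagonal]
    obtain ⟨ν, hν, hν'⟩ : Par e' ((a X : Matrix (Fin 2) (Fin 2) F) *ᵥ e') := by
      apply (hR.par_iff hP (hR.act ha X)).2
      rw [hXe]
      exact ⟨_, inv_ne_zero hx, rfl⟩
    obtain ⟨μ, hμ, hμ'⟩ : Par (h k0) ((a X : Matrix (Fin 2) (Fin 2) F) *ᵥ (h k0)) := by
      apply (hR1.par_iff hP (hR1.act ha X)).2
      rw [hXk]
      exact ⟨_, hx, rfl⟩
    have key : ∀ c : F, f (x ^ 2 * c) = μ / ν * f c := by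
      intro c
      have h1 := (hRe c).act ha X
      rw [mulVec_add, mulVec_add, mulVec_smul, mulVec_smul, hXe, hXk, hν', hμ'] at h1
      have h2 := hRe (x ^ 2 * c)
      obtain ⟨d, hd, hd'⟩ := (h1.par_iff hP h2).2 (by
        refine ⟨x, hx, ?_⟩
        rw [smul_add, smul_smul, smul_smul, mul_inv_cancel₀ hx, one_smul, smul_smul]
        congr 2
        ring)
      have h3 := congrArg (fun z => φ0' ⬝ᵥ z) hd'
      simp only [dotProduct_add, dotProduct_smul, he', hdk, smul_eq_mul, mul_zero, add_zero, mul_one] at h3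
      have hd2 : d = ν⁻¹ := eq_inv_of_mul_eq_one_left h3.symm
      rw [hd2, smul_add, smul_smul, inv_mul_cancel₀ hν, one_smul] at hd'
      have h4 := add_left_cancel hd'
      rw [smul_smul, smul_smul] at h4
      have h5 := huniq _ _ h4
      rw [h5]
      ring
    have h6 := key 1
    rw [mul_one, hf1, mul_one] at h6
    rw [key c, h6]
  have hsq' : ∀ x c : F, f (x ^ 2 * c) = f (x ^ 2) * f c := by
    intro x c
    rcases eq_or_ne x 0 with h0 | h0
    · rw [h0]; simp [hf0]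
    · exact hsq x c h0
  have hmul : ∀ x c : F, f (x * c) = f x * f c := by
    intro x c
    by_cases h2 : (2 : F) = 0
    · have hchar : CharP F 2 := by
        obtain ⟨p, hp⟩ := CharP.exists F
        have hpp : p.Prime := CharP.char_is_prime F p
        have : (p : ℕ) ∣ 2 := by
          rw [← CharP.cast_eq_zero_iff F p]
          exact_mod_cast h2
        have : p = 2 := (Nat.prime_dvd_prime_iff_eq hpp Nat.prime_two).1 this
        rw [← this]; exact hp
      obtain ⟨y, hy⟩ := FiniteField.isSquare_of_char_two (ringChar.eq F 2) x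
      rw [hy, ← pow_two]
      exact hsq' y c
    · have h3 : ∀ y : F, f (2 * y * c) = f (2 * y) * f c := by
        intro y
        have e1 : f ((y + 1) ^ 2 * c) = f (y ^ 2 * c) + (f (2 * y * c) + f c) := by
          rw [← hfadd, ← hfadd]; congr 1; ring
        have e2 : f ((y + 1) ^ 2) = f (y ^ 2) + (f (2 * y) + f 1) := by
          rw [← hfadd, ← hfadd]; congr 1; ring
        rw [hf1] at e2
        rw [hsq', e2, hsq'] at e1
        linear_combination -e1
      have h4 := h3 (x / 2)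
      rwa [mul_div_cancel₀ x h2] at h4
  let σ : F →+* F := { toFun := f, map_one' := hf1, map_mul' := hmul, map_zero' := hf0, map_add' := hfadd }
  have hbij : Function.Bijective σ := Finite.injective_iff_bijective.1 σ.injective
  let σ' : F ≃+* F := RingEquiv.ofBijective σ hbij
  obtain ⟨g, hg⟩ := stageD ha hφ0 he he' hR h σ' hadd
    (fun c w hw => by
      have h1 : w = w 1 • k0 := by
        ext i
        fin_cases i
        · have : w 0 = 0 := by simpa [φ0] using hw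
          simp [k0, this]
        · simp [k0]
      rw [h1, smul_smul, hf, hf, smul_smul]
      congr 1
      exact hmul c _) hh
  exact ⟨g, σ', eq_semi ha hP g σ' hg⟩

theorem psl_mul (e e' : Matrix.SpecialLinearGroup (Fin n) F ≃* Matrix.SpecialLinearGroup (Fin n) F) :
    psl e * psl e' = psl (e'.trans e) := by
  apply MulEquiv.ext
  intro x
  obtain ⟨s, rfl⟩ := QuotientGroup.mk_surjective x
  rfl

theorem invTr_invTr (s : Matrix.SpecialLinearGroup (Fin n) F) : invTr (invTr s) = s := invTr.left_inv s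

theorem psl_invTr_sq : (psl invTr : MulAut (Matrix.ProjectiveSpecialLinearGroup (Fin n) F)) * psl invTr = 1 := by
  apply MulEquiv.ext
  intro x
  obtain ⟨s, rfl⟩ := QuotientGroup.mk_surjective x
  show (QuotientGroup.mk (invTr (invTr s)) : Matrix.ProjectiveSpecialLinearGroup (Fin n) F) = QuotientGroup.mk s
  rw [invTr_invTr]

/-- **automorphisms of `PSL_n(F)`** -/
theorem main [Finite F] (hn : 2 ≤ n) (α : MulAut (Matrix.ProjectiveSpecialLinearGroup (Fin n) F)) :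
    (∃ (g : GL (Fin n) F) (σ : F ≃+* F), α = psl (semi g σ)) ∨
      (3 ≤ n ∧ ∃ (g : GL (Fin n) F) (σ : F ≃+* F), α = psl invTr * psl (semi g σ)) := by
  obtain ⟨a, ha⟩ := exists_lift hn α
  obtain ⟨b, hb⟩ := exists_lift hn α⁻¹
  rcases eq_or_lt_of_le hn with h2 | h2
  · left
    subst h2
    exact main_two ha hb
  · rcases ha.type h2 hb with h | h
    · left
      exact main_three h2 ha hb h
    · right
      refine ⟨h2, ?_⟩
      have ha' : Lift (psl invTr * α) (fun s => invTr (a s)) := by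
        refine ⟨fun s => ?_, fun s hs => ?_, ?_⟩
        · show psl invTr (α (QuotientGroup.mk s)) = _
          rw [ha.mkEq, psl_mk]
        · obtain ⟨v, φ, h1⟩ := ha.isT s hs
          exact ⟨_, _, h1.invTr⟩
        · show invTr (a 1) = 1
          rw [ha.one, map_one]
      obtain ⟨b', hb'⟩ := exists_lift hn (psl invTr * α)⁻¹
      obtain ⟨g, σ, hg⟩ := main_three h2 ha' hb' (by
        intro s t hst
        obtain ⟨v, w, φ, h1, h3⟩ := h s t hst
        exact ⟨_, _, _, h1.invTr, h3.invTr⟩)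
      refine ⟨g, σ, ?_⟩
      rw [← hg, ← mul_assoc, psl_invTr_sq, one_mul]

end CfsgLib.AutPSL
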