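import Cfsg.Agent.Lib.AutPSL5

/-!
# Automorphisms of `PSL_n(F)`, part 6: the structure of the automorphism group.
-/

set_option autoImplicit false

namespace CfsgLib.AutPSL

open Matrix

variable {F : Type*} [Field F] {n : ℕ}

/-- `σ` applied to the entries of an invertible matrix -/
def gm (σ : F ≃+* F) : GL (Fin n) F →* GL (Fin n) F := Matrix.GeneralLinearGroup.map (σ : F →+* F)

theorem gm_coe (σ : F ≃+* F) (g : GL (Fin n) F) : (gm σ g).1 = g.1.map σ := rfl

theorem gm_one (g : GL (Fin n) F) : gm (RingEquiv.refl F) g = g := by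
  apply Units.ext
  rw [gm_coe]
  ext i j; rfl

theorem psl_semi_mul (g h : GL (Fin n) F) (σ τ : F ≃+* F) :
    psl (semi g σ) * psl (semi h τ) = psl (semi (g * gm σ h) (τ.trans σ)) := by
  apply MulEquiv.ext
  intro x
  obtain ⟨s, rfl⟩ := QuotientGroup.mk_surjective x
  show (QuotientGroup.mk (semi g σ (semi h τ s)) : Matrix.ProjectiveSpecialLinearGroup (Fin n) F) = QuotientGroup.mk (semi (g * gm σ h) (τ.trans σ) s)
  congr 1
  apply Subtype.ext
  show ((semi g σ (semi h τ s) : Matrix.SpecialLinearGroup (Fin n) F) : Matrix (Fin n) (Fin n) F) = ((semi (g * gm σ h) (τ.trans σ) s : Matrix.SpecialLinearGroup (Fin n) F) : Matrix (Fin n) (Fin n) F)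
  rw [semi_coe, semi_coe, semi_coe]
  have h1 : (h.1 * (s : Matrix (Fin n) (Fin n) F).map τ * (h⁻¹).1).map σ = (gm σ h).1 * (s : Matrix (Fin n) (Fin n) F).map (τ.trans σ) * (gm σ h)⁻¹.1 := by
    have e1 : ∀ A B : Matrix (Fin n) (Fin n) F, (A * B).map σ = A.map σ * B.map σ := fun A B => Matrix.map_mul (f := (σ : F →+* F))
    rw [e1, e1, ← map_inv]
    rfl
  rw [h1, _root_.mul_inv_rev, Units.val_mul, Units.val_mul]
  simp only [mul_assoc]

theorem psl_semi_one : psl (semi (1 : GL (Fin n) F) (RingEquiv.refl F)) = 1 := by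
  apply MulEquiv.ext
  intro x
  obtain ⟨s, rfl⟩ := QuotientGroup.mk_surjective x
  show (QuotientGroup.mk (semi (1 : GL (Fin n) F) (RingEquiv.refl F) s) : Matrix.ProjectiveSpecialLinearGroup (Fin n) F) = QuotientGroup.mk s
  congr 1
  apply Subtype.ext
  show ((semi (1 : GL (Fin n) F) (RingEquiv.refl F) s : Matrix.SpecialLinearGroup (Fin n) F) : Matrix (Fin n) (Fin n) F) = (s : Matrix (Fin n) (Fin n) F)
  rw [semi_coe, inv_one, Units.val_one, one_mul, mul_one]
  ext i j; rfl

theorem psl_semi_eq (g : GL (Fin n) F) (σ : F ≃+* F) :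
    psl (semi g σ) = psl (semi g (RingEquiv.refl F)) * psl (semi 1 σ) := by
  rw [psl_semi_mul, map_one, mul_one]
  rfl

/-- the inverse transpose of an invertible matrix -/
def git (g : GL (Fin n) F) : GL (Fin n) F :=
  ⟨(g⁻¹).1.transpose, g.1.transpose, by rw [← transpose_mul, g.mul_inv, transpose_one], by rw [← transpose_mul, g.inv_mul, transpose_one]⟩

theorem psl_invTr_mul_semi (g : GL (Fin n) F) (σ : F ≃+* F) :
    psl invTr * psl (semi g σ) = psl (semi (git g) σ) * psl invTr := by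
  apply MulEquiv.ext
  intro x
  obtain ⟨s, rfl⟩ := QuotientGroup.mk_surjective x
  show (QuotientGroup.mk (invTr (semi g σ s)) : Matrix.ProjectiveSpecialLinearGroup (Fin n) F) = QuotientGroup.mk (semi (git g) σ (invTr s))
  congr 1
  have h1 : (invTr (semi g σ s)).transpose * semi g σ s = 1 := by
    show ((((semi g σ s)⁻¹).transpose).transpose : Matrix.SpecialLinearGroup (Fin n) F) * semi g σ s = 1
    have : ∀ y : Matrix.SpecialLinearGroup (Fin n) F, (y.transpose).transpose = y := fun y => Subtype.ext (transpose_transpose _)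
    rw [this, inv_mul_cancel]
  have h2 : (semi (git g) σ (invTr s)).transpose * semi g σ s = 1 := by
    apply Subtype.ext
    show ((semi (git g) σ (invTr s) : Matrix.SpecialLinearGroup (Fin n) F) : Matrix (Fin n) (Fin n) F).transpose * ((semi g σ s : Matrix.SpecialLinearGroup (Fin n) F) : Matrix (Fin n) (Fin n) F) = 1
    rw [semi_coe, semi_coe, transpose_mul, transpose_mul, invTr_coe]
    have e1 : ((git g)⁻¹.1).transpose = g.1 := transpose_transpose _
    have e2 : ((git g).1).transpose = (g⁻¹).1 := transpose_transpose _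
    have e3 : ((((s⁻¹ : Matrix.SpecialLinearGroup (Fin n) F) : Matrix (Fin n) (Fin n) F).transpose.map σ)).transpose =
      ((s⁻¹ : Matrix.SpecialLinearGroup (Fin n) F) : Matrix (Fin n) (Fin n) F).map σ := by
      ext i j; rfl
    rw [e1, e2, e3]
    have e4 : ((s⁻¹ : Matrix.SpecialLinearGroup (Fin n) F) : Matrix (Fin n) (Fin n) F).map σ * (s : Matrix (Fin n) (Fin n) F).map σ = 1 := by
      have e5 : ∀ A B : Matrix (Fin n) (Fin n) F, (A * B).map σ = A.map σ * B.map σ := fun A B => Matrix.map_mul (f := (σ : F →+* F))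
      rw [← e5, ← Matrix.SpecialLinearGroup.coe_mul, inv_mul_cancel, Matrix.SpecialLinearGroup.coe_one]
      exact Matrix.map_one _ (map_zero σ) (map_one σ)
    calc g.1 * (((s⁻¹ : Matrix.SpecialLinearGroup (Fin n) F) : Matrix (Fin n) (Fin n) F).map σ * (g⁻¹).1) *
          (g.1 * (s : Matrix (Fin n) (Fin n) F).map σ * (g⁻¹).1)
        = g.1 * (((s⁻¹ : Matrix.SpecialLinearGroup (Fin n) F) : Matrix (Fin n) (Fin n) F).map σ * ((g⁻¹).1 * g.1) * (s : Matrix (Fin n) (Fin n) F).map σ) * (g⁻¹).1 := by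
          simp only [mul_assoc]
      _ = 1 := by
          have e6 : (g⁻¹).1 * g.1 = 1 := g.inv_mul
          have e7 : g.1 * (g⁻¹).1 = 1 := g.mul_inv
          rw [e6, mul_one, e4, mul_one, e7]
  have h3 := h1.trans h2.symm
  have h4 := mul_right_cancel h3
  have h5 : ∀ y z : Matrix.SpecialLinearGroup (Fin n) F, y.transpose = z.transpose → y = z := by
    intro y z hyz
    apply Subtype.ext
    have := congrArg (fun w : Matrix.SpecialLinearGroup (Fin n) F => (w : Matrix (Fin n) (Fin n) F).transpose) hyz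
    simpa using this
  exact h5 _ _ h4

/-- every automorphism is `psl (semi g σ)` or `psl (semi g σ) * psl invTr` -/
theorem main' [Finite F] (hn : 2 ≤ n) (α : MulAut (Matrix.ProjectiveSpecialLinearGroup (Fin n) F)) :
    (∃ (g : GL (Fin n) F) (σ : F ≃+* F), α = psl (semi g σ)) ∨
      (3 ≤ n ∧ ∃ (g : GL (Fin n) F) (σ : F ≃+* F), α = psl (semi g σ) * psl invTr) := by
  rcases main hn α with h | ⟨h3, g, σ, h⟩
  · exact Or.inl h
  · exact Or.inr ⟨h3, git g, σ, by rw [h, psl_invTr_mul_semi]⟩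

/-- the semilinear map is determined up to scalars by the automorphism -/
theorem semi_inj (hn : 2 ≤ n) {g h : GL (Fin n) F} {σ τ : F ≃+* F} (heq : psl (semi g σ) = psl (semi h τ)) :
    σ = τ ∧ ∃ c : F, c ≠ 0 ∧ g.1 = c • h.1 := by
  have h0n : 0 < n := by omega
  have hp : ∀ v : Fin n → F, v ≠ 0 → Par (h.1 *ᵥ fun i => τ (v i)) (g.1 *ᵥ fun i => σ (v i)) := by
    intro v hv
    obtain ⟨φ, hφ, hφv⟩ := exists_cov hn v
    obtain ⟨s, hs⟩ := exists_Tr hv hφ hφv
    have h1 := hs.semi g σ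
    have h2 := hs.semi h τ
    have h3 := h1.mk_inj h2 (by
      have := congrArg (fun β : MulAut (Matrix.ProjectiveSpecialLinearGroup (Fin n) F) => β (QuotientGroup.mk s)) heq
      exact this)
    rw [h3] at h1
    exact (SP_iff h2 h1).1 ⟨_, _, _, h2, h2⟩
  have hh : (h⁻¹).1 * h.1 = 1 := h.inv_mul
  have hh' : h.1 * (h⁻¹).1 = 1 := h.mul_inv
  set M := (h⁻¹).1 * g.1 with hM
  have hp' : ∀ v : Fin n → F, v ≠ 0 → ∃ c : F, c ≠ 0 ∧ M *ᵥ (fun i => σ (v i)) = c • (fun i => τ (v i)) := by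
    intro v hv
    obtain ⟨c, hc, hc'⟩ := hp v hv
    refine ⟨c, hc, ?_⟩
    rw [hM, ← mulVec_mulVec, hc', mulVec_smul, mulVec_mulVec, hh, one_mulVec]
  have hσs : ∀ i : Fin n, (fun k => σ ((Pi.single i 1 : Fin n → F) k)) = Pi.single i 1 := by
    intro i; ext k
    by_cases hk : k = i
    · subst hk; simp
    · simp [hk]
  have hτs : ∀ i : Fin n, (fun k => τ ((Pi.single i 1 : Fin n → F) k)) = Pi.single i 1 := by
    intro i; ext k
    by_cases hk : k = i
    · subst hk; simp
    · simp [hk]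
  have h1 : ∀ i : Fin n, ∃ c : F, c ≠ 0 ∧ M *ᵥ (Pi.single i 1) = c • Pi.single i 1 := by
    intro i
    obtain ⟨c, hc, hc'⟩ := hp' _ (single_ne i)
    rw [hσs, hτs] at hc'
    exact ⟨c, hc, hc'⟩
  choose c hc hc' using h1
  -- comparing two coordinates
  have h2 : ∀ i j : Fin n, i ≠ j → ∀ x : F, c i * τ x = c j * σ x := by
    intro i j hij x
    have hne : (Pi.single i 1 + x • Pi.single j 1 : Fin n → F) ≠ 0 := by
      intro h0
      have := congrFun h0 i
      simp [hij] at this
    obtain ⟨d, hd, hd'⟩ := hp' _ hne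
    have e1 : (fun k => σ ((Pi.single i 1 + x • Pi.single j 1 : Fin n → F) k)) = Pi.single i 1 + σ x • Pi.single j 1 := by
      have e0 : (fun k => σ ((Pi.single i 1 + x • Pi.single j 1 : Fin n → F) k)) =
          (fun k => σ ((Pi.single i 1 : Fin n → F) k)) + σ x • (fun k => σ ((Pi.single j 1 : Fin n → F) k)) := by
        ext k
        simp only [Pi.add_apply, Pi.smul_apply, smul_eq_mul, map_add, map_mul]
      rw [e0, hσs i, hσs j]
    have e2 : (fun k => τ ((Pi.single i 1 + x • Pi.single j 1 : Fin n → F) k)) = Pi.single i 1 + τ x • Pi.single j 1 := by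
      have e0 : (fun k => τ ((Pi.single i 1 + x • Pi.single j 1 : Fin n → F) k)) =
          (fun k => τ ((Pi.single i 1 : Fin n → F) k)) + τ x • (fun k => τ ((Pi.single j 1 : Fin n → F) k)) := by
        ext k
        simp only [Pi.add_apply, Pi.smul_apply, smul_eq_mul, map_add, map_mul]
      rw [e0, hτs i, hτs j]
    rw [e1, e2, mulVec_add, mulVec_smul, hc', hc'] at hd'
    have e3 := congrFun hd' i
    have e4 := congrFun hd' j
    simp [hij] at e3
    simp [hij.symm] at e4
    rw [e3]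
    linear_combination -e4
  have hcc : ∀ i j : Fin n, c i = c j := by
    intro i j
    rcases eq_or_ne i j with h3 | h3
    · rw [h3]
    · have := h2 i j h3 1
      simpa using this
  let i0 : Fin n := ⟨0, h0n⟩
  let i1 : Fin n := ⟨1, by omega⟩
  have h01 : i0 ≠ i1 := by
    intro h; have := congrArg Fin.val h; simp [i0, i1] at this
  refine ⟨?_, c i0, hc i0, ?_⟩
  · ext x
    have := h2 i0 i1 h01 x
    rw [hcc i1 i0] at this
    exact (mul_left_cancel₀ (hc i0) this).symm
  · have hM1 : M = c i0 • (1 : Matrix (Fin n) (Fin n) F) := by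
      apply Matrix.ext_of_mulVec_single
      intro i
      rw [hc', hcc i i0, smul_mulVec, one_mulVec]
    have : g.1 = h.1 * M := by rw [hM, ← mul_assoc, hh', one_mul]
    rw [this, hM1, Matrix.mul_smul, mul_one]

theorem semi_congr {g h : GL (Fin n) F} (σ : F ≃+* F) {c : F} (hc : g.1 = c • h.1) (hn : 0 < n) : psl (semi g σ) = psl (semi h σ) := by
  have hc0 : c ≠ 0 := by
    rintro rfl
    rw [zero_smul] at hc
    have h1 : g.1 * (g⁻¹).1 = 1 := g.mul_inv
    rw [hc, zero_mul] at h1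
    have := congrFun (congrFun h1 ⟨0, hn⟩) ⟨0, hn⟩
    rw [one_apply_eq] at this
    exact zero_ne_one this
  have hinv : (g⁻¹).1 = c⁻¹ • (h⁻¹).1 := by
    have h1 : g.1 * (c⁻¹ • (h⁻¹).1) = 1 := by
      have h2 : h.1 * (h⁻¹).1 = 1 := h.mul_inv
      rw [hc, Matrix.mul_smul, Matrix.smul_mul, h2, smul_smul, inv_mul_cancel₀ hc0, one_smul]
    have h3 : (g⁻¹).1 * g.1 = 1 := g.inv_mul
    exact left_inv_eq_right_inv h3 h1
  apply MulEquiv.ext
  intro x
  obtain ⟨s, rfl⟩ := QuotientGroup.mk_surjective x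
  show (QuotientGroup.mk (semi g σ s) : Matrix.ProjectiveSpecialLinearGroup (Fin n) F) = QuotientGroup.mk (semi h σ s)
  congr 1
  apply Subtype.ext
  show ((semi g σ s : Matrix.SpecialLinearGroup (Fin n) F) : Matrix (Fin n) (Fin n) F) = ((semi h σ s : Matrix.SpecialLinearGroup (Fin n) F) : Matrix (Fin n) (Fin n) F)
  rw [semi_coe, semi_coe, hc, hinv, Matrix.smul_mul, Matrix.mul_smul, Matrix.smul_mul, smul_smul, inv_mul_cancel₀ hc0, one_smul]

theorem invTr_ne (hn : 3 ≤ n) (g h : GL (Fin n) F) (σ τ : F ≃+* F) :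
    psl (semi g σ) ≠ psl (semi h τ) * psl invTr := by
  intro heq
  have heq' : psl (semi g σ) = psl invTr * psl (semi (git h) τ) := by
    rw [psl_invTr_mul_semi, heq]
    congr 2
  have h0n : 0 < n := by omega
  let i0 : Fin n := ⟨0, h0n⟩
  obtain ⟨φ, ψ, hφ, hψ, hφv, hψv, hnp⟩ := exists_two hn (Pi.single i0 1 : Fin n → F)
  obtain ⟨s, hs⟩ := exists_Tr (single_ne i0) hφ hφv
  obtain ⟨t, ht⟩ := exists_Tr (single_ne i0) hψ hψv
  have key : ∀ (χ : Fin n → F) (r : Matrix.SpecialLinearGroup (Fin n) F), Tr (Pi.single i0 1) χ r →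
      semi g σ r = invTr (semi (git h) τ r) := by
    intro χ r hr
    exact (hr.semi g σ).mk_inj (hr.semi (git h) τ).invTr (by
      have := congrArg (fun β : MulAut (Matrix.ProjectiveSpecialLinearGroup (Fin n) F) => β (QuotientGroup.mk r)) heq'
      exact this)
  have h1 : SP (semi g σ s) (semi g σ t) := ⟨_, _, _, hs.semi g σ, ht.semi g σ⟩
  rw [key _ _ hs, key _ _ ht, SP_iff (hs.semi (git h) τ).invTr (ht.semi (git h) τ).invTr] at h1
  apply hnp
  obtain ⟨c, hc, hc'⟩ := h1
  have h2 := congrArg (fun z => z ᵥ* (git h).1) hc'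
  have hgi : ((git h)⁻¹).1 * (git h).1 = 1 := (git h).inv_mul
  simp only [smul_vecMul, vecMul_vecMul, hgi, vecMul_one] at h2
  refine ⟨τ.symm c, by simpa using hc, ?_⟩
  ext i
  have h3 := congrFun h2 i
  apply τ.injective
  rw [h3]
  simp

end CfsgLib.AutPSL
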