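import Cfsg.Agent.Lib.AutPSL6

/-!
# Automorphisms of `PSL_n(F)`, part 8: counting.
-/

set_option autoImplicit false

namespace CfsgLib.AutPSL

open Matrix

section field

variable {F : Type*} [Field F]

/-- ring automorphisms are automorphisms over the prime field -/
def ringAutEquiv (p : ℕ) [Fact p.Prime] [Algebra (ZMod p) F] : RingAut F ≃* (F ≃ₐ[ZMod p] F) where
  toFun σ := AlgEquiv.ofRingEquiv (f := σ) (fun x => by
    have : ((σ : F →+* F).comp (algebraMap (ZMod p) F)) = algebraMap (ZMod p) F := Subsingleton.elim _ _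
    exact RingHom.congr_fun this x)
  invFun σ := σ.toRingEquiv
  left_inv σ := by ext; rfl
  right_inv σ := by ext; rfl
  map_mul' σ τ := by ext; rfl

theorem ringAut_isCyclic [Finite F] : IsCyclic (RingAut F) := by
  obtain ⟨p, hp⟩ := CharP.exists F
  have : Fact p.Prime := ⟨CharP.char_is_prime F p⟩
  let _ : Algebra (ZMod p) F := ZMod.algebra F p
  have h1 : IsCyclic (F ≃ₐ[ZMod p] F) := inferInstance
  exact (MulEquiv.isCyclic (ringAutEquiv p)).2 h1

theorem ringAut_card [Fintype F] {p f : ℕ} [Fact p.Prime] (hF : Fintype.card F = p ^ f) : Nat.card (RingAut F) = f := by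
  have hchar : CharP F p := by
    obtain ⟨p', hp'⟩ := CharP.exists F
    have : Fact p'.Prime := ⟨CharP.char_is_prime F p'⟩
    obtain ⟨k, hk1, hk2⟩ := FiniteField.card F p'
    have : p' = p := by
      have h1 : p' ∣ p ^ f := by
        rw [← hF, hk2]; exact dvd_pow_self _ (by exact k.ne_zero)
      exact (Nat.prime_dvd_prime_iff_eq Fact.out Fact.out).1 ((Fact.out : p'.Prime).dvd_of_dvd_pow h1)
    rw [← this]; exact hp'
  let _ : Algebra (ZMod p) F := ZMod.algebra F p
  rw [Nat.card_congr (ringAutEquiv (F := F) p).toEquiv]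
  have h1 : Nat.card (F ≃ₐ[ZMod p] F) = Module.finrank (ZMod p) F := IsGalois.card_aut_eq_finrank (ZMod p) F
  rw [h1]
  have h2 := Module.card_eq_pow_finrank (K := ZMod p) (V := F)
  rw [hF, ZMod.card] at h2
  exact (Nat.pow_right_injective (Fact.out : p.Prime).two_le h2).symm

end field

variable {F : Type*} [Field F] {n : ℕ}

theorem mem_center_GL (g : GL (Fin n) F) : g ∈ Subgroup.center (GL (Fin n) F) ↔ ∃ c : F, g.1 = c • (1 : Matrix (Fin n) (Fin n) F) := by
  constructor
  · intro hg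
    obtain ⟨c, hc⟩ := Matrix.mem_range_scalar_of_commute_transvectionStruct (M := g.1) (fun t => by
      have ht : IsUnit t.toMatrix.det := by rw [TransvectionStruct.det]; exact isUnit_one
      have := Subgroup.mem_center_iff.1 hg (GeneralLinearGroup.mk'' t.toMatrix ht)
      exact congrArg Units.val this)
    exact ⟨c, by rw [← hc, scalar_apply, smul_one_eq_diagonal]⟩
  · rintro ⟨c, hc⟩
    rw [Subgroup.mem_center_iff]
    intro h
    apply Units.ext
    rw [Units.val_mul, Units.val_mul, hc, Matrix.mul_smul, Matrix.smul_mul, mul_one, one_mul]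

/-- semilinear automorphisms indexed by `PGL` -/
noncomputable def pg (x : (GL (Fin n) F ⧸ Subgroup.center (GL (Fin n) F)) × (F ≃+* F)) :
    MulAut (Matrix.ProjectiveSpecialLinearGroup (Fin n) F) := psl (semi x.1.out x.2)

theorem pg_mk (hn : 2 ≤ n) (g : GL (Fin n) F) (σ : F ≃+* F) : pg (QuotientGroup.mk g, σ) = psl (semi g σ) := by
  have h1 : (QuotientGroup.mk (QuotientGroup.mk g : GL (Fin n) F ⧸ Subgroup.center (GL (Fin n) F)).out : GL (Fin n) F ⧸ Subgroup.center (GL (Fin n) F)) =
      QuotientGroup.mk g := Quotient.out_eq' _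
  rw [QuotientGroup.eq, mem_center_GL] at h1
  obtain ⟨c, hc⟩ := h1
  rw [Units.val_mul] at hc
  have h2 : g.1 = c • (QuotientGroup.mk g : GL (Fin n) F ⧸ Subgroup.center (GL (Fin n) F)).out.1 := by
    have h3 : ∀ x y : GL (Fin n) F, (x⁻¹).1 * y.1 = c • (1 : Matrix (Fin n) (Fin n) F) → y.1 = c • x.1 := by
      intro x y hxy
      have h4 := congrArg (fun z => x.1 * z) hxy
      have h5 : x.1 * (x⁻¹).1 = 1 := x.mul_inv
      simp only [← mul_assoc, h5, one_mul, Matrix.mul_smul, mul_one] at h4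
      exact h4
    exact h3 _ _ hc
  exact (semi_congr σ h2 (by omega)).symm

theorem pg_injective (hn : 2 ≤ n) : Function.Injective (pg (F := F) (n := n)) := by
  rintro ⟨x, σ⟩ ⟨y, τ⟩ h
  obtain ⟨g, rfl⟩ := QuotientGroup.mk_surjective x
  obtain ⟨h', rfl⟩ := QuotientGroup.mk_surjective y
  rw [pg_mk hn, pg_mk hn] at h
  obtain ⟨h1, c, hc, hc'⟩ := semi_inj hn h
  rw [h1]
  congr 1
  rw [QuotientGroup.eq, mem_center_GL]
  refine ⟨c⁻¹, ?_⟩
  rw [Units.val_mul]
  have h2 : h'.1 = c⁻¹ • g.1 := by rw [hc', smul_smul, inv_mul_cancel₀ hc, one_smul]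
  have h3 : (g⁻¹).1 * g.1 = 1 := g.inv_mul
  rw [h2, Matrix.mul_smul, h3]

theorem card_MulAut [Finite F] (hn : 2 ≤ n) :
    Nat.card (MulAut (Matrix.ProjectiveSpecialLinearGroup (Fin n) F)) =
      (if n = 2 then 1 else 2) * Nat.card (RingAut F) * Nat.card (GL (Fin n) F ⧸ Subgroup.center (GL (Fin n) F)) := by
  have hfinR : Finite (F ≃+* F) := Finite.of_injective (fun σ : F ≃+* F => (σ : F → F)) DFunLike.coe_injective
  by_cases h2 : n = 2
  · rw [if_pos h2, one_mul, mul_comm]
    have hs : Function.Surjective (pg (F := F) (n := n)) := by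
      intro α
      rcases main' hn α with ⟨g, σ, h⟩ | ⟨h3, _⟩
      · exact ⟨(QuotientGroup.mk g, σ), by rw [pg_mk hn, h]⟩
      · omega
    rw [← Nat.card_congr (Equiv.ofBijective _ ⟨pg_injective hn, hs⟩), Nat.card_prod]
  · rw [if_neg h2]
    have h3 : 3 ≤ n := by omega
    let Φ : ((GL (Fin n) F ⧸ Subgroup.center (GL (Fin n) F)) × (F ≃+* F)) ⊕ ((GL (Fin n) F ⧸ Subgroup.center (GL (Fin n) F)) × (F ≃+* F)) →
        MulAut (Matrix.ProjectiveSpecialLinearGroup (Fin n) F) := Sum.elim pg (fun x => pg x * psl invTr)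
    have hinj : Function.Injective Φ := by
      rintro (x | x) (y | y) h
      · rw [pg_injective hn h]
      · exfalso
        obtain ⟨x, σ⟩ := x
        obtain ⟨y, τ⟩ := y
        exact invTr_ne h3 _ _ _ _ h
      · exfalso
        obtain ⟨x, σ⟩ := x
        obtain ⟨y, τ⟩ := y
        exact invTr_ne h3 _ _ _ _ h.symm
      · have h4 : pg x * psl invTr = pg y * psl invTr := h
        rw [pg_injective hn (mul_right_cancel h4)]
    have hs : Function.Surjective Φ := by
      intro α
      rcases main' hn α with ⟨g, σ, h⟩ | ⟨_, g, σ, h⟩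
      · exact ⟨Sum.inl (QuotientGroup.mk g, σ), by show pg _ = _; rw [pg_mk hn, h]⟩
      · exact ⟨Sum.inr (QuotientGroup.mk g, σ), by show pg _ * _ = _; rw [pg_mk hn, h]⟩
    have hfin : Finite (GL (Fin n) F) := inferInstance
    rw [← Nat.card_congr (Equiv.ofBijective _ ⟨hinj, hs⟩), Nat.card_sum, Nat.card_prod]
    have : Nat.card (F ≃+* F) = Nat.card (RingAut F) := rfl
    rw [this]
    ring

end CfsgLib.AutPSL
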