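import Cfsg.Agent.Lib.BEasy18
import Cfsg.Agent.Lib.PChain

/-!
# p-solvable groups: defect zero characters and degrees prime to p
-/

set_option autoImplicit false
set_option linter.style.haveILetI false
set_option linter.unusedSectionVars false
set_option linter.unusedVariables false

open scoped ComplexConjugate Pointwise

namespace CfsgLib.Block

open Cfsg CfsgLib.CharBasic

universe u v w

variable {G : Type u} [Group G] [Fintype G]

/-- a normal subgroup of order prime to `q` and an element of it with centralizer of order prime to `q` -/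
theorem exists_defect_zero_of_normal {q : ℕ} [Fact q.Prime] (L : Subgroup G) [L.Normal] (hL : ¬ q ∣ Nat.card L) {z : G} (hz : z ∈ L)
    (hC : ¬ q ∣ Nat.card (Subgroup.centralizer ({z} : Set G))) : ∃ χ : IrrCharacter G, (charDegree (χ : G → ℂ)).factorization q = (Nat.card G).factorization q := by
  have hq : q.Prime := Fact.out
  obtain ⟨P⟩ : Nonempty (Sylow q G) := inferInstance
  obtain ⟨χ, hχ⟩ := exists_pow_dvd_degree hq z z⁻¹ (by rw [inv_inv]) P.1 _ P.card_eq_multiplicity (by
    intro y hy hy1 g h hg hh hgh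
    have hLc : ∀ w : G, w ∈ L → ∀ x : G, IsConj w x → x ∈ L := by
      intro w hw x hx
      obtain ⟨c, hc⟩ := isConj_iff.mp hx
      rw [← hc]
      exact Subgroup.Normal.conj_mem ‹_› w hw c
    have hyL : y ∈ L := by
      rw [← hgh]
      exact L.mul_mem (hLc z hz g hg) (hLc z⁻¹ (L.inv_mem hz) h hh)
    obtain ⟨j, hj⟩ := (IsPGroup.iff_orderOf.mp P.2) ⟨y, hy⟩
    rw [Subgroup.orderOf_mk] at hj
    have hj0 : j ≠ 0 := by
      rintro rfl
      rw [pow_zero, orderOf_eq_one_iff] at hj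
      exact hy1 hj
    apply hL
    have h1 := orderOf_dvd_natCard (⟨y, hyL⟩ : L)
    rw [Subgroup.orderOf_mk, hj] at h1
    exact (dvd_pow_self q hj0).trans h1)
  rw [Nat.factorization_eq_zero_of_not_dvd hC, Nat.sub_zero] at hχ
  refine ⟨χ, le_antisymm ?_ ?_⟩
  · exact (Nat.factorization_le_iff_dvd (charDegree_ne_zero χ.2) Nat.card_pos.ne').mpr (charDegree_dvd χ.2) q
  · exact (hq.pow_dvd_iff_le_factorization (charDegree_ne_zero χ.2)).mp hχ

theorem exists_normal_of_pSolvable {p q : ℕ} [Fact p.Prime] [Fact q.Prime] (hpq : p ≠ q) (hpG : p ∣ Nat.card G) (h : IsPSolvable p G) :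
    ∃ L : Subgroup G, L.Normal ∧ ((q ∣ Nat.card L ∧ ¬ p ∣ Nat.card L) ∨ (p ∣ Nat.card L ∧ ¬ q ∣ Nat.card L)) := by
  have hp : p.Prime := Fact.out
  have hq : q.Prime := Fact.out
  haveI hKn : (pPrimeCore p G).Normal := CfsgLib.Core.pPrimeCore_normal p G
  have hK := CfsgLib.Core.card_pPrimeCore_coprime p G
  have hKp : ¬ p ∣ Nat.card (pPrimeCore p G) := fun h1 => hp.one_lt.ne' (Nat.dvd_one.mp (by
    have := Nat.dvd_gcd h1 (dvd_refl p)
    rwa [hK] at this))
  by_cases hqK : q ∣ Nat.card (pPrimeCore p G)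
  · exact ⟨_, hKn, Or.inl ⟨hqK, hKp⟩⟩
  haveI : Nontrivial (G ⧸ pPrimeCore p G) := by
    rw [← Finite.one_lt_card_iff_nontrivial]
    have h1 := Subgroup.card_eq_card_quotient_mul_card_subgroup (pPrimeCore p G)
    by_contra h2
    have h3 : Nat.card (G ⧸ pPrimeCore p G) = 1 := le_antisymm (not_lt.mp h2) Nat.card_pos
    rw [h3, one_mul] at h1
    rw [h1] at hpG
    exact hKp hpG
  have h1 := CfsgLib.PChain.pCore_ne_bot (G := G ⧸ pPrimeCore p G) hp (CfsgLib.PChain.quotient hp h _) (CfsgLib.PChain.pPrimeCore_quotient p G)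
  haveI hCn : (pCore p (G ⧸ pPrimeCore p G)).Normal := CfsgLib.Core.pCore_normal p _
  have hCp : IsPGroup p (pCore p (G ⧸ pPrimeCore p G)) := CfsgLib.Core.pCore_isPGroup p _
  refine ⟨(pCore p (G ⧸ pPrimeCore p G)).comap (QuotientGroup.mk' _), inferInstance, Or.inr ?_⟩
  have h2 : Nat.card ((pCore p (G ⧸ pPrimeCore p G)).comap (QuotientGroup.mk' (pPrimeCore p G))) = Nat.card (pPrimeCore p G) * Nat.card (pCore p (G ⧸ pPrimeCore p G)) := by
    have h3 := card_map_mk (P := pPrimeCore p G) (D := (pCore p (G ⧸ pPrimeCore p G)).comap (QuotientGroup.mk' (pPrimeCore p G))) (by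
      intro x hx
      rw [Subgroup.mem_comap, QuotientGroup.mk'_apply, (QuotientGroup.eq_one_iff x).mpr hx]
      exact one_mem _)
    rw [Subgroup.map_comap_eq_self_of_surjective (QuotientGroup.mk'_surjective _)] at h3
    rw [h3, mul_comm]
  obtain ⟨n, hn⟩ := IsPGroup.iff_card.mp hCp
  have hn0 : n ≠ 0 := by
    rintro rfl
    rw [pow_zero] at hn
    exact h1 (Subgroup.card_eq_one.mp hn)
  rw [h2, hn]
  refine ⟨Dvd.dvd.mul_left (dvd_pow_self p hn0) _, ?_⟩
  intro h4
  rcases hq.dvd_mul.mp h4 with h5 | h5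
  · exact hqK h5
  · exact hpq ((Nat.prime_dvd_prime_iff_eq hq hp).mp (hq.dvd_of_dvd_pow h5)).symm

theorem s4743 {p q : ℕ} [Fact p.Prime] [Fact q.Prime] (hpq : p ≠ q) (hpG : p ∣ Nat.card G) (hqG : q ∣ Nat.card G)
    (hC : ∀ g : G, g ≠ 1 → (∃ k : ℕ, orderOf g = p ^ k) → ¬ q ∣ Nat.card ↥(Subgroup.centralizer ({g} : Set G))) (hsolv : IsPSolvable p G ∨ IsPSolvable q G) :
    (∃ χ : IrrCharacter G, (charDegree (χ : G → ℂ)).factorization p = (Nat.card G).factorization p) ∨ (∃ χ : IrrCharacter G, (charDegree (χ : G → ℂ)).factorization q = (Nat.card G).factorization q) := by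
  have hp : p.Prime := Fact.out
  have hq : q.Prime := Fact.out
  have hL : ∃ L : Subgroup G, L.Normal ∧ ((q ∣ Nat.card L ∧ ¬ p ∣ Nat.card L) ∨ (p ∣ Nat.card L ∧ ¬ q ∣ Nat.card L)) := by
    rcases hsolv with h | h
    · exact exists_normal_of_pSolvable hpq hpG h
    · obtain ⟨L, h1, h2⟩ := exists_normal_of_pSolvable (Ne.symm hpq) hqG h
      exact ⟨L, h1, h2.symm⟩
  obtain ⟨L, hLn, h | h⟩ := hL
  · left
    obtain ⟨z, hz⟩ := exists_prime_orderOf_dvd_card' q h.1
    have hz1 : orderOf (z : G) = q := by rw [Subgroup.orderOf_coe]; exact hz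
    apply exists_defect_zero_of_normal L h.2 z.2
    intro h1
    obtain ⟨y, hy⟩ := exists_prime_orderOf_dvd_card' p h1
    have hy' : orderOf (y : G) = p := by rw [Subgroup.orderOf_coe]; exact hy
    have hy1 : (y : G) ≠ 1 := by
      intro h
      rw [h, orderOf_one] at hy'
      exact hp.one_lt.ne hy'
    apply hC y hy1 ⟨1, by rw [hy', pow_one]⟩
    have hmem : (z : G) ∈ Subgroup.centralizer ({(y : G)} : Set G) := by
      rw [Subgroup.mem_centralizer_singleton_iff]
      exact (Subgroup.mem_centralizer_singleton_iff.mp y.2).symm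
    have h2 := orderOf_dvd_natCard (⟨(z : G), hmem⟩ : Subgroup.centralizer ({(y : G)} : Set G))
    rwa [Subgroup.orderOf_mk, hz1] at h2
  · right
    obtain ⟨z, hz⟩ := exists_prime_orderOf_dvd_card' p h.1
    have hz1 : orderOf (z : G) = p := by rw [Subgroup.orderOf_coe]; exact hz
    apply exists_defect_zero_of_normal L h.2 z.2
    apply hC
    · intro h
      rw [h, orderOf_one] at hz1
      exact hp.one_lt.ne hz1
    · exact ⟨1, by rw [hz1, pow_one]⟩

end CfsgLib.Block
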