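import Mathlib
import Cfsg.Agent.Lib.H5MinNormal

/-! Facts on permutation groups: Jordan's derangement theorem, semiregularity of centralizers,
and derangements in minimal normal subgroups. -/

set_option autoImplicit false

namespace CfsgLib.H5Perm2

open MulAction CfsgLib.H5Sylow CfsgLib.H5MinNormal

theorem exists_derangement {G Ω : Type*} [Group G] [Finite G] [MulAction G Ω] [Finite Ω]
    (tr : IsPretransitive G Ω) (h : 1 < Nat.card Ω) : ∃ g : G, ∀ ω : Ω, g • ω ≠ ω := by
  classical
  by_contra hcon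
  push Not at hcon
  have := Fintype.ofFinite G
  have hne : Nonempty Ω := by rw [← Finite.card_pos_iff]; omega
  have h1 := CfsgLib.Derange.burnside_top (G := G) (Ω := Ω)
  rw [CfsgLib.Derange.card_quotient_of_pretransitive tr, one_mul, Nat.card_eq_fintype_card] at h1
  have h2 : ∀ g : G, 1 ≤ Nat.card (fixedBy Ω g) := by
    intro g
    obtain ⟨ω, hω⟩ := hcon g
    have : Nonempty (fixedBy Ω g) := ⟨⟨ω, hω⟩⟩
    exact Finite.card_pos
  have h3 : ∑ g : G, 1 < ∑ g : G, Nat.card (fixedBy Ω g) := by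
    apply Finset.sum_lt_sum (fun g _ => h2 g)
    refine ⟨1, Finset.mem_univ _, ?_⟩
    have : fixedBy Ω (1 : G) = Set.univ := by
      ext x; simp
    rw [this, Nat.card_coe_set_eq, Set.ncard_univ]
    exact h
  rw [h1] at h3
  simp at h3

/-- The conjugates of a proper subgroup `R < N` do not cover `N`. -/
theorem exists_not_conj {G : Type*} [Group G] [Finite G] {R N : Subgroup G} (hR : R ≤ N)
    (hne : R ≠ N) : ∃ x ∈ N, ∀ n ∈ N, n⁻¹ * x * n ∉ R := by
  have h1 : 1 < Nat.card (N ⧸ R.subgroupOf N) := by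
    have h2 : (R.subgroupOf N).index ≠ 1 := by
      rw [Ne, Subgroup.index_eq_one, Subgroup.subgroupOf_eq_top]
      intro h
      exact hne (le_antisymm hR h)
    have h3 : (R.subgroupOf N).index ≠ 0 := Subgroup.index_ne_zero_of_finite
    change 1 < (R.subgroupOf N).index
    omega
  obtain ⟨x, hx⟩ := exists_derangement (G := N) (Ω := N ⧸ R.subgroupOf N) inferInstance h1
  refine ⟨x, x.2, ?_⟩
  intro n hn hmem
  apply hx (QuotientGroup.mk ⟨n, hn⟩)
  rw [MulAction.Quotient.smul_mk, smul_eq_mul, eq_comm, QuotientGroup.eq, Subgroup.mem_subgroupOf]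
  simpa [mul_assoc] using hmem

/-- An element commuting with a transitive subgroup and fixing a point is trivial. -/
theorem eq_one_of_comm {G Ω : Type*} [Group G] [MulAction G Ω] [FaithfulSMul G Ω] (A : Subgroup G)
    (hA : IsPretransitive A Ω) {b : G} (hb : ∀ a ∈ A, a * b = b * a) {ω : Ω} (h : b • ω = ω) :
    b = 1 := by
  apply FaithfulSMul.eq_of_smul_eq_smul (α := Ω)
  intro x
  obtain ⟨a, ha⟩ := hA.exists_smul_eq ω x
  have ha' : (a : G) • ω = x := ha
  rw [one_smul, ← ha', ← mul_smul, ← hb a a.2, mul_smul, h]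

theorem transitive_of_normal {G Ω : Type*} [Group G] [MulAction G Ω] [FaithfulSMul G Ω]
    (hprim : IsPreprimitive G Ω) (N : Subgroup G) (hN : N.Normal) (hN1 : N ≠ ⊥) :
    IsPretransitive N Ω := by
  have hq : IsQuasiPreprimitive G Ω := inferInstance
  apply hq.isPretransitive_of_normal
  intro hfix
  apply hN1
  rw [eq_bot_iff]
  intro x hx
  rw [Subgroup.mem_bot]
  apply FaithfulSMul.eq_of_smul_eq_smul (α := Ω)
  intro ω
  have : ω ∈ fixedPoints N Ω := by rw [hfix]; trivial
  rw [one_smul]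
  exact this ⟨x, hx⟩

/-- An abelian minimal normal subgroup is elementary abelian. -/
theorem elementary_of_comm {G : Type*} [Group G] [Finite G] {N : Subgroup G} (hN : IsMinNormal N)
    (hab : ∀ a ∈ N, ∀ b ∈ N, a * b = b * a) : ∃ r : ℕ, r.Prime ∧ ∀ a ∈ N, a ^ r = 1 := by
  have hnt : Nontrivial N := (Subgroup.nontrivial_iff_ne_bot N).mpr hN.2.1
  have hcard : Nat.card N ≠ 1 := (Finite.one_lt_card_iff_nontrivial.mpr hnt).ne'
  obtain ⟨r, hr, hrd⟩ := Nat.exists_prime_and_dvd hcard
  have : Fact r.Prime := ⟨hr⟩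
  obtain ⟨x, hx⟩ := exists_prime_orderOf_dvd_card' r hrd
  refine ⟨r, hr, ?_⟩
  let K : Subgroup G :=
    { carrier := {x | x ∈ N ∧ x ^ r = 1}
      mul_mem' := by
        rintro a b ⟨ha, ha1⟩ ⟨hb, hb1⟩
        refine ⟨N.mul_mem ha hb, ?_⟩
        have : Commute a b := hab a ha b hb
        rw [this.mul_pow, ha1, hb1, mul_one]
      one_mem' := ⟨N.one_mem, one_pow r⟩
      inv_mem' := by
        rintro a ⟨ha, ha1⟩
        exact ⟨N.inv_mem ha, by rw [inv_pow, ha1, inv_one]⟩ }
  have hK : K.Normal := by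
    constructor
    rintro a ⟨ha, ha1⟩ g
    exact ⟨hN.1.conj_mem a ha g, by rw [conj_pow, ha1]; group⟩
  have hKN : K ≤ N := fun a ha => ha.1
  rcases hN.2.2 K hK hKN with h1 | h1
  · exfalso
    have hxK : (x : G) ∈ K := ⟨x.2, by
      have := pow_orderOf_eq_one x
      rw [hx] at this
      exact congrArg Subtype.val this⟩
    rw [h1, Subgroup.mem_bot] at hxK
    have : x = 1 := Subtype.ext hxK
    rw [this, orderOf_one] at hx
    exact hr.one_lt.ne hx
  · intro a ha
    rw [← h1] at ha
    exact ha.2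

theorem not_isPGroup_of_simple {T : Type*} [Group T] [Finite T] (hs : IsSimpleGroup T)
    (hna : ¬ IsMulCommutative T) (p : ℕ) [Fact p.Prime] : ¬ IsPGroup p T := by
  intro hp
  have hnt : Nontrivial T := hs.toNontrivial
  have h1 := hp.center_nontrivial
  rcases hs.eq_bot_or_eq_top_of_normal (Subgroup.center T) inferInstance with h2 | h2
  · rw [h2] at h1
    exact absurd h1 (by rw [not_nontrivial_iff_subsingleton]; infer_instance)
  · apply hna
    refine ⟨⟨fun a b => ?_⟩⟩
    have : b ∈ Subgroup.center T := by rw [h2]; trivial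
    exact (Subgroup.mem_center_iff.mp this a)

/-- Derangements supported on the simple factor of a transitive nonabelian minimal normal
subgroup. -/
theorem factor_derangements {G Ω : Type*} [Group G] [Finite G] [MulAction G Ω] [Finite Ω]
    (hΩ : 1 < Nat.card Ω) {N T : Subgroup G} (hN : IsMinNormal N) (hT : Factor N T)
    (htr : IsPretransitive N Ω) :
    (∃ t ∈ T, ∀ c ∈ cen N T, ∀ ω : Ω, (t * c) • ω ≠ ω) ∨ (∀ t ∈ T, t ≠ 1 → ∀ ω : Ω, t • ω ≠ ω) := by
  obtain ⟨α⟩ : Nonempty Ω := by rw [← Finite.card_pos_iff]; omega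
  set L : Subgroup G := N ⊓ stabilizer G α with hL
  have hpt : ∀ ω : Ω, ∃ n ∈ N, n • α = ω := by
    intro ω
    obtain ⟨n, hn⟩ := htr.exists_smul_eq α ω
    exact ⟨n, n.2, hn⟩
  by_cases hi : L ⊔ cen N T = N
  · right
    -- L ⊓ T is invariant under N
    have hinv : ∀ n ∈ N, ∀ m ∈ L ⊓ T, n * m * n⁻¹ ∈ L ⊓ T := by
      intro n hn m hm
      have hle : N ≤ Subgroup.normalizer ((L ⊓ T : Subgroup G) : Set G) := by
        rw [← hi]
        apply sup_le
        · intro l hl
          rw [← cj_eq_iff_mem_normalizer]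
          apply Subgroup.eq_of_le_of_card_ge
          · intro x hx
            rw [mem_cj] at hx
            have e : x = l * (l⁻¹ * x * l) * l⁻¹ := by group
            rw [e]
            exact ⟨L.mul_mem (L.mul_mem hl hx.1) (L.inv_mem hl), hT.inv l hl.1 _ hx.2⟩
          · rw [card_cj]
        · intro c hc
          rw [Subgroup.mem_normalizer_iff]
          intro x
          have hcx : ∀ x ∈ T, c * x * c⁻¹ = x := by
            intro x hx
            rw [← (mem_cen.mp hc).1 x hx, mul_inv_cancel_right]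
          constructor
          · intro hx
            rw [hcx x hx.2]; exact hx
          · intro hx
            have h1 := (mem_cen.mp hc).1 _ hx.2
            have h2 : c * x * c⁻¹ = x := by
              have : c * x = c * (c * x * c⁻¹) := by rw [← h1]; group
              exact (mul_left_cancel this).symm
            rwa [h2] at hx
      exact (Subgroup.mem_normalizer_iff.mp (hle hn) m).mp hm
    rcases hT.min (L ⊓ T) inf_le_right hinv with h1 | h1
    · intro t ht ht1 ω hω
      obtain ⟨n, hn, rfl⟩ := hpt ω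
      apply ht1
      have h2 : n⁻¹ * t * n ∈ L ⊓ T := by
        have h3 := hT.inv n⁻¹ (N.inv_mem hn) t ht
        rw [inv_inv] at h3
        refine ⟨⟨hT.le h3, ?_⟩, h3⟩
        show (n⁻¹ * t * n) • α = α
        rw [mul_smul, mul_smul, hω, inv_smul_smul]
      rw [h1, Subgroup.mem_bot] at h2
      have h3 : t = n * (n⁻¹ * t * n) * n⁻¹ := by group
      rw [h3, h2]; group
    · exfalso
      have hTL : T ≤ stabilizer G α := by
        have h2 : L ⊓ T ≤ L := inf_le_left
        rw [h1] at h2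
        exact h2.trans inf_le_right
      have hNα : N ≤ stabilizer G α := by
        apply le_of_all_conj_le hN hT
        intro g x hx
        rw [mem_cj] at hx
        obtain ⟨n, hn, hng⟩ := hpt (g⁻¹ • α)
        -- g n fixes α
        have hgn : (g * n) • α = α := by rw [mul_smul, hng, smul_inv_smul]
        have h2 : n⁻¹ * (g⁻¹ * x * g) * n ∈ T := by
          have h3 := hT.inv n⁻¹ (N.inv_mem hn) _ hx
          rwa [inv_inv] at h3
        have h4 : (n⁻¹ * (g⁻¹ * x * g) * n) • α = α := hTL h2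
        have e : x = (g * n) * (n⁻¹ * (g⁻¹ * x * g) * n) * (g * n)⁻¹ := by group
        have hgn' : (g * n)⁻¹ • α = α := by rw [inv_smul_eq_iff, hgn]
        rw [mem_stabilizer_iff, e, mul_smul, hgn', mul_smul, h4, hgn]
      have hnt : Nontrivial Ω := Finite.one_lt_card_iff_nontrivial.mp hΩ
      obtain ⟨β, hβ⟩ := exists_ne α
      obtain ⟨n, hn, hnβ⟩ := hpt β
      exact hβ (hnβ.symm.trans (hNα hn))
  · left
    have hRN : L ⊔ cen N T ≤ N := sup_le inf_le_left (fun x hx => (mem_cen.mp hx).2)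
    obtain ⟨x, hx, hxn⟩ := exists_not_conj hRN hi
    obtain ⟨t, ht, c0, hc0, rfl⟩ := hT.exists_mul hN hx
    refine ⟨t, ht, ?_⟩
    intro c hc ω hω
    obtain ⟨n, hn, rfl⟩ := hpt ω
    apply hxn n hn
    have h1 : n⁻¹ * (t * c) * n ∈ L := by
      refine ⟨N.mul_mem (N.mul_mem (N.inv_mem hn) (N.mul_mem (hT.le ht) (mem_cen.mp hc).2)) hn, ?_⟩
      show (n⁻¹ * (t * c) * n) • α = α
      rw [mul_smul, mul_smul, hω, inv_smul_smul]
    have h2 : n⁻¹ * (c⁻¹ * c0) * n ∈ cen N T := by
      have h3 := hT.cen_inv n⁻¹ (N.inv_mem hn) _ ((cen N T).mul_mem ((cen N T).inv_mem hc) hc0)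
      rwa [inv_inv] at h3
    have e : n⁻¹ * (t * c0) * n = (n⁻¹ * (t * c) * n) * (n⁻¹ * (c⁻¹ * c0) * n) := by group
    rw [e]
    exact Subgroup.mul_mem _ (Subgroup.mem_sup_left h1) (Subgroup.mem_sup_right h2)

end CfsgLib.H5Perm2
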