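import Cfsg.Agent.Lib.BEasy19
import Cfsg.Agent.Lib.BFR1
import Cfsg.Agent.Lib.H5Perm2
import Cfsg.Agent.Lib.CharFS

/-!
# Itô's theorem on degrees, and degrees prime to `p` in `p`-solvable groups
-/

set_option autoImplicit false
set_option linter.style.haveILetI false
set_option linter.unusedSectionVars false
set_option linter.unusedVariables false

open scoped ComplexConjugate Pointwise

namespace CfsgLib.Block

open Cfsg CfsgLib.CharBasic CfsgLib.CharInd CfsgLib.CharClifford CfsgLib.CliffordCorr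

universe u v w

variable {G : Type u} [Group G] [Fintype G]

/-- the constituent of a restriction -/
theorem exists_res_constituent (A : Subgroup G) [Fintype A] {χ : G → ℂ} (hχ : IsIrrCharacter G χ) :
    ∃ θ : IrrCharacter A, classInner (fun n : A => χ n) θ ≠ 0 := by
  apply exists_constituent (IsCharacter.comp (IsIrrCharacter.isCharacter hχ) A.subtype)
  intro h
  have := congrFun h 1
  simp only [Function.comp_apply, map_one, Pi.zero_apply] at this
  exact IsIrrCharacter.one_ne_zero hχ this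

/-- Itô's theorem -/
theorem ito_degree (A : Subgroup G) [hAn : A.Normal] (hA : ∀ x ∈ A, ∀ y ∈ A, x * y = y * x) {χ : G → ℂ} (hχ : IsIrrCharacter G χ)
    {n : ℕ} (hn : χ 1 = n) : n ∣ A.index := by
  classical
  haveI : Fintype A := Fintype.ofFinite A
  obtain ⟨θ, hθ⟩ := exists_res_constituent A hχ
  have hAT : A ≤ inertia (θ : A → ℂ) := le_inertia (irr_isClassFunction θ)
  set T := inertia (θ : A → ℂ) with hT
  haveI : Fintype T := Fintype.ofFinite T
  obtain ⟨ψ, hψ, hχψ⟩ := ind_surj hAT θ.2 (le_refl T) hχ hθ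
  obtain ⟨m, hm⟩ : ∃ m : ℕ, (ψ : T → ℂ) 1 = m := ⟨_, charDegree_one ψ⟩
  haveI : Fintype (A.subgroupOf T) := Fintype.ofFinite _
  have hin : inertia (N := A.subgroupOf T) (subFun T (θ : A → ℂ)) = ⊤ := by
    rw [eq_top_iff]
    intro g _
    rw [mem_inertia']
    intro a
    exact mem_inertia'.mp g.2 ⟨((a : T) : G), a.2⟩
  have h0 : classInner (fun n : A.subgroupOf T => (ψ : T → ℂ) n) (subFun T (θ : A → ℂ)) ≠ 0 := by
    rw [inner_sub hAT]; exact hψ
  have hc := clifford ψ.2 (subFun_irr hAT θ.2) h0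
  have hdvd : m ∣ (A.subgroupOf T).index := by
    apply IsIrrCharacter.degree_dvd_index_of_le ψ.2 hm
    have hcomm : ∀ a b : A.subgroupOf T, a * b = b * a := by
      intro a b
      apply Subtype.ext
      apply Subtype.ext
      exact hA _ a.2 _ b.2
    have horb : ∀ φ ∈ CharClifford.orb (N := A.subgroupOf T) (subFun T (θ : A → ℂ)), (φ : A.subgroupOf T → ℂ) = subFun T (θ : A → ℂ) := by
      intro φ hφ
      obtain ⟨g, hg⟩ := CharClifford.mem_orb.mp hφ
      rw [← hg]
      exact mem_inertia.mp (by rw [hin]; trivial)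
    have hval : ∀ a : A.subgroupOf T, (ψ : T → ℂ) a = classInner (fun n : A.subgroupOf T => (ψ : T → ℂ) n) (subFun T (θ : A → ℂ)) *
        ((CharClifford.orb (N := A.subgroupOf T) (subFun T (θ : A → ℂ))).card * subFun T (θ : A → ℂ) a) := by
      intro a
      have h1 := congrFun hc a
      simp only [Pi.smul_apply, Finset.sum_apply, smul_eq_mul] at h1
      rw [h1, Finset.sum_congr rfl fun φ hφ => congrFun (horb φ hφ) a, Finset.sum_const, nsmul_eq_mul]
    intro a ha
    have h1 := hval ⟨a, ha⟩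
    have h2 := hval 1
    simp only [Subgroup.coe_one] at h1 h2
    have h3 : ‖subFun T (θ : A → ℂ) ⟨a, ha⟩‖ = ‖subFun T (θ : A → ℂ) 1‖ := by
      apply IsIrrCharacter.norm_of_mem_center (subFun_irr hAT θ.2)
      rw [Subgroup.mem_center_iff]
      intro b
      exact hcomm _ _
    rw [h1, h2, norm_mul, norm_mul, norm_mul, norm_mul, h3]
  have h1 : n = T.index * m := by
    have h2 : (n : ℂ) = ((T.index * m : ℕ) : ℂ) := by
      rw [← hn, hχψ, indFun_one, hm]
      push_cast; ring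
    exact_mod_cast h2
  rw [h1, ← Subgroup.relIndex_mul_index hAT, mul_comm]
  exact Nat.mul_dvd_mul_right hdvd _


/-- the group with the conjugation action -/
def CX (G : Type u) : Type u := G

instance : MulAction G (CX G) where
  smul g x := (g * (show G from x) * g⁻¹ : G)
  one_smul x := by
    change (1 * (show G from x) * 1⁻¹ : G) = x
    rw [one_mul, inv_one, mul_one]
  mul_smul a b x := by
    change (a * b * (show G from x) * (a * b)⁻¹ : G) = a * (b * (show G from x) * b⁻¹) * a⁻¹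
    have h : ∀ y : G, a * b * y * (a * b)⁻¹ = a * (b * y * b⁻¹) * a⁻¹ := fun y => by group
    exact h x

/-- a subgroup containing a Sylow subgroup up to conjugacy -/
theorem exists_sylow_le {p : ℕ} [Fact p.Prime] {I : Subgroup G} (hI : ¬ p ∣ I.index) : ∃ Q : Sylow p G, (Q : Subgroup G) ≤ I := by
  have hp : p.Prime := Fact.out
  obtain ⟨Q⟩ : Nonempty (Sylow p I) := inferInstance
  have h1 : IsPGroup p ((Q : Subgroup I).map I.subtype) := Q.2.map _
  have h2 : ¬ p ∣ ((Q : Subgroup I).map I.subtype).index := by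
    rw [Subgroup.index_map_subtype]
    intro h
    rcases hp.dvd_mul.mp h with h | h
    · exact Q.not_dvd_index h
    · exact hI h
  exact ⟨h1.toSylow h2, Subgroup.map_subtype_le _⟩

/-- a coprime `p`-group fixing all irreducible characters acts trivially -/
theorem comm_of_fixes {p : ℕ} [Fact p.Prime] (K : Subgroup G) [hKn : K.Normal] (hK : ¬ p ∣ Nat.card K) (P : Subgroup G) (hP : IsPGroup p P)
    (hfix : ∀ x ∈ P, ∀ θ : IrrCharacter K, conjFn x (θ : K → ℂ) = θ) : ∀ x ∈ P, ∀ k ∈ K, x * k = k * x := by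
  classical
  have hp : p.Prime := Fact.out
  have hcop : CfsgLib.Coprime.CopAct P K := by
    refine ⟨le_trans le_top (by rw [Subgroup.normalizer_eq_top]), ?_, Or.inl ?_⟩
    · obtain ⟨n, hn⟩ := IsPGroup.iff_card.mp hP
      rw [hn]
      exact Nat.Coprime.pow_left n ((Nat.Prime.coprime_iff_not_dvd hp).mpr hK)
    · haveI := hP.isNilpotent
      infer_instance
  have hconj : ∀ x ∈ P, ∀ k ∈ K, ∃ c ∈ K, c * (x * k * x⁻¹) * c⁻¹ = k := by
    intro x hx k hk
    have h1 : IsConj (⟨x * k * x⁻¹, hKn.conj_mem k hk x⟩ : K) ⟨k, hk⟩ := by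
      rw [isConj_iff_forall_irr]
      intro χ
      exact congrFun (hfix x hx χ) ⟨k, hk⟩
    obtain ⟨c, hc⟩ := isConj_iff.mp h1
    exact ⟨c, c.2, congrArg Subtype.val hc⟩
  by_contra hne
  have hR : K ⊓ Subgroup.centralizer (P : Set G) ≠ K := by
    intro h
    apply hne
    intro x hx k hk
    rw [← h] at hk
    exact Subgroup.mem_centralizer_iff.mp hk.2 x hx
  obtain ⟨k, hk, hkn⟩ := CfsgLib.H5Perm2.exists_not_conj (inf_le_left : K ⊓ Subgroup.centralizer (P : Set G) ≤ K) hR
  obtain ⟨s, hs, hsf⟩ := hcop.exists_fixed (X := CX G) {y : CX G | ∃ c ∈ K, (c * k * c⁻¹ : G) = y} ⟨k, 1, one_mem _, by rw [one_mul, inv_one, mul_one]⟩ (by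
      rintro a ha _ ⟨c, hc, rfl⟩
      change ∃ c' ∈ K, c' * k * c'⁻¹ = a * (c * k * c⁻¹) * a⁻¹
      obtain ⟨d, hd, hd2⟩ := hconj a ha (c * k * c⁻¹) (K.mul_mem (K.mul_mem hc hk) (K.inv_mem hc))
      refine ⟨d⁻¹ * c, K.mul_mem (K.inv_mem hd) hc, ?_⟩
      have : a * (c * k * c⁻¹) * a⁻¹ = d⁻¹ * (c * k * c⁻¹) * d := by
        nth_rw 2 [← hd2]
        group
      rw [this]
      group) (by
      rintro a ha _ ⟨c, hc, rfl⟩
      exact ⟨a * c, K.mul_mem ha hc, show (a * c) * k * (a * c)⁻¹ = a * (c * k * c⁻¹) * a⁻¹ by group⟩) (by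
      rintro _ ⟨c, hc, rfl⟩ _ ⟨d, hd, rfl⟩
      exact ⟨d * c⁻¹, K.mul_mem hd (K.inv_mem hc), show (d * c⁻¹) * (c * k * c⁻¹) * (d * c⁻¹)⁻¹ = d * k * d⁻¹ by group⟩)
  obtain ⟨c, hc, rfl⟩ := hs
  apply hkn c⁻¹ (K.inv_mem hc)
  rw [inv_inv]
  refine ⟨K.mul_mem (K.mul_mem hc hk) (K.inv_mem hc), ?_⟩
  change c * k * c⁻¹ ∈ Subgroup.centralizer (P : Set G)
  rw [Subgroup.mem_centralizer_iff]
  intro a ha
  have h1 : a * (c * k * c⁻¹) * a⁻¹ = c * k * c⁻¹ := hsf a ha
  nth_rw 2 [← h1]
  group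

theorem sylow_le_inertia {p : ℕ} [Fact p.Prime] (K : Subgroup G) [hKn : K.Normal] (P : Sylow p G) (hPK : ((P : Subgroup G) ⊔ K).Normal)
    (h : ∀ χ : IrrCharacter G, ¬ p ∣ charDegree (χ : G → ℂ)) (θ : IrrCharacter K) : (P : Subgroup G) ≤ inertia (θ : K → ℂ) := by
  classical
  haveI : Fintype K := Fintype.ofFinite K
  have h1 : ¬ p ∣ (inertia (θ : K → ℂ)).index := by
    obtain ⟨χ, hχ⟩ := exists_constituent (isCharacter_indFun K (irr_isCharacter θ)) (by
      intro h0
      have h2 := congrFun h0 1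
      rw [indFun_one, Pi.zero_apply] at h2
      rcases mul_eq_zero.mp h2 with h3 | h3
      · exact Subgroup.index_ne_zero_of_finite (H := K) (by exact_mod_cast h3)
      · exact IsIrrCharacter.one_ne_zero θ.2 h3)
    have h2 : classInner (fun n : K => (χ : G → ℂ) n) (θ : K → ℂ) ≠ 0 := by
      rw [frobenius K _ (irr_isClassFunction χ)] at hχ
      intro h3
      apply hχ
      rw [← classInner_conj_symm, h3, map_zero]
    have h3 := clifford_degree χ.2 θ.2 h2
    obtain ⟨e, he⟩ := IsCharacter.inner_nat (IsCharacter.comp (irr_isCharacter χ) K.subtype) (irr_isCharacter θ)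
    have h4 : classInner (fun n : K => (χ : G → ℂ) n) (θ : K → ℂ) = e := he
    rw [h4, charDegree_one χ, charDegree_one θ] at h3
    have h5 : charDegree (χ : G → ℂ) = e * (inertia (θ : K → ℂ)).index * charDegree (θ : K → ℂ) := by exact_mod_cast h3
    intro h6
    apply h χ
    rw [h5]
    exact Dvd.dvd.mul_right (Dvd.dvd.mul_left h6 _) _
  obtain ⟨Q, hQ⟩ := exists_sylow_le h1
  obtain ⟨g, hg⟩ := MulAction.exists_smul_eq G P Q
  have hKI : K ≤ inertia (θ : K → ℂ) := le_inertia (irr_isClassFunction θ)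
  intro x hx
  have h2 : g⁻¹ * x * g ∈ (P : Subgroup G) ⊔ K := by
    have := hPK.conj_mem x (Subgroup.mem_sup_left hx) g⁻¹
    rwa [inv_inv] at this
  rw [Subgroup.mem_sup_of_normal_right] at h2
  obtain ⟨y, hy, k, hk, hyk⟩ := h2
  have h3 : x = (g * y * g⁻¹) * (g * k * g⁻¹) := by
    have : x = g * (g⁻¹ * x * g) * g⁻¹ := by group
    rw [this, ← hyk]
    group
  rw [h3]
  refine (inertia (θ : K → ℂ)).mul_mem (hQ ?_) (hKI (hKn.conj_mem k hk g))
  rw [← hg, Sylow.coe_subgroup_smul]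
  exact Subgroup.smul_mem_pointwise_smul y (MulAut.conj g) (P : Subgroup G) hy

theorem normal_sylow_aux {p : ℕ} [hpf : Fact p.Prime] (n : ℕ) : ∀ (G : Type u) [Group G] [Finite G], Nat.card G ≤ n → IsPSolvable p G →
    (∀ χ : IrrCharacter G, ¬ p ∣ charDegree (χ : G → ℂ)) → ∀ P : Sylow p G, (P : Subgroup G).Normal := by
  have hp : p.Prime := Fact.out
  induction n with
  | zero => intro G _ _ h; exact absurd h (Nat.not_le.2 Nat.card_pos)
  | succ n ih =>
    intro G _ _ hcard hs hχ P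
    haveI : Fintype G := Fintype.ofFinite G
    have key : ∀ V : Subgroup G, V.Normal → V ≠ ⊥ → ((P : Subgroup G) ⊔ V).Normal := by
      intro V hVn hV
      have h1 : Nat.card (G ⧸ V) ≤ n := by
        have h2 := Subgroup.card_eq_card_quotient_mul_card_subgroup V
        have h3 : 1 < Nat.card V := by
          rw [Finite.one_lt_card_iff_nontrivial, Subgroup.nontrivial_iff_ne_bot]; exact hV
        have h4 : 0 < Nat.card (G ⧸ V) := Nat.card_pos
        have : Nat.card (G ⧸ V) < Nat.card G := by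
          rw [h2]; exact (Nat.lt_mul_iff_one_lt_right h4).mpr h3
        omega
      have h2 := ih (G ⧸ V) h1 (CfsgLib.PChain.quotient hp hs V) (by
        intro χ h3
        apply hχ (irrQuotientEquiv V χ).1
        have h4 : charDegree ((irrQuotientEquiv V χ).1 : G → ℂ) = charDegree (χ : G ⧸ V → ℂ) := by
          rw [charDegree, charDegree]
          have := irrQuotientEquiv_apply V χ 1
          rw [this]
          rfl
        rwa [h4]) (P.mapSurjective (QuotientGroup.mk'_surjective V))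
      rw [Sylow.coe_mapSurjective] at h2
      have h3 := h2.comap (QuotientGroup.mk' V)
      rwa [Subgroup.comap_map_eq, QuotientGroup.ker_mk'] at h3
    by_cases hV : pCore p G = ⊥
    swap
    · have h1 := key _ (CfsgLib.Core.pCore_normal p G) hV
      rwa [sup_eq_left.mpr (CfsgLib.Core.pCore_le_sylow P)] at h1
    rcases subsingleton_or_nontrivial G with hss | hnt
    · haveI := hss
      have : (P : Subgroup G) = ⊥ := Subsingleton.elim _ _
      rw [this]; infer_instance
    have hK : pPrimeCore p G ≠ ⊥ := fun h => CfsgLib.PChain.pCore_ne_bot hp hs h hV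
    haveI hKn : (pPrimeCore p G).Normal := CfsgLib.Core.pPrimeCore_normal p G
    have hPK := key _ hKn hK
    have hKp : ¬ p ∣ Nat.card (pPrimeCore p G) := fun h1 => hp.one_lt.ne' (Nat.dvd_one.mp (by
      have := Nat.dvd_gcd h1 (dvd_refl p)
      rwa [CfsgLib.Core.card_pPrimeCore_coprime p G] at this))
    have hcomm := comm_of_fixes (pPrimeCore p G) hKp (P : Subgroup G) P.2 (fun x hx θ => mem_inertia.mp (sylow_le_inertia _ P hPK hχ θ hx))
    refine ⟨fun x hx g => ?_⟩
    have h1 := hPK.conj_mem x (Subgroup.mem_sup_left hx) g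
    rw [Subgroup.mem_sup_of_normal_right] at h1
    obtain ⟨y, hy, k, hk, hyk⟩ := h1
    have hc : Commute y k := hcomm y hy k hk
    -- `k` is a `p`-element
    obtain ⟨a, ha⟩ := (IsPGroup.iff_orderOf.mp P.2) ⟨y, hy⟩
    obtain ⟨b, hb⟩ := (IsPGroup.iff_orderOf.mp P.2) ⟨x, hx⟩
    rw [Subgroup.orderOf_mk] at ha hb
    have h2 : y ^ p ^ (a + b) = 1 := by
      rw [pow_add, pow_mul, ← ha, pow_orderOf_eq_one, one_pow]
    have h3 : (g * x * g⁻¹) ^ p ^ (a + b) = 1 := by
      rw [conj_pow, pow_add, mul_comm, pow_mul, ← hb, pow_orderOf_eq_one, one_pow, mul_one, mul_inv_cancel]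
    rw [← hyk, hc.mul_pow, h2, one_mul] at h3
    have hk1 : k = 1 := by
      rw [← orderOf_eq_one_iff]
      have h4 := orderOf_dvd_of_pow_eq_one h3
      have h5 : orderOf k ∣ Nat.card (pPrimeCore p G) := by
        have := orderOf_dvd_natCard (⟨k, hk⟩ : pPrimeCore p G)
        rwa [Subgroup.orderOf_mk] at this
      have h6 : Nat.Coprime (p ^ (a + b)) (Nat.card (pPrimeCore p G)) := Nat.Coprime.pow_left _ ((Nat.Prime.coprime_iff_not_dvd hp).mpr hKp)
      exact Nat.eq_one_of_dvd_coprimes h6 h4 h5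
    rw [← hyk, hk1, mul_one]
    exact hy

theorem comm_of_linear (h : ∀ χ : IrrCharacter G, (χ : G → ℂ) 1 = 1) : ∀ a b : G, a * b = b * a := by
  have h1 := card_linear G
  have h2 : Nat.card {χ : IrrCharacter G // (χ : G → ℂ) 1 = 1} = Nat.card (IrrCharacter G) :=
    Nat.card_congr (Equiv.subtypeUnivEquiv h)
  have h3 := sum_sq_deg (G := G)
  have hd : ∀ χ : IrrCharacter G, charDegree (χ : G → ℂ) = 1 := by
    intro χ
    have := h χ
    rw [charDegree_one χ] at this
    exact_mod_cast this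
  simp only [hd] at h3
  have h4 : Nat.card (IrrCharacter G) = Nat.card G := by
    rw [Nat.card_eq_fintype_card]
    simpa using h3
  rw [h2, h4, ← Subgroup.card_mul_index (commutator G)] at h1
  have h5 : Nat.card (commutator G) = 1 := by
    have h6 : 0 < (commutator G).index := Nat.pos_of_ne_zero Subgroup.index_ne_zero_of_finite
    exact Nat.eq_of_mul_eq_mul_right h6 (by rw [h1, one_mul])
  have h6 := Subgroup.card_eq_one.mp h5
  intro a b
  have h7 : a * b * a⁻¹ * b⁻¹ ∈ commutator G := Subgroup.commutator_mem_commutator (Subgroup.mem_top a) (Subgroup.mem_top b)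
  rw [h6, Subgroup.mem_bot] at h7
  calc a * b = (a * b * a⁻¹ * b⁻¹) * (b * a) := by group
    _ = b * a := by rw [h7, one_mul]

theorem exists_above (K : Subgroup G) [hKn : K.Normal] (θ : IrrCharacter K) :
    ∃ (χ : IrrCharacter G) (e : ℕ), charDegree (χ : G → ℂ) = e * (inertia (θ : K → ℂ)).index * charDegree (θ : K → ℂ) := by
  classical
  haveI : Fintype K := Fintype.ofFinite K
  obtain ⟨χ, hχ⟩ := exists_constituent (isCharacter_indFun K (irr_isCharacter θ)) (by
    intro h0
    have h2 := congrFun h0 1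
    rw [indFun_one, Pi.zero_apply] at h2
    rcases mul_eq_zero.mp h2 with h3 | h3
    · exact Subgroup.index_ne_zero_of_finite (H := K) (by exact_mod_cast h3)
    · exact IsIrrCharacter.one_ne_zero θ.2 h3)
  have h2 : classInner (fun n : K => (χ : G → ℂ) n) (θ : K → ℂ) ≠ 0 := by
    rw [frobenius K _ (irr_isClassFunction χ)] at hχ
    intro h3
    apply hχ
    rw [← classInner_conj_symm, h3, map_zero]
  have h3 := clifford_degree χ.2 θ.2 h2
  obtain ⟨e, he⟩ := IsCharacter.inner_nat (IsCharacter.comp (irr_isCharacter χ) K.subtype) (irr_isCharacter θ)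
  have h4 : classInner (fun n : K => (χ : G → ℂ) n) (θ : K → ℂ) = e := he
  rw [h4, charDegree_one χ, charDegree_one θ] at h3
  exact ⟨χ, e, by exact_mod_cast h3⟩

theorem comm_of_prime_degrees {p : ℕ} [Fact p.Prime] (K : Subgroup G) [hKn : K.Normal] (hK : IsPGroup p K) (h : ∀ χ : IrrCharacter G, ¬ p ∣ charDegree (χ : G → ℂ)) :
    ∀ x ∈ K, ∀ y ∈ K, x * y = y * x := by
  have hp : p.Prime := Fact.out
  haveI : Fintype K := Fintype.ofFinite K
  have h1 : ∀ θ : IrrCharacter K, (θ : K → ℂ) 1 = 1 := by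
    intro θ
    obtain ⟨χ, e, h5⟩ := exists_above K θ
    have h6 : charDegree (θ : K → ℂ) ∣ Nat.card K := charDegree_dvd θ.2
    obtain ⟨m, hm⟩ := IsPGroup.iff_card.mp hK
    rw [hm] at h6
    obtain ⟨j, hj, hj2⟩ := (Nat.dvd_prime_pow hp).mp h6
    have hj0 : j = 0 := by
      by_contra hj0
      apply h χ
      rw [h5, hj2]
      exact Dvd.dvd.mul_left (dvd_pow_self p hj0) _
    rw [charDegree_one θ, hj2, hj0]
    simp
  have h2 := comm_of_linear h1
  intro x hx y hy
  exact congrArg Subtype.val (h2 ⟨x, hx⟩ ⟨y, hy⟩)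

theorem s4713 {p : ℕ} [Fact p.Prime] (hsolv : IsPSolvable p G) (P : Sylow p G) :
    ((P : Subgroup G).Normal ∧ (∀ x ∈ (P : Subgroup G), ∀ y ∈ (P : Subgroup G), x * y = y * x)) ↔ ∀ χ : IrrCharacter G, ¬ p ∣ charDegree (χ : G → ℂ) := by
  constructor
  · rintro ⟨hPn, hPc⟩ χ h
    exact P.not_dvd_index (h.trans (ito_degree (P : Subgroup G) hPc χ.2 (charDegree_one χ)))
  · intro h
    haveI hPn := normal_sylow_aux _ G le_rfl hsolv h P
    exact ⟨hPn, comm_of_prime_degrees (P : Subgroup G) P.2 h⟩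

theorem s4493 {p : ℕ} (hp : p.Prime) (hsolv : Group.IsSolvable G) :
    (∃ P : Subgroup G, P.Normal ∧ (∀ x ∈ P, ∀ y ∈ P, x * y = y * x) ∧ IsPGroup p P ∧ ¬ p ∣ P.index) ↔ ∀ χ : IrrCharacter G, ¬ p ∣ charDegree (χ : G → ℂ) := by
  haveI : Fact p.Prime := ⟨hp⟩
  have hs := CfsgLib.PChain.of_solvable (G := G) hp hsolv
  constructor
  · rintro ⟨P, hPn, hPc, hPp, hPi⟩
    exact (s4713 hs (hPp.toSylow hPi)).mp ⟨hPn, hPc⟩
  · intro h
    obtain ⟨P⟩ : Nonempty (Sylow p G) := inferInstance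
    obtain ⟨h1, h2⟩ := (s4713 hs P).mpr h
    exact ⟨P, h1, h2, P.2, P.not_dvd_index⟩

end CfsgLib.Block
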