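import Cfsg.Agent.Lib.BEasy20
import Cfsg.Agent.Lib.BEasy8
import Cfsg.Agent.Lib.BlockDom
import Cfsg.Agent.Lib.BlockPrin

/-!
# Principal block of a `p`-solvable group: abelian Sylow subgroups and heights
-/

set_option autoImplicit false
set_option linter.style.haveILetI false
set_option linter.unusedSectionVars false
set_option linter.unusedVariables false

open scoped ComplexConjugate Pointwise

namespace CfsgLib.Block

open Cfsg CfsgLib.CharBasic

universe u v w

variable {G : Type u} [Group G] [Fintype G] {p : ℕ} {M : Ideal AlgInt}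

theorem height_principal (hM : IsPModular p M) {χ : IrrCharacter G} : blockHeight p (principalBlock M G) (χ : G → ℂ) = (charDegree (χ : G → ℂ)).factorization p := by
  have h1 : sInf ((fun ψ : IrrCharacter G => (charDegree (ψ : G → ℂ)).factorization p) '' (principalBlock M G)) = 0 := by
    apply Nat.eq_zero_of_le_zero
    apply Nat.sInf_le
    refine ⟨irrOne G, ?_, ?_⟩
    · exact irrOne_mem_principalBlock hM
    · simp only
      rw [charDegree_irrOne]
      simp
  rw [blockHeight, h1, Nat.sub_zero]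

theorem s4736 [Fact p.Prime] (hM : IsPModular p M) (hsolv : IsPSolvable p G) (P : Sylow p G) :
    (∀ x ∈ (P : Subgroup G), ∀ y ∈ (P : Subgroup G), x * y = y * x) ↔ ∀ χ ∈ principalBlock M G, blockHeight p (principalBlock M G) (χ : G → ℂ) = 0 := by
  classical
  have hp : p.Prime := Fact.out
  haveI hKn : (pPrimeCore p G).Normal := CfsgLib.Core.pPrimeCore_normal p G
  have hKp : ¬ p ∣ Nat.card (pPrimeCore p G) := fun h1 => hp.one_lt.ne' (Nat.dvd_one.mp (by
    have := Nat.dvd_gcd h1 (dvd_refl p)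
    rwa [CfsgLib.Core.card_pPrimeCore_coprime p G] at this))
  haveI : Fintype (G ⧸ pPrimeCore p G) := Fintype.ofFinite _
  have hqs := CfsgLib.PChain.quotient hp hsolv (pPrimeCore p G)
  have hq1 := CfsgLib.PChain.pPrimeCore_quotient p G
  have hcen := CfsgLib.PChain.centralizer_pCore_le hqs hq1
  set P' := P.mapSurjective (QuotientGroup.mk'_surjective (pPrimeCore p G)) with hP'
  have hcoe : (P' : Subgroup (G ⧸ pPrimeCore p G)) = (P : Subgroup G).map (QuotientGroup.mk' (pPrimeCore p G)) := Sylow.coe_mapSurjective _ _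
  have h4713 := s4713 hqs P'
  constructor
  · intro hP χ hχ
    rw [height_principal hM]
    have hcomm : ∀ x ∈ (P' : Subgroup (G ⧸ pPrimeCore p G)), ∀ y ∈ (P' : Subgroup (G ⧸ pPrimeCore p G)), x * y = y * x := by
      rw [hcoe]
      rintro _ ⟨x, hx, rfl⟩ _ ⟨y, hy, rfl⟩
      rw [← map_mul, hP x hx y hy, map_mul]
    have hle : (P' : Subgroup (G ⧸ pPrimeCore p G)) ≤ pCore p (G ⧸ pPrimeCore p G) := by
      intro x hx
      apply hcen
      rw [Subgroup.mem_centralizer_iff]
      intro y hy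
      exact hcomm y (CfsgLib.Core.pCore_le_sylow P' hy) x hx
    have heq : (P' : Subgroup (G ⧸ pPrimeCore p G)) = pCore p (G ⧸ pPrimeCore p G) := le_antisymm hle (CfsgLib.Core.pCore_le_sylow P')
    have hn : (P' : Subgroup (G ⧸ pPrimeCore p G)).Normal := by rw [heq]; exact CfsgLib.Core.pCore_normal p _
    have h1 := h4713.mp ⟨hn, hcomm⟩
    obtain ⟨ψ, hψ, hχψ⟩ := IsIrrCharacter.exists_quotient χ.2 (pPrimeCore p G) (fun n hn => principal_ker hM _ hKp hχ hn)
    have h2 : charDegree (χ : G → ℂ) = charDegree ψ := by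
      rw [charDegree, charDegree, hχψ, Function.comp_apply, map_one]
    rw [h2]
    exact Nat.factorization_eq_zero_of_not_dvd (h1 ⟨ψ, hψ⟩)
  · intro h
    have h1 : ∀ ψ : IrrCharacter (G ⧸ pPrimeCore p G), ¬ p ∣ charDegree (ψ : G ⧸ pPrimeCore p G → ℂ) := by
      intro ψ hdvd
      have h2 : SameBlock M ((fun _ : G ⧸ pPrimeCore p G => (1 : ℂ))) (ψ : G ⧸ pPrimeCore p G → ℂ) :=
        s4487 hM hcen (irrOne (G ⧸ pPrimeCore p G)) ψ
      have h3 : SameBlock M ((irrOne (G ⧸ pPrimeCore p G) : G ⧸ pPrimeCore p G → ℂ) ∘ QuotientGroup.mk' (pPrimeCore p G)) ((ψ : G ⧸ pPrimeCore p G → ℂ) ∘ QuotientGroup.mk' (pPrimeCore p G)) :=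
        sameBlock_inflate (pPrimeCore p G) hM (χ := irrOne (G ⧸ pPrimeCore p G)) h2
      have h4 : IsIrrCharacter G ((ψ : G ⧸ pPrimeCore p G → ℂ) ∘ QuotientGroup.mk' (pPrimeCore p G)) :=
        IsIrrCharacter.comp ψ.2 _ (QuotientGroup.mk'_surjective _)
      have h5 := h ⟨_, h4⟩ h3
      rw [height_principal hM] at h5
      have h6 : charDegree ((⟨_, h4⟩ : IrrCharacter G) : G → ℂ) = charDegree (ψ : G ⧸ pPrimeCore p G → ℂ) := by
        rw [charDegree, charDegree]
        simp only [Function.comp_apply, map_one]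
      rw [h6] at h5
      rcases Nat.factorization_eq_zero_iff _ _ |>.mp h5 with h7 | h7 | h7
      · exact h7 hp
      · exact h7 hdvd
      · exact charDegree_ne_zero ψ.2 h7
    obtain ⟨h2, h3⟩ := h4713.mpr h1
    intro x hx y hy
    have h4 := h3 (x : G ⧸ pPrimeCore p G) (by rw [hcoe]; exact ⟨x, hx, rfl⟩) (y : G ⧸ pPrimeCore p G) (by rw [hcoe]; exact ⟨y, hy, rfl⟩)
    have h5 : x * y * x⁻¹ * y⁻¹ ∈ pPrimeCore p G := by
      rw [← QuotientGroup.eq_one_iff, QuotientGroup.mk_mul, QuotientGroup.mk_mul, QuotientGroup.mk_mul, h4, QuotientGroup.mk_inv, QuotientGroup.mk_inv]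
      group
    have h6 : x * y * x⁻¹ * y⁻¹ ∈ (P : Subgroup G) := mul_mem (mul_mem (mul_mem hx hy) (inv_mem hx)) (inv_mem hy)
    have h7 : x * y * x⁻¹ * y⁻¹ = 1 := by
      obtain ⟨k, hk⟩ := (IsPGroup.iff_orderOf.mp P.2) ⟨_, h6⟩
      rw [Subgroup.orderOf_mk] at hk
      rw [← orderOf_eq_one_iff]
      have h8 := orderOf_dvd_natCard (⟨_, h5⟩ : pPrimeCore p G)
      rw [Subgroup.orderOf_mk] at h8
      exact Nat.eq_one_of_dvd_coprimes (Nat.Coprime.pow_left k ((Nat.Prime.coprime_iff_not_dvd hp).mpr hKp)) (by rw [hk]) h8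
    calc x * y = (x * y * x⁻¹ * y⁻¹) * (y * x) := by group
      _ = y * x := by rw [h7, one_mul]

end CfsgLib.Block
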