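import Cfsg.Agent.Lib.BEasy21
import Cfsg.Agent.Lib.Coprime

/-!
# Centralizers of `p`-elements of odd order
-/

set_option autoImplicit false
set_option linter.style.haveILetI false
set_option linter.unusedSectionVars false
set_option linter.unusedVariables false

open scoped ComplexConjugate Pointwise

namespace CfsgLib.Block

open Cfsg CfsgLib.CharBasic CfsgLib.Coprime

universe u v w

variable {G : Type u} [Group G] [Fintype G] {p : ℕ}

/-- an involution acting without fixed points on a subgroup inverts it -/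
theorem inverts_of_fpf {R : Subgroup G} {t : G} (ht : t * t = 1) (hR : ∀ x ∈ R, t * x * t⁻¹ ∈ R) (hf : ∀ x ∈ R, t * x * t⁻¹ = x → x = 1) :
    ∀ x ∈ R, t * x * t⁻¹ = x⁻¹ := by
  let φ : R →* R :=
    { toFun := fun v => ⟨t * v * t⁻¹, hR v v.2⟩
      map_one' := by apply Subtype.ext; simp
      map_mul' := by intro a b; apply Subtype.ext; simp [mul_assoc] }
  have hφ : MonoidHom.FixedPointFree φ := by
    intro v hv
    exact Subtype.ext (hf v v.2 (congrArg Subtype.val hv))
  have hinv : Function.Involutive φ := by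
    intro v
    apply Subtype.ext
    change t * (t * (v : G) * t⁻¹) * t⁻¹ = v
    have : t * (t * (v : G) * t⁻¹) * t⁻¹ = (t * t) * v * (t * t)⁻¹ := by group
    rw [this, ht]; group
  have h1 := MonoidHom.FixedPointFree.coe_eq_inv_of_involutive hφ hinv
  intro x hx
  exact congrArg Subtype.val (congrFun h1 ⟨x, hx⟩)

/-- an involution inverting `y` normalizes and inverts a Sylow subgroup of the centralizer of `y` -/
theorem exists_inverted_syl [Fact p.Prime] {t y : G} (ht : orderOf t = 2) (hty : t * y * t⁻¹ = y⁻¹) (hodd : Odd (Nat.card (Subgroup.centralizer ({y} : Set G))))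
    (htp : ∀ x : G, (∃ k : ℕ, orderOf x = p ^ k) → t * x * t⁻¹ = x → x = 1) :
    ∃ R : Subgroup G, IsSyl p R (Subgroup.centralizer ({y} : Set G)) ∧ ∀ x ∈ R, t * x * t⁻¹ = x⁻¹ := by
  have htt : t * t = 1 := by rw [← pow_two, ← ht]; exact pow_orderOf_eq_one t
  have hti : t⁻¹ = t := inv_eq_of_mul_eq_one_left htt
  have hcop : CopAct (Subgroup.zpowers t) (Subgroup.centralizer ({y} : Set G)) := by
    refine ⟨?_, ?_, Or.inl ?_⟩
    · rw [Subgroup.zpowers_le, Subgroup.mem_normalizer_iff]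
      intro h
      rw [Subgroup.mem_centralizer_singleton_iff, Subgroup.mem_centralizer_singleton_iff]
      have hy : y = t * y⁻¹ * t⁻¹ := by
        calc y = (y⁻¹)⁻¹ := (inv_inv y).symm
          _ = (t * y * t⁻¹)⁻¹ := by rw [hty]
          _ = t * y⁻¹ * t⁻¹ := by group
      constructor
      · intro h1
        have h2 : h * y⁻¹ = y⁻¹ * h := by
          calc h * y⁻¹ = y⁻¹ * (y * h) * y⁻¹ := by group
            _ = y⁻¹ * (h * y) * y⁻¹ := by rw [h1]
            _ = y⁻¹ * h := by group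
        calc t * h * t⁻¹ * y = t * h * t⁻¹ * (t * y⁻¹ * t⁻¹) := by rw [← hy]
          _ = t * (h * y⁻¹) * t⁻¹ := by group
          _ = t * (y⁻¹ * h) * t⁻¹ := by rw [h2]
          _ = (t * y⁻¹ * t⁻¹) * (t * h * t⁻¹) := by group
          _ = y * (t * h * t⁻¹) := by rw [← hy]
      · intro h1
        have h2 : t * (h * y⁻¹) * t⁻¹ = t * (y⁻¹ * h) * t⁻¹ := by
          calc t * (h * y⁻¹) * t⁻¹ = t * h * t⁻¹ * (t * y⁻¹ * t⁻¹) := by group
            _ = t * h * t⁻¹ * y := by rw [← hy]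
            _ = y * (t * h * t⁻¹) := h1
            _ = (t * y⁻¹ * t⁻¹) * (t * h * t⁻¹) := by rw [← hy]
            _ = t * (y⁻¹ * h) * t⁻¹ := by group
        have h3 : h * y⁻¹ = y⁻¹ * h := by simpa using h2
        calc h * y = y * (y⁻¹ * h) * y := by group
          _ = y * (h * y⁻¹) * y := by rw [h3]
          _ = y * h := by group
    · rw [Nat.card_zpowers, ht, Nat.coprime_two_left]
      exact hodd
    · infer_instance
  obtain ⟨R, hR, hn⟩ := hcop.exists_isSyl p
  refine ⟨R, hR, ?_⟩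
  apply inverts_of_fpf htt
  · intro x hx
    exact (Subgroup.mem_normalizer_iff.mp (hn (Subgroup.mem_zpowers t)) x).mp hx
  · intro x hx hf
    apply htp x _ hf
    obtain ⟨k, hk⟩ := (IsPGroup.iff_orderOf.mp hR.isPGroup) ⟨x, hx⟩
    rw [Subgroup.orderOf_mk] at hk
    exact ⟨k, hk⟩

/-- a `p`-element centralizing a Sylow subgroup of `K` and lying in `K` lies in it -/
theorem mem_syl_of_comm [Fact p.Prime] {R K : Subgroup G} (hR : IsSyl p R K) {z : G} (hz : z ∈ K) (hzp : ∃ k : ℕ, orderOf z = p ^ k) (hc : ∀ x ∈ R, z * x = x * z) : z ∈ R := by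
  have h1 : Subgroup.zpowers z ≤ Subgroup.normalizer (R : Set G) := by
    rw [Subgroup.zpowers_le]
    apply Subgroup.centralizer_le_normalizer
    rw [Subgroup.mem_centralizer_iff]
    intro x hx
    exact (hc x hx).symm
  have h2 : IsPGroup p (Subgroup.zpowers z) := by
    obtain ⟨k, hk⟩ := hzp
    exact IsPGroup.of_card (n := k) (by rw [Nat.card_zpowers, hk])
  have h3 : IsPGroup p (R ⊔ Subgroup.zpowers z : Subgroup G) := IsPGroup.to_sup_of_normal_left' hR.isPGroup h2 h1
  have h4 := isSyl_of_le hR (sup_le hR.1 (by rw [Subgroup.zpowers_le]; exact hz)) h3 le_sup_left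
  rw [h4]
  exact Subgroup.mem_sup_right (Subgroup.mem_zpowers z)

theorem inverts_sylow [Fact p.Prime] {t y : G} (ht : orderOf t = 2) (hty : t * y * t⁻¹ = y⁻¹) (hy : ∃ k : ℕ, orderOf y = p ^ k) (hy1 : y ≠ 1)
    (hC : ∀ g : G, g ≠ 1 → (∃ k : ℕ, orderOf g = p ^ k) → Odd (Nat.card (Subgroup.centralizer ({g} : Set G))))
    (htp : ∀ x : G, (∃ k : ℕ, orderOf x = p ^ k) → t * x * t⁻¹ = x → x = 1) :
    ∃ P : Sylow p G, ∀ x ∈ (P : Subgroup G), t * x * t⁻¹ = x⁻¹ := by
  have hp : p.Prime := Fact.out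
  obtain ⟨R, hR, hRi⟩ := exists_inverted_syl ht hty (hC y hy1 hy) htp
  obtain ⟨S, hRS⟩ := hR.isPGroup.exists_le_sylow
  have hRc : ∀ x ∈ R, x * y = y * x := fun x hx => Subgroup.mem_centralizer_singleton_iff.mp (hR.1 hx)
  have hyR : y ∈ R := mem_syl_of_comm hR (by rw [Subgroup.mem_centralizer_singleton_iff]) hy (fun x hx => (hRc x hx).symm)
  haveI : Nontrivial S := ⟨⟨⟨y, hRS hyR⟩, 1, fun h => hy1 (congrArg Subtype.val h)⟩⟩
  obtain ⟨z, hz⟩ := (Subgroup.nontrivial_iff_exists_ne_one _).mp (S.2.center_nontrivial)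
  have hzc : ∀ x ∈ (S : Subgroup G), (z : G) * x = x * z := by
    intro x hx
    exact congrArg Subtype.val ((Subgroup.mem_center_iff.mp hz.1 ⟨x, hx⟩).symm)
  have hzp : ∃ k : ℕ, orderOf (z : G) = p ^ k := by
    obtain ⟨k, hk⟩ := (IsPGroup.iff_orderOf.mp S.2) z
    exact ⟨k, by rw [Subgroup.orderOf_coe]; exact hk⟩
  have hz1 : (z : G) ≠ 1 := fun h => hz.2 (Subtype.ext h)
  have hzR : (z : G) ∈ R := mem_syl_of_comm hR (by
    rw [Subgroup.mem_centralizer_singleton_iff]
    exact hzc y (hRS hyR)) hzp (fun x hx => hzc x (hRS hx))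
  obtain ⟨T, hT, hTi⟩ := exists_inverted_syl ht (hRi _ hzR) (hC _ hz1 hzp) htp
  have hS : (S : Subgroup G) ≤ Subgroup.centralizer ({(z : G)} : Set G) := by
    intro x hx
    rw [Subgroup.mem_centralizer_singleton_iff]
    exact (hzc x hx).symm
  have hcard : (Nat.card (Subgroup.centralizer ({(z : G)} : Set G))).factorization p = (Nat.card G).factorization p := by
    apply le_antisymm
    · exact (Nat.factorization_le_iff_dvd Nat.card_pos.ne' Nat.card_pos.ne').mpr (Subgroup.card_subgroup_dvd_card _) p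
    · have h1 := Subgroup.card_dvd_of_le hS
      rw [S.card_eq_multiplicity] at h1
      exact (hp.pow_dvd_iff_le_factorization Nat.card_pos.ne').mp h1
  refine ⟨Sylow.ofCard T (by rw [hT.2, hcard]), ?_⟩
  exact hTi

theorem s4744 [Fact p.Prime] (hp2 : p ≠ 2) (hpG : p ∣ Nat.card G) (h2G : 2 ∣ Nat.card G)
    (hC : ∀ g : G, g ≠ 1 → (∃ k : ℕ, orderOf g = p ^ k) → Odd (Nat.card (Subgroup.centralizer ({g} : Set G)))) :
    (∃ χ : IrrCharacter G, (charDegree (χ : G → ℂ)).factorization p = (Nat.card G).factorization p) ∨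
      ∀ P : Sylow p G, ∃ s : G, orderOf s = 2 ∧ ∀ x ∈ (P : Subgroup G), s * x * s⁻¹ = x⁻¹ := by
  have hp : p.Prime := Fact.out
  obtain ⟨t, ht⟩ := exists_prime_orderOf_dvd_card' 2 h2G
  -- `t` has no fixed points among `p`-elements
  have hfix : ∀ s : G, orderOf s = 2 → ∀ x : G, (∃ k : ℕ, orderOf x = p ^ k) → s * x * s⁻¹ = x → x = 1 := by
    intro s hs x hx hf
    by_contra hx1
    have h1 := hC x hx1 hx
    have h2 : s ∈ Subgroup.centralizer ({x} : Set G) := by
      rw [Subgroup.mem_centralizer_singleton_iff]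
      nth_rw 2 [← hf]
      group
    have h3 := orderOf_dvd_natCard (⟨s, h2⟩ : Subgroup.centralizer ({x} : Set G))
    rw [Subgroup.orderOf_mk, hs] at h3
    exact (Nat.not_even_iff_odd.mpr h1) (even_iff_two_dvd.mpr h3)
  obtain ⟨P₀⟩ : Nonempty (Sylow p G) := inferInstance
  by_cases h : ∀ z ∈ (P₀ : Subgroup G), z ≠ 1 → ∀ g h : G, IsConj t g → IsConj t⁻¹ h → g * h ≠ z
  · left
    obtain ⟨χ, hχ⟩ := exists_pow_dvd_degree hp t t⁻¹ (by rw [inv_inv]) (P₀ : Subgroup G) _ P₀.card_eq_multiplicity h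
    have hnd : ¬ p ∣ Nat.card (Subgroup.centralizer ({t} : Set G)) := by
      intro hd
      obtain ⟨x, hx⟩ := exists_prime_orderOf_dvd_card' p hd
      have hx' : orderOf (x : G) = p := by rw [Subgroup.orderOf_coe]; exact hx
      have h1 := hfix t ht x ⟨1, by rw [hx', pow_one]⟩ (by
        have := Subgroup.mem_centralizer_singleton_iff.mp x.2
        rw [← this]; group)
      rw [h1, orderOf_one] at hx'
      exact hp.one_lt.ne hx'
    rw [Nat.factorization_eq_zero_of_not_dvd hnd, Nat.sub_zero] at hχ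
    refine ⟨χ, le_antisymm ?_ ?_⟩
    · exact (Nat.factorization_le_iff_dvd (charDegree_ne_zero χ.2) Nat.card_pos.ne').mpr (charDegree_dvd χ.2) p
    · exact (hp.pow_dvd_iff_le_factorization (charDegree_ne_zero χ.2)).mp hχ
  · right
    push Not at h
    obtain ⟨y, hy, hy1, g, h, hg, hh, hgh⟩ := h
    have hg2 : orderOf g = 2 := by
      obtain ⟨c, hc⟩ := isConj_iff.mp hg
      rw [← hc, ← ht]
      exact (MulAut.conj c).orderOf_eq t
    have hh2 : orderOf h = 2 := by
      obtain ⟨c, hc⟩ := isConj_iff.mp hh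
      rw [← hc, ← ht, ← orderOf_inv t]
      exact (MulAut.conj c).orderOf_eq t⁻¹
    have hgg : g * g = 1 := by rw [← pow_two, ← hg2]; exact pow_orderOf_eq_one g
    have hhh : h * h = 1 := by rw [← pow_two, ← hh2]; exact pow_orderOf_eq_one h
    have hyp : ∃ k : ℕ, orderOf y = p ^ k := by
      obtain ⟨k, hk⟩ := (IsPGroup.iff_orderOf.mp P₀.2) ⟨y, hy⟩
      rw [Subgroup.orderOf_mk] at hk
      exact ⟨k, hk⟩
    have hinv : g * y * g⁻¹ = y⁻¹ := by
      rw [← hgh, mul_inv_rev, inv_eq_of_mul_eq_one_left hgg, inv_eq_of_mul_eq_one_left hhh, ← mul_assoc, hgg, one_mul]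
    obtain ⟨Q, hQ⟩ := inverts_sylow hg2 hinv hyp hy1 hC (hfix g hg2)
    intro P
    obtain ⟨c, hc⟩ := MulAction.exists_smul_eq G Q P
    refine ⟨c * g * c⁻¹, ?_, ?_⟩
    · rw [← hg2]
      exact (MulAut.conj c).orderOf_eq g
    · intro x hx
      rw [← hc, Sylow.coe_subgroup_smul, Subgroup.mem_pointwise_smul_iff_inv_smul_mem] at hx
      have h1 : c⁻¹ * x * c ∈ (Q : Subgroup G) := by
        simpa using hx
      have h2 := hQ _ h1
      calc c * g * c⁻¹ * x * (c * g * c⁻¹)⁻¹ = c * (g * (c⁻¹ * x * c) * g⁻¹) * c⁻¹ := by group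
        _ = c * (c⁻¹ * x * c)⁻¹ * c⁻¹ := by rw [h2]
        _ = x⁻¹ := by group

end CfsgLib.Block
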