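import Cfsg.Agent.Lib.BEasy22
import Cfsg.Agent.Lib.H6Super10

/-!
# Sylow subgroups normalizing Sylow subgroups
-/

set_option autoImplicit false
set_option linter.style.haveILetI false
set_option linter.unusedSectionVars false
set_option linter.unusedVariables false

open scoped Pointwise

namespace CfsgLib.Block

open Cfsg CfsgLib.Coprime

universe u v w

theorem card_mul_relIndex' {G : Type u} [Group G] {H K : Subgroup G} (h : H ≤ K) : Nat.card H * H.relIndex K = Nat.card K := by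
  rw [Subgroup.relIndex, ← Subgroup.card_mul_index (H.subgroupOf K)]
  congr 1
  exact Nat.card_congr (Subgroup.subgroupOfEquivOfLe h).toEquiv.symm

theorem relIndex_mul_index_sup {G : Type u} [Group G] [Finite G] (H N : Subgroup G) [N.Normal] : H.relIndex N * (H ⊔ N).index = H.index := by
  have e1 : (H ⊓ N).relIndex N * N.index = (H ⊓ N).index := Subgroup.relIndex_mul_index inf_le_right
  have e2 : (H ⊓ N).relIndex H * H.index = (H ⊓ N).index := Subgroup.relIndex_mul_index inf_le_left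
  rw [Subgroup.inf_relIndex_right] at e1
  rw [Subgroup.inf_relIndex_left] at e2
  have e3 : N.relIndex (H ⊔ N) * (H ⊔ N).index = N.index := Subgroup.relIndex_mul_index le_sup_right
  rw [Subgroup.relIndex_sup_right] at e3
  have h0 : 0 < N.relIndex H := Nat.pos_of_ne_zero (Subgroup.index_ne_zero_of_finite (H := N.subgroupOf H))
  apply Nat.eq_of_mul_eq_mul_left h0
  rw [e2, ← e1, ← e3]
  ring

section

variable {G : Type u} [Group G] [Finite G] {p q : ℕ}

theorem exists_sylow_le' [Fact p.Prime] {I : Subgroup G} (hI : ¬ p ∣ I.index) : ∃ Q : Sylow p G, (Q : Subgroup G) ≤ I := by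
  haveI : Fintype G := Fintype.ofFinite G
  exact exists_sylow_le hI

theorem not_dvd_of_sylow_le [Fact p.Prime] (P : Sylow p G) {I : Subgroup G} (hI : (P : Subgroup G) ≤ I) : ¬ p ∣ I.index :=
  fun h => P.not_dvd_index (h.trans (Subgroup.index_dvd_of_le hI))

theorem not_dvd_pPrimeCore [hpf : Fact p.Prime] : ¬ p ∣ Nat.card (pPrimeCore p G) := fun h1 => hpf.out.one_lt.ne' (Nat.dvd_one.mp (by
    have := Nat.dvd_gcd h1 (dvd_refl p)
    rwa [CfsgLib.Core.card_pPrimeCore_coprime p G] at this))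

theorem s4602 [hpf : Fact p.Prime] [hqf : Fact q.Prime] (hpq : p ≠ q) (hsolv : IsPSolvable p G) :
    (∃ (P : Sylow p G) (Q : Sylow q G), (P : Subgroup G) ≤ Subgroup.normalizer ((Q : Subgroup G) : Set G)) ↔ ¬ q ∣ (pPrimeCore p G).index := by
  have hp : p.Prime := Fact.out
  have hq : q.Prime := Fact.out
  haveI hKn : (pPrimeCore p G).Normal := CfsgLib.Core.pPrimeCore_normal p G
  have hqs := CfsgLib.PChain.quotient hp hsolv (pPrimeCore p G)
  have hcen := CfsgLib.PChain.centralizer_pCore_le hqs (CfsgLib.PChain.pPrimeCore_quotient p G)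
  constructor
  · rintro ⟨P, Q, hPQ⟩ hd
    set f := QuotientGroup.mk' (pPrimeCore p G) with hf
    set P' := P.mapSurjective (QuotientGroup.mk'_surjective (pPrimeCore p G)) with hP'
    set Q' := Q.mapSurjective (QuotientGroup.mk'_surjective (pPrimeCore p G)) with hQ'
    have hcoe : (P' : Subgroup (G ⧸ pPrimeCore p G)) = (P : Subgroup G).map f := Sylow.coe_mapSurjective _ _
    have hcoe' : (Q' : Subgroup (G ⧸ pPrimeCore p G)) = (Q : Subgroup G).map f := Sylow.coe_mapSurjective _ _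
    obtain ⟨y, hy⟩ : ∃ y : Q', y ≠ 1 := by
      rw [← not_forall_not]
      intro h
      push Not at h
      have h1 : Nat.card Q' = 1 := by
        rw [Nat.card_eq_one_iff_unique]
        exact ⟨⟨fun a b => by rw [h a, h b]⟩, ⟨1⟩⟩
      have h2 : q ∣ Nat.card Q' := Q'.dvd_card_of_dvd_card (by rwa [← Subgroup.index_eq_card])
      rw [h1] at h2
      exact hq.one_lt.ne' (Nat.dvd_one.mp h2)
    apply hy
    have hyC : (y : G ⧸ pPrimeCore p G) ∈ pCore p (G ⧸ pPrimeCore p G) := by
      apply hcen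
      rw [Subgroup.mem_centralizer_iff]
      intro x hx
      have hxP : x ∈ (P' : Subgroup (G ⧸ pPrimeCore p G)) := CfsgLib.Core.pCore_le_sylow P' hx
      have h1 : x * y * x⁻¹ ∈ (Q' : Subgroup (G ⧸ pPrimeCore p G)) := by
        rw [hcoe] at hxP
        obtain ⟨x₀, hx₀, rfl⟩ := hxP
        have hy2 : (y : G ⧸ pPrimeCore p G) ∈ (Q' : Subgroup (G ⧸ pPrimeCore p G)) := y.2
        rw [hcoe'] at hy2 ⊢
        obtain ⟨y₀, hy₀, hy₀'⟩ := hy2
        rw [← hy₀']
        exact ⟨x₀ * y₀ * x₀⁻¹, (Subgroup.mem_normalizer_iff.mp (hPQ hx₀) y₀).mp hy₀, by simp⟩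
      have h2 : x * y * x⁻¹ * (y : G ⧸ pPrimeCore p G)⁻¹ ∈ (Q' : Subgroup (G ⧸ pPrimeCore p G)) := mul_mem h1 (inv_mem y.2)
      have h3 : x * y * x⁻¹ * (y : G ⧸ pPrimeCore p G)⁻¹ ∈ pCore p (G ⧸ pPrimeCore p G) := by
        have h4 : x * y * x⁻¹ * (y : G ⧸ pPrimeCore p G)⁻¹ = x * (y * x⁻¹ * (y : G ⧸ pPrimeCore p G)⁻¹) := by group
        rw [h4]
        exact mul_mem hx ((CfsgLib.Core.pCore_normal p _).conj_mem _ (inv_mem hx) _)
      have h5 : x * y * x⁻¹ * (y : G ⧸ pPrimeCore p G)⁻¹ = 1 := by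
        obtain ⟨a, ha⟩ := (IsPGroup.iff_orderOf.mp Q'.2) ⟨_, h2⟩
        obtain ⟨b, hb⟩ := (IsPGroup.iff_orderOf.mp (CfsgLib.Core.pCore_isPGroup p (G ⧸ pPrimeCore p G))) ⟨_, h3⟩
        rw [Subgroup.orderOf_mk] at ha hb
        rw [← orderOf_eq_one_iff]
        exact Nat.eq_one_of_dvd_coprimes (Nat.Coprime.pow a b ((Nat.coprime_primes hq hp).mpr (Ne.symm hpq))) (by rw [ha]) (by rw [hb])
      calc x * y = (x * y * x⁻¹ * (y : G ⧸ pPrimeCore p G)⁻¹) * (y * x) := by group
        _ = y * x := by rw [h5, one_mul]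
    apply Subtype.ext
    obtain ⟨a, ha⟩ := (IsPGroup.iff_orderOf.mp Q'.2) y
    obtain ⟨b, hb⟩ := (IsPGroup.iff_orderOf.mp (CfsgLib.Core.pCore_isPGroup p (G ⧸ pPrimeCore p G))) ⟨_, hyC⟩
    rw [Subgroup.orderOf_mk] at hb
    rw [← Subgroup.orderOf_coe] at ha
    rw [Subgroup.coe_one, ← orderOf_eq_one_iff]
    exact Nat.eq_one_of_dvd_coprimes (Nat.Coprime.pow a b ((Nat.coprime_primes hq hp).mpr (Ne.symm hpq))) (by rw [ha]) (by rw [hb])
  · intro hd
    obtain ⟨Q⟩ : Nonempty (Sylow q G) := inferInstance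
    have hQK : (Q : Subgroup G) ≤ pPrimeCore p G := by
      intro x hx
      rw [← QuotientGroup.eq_one_iff, ← orderOf_eq_one_iff]
      obtain ⟨a, ha⟩ := (IsPGroup.iff_orderOf.mp Q.2) ⟨x, hx⟩
      rw [Subgroup.orderOf_mk] at ha
      have h1 : orderOf (x : G ⧸ pPrimeCore p G) ∣ q ^ a := by
        rw [← ha]; exact orderOf_map_dvd (QuotientGroup.mk' _) x
      have h2 : orderOf (x : G ⧸ pPrimeCore p G) ∣ (pPrimeCore p G).index := by
        rw [Subgroup.index_eq_card]; exact orderOf_dvd_natCard _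
      exact Nat.eq_one_of_dvd_coprimes (Nat.Coprime.pow_left a ((Nat.Prime.coprime_iff_not_dvd hq).mpr hd)) h1 h2
    have h1 := Sylow.normalizer_sup_eq_top' Q hQK
    have h2 := relIndex_mul_index_sup (Subgroup.normalizer ((Q : Subgroup G) : Set G)) (pPrimeCore p G)
    have h3 : Subgroup.normalizer ((Q : Subgroup G) : Set G) ⊔ pPrimeCore p G = ⊤ := h1
    rw [h3, Subgroup.index_top, mul_one] at h2
    have h4 : ¬ p ∣ (Subgroup.normalizer ((Q : Subgroup G) : Set G)).index := by
      rw [← h2]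
      intro h5
      exact not_dvd_pPrimeCore (h5.trans (Subgroup.relIndex_dvd_card _ _))
    obtain ⟨P, hP⟩ := exists_sylow_le' h4
    exact ⟨P, Q, hP⟩


theorem mapSurj_le_normalizer (V : Subgroup G) [V.Normal] [Fact p.Prime] [Fact q.Prime] (P : Sylow p G) (Q : Sylow q G)
    (h : ((P.mapSurjective (QuotientGroup.mk'_surjective V)) : Subgroup (G ⧸ V)) ≤ Subgroup.normalizer (((Q.mapSurjective (QuotientGroup.mk'_surjective V)) : Subgroup (G ⧸ V)) : Set (G ⧸ V))) :
    (P : Subgroup G) ≤ Subgroup.normalizer (((Q : Subgroup G) ⊔ V : Subgroup G) : Set G) := by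
  rw [Sylow.coe_mapSurjective, Sylow.coe_mapSurjective] at h
  have h1 := Subgroup.comap_mono (f := QuotientGroup.mk' V) h
  rw [Subgroup.comap_normalizer_eq_of_surjective _ (QuotientGroup.mk'_surjective V), Subgroup.comap_map_eq, Subgroup.comap_map_eq, QuotientGroup.ker_mk'] at h1
  exact le_sup_left.trans h1

/-- the class-size hypothesis passes to quotients -/
theorem class_quot [Fact q.Prime] (V : Subgroup G) [V.Normal] (h : ∀ y : G, (∃ k : ℕ, orderOf y = q ^ k) → ¬ p ∣ (Subgroup.centralizer ({y} : Set G)).index) :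
    ∀ y : G ⧸ V, (∃ k : ℕ, orderOf y = q ^ k) → ¬ p ∣ (Subgroup.centralizer ({y} : Set (G ⧸ V))).index := by
  intro y hy
  obtain ⟨x, hx, hxo⟩ := CfsgLib.H6Super.exists_lift (QuotientGroup.mk' V) (QuotientGroup.mk'_surjective V) y hy
  intro hd
  apply h x hxo
  have h1 : (Subgroup.centralizer ({x} : Set G)).map (QuotientGroup.mk' V) ≤ Subgroup.centralizer ({y} : Set (G ⧸ V)) := by
    rintro _ ⟨z, hz, rfl⟩
    rw [SetLike.mem_coe, Subgroup.mem_centralizer_singleton_iff] at hz
    rw [Subgroup.mem_centralizer_singleton_iff, ← hx, ← map_mul, hz, map_mul]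
  exact (hd.trans (Subgroup.index_dvd_of_le h1)).trans (Subgroup.index_map_dvd _ (QuotientGroup.mk'_surjective V))

/-- the Frattini step -/
theorem frattini_step [Fact p.Prime] [Fact q.Prime] (V : Subgroup G) [V.Normal] (P : Sylow p G) (Q : Sylow q G)
    (hPQ : (P : Subgroup G) ≤ Subgroup.normalizer (((Q : Subgroup G) ⊔ V : Subgroup G) : Set G))
    (hV : ¬ p ∣ (Subgroup.normalizer ((Q : Subgroup G) : Set G)).relIndex V) :
    ∃ (P : Sylow p G) (Q : Sylow q G), (P : Subgroup G) ≤ Subgroup.normalizer ((Q : Subgroup G) : Set G) := by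
  have hp : p.Prime := Fact.out
  have hq : q.Prime := Fact.out
  have hsyl : ∀ R : Sylow q G, (R : Subgroup G) ≤ (Q : Subgroup G) ⊔ V → IsSyl q (R : Subgroup G) ((Q : Subgroup G) ⊔ V) := by
    intro R hR
    refine ⟨hR, ?_⟩
    rw [R.card_eq_multiplicity]
    congr 1
    apply le_antisymm
    · have h1 := Subgroup.card_dvd_of_le hR
      rw [R.card_eq_multiplicity] at h1
      exact (hq.pow_dvd_iff_le_factorization Nat.card_pos.ne').mp h1
    · exact (Nat.factorization_le_iff_dvd Nat.card_pos.ne' Nat.card_pos.ne').mpr (Subgroup.card_subgroup_dvd_card _) q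
  have hle : Subgroup.normalizer (((Q : Subgroup G) ⊔ V : Subgroup G) : Set G) ≤ Subgroup.normalizer ((Q : Subgroup G) : Set G) ⊔ V := by
    intro g hg
    have h1 : MulAut.conj g • (Q : Subgroup G) ≤ (Q : Subgroup G) ⊔ V := by
      intro x hx
      rw [Subgroup.mem_pointwise_smul_iff_inv_smul_mem] at hx
      have h2 := (Subgroup.mem_normalizer_iff.mp hg _).mp (Subgroup.mem_sup_left (T := V) hx)
      simpa [mul_assoc] using h2
    have h2 : MulAut.conj g • (Q : Subgroup G) = ((g • Q : Sylow q G) : Subgroup G) := (Sylow.coe_subgroup_smul).symm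
    rw [h2] at h1
    obtain ⟨k, hk, hkQ⟩ := (hsyl _ h1).exists_conj (hsyl Q le_sup_left)
    have h3 : k * g ∈ Subgroup.normalizer ((Q : Subgroup G) : Set G) := by
      rw [← h2, smul_smul, ← map_mul] at hkQ
      rw [Subgroup.mem_normalizer_iff]
      intro x
      constructor
      · intro hx
        have h4 : MulAut.conj (k * g) • x ∈ MulAut.conj (k * g) • (Q : Subgroup G) := Subgroup.smul_mem_pointwise_smul x _ _ hx
        rw [hkQ] at h4
        exact h4
      · intro hx
        have h4 : k * g * x * (k * g)⁻¹ ∈ MulAut.conj (k * g) • (Q : Subgroup G) := by rw [hkQ]; exact hx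
        rw [Subgroup.mem_pointwise_smul_iff_inv_smul_mem] at h4
        simpa [mul_assoc] using h4
    have h4 : k ∈ Subgroup.normalizer ((Q : Subgroup G) : Set G) ⊔ V :=
      (sup_le_sup_right (Subgroup.le_normalizer) V : (Q : Subgroup G) ⊔ V ≤ _) hk
    have h5 : g = k⁻¹ * (k * g) := by group
    rw [h5]
    exact mul_mem (inv_mem h4) (Subgroup.mem_sup_left h3)
  have h1 := not_dvd_of_sylow_le P (hPQ.trans hle)
  have h2 := relIndex_mul_index_sup (Subgroup.normalizer ((Q : Subgroup G) : Set G)) V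
  obtain ⟨P', hP'⟩ := exists_sylow_le' (p := p) (I := Subgroup.normalizer ((Q : Subgroup G) : Set G)) (by
    rw [← h2]
    intro h3
    rcases hp.dvd_mul.mp h3 with h4 | h4
    · exact hV h4
    · exact h1 h4)
  exact ⟨P', Q, hP'⟩

/-- the coprime step -/
theorem coprime_step [Fact p.Prime] [Fact q.Prime] (V : Subgroup G) [V.Normal] (hVq : ¬ q ∣ Nat.card V) (Q : Sylow q G)
    (h : ∀ y : G, (∃ k : ℕ, orderOf y = q ^ k) → ¬ p ∣ (Subgroup.centralizer ({y} : Set G)).index) :
    ¬ p ∣ (Subgroup.normalizer ((Q : Subgroup G) : Set G)).relIndex V := by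
  have hp : p.Prime := Fact.out
  have hq : q.Prime := Fact.out
  have hcop : CopAct (Q : Subgroup G) V := by
    refine ⟨le_trans le_top (by rw [Subgroup.normalizer_eq_top]), ?_, Or.inl ?_⟩
    · rw [Q.card_eq_multiplicity]
      exact Nat.Coprime.pow_left _ ((Nat.Prime.coprime_iff_not_dvd hq).mpr hVq)
    · haveI := Q.2.isNilpotent
      infer_instance
  obtain ⟨P₀, hP₀, hn⟩ := hcop.exists_isSyl p
  have hcent : P₀ ≤ Subgroup.normalizer ((Q : Subgroup G) : Set G) := by
    refine le_trans ?_ (Subgroup.centralizer_le_normalizer _)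
    intro x hx
    rw [Subgroup.mem_centralizer_iff]
    intro y hy
    have hyo : ∃ k : ℕ, orderOf y = q ^ k := by
      obtain ⟨k, hk⟩ := (IsPGroup.iff_orderOf.mp Q.2) ⟨y, hy⟩
      rw [Subgroup.orderOf_mk] at hk
      exact ⟨k, hk⟩
    have hy' : Subgroup.zpowers y ≤ (Q : Subgroup G) := by rw [Subgroup.zpowers_le]; exact hy
    have hcy := hcop.mono_left hy'
    obtain ⟨P₁, hP₁, -⟩ : ∃ P₁, IsSyl p P₁ (V ⊓ Subgroup.centralizer ({y} : Set G)) ∧ True := by
      obtain ⟨P₁, hP₁⟩ := CfsgLib.Coprime.exists_isSyl p (V ⊓ Subgroup.centralizer ({y} : Set G))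
      exact ⟨P₁, hP₁, trivial⟩
    have hc1 : ¬ p ∣ (Subgroup.centralizer ({y} : Set G)).relIndex V := by
      intro h1
      apply h y hyo
      rw [← relIndex_mul_index_sup _ V]
      exact h1.mul_right _
    have hP₁V : IsSyl p P₁ V := by
      refine ⟨hP₁.1.trans inf_le_left, ?_⟩
      rw [hP₁.2]
      congr 1
      have h1 : Nat.card V = Nat.card (V ⊓ Subgroup.centralizer ({y} : Set G) : Subgroup G) * (Subgroup.centralizer ({y} : Set G)).relIndex V := by
        rw [← Subgroup.inf_relIndex_right, inf_comm (Subgroup.centralizer ({y} : Set G)) V]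
        exact (card_mul_relIndex' inf_le_left).symm
      have h0 : (Subgroup.centralizer ({y} : Set G)).relIndex V ≠ 0 := Subgroup.index_ne_zero_of_finite (H := (Subgroup.centralizer ({y} : Set G)).subgroupOf V)
      rw [h1, Nat.factorization_mul Nat.card_pos.ne' h0, Finsupp.add_apply]
      rw [Nat.factorization_eq_zero_of_not_dvd hc1, add_zero]
    have hP₁C : P₁ ≤ Subgroup.centralizer ({y} : Set G) := hP₁.1.trans inf_le_right
    obtain ⟨k, hk, hk2⟩ := hcy.conj_isSyl hP₁V hP₀ (by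
      rw [Subgroup.zpowers_le]
      apply Subgroup.centralizer_le_normalizer
      rw [Subgroup.mem_centralizer_iff]
      intro z hz
      exact Subgroup.mem_centralizer_singleton_iff.mp (hP₁C hz)) (hy'.trans hn)
    have hky : k * y = y * k := ((Subgroup.mem_centralizer_iff.mp hk.2) y (Subgroup.mem_zpowers y)).symm
    rw [← hk2, Subgroup.mem_pointwise_smul_iff_inv_smul_mem] at hx
    have h3 : k⁻¹ * x * k ∈ P₁ := by simpa using hx
    have h4 := Subgroup.mem_centralizer_singleton_iff.mp (hP₁C h3)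
    have h5 : k⁻¹ * (x * y) * k = k⁻¹ * (y * x) * k := by
      calc k⁻¹ * (x * y) * k = k⁻¹ * x * (k * k⁻¹) * (y * k) := by group
        _ = k⁻¹ * x * (k * k⁻¹) * (k * y) := by rw [hky]
        _ = (k⁻¹ * x * k) * y := by group
        _ = y * (k⁻¹ * x * k) := h4
        _ = k⁻¹ * (k * y) * k⁻¹ * x * k := by group
        _ = k⁻¹ * (y * k) * k⁻¹ * x * k := by rw [hky]
        _ = k⁻¹ * (y * x) * k := by group
    have h6 : x * y = y * x := by simpa using h5
    exact h6.symm
  intro h1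
  have h2 := h1.trans (Subgroup.relIndex_dvd_of_le_left V hcent)
  have h3 : Nat.card P₀ * P₀.relIndex V = Nat.card V := card_mul_relIndex' hP₀.1
  rw [hP₀.2] at h3
  have h4 : p ^ ((Nat.card V).factorization p + 1) ∣ Nat.card V := by
    nth_rw 2 [← h3]
    rw [pow_succ]
    exact Nat.mul_dvd_mul_left _ h2
  have h5 := (hp.pow_dvd_iff_le_factorization Nat.card_pos.ne').mp h4
  omega

end

theorem s4601_q {p q : ℕ} [hpf : Fact p.Prime] [hqf : Fact q.Prime] (n : ℕ) : ∀ (G : Type u) [Group G] [Finite G], Nat.card G ≤ n → IsPSolvable q G →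
    (∀ y : G, (∃ k : ℕ, orderOf y = q ^ k) → ¬ p ∣ (Subgroup.centralizer ({y} : Set G)).index) →
    ∃ (P : Sylow p G) (Q : Sylow q G), (P : Subgroup G) ≤ Subgroup.normalizer ((Q : Subgroup G) : Set G) := by
  have hp : p.Prime := Fact.out
  have hq : q.Prime := Fact.out
  induction n with
  | zero => intro G _ _ h; exact absurd h (Nat.not_le.2 Nat.card_pos)
  | succ n ih =>
    intro G _ _ hcard hs h
    have key : ∀ V : Subgroup G, V.Normal → V ≠ ⊥ → ∃ (P : Sylow p G) (Q : Sylow q G), (P : Subgroup G) ≤ Subgroup.normalizer (((Q : Subgroup G) ⊔ V : Subgroup G) : Set G) := by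
      intro V hVn hV
      have h1 : Nat.card (G ⧸ V) ≤ n := by
        have h2 := Subgroup.card_eq_card_quotient_mul_card_subgroup V
        have h3 : 1 < Nat.card V := by
          rw [Finite.one_lt_card_iff_nontrivial, Subgroup.nontrivial_iff_ne_bot]; exact hV
        have h4 : 0 < Nat.card (G ⧸ V) := Nat.card_pos
        have : Nat.card (G ⧸ V) < Nat.card G := by
          rw [h2]; exact (Nat.lt_mul_iff_one_lt_right h4).mpr h3
        omega
      obtain ⟨P', Q', h2⟩ := ih (G ⧸ V) h1 (CfsgLib.PChain.quotient hq hs V) (class_quot V h)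
      obtain ⟨P, rfl⟩ := Sylow.mapSurjective_surjective (QuotientGroup.mk'_surjective V) p P'
      obtain ⟨Q, rfl⟩ := Sylow.mapSurjective_surjective (QuotientGroup.mk'_surjective V) q Q'
      exact ⟨P, Q, mapSurj_le_normalizer V P Q h2⟩
    rcases subsingleton_or_nontrivial G with hss | hnt
    · obtain ⟨P⟩ : Nonempty (Sylow p G) := inferInstance
      obtain ⟨Q⟩ : Nonempty (Sylow q G) := inferInstance
      refine ⟨P, Q, fun x _ => ?_⟩
      rw [Subsingleton.elim x 1]
      exact one_mem _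
    haveI hKn : (pPrimeCore q G).Normal := CfsgLib.Core.pPrimeCore_normal q G
    haveI hOn : (pCore q G).Normal := CfsgLib.Core.pCore_normal q G
    by_cases hK : pPrimeCore q G = ⊥
    · obtain ⟨P, Q, hPQ⟩ := key _ hOn (CfsgLib.PChain.pCore_ne_bot hq hs hK)
      rw [sup_eq_left.mpr (CfsgLib.Core.pCore_le_sylow Q)] at hPQ
      exact ⟨P, Q, hPQ⟩
    · obtain ⟨P, Q, hPQ⟩ := key _ hKn hK
      exact frattini_step (pPrimeCore q G) P Q hPQ (coprime_step _ not_dvd_pPrimeCore Q h)

theorem s4601 {G : Type u} [Group G] [Finite G] {p q : ℕ} [hpf : Fact p.Prime] [hqf : Fact q.Prime] (hsolv : IsPSolvable p G ∨ IsPSolvable q G)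
    (h : ∀ y : G, (∃ k : ℕ, orderOf y = q ^ k) → ¬ p ∣ (Subgroup.centralizer ({y} : Set G)).index) :
    ∃ (P : Sylow p G) (Q : Sylow q G), (P : Subgroup G) ≤ Subgroup.normalizer ((Q : Subgroup G) : Set G) := by
  have hp : p.Prime := Fact.out
  have hq : q.Prime := Fact.out
  rcases hsolv with hs | hs
  swap
  · exact s4601_q _ G le_rfl hs h
  by_cases hpq : p = q
  · subst hpq
    obtain ⟨P⟩ : Nonempty (Sylow p G) := inferInstance
    exact ⟨P, P, Subgroup.le_normalizer⟩
  rw [s4602 hpq hs]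
  intro hd
  haveI hKn : (pPrimeCore p G).Normal := CfsgLib.Core.pPrimeCore_normal p G
  have hqs := CfsgLib.PChain.quotient hp hs (pPrimeCore p G)
  have hcen := CfsgLib.PChain.centralizer_pCore_le hqs (CfsgLib.PChain.pPrimeCore_quotient p G)
  rw [Subgroup.index_eq_card] at hd
  obtain ⟨y, hy⟩ := exists_prime_orderOf_dvd_card' q hd
  have h1 := class_quot (pPrimeCore p G) h y ⟨1, by rw [hy, pow_one]⟩
  obtain ⟨P, hP⟩ := exists_sylow_le' h1
  have h2 : y ∈ pCore p (G ⧸ pPrimeCore p G) := by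
    apply hcen
    rw [Subgroup.mem_centralizer_iff]
    intro x hx
    exact Subgroup.mem_centralizer_singleton_iff.mp (hP (CfsgLib.Core.pCore_le_sylow P hx))
  obtain ⟨b, hb⟩ := (IsPGroup.iff_orderOf.mp (CfsgLib.Core.pCore_isPGroup p (G ⧸ pPrimeCore p G))) ⟨_, h2⟩
  rw [Subgroup.orderOf_mk, hy] at hb
  exact hpq ((Nat.prime_dvd_prime_iff_eq hq hp).mp (hq.dvd_of_dvd_pow (by rw [← hb]))).symm

end CfsgLib.Block
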