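import Cfsg.Agent.Lib.BFong2
import Cfsg.Agent.Lib.BPair1
import Cfsg.Agent.Lib.Coprime2

/-!
# The block above an invariant character in a `p`-constrained group is of principal type
-/

set_option autoImplicit false
set_option linter.style.haveILetI false
set_option linter.unusedSectionVars false
set_option linter.unusedVariables false

open scoped ComplexConjugate

namespace CfsgLib.Block

open Cfsg CfsgLib.CharBasic CfsgLib.CharInd CfsgLib.CharClifford

universe u v w

section

variable {G : Type u} [Group G] [Fintype G] {p : ℕ} {M : Ideal AlgInt} {K : Subgroup G} [hK : K.Normal] [Fintype K]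

/-- lifting fixed points through a normal `p'`-subgroup -/
theorem exists_fixed_lift [Fact p.Prime] (hKp : ¬ p ∣ Nat.card K) {R : Subgroup G} (hR : IsPGroup p R) {u : G}
    (hu : ∀ r ∈ R, r * u * r⁻¹ * u⁻¹ ∈ K) : ∃ k ∈ K, u * k ∈ Subgroup.centralizer (R : Set G) := by
  classical
  have hu' : ∀ r : R, ∀ k : K, (u : G)⁻¹ * ((r : G) * (u * k) * (r : G)⁻¹) ∈ K := by
    intro r k
    have h1 : (u : G)⁻¹ * ((r : G) * (u * k) * (r : G)⁻¹) = u⁻¹ * ((r : G) * u * (r : G)⁻¹ * u⁻¹) * u * ((r : G) * k * (r : G)⁻¹) := by group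
    rw [h1]
    refine K.mul_mem ?_ (hK.conj_mem _ k.2 _)
    have := hK.conj_mem _ (hu r r.2) u⁻¹
    simpa using this
  letI : MulAction R K :=
    { smul := fun r k => ⟨_, hu' r k⟩
      one_smul := fun k => Subtype.ext (by
        show (u : G)⁻¹ * (((1 : R) : G) * (u * k) * ((1 : R) : G)⁻¹) = k
        rw [Subgroup.coe_one]; group)
      mul_smul := fun r s k => Subtype.ext (by
        show (u : G)⁻¹ * (((r * s : R) : G) * (u * k) * ((r * s : R) : G)⁻¹) = (u : G)⁻¹ * ((r : G) * (u * ((u : G)⁻¹ * ((s : G) * (u * k) * (s : G)⁻¹))) * (r : G)⁻¹)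
        rw [Subgroup.coe_mul]; group) }
  obtain ⟨k, hk⟩ := hR.nonempty_fixed_point_of_prime_not_dvd_card K hKp
  refine ⟨k, k.2, ?_⟩
  rw [Subgroup.mem_centralizer_iff]
  intro r hr
  have h1 : (u : G)⁻¹ * (r * (u * k) * r⁻¹) = k := congrArg Subtype.val (hk ⟨r, hr⟩)
  exact mul_inv_eq_iff_eq_mul.mp (inv_mul_eq_iff_eq_mul.mp h1)

/-- the regularity condition passes to centralizers of `p`-subgroups -/
theorem reg_centralizer [Fact p.Prime] (hKp : ¬ p ∣ Nat.card K) (L : Subgroup G) [hL : L.Normal] (hKL : K ≤ L)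
    (hLp : ∀ l ∈ L, ∃ k : ℕ, l ^ p ^ k ∈ K)
    (hreg : ∀ x : G, ¬ p ∣ orderOf x → x ∉ K → ∃ l ∈ L, x * l * x⁻¹ * l⁻¹ ∉ K)
    {R : Subgroup G} (hR : IsPGroup p R) {x : G} (hxR : x ∈ Subgroup.centralizer (R : Set G)) (hx : ¬ p ∣ orderOf x)
    (hxK : x ∉ K) : ∃ l ∈ L, l ∈ Subgroup.centralizer (R : Set G) ∧ x * l * x⁻¹ * l⁻¹ ∉ K := by
  classical
  have hp : p.Prime := Fact.out
  by_contra hcon
  push Not at hcon
  let q : G →* G ⧸ K := QuotientGroup.mk' K
  have hq : Function.Surjective q := QuotientGroup.mk'_surjective K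
  have hcomm : ∀ a b : G, a * b * a⁻¹ * b⁻¹ ∈ K ↔ q a * q b = q b * q a := by
    intro a b
    rw [← mul_inv_eq_iff_eq_mul, ← mul_inv_eq_one (b := q b), ← map_inv, ← map_inv, ← map_mul, ← map_mul, ← map_mul]
    exact (QuotientGroup.eq_one_iff _).symm
  haveI hLq : (L.map q).Normal := Subgroup.Normal.map hL q hq
  have hN : ∀ P : Subgroup (G ⧸ K), P ≤ Subgroup.normalizer ((L.map q : Subgroup (G ⧸ K)) : Set (G ⧸ K)) := by
    intro P
    rw [Subgroup.normalizer_eq_top]; exact le_top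
  have h := CfsgLib.Coprime.thompson_PxQ (p := p) (Nat.card (L.map q)) (R.map q) (Subgroup.zpowers (q x)) (L.map q) le_rfl (hR.map q)
    (by
      rw [Nat.card_zpowers, Nat.coprime_comm, Nat.Prime.coprime_iff_not_dvd hp]
      exact fun h => hx (h.trans (orderOf_map_dvd q x)))
    (by
      rintro ⟨_, l, hl, rfl⟩
      obtain ⟨k, hk⟩ := hLp l hl
      refine ⟨k, Subtype.ext ?_⟩
      rw [Subgroup.coe_pow, Subgroup.coe_one]
      show (q l) ^ p ^ k = 1
      rw [← map_pow]
      exact (QuotientGroup.eq_one_iff _).mpr hk)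
    (by
      rintro _ ⟨r, hr, rfl⟩
      rw [Subgroup.mem_centralizer_iff]
      have h1 : Commute (q x) (q r) := by
        show q x * q r = q r * q x
        rw [← map_mul, ← map_mul, (Subgroup.mem_centralizer_iff.mp hxR) r hr]
      rintro _ ⟨i, rfl⟩
      exact (h1.zpow_left i).eq)
    (hN _) (hN _)
    (by
      rintro _ ⟨⟨u, hu, rfl⟩, hc'⟩
      have hc : q u ∈ Subgroup.centralizer ((R.map q : Subgroup (G ⧸ K)) : Set (G ⧸ K)) := hc'
      rw [Subgroup.mem_centralizer_iff] at hc ⊢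
      obtain ⟨k, hk, huk⟩ := exists_fixed_lift (K := K) hKp hR (u := u) (by
        intro r hr
        rw [hcomm]
        exact hc (q r) ⟨r, hr, rfl⟩)
      have h1 := hcon (u * k) (L.mul_mem hu (hKL hk)) huk
      rw [hcomm] at h1
      have h2 : q (u * k) = q u := by
        have h4 : q k = 1 := (QuotientGroup.eq_one_iff k).mpr hk
        rw [map_mul, h4, mul_one]
      rw [h2] at h1
      have h3 : Commute (q x) (q u) := h1
      rintro _ ⟨i, rfl⟩
      exact (h3.zpow_left i).eq)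
  obtain ⟨l, hl, hxl⟩ := hreg x hx hxK
  apply hxl
  rw [hcomm]
  have h1 := h (Subgroup.mem_zpowers (q x))
  exact ((Subgroup.mem_centralizer_iff.mp h1) (q l) ⟨l, hl, rfl⟩).symm

/-- the idempotent of the block above an invariant character -/
theorem eB_over (θ : IrrCharacter K) (hinv : ∀ g : G, conjFn g (θ : K → ℂ) = θ) :
    eB {χ : IrrCharacter G | classInner (fun n : K => (χ : G → ℂ) n) (θ : K → ℂ) ≠ 0} = inclH K (eB {θ}) := by
  classical
  have hcen : IsCen (inclH K (eB {θ})) := by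
    apply isCen_inclH
    intro g n
    have h1 := coeff_eB_single θ (⟨g * n * g⁻¹, hK.conj_mem n n.2 g⟩ : K)
    have h2 := coeff_eB_single θ n
    rw [h1, h2]
    congr 2
    have h3 := congrFun (hinv g) n⁻¹
    rw [conjFn_apply] at h3
    rw [← h3]
    refine congrArg _ (Subtype.ext ?_)
    simp only [Subgroup.coe_inv]
    group
  apply eq_of_omega (isCen_eB _) hcen
  intro χ
  obtain ⟨η, hη⟩ := exists_under (N := K) χ
  rw [omega_eq_of_constituent χ η hη hcen (suppIn_inclH _), resH_inclH, omega_eB, omega_eB]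
  have h1 : χ ∈ {χ : IrrCharacter G | classInner (fun n : K => (χ : G → ℂ) n) (θ : K → ℂ) ≠ 0} ↔ η ∈ ({θ} : Set (IrrCharacter K)) := by
    rw [Set.mem_ofPred_eq, Set.mem_singleton_iff]
    constructor
    · intro h
      have h2 := CfsgLib.Gallagher2.res_of_inv θ.2 hinv χ.2 h
      rw [h2, classInner_smul_left] at hη
      by_contra hne
      apply hη
      rw [IsIrrCharacter.inner_eq_zero θ.2 η.2 (fun h => hne (Subtype.ext h.symm)), mul_zero]
    · intro h; rw [← h]; exact hη
  by_cases h2 : η ∈ ({θ} : Set (IrrCharacter K))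
  · rw [if_pos (h1.mpr h2), if_pos h2]
  · rw [if_neg (fun h => h2 (h1.mp h)), if_neg h2]

theorem principal_type (hM : IsPModular p M) (hKp : ¬ p ∣ Nat.card K) (θ : IrrCharacter K)
    (hinv : ∀ g : G, conjFn g (θ : K → ℂ) = θ) (L : Subgroup G) [hL : L.Normal] (hKL : K ≤ L)
    (hLp : ∀ l ∈ L, ∃ k : ℕ, l ^ p ^ k ∈ K)
    (hreg : ∀ x : G, ¬ p ∣ orderOf x → x ∉ K → ∃ l ∈ L, x * l * x⁻¹ * l⁻¹ ∉ K)
    {R : Subgroup G} (hR : IsPGroup p R) :
    ∃! f : Set (IrrCharacter (Subgroup.centralizer (R : Set G))), IsInducedBlock M (Subgroup.centralizer (R : Set G)) f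
      {χ : IrrCharacter G | classInner (fun n : K => (χ : G → ℂ) n) (θ : K → ℂ) ≠ 0} := by
  classical
  have hp : p.Prime := hM.1
  haveI : Fact p.Prime := ⟨hp⟩
  have hB := fong_block hM hKp θ hinv L hKL hLp hreg
  have heB := eB_over (G := G) θ hinv
  obtain ⟨B, hBdef⟩ : ∃ B : Set (IrrCharacter G), B = {χ : IrrCharacter G | classInner (fun n : K => (χ : G → ℂ) n) (θ : K → ℂ) ≠ 0} := ⟨_, rfl⟩
  rw [← hBdef] at hB heB ⊢
  let C : Subgroup G := Subgroup.centralizer (R : Set G)
  haveI : Fintype C := Fintype.ofFinite _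
  let K1 : Subgroup C := K.subgroupOf C
  haveI : K1.Normal := inferInstanceAs (K.subgroupOf C).Normal
  haveI : Fintype K1 := Fintype.ofFinite _
  let ι : K1 →* K :=
    { toFun := fun x => ⟨((x : C) : G), x.2⟩
      map_one' := rfl
      map_mul' := fun _ _ => rfl }
  letI : MulDistribMulAction R K := MulDistribMulAction.compHom K ((MulAut.conjNormal (H := K)).comp R.subtype)
  have hact : ∀ (r : R) (k : K), ((r • k : K) : G) = r * k * (r : G)⁻¹ := fun r k => MulAut.conjNormal_apply _ _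
  have hg : GSet ι p R := by
    refine ⟨?_, ?_, hR, hKp⟩
    · intro x y hxy
      have h1 : ((ι x : K) : G) = ((ι y : K) : G) := congrArg (fun z : K => (z : G)) hxy
      exact Subtype.ext (Subtype.ext h1)
    · intro k
      constructor
      · intro h
        have h1 : (k : G) ∈ C := by
          rw [Subgroup.mem_centralizer_iff]
          intro r hr
          have h2 := congrArg (fun z : K => (z : G)) (h ⟨r, hr⟩)
          simp only [hact] at h2
          exact mul_inv_eq_iff_eq_mul.mp h2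
        exact ⟨⟨⟨k, h1⟩, k.2⟩, rfl⟩
      · rintro ⟨c, rfl⟩ r
        apply Subtype.ext
        rw [hact]
        show (r : G) * ((c : C) : G) * (r : G)⁻¹ = ((c : C) : G)
        rw [(Subgroup.mem_centralizer_iff.mp (c : C).2) r r.2]; group
  have hθR : AInv R (θ : K → ℂ) := by
    intro r k
    have h1 := congrFun (hinv (r : G)) k
    rw [conjFn_apply] at h1
    rw [← h1]
    exact congrArg _ (Subtype.ext (hact r k))
  obtain ⟨θ₁, n₀, hn₀, hn₀p⟩ := glau_exists_beta hM hg θ
  -- invariance of the correspondent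
  have hinv₁ : ∀ c : C, conjFn c (θ₁ : K1 → ℂ) = θ₁ := by
    intro c
    let σ : K ≃* K := MulAut.conjNormal (H := K) (c : G)
    let τ : K1 ≃* K1 := MulAut.conjNormal (H := K1) c
    have h1 := rInner_equiv ι σ τ (fun x => Subtype.ext (by
      have h5 : ((ι (τ x) : K) : G) = (((τ x : K1) : C) : G) := rfl
      have h6 : ((σ (ι x) : K) : G) = (c : G) * ((x : C) : G) * (c : G)⁻¹ := MulAut.conjNormal_apply _ _
      have h7 : ((τ x : K1) : C) = c * (x : C) * c⁻¹ := MulAut.conjNormal_apply _ _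
      rw [h5, h6, h7]
      rfl)) θ θ₁
    have h2 : irrCongr σ θ = θ := by
      apply Subtype.ext; funext k
      rw [irrCongr_apply]
      have h3 := congrFun (hinv (c : G)) k
      rw [conjFn_apply] at h3
      rw [← h3]
      exact congrArg _ (Subtype.ext (MulAut.conjNormal_apply _ _))
    rw [h2] at h1
    have h3 : irrCongr τ θ₁ = θ₁ := glau_beta_unique hM hg hθR (h1.trans hn₀) hn₀p hn₀ hn₀p
    funext x
    have h4 : (irrCongr τ θ₁ : K1 → ℂ) x = (θ₁ : K1 → ℂ) x := by rw [h3]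
    rw [irrCongr_apply] at h4
    rw [conjFn_apply, ← h4]
    exact congrArg _ (Subtype.ext (MulAut.conjNormal_apply _ _).symm)
  -- the block of the centralizer
  have hK1p : ¬ p ∣ Nat.card K1 := hg.copC
  haveI : (L.subgroupOf C).Normal := inferInstance
  have hf₀ := fong_block (G := C) (N := K1) hM hK1p θ₁ hinv₁ (L.subgroupOf C) (fun x hx => hKL hx)
    (fun l hl => by
      obtain ⟨k, hk⟩ := hLp l hl
      exact ⟨k, hk⟩)
    (fun x hx hxK => by
      have hx' : ¬ p ∣ orderOf (x : G) := by rwa [Subgroup.orderOf_coe]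
      obtain ⟨l, hl, hlC, h⟩ := reg_centralizer (K := K) hKp L hKL hLp hreg hR x.2 hx' hxK
      exact ⟨⟨l, hlC⟩, hl, h⟩)
  -- the key computation
  have hcenB : IsCen (brH R C (eB B)) := isCen_brH (Subgroup.centralizer_le_normalizer _) (isCen_eB B)
  have hkey : ∀ (ξ : IrrCharacter C) (η : IrrCharacter K1), classInner (fun n : K1 => (ξ : C → ℂ) n) (η : K1 → ℂ) ≠ 0 →
      omega (ξ : C → ℂ) (brH R C (eB B)) = lam ι θ η := by
    intro ξ η hη
    have hsupp : SuppIn K1 (brH R C (eB B)) := by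
      intro c hc
      rw [coeff_brH_of_mem _ c.2, heB]
      exact coeff_inc_of_notMem _ hc
    rw [omega_eq_of_constituent ξ η hη hcenB hsupp]
    unfold lam
    congr 1
    apply ext_coeff
    intro x
    rw [coeff_resH, coeff_brH_of_mem _ (x : C).2, heB, coeff_pull]
    exact coeff_inc (eB {θ}) (ι x)
  have hrel : ∀ ξ : IrrCharacter C, ∃ χ : IrrCharacter G, IsInducedBlock M C (blockOf M (ξ : C → ℂ)) (blockOf M (χ : G → ℂ)) ∧
      MemLocalIdeal M (omega (ξ : C → ℂ) (brH R C (eB B)) - if χ ∈ B then 1 else 0) := by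
    intro ξ
    obtain ⟨χ, hχ⟩ := exists_irr_brauer (H := C) hM hR le_rfl (Subgroup.centralizer_le_normalizer _) ξ
    refine ⟨χ, ?_, ?_⟩
    · apply isInducedBlock_of hM (isPBlock_blockOf ξ) (isPBlock_blockOf χ) (mem_blockOf_self hM ξ) (mem_blockOf_self hM χ)
      intro g
      have h1 := hχ _ (isCen_csum g) (inS_csum hM g)
      have h2 : resH C (csum g) = brH R C (csum g) := by
        apply ext_coeff
        intro c
        rw [coeff_resH, coeff_brH_of_mem _ c.2]
      rw [h2]; exact h1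
    · have h1 := hχ _ (isCen_eB B) (inS_eB hM hB)
      rwa [omega_eB] at h1
  refine ⟨{ξ : IrrCharacter C | classInner (fun n : K1 => (ξ : C → ℂ) n) (θ₁ : K1 → ℂ) ≠ 0}, ?_, ?_⟩
  · obtain ⟨ξ, hξ⟩ := IsPBlock.nonempty hM hf₀
    obtain ⟨χ, h1, h2⟩ := hrel ξ
    rw [hkey ξ θ₁ hξ] at h2
    have h3 : χ ∈ B := by
      by_contra hne
      rw [if_neg hne, sub_zero, lam_zero_iff hM hg hn₀] at h2
      exact hn₀p h2
    have h4 := IsPBlock.eq_blockOf hM hf₀ hξ
    have h5 := IsPBlock.eq_blockOf hM hB h3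
    rw [← h4, ← h5] at h1
    exact h1
  · intro f hf
    obtain ⟨ξ, hξ⟩ := IsPBlock.nonempty hM hf.1
    obtain ⟨χ, h1, h2⟩ := hrel ξ
    have h4 := IsPBlock.eq_blockOf hM hf.1 hξ
    rw [← h4] at h1
    have h5 := induced_unique hM h1 hf
    have h6 : χ ∈ B := by rw [← h5]; exact mem_blockOf_self hM χ
    rw [if_pos h6] at h2
    obtain ⟨η, hη⟩ := exists_under (N := K1) ξ
    rw [hkey ξ η hη] at h2
    obtain ⟨n, hn⟩ := exists_nat_rInner (ι := ι) (irr_isCharacter θ) (irr_isCharacter η)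
    have h7 : ¬ p ∣ n := by
      intro h
      rw [← lam_zero_iff hM hg hn] at h
      apply one_notMem_locIdeal hM
      have := locIdeal_sub hM h h2
      simpa using this
    have h8 : η = θ₁ := glau_beta_unique hM hg hθR hn h7 hn₀ hn₀p
    rw [h8] at hη
    exact IsPBlock.eq_of_mem hM hf.1 hf₀ hξ hη

end

end CfsgLib.Block
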