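import Cfsg.Agent.Lib.BEasy23
import Cfsg.Agent.Lib.BFong3

/-!
# An element of prime order generating its centralizer
-/

set_option autoImplicit false
set_option linter.style.haveILetI false
set_option linter.unusedSectionVars false
set_option linter.unusedVariables false

open scoped Pointwise

namespace CfsgLib.SelfCent

open Cfsg Subgroup

universe u v w

variable {G : Type u} [Group G] [Finite G] {p : ℕ} [hpf : Fact p.Prime] {x : G}

/-- `x` has order `p` and generates its centralizer -/
structure SC (p : ℕ) (x : G) : Prop where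
  ord : orderOf x = p
  cen : centralizer ({x} : Set G) = zpowers x

theorem SC.card (h : SC p x) : Nat.card (zpowers x) = p := by rw [Nat.card_zpowers, h.ord]

theorem zpowers_eq_of_mem {H : Subgroup G} (hH : Nat.card H = p) {y : G} (hy : y ∈ H) (hy1 : y ≠ 1) : zpowers y = H := by
  apply Subgroup.eq_of_le_of_card_ge
  · rw [zpowers_le]; exact hy
  · rw [hH, Nat.card_zpowers]
    have h1 : orderOf y ∣ p := by
      have := orderOf_dvd_natCard (⟨y, hy⟩ : H)
      rwa [Subgroup.orderOf_mk, hH] at this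
    rcases (Nat.dvd_prime hpf.out).mp h1 with h2 | h2
    · exact absurd (orderOf_eq_one_iff.mp h2) hy1
    · exact h2.ge

theorem SC.cen_of_mem (h : SC p x) {y : G} (hy : y ∈ zpowers x) (hy1 : y ≠ 1) : centralizer ({y} : Set G) = zpowers x := by
  have h1 := zpowers_eq_of_mem h.card hy hy1
  apply le_antisymm
  · rw [← h.cen]
    intro g hg
    rw [mem_centralizer_singleton_iff] at hg ⊢
    have h2 : x ∈ zpowers y := by rw [h1]; exact mem_zpowers x
    obtain ⟨n, rfl⟩ := mem_zpowers_iff.mp h2
    exact (Commute.zpow_right hg n)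
  · intro g hg
    rw [mem_centralizer_singleton_iff]
    obtain ⟨a, rfl⟩ := mem_zpowers_iff.mp hg
    obtain ⟨b, rfl⟩ := mem_zpowers_iff.mp hy
    rw [← zpow_add, ← zpow_add, add_comm]

/-- the Sylow subgroup generated by `x` -/
theorem SC.exists_syl (h : SC p x) : ∃ S : Sylow p G, (S : Subgroup G) = zpowers x := by
  have h1 : IsPGroup p (zpowers x) := IsPGroup.of_card (n := 1) (by rw [h.card, pow_one])
  obtain ⟨S, hS⟩ := h1.exists_le_sylow
  refine ⟨S, le_antisymm ?_ hS⟩
  have hx1 : x ≠ 1 := by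
    intro h2
    have := h.ord
    rw [h2, orderOf_one] at this
    exact hpf.out.one_lt.ne this
  haveI : Nontrivial S := ⟨⟨⟨x, hS (mem_zpowers x)⟩, 1, fun h => hx1 (congrArg Subtype.val h)⟩⟩
  obtain ⟨z, hz⟩ := (Subgroup.nontrivial_iff_exists_ne_one _).mp (S.2.center_nontrivial)
  have hzc : ∀ y ∈ (S : Subgroup G), (z : G) * y = y * z := by
    intro y hy
    exact congrArg Subtype.val ((mem_center_iff.mp hz.1 ⟨y, hy⟩).symm)
  have hz1 : (z : G) ≠ 1 := fun h => hz.2 (Subtype.ext h)
  have hzP : (z : G) ∈ zpowers x := by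
    rw [← h.cen, mem_centralizer_singleton_iff]
    exact hzc x (hS (mem_zpowers x))
  intro y hy
  rw [← h.cen_of_mem hzP hz1, mem_centralizer_singleton_iff]
  exact (hzc y hy).symm

theorem SC.card_eq (h : SC p x) : (Nat.card G).factorization p = 1 := by
  obtain ⟨S, hS⟩ := h.exists_syl
  have h1 := S.card_eq_multiplicity
  rw [show Nat.card S = Nat.card (zpowers x) by rw [← hS], h.card] at h1
  have h2 : p ^ 1 = p ^ (Nat.card G).factorization p := by rw [pow_one]; exact h1
  exact (Nat.pow_right_injective hpf.out.two_le h2).symm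

/-- subgroups of order `p` are the Sylow subgroups -/
noncomputable def SC.equiv (h : SC p x) : {H : Subgroup G // Nat.card H = p} ≃ Sylow p G where
  toFun H := Sylow.ofCard H.1 (by rw [h.card_eq, pow_one]; exact H.2)
  invFun S := ⟨S, by
    have h1 := S.card_eq_multiplicity
    rw [h.card_eq, pow_one] at h1
    exact h1⟩
  left_inv H := rfl
  right_inv S := by
    apply Sylow.ext
    rfl

theorem SC.exists_conj (h : SC p x) {H : Subgroup G} (hH : Nat.card H = p) : ∃ g : G, MulAut.conj g • (zpowers x) = H := by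
  obtain ⟨S, hS⟩ := h.exists_syl
  obtain ⟨g, hg⟩ := MulAction.exists_smul_eq G S (h.equiv ⟨H, hH⟩)
  refine ⟨g, ?_⟩
  have h1 : ((g • S : Sylow p G) : Subgroup G) = H := by rw [hg]; rfl
  rw [← h1, Sylow.coe_subgroup_smul, hS]

theorem SC.card_sub (h : SC p x) : Nat.card {H : Subgroup G // Nat.card H = p} = (normalizer ((zpowers x : Subgroup G) : Set G)).index := by
  obtain ⟨S, hS⟩ := h.exists_syl
  rw [Nat.card_congr h.equiv, S.card_eq_index_normalizer]
  change (normalizer ((S : Subgroup G) : Set G)).index = _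
  rw [hS]

theorem SC.cen_card (h : SC p x) {g : G} (hg : orderOf g = p) : Nat.card (centralizer ({g} : Set G)) = p := by
  have h1 : Nat.card (zpowers g) = p := by rw [Nat.card_zpowers, hg]
  obtain ⟨c, hc⟩ := h.exists_conj h1
  have h2 : g ∈ MulAut.conj c • (zpowers x) := by rw [hc]; exact mem_zpowers g
  rw [Subgroup.mem_pointwise_smul_iff_inv_smul_mem] at h2
  have h3 : c⁻¹ * g * c ∈ zpowers x := by simpa using h2
  have h4 : c⁻¹ * g * c ≠ 1 := by
    intro h5
    have h6 : g = 1 := by
      calc g = c * (c⁻¹ * g * c) * c⁻¹ := by group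
        _ = 1 := by rw [h5]; group
    rw [h6, orderOf_one] at hg
    exact hpf.out.one_lt.ne hg
  have h5 := h.cen_of_mem h3 h4
  rw [← h.card, ← h5]
  apply Nat.card_congr
  refine ⟨fun y => ⟨c⁻¹ * y * c, ?_⟩, fun y => ⟨c * y * c⁻¹, ?_⟩, ?_, ?_⟩
  · have := mem_centralizer_singleton_iff.mp y.2
    rw [mem_centralizer_singleton_iff]
    calc c⁻¹ * y * c * (c⁻¹ * g * c) = c⁻¹ * (y * g) * c := by group
      _ = c⁻¹ * (g * y) * c := by rw [this]
      _ = c⁻¹ * g * c * (c⁻¹ * y * c) := by group
  · have := mem_centralizer_singleton_iff.mp y.2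
    rw [mem_centralizer_singleton_iff]
    calc c * y * c⁻¹ * g = c * (y * (c⁻¹ * g * c)) * c⁻¹ := by group
      _ = c * ((c⁻¹ * g * c) * y) * c⁻¹ := by rw [this]
      _ = g * (c * y * c⁻¹) := by group
  · intro y; apply Subtype.ext; simp only; group
  · intro y; apply Subtype.ext; simp only; group

theorem card_elem_p : Nat.card {g : G // orderOf g = p} = Nat.card {H : Subgroup G // Nat.card H = p} * (p - 1) := by
  classical
  haveI : Fintype G := Fintype.ofFinite G
  haveI : Fintype {H : Subgroup G // Nat.card H = p} := Fintype.ofFinite _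
  let e : {g : G // orderOf g = p} ≃ Σ H : {H : Subgroup G // Nat.card H = p}, {y : H.1 // y ≠ 1} :=
    { toFun := fun g => ⟨⟨zpowers g.1, by rw [Nat.card_zpowers]; exact g.2⟩, ⟨⟨g.1, mem_zpowers _⟩, by
        intro h
        have h1 : g.1 = 1 := congrArg Subtype.val h
        have h2 := g.2
        rw [h1, orderOf_one] at h2
        exact hpf.out.one_lt.ne h2⟩⟩
      invFun := fun a => ⟨a.2.1, by
        have h1 : (a.2.1 : G) ≠ 1 := fun h => a.2.2 (Subtype.ext h)
        have h2 := zpowers_eq_of_mem a.1.2 a.2.1.2 h1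
        rw [← Nat.card_zpowers, h2]
        exact a.1.2⟩
      left_inv := fun g => rfl
      right_inv := by
        rintro ⟨⟨H, hH⟩, ⟨⟨y, hy⟩, hy1⟩⟩
        have h1 : y ≠ 1 := fun h => hy1 (Subtype.ext h)
        have h2 := zpowers_eq_of_mem hH hy h1
        subst h2
        rfl }
  rw [Nat.card_congr e, Nat.card_sigma]
  have h1 : ∀ H : {H : Subgroup G // Nat.card H = p}, Nat.card {y : H.1 // y ≠ 1} = p - 1 := by
    intro H
    haveI : Fintype H.1 := Fintype.ofFinite _
    rw [Nat.card_eq_fintype_card, Fintype.card_subtype_compl, Fintype.card_subtype_eq, ← Nat.card_eq_fintype_card, H.2]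
  rw [Finset.sum_congr rfl fun H _ => h1 H, Finset.sum_const, Finset.card_univ, smul_eq_mul, Nat.card_eq_fintype_card]

theorem SC.card_elem (h : SC p x) : p * Nat.card {g : G // orderOf g = p} = Nat.card {C : ConjClasses G // ∃ g ∈ C.carrier, orderOf g = p} * Nat.card G := by
  classical
  haveI : Fintype G := Fintype.ofFinite G
  haveI : Finite (ConjClasses G) := Quotient.finite _
  haveI : Fintype {C : ConjClasses G // ∃ g ∈ C.carrier, orderOf g = p} := Fintype.ofFinite _
  let e : {g : G // orderOf g = p} ≃ Σ C : {C : ConjClasses G // ∃ g ∈ C.carrier, orderOf g = p}, {y : G // y ∈ C.1.carrier} :=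
    { toFun := fun g => ⟨⟨ConjClasses.mk g.1, g.1, ConjClasses.mem_carrier_mk, g.2⟩, ⟨g.1, ConjClasses.mem_carrier_mk⟩⟩
      invFun := fun a => ⟨a.2.1, by
        rcases a with ⟨⟨C, g, hg, hgo⟩, ⟨y, h1⟩⟩
        rw [ConjClasses.mem_carrier_iff_mk_eq] at hg
        simp only at h1
        rw [ConjClasses.mem_carrier_iff_mk_eq, ← hg, ConjClasses.mk_eq_mk_iff_isConj] at h1
        change orderOf y = p
        obtain ⟨c, hc⟩ := isConj_iff.mp h1
        rw [← hgo, ← hc]
        exact ((MulAut.conj c).orderOf_eq _).symm⟩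
      left_inv := fun g => rfl
      right_inv := by
        rintro ⟨⟨C, hC⟩, ⟨y, hy⟩⟩
        have h1 := ConjClasses.mem_carrier_iff_mk_eq.mp hy
        subst h1
        rfl }
  rw [Nat.card_congr e, Nat.card_sigma]
  have h1 : ∀ C : {C : ConjClasses G // ∃ g ∈ C.carrier, orderOf g = p}, p * Nat.card {y : G // y ∈ C.1.carrier} = Nat.card G := by
    intro C
    obtain ⟨g, hg, hgo⟩ := C.2
    rw [← CfsgLib.CharBasic.card_isConj_mul_card_centralizer g, h.cen_card hgo, mul_comm]
    congr 1
    apply Nat.card_congr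
    apply Equiv.subtypeEquivRight
    intro y
    rw [ConjClasses.mem_carrier_iff_mk_eq] at hg ⊢
    rw [← hg, ConjClasses.mk_eq_mk_iff_isConj]
    exact ⟨fun h => h.symm, fun h => h.symm⟩
  rw [Finset.mul_sum, Finset.sum_congr rfl fun C _ => h1 C, Finset.sum_const, Finset.card_univ, smul_eq_mul, Nat.card_eq_fintype_card (α := {C : ConjClasses G // ∃ g ∈ C.carrier, orderOf g = p})]

/-- `t * e = p - 1` -/
theorem SC.te (h : SC p x) : Nat.card {C : ConjClasses G // ∃ g ∈ C.carrier, orderOf g = p} *
    (zpowers x).relIndex (normalizer ((zpowers x : Subgroup G) : Set G)) = p - 1 := by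
  have h1 := h.card_elem
  rw [card_elem_p, h.card_sub] at h1
  have h2 : Nat.card (zpowers x) * (zpowers x).relIndex (normalizer ((zpowers x : Subgroup G) : Set G)) = _ := CfsgLib.Block.card_mul_relIndex' le_normalizer
  rw [h.card] at h2
  rw [← card_mul_index (normalizer ((zpowers x : Subgroup G) : Set G)), ← h2] at h1
  have h3 : 0 < (normalizer ((zpowers x : Subgroup G) : Set G)).index := Nat.pos_of_ne_zero index_ne_zero_of_finite
  have h4 : 0 < p * (normalizer ((zpowers x : Subgroup G) : Set G)).index := Nat.mul_pos hpf.out.pos h3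
  apply Nat.eq_of_mul_eq_mul_left h4
  calc _ = _ := by ring
    _ = _ := h1.symm
    _ = _ := by ring

/-- a normal subgroup of order divisible by `p` contains `x` -/
theorem SC.mem_of_dvd (h : SC p x) {S : Subgroup G} [hS : S.Normal] (hd : p ∣ Nat.card S) : x ∈ S := by
  obtain ⟨y, hy⟩ := exists_prime_orderOf_dvd_card' p hd
  have hy' : orderOf (y : G) = p := by rw [Subgroup.orderOf_coe]; exact hy
  obtain ⟨g, hg⟩ := h.exists_conj (H := zpowers (y : G)) (by rw [Nat.card_zpowers, hy'])
  have h1 : g * x * g⁻¹ ∈ MulAut.conj g • zpowers x := Subgroup.smul_mem_pointwise_smul x (MulAut.conj g) _ (mem_zpowers x)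
  rw [hg] at h1
  have h2 : g * x * g⁻¹ ∈ S := (zpowers_le.mpr y.2) h1
  have h3 := hS.conj_mem _ h2 g⁻¹
  have h4 : g⁻¹ * (g * x * g⁻¹) * g⁻¹⁻¹ = x := by group
  rwa [h4] at h3

theorem SC.not_dvd_of_not_mem (h : SC p x) {S : Subgroup G} [hS : S.Normal] (hd : ¬ p ∣ Nat.card S) : x ∉ S := by
  intro h1
  apply hd
  have h2 := orderOf_dvd_natCard (⟨x, h1⟩ : S)
  rwa [Subgroup.orderOf_mk, h.ord] at h2

theorem SC.swap (h : SC p x) {a b : G} (ha : a ∈ normalizer ((zpowers x : Subgroup G) : Set G)) (hb : b ∈ normalizer ((zpowers x : Subgroup G) : Set G)) :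
    (a * b) * x * (a * b)⁻¹ = (b * a) * x * (b * a)⁻¹ := by
  have h1 : ∀ c ∈ normalizer ((zpowers x : Subgroup G) : Set G), ∃ i : ℤ, c * x * c⁻¹ = x ^ i := by
    intro c hc
    obtain ⟨i, hi⟩ := mem_zpowers_iff.mp ((mem_normalizer_iff.mp hc x).mp (mem_zpowers x))
    exact ⟨i, hi.symm⟩
  obtain ⟨i, hi⟩ := h1 a ha
  obtain ⟨j, hj⟩ := h1 b hb
  have hai : ∀ k : ℤ, a * x ^ k * a⁻¹ = (x ^ i) ^ k := by intro k; rw [← conj_zpow, hi]
  have hbj : ∀ k : ℤ, b * x ^ k * b⁻¹ = (x ^ j) ^ k := by intro k; rw [← conj_zpow, hj]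
  calc (a * b) * x * (a * b)⁻¹ = a * (b * x * b⁻¹) * a⁻¹ := by group
    _ = (x ^ i) ^ j := by rw [hj, hai]
    _ = (x ^ j) ^ i := by rw [← zpow_mul, ← zpow_mul, mul_comm]
    _ = b * (a * x * a⁻¹) * b⁻¹ := by rw [hi, hbj]
    _ = (b * a) * x * (b * a)⁻¹ := by group

/-- commutators of elements of the normalizer -/
theorem SC.comm_mem (h : SC p x) {a b : G} (ha : a ∈ normalizer ((zpowers x : Subgroup G) : Set G)) (hb : b ∈ normalizer ((zpowers x : Subgroup G) : Set G)) :
    a * b * a⁻¹ * b⁻¹ ∈ zpowers x := by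
  rw [← h.cen, mem_centralizer_singleton_iff]
  have h1 := h.swap (inv_mem ha) (inv_mem hb)
  have h2 : a * b * a⁻¹ * b⁻¹ * x * (a * b * a⁻¹ * b⁻¹)⁻¹ = x := by
    calc a * b * a⁻¹ * b⁻¹ * x * (a * b * a⁻¹ * b⁻¹)⁻¹ = (a * b) * ((a⁻¹ * b⁻¹) * x * (a⁻¹ * b⁻¹)⁻¹) * (a * b)⁻¹ := by group
      _ = (a * b) * ((b⁻¹ * a⁻¹) * x * (b⁻¹ * a⁻¹)⁻¹) * (a * b)⁻¹ := by rw [h1]
      _ = x := by group
  calc a * b * a⁻¹ * b⁻¹ * x = (a * b * a⁻¹ * b⁻¹ * x * (a * b * a⁻¹ * b⁻¹)⁻¹) * (a * b * a⁻¹ * b⁻¹) := by group
    _ = x * (a * b * a⁻¹ * b⁻¹) := by rw [h2]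

theorem SC.sup_eq_top (h : SC p x) {S : Subgroup G} [hS : S.Normal] (hx : x ∈ S) : normalizer ((zpowers x : Subgroup G) : Set G) ⊔ S = ⊤ := by
  obtain ⟨T, hT⟩ := h.exists_syl
  have h1 := Sylow.normalizer_sup_eq_top' T (N := S) (by
    intro y hy
    have h2 : y ∈ (T : Subgroup G) := hy
    rw [hT] at h2
    exact (zpowers_le.mpr hx) h2)
  rw [← hT]
  exact h1

theorem SC.commutator_le (h : SC p x) {S : Subgroup G} [hS : S.Normal] (hd : p ∣ Nat.card S) : commutator G ≤ S := by
  have hx := h.mem_of_dvd hd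
  have h1 := h.sup_eq_top hx
  rw [_root_.commutator_def, Subgroup.commutator_le]
  intro g _ k _
  have hg : g ∈ normalizer ((zpowers x : Subgroup G) : Set G) ⊔ S := by rw [h1]; trivial
  have hk : k ∈ normalizer ((zpowers x : Subgroup G) : Set G) ⊔ S := by rw [h1]; trivial
  rw [mem_sup_of_normal_right] at hg hk
  obtain ⟨a, ha, s, hs, rfl⟩ := hg
  obtain ⟨b, hb, t, ht, rfl⟩ := hk
  rw [commutatorElement_def, ← QuotientGroup.eq_one_iff]
  have e1 : ((a * s : G) : G ⧸ S) = (a : G ⧸ S) := by rw [QuotientGroup.mk_mul, (QuotientGroup.eq_one_iff s).mpr hs, mul_one]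
  have e2 : ((b * t : G) : G ⧸ S) = (b : G ⧸ S) := by rw [QuotientGroup.mk_mul, (QuotientGroup.eq_one_iff t).mpr ht, mul_one]
  have e3 : ((a * b * a⁻¹ * b⁻¹ : G) : G ⧸ S) = 1 := by
    rw [QuotientGroup.eq_one_iff]
    exact (zpowers_le.mpr hx) (h.comm_mem ha hb)
  rw [QuotientGroup.mk_mul, QuotientGroup.mk_mul, QuotientGroup.mk_mul, QuotientGroup.mk_inv, QuotientGroup.mk_inv, e1, e2]
  rw [QuotientGroup.mk_mul, QuotientGroup.mk_mul, QuotientGroup.mk_mul, QuotientGroup.mk_inv, QuotientGroup.mk_inv] at e3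
  exact e3

theorem SC.inf_eq (h : SC p x) {S : Subgroup G} [hS : S.Normal] (hd : ¬ p ∣ Nat.card S) : ∀ y ∈ S, y ∈ zpowers x → y = 1 := by
  intro y hy hyx
  by_contra hy1
  have h1 := zpowers_eq_of_mem h.card hyx hy1
  apply h.not_dvd_of_not_mem hd
  apply (zpowers_le.mpr hy)
  rw [h1]
  exact mem_zpowers x

theorem SC.inf_normalizer (h : SC p x) {S : Subgroup G} [hS : S.Normal] (hd : ¬ p ∣ Nat.card S) : ∀ y ∈ S, y ∈ normalizer ((zpowers x : Subgroup G) : Set G) → y = 1 := by
  intro y hy hyN
  have h1 : y * x * y⁻¹ * x⁻¹ = 1 := by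
    apply h.inf_eq hd
    · have h2 : y * x * y⁻¹ * x⁻¹ = y * (x * y⁻¹ * x⁻¹) := by group
      rw [h2]
      exact S.mul_mem hy (hS.conj_mem _ (S.inv_mem hy) x)
    · exact mul_mem ((mem_normalizer_iff.mp hyN x).mp (mem_zpowers x)) (inv_mem (mem_zpowers x))
  apply h.inf_eq hd y hy
  rw [← h.cen, mem_centralizer_singleton_iff]
  calc y * x = (y * x * y⁻¹ * x⁻¹) * (x * y) := by group
    _ = x * y := by rw [h1, one_mul]

theorem SC.relIndex_eq (h : SC p x) {S : Subgroup G} [hS : S.Normal] (hd : ¬ p ∣ Nat.card S) :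
    Nat.card S * (normalizer ((zpowers x : Subgroup G) : Set G) ⊔ S).index = (normalizer ((zpowers x : Subgroup G) : Set G)).index := by
  rw [← CfsgLib.Block.relIndex_mul_index_sup (normalizer ((zpowers x : Subgroup G) : Set G)) S]
  congr 1
  have h1 : (normalizer ((zpowers x : Subgroup G) : Set G)).subgroupOf S = ⊥ := by
    rw [eq_bot_iff]
    intro y hy
    rw [mem_bot]
    exact Subtype.ext (h.inf_normalizer hd y y.2 hy)
  rw [Subgroup.relIndex, h1, index_bot]

theorem SC.card_mod (h : SC p x) {S : Subgroup G} [hS : S.Normal] (hd : ¬ p ∣ Nat.card S) : Nat.card S % p = 1 := by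
  letI act : MulAction (zpowers x) S :=
    { smul := fun g s => ⟨g * s * (g : G)⁻¹, hS.conj_mem s s.2 g⟩
      one_smul := fun s => by
        apply Subtype.ext
        change ((1 : zpowers x) : G) * s * ((1 : zpowers x) : G)⁻¹ = s
        simp
      mul_smul := fun a b s => by
        apply Subtype.ext
        change ((a * b : zpowers x) : G) * s * ((a * b : zpowers x) : G)⁻¹ = a * (b * s * (b : G)⁻¹) * (a : G)⁻¹
        simp [mul_assoc] }
  have hP : IsPGroup p (zpowers x) := IsPGroup.of_card (n := 1) (by rw [h.card, pow_one])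
  have h1 := hP.card_modEq_card_fixedPoints S
  have h2 : Nat.card (MulAction.fixedPoints (zpowers x) S) = 1 := by
    rw [Nat.card_eq_one_iff_unique]
    refine ⟨⟨?_⟩, ⟨⟨1, ?_⟩⟩⟩
    · have key : ∀ s : MulAction.fixedPoints (zpowers x) S, s.1 = 1 := by
        rintro ⟨s, hs⟩
        have h3 : (⟨x, mem_zpowers x⟩ : zpowers x) • s = s := hs _
        have h4 : x * s * x⁻¹ = s := congrArg Subtype.val h3
        apply Subtype.ext
        apply h.inf_eq hd s s.2
        rw [← h.cen, mem_centralizer_singleton_iff]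
        nth_rw 1 [← h4]
        group
      intro a b
      apply Subtype.ext
      rw [key a, key b]
    · intro g
      apply Subtype.ext
      change (g : G) * ((1 : S) : G) * (g : G)⁻¹ = _
      simp
  rw [h2] at h1
  have h3 : Nat.card S % p = 1 % p := h1
  rw [h3]
  exact Nat.mod_eq_of_lt hpf.out.one_lt

theorem SC.quot (h : SC p x) {S : Subgroup G} [hS : S.Normal] (hd : ¬ p ∣ Nat.card S) : SC p (x : G ⧸ S) := by
  constructor
  · have h1 : orderOf (x : G ⧸ S) ∣ p := by
      rw [← h.ord]; exact orderOf_map_dvd (QuotientGroup.mk' S) x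
    rcases (Nat.dvd_prime hpf.out).mp h1 with h2 | h2
    · rw [orderOf_eq_one_iff, QuotientGroup.eq_one_iff] at h2
      exact absurd h2 (h.not_dvd_of_not_mem hd)
    · exact h2
  · apply le_antisymm
    · intro y hy
      obtain ⟨g, rfl⟩ := QuotientGroup.mk_surjective y
      have hP : IsPGroup p (zpowers x) := IsPGroup.of_card (n := 1) (by rw [h.card, pow_one])
      rw [mem_centralizer_singleton_iff] at hy
      haveI : Fintype G := Fintype.ofFinite G
      haveI : Fintype S := Fintype.ofFinite S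
      obtain ⟨k, hk, hk2⟩ := CfsgLib.Block.exists_fixed_lift (K := S) hd hP (u := g) (by
        intro r hr
        obtain ⟨n, rfl⟩ := mem_zpowers_iff.mp hr
        rw [← QuotientGroup.eq_one_iff, QuotientGroup.mk_mul, QuotientGroup.mk_mul, QuotientGroup.mk_mul, QuotientGroup.mk_inv, QuotientGroup.mk_inv, QuotientGroup.mk_zpow]
        have h1 : Commute (x : G ⧸ S) (g : G ⧸ S) := hy.symm
        have h2 := (h1.zpow_left n).eq
        rw [h2]
        group)
      have h1 : g * k ∈ zpowers x := by
        rw [← h.cen, mem_centralizer_singleton_iff]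
        exact ((mem_centralizer_iff.mp hk2) x (mem_zpowers x)).symm
      obtain ⟨n, hn⟩ := mem_zpowers_iff.mp h1
      rw [mem_zpowers_iff]
      refine ⟨n, ?_⟩
      rw [← QuotientGroup.mk_zpow, hn, QuotientGroup.mk_mul, (QuotientGroup.eq_one_iff k).mpr hk, mul_one]
    · rw [zpowers_le, mem_centralizer_singleton_iff]

theorem SC.core_le (h : SC p x) : pPrimeCore p G ≤ commutator G := by
  haveI hKn : (pPrimeCore p G).Normal := CfsgLib.Core.pPrimeCore_normal p G
  have hd : ¬ p ∣ Nat.card (pPrimeCore p G) := CfsgLib.Block.not_dvd_pPrimeCore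
  have hcop : CfsgLib.Coprime.CopAct (zpowers x) (pPrimeCore p G) := by
    refine ⟨le_trans le_top (by rw [Subgroup.normalizer_eq_top]), ?_, Or.inl inferInstance⟩
    rw [h.card]
    exact (Nat.Prime.coprime_iff_not_dvd hpf.out).mpr hd
  have h1 := hcop.commutator_sup
  have h2 : pPrimeCore p G ⊓ centralizer ((zpowers x : Subgroup G) : Set G) = ⊥ := by
    rw [eq_bot_iff]
    rintro y ⟨hy1, hy2⟩
    rw [mem_bot]
    apply h.inf_eq hd y hy1
    rw [← h.cen, mem_centralizer_singleton_iff]
    exact ((mem_centralizer_iff.mp hy2) x (mem_zpowers x)).symm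
  rw [h2, sup_bot_eq] at h1
  rw [← h1]
  exact Subgroup.commutator_mono le_top le_top

/-- the case of a non-trivial inertial index -/
theorem SC.mem_commutator (h : SC p x) (he : (zpowers x).relIndex (normalizer ((zpowers x : Subgroup G) : Set G)) ≠ 1) : x ∈ commutator G := by
  have h1 : ¬ normalizer ((zpowers x : Subgroup G) : Set G) ≤ zpowers x := by
    intro h2
    exact he (relIndex_eq_one.mpr h2)
  obtain ⟨n, hn, hnx⟩ := Set.not_subset.mp h1
  have h2 : n * x * n⁻¹ * x⁻¹ ≠ 1 := by
    intro h3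
    apply hnx
    have h4 : n ∈ zpowers x := by
      rw [← h.cen, mem_centralizer_singleton_iff]
      calc n * x = (n * x * n⁻¹ * x⁻¹) * (x * n) := by group
        _ = x * n := by rw [h3, one_mul]
    exact h4
  have h3 : n * x * n⁻¹ * x⁻¹ ∈ zpowers x := mul_mem ((mem_normalizer_iff.mp hn x).mp (mem_zpowers x)) (inv_mem (mem_zpowers x))
  have h4 : n * x * n⁻¹ * x⁻¹ ∈ commutator G := Subgroup.commutator_mem_commutator (Subgroup.mem_top n) (Subgroup.mem_top x)
  have h5 := zpowers_eq_of_mem h.card h3 h2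
  apply (zpowers_le.mpr h4)
  rw [h5]
  exact mem_zpowers x

/-- the case of trivial inertial index -/
theorem SC.of_one (h : SC p x) (he : (zpowers x).relIndex (normalizer ((zpowers x : Subgroup G) : Set G)) = 1) :
    commutator G = pPrimeCore p G ∧ (commutator G).index = p := by
  obtain ⟨T, hT⟩ := h.exists_syl
  have hN : normalizer ((zpowers x : Subgroup G) : Set G) ≤ zpowers x := relIndex_eq_one.mp he
  have hNC : normalizer ((T : Subgroup G) : Set G) ≤ centralizer ((T : Subgroup G) : Set G) := by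
    rw [hT]
    refine hN.trans ?_
    intro y hy
    rw [mem_centralizer_iff]
    intro z hz
    obtain ⟨a, rfl⟩ := mem_zpowers_iff.mp hy
    obtain ⟨b, rfl⟩ := mem_zpowers_iff.mp hz
    rw [← zpow_add, ← zpow_add, add_comm]
  have h1 := MonoidHom.ker_transferSylow_isComplement' T hNC
  set K := (MonoidHom.transferSylow T hNC).ker with hK
  have h2 := h1.card_mul_card
  have h3 : Nat.card T = p := by
    have : Nat.card T = Nat.card (zpowers x) := by rw [← hT]
    rw [this, h.card]
  have h4 : K.index = p := by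
    have h5 := Subgroup.card_mul_index K
    have h6 : Nat.card K * Nat.card T = Nat.card G := h2
    rw [← h6] at h5
    rw [Nat.eq_of_mul_eq_mul_left Nat.card_pos h5, h3]
  have h5 : ¬ p ∣ Nat.card K := by
    intro h6
    have h7 := h.card_eq
    have h8 : p ^ 2 ∣ Nat.card G := by
      rw [← Subgroup.card_mul_index K, h4, pow_two]
      exact Nat.mul_dvd_mul_right h6 p
    have := (hpf.out.pow_dvd_iff_le_factorization Nat.card_pos.ne').mp h8
    omega
  have h6 : commutator G ≤ K := by
    have hcomm : ∀ a b : (T : Subgroup G), a * b = b * a := by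
      intro a b
      apply Subtype.ext
      have ha : (a : G) ∈ zpowers x := by rw [← hT]; exact a.2
      have hb : (b : G) ∈ zpowers x := by rw [← hT]; exact b.2
      obtain ⟨i, hi⟩ := mem_zpowers_iff.mp ha
      obtain ⟨j, hj⟩ := mem_zpowers_iff.mp hb
      change (a : G) * b = b * a
      rw [← hi, ← hj, ← zpow_add, ← zpow_add, add_comm]
    rw [_root_.commutator_def, Subgroup.commutator_le]
    intro g _ k _
    rw [hK, MonoidHom.mem_ker, commutatorElement_def, map_mul, map_mul, map_mul, map_inv, map_inv, hcomm ((MonoidHom.transferSylow T hNC) g)]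
    group
  have h7 : K ≤ pPrimeCore p G := CfsgLib.Core.le_pPrimeCore inferInstance (((Nat.Prime.coprime_iff_not_dvd hpf.out).mpr h5).symm)
  have h8 : commutator G = pPrimeCore p G := le_antisymm (h6.trans h7) h.core_le
  have h9 : commutator G = K := le_antisymm h6 (h7.trans h.core_le)
  exact ⟨h8, by rw [h9, h4]⟩

theorem SC.index_dvd (h : SC p x) (he : (zpowers x).relIndex (normalizer ((zpowers x : Subgroup G) : Set G)) ≠ 1) :
    (commutator G).index ∣ (zpowers x).relIndex (normalizer ((zpowers x : Subgroup G) : Set G)) := by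
  have h1 := h.mem_commutator he
  have h2 := h.sup_eq_top h1
  have h3 : (commutator G).relIndex (normalizer ((zpowers x : Subgroup G) : Set G)) = (commutator G).index := by
    rw [← relIndex_sup_right, h2, relIndex_top_right]
  rw [← h3]
  exact relIndex_dvd_of_le_left _ (zpowers_le.mpr h1)

theorem s4495 (h : SC p x) {t : ℕ} (ht : Nat.card {C : ConjClasses G // ∃ g ∈ C.carrier, orderOf g = p} = t) :
    (t ≠ p - 1 → (commutator G).index * t ≤ p - 1) ∧ (t = p - 1 → (commutator G).index = p) := by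
  have h1 := h.te
  rw [ht] at h1
  have hp0 : 0 < p - 1 := Nat.sub_pos_of_lt hpf.out.one_lt
  have ht0 : 0 < t := Nat.pos_of_ne_zero (by rintro rfl; simp at h1; omega)
  constructor
  · intro h2
    have he : (zpowers x).relIndex (normalizer ((zpowers x : Subgroup G) : Set G)) ≠ 1 := by
      intro h3; rw [h3, mul_one] at h1; exact h2 h1
    have h3 := Nat.le_of_dvd (Nat.pos_of_ne_zero (by intro h0; rw [h0, mul_zero] at h1; omega)) (h.index_dvd he)
    calc (commutator G).index * t ≤ _ * t := Nat.mul_le_mul_right t h3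
      _ = p - 1 := by rw [mul_comm, h1]
  · intro h2
    apply (h.of_one _).2
    rw [h2] at h1
    exact Nat.eq_of_mul_eq_mul_left hp0 (by rw [h1, mul_one])

theorem s4496 (h : SC p x) (S : Subgroup G) [S.Normal] : (p ∣ Nat.card S → commutator G ≤ S) ∧ (¬ p ∣ Nat.card S → Nat.card S ∣ Nat.card {H : Subgroup G // Nat.card H = p} ∧ Nat.card S % p = 1 ∧ orderOf (QuotientGroup.mk x : G ⧸ S) = p ∧ Subgroup.centralizer ({(QuotientGroup.mk x : G ⧸ S)} : Set (G ⧸ S)) = Subgroup.zpowers (QuotientGroup.mk x : G ⧸ S)) := by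
  refine ⟨h.commutator_le, fun hd => ⟨?_, h.card_mod hd, (h.quot hd).1, (h.quot hd).2⟩⟩
  rw [h.card_sub, ← h.relIndex_eq hd]
  exact dvd_mul_right _ _

/-- the hypothesis in a subgroup -/
theorem SC.sub (h : SC p x) {D : Subgroup G} (hD : x ∈ D) : SC p (⟨x, hD⟩ : D) := by
  constructor
  · rw [Subgroup.orderOf_mk]; exact h.ord
  · apply le_antisymm
    · intro y hy
      rw [mem_centralizer_singleton_iff] at hy
      have h1 : (y : G) ∈ zpowers x := by
        rw [← h.cen, mem_centralizer_singleton_iff]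
        exact congrArg Subtype.val hy
      obtain ⟨n, hn⟩ := mem_zpowers_iff.mp h1
      rw [mem_zpowers_iff]
      exact ⟨n, Subtype.ext (by rw [← hn]; rfl)⟩
    · rw [zpowers_le, mem_centralizer_singleton_iff]

/-- elements of order `p` lie in every normal subgroup of a normal subgroup of order divisible by `p` -/
theorem SC.ord_mem (h : SC p x) {S : Subgroup G} [hS : S.Normal] (hx : x ∈ S) {y : G} (hy : orderOf y = p) : y ∈ S := by
  obtain ⟨g, hg⟩ := h.exists_conj (H := zpowers y) (by rw [Nat.card_zpowers, hy])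
  have h1 : y ∈ MulAut.conj g • zpowers x := by rw [hg]; exact mem_zpowers y
  rw [Subgroup.mem_pointwise_smul_iff_inv_smul_mem] at h1
  have h2 : g⁻¹ * y * g ∈ S := (zpowers_le.mpr hx) (by simpa using h1)
  have h3 := hS.conj_mem _ h2 g
  have h4 : g * (g⁻¹ * y * g) * g⁻¹ = y := by group
  rwa [h4] at h3

theorem SC.normal_sub (h : SC p x) (hx : x ∈ commutator G) (T : Subgroup (commutator G)) [hT : T.Normal] :
    T ≤ (pPrimeCore p G).subgroupOf (commutator G) ∨ T = ⊤ := by
  haveI hKn : (pPrimeCore p G).Normal := CfsgLib.Core.pPrimeCore_normal p G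
  by_cases hd : p ∣ Nat.card T
  · right
    have h1 := h.sub hx
    have h2 := h1.mem_of_dvd hd
    -- the subgroup generated by the elements of order `p`
    set T₀ := closure {y : G | orderOf y = p} with hT₀
    haveI : T₀.Normal := by
      constructor
      intro n hn g
      have h3 : T₀ ≤ T₀.comap (MulAut.conj g).toMonoidHom := by
        rw [hT₀, closure_le]
        intro y hy
        change g * y * g⁻¹ ∈ closure {y : G | orderOf y = p}
        apply Subgroup.subset_closure
        change orderOf (g * y * g⁻¹) = p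
        have hy' : orderOf y = p := hy
        rw [← hy']
        exact (MulAut.conj g).orderOf_eq y
      exact h3 hn
    have h4 : x ∈ T₀ := Subgroup.subset_closure h.ord
    have h5 : p ∣ Nat.card T₀ := by
      have := orderOf_dvd_natCard (⟨x, h4⟩ : T₀)
      rwa [Subgroup.orderOf_mk, h.ord] at this
    have h6 : T₀ ≤ T.map (commutator G).subtype := by
      rw [hT₀, closure_le]
      intro y hy
      have hy' : orderOf y = p := hy
      have h7 : y ∈ commutator G := h.ord_mem hx hy'
      exact ⟨⟨y, h7⟩, h1.ord_mem h2 (by rw [Subgroup.orderOf_mk]; exact hy'), rfl⟩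
    have h7 := (h.commutator_le h5).trans h6
    rw [eq_top_iff]
    intro y _
    obtain ⟨z, hz, hzy⟩ := h7 y.2
    have : z = y := Subtype.ext hzy
    rw [← this]; exact hz
  · left
    have h1 : T ≤ pPrimeCore p (commutator G) := CfsgLib.Core.le_pPrimeCore hT (((Nat.Prime.coprime_iff_not_dvd hpf.out).mpr hd).symm)
    haveI : (pPrimeCore p (commutator G)).Characteristic := CfsgLib.Core.pPrimeCore_characteristic p _
    have h2 : ((pPrimeCore p (commutator G)).map (commutator G).subtype).Normal := ConjAct.normal_of_characteristic_of_normal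
    have h3 : (pPrimeCore p (commutator G)).map (commutator G).subtype ≤ pPrimeCore p G := by
      apply CfsgLib.Core.le_pPrimeCore h2
      rw [Subgroup.card_map_of_injective (commutator G).subtype_injective]
      exact CfsgLib.Core.card_pPrimeCore_coprime p _
    intro y hy
    rw [mem_subgroupOf]
    exact h3 ⟨y, h1 hy, rfl⟩

theorem s4497 (h : SC p x) {t : ℕ} (ht : Nat.card {C : ConjClasses G // ∃ g ∈ C.carrier, orderOf g = p} = t) :
    pPrimeCore p G ≤ commutator G ∧ (t ≠ p - 1 → ∀ h : ((pPrimeCore p G).subgroupOf (commutator G)).Normal, IsSimpleGroup (↥(commutator G) ⧸ (pPrimeCore p G).subgroupOf (commutator G))) ∧ (t = p - 1 → commutator G = pPrimeCore p G) := by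
  have h1 := h.te
  rw [ht] at h1
  have hp0 : 0 < p - 1 := Nat.sub_pos_of_lt hpf.out.one_lt
  refine ⟨h.core_le, ?_, ?_⟩
  · intro h2 hn
    have he : (zpowers x).relIndex (normalizer ((zpowers x : Subgroup G) : Set G)) ≠ 1 := by
      intro h3; rw [h3, mul_one] at h1; exact h2 h1
    have hx := h.mem_commutator he
    haveI hKn : (pPrimeCore p G).Normal := CfsgLib.Core.pPrimeCore_normal p G
    have hd : ¬ p ∣ Nat.card (pPrimeCore p G) := CfsgLib.Block.not_dvd_pPrimeCore
    haveI : Nontrivial (↥(commutator G) ⧸ (pPrimeCore p G).subgroupOf (commutator G)) := by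
      refine ⟨⟨QuotientGroup.mk ⟨x, hx⟩, 1, ?_⟩⟩
      rw [Ne, QuotientGroup.eq_one_iff, mem_subgroupOf]
      exact h.not_dvd_of_not_mem hd
    refine { eq_bot_or_eq_top_of_normal := ?_ }
    intro H hH
    have h3 := h.normal_sub hx (H.comap (QuotientGroup.mk' ((pPrimeCore p G).subgroupOf (commutator G))))
    rcases h3 with h3 | h3
    · left
      rw [eq_bot_iff]
      intro y hy
      obtain ⟨g, rfl⟩ := QuotientGroup.mk_surjective y
      rw [mem_bot, QuotientGroup.eq_one_iff]
      exact h3 hy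
    · right
      rw [eq_top_iff]
      intro y _
      obtain ⟨g, rfl⟩ := QuotientGroup.mk_surjective y
      have : g ∈ H.comap (QuotientGroup.mk' ((pPrimeCore p G).subgroupOf (commutator G))) := by rw [h3]; trivial
      exact this
  · intro h2
    apply (h.of_one _).1
    rw [h2] at h1
    exact Nat.eq_of_mul_eq_mul_left hp0 (by rw [h1, mul_one])

theorem SC.core_le' (h : SC p x) : pPrimeCore p G ≤ ⁅pPrimeCore p G, zpowers x⁆ := by
  haveI hKn : (pPrimeCore p G).Normal := CfsgLib.Core.pPrimeCore_normal p G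
  have hd : ¬ p ∣ Nat.card (pPrimeCore p G) := CfsgLib.Block.not_dvd_pPrimeCore
  have hcop : CfsgLib.Coprime.CopAct (zpowers x) (pPrimeCore p G) := by
    refine ⟨le_trans le_top (by rw [Subgroup.normalizer_eq_top]), ?_, Or.inl inferInstance⟩
    rw [h.card]
    exact (Nat.Prime.coprime_iff_not_dvd hpf.out).mpr hd
  have h1 := hcop.commutator_sup
  have h2 : pPrimeCore p G ⊓ centralizer ((zpowers x : Subgroup G) : Set G) = ⊥ := by
    rw [eq_bot_iff]
    rintro y ⟨hy1, hy2⟩
    rw [mem_bot]
    apply h.inf_eq hd y hy1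
    rw [← h.cen, mem_centralizer_singleton_iff]
    exact ((mem_centralizer_iff.mp hy2) x (mem_zpowers x)).symm
  rw [h2, sup_bot_eq] at h1
  exact h1.ge

theorem SC.commutator_quot (h : SC p x) {S : Subgroup G} [hS : S.Normal] (htop : normalizer ((zpowers x : Subgroup G) : Set G) ⊔ S = ⊤) :
    ∀ g ∈ commutator G, (g : G ⧸ S) ∈ zpowers (x : G ⧸ S) := by
  have key : commutator G ≤ (zpowers (x : G ⧸ S)).comap (QuotientGroup.mk' S) := by
    rw [_root_.commutator_def, Subgroup.commutator_le]
    intro g _ k _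
    have hg : g ∈ normalizer ((zpowers x : Subgroup G) : Set G) ⊔ S := by rw [htop]; trivial
    have hk : k ∈ normalizer ((zpowers x : Subgroup G) : Set G) ⊔ S := by rw [htop]; trivial
    rw [mem_sup_of_normal_right] at hg hk
    obtain ⟨a, ha, s, hs, rfl⟩ := hg
    obtain ⟨b, hb, t, ht, rfl⟩ := hk
    rw [mem_comap, QuotientGroup.mk'_apply, commutatorElement_def]
    have e1 : ((a * s : G) : G ⧸ S) = (a : G ⧸ S) := by rw [QuotientGroup.mk_mul, (QuotientGroup.eq_one_iff s).mpr hs, mul_one]
    have e2 : ((b * t : G) : G ⧸ S) = (b : G ⧸ S) := by rw [QuotientGroup.mk_mul, (QuotientGroup.eq_one_iff t).mpr ht, mul_one]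
    have e3 : ((a * b * a⁻¹ * b⁻¹ : G) : G ⧸ S) ∈ zpowers (x : G ⧸ S) := by
      obtain ⟨n, hn⟩ := mem_zpowers_iff.mp (h.comm_mem ha hb)
      rw [← hn, QuotientGroup.mk_zpow]
      exact zpow_mem_zpowers _ _
    rw [QuotientGroup.mk_mul, QuotientGroup.mk_mul, QuotientGroup.mk_mul, QuotientGroup.mk_inv, QuotientGroup.mk_inv, e1, e2]
    rw [QuotientGroup.mk_mul, QuotientGroup.mk_mul, QuotientGroup.mk_mul, QuotientGroup.mk_inv, QuotientGroup.mk_inv] at e3
    exact e3
  exact fun g hg => key hg

theorem comm_zpowers {H : Type*} [Group H] {y a b : H} (ha : a ∈ zpowers y) (hb : b ∈ zpowers y) : a * b = b * a := by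
  obtain ⟨i, rfl⟩ := mem_zpowers_iff.mp ha
  obtain ⟨j, rfl⟩ := mem_zpowers_iff.mp hb
  rw [← zpow_add, ← zpow_add, add_comm]

theorem s4509 (h : SC p x) {t : ℕ} (ht : Nat.card {C : ConjClasses G // ∃ g ∈ C.carrier, orderOf g = p} = t) (n : ℕ) (hn : Nat.card {H : Subgroup G // Nat.card H = p} = 1 + n * p) :
    ((∃ S : Subgroup G, S.Normal ∧ Nat.card S = 1 + n * p) ↔ (t = p - 1 ∨ (t < p - 1 ∧ derivedSeries G 2 ≠ derivedSeries G 1))) ∧ (t = p - 1 → Nat.card (commutator G) = 1 + n * p ∧ IsCyclic (G ⧸ commutator G) ∧ (commutator G).index = p) ∧ (t < p - 1 → derivedSeries G 2 ≠ derivedSeries G 1 → Nat.card (derivedSeries G 2) = 1 + n * p ∧ Nat.card (commutator G) = p * (1 + n * p)) := by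
  have h1 := h.te
  rw [ht] at h1
  have hp0 : 0 < p - 1 := Nat.sub_pos_of_lt hpf.out.one_lt
  rw [h.card_sub] at hn
  haveI hKn : (pPrimeCore p G).Normal := CfsgLib.Core.pPrimeCore_normal p G
  have hd : ¬ p ∣ Nat.card (pPrimeCore p G) := CfsgLib.Block.not_dvd_pPrimeCore
  have hds1 : derivedSeries G 1 = commutator G := derivedSeries_one G
  have hds2 : derivedSeries G 2 = ⁅commutator G, commutator G⁆ := by
    rw [show (2 : ℕ) = 1 + 1 from rfl, derivedSeries_succ, hds1]
  have hnt : t ≤ p - 1 := by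
    rw [← h1]
    apply Nat.le_mul_of_pos_right
    apply Nat.pos_of_ne_zero
    intro h0
    rw [h0, mul_zero] at h1
    omega
  have hcardN : Nat.card (zpowers x) * (zpowers x).relIndex (normalizer ((zpowers x : Subgroup G) : Set G)) = Nat.card (normalizer ((zpowers x : Subgroup G) : Set G)) := CfsgLib.Block.card_mul_relIndex' le_normalizer
  rw [h.card] at hcardN
  have part2 : t = p - 1 → Nat.card (commutator G) = 1 + n * p ∧ IsCyclic (G ⧸ commutator G) ∧ (commutator G).index = p := by
    intro h2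
    have he : (zpowers x).relIndex (normalizer ((zpowers x : Subgroup G) : Set G)) = 1 := by
      rw [h2] at h1
      exact Nat.eq_of_mul_eq_mul_left hp0 (by rw [h1, mul_one])
    obtain ⟨h3, h4⟩ := h.of_one he
    refine ⟨?_, ?_, h4⟩
    · rw [he, mul_one] at hcardN
      have h5 := card_mul_index (commutator G)
      rw [h4, ← card_mul_index (normalizer ((zpowers x : Subgroup G) : Set G)), ← hcardN, hn, mul_comm] at h5
      exact Nat.eq_of_mul_eq_mul_left hpf.out.pos h5
    · apply isCyclic_of_prime_card (p := p)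
      rw [← index_eq_card, h4]
  have part3 : t < p - 1 → derivedSeries G 2 ≠ derivedSeries G 1 → Nat.card (derivedSeries G 2) = 1 + n * p ∧ Nat.card (commutator G) = p * (1 + n * p) := by
    intro h2 h3
    have he : (zpowers x).relIndex (normalizer ((zpowers x : Subgroup G) : Set G)) ≠ 1 := by
      intro h3; rw [h3, mul_one] at h1; omega
    have hx := h.mem_commutator he
    have hxz : zpowers x ≤ commutator G := zpowers_le.mpr hx
    have hle : derivedSeries G 2 ≤ commutator G := by
      rw [hds2]; exact Subgroup.commutator_le_self _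
    have hcore : pPrimeCore p G ≤ derivedSeries G 2 := by
      rw [hds2]
      exact h.core_le'.trans (Subgroup.commutator_mono h.core_le hxz)
    have heq : derivedSeries G 2 = pPrimeCore p G := by
      apply le_antisymm _ hcore
      haveI : ((derivedSeries G 2).subgroupOf (commutator G)).Normal := inferInstance
      rcases h.normal_sub hx ((derivedSeries G 2).subgroupOf (commutator G)) with h4 | h4
      · intro y hy
        exact h4 (show (⟨y, hle hy⟩ : commutator G) ∈ (derivedSeries G 2).subgroupOf (commutator G) from hy)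
      · exfalso
        apply h3
        rw [hds1]
        exact le_antisymm hle (subgroupOf_eq_top.mp h4)
    -- the commutator group is generated by the core and `x`
    have hT : commutator G ≤ zpowers x ⊔ pPrimeCore p G := by
      haveI : ((zpowers x ⊔ pPrimeCore p G).subgroupOf (commutator G)).Normal := by
        constructor
        intro y hy g
        rw [mem_subgroupOf] at hy ⊢
        have h4 : (g : G) * y * (g : G)⁻¹ * (y : G)⁻¹ ∈ pPrimeCore p G := by
          rw [← heq, hds2]
          exact Subgroup.commutator_mem_commutator g.2 y.2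
        have h5 : (((g * y * g⁻¹ : commutator G)) : G) = ((g : G) * y * (g : G)⁻¹ * (y : G)⁻¹) * y := by
          push_cast; group
        rw [h5]
        exact mul_mem (mem_sup_right h4) hy
      rcases h.normal_sub hx ((zpowers x ⊔ pPrimeCore p G).subgroupOf (commutator G)) with h4 | h4
      · exfalso
        apply h.not_dvd_of_not_mem hd
        have h5 : (⟨x, hx⟩ : commutator G) ∈ (zpowers x ⊔ pPrimeCore p G).subgroupOf (commutator G) := by
          rw [mem_subgroupOf]; exact mem_sup_left (mem_zpowers x)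
        exact h4 h5
      · exact subgroupOf_eq_top.mp h4
    have hT' : commutator G = zpowers x ⊔ pPrimeCore p G := le_antisymm hT (sup_le hxz h.core_le)
    have htop : normalizer ((zpowers x : Subgroup G) : Set G) ⊔ pPrimeCore p G = ⊤ := by
      rw [eq_top_iff, ← h.sup_eq_top hx, hT']
      exact sup_le le_sup_left (sup_le (le_normalizer.trans le_sup_left) le_sup_right)
    have hcore_card := h.relIndex_eq hd
    rw [htop, index_top, mul_one, hn] at hcore_card
    refine ⟨by rw [heq]; exact hcore_card, ?_⟩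
    have h6 := CfsgLib.Coprime.card_sup (A := zpowers x) (K := pPrimeCore p G) (le_trans le_top (by rw [Subgroup.normalizer_eq_top])) (by
      rw [h.card]
      exact (Nat.Prime.coprime_iff_not_dvd hpf.out).mpr hd)
    rw [hT', sup_comm, h6, h.card, hcore_card, mul_comm]
  refine ⟨⟨?_, ?_⟩, part2, part3⟩
  · rintro ⟨S, hSn, hS⟩
    by_cases h2 : t = p - 1
    · exact Or.inl h2
    right
    refine ⟨lt_of_le_of_ne hnt h2, ?_⟩
    intro h3
    have he : (zpowers x).relIndex (normalizer ((zpowers x : Subgroup G) : Set G)) ≠ 1 := by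
      intro h3; rw [h3, mul_one] at h1; omega
    have hx := h.mem_commutator he
    have hdS : ¬ p ∣ Nat.card S := by
      rw [hS]
      intro h4
      have := (Nat.dvd_add_left (Dvd.intro_left n rfl : p ∣ n * p)).mp h4
      exact hpf.out.one_lt.ne' (Nat.dvd_one.mp this)
    have h4 := h.relIndex_eq hdS
    rw [hS, hn] at h4
    have h5 : (normalizer ((zpowers x : Subgroup G) : Set G) ⊔ S).index = 1 := by
      have : 0 < 1 + n * p := by omega
      exact Nat.eq_of_mul_eq_mul_left this (by rw [h4, mul_one])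
    have h6 := index_eq_one.mp h5
    have h7 := h.commutator_quot h6
    have h8 : derivedSeries G 2 ≤ S := by
      rw [hds2, Subgroup.commutator_le]
      intro g hg k hk
      rw [commutatorElement_def, ← QuotientGroup.eq_one_iff, QuotientGroup.mk_mul, QuotientGroup.mk_mul, QuotientGroup.mk_mul, QuotientGroup.mk_inv, QuotientGroup.mk_inv,
        comm_zpowers (h7 g hg) (h7 k hk)]
      group
    rw [h3, hds1] at h8
    exact h.not_dvd_of_not_mem hdS (h8 hx)
  · rintro (h2 | ⟨h2, h3⟩)
    · exact ⟨commutator G, inferInstance, (part2 h2).1⟩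
    · exact ⟨derivedSeries G 2, inferInstance, (part3 h2 h3).1⟩

end CfsgLib.SelfCent
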