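import Cfsg.Agent.Lib.CharBasic2

/-!
# Invariant bilinear forms and the Frobenius–Schur indicator
-/

set_option autoImplicit false
set_option linter.style.haveILetI false
set_option linter.unusedSectionVars false
set_option linter.unusedVariables false
set_option linter.unusedSimpArgs false

open scoped ComplexConjugate Matrix

namespace CfsgLib.FSForm

open Cfsg CfsgLib.CharBasic

universe u

variable {G : Type u} [Group G] [Fintype G] {n : ℕ}

/-- trace of an operator on matrices -/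
theorem trace_matrix (f : Matrix (Fin n) (Fin n) ℂ →ₗ[ℂ] Matrix (Fin n) (Fin n) ℂ) :
    LinearMap.trace ℂ _ f = ∑ i, ∑ j, f (Matrix.single i j 1) i j := by
  rw [LinearMap.trace_eq_matrix_trace ℂ (Matrix.stdBasis ℂ (Fin n) (Fin n)), Matrix.trace, ← Finset.univ_product_univ, Finset.sum_product]
  apply Finset.sum_congr rfl
  intro i _
  apply Finset.sum_congr rfl
  intro j _
  rw [Matrix.diag_apply, LinearMap.toMatrix_apply, Matrix.stdBasis_eq_single]
  generalize f (Matrix.single i j 1) = B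
  have h : B = ∑ x : Fin n × Fin n, B x.1 x.2 • Matrix.stdBasis ℂ (Fin n) (Fin n) x := by
    ext a b
    rw [← Finset.univ_product_univ, Finset.sum_product]
    simp only [Matrix.stdBasis_eq_single, Matrix.sum_apply, Matrix.smul_apply, Matrix.single_apply, smul_eq_mul]
    simp [Finset.sum_ite_eq, ite_and]
  conv_lhs => rw [h]
  rw [map_sum, Finsupp.finsetSum_apply]
  simp [Module.Basis.repr_self, Finsupp.single_apply]

theorem mul_single_mul (B A : Matrix (Fin n) (Fin n) ℂ) (i j a b : Fin n) :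
    (B * (Matrix.single i j 1 : Matrix (Fin n) (Fin n) ℂ) * A) a b = B a i * A j b := by
  rw [Matrix.mul_apply]
  simp only [Matrix.mul_apply, Matrix.single_apply]
  simp [ite_and, Finset.sum_ite_eq]

theorem toMatrix'_trace (f : (Fin n → ℂ) →ₗ[ℂ] (Fin n → ℂ)) : LinearMap.trace ℂ _ f = ∑ i, LinearMap.toMatrix' f i i := by
  rw [LinearMap.trace_eq_matrix_trace ℂ (Pi.basisFun ℂ (Fin n)), LinearMap.toMatrix_eq_toMatrix']
  rfl

theorem sum3 (f : G → Fin n → Fin n → ℂ) : ∑ i, ∑ j, ∑ g, f g i j = ∑ g, ∑ i, ∑ j, f g i j := by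
  calc ∑ i, ∑ j, ∑ g, f g i j = ∑ i, ∑ g, ∑ j, f g i j := by
        apply Finset.sum_congr rfl; intro i _; exact Finset.sum_comm
    _ = _ := Finset.sum_comm

/-- transposition -/
def tau : Matrix (Fin n) (Fin n) ℂ →ₗ[ℂ] Matrix (Fin n) (Fin n) ℂ where
  toFun U := Uᵀ
  map_add' U V := Matrix.transpose_add U V
  map_smul' c U := Matrix.transpose_smul c U

section

variable (X : G → Matrix (Fin n) (Fin n) ℂ)

/-- the averaging operator -/
noncomputable def Phi : Matrix (Fin n) (Fin n) ℂ →ₗ[ℂ] Matrix (Fin n) (Fin n) ℂ where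
  toFun U := (Nat.card G : ℂ)⁻¹ • ∑ g : G, (X g)ᵀ * U * X g
  map_add' U V := by
    rw [← smul_add, ← Finset.sum_add_distrib]
    congr 1
    apply Finset.sum_congr rfl
    intro g _
    rw [Matrix.mul_add, Matrix.add_mul]
  map_smul' c U := by
    rw [RingHom.id_apply, smul_comm c, Finset.smul_sum (r := c)]
    congr 1
    apply Finset.sum_congr rfl
    intro g _
    rw [Matrix.mul_smul, Matrix.smul_mul]

theorem Phi_apply (U : Matrix (Fin n) (Fin n) ℂ) : Phi X U = (Nat.card G : ℂ)⁻¹ • ∑ g : G, (X g)ᵀ * U * X g := rfl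

variable (hX : ∀ g h, X (g * h) = X g * X h)

include hX in
theorem Phi_inv (U : Matrix (Fin n) (Fin n) ℂ) (h : G) : (X h)ᵀ * Phi X U * X h = Phi X U := by
  rw [Phi_apply, Matrix.mul_smul, Matrix.smul_mul, Matrix.mul_sum, Matrix.sum_mul]
  congr 1
  rw [← Equiv.sum_comp (Equiv.mulRight h) (fun g => (X g)ᵀ * U * X g)]
  apply Finset.sum_congr rfl
  intro g _
  simp only [Equiv.coe_mulRight]
  rw [hX, Matrix.transpose_mul]
  simp only [Matrix.mul_assoc]

theorem Phi_of_inv {M : Matrix (Fin n) (Fin n) ℂ} (hM : ∀ g : G, (X g)ᵀ * M * X g = M) : Phi X M = M := by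
  rw [Phi_apply, Finset.sum_congr rfl fun g _ => hM g, Finset.sum_const, Finset.card_univ, ← Nat.card_eq_fintype_card]
  rw [← Nat.cast_smul_eq_nsmul ℂ, smul_smul, inv_mul_cancel₀ (by exact_mod_cast Nat.card_pos.ne'), one_smul]

/-- the invariants -/
noncomputable def Inv : Submodule ℂ (Matrix (Fin n) (Fin n) ℂ) := LinearMap.range (Phi X)

include hX in
theorem mem_Inv {M : Matrix (Fin n) (Fin n) ℂ} : M ∈ Inv X ↔ ∀ g : G, (X g)ᵀ * M * X g = M := by
  constructor
  · rintro ⟨U, rfl⟩ g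
    exact Phi_inv X hX U g
  · intro h
    exact ⟨M, Phi_of_inv X h⟩

include hX in
theorem isProj : LinearMap.IsProj (Inv X) (Phi X) := by
  constructor
  · intro U; exact ⟨U, rfl⟩
  · intro M hM
    exact Phi_of_inv X ((mem_Inv X hX).mp hM)

theorem trace_Phi : LinearMap.trace ℂ _ (Phi X) = (Nat.card G : ℂ)⁻¹ * ∑ g : G, (∑ i, X g i i) * (∑ i, X g i i) := by
  rw [trace_matrix]
  have h : ∀ i j : Fin n, Phi X (Matrix.single i j 1) i j = (Nat.card G : ℂ)⁻¹ * ∑ g : G, X g i i * X g j j := by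
    intro i j
    rw [Phi_apply, Matrix.smul_apply, Matrix.sum_apply, smul_eq_mul]
    congr 1
    apply Finset.sum_congr rfl
    intro g _
    rw [mul_single_mul, Matrix.transpose_apply]
  simp only [h, ← Finset.mul_sum]
  congr 1
  simp only [Finset.sum_mul_sum]
  exact sum3 (fun g i j => X g i i * X g j j)

theorem trace_tau_Phi : LinearMap.trace ℂ _ (tau ∘ₗ Phi X) = (Nat.card G : ℂ)⁻¹ * ∑ g : G, ∑ i, (X g * X g) i i := by
  rw [trace_matrix]
  have h : ∀ i j : Fin n, (tau ∘ₗ Phi X) (Matrix.single i j 1) i j = (Nat.card G : ℂ)⁻¹ * ∑ g : G, X g i j * X g j i := by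
    intro i j
    change (Phi X (Matrix.single i j 1))ᵀ i j = _
    rw [Matrix.transpose_apply, Phi_apply, Matrix.smul_apply, Matrix.sum_apply, smul_eq_mul]
    congr 1
    apply Finset.sum_congr rfl
    intro g _
    rw [mul_single_mul, Matrix.transpose_apply]
  simp only [h, ← Finset.mul_sum]
  congr 1
  simp only [Matrix.mul_apply]
  exact sum3 (fun g i j => X g i j * X g j i)

end

theorem s4475 (ρ : Representation ℂ G (Fin n → ℂ)) (hirr : ρ.IsIrreducible) (hreal : ∀ g : G, (ρ.character g).im = 0) :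
    (∃ M : Matrix (Fin n) (Fin n) ℂ, M ≠ 0 ∧ ∀ g : G, (LinearMap.toMatrix' (ρ g))ᵀ * M * LinearMap.toMatrix' (ρ g) = M) ∧
      ∀ M : Matrix (Fin n) (Fin n) ℂ, (∀ g : G, (LinearMap.toMatrix' (ρ g))ᵀ * M * LinearMap.toMatrix' (ρ g) = M) → Mᵀ = ((Nat.card G : ℂ)⁻¹ * ∑ s : G, ρ.character (s * s)) • M := by
  obtain ⟨X, hXd⟩ : ∃ X : G → Matrix (Fin n) (Fin n) ℂ, ∀ g, LinearMap.toMatrix' (ρ g) = X g := ⟨_, fun g => rfl⟩
  have hX : ∀ g h, X (g * h) = X g * X h := by
    intro g h
    rw [← hXd, ← hXd, ← hXd, map_mul, Module.End.mul_eq_comp, LinearMap.toMatrix'_comp]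
  have hchar : ∀ g, ρ.character g = ∑ i, X g i i := by
    intro g
    rw [← hXd]
    exact toMatrix'_trace (ρ g)
  simp only [hXd]
  have h1 : LinearMap.trace ℂ _ (Phi X) = 1 := by
    have h2 := classInner_character_eq_one hirr
    rw [trace_Phi, ← h2, classInner]
    congr 1
    apply Finset.sum_congr rfl
    intro g _
    rw [Complex.conj_eq_iff_im.mpr (hreal g), hchar]
  have h2 : Module.finrank ℂ (Inv X) = 1 := by
    have h3 := (isProj X hX).trace
    rw [h1] at h3
    exact_mod_cast h3.symm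
  obtain ⟨v, hv, hspan⟩ := finrank_eq_one_iff'.mp h2
  have hv' := (mem_Inv X hX).mp v.2
  have htau : (v : Matrix (Fin n) (Fin n) ℂ)ᵀ ∈ Inv X := by
    rw [mem_Inv X hX]
    intro g
    have := congrArg Matrix.transpose (hv' g)
    rw [Matrix.transpose_mul, Matrix.transpose_mul, Matrix.transpose_transpose] at this
    rw [Matrix.mul_assoc]
    exact this
  obtain ⟨c, hc⟩ := hspan ⟨_, htau⟩
  have hc' : (v : Matrix (Fin n) (Fin n) ℂ)ᵀ = c • (v : Matrix (Fin n) (Fin n) ℂ) := (congrArg Subtype.val hc).symm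
  have hall : ∀ M ∈ Inv X, Mᵀ = c • M := by
    intro M hM
    obtain ⟨d, hd⟩ := hspan ⟨M, hM⟩
    have hd' : M = d • (v : Matrix (Fin n) (Fin n) ℂ) := (congrArg Subtype.val hd).symm
    rw [hd', Matrix.transpose_smul, hc', smul_comm]
  have hcomp : tau ∘ₗ Phi X = c • Phi X := by
    apply LinearMap.ext
    intro U
    exact hall _ ⟨U, rfl⟩
  have h3 := trace_tau_Phi X
  rw [hcomp, map_smul, h1, smul_eq_mul, mul_one] at h3
  have h4 : ∑ s : G, ρ.character (s * s) = ∑ g : G, ∑ i, (X g * X g) i i := by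
    apply Finset.sum_congr rfl
    intro g _
    rw [hchar, hX]
  rw [h4, ← h3]
  refine ⟨⟨v, ?_, hv'⟩, ?_⟩
  · intro h0
    exact hv (Subtype.ext h0)
  · intro M hM
    exact hall M ((mem_Inv X hX).mpr hM)

end CfsgLib.FSForm
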