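import Mathlib
import Cfsg.Prelude.Def_Characters
import Cfsg.Prelude.Def_Transfer
import Cfsg.Agent.Lib.CharBasic
import Cfsg.Agent.Lib.CharBasic2

/-!
# Characters of extraspecial groups
-/

set_option autoImplicit false
set_option linter.style.haveILetI false
set_option linter.unusedSectionVars false

open scoped ComplexConjugate

namespace CfsgLib.EspChar

open Cfsg CfsgLib.CharBasic

universe u

variable {P : Type u} [Group P] [Finite P] {p : ℕ} [hp : Fact p.Prime]

/-- for a nonlinear irreducible character no noncentral commutator-central element is in the kernel -/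
theorem not_ker (hP : IsExtraspecial p P) {χ : P → ℂ} (hχ : IsIrrCharacter P χ) (h1 : χ 1 ≠ 1) {z : P} (hz : z ∈ Subgroup.center P) (hz1 : z ≠ 1) :
    χ z ≠ χ 1 := by
  intro h
  apply h1
  have hχc := IsIrrCharacter.isCharacter hχ
  rw [degree_one_iff ⟨χ, hχ⟩]
  have h2 : Subgroup.center P ≤ charKer hχc := by
    intro y hy
    -- the centre has prime order so is generated by z
    have hcard := hP.2
    have h3 : Subgroup.zpowers (⟨z, hz⟩ : Subgroup.center P) = ⊤ := by
      have hne : (⟨z, hz⟩ : Subgroup.center P) ≠ 1 := fun h => hz1 (congrArg Subtype.val h)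
      exact zpowers_eq_top_of_prime_card hcard hne
    have h4 : (⟨y, hy⟩ : Subgroup.center P) ∈ Subgroup.zpowers (⟨z, hz⟩ : Subgroup.center P) := by rw [h3]; exact Subgroup.mem_top _
    obtain ⟨k, hk⟩ := h4
    have h5 : z ^ k = y := congrArg Subtype.val hk
    rw [← h5]
    exact (charKer hχc).zpow_mem ((mem_charKer hχc).mpr h) k
  intro n hn
  have h3 : n ∈ Subgroup.center P := by rw [← hP.1.2.2]; exact hn
  exact (mem_charKer hχc).mp (h2 h3)

theorem vanish (hP : IsExtraspecial p P) {χ : P → ℂ} (hχ : IsIrrCharacter P χ) (h1 : χ 1 ≠ 1) {g : P} (hg : g ∉ Subgroup.center P) : χ g = 0 := by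
  have hχc := IsIrrCharacter.isCharacter hχ
  rw [Subgroup.mem_center_iff] at hg
  push Not at hg
  obtain ⟨h, hh⟩ := hg
  -- z = h g h⁻¹ g⁻¹ is central, nontrivial
  have hz : h * g * h⁻¹ * g⁻¹ ∈ Subgroup.center P := by
    rw [← hP.1.2.2]
    exact Subgroup.commutator_mem_commutator (Subgroup.mem_top h) (Subgroup.mem_top g)
  have hz1 : h * g * h⁻¹ * g⁻¹ ≠ 1 := by
    intro h2
    apply hh
    have h3 : h * g = (h * g * h⁻¹ * g⁻¹) * (g * h) := by group
    rw [h3, h2, one_mul]
  have h2 := not_ker hP hχ h1 hz hz1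
  have h3 := IsCharacter.mul_of_mem_center hχc (IsIrrCharacter.norm_of_mem_center hχ hz) g
  have h4 : h * g * h⁻¹ * g⁻¹ * g = h * g * h⁻¹ := by group
  rw [h4, (IsCharacter.isClassFunction hχc) g h] at h3
  have h5 : (χ 1 - χ (h * g * h⁻¹ * g⁻¹)) * χ g = 0 := by linear_combination h3
  rcases mul_eq_zero.mp h5 with h6 | h6
  · exact absurd (sub_eq_zero.mp h6).symm h2
  · exact h6

theorem degree (hP : IsExtraspecial p P) {n : ℕ} (hcard : Nat.card P = p ^ (2 * n + 1)) {χ : P → ℂ} (hχ : IsIrrCharacter P χ) (h1 : χ 1 ≠ 1) :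
    χ 1 = (p : ℂ) ^ n := by
  classical
  haveI : Fintype P := Fintype.ofFinite P
  obtain ⟨d, hd0, hd⟩ := IsIrrCharacter.exists_pos hχ
  have h2 := IsIrrCharacter.inner_self hχ
  rw [classInner_self] at h2
  have h3 : ∑ g : P, ‖χ g‖ ^ 2 = (p : ℝ) * (d : ℝ) ^ 2 := by
    have h4 : ∀ g : P, ‖χ g‖ ^ 2 = if g ∈ Subgroup.center P then (d : ℝ) ^ 2 else 0 := by
      intro g
      by_cases hg : g ∈ Subgroup.center P
      · rw [if_pos hg, IsIrrCharacter.norm_of_mem_center hχ hg, hd, Complex.norm_natCast]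
      · rw [if_neg hg, vanish hP hχ h1 hg, norm_zero]; norm_num
    rw [Finset.sum_congr rfl (fun g _ => h4 g), ← Finset.sum_filter, Finset.sum_const, nsmul_eq_mul]
    congr 1
    rw [← Fintype.card_subtype, ← Nat.card_eq_fintype_card]
    have : Nat.card {x // x ∈ Subgroup.center P} = p := hP.2
    rw [this]
  rw [h3, hcard] at h2
  have hp0 : (p : ℝ) ≠ 0 := by exact_mod_cast hp.out.ne_zero
  have h5 : ((p ^ (2 * n + 1) : ℕ) : ℝ)⁻¹ * ((p : ℝ) * (d : ℝ) ^ 2) = 1 := by exact_mod_cast h2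
  have h6 : (d : ℝ) ^ 2 = ((p : ℝ) ^ n) ^ 2 := by
    push_cast at h5
    rw [pow_add, pow_one] at h5
    field_simp at h5
    rw [h5]; ring
  have h7 : d ^ 2 = (p ^ n) ^ 2 := by exact_mod_cast h6
  have h8 : d = p ^ n := Nat.pow_left_injective (n := 2) (by norm_num) h7
  rw [hd, h8]
  push_cast
  rfl

end CfsgLib.EspChar
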