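import Cfsg.Agent.Lib.BEasy20
import Cfsg.Agent.Lib.EspChar
import Cfsg.Agent.Lib.PG2
import Cfsg.Agent.Lib.PGrp
import Cfsg.Agent.Lib.Frattini

/-!
# Nilpotent groups with one irreducible character of degree divisible by `p`
-/

set_option autoImplicit false
set_option linter.style.haveILetI false
set_option linter.unusedSectionVars false
set_option linter.unusedVariables false

open scoped ComplexConjugate Pointwise

namespace CfsgLib.Block

open Cfsg CfsgLib.CharBasic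

universe u v w

variable {G : Type u} [Group G] [Fintype G]

/-- linear characters separate elements from the commutator subgroup -/
theorem exists_linear_ne {x : G} (hx : x ∉ commutator G) : ∃ lam : G →* ℂˣ, (lam x : ℂ) ≠ 1 := by
  by_contra hcon
  push Not at hcon
  apply hx
  rw [← QuotientGroup.eq_one_iff]
  have h1 : IsConj (x : G ⧸ commutator G) 1 := by
    rw [isConj_iff_forall_irr]
    intro χ
    have h2 : (χ : G ⧸ commutator G → ℂ) 1 = 1 := IsIrrCharacter.degree_one_of_comm χ.2 (by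
      intro a b
      obtain ⟨a, rfl⟩ := QuotientGroup.mk_surjective a
      obtain ⟨b, rfl⟩ := QuotientGroup.mk_surjective b
      rw [← QuotientGroup.mk_mul, ← QuotientGroup.mk_mul, QuotientGroup.eq]
      have : (a * b)⁻¹ * (b * a) = b⁻¹ * a⁻¹ * b⁻¹⁻¹ * a⁻¹⁻¹ := by group
      rw [this]
      exact Subgroup.commutator_mem_commutator (Subgroup.mem_top _) (Subgroup.mem_top _))
    obtain ⟨lam, hlam⟩ := IsCharacter.exists_linear (irr_isCharacter χ) h2
    rw [h2, hlam]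
    exact hcon (lam.comp (QuotientGroup.mk' _))
  exact (isConj_one_left.mp h1)

/-- a Sylow subgroup of a nilpotent group is not inside the commutator subgroup -/
theorem sylow_not_le {q : ℕ} [Fact q.Prime] [hnil : Group.IsNilpotent G] (Q : Sylow q G) (hQ : (Q : Subgroup G) ≠ ⊥) : ¬ (Q : Subgroup G) ≤ commutator G := by
  intro hle
  haveI : (Q : Subgroup G).Normal := Sylow.normal_of_normalizerCondition Group.normalizerCondition_of_isNilpotent Q
  have h1 := hle.trans (CfsgLib.Frattini.commutator_le_frattini_of_nilpotent hnil)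
  obtain ⟨H, hH⟩ := Subgroup.exists_right_complement'_of_coprime (N := (Q : Subgroup G)) (by
    rw [Q.card_eq_multiplicity]
    exact Nat.Coprime.pow_left _ ((Nat.Prime.coprime_iff_not_dvd Fact.out).mpr Q.not_dvd_index))
  have h2 : H ⊔ frattini G = ⊤ := by
    rw [eq_top_iff, ← hH.sup_eq_top]
    exact sup_le (h1.trans le_sup_right) le_sup_left
  have h3 := frattini_nongenerating h2
  have h4 := hH.disjoint
  rw [h3, disjoint_top] at h4
  exact hQ h4

/-- in a `p`-group: degree divisible by `p` iff nonlinear -/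
theorem dvd_degree_iff {p : ℕ} (hp : p.Prime) (hG : IsPGroup p G) (χ : IrrCharacter G) : p ∣ charDegree (χ : G → ℂ) ↔ (χ : G → ℂ) 1 ≠ 1 := by
  haveI : Fact p.Prime := ⟨hp⟩
  constructor
  · intro h h1
    rw [charDegree_one χ] at h1
    have h2 : charDegree (χ : G → ℂ) = 1 := by exact_mod_cast h1
    rw [h2] at h
    exact hp.one_lt.ne' (Nat.dvd_one.mp h)
  · intro h
    have h1 : charDegree (χ : G → ℂ) ∣ Nat.card G := charDegree_dvd χ.2
    obtain ⟨n, hn⟩ := IsPGroup.iff_card.mp hG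
    rw [hn] at h1
    obtain ⟨j, hj, hj2⟩ := (Nat.dvd_prime_pow hp).mp h1
    rw [hj2]
    apply dvd_pow_self
    rintro rfl
    apply h
    rw [charDegree_one χ, hj2]
    simp

theorem twist_eq {p : ℕ} {χ : IrrCharacter G} (huniq : ∀ ψ : IrrCharacter G, p ∣ charDegree (ψ : G → ℂ) → ψ = χ) (hχ : p ∣ charDegree (χ : G → ℂ)) (lam : G →* ℂˣ) (g : G) :
    (lam g : ℂ) * (χ : G → ℂ) g = (χ : G → ℂ) g := by
  have h1 := huniq ⟨_, IsCharacter.mul_linear_isIrr χ.2 lam⟩ (by
    have : charDegree (fun g => (lam g : ℂ) * (χ : G → ℂ) g) = charDegree (χ : G → ℂ) := by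
      rw [charDegree, charDegree]
      simp
    change p ∣ charDegree (fun g => (lam g : ℂ) * (χ : G → ℂ) g)
    rw [this]
    exact hχ)
  exact congrFun (congrArg Subtype.val h1) g

theorem isPGroup_of_one {p : ℕ} [hpf : Fact p.Prime] [hnil : Group.IsNilpotent G] {χ : IrrCharacter G} (hχ : p ∣ charDegree (χ : G → ℂ))
    (huniq : ∀ ψ : IrrCharacter G, p ∣ charDegree (ψ : G → ℂ) → ψ = χ) : IsPGroup p G := by
  have hp : p.Prime := Fact.out
  rw [IsPGroup.iff_card]
  by_contra hcon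
  obtain ⟨q, hq, hqG, hqp⟩ : ∃ q : ℕ, q.Prime ∧ q ∣ Nat.card G ∧ q ≠ p := by
    by_contra hno
    push Not at hno
    exact hcon ⟨_, Nat.eq_prime_pow_of_unique_prime_dvd Nat.card_pos.ne' (fun {d} hd hd2 => hno d hd hd2)⟩
  haveI : Fact q.Prime := ⟨hq⟩
  obtain ⟨Q⟩ : Nonempty (Sylow q G) := inferInstance
  haveI hQn : (Q : Subgroup G).Normal := Sylow.normal_of_normalizerCondition Group.normalizerCondition_of_isNilpotent Q
  have hQ : (Q : Subgroup G) ≠ ⊥ := Q.ne_bot_of_dvd_card hqG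
  have hs : IsPSolvable p G := CfsgLib.PChain.of_solvable hp inferInstance
  obtain ⟨P⟩ : Nonempty (Sylow p G) := inferInstance
  haveI hPn : (P : Subgroup G).Normal := Sylow.normal_of_normalizerCondition Group.normalizerCondition_of_isNilpotent P
  haveI : Fintype (G ⧸ (Q : Subgroup G)) := Fintype.ofFinite _
  -- the kernel of `χ` contains `Q`
  have hker : ∀ x ∈ (Q : Subgroup G), (χ : G → ℂ) x = (χ : G → ℂ) 1 := by
    by_contra hne
    have h1 : ∀ ψ : IrrCharacter (G ⧸ (Q : Subgroup G)), ¬ p ∣ charDegree (ψ : G ⧸ (Q : Subgroup G) → ℂ) := by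
      intro ψ hψ
      apply hne
      have h2 := huniq (irrQuotientEquiv (Q : Subgroup G) ψ).1 (by
        have h4 : charDegree ((irrQuotientEquiv (Q : Subgroup G) ψ).1 : G → ℂ) = charDegree (ψ : G ⧸ (Q : Subgroup G) → ℂ) := by
          rw [charDegree, charDegree]
          have := irrQuotientEquiv_apply (Q : Subgroup G) ψ 1
          rw [this]
          rfl
        rwa [h4])
      rw [← h2]
      exact (irrQuotientEquiv (Q : Subgroup G) ψ).2
    have h2 := (s4713 (CfsgLib.PChain.quotient hp hs (Q : Subgroup G)) (P.mapSurjective (QuotientGroup.mk'_surjective (Q : Subgroup G)))).mpr h1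
    have h3 : ∀ x ∈ (P : Subgroup G), ∀ y ∈ (P : Subgroup G), x * y = y * x := by
      intro x hx y hy
      have h4 := h2.2 (x : G ⧸ (Q : Subgroup G)) (by rw [Sylow.coe_mapSurjective]; exact ⟨x, hx, rfl⟩) (y : G ⧸ (Q : Subgroup G)) (by rw [Sylow.coe_mapSurjective]; exact ⟨y, hy, rfl⟩)
      have h5 : x * y * x⁻¹ * y⁻¹ ∈ (Q : Subgroup G) := by
        rw [← QuotientGroup.eq_one_iff, QuotientGroup.mk_mul, QuotientGroup.mk_mul, QuotientGroup.mk_mul, h4, QuotientGroup.mk_inv, QuotientGroup.mk_inv]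
        group
      have h6 : x * y * x⁻¹ * y⁻¹ ∈ (P : Subgroup G) := mul_mem (mul_mem (mul_mem hx hy) (inv_mem hx)) (inv_mem hy)
      have h7 : x * y * x⁻¹ * y⁻¹ = 1 := by
        obtain ⟨k, hk⟩ := (IsPGroup.iff_orderOf.mp P.2) ⟨_, h6⟩
        obtain ⟨l, hl⟩ := (IsPGroup.iff_orderOf.mp Q.2) ⟨_, h5⟩
        rw [Subgroup.orderOf_mk] at hk hl
        rw [← orderOf_eq_one_iff]
        exact Nat.eq_one_of_dvd_coprimes (Nat.Coprime.pow k l ((Nat.coprime_primes hp hq).mpr (Ne.symm hqp))) (by rw [hk]) (by rw [hl])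
      calc x * y = (x * y * x⁻¹ * y⁻¹) * (y * x) := by group
        _ = y * x := by rw [h7, one_mul]
    exact (s4713 hs P).mp ⟨hPn, h3⟩ χ hχ
  obtain ⟨x, hxQ, hxG⟩ := Set.not_subset.mp (sylow_not_le Q hQ)
  obtain ⟨lam, hlam⟩ := exists_linear_ne hxG
  have h1 := twist_eq huniq hχ lam x
  rw [hker x hxQ] at h1
  apply hlam
  have h2 : (χ : G → ℂ) 1 ≠ 0 := IsIrrCharacter.one_ne_zero χ.2
  exact mul_right_cancel₀ h2 (by rw [h1, one_mul])

theorem pow_sub_one_eq {p c m : ℕ} (hp : p.Prime) (hc : 1 ≤ c) (h : p ^ c - 1 ∣ p ^ m) : p = 2 ∧ c = 1 := by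
  have h1 : Nat.Coprime (p ^ c - 1) (p ^ m) := by
    apply Nat.Coprime.pow_right
    rw [Nat.coprime_comm, Nat.Prime.coprime_iff_not_dvd hp]
    intro h2
    have h3 : p ∣ p ^ c := dvd_pow_self p (by omega)
    have h4 : 1 ≤ p ^ c := Nat.one_le_pow _ _ hp.pos
    have h5 : p ∣ p ^ c - (p ^ c - 1) := Nat.dvd_sub h3 h2
    have h6 : p ^ c - (p ^ c - 1) = 1 := by omega
    rw [h6] at h5
    exact hp.one_lt.ne' (Nat.dvd_one.mp h5)
  have h2 : p ^ c - 1 = 1 := Nat.eq_one_of_dvd_coprimes h1 (dvd_refl _) h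
  have h3 : p ^ c = 2 := by
    have : 1 ≤ p ^ c := Nat.one_le_pow _ _ hp.pos
    omega
  have h4 : p ∣ 2 := by rw [← h3]; exact dvd_pow_self p (by omega)
  have h5 := (Nat.prime_dvd_prime_iff_eq hp Nat.prime_two).mp h4
  subst h5
  refine ⟨rfl, ?_⟩
  exact Nat.pow_right_injective (le_refl 2) (by simpa using h3)

theorem sum_split {χ : IrrCharacter G} (hχ : (χ : G → ℂ) 1 ≠ 1) (huniq : ∀ ψ : IrrCharacter G, (ψ : G → ℂ) 1 ≠ 1 → ψ = χ) :
    (commutator G).index + charDegree (χ : G → ℂ) ^ 2 = Nat.card G := by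
  classical
  rw [← sum_sq_deg (G := G), ← card_linear G, ← Finset.sum_filter_add_sum_filter_not Finset.univ (fun ψ : IrrCharacter G => (ψ : G → ℂ) 1 = 1)]
  congr 1
  · rw [Nat.card_eq_fintype_card, Fintype.card_subtype, Finset.card_eq_sum_ones]
    apply Finset.sum_congr rfl
    intro ψ hψ
    rw [Finset.mem_filter] at hψ
    have := hψ.2
    rw [charDegree_one ψ] at this
    have h2 : charDegree (ψ : G → ℂ) = 1 := by exact_mod_cast this
    rw [h2]; norm_num
  · have h1 : Finset.univ.filter (fun ψ : IrrCharacter G => ¬ (ψ : G → ℂ) 1 = 1) = {χ} := by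
      ext ψ
      rw [Finset.mem_filter, Finset.mem_singleton]
      constructor
      · rintro ⟨-, h⟩; exact huniq ψ h
      · rintro rfl; exact ⟨Finset.mem_univ _, hχ⟩
    rw [h1, Finset.sum_singleton]

theorem esp_of_one {p : ℕ} [hpf : Fact p.Prime] (hG : IsPGroup p G) {χ : IrrCharacter G} (hχ : (χ : G → ℂ) 1 ≠ 1)
    (huniq : ∀ ψ : IrrCharacter G, (ψ : G → ℂ) 1 ≠ 1 → ψ = χ) : p = 2 ∧ IsExtraspecial 2 G := by
  have hp : p.Prime := Fact.out
  have h1 := sum_split hχ huniq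
  obtain ⟨c, hc⟩ := IsPGroup.iff_card.mp (hG.to_subgroup (commutator G))
  obtain ⟨a, ha⟩ := hG.index (commutator G)
  have h2 : charDegree (χ : G → ℂ) ∣ Nat.card G := charDegree_dvd χ.2
  obtain ⟨n, hn⟩ := IsPGroup.iff_card.mp hG
  rw [hn] at h2
  obtain ⟨k, hk, hk2⟩ := (Nat.dvd_prime_pow hp).mp h2
  have h3 := Subgroup.card_mul_index (commutator G)
  rw [← h3, hc, ha, hk2] at h1
  have hc1 : 1 ≤ c := by
    by_contra h
    have : c = 0 := by omega
    rw [this, pow_zero, one_mul] at h1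
    have : 0 < (p ^ k) ^ 2 := pow_pos (pow_pos hp.pos k) 2
    omega
  have hpc : 1 ≤ p ^ c := Nat.one_le_pow _ _ hp.pos
  have h4 : p ^ a * (p ^ c - 1) = (p ^ k) ^ 2 := by
    rw [Nat.mul_sub, mul_one, mul_comm (p ^ a) (p ^ c), ← h1]
    omega
  obtain ⟨hp2, hc2⟩ := pow_sub_one_eq hp hc1 (m := k * 2) (by rw [pow_mul, ← h4]; exact dvd_mul_left _ _)
  subst hp2
  refine ⟨rfl, ?_⟩
  subst hc2
  have hcard2 : Nat.card (commutator G) = 2 := by rw [hc, pow_one]
  have h5 : (2 : ℕ) ^ a = (2 ^ k) ^ 2 := by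
    rw [← h4]; norm_num
  have hle : commutator G ≤ Subgroup.center G := CfsgLib.PGrp.le_center_of_card_eq_prime hG inferInstance hcard2
  have h6 : charDegree (χ : G → ℂ) ^ 2 ≤ (Subgroup.center G).index :=
    IsIrrCharacter.sq_degree_le_index χ.2 (charDegree_one χ) _ (fun z hz => IsIrrCharacter.norm_of_mem_center χ.2 hz)
  rw [hk2, ← h5, ← ha] at h6
  have hZ : commutator G = Subgroup.center G := by
    apply Subgroup.eq_of_le_of_card_ge hle
    have e1 := Subgroup.card_mul_index (commutator G)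
    have e2 := Subgroup.card_mul_index (Subgroup.center G)
    have e3 : 0 < (Subgroup.center G).index := Nat.pos_of_ne_zero Subgroup.index_ne_zero_of_finite
    by_contra h7
    push Not at h7
    have h8 : Nat.card (commutator G) * (commutator G).index < Nat.card (Subgroup.center G) * (Subgroup.center G).index :=
      Nat.mul_lt_mul_of_lt_of_le h7 h6 e3
    omega
  refine ⟨⟨hG, ?_, hZ⟩, by rw [← hZ]; exact hcard2⟩
  apply le_antisymm
  · apply CfsgLib.PG2.frattini_le_of_pow_mem hG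
    · intro x
      rw [Subgroup.mem_center_iff]
      intro y
      have hz : x * y * x⁻¹ * y⁻¹ ∈ commutator G := Subgroup.commutator_mem_commutator (Subgroup.mem_top x) (Subgroup.mem_top y)
      set z := x * y * x⁻¹ * y⁻¹ with hzd
      have hzc : ∀ g : G, g * z = z * g := Subgroup.mem_center_iff.mp (hle hz)
      have hzz : z * z = 1 := by
        have := orderOf_dvd_natCard (⟨z, hz⟩ : commutator G)
        rw [Subgroup.orderOf_mk, hcard2, orderOf_dvd_iff_pow_eq_one, pow_two] at this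
        exact this
      have h8 : x ^ 2 * y * (x ^ 2)⁻¹ * y⁻¹ = 1 := by
        calc x ^ 2 * y * (x ^ 2)⁻¹ * y⁻¹ = (x * (x * y * x⁻¹ * y⁻¹)) * y * x⁻¹ * y⁻¹ := by rw [pow_two]; group
          _ = (x * z) * y * x⁻¹ * y⁻¹ := by rw [hzd]
          _ = (z * x) * y * x⁻¹ * y⁻¹ := by rw [hzc]
          _ = z * (x * y * x⁻¹ * y⁻¹) := by group
          _ = z * z := by rw [hzd]
          _ = 1 := hzz
      calc y * x ^ 2 = (x ^ 2 * y * (x ^ 2)⁻¹ * y⁻¹)⁻¹ * (x ^ 2 * y) := by group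
        _ = x ^ 2 * y := by rw [h8, inv_one, one_mul]
    · intro x y
      exact hle (Subgroup.commutator_mem_commutator (Subgroup.mem_top x) (Subgroup.mem_top y))
  · rw [← hZ]
    exact CfsgLib.PGrp.commutator_le_frattini hG

theorem unique_of_esp (hG : IsExtraspecial 2 G) : ∃ χ : IrrCharacter G, (χ : G → ℂ) 1 ≠ 1 ∧ ∀ ψ : IrrCharacter G, (ψ : G → ℂ) 1 ≠ 1 → ψ = χ := by
  haveI : Fact (Nat.Prime 2) := ⟨Nat.prime_two⟩
  obtain ⟨χ, hχ⟩ : ∃ χ : IrrCharacter G, (χ : G → ℂ) 1 ≠ 1 := by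
    by_contra hcon
    push Not at hcon
    apply CfsgLib.PGrp.esp_not_comm hG
    exact ⟨⟨comm_of_linear hcon⟩⟩
  refine ⟨χ, hχ, ?_⟩
  obtain ⟨n, hn⟩ := CfsgLib.PGrp.esp_card hG
  have hdeg : ∀ ψ : IrrCharacter G, (ψ : G → ℂ) 1 ≠ 1 → (ψ : G → ℂ) 1 = (2 : ℂ) ^ n := by
    intro ψ hψ
    have := CfsgLib.EspChar.degree hG (n := n) (by rw [hn.2, add_comm]) ψ.2 hψ
    simpa using this
  have hval : ∀ ψ : IrrCharacter G, (ψ : G → ℂ) 1 ≠ 1 → ∀ z ∈ Subgroup.center G, z ≠ 1 → (ψ : G → ℂ) z = - (2 : ℂ) ^ n := by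
    intro ψ hψ z hz hz1
    have h1 := CfsgLib.EspChar.not_ker hG ψ.2 hψ hz hz1
    have h2 := IsCharacter.mul_of_mem_center (irr_isCharacter ψ) (IsIrrCharacter.norm_of_mem_center ψ.2 hz) z
    have hzz : z * z = 1 := by
      have := orderOf_dvd_natCard (⟨z, hz⟩ : Subgroup.center G)
      rw [Subgroup.orderOf_mk, hG.2, orderOf_dvd_iff_pow_eq_one, pow_two] at this
      exact this
    rw [hzz] at h2
    have h3 : ((ψ : G → ℂ) z - (ψ : G → ℂ) 1) * ((ψ : G → ℂ) z + (ψ : G → ℂ) 1) = 0 := by linear_combination -h2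
    rcases mul_eq_zero.mp h3 with h4 | h4
    · exact absurd (sub_eq_zero.mp h4) h1
    · rw [← hdeg ψ hψ]
      exact eq_neg_of_add_eq_zero_left h4
  intro ψ hψ
  apply Subtype.ext
  funext g
  by_cases hg : g ∈ Subgroup.center G
  · by_cases hg1 : g = 1
    · rw [hg1, hdeg ψ hψ, hdeg χ hχ]
    · rw [hval ψ hψ g hg hg1, hval χ hχ g hg hg1]
  · rw [CfsgLib.EspChar.vanish hG ψ.2 hψ hg, CfsgLib.EspChar.vanish hG χ.2 hχ hg]

theorem s4762 {p : ℕ} [hpf : Fact p.Prime] [hnil : Group.IsNilpotent G] :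
    Nat.card {χ : IrrCharacter G // p ∣ charDegree (χ : G → ℂ)} = 1 ↔ (p = 2 ∧ IsExtraspecial 2 G) := by
  have hp : p.Prime := Fact.out
  constructor
  · intro h
    obtain ⟨⟨hsub⟩, ⟨χ, hχ⟩⟩ := Nat.card_eq_one_iff_unique.mp h
    have huniq : ∀ ψ : IrrCharacter G, p ∣ charDegree (ψ : G → ℂ) → ψ = χ := fun ψ hψ => congrArg Subtype.val (hsub ⟨ψ, hψ⟩ ⟨χ, hχ⟩)
    have hG := isPGroup_of_one hχ huniq
    exact esp_of_one hG ((dvd_degree_iff hp hG χ).mp hχ) (fun ψ hψ => huniq ψ ((dvd_degree_iff hp hG ψ).mpr hψ))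
  · rintro ⟨rfl, hG⟩
    obtain ⟨χ, hχ, huniq⟩ := unique_of_esp hG
    rw [Nat.card_eq_one_iff_unique]
    refine ⟨⟨?_⟩, ⟨⟨χ, (dvd_degree_iff hp hG.1.1 χ).mpr hχ⟩⟩⟩
    rintro ⟨a, ha⟩ ⟨b, hb⟩
    apply Subtype.ext
    change a = b
    rw [huniq a ((dvd_degree_iff hp hG.1.1 a).mp ha), huniq b ((dvd_degree_iff hp hG.1.1 b).mp hb)]

end CfsgLib.Block
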