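import Cfsg.Agent.Lib.BEasy24
import Cfsg.Agent.Lib.BEasy28

/-!
# Characters with `χ(1) - χ(u)` constant
-/

set_option autoImplicit false
set_option linter.style.haveILetI false
set_option linter.unusedSectionVars false
set_option linter.unusedVariables false

open scoped ComplexConjugate Pointwise

namespace CfsgLib.Block

open Cfsg CfsgLib.CharBasic

universe u v w

variable {G : Type u} [Group G] [Fintype G]

/-- linear characters as irreducible characters -/
noncomputable def linIrr (lam : G →* ℂˣ) : IrrCharacter G := ⟨fun g => (lam g : ℂ), isIrr_linear lam⟩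

theorem linIrr_apply (lam : G →* ℂˣ) (g : G) : (linIrr lam : G → ℂ) g = lam g := rfl

theorem col_zero {u : G} (hu : u ≠ 1) : ∑ χ : IrrCharacter G, (χ : G → ℂ) 1 * conj ((χ : G → ℂ) u) = 0 := by
  apply sum_irr_mul_conj_of_not_isConj
  intro h
  exact hu (isConj_one_right.mp h)

theorem ne_one_iff (χ : IrrCharacter G) : (χ : G → ℂ) ≠ (fun _ => (1 : ℂ)) ↔ χ ≠ irrOne G := by
  constructor
  · rintro h rfl; exact h rfl
  · intro h h1; exact h (Subtype.ext h1)

variable {u : G} {c : ℂ}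

theorem c_ne_zero (hu : u ≠ 1) (hyp : ∀ χ : IrrCharacter G, (χ : G → ℂ) ≠ (fun _ => (1 : ℂ)) → ((χ : G → ℂ) 1 - (χ : G → ℂ) u = c ∨ (χ : G → ℂ) u = 0)) : c ≠ 0 := by
  classical
  rintro rfl
  have h1 := col_zero hu
  have h2 := congrArg Complex.re h1
  rw [Complex.re_sum, Complex.zero_re] at h2
  have h3 : ∀ χ ∈ (Finset.univ : Finset (IrrCharacter G)), 0 ≤ ((χ : G → ℂ) 1 * conj ((χ : G → ℂ) u)).re := by
    intro χ _
    by_cases h : (χ : G → ℂ) = fun _ => (1 : ℂ)
    · rw [h]; simp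
    · rcases hyp χ h with h4 | h4
      · have h5 : (χ : G → ℂ) u = (χ : G → ℂ) 1 := (sub_eq_zero.mp h4).symm
        rw [h5, Complex.mul_conj, Complex.ofReal_re]
        exact Complex.normSq_nonneg _
      · rw [h4, map_zero, mul_zero, Complex.zero_re]
  have h4 := (Finset.sum_eq_zero_iff_of_nonneg h3).mp h2 (irrOne G) (Finset.mem_univ _)
  have : ∀ s : G, (irrOne G : G → ℂ) s = 1 := fun s => rfl
  rw [this, this] at h4
  simp at h4

theorem lin_val (hu : u ≠ 1) (hyp : ∀ χ : IrrCharacter G, (χ : G → ℂ) ≠ (fun _ => (1 : ℂ)) → ((χ : G → ℂ) 1 - (χ : G → ℂ) u = c ∨ (χ : G → ℂ) u = 0))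
    (lam : G →* ℂˣ) (hlam : lam ≠ 1) : (lam u : ℂ) = 1 - c := by
  have h1 := hyp (linIrr lam) (by
    intro h
    apply hlam
    ext g
    exact congrFun h g)
  rw [linIrr_apply, linIrr_apply, map_one, Units.val_one] at h1
  rcases h1 with h1 | h1
  · rw [← h1]; ring
  · exact absurd h1 (Units.ne_zero _)

theorem c_eq_two (hu : u ≠ 1) (hyp : ∀ χ : IrrCharacter G, (χ : G → ℂ) ≠ (fun _ => (1 : ℂ)) → ((χ : G → ℂ) 1 - (χ : G → ℂ) u = c ∨ (χ : G → ℂ) u = 0))
    (h : commutator G ≠ ⊤) : c = 2 := by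
  have hc := c_ne_zero hu hyp
  obtain ⟨x, hx⟩ : ∃ x : G, x ∉ commutator G := by
    by_contra hcon
    push Not at hcon
    exact h (eq_top_iff.mpr fun y _ => hcon y)
  obtain ⟨lam, hlam⟩ := exists_linear_ne hx
  have hlam1 : lam ≠ 1 := by
    rintro rfl
    exact hlam rfl
  have h1 := lin_val hu hyp lam hlam1
  by_cases h2 : lam * lam = 1
  · have h3 : (lam u : ℂ) * (lam u : ℂ) = 1 := by
      have := congrArg (fun f : G →* ℂˣ => ((f u : ℂˣ) : ℂ)) h2
      simpa using this
    rw [h1] at h3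
    have h4 : c * (c - 2) = 0 := by linear_combination h3
    rcases mul_eq_zero.mp h4 with h5 | h5
    · exact absurd h5 hc
    · exact sub_eq_zero.mp h5
  · exfalso
    have h3 := lin_val hu hyp (lam * lam) h2
    have h4 : (((lam * lam) u : ℂˣ) : ℂ) = (lam u : ℂ) * (lam u : ℂ) := by simp
    rw [h4, h1] at h3
    have h5 : c * (c - 1) = 0 := by linear_combination h3
    rcases mul_eq_zero.mp h5 with h6 | h6
    · exact hc h6
    · have h7 : c = 1 := sub_eq_zero.mp h6
      rw [h7, sub_self] at h1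
      exact Units.ne_zero _ h1

/-- the case `c = 2` -/
theorem of_two (hu : u ≠ 1) (hyp : ∀ χ : IrrCharacter G, (χ : G → ℂ) ≠ (fun _ => (1 : ℂ)) → ((χ : G → ℂ) 1 - (χ : G → ℂ) u = 2 ∨ (χ : G → ℂ) u = 0)) :
    orderOf u = 2 ∧ Subgroup.centralizer ({u} : Set G) = Subgroup.zpowers u ∧ ∃ lam : G →* ℂˣ, lam * lam = 1 ∧ (lam u : ℂ) = -1 := by
  classical
  -- the real numbers `χ(1) χ(u)`
  have hint : ∀ χ : IrrCharacter G, ∃ n : ℕ, 1 ≤ n ∧ (χ : G → ℂ) 1 = n ∧ (χ = irrOne G ∨ (χ : G → ℂ) u = ((n : ℤ) - 2 : ℤ) ∨ (χ : G → ℂ) u = 0) := by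
    intro χ
    refine ⟨charDegree (χ : G → ℂ), Nat.one_le_iff_ne_zero.mpr (charDegree_ne_zero χ.2), charDegree_one χ, ?_⟩
    by_cases h : χ = irrOne G
    · exact Or.inl h
    · right
      rcases hyp χ ((ne_one_iff χ).mpr h) with h1 | h1
      · left
        rw [← sub_sub_cancel ((χ : G → ℂ) 1) ((χ : G → ℂ) u), h1, charDegree_one χ]
        push_cast; ring
      · exact Or.inr h1
  choose n hn1 hn h using hint
  -- some linear character takes the value `-1`
  have hlin : ∃ χ : IrrCharacter G, χ ≠ irrOne G ∧ n χ = 1 := by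
    by_contra hcon
    push Not at hcon
    have h1 := congrArg Complex.re (col_zero hu)
    rw [Complex.re_sum, Complex.zero_re] at h1
    have h3 : ∀ χ ∈ (Finset.univ : Finset (IrrCharacter G)), 0 ≤ ((χ : G → ℂ) 1 * conj ((χ : G → ℂ) u)).re := by
      intro χ _
      rcases h χ with h4 | h4 | h4
      · have h5 : (χ : G → ℂ) u = 1 := by rw [h4]; rfl
        rw [hn, h5]; simp
      · by_cases h5 : χ = irrOne G
        · have h6 : (χ : G → ℂ) u = 1 := by rw [h5]; rfl
          rw [hn, h6]; simp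
        · have h6 := hcon χ h5
          have h7 : 2 ≤ n χ := by have := hn1 χ; omega
          rw [hn, h4]
          have : ((n χ : ℂ) * conj (((n χ : ℤ) - 2 : ℤ) : ℂ)).re = (n χ : ℝ) * ((n χ : ℝ) - 2) := by
            rw [map_intCast]
            push_cast
            simp
          rw [this]
          have h8 : (2 : ℝ) ≤ (n χ : ℝ) := by exact_mod_cast h7
          exact mul_nonneg (by linarith) (by linarith)
      · rw [h4, map_zero, mul_zero, Complex.zero_re]
    have h4 := (Finset.sum_eq_zero_iff_of_nonneg h3).mp h1 (irrOne G) (Finset.mem_univ _)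
    have : ∀ s : G, (irrOne G : G → ℂ) s = 1 := fun s => rfl
    rw [this, this] at h4
    simp at h4
  obtain ⟨lamχ, hl1, hl2⟩ := hlin
  obtain ⟨lam, hlam⟩ := IsCharacter.exists_linear (irr_isCharacter lamχ) (by rw [hn, hl2]; simp)
  have hlinval : ∀ μ : G →* ℂˣ, μ ≠ 1 → (μ u : ℂ) = -1 := by
    intro μ hμ
    rw [lin_val hu hyp μ hμ]; norm_num
  have hlam1 : lam ≠ 1 := by
    rintro rfl
    apply hl1
    apply Subtype.ext
    funext g
    rw [hlam]; rfl
  have hlamu := hlinval lam hlam1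
  have huniq : ∀ μ : G →* ℂˣ, μ ≠ 1 → μ * lam = 1 := by
    intro μ hμ
    by_contra h1
    have h2 := hlinval _ h1
    have h3 : (((μ * lam) u : ℂˣ) : ℂ) = (μ u : ℂ) * (lam u : ℂ) := by simp
    rw [h3, hlinval μ hμ, hlamu] at h2
    norm_num at h2
  have hlam2 := huniq lam hlam1
  have huniq' : ∀ χ : IrrCharacter G, n χ = 1 → χ ≠ irrOne G → χ = lamχ := by
    intro χ h1 h2
    obtain ⟨μ, hμ⟩ := IsCharacter.exists_linear (irr_isCharacter χ) (by rw [hn, h1]; simp)
    have hμ1 : μ ≠ 1 := by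
      rintro rfl
      apply h2
      apply Subtype.ext
      funext g
      rw [hμ]; rfl
    have h3 := huniq μ hμ1
    have h4 : μ = lam := mul_right_cancel (h3.trans hlam2.symm)
    apply Subtype.ext
    funext g
    rw [hμ, hlam, h4]
  -- all other characters vanish at `u`
  have hvan : ∀ χ : IrrCharacter G, χ ≠ irrOne G → χ ≠ lamχ → (χ : G → ℂ) u = 0 := by
    have h1 := congrArg Complex.re (col_zero hu)
    rw [Complex.re_sum, Complex.zero_re] at h1
    rw [← Finset.add_sum_erase _ _ (Finset.mem_univ (irrOne G)), ← Finset.add_sum_erase _ _ (Finset.mem_erase.mpr ⟨hl1, Finset.mem_univ lamχ⟩)] at h1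
    have e1 : ((irrOne G : G → ℂ) 1 * conj ((irrOne G : G → ℂ) u)).re = 1 := by
      have : ∀ s : G, (irrOne G : G → ℂ) s = 1 := fun s => rfl
      rw [this, this]; simp
    have e2 : ((lamχ : G → ℂ) 1 * conj ((lamχ : G → ℂ) u)).re = -1 := by
      rw [hlam, hlam, hlamu]; simp
    rw [e1, e2] at h1
    have h2 : ∑ χ ∈ (Finset.univ.erase (irrOne G)).erase lamχ, ((χ : G → ℂ) 1 * conj ((χ : G → ℂ) u)).re = 0 := by linarith
    have h3 : ∀ χ ∈ (Finset.univ.erase (irrOne G)).erase lamχ, 0 ≤ ((χ : G → ℂ) 1 * conj ((χ : G → ℂ) u)).re := by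
      intro χ hχ
      rw [Finset.mem_erase, Finset.mem_erase] at hχ
      rcases h χ with h4 | h4 | h4
      · exact absurd h4 hχ.2.1
      · have h7 : 2 ≤ n χ := by
          have := hn1 χ
          by_contra h8
          exact hχ.1 (huniq' χ (by omega) hχ.2.1)
        rw [hn, h4]
        have : ((n χ : ℂ) * conj (((n χ : ℤ) - 2 : ℤ) : ℂ)).re = (n χ : ℝ) * ((n χ : ℝ) - 2) := by
          rw [map_intCast]
          push_cast
          simp
        rw [this]
        have h8 : (2 : ℝ) ≤ (n χ : ℝ) := by exact_mod_cast h7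
        exact mul_nonneg (by linarith) (by linarith)
      · rw [h4, map_zero, mul_zero, Complex.zero_re]
    intro χ hχ1 hχ2
    have h4 := (Finset.sum_eq_zero_iff_of_nonneg h3).mp h2 χ (Finset.mem_erase.mpr ⟨hχ2, Finset.mem_erase.mpr ⟨hχ1, Finset.mem_univ _⟩⟩)
    rcases h χ with h5 | h5 | h5
    · exact absurd h5 hχ1
    · rw [hn, h5] at h4
      have : ((n χ : ℂ) * conj (((n χ : ℤ) - 2 : ℤ) : ℂ)).re = (n χ : ℝ) * ((n χ : ℝ) - 2) := by
        rw [map_intCast]
        push_cast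
        simp
      rw [this] at h4
      rcases mul_eq_zero.mp h4 with h6 | h6
      · have := hn1 χ
        have h7 : n χ = 0 := by exact_mod_cast h6
        omega
      · have h7 : (n χ : ℝ) = 2 := by linarith
        have h8 : n χ = 2 := by exact_mod_cast h7
        rw [h5, h8]; norm_num
    · exact h5
  -- the centralizer has order two
  have hcent : Nat.card (Subgroup.centralizer ({u} : Set G)) = 2 := by
    have h1 := sum_irr_mul_conj_of_isConj (IsConj.refl u)
    rw [← Finset.add_sum_erase _ _ (Finset.mem_univ (irrOne G)), ← Finset.add_sum_erase _ _ (Finset.mem_erase.mpr ⟨hl1, Finset.mem_univ lamχ⟩),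
      Finset.sum_eq_zero (s := (Finset.univ.erase (irrOne G)).erase lamχ)] at h1
    · have this : ∀ s : G, (irrOne G : G → ℂ) s = 1 := fun s => rfl
      rw [this, hlam, hlamu] at h1
      simp only [map_one, map_neg, mul_one, mul_neg, neg_neg, add_zero] at h1
      have h2 : ((2 : ℕ) : ℂ) = (Nat.card (Subgroup.centralizer ({u} : Set G)) : ℂ) := by
        rw [← h1]; norm_num
      exact_mod_cast h2.symm
    · intro χ hχ
      rw [Finset.mem_erase, Finset.mem_erase] at hχ
      rw [hvan χ hχ.2.1 hχ.1, zero_mul]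
  have hord : orderOf u = 2 := by
    have h1 := orderOf_dvd_natCard (⟨u, by rw [Subgroup.mem_centralizer_singleton_iff]⟩ : Subgroup.centralizer ({u} : Set G))
    rw [Subgroup.orderOf_mk, hcent] at h1
    rcases (Nat.dvd_prime Nat.prime_two).mp h1 with h2 | h2
    · exact absurd (orderOf_eq_one_iff.mp h2) hu
    · exact h2
  refine ⟨hord, ?_, lam, hlam2, hlamu⟩
  symm
  apply Subgroup.eq_of_le_of_card_ge
  · rw [Subgroup.zpowers_le, Subgroup.mem_centralizer_singleton_iff]
  · rw [hcent, Nat.card_zpowers, hord]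

theorem s4757 (hu : u ≠ 1) (hyp : ∀ χ : IrrCharacter G, (χ : G → ℂ) ≠ (fun _ => (1 : ℂ)) → ((χ : G → ℂ) 1 - (χ : G → ℂ) u = c ∨ (χ : G → ℂ) u = 0)) :
    ((orderOf u = 2 ∧ Subgroup.zpowers u ⊔ pPrimeCore 2 G = ⊤ ∧ Subgroup.centralizer ({u} : Set G) = Subgroup.zpowers u) ↔ commutator G ≠ ⊤) ∧ (commutator G ≠ ⊤ ↔ c = 2) := by
  haveI : Fact (Nat.Prime 2) := ⟨Nat.prime_two⟩
  haveI hKn : (pPrimeCore 2 G).Normal := CfsgLib.Core.pPrimeCore_normal 2 G
  have hd : ¬ 2 ∣ Nat.card (pPrimeCore 2 G) := not_dvd_pPrimeCore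
  have h1 : (orderOf u = 2 ∧ Subgroup.zpowers u ⊔ pPrimeCore 2 G = ⊤ ∧ Subgroup.centralizer ({u} : Set G) = Subgroup.zpowers u) → commutator G ≠ ⊤ := by
    rintro ⟨ho, htop, -⟩ htop2
    have h2 : commutator G ≤ pPrimeCore 2 G := by
      rw [_root_.commutator_def, Subgroup.commutator_le]
      intro g _ k _
      have hg : g ∈ Subgroup.zpowers u ⊔ pPrimeCore 2 G := by rw [htop]; trivial
      have hk : k ∈ Subgroup.zpowers u ⊔ pPrimeCore 2 G := by rw [htop]; trivial
      rw [Subgroup.mem_sup_of_normal_right] at hg hk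
      obtain ⟨a, ha, s, hs, rfl⟩ := hg
      obtain ⟨b, hb, t, ht, rfl⟩ := hk
      rw [commutatorElement_def, ← QuotientGroup.eq_one_iff]
      have e1 : ((a * s : G) : G ⧸ pPrimeCore 2 G) = (a : G ⧸ pPrimeCore 2 G) := by rw [QuotientGroup.mk_mul, (QuotientGroup.eq_one_iff s).mpr hs, mul_one]
      have e2 : ((b * t : G) : G ⧸ pPrimeCore 2 G) = (b : G ⧸ pPrimeCore 2 G) := by rw [QuotientGroup.mk_mul, (QuotientGroup.eq_one_iff t).mpr ht, mul_one]
      rw [QuotientGroup.mk_mul, QuotientGroup.mk_mul, QuotientGroup.mk_mul, QuotientGroup.mk_inv, QuotientGroup.mk_inv, e1, e2,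
        ← QuotientGroup.mk_mul, CfsgLib.SelfCent.comm_zpowers ha hb, QuotientGroup.mk_mul]
      group
    rw [htop2, top_le_iff] at h2
    have h3 : (u : G) ∈ pPrimeCore 2 G := by rw [h2]; trivial
    have h4 := orderOf_dvd_natCard (⟨u, h3⟩ : pPrimeCore 2 G)
    rw [Subgroup.orderOf_mk, ho] at h4
    exact hd h4
  have h2 : c = 2 → (orderOf u = 2 ∧ Subgroup.zpowers u ⊔ pPrimeCore 2 G = ⊤ ∧ Subgroup.centralizer ({u} : Set G) = Subgroup.zpowers u) := by
    rintro rfl
    obtain ⟨ho, hC, lam, hlam, hlamu⟩ := of_two hu hyp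
    refine ⟨ho, ?_, hC⟩
    have hSC : CfsgLib.SelfCent.SC 2 u := ⟨ho, hC⟩
    have hfac := hSC.card_eq
    -- the kernel of `lam` has odd order
    have hval : ∀ g : G, lam g = 1 ∨ lam g = lam u := by
      intro g
      have h3 : lam g * lam g = 1 := by
        have := congrArg (fun f : G →* ℂˣ => f g) hlam
        simpa using this
      have h4 : (lam g : ℂ) * (lam g : ℂ) = 1 := by
        have := congrArg (fun z : ℂˣ => (z : ℂ)) h3
        simpa using this
      rcases mul_self_eq_one_iff.mp h4 with h5 | h5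
      · left; exact Units.ext h5
      · right; exact Units.ext (by rw [h5, hlamu])
    have hlamu2 : lam u * lam u = 1 := by
      have := congrArg (fun f : G →* ℂˣ => f u) hlam
      simpa using this
    have hnotmem : u ∉ lam.ker := by
      intro h3
      rw [MonoidHom.mem_ker] at h3
      rw [h3] at hlamu
      norm_num at hlamu
    have hker : ¬ 2 ∣ Nat.card lam.ker := by
      intro h3
      exact hnotmem (hSC.mem_of_dvd h3)
    have hle : lam.ker ≤ pPrimeCore 2 G := CfsgLib.Core.le_pPrimeCore inferInstance (((Nat.Prime.coprime_iff_not_dvd Nat.prime_two).mpr hker).symm)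
    rw [eq_top_iff]
    intro g _
    rcases hval g with h3 | h3
    · exact Subgroup.mem_sup_right (hle (MonoidHom.mem_ker.mpr h3))
    · have h4 : u * g ∈ lam.ker := by
        rw [MonoidHom.mem_ker, map_mul, h3, hlamu2]
      have h5 : g = u⁻¹ * (u * g) := by group
      rw [h5]
      exact mul_mem (inv_mem (Subgroup.mem_sup_left (Subgroup.mem_zpowers u))) (Subgroup.mem_sup_right (hle h4))
  have h3 : commutator G ≠ ⊤ → c = 2 := c_eq_two hu hyp
  exact ⟨⟨h1, fun h => h2 (h3 h)⟩, ⟨h3, fun h => h1 (h2 h)⟩⟩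

end CfsgLib.Block
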