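import Cfsg.Agent.Lib.BEasy30
import Cfsg.Agent.Lib.DetExt4

/-!
# Linear characters and characters induced from the stabilizer
-/

set_option autoImplicit false
set_option linter.style.haveILetI false
set_option linter.unusedSectionVars false
set_option linter.unusedVariables false

open scoped ComplexConjugate Pointwise commutatorElement

namespace CfsgLib.Block

open Cfsg CfsgLib.CharBasic CfsgLib.CharInd CfsgLib.CharClifford CfsgLib.CliffordCorr

universe u v w

section

variable {G : Type u} [Group G] [Fintype G]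

theorem linIrr_injective : Function.Injective (linIrr (G := G)) := by
  intro a b h
  ext g
  exact congrFun (congrArg Subtype.val h) g

instance : Finite (G →* ℂˣ) := Finite.of_injective _ (linIrr_injective (G := G))

/-- the number of linear characters trivial on `I` -/
theorem card_triv (I : Subgroup G) : Nat.card {lam : G →* ℂˣ // ∀ i ∈ I, lam i = 1} ≤ I.index := by
  classical
  haveI : Fintype {lam : G →* ℂˣ // ∀ i ∈ I, lam i = 1} := Fintype.ofFinite _
  haveI : Fintype (G ⧸ I) := Fintype.ofFinite _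
  let f : {lam : G →* ℂˣ // ∀ i ∈ I, lam i = 1} → (G ⧸ I → ℂ) := fun lam q => (lam.1 q.out : ℂ)
  let F : (G ⧸ I → ℂ) →ₗ[ℂ] (G → ℂ) := LinearMap.funLeft ℂ ℂ (QuotientGroup.mk (s := I))
  have h1 : LinearIndependent ℂ (fun lam : {lam : G →* ℂˣ // ∀ i ∈ I, lam i = 1} => F (f lam)) := by
    have h2 : ∀ lam : {lam : G →* ℂˣ // ∀ i ∈ I, lam i = 1}, F (f lam) = (((Units.coeHom ℂ).comp lam.1 : G →* ℂ) : G → ℂ) := by
      intro lam
      funext g
      change (lam.1 ((QuotientGroup.mk g : G ⧸ I).out) : ℂ) = (lam.1 g : ℂ)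
      obtain ⟨i, hi⟩ := QuotientGroup.mk_out_eq_mul I g
      rw [hi, map_mul, lam.2 i i.2, mul_one]
    simp only [h2]
    exact (linearIndependent_monoidHom G ℂ).comp (fun lam : {lam : G →* ℂˣ // ∀ i ∈ I, lam i = 1} => (Units.coeHom ℂ).comp lam.1) (by
      intro a b h
      apply Subtype.ext
      ext g
      exact congrArg (fun f : G →* ℂ => f g) h)
  have h3 := (LinearIndependent.of_comp F h1).fintype_card_le_finrank
  rw [Module.finrank_fintype_fun_eq_card] at h3
  rw [Nat.card_eq_fintype_card, Subgroup.index_eq_card, Nat.card_eq_fintype_card]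
  exact h3

theorem card_res_le (I : Subgroup G) (s : Finset (G →* ℂˣ)) (t : Finset (I →* ℂˣ)) (hst : ∀ lam ∈ s, lam.comp I.subtype ∈ t) : s.card ≤ I.index * t.card := by
  classical
  have h1 : (s.image (fun lam => lam.comp I.subtype)).card ≤ t.card := by
    apply Finset.card_le_card
    intro μ hμ
    obtain ⟨lam, hlam, rfl⟩ := Finset.mem_image.mp hμ
    exact hst lam hlam
  refine (Finset.card_le_mul_card_image (f := fun lam : G →* ℂˣ => lam.comp I.subtype) s I.index ?_).trans (Nat.mul_le_mul_left _ h1)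
  intro μ hμ
  obtain ⟨lam₀, hlam₀, rfl⟩ := Finset.mem_image.mp hμ
  refine le_trans ?_ (card_triv I)
  rw [← Fintype.card_coe, ← Nat.card_eq_fintype_card]
  apply Nat.card_le_card_of_injective (fun a : {a : G →* ℂˣ // a ∈ s.filter (fun lam => lam.comp I.subtype = lam₀.comp I.subtype)} =>
    (⟨a.1 * lam₀⁻¹, by
      intro i hi
      have h2 := (Finset.mem_filter.mp a.2).2
      have h3 := congrArg (fun f : I →* ℂˣ => f ⟨i, hi⟩) h2
      have h4 : a.1 i = lam₀ i := h3
      rw [MonoidHom.mul_apply, MonoidHom.inv_apply, h4, mul_inv_cancel]⟩ : {lam : G →* ℂˣ // ∀ i ∈ I, lam i = 1}))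
  intro a b h
  have h2 := congrArg Subtype.val h
  exact Subtype.ext (mul_right_cancel h2)

theorem perfect_of_min {N : Subgroup G} (hN : N.Normal) (hmin : ∀ M : Subgroup G, M.Normal → M ≤ N → M = ⊥ ∨ M = N) (hna : ¬ IsMulCommutative ↥N) : ⁅N, N⁆ = N := by
  rcases hmin ⁅N, N⁆ (Subgroup.commutator_normal N N) (Subgroup.commutator_le_left N N) with h | h
  · exfalso
    apply hna
    refine ⟨⟨fun a b => Subtype.ext ?_⟩⟩
    have h1 : ⁅(a : G), (b : G)⁆ ∈ ⁅N, N⁆ := Subgroup.commutator_mem_commutator a.2 b.2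
    rw [h, Subgroup.mem_bot, commutatorElement_eq_one_iff_mul_comm] at h1
    exact h1
  · exact h

theorem lin_triv {N I : Subgroup G} (hperf : ⁅N, N⁆ = N) (hNI : N ≤ I) (lam : I →* ℂˣ) (n : N) : lam (Subgroup.inclusion hNI n) = 1 := by
  have h1 : N ≤ (lam.ker).map I.subtype := by
    conv_lhs => rw [← hperf]
    rw [Subgroup.commutator_le]
    intro a ha b hb
    refine ⟨⁅(⟨a, hNI ha⟩ : I), ⟨b, hNI hb⟩⁆, ?_, rfl⟩
    rw [SetLike.mem_coe, MonoidHom.mem_ker, map_commutatorElement, commutatorElement_eq_one_iff_mul_comm]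
    exact mul_comm _ _
  obtain ⟨i, hi, hin⟩ := h1 n.2
  have h2 : i = Subgroup.inclusion hNI n := Subtype.ext hin
  rw [← h2]
  exact MonoidHom.mem_ker.mp hi

/-- the induced characters -/
theorem ind_lin {N : Subgroup G} [hN : N.Normal] (hperf : ⁅N, N⁆ = N) (φ : IrrCharacter N) (I : Subgroup G) (hI : inertia (φ : N → ℂ) ≤ I) (hNI : N ≤ I)
    {ψ : I → ℂ} (hψ : IsIrrCharacter I ψ) (hext : ∀ n : N, ψ (Subgroup.inclusion hNI n) = (φ : N → ℂ) n) :
    (∀ lam : I →* ℂˣ, IsIrrCharacter G (indFun I (fun i => (lam i : ℂ) * ψ i)) ∧ charDegree (indFun I (fun i => (lam i : ℂ) * ψ i)) = charDegree (φ : N → ℂ) * I.index) ∧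
    (∀ lam μ : I →* ℂˣ, indFun I (fun i => (lam i : ℂ) * ψ i) = indFun I (fun i => (μ i : ℂ) * ψ i) → lam = μ) := by
  classical
  haveI : Fintype N := Fintype.ofFinite N
  haveI : Fintype I := Fintype.ofFinite I
  have hres : ∀ lam : I →* ℂˣ, resTo hNI (fun i => (lam i : ℂ) * ψ i) = (φ : N → ℂ) := by
    intro lam
    funext n
    change (lam (Subgroup.inclusion hNI n) : ℂ) * ψ (Subgroup.inclusion hNI n) = _
    rw [lin_triv hperf hNI lam n, hext]
    simp
  have hne : ∀ lam : I →* ℂˣ, classInner (resTo hNI (fun i => (lam i : ℂ) * ψ i)) (φ : N → ℂ) ≠ 0 := by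
    intro lam
    rw [hres, IsIrrCharacter.inner_self φ.2]
    exact one_ne_zero
  have hirr : ∀ lam : I →* ℂˣ, IsIrrCharacter I (fun i => (lam i : ℂ) * ψ i) := fun lam => IsCharacter.mul_linear_isIrr hψ lam
  refine ⟨fun lam => ⟨(ind_irr hNI φ.2 hI (hirr lam) (hne lam)).1, ?_⟩, ?_⟩
  · have h1 : indFun I (fun i => (lam i : ℂ) * ψ i) 1 = ((charDegree (φ : N → ℂ) * I.index : ℕ) : ℂ) := by
      rw [indFun_one]
      have h2 : ψ 1 = (φ : N → ℂ) 1 := by
        rw [← hext 1, map_one]
      simp only [map_one, Units.val_one, one_mul]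
      rw [h2, charDegree_one φ]
      push_cast; ring
    exact charDegree_eq h1
  · intro lam μ h
    have h1 := ind_inj hNI φ.2 hI (hirr lam) (hne lam) (hirr μ) (hne μ) h
    -- nonvanishing on cosets
    have hN' : (N.subgroupOf I).Normal := inferInstance
    haveI : Fintype (N.subgroupOf I) := Fintype.ofFinite _
    have hresirr : IsIrrCharacter (N.subgroupOf I) (fun n : N.subgroupOf I => ψ n) := by
      have h2 := subFun_irr hNI φ.2
      have h3 : (fun n : N.subgroupOf I => ψ n) = subFun I (φ : N → ℂ) := by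
        funext n
        have := hext ⟨((n : I) : G), n.2⟩
        rw [subFun, ← this]
        rfl
      rw [h3]; exact h2
    ext g
    obtain ⟨n, hn⟩ : ∃ n : N.subgroupOf I, ψ ((n : I) * g) ≠ 0 := by
      by_contra hcon
      push Not at hcon
      have h2 := CfsgLib.DetExt4.coset_norm hψ hresirr g
      rw [Finset.sum_eq_zero (fun n _ => by rw [hcon n, zero_mul])] at h2
      exact (Nat.cast_ne_zero.mpr Nat.card_pos.ne' : (Nat.card (N.subgroupOf I) : ℂ) ≠ 0) h2.symm
    have h2 := congrFun h1 ((n : I) * g)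
    have h3 := mul_right_cancel₀ hn h2
    have hl : ∀ ν : I →* ℂˣ, ν ((n : I) * g) = ν g := by
      intro ν
      have h4 := lin_triv hperf hNI ν ⟨((n : I) : G), n.2⟩
      rw [map_mul]
      have h5 : ν (n : I) = 1 := h4
      rw [h5, one_mul]
    rw [hl, hl] at h3
    exact h3

theorem s4870 (N : Subgroup G) (hN : N.Normal) (hmin : ∀ M : Subgroup G, M.Normal → M ≤ N → M = ⊥ ∨ M = N) (hna : ¬ IsMulCommutative ↥N) (φ : IrrCharacter ↥N) (I : Subgroup G)
    (hI : ∀ g : G, g ∈ I ↔ ∀ n n' : ↥N, (n' : G) = g * (n : G) * g⁻¹ → (φ : ↥N → ℂ) n' = (φ : ↥N → ℂ) n) (hNI : N ≤ I)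
    (hext : ∃ ψ : IrrCharacter ↥I, ∀ n : ↥N, (ψ : ↥I → ℂ) (Subgroup.inclusion hNI n) = (φ : ↥N → ℂ) n) :
    Nat.card {χ : IrrCharacter G // charDegree (χ : G → ℂ) = 1} ≤ I.index * Nat.card {χ : IrrCharacter G // charDegree (χ : G → ℂ) = charDegree (φ : ↥N → ℂ) * I.index} := by
  classical
  haveI := hN
  obtain ⟨ψ, hψ⟩ := hext
  have hperf := perfect_of_min hN hmin hna
  have hI' : inertia (φ : N → ℂ) ≤ I := by
    intro g hg
    rw [hI]
    intro n n' hn
    rw [← mem_inertia'.mp hg n]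
    exact congrArg _ (Subtype.ext hn)
  obtain ⟨h1, h2⟩ := ind_lin hperf φ I hI' hNI ψ.2 hψ
  haveI : Fintype (G →* ℂˣ) := Fintype.ofFinite _
  haveI : Fintype I := Fintype.ofFinite I
  haveI : Fintype (I →* ℂˣ) := Fintype.ofFinite _
  have h3 := card_res_le I (Finset.univ : Finset (G →* ℂˣ)) (Finset.univ : Finset (I →* ℂˣ)) (fun _ _ => Finset.mem_univ _)
  rw [Finset.card_univ, Finset.card_univ] at h3
  have h4 : Nat.card {χ : IrrCharacter G // charDegree (χ : G → ℂ) = 1} ≤ Fintype.card (G →* ℂˣ) := by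
    rw [← Nat.card_eq_fintype_card]
    have hex : ∀ χ : {χ : IrrCharacter G // charDegree (χ : G → ℂ) = 1}, ∃ lam : G →* ℂˣ, ∀ g, (χ.1 : G → ℂ) g = lam g := by
      intro χ
      apply IsCharacter.exists_linear (irr_isCharacter χ.1)
      rw [charDegree_one, χ.2]; simp
    choose L hL using hex
    apply Nat.card_le_card_of_injective L
    intro a b h
    apply Subtype.ext
    apply Subtype.ext
    funext g
    rw [hL, hL, h]
  have h5 : Fintype.card (I →* ℂˣ) ≤ Nat.card {χ : IrrCharacter G // charDegree (χ : G → ℂ) = charDegree (φ : ↥N → ℂ) * I.index} := by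
    rw [← Nat.card_eq_fintype_card]
    apply Nat.card_le_card_of_injective (fun lam : I →* ℂˣ => (⟨⟨_, (h1 lam).1⟩, (h1 lam).2⟩ : {χ : IrrCharacter G // charDegree (χ : G → ℂ) = charDegree (φ : ↥N → ℂ) * I.index}))
    intro a b h
    exact h2 a b (congrArg Subtype.val (congrArg Subtype.val h))
  exact h4.trans (h3.trans (Nat.mul_le_mul_left _ h5))

end

end CfsgLib.Block
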