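import Cfsg.Agent.Lib.BEasy31
import Cfsg.Agent.Lib.BEasy26
import Cfsg.Agent.Lib.BEasy14
import Cfsg.Agent.Lib.CharFS

/-!
# Indicators of characters induced from the stabilizer
-/

set_option autoImplicit false
set_option linter.style.haveILetI false
set_option linter.unusedSectionVars false
set_option linter.unusedVariables false
set_option linter.unusedSimpArgs false

open scoped ComplexConjugate Pointwise Matrix commutatorElement

namespace CfsgLib.FSForm

open Cfsg CfsgLib.CharBasic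

universe u

variable {G : Type u} [Group G] [Fintype G] {n : ℕ}

section

variable (X Y : G → Matrix (Fin n) (Fin n) ℂ)

/-- the averaging operator for two families -/
noncomputable def Phi2 : Matrix (Fin n) (Fin n) ℂ →ₗ[ℂ] Matrix (Fin n) (Fin n) ℂ where
  toFun U := (Nat.card G : ℂ)⁻¹ • ∑ g : G, (X g)ᵀ * U * Y g
  map_add' U V := by
    rw [← smul_add, ← Finset.sum_add_distrib]
    congr 1
    apply Finset.sum_congr rfl
    intro g _
    rw [Matrix.mul_add, Matrix.add_mul]
  map_smul' c U := by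
    rw [RingHom.id_apply, smul_comm c, Finset.smul_sum (r := c)]
    congr 1
    apply Finset.sum_congr rfl
    intro g _
    rw [Matrix.mul_smul, Matrix.smul_mul]

theorem Phi2_apply (U : Matrix (Fin n) (Fin n) ℂ) : Phi2 X Y U = (Nat.card G : ℂ)⁻¹ • ∑ g : G, (X g)ᵀ * U * Y g := rfl

variable (hX : ∀ g h, X (g * h) = X g * X h) (hY : ∀ g h, Y (g * h) = Y g * Y h)

include hX hY in
theorem Phi2_inv (U : Matrix (Fin n) (Fin n) ℂ) (h : G) : (X h)ᵀ * Phi2 X Y U * Y h = Phi2 X Y U := by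
  rw [Phi2_apply, Matrix.mul_smul, Matrix.smul_mul, Matrix.mul_sum, Matrix.sum_mul]
  congr 1
  rw [← Equiv.sum_comp (Equiv.mulRight h) (fun g => (X g)ᵀ * U * Y g)]
  apply Finset.sum_congr rfl
  intro g _
  simp only [Equiv.coe_mulRight]
  rw [hX, hY, Matrix.transpose_mul]
  simp only [Matrix.mul_assoc]

theorem Phi2_of_inv {M : Matrix (Fin n) (Fin n) ℂ} (hM : ∀ g : G, (X g)ᵀ * M * Y g = M) : Phi2 X Y M = M := by
  rw [Phi2_apply, Finset.sum_congr rfl fun g _ => hM g, Finset.sum_const, Finset.card_univ, ← Nat.card_eq_fintype_card]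
  rw [← Nat.cast_smul_eq_nsmul ℂ, smul_smul, inv_mul_cancel₀ (by exact_mod_cast Nat.card_pos.ne'), one_smul]

include hX hY in
theorem isProj2 : LinearMap.IsProj (LinearMap.range (Phi2 X Y)) (Phi2 X Y) := by
  constructor
  · intro U; exact ⟨U, rfl⟩
  · rintro _ ⟨U, rfl⟩
    exact Phi2_of_inv X Y (Phi2_inv X Y hX hY U)

theorem trace_Phi2 : LinearMap.trace ℂ _ (Phi2 X Y) = (Nat.card G : ℂ)⁻¹ * ∑ g : G, (∑ i, X g i i) * (∑ i, Y g i i) := by
  rw [trace_matrix]
  have h : ∀ i j : Fin n, Phi2 X Y (Matrix.single i j 1) i j = (Nat.card G : ℂ)⁻¹ * ∑ g : G, X g i i * Y g j j := by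
    intro i j
    rw [Phi2_apply, Matrix.smul_apply, Matrix.sum_apply, smul_eq_mul]
    congr 1
    apply Finset.sum_congr rfl
    intro g _
    rw [mul_single_mul, Matrix.transpose_apply]
  simp only [h, ← Finset.mul_sum]
  congr 1
  simp only [Finset.sum_mul_sum]
  exact sum3 (fun g i j => X g i i * Y g j j)

include hX hY in
/-- Schur orthogonality -/
theorem orth (h0 : ∑ g : G, (∑ i, X g i i) * (∑ i, Y g i i) = 0) (k a l b : Fin n) : ∑ g : G, X g k a * Y g l b = 0 := by
  have h1 := (isProj2 X Y hX hY).trace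
  rw [trace_Phi2, h0, mul_zero] at h1
  have h2 : Module.finrank ℂ (LinearMap.range (Phi2 X Y)) = 0 := by exact_mod_cast h1.symm
  have h3 := Submodule.finrank_eq_zero.mp h2
  have h4 : Phi2 X Y (Matrix.single k l 1) = 0 := by
    have : Phi2 X Y (Matrix.single k l 1) ∈ LinearMap.range (Phi2 X Y) := ⟨_, rfl⟩
    rwa [h3, Submodule.mem_bot] at this
  have h5 := congrFun (congrFun h4 a) b
  rw [Phi2_apply, Matrix.smul_apply, Matrix.sum_apply, smul_eq_mul, Matrix.zero_apply] at h5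
  have h6 : (Nat.card G : ℂ)⁻¹ ≠ 0 := inv_ne_zero (by exact_mod_cast Nat.card_pos.ne')
  have h7 := (mul_eq_zero.mp h5).resolve_left h6
  rw [← h7]
  apply Finset.sum_congr rfl
  intro g _
  rw [mul_single_mul, Matrix.transpose_apply]

end

end CfsgLib.FSForm

namespace CfsgLib.Block

open Cfsg CfsgLib.CharBasic CfsgLib.CharInd CfsgLib.CharClifford CfsgLib.CliffordCorr CfsgLib.FSForm

universe u v w

variable {G : Type u} [Group G] [Fintype G]

/-- the indicator of a character induced from the stabilizer -/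
theorem fs_ind_stab {N : Subgroup G} [hN : N.Normal] (φ : IrrCharacter N) (hreal : ∀ n : N, ((φ : N → ℂ) n).im = 0) (I : Subgroup G) [Fintype I] (hI : inertia (φ : N → ℂ) ≤ I) (hNI : N ≤ I)
    {ψ : I → ℂ} (hψ : IsIrrCharacter I ψ) (hext : ∀ n : N, ψ (Subgroup.inclusion hNI n) = (φ : N → ℂ) n) :
    (Nat.card G : ℂ)⁻¹ * ∑ x : G, indFun I ψ (x * x) = (Nat.card I : ℂ)⁻¹ * ∑ i : I, ψ (i * i) := by
  classical
  haveI : Fintype N := Fintype.ofFinite N
  rw [fs_ind]
  congr 1
  obtain ⟨m, ρ, hρ, hρχ⟩ := hψ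
  obtain ⟨R, hRd⟩ : ∃ R : I → Matrix (Fin m) (Fin m) ℂ, ∀ g, LinearMap.toMatrix' (ρ g) = R g := ⟨_, fun g => rfl⟩
  have hR : ∀ g h, R (g * h) = R g * R h := by
    intro g h
    rw [← hRd, ← hRd, ← hRd, map_mul, Module.End.mul_eq_comp, LinearMap.toMatrix'_comp]
  have hchar : ∀ g, ψ g = ∑ i, R g i i := by
    intro g
    rw [← hRd, ← hρχ]
    exact toMatrix'_trace (ρ g)
  -- the sum outside `I`
  obtain ⟨F, hF⟩ : ∃ F : G → ℂ, ∀ x, F x = if x ∈ I then 0 else extendByZero I ψ (x * x) := ⟨_, fun x => rfl⟩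
  have hout : ∀ x : G, ∑ n : N, F ((n : G) * x) = 0 := by
    intro x
    by_cases hx : x ∈ I
    · apply Finset.sum_eq_zero
      intro n _
      rw [hF, if_pos (I.mul_mem (hNI n.2) hx)]
    · have hnx : ∀ n : N, (n : G) * x ∉ I := by
        intro n h
        apply hx
        have := I.mul_mem (I.inv_mem (hNI n.2)) h
        rwa [inv_mul_cancel_left] at this
      have hsq : ∀ n : N, (n : G) * x * ((n : G) * x) = (n : G) * (x * n * x⁻¹) * (x * x) := by intro n; group
      by_cases hxx : x * x ∈ I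
      · have h1 : ∀ n : N, F ((n : G) * x) = ∑ i, ∑ j, ∑ k, R (Subgroup.inclusion hNI n) i j * R (Subgroup.inclusion hNI ⟨x * n * x⁻¹, hN.conj_mem n n.2 x⟩) j k * R ⟨x * x, hxx⟩ k i := by
          intro n
          rw [hF, if_neg (hnx n), hsq]
          have h2 : (n : G) * (x * n * x⁻¹) * (x * x) = ((Subgroup.inclusion hNI n * Subgroup.inclusion hNI ⟨x * n * x⁻¹, hN.conj_mem n n.2 x⟩ * ⟨x * x, hxx⟩ : I) : G) := rfl
          rw [h2, ext_coe, hchar, hR, hR]
          simp only [Matrix.mul_apply, Finset.sum_mul]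
          apply Finset.sum_congr rfl
          intro i _
          rw [Finset.sum_comm]
        rw [Finset.sum_congr rfl fun n _ => h1 n, Finset.sum_comm]
        apply Finset.sum_eq_zero
        intro i _
        rw [Finset.sum_comm]
        apply Finset.sum_eq_zero
        intro j _
        rw [Finset.sum_comm]
        apply Finset.sum_eq_zero
        intro k _
        rw [← Finset.sum_mul]
        apply mul_eq_zero_of_left
        apply orth (fun n : N => R (Subgroup.inclusion hNI n)) (fun n : N => R (Subgroup.inclusion hNI ⟨x * n * x⁻¹, hN.conj_mem n n.2 x⟩))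
        · intro g h
          rw [map_mul, hR]
        · intro g h
          rw [← hR]
          congr 1
          apply Subtype.ext
          change x * ((g * h : N) : G) * x⁻¹ = (x * g * x⁻¹) * (x * h * x⁻¹)
          push_cast
          group
        · have h2 : ∀ n : N, (∑ i, R (Subgroup.inclusion hNI n) i i) * (∑ i, R (Subgroup.inclusion hNI ⟨x * n * x⁻¹, hN.conj_mem n n.2 x⟩) i i) = conjFn x (φ : N → ℂ) n * conj ((φ : N → ℂ) n) := by
            intro n
            rw [← hchar, ← hchar, hext, hext, Complex.conj_eq_iff_im.mpr (hreal n), mul_comm]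
            rfl
          simp only [h2]
          have h3 : classInner (conjFn x (φ : N → ℂ)) (φ : N → ℂ) = 0 := by
            apply IsIrrCharacter.inner_eq_zero (isIrr_conjFn φ.2 x) φ.2
            intro h4
            exact hx (hI (mem_inertia.mpr h4))
          rw [classInner] at h3
          exact (mul_eq_zero.mp h3).resolve_left (inv_ne_zero (by exact_mod_cast Nat.card_pos.ne'))
      · apply Finset.sum_eq_zero
        intro n _
        rw [hF, if_neg (hnx n), hsq]
        apply ext_of_not_mem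
        intro h
        apply hxx
        have h2 : (n : G) * (x * n * x⁻¹) ∈ I := I.mul_mem (hNI n.2) (hNI (hN.conj_mem n n.2 x))
        have := I.mul_mem (I.inv_mem h2) h
        rwa [inv_mul_cancel_left] at this
  have hsum : ∑ x : G, F x = 0 := by
    rw [← CfsgLib.DetExt4.sum_avg N F]
    apply Finset.sum_eq_zero
    intro x _
    rw [hout x, mul_zero]
  have hsplit : ∀ x : G, extendByZero I ψ (x * x) = (if x ∈ I then extendByZero I ψ (x * x) else 0) + F x := by
    intro x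
    rw [hF]
    by_cases hx : x ∈ I
    · rw [if_pos hx, if_pos hx, add_zero]
    · rw [if_neg hx, if_neg hx, zero_add]
  rw [Finset.sum_congr rfl fun x _ => hsplit x, Finset.sum_add_distrib, hsum, add_zero, ← Finset.sum_filter]
  symm
  apply Finset.sum_bij (fun (i : I) _ => (i : G))
  · intro i _
    rw [Finset.mem_filter]
    exact ⟨Finset.mem_univ _, i.2⟩
  · intro i _ j _ h
    exact Subtype.ext h
  · intro x hx
    exact ⟨⟨x, (Finset.mem_filter.mp hx).2⟩, Finset.mem_univ _, rfl⟩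
  · intro i _
    exact (ext_coe (i * i)).symm

theorem fs_sum_eq (ψ : G → ℂ) : ∑ᶠ g : G, ψ (g * g) = ∑ g : G, ψ (g * g) := finsum_eq_sum_of_fintype _

theorem real_of_fs {χ : G → ℂ} (hχ : IsIrrCharacter G χ) (h : (Nat.card G : ℂ)⁻¹ * ∑ g : G, χ (g * g) = 1) (g : G) : (χ g).im = 0 := by
  by_contra hcon
  have h1 := (CfsgLib.CharFS.frobenius_schur hχ).2.mpr ⟨g, hcon⟩
  rw [h1] at h
  exact zero_ne_one h

theorem s4912 (N : Subgroup G) (hN : N.Normal) (hmin : ∀ M : Subgroup G, M.Normal → M ≤ N → M = ⊥ ∨ M = N) (hna : ¬ IsMulCommutative ↥N) (φ : IrrCharacter ↥N) (I : Subgroup G)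
    (hI : ∀ g : G, g ∈ I ↔ ∀ n n' : ↥N, (n' : G) = g * (n : G) * g⁻¹ → (φ : ↥N → ℂ) n' = (φ : ↥N → ℂ) n) (hNI : N ≤ I)
    (hext : ∃ ψ : IrrCharacter ↥I, (Nat.card ↥I : ℂ)⁻¹ * ∑ᶠ g : ↥I, (ψ : ↥I → ℂ) (g * g) = 1 ∧ ∀ n : ↥N, (ψ : ↥I → ℂ) (Subgroup.inclusion hNI n) = (φ : ↥N → ℂ) n) :
    Nat.card {χ : IrrCharacter G // charDegree (χ : G → ℂ) = 1 ∧ (Nat.card G : ℂ)⁻¹ * ∑ᶠ g : G, (χ : G → ℂ) (g * g) = 1} ≤ I.index * Nat.card {χ : IrrCharacter G // charDegree (χ : G → ℂ) = charDegree (φ : ↥N → ℂ) * I.index ∧ (Nat.card G : ℂ)⁻¹ * ∑ᶠ g : G, (χ : G → ℂ) (g * g) = 1} := by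
  classical
  haveI := hN
  haveI : Fintype I := Fintype.ofFinite I
  obtain ⟨ψ, hfs, hψ⟩ := hext
  have hperf := perfect_of_min hN hmin hna
  have hI' : inertia (φ : N → ℂ) ≤ I := by
    intro g hg
    rw [hI]
    intro n n' hn
    rw [← mem_inertia'.mp hg n]
    exact congrArg _ (Subtype.ext hn)
  obtain ⟨h1, h2⟩ := ind_lin hperf φ I hI' hNI ψ.2 hψ
  rw [fs_sum_eq] at hfs
  have hψr := real_of_fs ψ.2 hfs
  have hreal : ∀ n : N, ((φ : N → ℂ) n).im = 0 := by
    intro n
    rw [← hψ]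
    exact hψr _
  haveI : Fintype (G →* ℂˣ) := Fintype.ofFinite _
  haveI : Fintype (I →* ℂˣ) := Fintype.ofFinite _
  have h3 := card_res_le I (Finset.univ.filter fun lam : G →* ℂˣ => lam * lam = 1) (Finset.univ.filter fun lam : I →* ℂˣ => lam * lam = 1) (by
    intro lam hlam
    rw [Finset.mem_filter] at hlam ⊢
    refine ⟨Finset.mem_univ _, ?_⟩
    ext i
    have h4 := congrArg (fun f : G →* ℂˣ => ((f (i : G) : ℂˣ) : ℂ)) hlam.2
    exact h4)
  have h4 : Nat.card {χ : IrrCharacter G // charDegree (χ : G → ℂ) = 1 ∧ (Nat.card G : ℂ)⁻¹ * ∑ᶠ g : G, (χ : G → ℂ) (g * g) = 1} ≤ (Finset.univ.filter fun lam : G →* ℂˣ => lam * lam = 1).card := by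
    rw [← Fintype.card_coe, ← Nat.card_eq_fintype_card]
    have hex : ∀ χ : {χ : IrrCharacter G // charDegree (χ : G → ℂ) = 1 ∧ (Nat.card G : ℂ)⁻¹ * ∑ᶠ g : G, (χ : G → ℂ) (g * g) = 1}, ∃ lam : {lam : G →* ℂˣ // lam ∈ Finset.univ.filter fun lam : G →* ℂˣ => lam * lam = 1}, ∀ g, (χ.1 : G → ℂ) g = lam.1 g := by
      intro χ
      obtain ⟨lam, hlam⟩ := IsCharacter.exists_linear (irr_isCharacter χ.1) (by rw [charDegree_one, χ.2.1]; simp)
      refine ⟨⟨lam, ?_⟩, hlam⟩
      rw [Finset.mem_filter]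
      refine ⟨Finset.mem_univ _, ?_⟩
      have hfs1 := χ.2.2
      rw [fs_sum_eq] at hfs1
      have hr := real_of_fs χ.1.2 hfs1
      ext g
      rw [MonoidHom.mul_apply, Units.val_mul, MonoidHom.one_apply, Units.val_one]
      have hn : ‖((lam g : ℂˣ) : ℂ)‖ = 1 := by
        have h5 : (lam g : ℂ) ^ (orderOf g) = 1 := by
          rw [← Units.val_pow_eq_pow_val, ← map_pow, pow_orderOf_eq_one, map_one, Units.val_one]
        exact Complex.norm_eq_one_of_pow_eq_one h5 (orderOf_pos g).ne'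
      have hi : ((lam g : ℂˣ) : ℂ).im = 0 := by
        rw [← hlam g]; exact hr g
      have h6 : conj ((lam g : ℂˣ) : ℂ) = lam g := Complex.conj_eq_iff_im.mpr hi
      have h7 := Complex.mul_conj' ((lam g : ℂˣ) : ℂ)
      rw [h6, hn] at h7
      rw [h7]; simp
    choose L hL using hex
    apply Nat.card_le_card_of_injective L
    intro a b h
    apply Subtype.ext
    apply Subtype.ext
    funext g
    rw [hL, hL, h]
  have h5 : (Finset.univ.filter fun lam : I →* ℂˣ => lam * lam = 1).card ≤ Nat.card {χ : IrrCharacter G // charDegree (χ : G → ℂ) = charDegree (φ : ↥N → ℂ) * I.index ∧ (Nat.card G : ℂ)⁻¹ * ∑ᶠ g : G, (χ : G → ℂ) (g * g) = 1} := by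
    rw [← Fintype.card_coe, ← Nat.card_eq_fintype_card]
    have key : ∀ lam : {lam : I →* ℂˣ // lam ∈ Finset.univ.filter fun lam : I →* ℂˣ => lam * lam = 1},
        (Nat.card G : ℂ)⁻¹ * ∑ᶠ g : G, indFun I (fun i => (lam.1 i : ℂ) * (ψ : I → ℂ) i) (g * g) = 1 := by
      intro lam
      rw [fs_sum_eq (indFun I (fun i => (lam.1 i : ℂ) * (ψ : I → ℂ) i))]
      have h6 : IsIrrCharacter I (fun i => (lam.1 i : ℂ) * (ψ : I → ℂ) i) := IsCharacter.mul_linear_isIrr ψ.2 lam.1
      rw [fs_ind_stab φ hreal I hI' hNI h6 (by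
        intro n
        change (lam.1 (Subgroup.inclusion hNI n) : ℂ) * (ψ : I → ℂ) (Subgroup.inclusion hNI n) = _
        rw [lin_triv hperf hNI lam.1 n, hψ]
        simp)]
      rw [← hfs]
      congr 1
      apply Finset.sum_congr rfl
      intro i _
      have h7 := (Finset.mem_filter.mp lam.2).2
      have h8 := congrArg (fun f : I →* ℂˣ => ((f i : ℂˣ) : ℂ)) h7
      have h9 : (lam.1 i : ℂ) * (lam.1 i : ℂ) = 1 := h8
      rw [map_mul, Units.val_mul, h9, one_mul]
    apply Nat.card_le_card_of_injective (fun lam : {lam : I →* ℂˣ // lam ∈ Finset.univ.filter fun lam : I →* ℂˣ => lam * lam = 1} => (⟨⟨_, (h1 lam.1).1⟩, (h1 lam.1).2, key lam⟩ : {χ : IrrCharacter G // charDegree (χ : G → ℂ) = charDegree (φ : ↥N → ℂ) * I.index ∧ (Nat.card G : ℂ)⁻¹ * ∑ᶠ g : G, (χ : G → ℂ) (g * g) = 1}))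
    intro a b h
    exact Subtype.ext (h2 a.1 b.1 (congrArg Subtype.val (congrArg Subtype.val h)))
  exact h4.trans (h3.trans (Nat.mul_le_mul_left _ h5))

end CfsgLib.Block
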