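import Cfsg.Agent.Lib.BEasy32

/-!
# Scalar actions and homocyclic Sylow 2-subgroups of rank two
-/

set_option autoImplicit false
set_option linter.style.haveILetI false
set_option linter.unusedSectionVars false
set_option linter.unusedVariables false

open scoped Pointwise

namespace CfsgLib.Homo2

universe u v

theorem s5011 {G : Type u} [Group G] [Finite G] [IsSimpleGroup G]
    {V : Type v} [AddCommGroup V] [Module ℂ V] [FiniteDimensional ℂ V]
    (ρ : Representation ℂ G V)
    (hirr : ∀ W : Submodule ℂ V, (∀ x : G, ∀ v ∈ W, ρ x v ∈ W) → W = ⊥ ∨ W = ⊤)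
    (hdim : 1 < Module.finrank ℂ V) (g : G) (hg : g ≠ 1) :
    ∃ W : Submodule ℂ V, W ≠ ⊥ ∧ W ≠ ⊤ ∧ ∀ c ∈ Subgroup.centralizer ({g} : Set G), ∀ v ∈ W, ρ c v ∈ W := by
  haveI : Nontrivial V := Module.nontrivial_of_finrank_pos (R := ℂ) (by omega)
  obtain ⟨μ, hμ⟩ := Module.End.exists_eigenvalue (ρ g)
  by_cases hE : Module.End.eigenspace (ρ g) μ = ⊤
  · exfalso
    let K : Subgroup G :=
      { carrier := {x | ∃ c : ℂ, ∀ v, ρ x v = c • v}
        mul_mem' := by
          rintro a b ⟨c, hc⟩ ⟨d, hd⟩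
          refine ⟨c * d, fun v => ?_⟩
          rw [map_mul, Module.End.mul_apply, hd, hc, smul_smul]
        one_mem' := ⟨1, fun v => by rw [map_one, Module.End.one_apply, one_smul]⟩
        inv_mem' := by
          rintro a ⟨c, hc⟩
          have h1 : ∀ v, ρ a⁻¹ (ρ a v) = v := by
            intro v
            rw [← Module.End.mul_apply, ← map_mul, inv_mul_cancel, map_one, Module.End.one_apply]
          have hc0 : c ≠ 0 := by
            rintro rfl
            obtain ⟨v, hv⟩ := exists_ne (0 : V)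
            apply hv
            rw [← h1 v, hc v, zero_smul, map_zero]
          refine ⟨c⁻¹, fun v => ?_⟩
          have h2 := h1 v
          rw [hc v, map_smul] at h2
          rw [← h2, smul_smul, inv_mul_cancel₀ hc0, one_smul, h2] }
    have hK : K.Normal := by
      refine ⟨?_⟩
      rintro a ⟨c, hc⟩ x
      refine ⟨c, fun v => ?_⟩
      rw [map_mul, map_mul, Module.End.mul_apply, Module.End.mul_apply, hc, map_smul, ← Module.End.mul_apply, ← map_mul, mul_inv_cancel, map_one, Module.End.one_apply]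
    have hgK : g ∈ K := by
      refine ⟨μ, fun v => ?_⟩
      have : v ∈ Module.End.eigenspace (ρ g) μ := by rw [hE]; exact Submodule.mem_top
      exact Module.End.mem_eigenspace_iff.mp this
    have hKt : K = ⊤ := by
      rcases IsSimpleGroup.eq_bot_or_eq_top_of_normal K hK with h | h
      · exfalso
        rw [h] at hgK
        exact hg (Subgroup.mem_bot.mp hgK)
      · exact h
    obtain ⟨v, hv⟩ := exists_ne (0 : V)
    rcases hirr (Submodule.span ℂ {v}) (by
      intro x w hw
      obtain ⟨c, hc⟩ : x ∈ K := by rw [hKt]; exact Subgroup.mem_top x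
      rw [hc]
      exact Submodule.smul_mem _ _ hw) with h | h
    · rw [Submodule.span_singleton_eq_bot] at h
      exact hv h
    · have h1 := finrank_span_singleton (K := ℂ) hv
      rw [h, finrank_top] at h1
      omega
  · refine ⟨_, hμ, hE, ?_⟩
    intro c hc v hv
    rw [Module.End.mem_eigenspace_iff] at hv ⊢
    have h1 : g * c = c * g := (Subgroup.mem_centralizer_iff.mp hc g rfl)
    rw [← Module.End.mul_apply, ← map_mul, h1, map_mul, Module.End.mul_apply, hv, map_smul]

theorem zmod_two_mul {m : ℕ} (hm : 1 ≤ m) (a : ZMod (2 ^ m)) (ha : a + a = 0) : a = 0 ∨ a = ((2 ^ (m - 1) : ℕ) : ZMod (2 ^ m)) := by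
  haveI : NeZero (2 ^ m) := ⟨by positivity⟩
  obtain ⟨k, rfl⟩ := Nat.exists_eq_add_of_le' hm
  have h1 : ((a.val + a.val : ℕ) : ZMod (2 ^ (k + 1))) = 0 := by
    push_cast
    rw [ZMod.natCast_zmod_val]
    exact ha
  rw [ZMod.natCast_eq_zero_iff] at h1
  have h3 := ZMod.val_lt a
  have h4' : ∀ v : ℕ, 2 ^ (k + 1) ∣ v + v → v < 2 ^ (k + 1) → ∃ c, v = 2 ^ k * c ∧ c < 2 := by
    intro v h1 h3
    have h2 : 2 ^ k ∣ v := by
      rw [pow_succ, ← two_mul, mul_comm 2 v] at h1
      exact Nat.dvd_of_mul_dvd_mul_right (by norm_num) h1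
    obtain ⟨c, hc⟩ := h2
    rw [pow_succ, hc] at h3
    exact ⟨c, hc, Nat.lt_of_mul_lt_mul_left h3⟩
  obtain ⟨c, hc, h4⟩ := h4' _ h1 h3
  have h5 : a = ((a.val : ℕ) : ZMod (2 ^ (k + 1))) := (ZMod.natCast_zmod_val a).symm
  rcases (by omega : c = 0 ∨ c = 1) with rfl | rfl
  · left
    rw [h5, hc]; simp
  · right
    rw [h5, hc, mul_one]; simp

theorem zmod_half {m : ℕ} (hm : 1 ≤ m) : ((2 ^ (m - 1) : ℕ) : ZMod (2 ^ m)) ≠ 0 ∧ ((2 ^ (m - 1) : ℕ) : ZMod (2 ^ m)) + ((2 ^ (m - 1) : ℕ) : ZMod (2 ^ m)) = 0 := by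
  obtain ⟨k, rfl⟩ := Nat.exists_eq_add_of_le' hm
  constructor
  · intro h
    rw [ZMod.natCast_eq_zero_iff] at h
    have := Nat.le_of_dvd (by positivity) h
    simp only [Nat.add_sub_cancel] at this
    have h2 : 2 ^ k < 2 ^ (k + 1) := Nat.pow_lt_pow_right (by norm_num) (by omega)
    omega
  · rw [← Nat.cast_add, ZMod.natCast_eq_zero_iff]
    simp only [Nat.add_sub_cancel]
    rw [← two_mul, pow_succ, mul_comm]

section

variable {G : Type u} [Group G] [Finite G]

/-- the involutions of a group isomorphic to `Z/2^m × Z/2^m` -/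
theorem exists_invol {P : Subgroup G} {m : ℕ} (hm : 1 ≤ m) (e : P ≃* Multiplicative (ZMod (2 ^ m) × ZMod (2 ^ m))) :
    ∃ a b : G, a ∈ P ∧ b ∈ P ∧ a ≠ 1 ∧ b ≠ 1 ∧ a ≠ b ∧ a * a = 1 ∧ b * b = 1 ∧ a * b = b * a ∧ ∀ t ∈ P, t * t = 1 → t = 1 ∨ t = a ∨ t = b ∨ t = a * b := by
  obtain ⟨h0, h00⟩ := zmod_half hm
  set h : ZMod (2 ^ m) := ((2 ^ (m - 1) : ℕ) : ZMod (2 ^ m)) with hh
  have hab : ∀ x y : P, x * y = y * x := by
    intro x y
    apply e.injective
    rw [map_mul, map_mul, mul_comm]
  have inj : ∀ x y : ZMod (2 ^ m) × ZMod (2 ^ m), ((e.symm (Multiplicative.ofAdd x) : P) : G) = ((e.symm (Multiplicative.ofAdd y) : P) : G) ↔ x = y := by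
    intro x y
    rw [Subtype.coe_inj, EmbeddingLike.apply_eq_iff_eq, EmbeddingLike.apply_eq_iff_eq]
  have hmul : ∀ x y : ZMod (2 ^ m) × ZMod (2 ^ m), ((e.symm (Multiplicative.ofAdd x) : P) : G) * ((e.symm (Multiplicative.ofAdd y) : P) : G) = ((e.symm (Multiplicative.ofAdd (x + y)) : P) : G) := by
    intro x y
    rw [ofAdd_add, map_mul]; rfl
  have hone : ((e.symm (Multiplicative.ofAdd 0) : P) : G) = 1 := by
    rw [ofAdd_zero, map_one]; rfl
  have hne : (h, (0 : ZMod (2 ^ m))) ≠ 0 := fun hx => h0 (congrArg Prod.fst hx)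
  have hne' : ((0 : ZMod (2 ^ m)), h) ≠ 0 := fun hx => h0 (congrArg Prod.snd hx)
  have hne'' : (h, (0 : ZMod (2 ^ m))) ≠ (0, h) := fun hx => h0 (congrArg Prod.fst hx)
  refine ⟨e.symm (Multiplicative.ofAdd (h, 0)), e.symm (Multiplicative.ofAdd (0, h)), Subtype.coe_prop _, Subtype.coe_prop _, ?_, ?_, ?_, ?_, ?_, ?_, ?_⟩
  · rw [← hone, Ne, inj]; exact hne
  · rw [← hone, Ne, inj]; exact hne'
  · rw [Ne, inj]; exact hne''
  · rw [hmul, ← hone, inj]
    simp [h00]
  · rw [hmul, ← hone, inj]
    simp [h00]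
  · rw [hmul, hmul, add_comm]
  · intro t ht htt
    obtain ⟨⟨x, y⟩, hxy⟩ : ∃ z : ZMod (2 ^ m) × ZMod (2 ^ m), t = e.symm (Multiplicative.ofAdd z) := by
      refine ⟨Multiplicative.toAdd (e ⟨t, ht⟩), ?_⟩
      rw [ofAdd_toAdd, MulEquiv.symm_apply_apply]
    rw [hxy, hmul, ← hone, inj] at htt
    have h1 : x + x = 0 := congrArg Prod.fst htt
    have h2 : y + y = 0 := congrArg Prod.snd htt
    rw [hxy, hmul, ← hone, inj, inj, inj, inj]
    rcases zmod_two_mul hm x h1 with hx | hx <;> rcases zmod_two_mul hm y h2 with hy | hy <;> rw [← hh] at * <;> simp [hx, hy]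

/-- automorphisms of odd order fixing the involutions -/
theorem cent_of_invol {P : Subgroup G} (hP : IsPGroup 2 P) (hab : ∀ x ∈ P, ∀ y ∈ P, x * y = y * x) {x : G} (hx : x ∈ Subgroup.normalizer (P : Set G)) {k : ℕ} (hk : Odd k) (hxk : x ^ k ∈ Subgroup.centralizer (P : Set G))
    (hfix : ∀ t ∈ P, t * t = 1 → x * t = t * x) : x ∈ Subgroup.centralizer (P : Set G) := by
  have key : ∀ n : ℕ, ∀ y ∈ P, y ^ (2 ^ n) = 1 → x * y * x⁻¹ = y := by
    intro n
    induction n with
    | zero =>
      intro y hy h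
      rw [pow_zero, pow_one] at h
      rw [h]; group
    | succ n ih =>
      intro y hy h
      have h1 := ih (y * y) (P.mul_mem hy hy) (by rw [← pow_two, ← pow_mul, ← pow_succ', h])
      have hyx : x * y * x⁻¹ ∈ P := (Subgroup.mem_normalizer_iff.mp hx y).mp hy
      obtain ⟨t, ht⟩ : ∃ t, t = y⁻¹ * (x * y * x⁻¹) := ⟨_, rfl⟩
      have htP : t ∈ P := by rw [ht]; exact P.mul_mem (P.inv_mem hy) hyx
      have hxy : x * y * x⁻¹ = y * t := by rw [ht]; group
      have htt : t * t = 1 := by
        have h2 : (x * y * x⁻¹) * (x * y * x⁻¹) = y * y := by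
          rw [← h1]; group
        rw [hxy] at h2
        have h3 : y * t * (y * t) = y * y * (t * t) := by
          rw [mul_assoc, ← mul_assoc t, hab t htP y hy]; group
        rw [h3] at h2
        exact mul_eq_left.mp h2
      have h4 : x * t * x⁻¹ = t := by rw [hfix t htP htt]; group
      have h5 : ∀ j : ℕ, x ^ j * y * (x ^ j)⁻¹ = y * t ^ j := by
        intro j
        induction j with
        | zero => simp
        | succ j ihj =>
          have h6 : x ^ (j + 1) * y * (x ^ (j + 1))⁻¹ = x * (x ^ j * y * (x ^ j)⁻¹) * x⁻¹ := by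
            rw [pow_succ']; group
          rw [h6, ihj]
          have h7 : x * (y * t ^ j) * x⁻¹ = (x * y * x⁻¹) * (x * t * x⁻¹) ^ j := by
            rw [conj_pow]; group
          rw [h7, hxy, h4, mul_assoc, ← pow_succ']
      have h6 := h5 k
      have h7 : x ^ k * y * (x ^ k)⁻¹ = y := by
        rw [← Subgroup.mem_centralizer_iff.mp hxk y hy]; group
      rw [h7] at h6
      have h8 : t ^ k = 1 := (mul_eq_left.mp h6.symm)
      obtain ⟨j, hj⟩ := hk
      rw [hj, pow_succ, pow_mul, pow_two, htt, one_pow, one_mul] at h8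
      rw [hxy, h8, mul_one]
  rw [Subgroup.mem_centralizer_iff]
  intro y hy
  obtain ⟨n, hn⟩ := hP ⟨y, hy⟩
  have h1 := key n y hy (congrArg Subtype.val hn)
  rw [mul_inv_eq_iff_eq_mul] at h1
  exact h1.symm

/-- the configuration in the normalizer -/
theorem norm_config (P : Sylow 2 G) (m : ℕ) (hm : 1 ≤ m) (e : (P : Subgroup G) ≃* Multiplicative (ZMod (2 ^ m) × ZMod (2 ^ m))) :
    ((Subgroup.centralizer (P : Set G)).relIndex (Subgroup.normalizer (P : Set G)) = 1 ∨ (Subgroup.centralizer (P : Set G)).relIndex (Subgroup.normalizer (P : Set G)) = 3) ∧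
    (∀ x ∈ Subgroup.normalizer (P : Set G), x ∉ Subgroup.centralizer (P : Set G) → ∀ t ∈ (P : Subgroup G), t * t = 1 → x * t = t * x → t = 1) := by
  classical
  haveI : Fact (Nat.Prime 2) := ⟨Nat.prime_two⟩
  obtain ⟨a, b, haP, hbP, ha1, hb1, hab, haa, hbb, habc, hall⟩ := exists_invol hm e
  have hcomm : ∀ x ∈ (P : Subgroup G), ∀ y ∈ (P : Subgroup G), x * y = y * x := by
    intro x hx y hy
    have : (⟨x, hx⟩ : (P : Subgroup G)) * ⟨y, hy⟩ = ⟨y, hy⟩ * ⟨x, hx⟩ := by
      apply e.injective
      rw [map_mul, map_mul, mul_comm]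
    exact congrArg Subtype.val this
  have hPC : (P : Subgroup G) ≤ Subgroup.centralizer (P : Set G) := by
    intro x hx
    rw [Subgroup.mem_centralizer_iff]
    intro y hy
    exact hcomm y hy x hx
  set N := Subgroup.normalizer (P : Set G) with hN
  set C := Subgroup.centralizer (P : Set G) with hC
  have hCN : C ≤ N := by
    intro x hx
    refine (Subgroup.mem_normalizer_iff (H := (P : Subgroup G))).mpr ?_
    intro y
    constructor
    · intro hy
      have := Subgroup.mem_centralizer_iff.mp hx y hy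
      rw [← this, mul_inv_cancel_right]; exact hy
    · intro hy
      have := Subgroup.mem_centralizer_iff.mp hx _ hy
      have h2 : x * y * x⁻¹ = y := by
        have h3 : x * y * x⁻¹ * x = x * (x * y * x⁻¹) := this
        rw [inv_mul_cancel_right] at h3
        exact (mul_left_cancel h3).symm
      rwa [h2] at hy
  have hodd : Odd (C.relIndex N) := by
    rw [← Nat.not_even_iff_odd, even_iff_two_dvd]
    intro h
    apply P.not_dvd_index
    refine h.trans ((Subgroup.relIndex_dvd_index_of_le hCN).trans ?_)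
    exact Subgroup.index_dvd_of_le hPC
  haveI hCnorm : (C.subgroupOf N).Normal := by
    refine ⟨fun c hc x => ?_⟩
    rw [Subgroup.mem_subgroupOf] at hc ⊢
    rw [hC, Subgroup.mem_centralizer_iff] at hc ⊢
    intro y hy
    have h1 : (x : G)⁻¹ * y * x ∈ (P : Subgroup G) := by
      have := (Subgroup.mem_normalizer_iff.mp (N.inv_mem x.2) y).mp hy
      rwa [inv_inv] at this
    have h2 := hc _ h1
    have h3 : ((x * c * x⁻¹ : N) : G) = x * c * (x : G)⁻¹ := rfl
    rw [h3]
    have h4 : (x : G) * ((x : G)⁻¹ * y * x * c) * (x : G)⁻¹ = x * (c * ((x : G)⁻¹ * y * x)) * (x : G)⁻¹ := by rw [h2]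
    have h5 : (x : G) * ((x : G)⁻¹ * y * x * c) * (x : G)⁻¹ = y * (x * c * (x : G)⁻¹) := by group
    have h6 : (x : G) * (c * ((x : G)⁻¹ * y * x)) * (x : G)⁻¹ = x * c * (x : G)⁻¹ * y := by group
    rw [h5, h6] at h4
    exact h4
  have hpow : ∀ x ∈ N, x ^ (C.relIndex N) ∈ C := by
    intro x hx
    have h1 : (⟨x, hx⟩ : N) ^ (C.subgroupOf N).index ∈ C.subgroupOf N := Subgroup.pow_index_mem _ _
    exact h1
  have hcent : ∀ x ∈ N, (∀ t ∈ (P : Subgroup G), t * t = 1 → x * t = t * x) → x ∈ C := fun x hx h => cent_of_invol P.isPGroup' hcomm hx hodd (hpow x hx) h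
  -- the action on the involutions
  have hact : ∀ x ∈ N, ∀ t ∈ (P : Subgroup G), t * t = 1 → t ≠ 1 → x * t * x⁻¹ ∈ (P : Subgroup G) ∧ (x * t * x⁻¹) * (x * t * x⁻¹) = 1 ∧ x * t * x⁻¹ ≠ 1 := by
    intro x hx t ht htt ht1
    refine ⟨(Subgroup.mem_normalizer_iff.mp hx t).mp ht, ?_, ?_⟩
    · have : x * t * x⁻¹ * (x * t * x⁻¹) = x * (t * t) * x⁻¹ := by group
      rw [this, htt]; group
    · intro h
      apply ht1
      have h2 : t = x⁻¹ * (x * t * x⁻¹) * x := by group
      rw [h2, h]; group
  have hfpf : ∀ x ∈ N, x ∉ C → ∀ t ∈ (P : Subgroup G), t * t = 1 → x * t = t * x → t = 1 := by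
    intro x hx hxC t ht htt hxt
    by_contra ht1
    -- `x ^ 2` centralizes the involutions
    have hxt' : x * t * x⁻¹ = t := by rw [hxt]; group
    have h2 : x * x ∈ C := by
      apply hcent _ (N.mul_mem hx hx)
      intro s hs hss
      -- `s`, `x s x⁻¹`
      by_cases hs1 : s = 1
      · rw [hs1]; group
      by_cases hst : s = t
      · rw [hst]
        calc x * x * t = x * (x * t) := mul_assoc _ _ _
          _ = x * (t * x) := by rw [hxt]
          _ = (x * t) * x := (mul_assoc _ _ _).symm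
          _ = (t * x) * x := by rw [hxt]
          _ = t * (x * x) := mul_assoc _ _ _
      obtain ⟨h3, h4, h5⟩ := hact x hx s hs hss hs1
      have h6 : x * s * x⁻¹ ≠ t := by
        intro h
        apply hst
        have : x * s * x⁻¹ = x * t * x⁻¹ := by rw [h, hxt']
        exact mul_left_cancel (mul_right_cancel this)
      -- the involutions are `t, s, t s`
      have h7 : ∀ u ∈ (P : Subgroup G), u * u = 1 → u ≠ 1 → u ≠ t → u = s ∨ u = t * s := by
        have hba : b * a = a * b := habc.symm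
        have e1 : a * (a * b) = b := by rw [← mul_assoc, haa, one_mul]
        have e2 : b * (a * b) = a := by rw [← mul_assoc, hba, mul_assoc, hbb, mul_one]
        have e3 : a * b * a = b := by rw [mul_assoc, hba, ← mul_assoc, haa, one_mul]
        have e4 : a * b * b = a := by rw [mul_assoc, hbb, mul_one]
        intro u hu huu hu1 hut
        rcases hall t ht htt with h | h | h | h <;> rcases hall s hs hss with h' | h' | h' | h' <;> rcases hall u hu huu with h'' | h'' | h'' | h'' <;> subst h <;> subst h' <;> subst h'' <;>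
          first
            | (exact absurd rfl ht1)
            | (exact absurd rfl hs1)
            | (exact absurd rfl hu1)
            | (exact absurd rfl hst)
            | (exact absurd rfl hut)
            | (left; rfl)
            | (right; rfl)
            | (right; exact e1.symm)
            | (right; exact e2.symm)
            | (right; exact e3.symm)
            | (right; exact e4.symm)
            | (right; exact hba.symm)
      have h8 : x * (x * s * x⁻¹) * x⁻¹ = s := by
        rcases h7 _ h3 h4 h5 h6 with h | h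
        · rw [h, h]
        · rw [h]
          have : x * (t * s) * x⁻¹ = (x * t * x⁻¹) * (x * s * x⁻¹) := by group
          rw [this, hxt', h, ← mul_assoc, htt, one_mul]
      have h9 : x * x * s = x * (x * s * x⁻¹) * x⁻¹ * (x * x) := by group
      rw [h9, h8]
    apply hxC
    obtain ⟨j, hj⟩ := hodd
    have h3 := hpow x hx
    rw [hj, pow_succ, pow_mul, pow_two] at h3
    have h4 := C.mul_mem (C.inv_mem (C.pow_mem h2 j)) h3
    rwa [inv_mul_cancel_left] at h4
  refine ⟨?_, hfpf⟩
  -- the index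
  have hle : C.relIndex N ≤ 3 := by
    have h1 : Nat.card (N ⧸ C.subgroupOf N) ≤ Nat.card {t : G // t = a ∨ t = b ∨ t = a * b} := by
      have hex : ∀ q : N ⧸ C.subgroupOf N, ∃ t : {t : G // t = a ∨ t = b ∨ t = a * b}, t.1 = (q.out : G) * a * (q.out : G)⁻¹ := by
        intro q
        obtain ⟨h3, h4, h5⟩ := hact _ q.out.2 a haP haa ha1
        refine ⟨⟨_, (hall _ h3 h4).resolve_left h5⟩, rfl⟩
      choose f hf using hex
      haveI : Finite {t : G // t = a ∨ t = b ∨ t = a * b} := inferInstance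
      apply Nat.card_le_card_of_injective f
      intro q r hqr
      have h3 : (q.out : G) * a * (q.out : G)⁻¹ = (r.out : G) * a * (r.out : G)⁻¹ := by rw [← hf, ← hf, hqr]
      by_contra hne
      have h4 : (r.out : G)⁻¹ * (q.out : G) ∉ C := by
        intro h
        apply hne
        rw [← q.out_eq, ← r.out_eq]
        symm
        apply Quotient.sound
        exact QuotientGroup.leftRel_apply.mpr h
      apply ha1
      apply hfpf _ (N.mul_mem (N.inv_mem r.out.2) q.out.2) h4 a haP haa
      have h5 : (r.out : G)⁻¹ * ((q.out : G) * a * (q.out : G)⁻¹) * (q.out : G) = (r.out : G)⁻¹ * ((r.out : G) * a * (r.out : G)⁻¹) * (q.out : G) := by rw [h3]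
      have h6 : (r.out : G)⁻¹ * ((q.out : G) * a * (q.out : G)⁻¹) * (q.out : G) = (r.out : G)⁻¹ * (q.out : G) * a := by group
      have h7 : (r.out : G)⁻¹ * ((r.out : G) * a * (r.out : G)⁻¹) * (q.out : G) = a * ((r.out : G)⁻¹ * (q.out : G)) := by group
      rw [h6, h7] at h5
      exact h5
    have h2 : Nat.card {t : G // t = a ∨ t = b ∨ t = a * b} ≤ 3 := by
      have h3 : {t : G | t = a ∨ t = b ∨ t = a * b} = (({a, b, a * b} : Finset G) : Set G) := by
        ext t; simp
      change Nat.card ({t : G | t = a ∨ t = b ∨ t = a * b} : Set G) ≤ 3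
      rw [h3, Nat.card_coe_set_eq, Set.ncard_coe_finset]
      exact Finset.card_le_three
    exact h1.trans h2
  obtain ⟨j, hj⟩ := hodd
  omega

theorem s0945 (P : Sylow 2 G) (m : ℕ) (hm : 1 ≤ m) (e : (P : Subgroup G) ≃* Multiplicative (ZMod (2 ^ m) × ZMod (2 ^ m))) : ((Subgroup.centralizer (P : Set G)).relIndex (Subgroup.normalizer (P : Set G)) = 1 ∨ (Subgroup.centralizer (P : Set G)).relIndex (Subgroup.normalizer (P : Set G)) = 3) ∧ ((Subgroup.centralizer (P : Set G)).relIndex (Subgroup.normalizer (P : Set G)) ≠ 1 → ∀ z ∈ (P : Subgroup G), z ≠ 1 → Subgroup.centralizer ({z} : Set G) ⊓ Subgroup.normalizer (P : Set G) = Subgroup.centralizer (P : Set G)) := by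
  obtain ⟨h1, h2⟩ := norm_config P m hm e
  refine ⟨h1, fun _ z hz hz1 => ?_⟩
  apply le_antisymm
  · rintro x ⟨hxz, hxN⟩
    by_contra hxC
    have key : ∀ n : ℕ, ∀ z ∈ (P : Subgroup G), z ^ (2 ^ n) = 1 → x * z = z * x → z = 1 := by
      intro n
      induction n with
      | zero => intro z hz h _; simpa using h
      | succ n ih =>
        intro z hz h hxz
        apply h2 x hxN hxC z hz _ hxz
        apply ih _ ((P : Subgroup G).mul_mem hz hz)
        · rw [← pow_two, ← pow_mul, ← pow_succ', h]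
        · rw [← mul_assoc, hxz, mul_assoc, hxz, mul_assoc]
    obtain ⟨n, hn⟩ := P.isPGroup' ⟨z, hz⟩
    exact hz1 (key n z hz (congrArg Subtype.val hn) (Subgroup.mem_centralizer_iff.mp hxz z rfl).symm)
  · intro x hx
    refine ⟨?_, ?_⟩
    · refine Subgroup.mem_centralizer_iff.mpr ?_
      intro y hy
      rw [Set.mem_singleton_iff.mp hy]
      exact Subgroup.mem_centralizer_iff.mp hx z hz
    · refine (Subgroup.mem_normalizer_iff (H := (P : Subgroup G))).mpr ?_
      intro y
      constructor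
      · intro hy
        have := Subgroup.mem_centralizer_iff.mp hx y hy
        rw [← this, mul_inv_cancel_right]; exact hy
      · intro hy
        have := Subgroup.mem_centralizer_iff.mp hx _ hy
        have h2 : x * y * x⁻¹ = y := by
          have h3 : x * y * x⁻¹ * x = x * (x * y * x⁻¹) := this
          rw [inv_mul_cancel_right] at h3
          exact (mul_left_cancel h3).symm
        rwa [h2] at hy

theorem s0946 (P : Sylow 2 G) (m : ℕ) (hm : 1 ≤ m) (e : (P : Subgroup G) ≃* Multiplicative (ZMod (2 ^ m) × ZMod (2 ^ m))) : (∃ N : Subgroup G, N.Normal ∧ Subgroup.IsComplement' N (P : Subgroup G)) ∨ ∀ s t : G, orderOf s = 2 → orderOf t = 2 → IsConj s t := by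
  classical
  haveI : Fact (Nat.Prime 2) := ⟨Nat.prime_two⟩
  obtain ⟨h1, h2⟩ := norm_config P m hm e
  by_cases hNC : Subgroup.normalizer (P : Set G) ≤ Subgroup.centralizer (P : Set G)
  · left
    exact ⟨_, MonoidHom.normal_ker _, MonoidHom.ker_transferSylow_isComplement' P hNC⟩
  · right
    obtain ⟨x, hxN, hxC⟩ := SetLike.not_le_iff_exists.mp hNC
    obtain ⟨a, b, haP, hbP, ha1, hb1, hab, haa, hbb, habc, hall⟩ := exists_invol hm e
    have hcase : ∀ t ∈ (P : Subgroup G), t * t = 1 → t ≠ 1 → t = a ∨ t = b ∨ t = a * b := fun t ht htt ht1 => (hall t ht htt).resolve_left ht1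
    have hact : ∀ t ∈ (P : Subgroup G), t * t = 1 → t ≠ 1 → x * t * x⁻¹ ∈ (P : Subgroup G) ∧ (x * t * x⁻¹) * (x * t * x⁻¹) = 1 ∧ x * t * x⁻¹ ≠ 1 := by
      intro t ht htt ht1
      refine ⟨(Subgroup.mem_normalizer_iff.mp hxN t).mp ht, ?_, ?_⟩
      · have : x * t * x⁻¹ * (x * t * x⁻¹) = x * (t * t) * x⁻¹ := by group
        rw [this, htt]; group
      · intro h
        apply ht1
        have h2 : t = x⁻¹ * (x * t * x⁻¹) * x := by group
        rw [h2, h]; group
    have hne : ∀ t ∈ (P : Subgroup G), t * t = 1 → t ≠ 1 → x * t * x⁻¹ ≠ t := by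
      intro t ht htt ht1 h
      apply ht1
      apply h2 x hxN hxC t ht htt
      rw [mul_inv_eq_iff_eq_mul] at h
      exact h
    have hc : ∀ t : G, IsConj t (x * t * x⁻¹) := fun t => isConj_iff.mpr ⟨x, rfl⟩
    have hinj : ∀ s t : G, x * s * x⁻¹ = x * t * x⁻¹ → s = t := fun s t h => mul_left_cancel (mul_right_cancel h)
    have habne : a * b ≠ 1 := by
      intro h
      apply hab
      rw [← mul_left_cancel_iff (a := a), haa, h]
    have hab_mem : a * b ∈ (P : Subgroup G) := (P : Subgroup G).mul_mem haP hbP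
    have habab : (a * b) * (a * b) = 1 := by
      calc a * b * (a * b) = a * b * (b * a) := by rw [habc]
        _ = a * (b * b) * a := by group
        _ = 1 := by rw [hbb, mul_one, haa]
    -- all involutions of `P` are conjugate
    have h3 : IsConj a b ∧ IsConj a (a * b) := by
      obtain ⟨p1, p2, p3⟩ := hact a haP haa ha1
      obtain ⟨q1, q2, q3⟩ := hact b hbP hbb hb1
      obtain ⟨r1, r2, r3⟩ := hact (a * b) hab_mem habab habne
      have n1 := hne a haP haa ha1
      have n2 := hne b hbP hbb hb1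
      have n3 := hne (a * b) hab_mem habab habne
      rcases hcase _ p1 p2 p3 with h | h | h
      · exact absurd h n1
      · -- a ↦ b
        refine ⟨h ▸ hc a, ?_⟩
        rcases hcase _ q1 q2 q3 with h' | h' | h'
        · -- b ↦ a, then a b ↦ a b
          exfalso
          apply n3
          have : x * (a * b) * x⁻¹ = (x * a * x⁻¹) * (x * b * x⁻¹) := by group
          rw [this, h, h', habc]
        · exact absurd h' n2
        · exact (h ▸ hc a).trans (h' ▸ hc b)
      · -- a ↦ a b
        have h4 : IsConj a (a * b) := h ▸ hc a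
        refine ⟨?_, h4⟩
        rcases hcase _ r1 r2 r3 with h' | h' | h'
        · exfalso
          have : x * (a * b) * x⁻¹ = (x * a * x⁻¹) * (x * b * x⁻¹) := by group
          rw [this, h] at h'
          have h5 : x * b * x⁻¹ = b := by
            have h6 : a * (b * (x * b * x⁻¹)) = a * 1 := by rw [mul_one, ← mul_assoc]; exact h'
            have h7 := mul_left_cancel h6
            rw [← mul_left_cancel_iff (a := b), h7, hbb]
          exact n2 h5
        · have h7 := hc (a * b)
          rw [h'] at h7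
          exact h4.trans h7
        · exact absurd h' n3
    have h4 : ∀ t ∈ (P : Subgroup G), t * t = 1 → t ≠ 1 → IsConj a t := by
      intro t ht htt ht1
      rcases hcase t ht htt ht1 with h | h | h
      · rw [h]
      · rw [h]; exact h3.1
      · rw [h]; exact h3.2
    have h5 : ∀ t : G, orderOf t = 2 → IsConj a t := by
      intro t ht
      have hpg : IsPGroup 2 (Subgroup.zpowers t) := by
        apply IsPGroup.of_card (n := 1)
        rw [Nat.card_zpowers, ht, pow_one]
      obtain ⟨Q, hQ⟩ := hpg.exists_le_sylow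
      obtain ⟨g, hg⟩ := MulAction.exists_smul_eq G Q P
      have htQ : t ∈ (Q : Subgroup G) := hQ (Subgroup.mem_zpowers t)
      have h6 : g * t * g⁻¹ ∈ (P : Subgroup G) := by
        rw [← hg, Sylow.coe_subgroup_smul]
        exact Subgroup.smul_mem_pointwise_smul t (MulAut.conj g) _ htQ
      have htt : t * t = 1 := by rw [← pow_two, ← ht, pow_orderOf_eq_one]
      have ht1 : t ≠ 1 := by
        rintro rfl
        rw [orderOf_one] at ht
        omega
      refine (h4 _ h6 ?_ ?_).trans (isConj_iff.mpr ⟨g⁻¹, by group⟩)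
      · have : g * t * g⁻¹ * (g * t * g⁻¹) = g * (t * t) * g⁻¹ := by group
        rw [this, htt]; group
      · intro h
        apply ht1
        have h7 : t = g⁻¹ * (g * t * g⁻¹) * g := by group
        rw [h7, h]; group
    intro s t hs ht
    exact (h5 s hs).symm.trans (h5 t ht)

end

end CfsgLib.Homo2
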