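import Cfsg.Agent.Lib.BGlau5
import Cfsg.Agent.Lib.CharGalois
import Cfsg.Agent.Lib.Gallagher

/-!
# The Glauberman correspondence for cyclic groups of operators
-/

set_option autoImplicit false
set_option linter.style.haveILetI false
set_option linter.unusedSectionVars false
set_option linter.unusedVariables false

open scoped ComplexConjugate

namespace CfsgLib.Block

open Cfsg CfsgLib.CharBasic CfsgLib.CharInd CfsgLib.CharClifford CfsgLib.CharGalois

universe u v w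

/-- sums of a character over a coset of a normal subgroup on which it does not contain the principal
character vanish -/
theorem coset_orth {Γ : Type u} [Group Γ] [Fintype Γ] {G : Subgroup Γ} [hG : G.Normal] [Fintype G] {α : Γ → ℂ}
    (hα : IsCharacter Γ α) (h0 : ∑ n : G, α n = 0) (g : Γ) : ∑ n : G, α ((n : Γ) * g) = 0 := by
  classical
  have h1 := eq_sum_inner (IsCharacter.isClassFunction hα)
  have h2 : ∀ x : Γ, α x = ∑ β : IrrCharacter Γ, classInner α (β : Γ → ℂ) * (β : Γ → ℂ) x := by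
    intro x
    have := congrFun h1 x
    rw [Finset.sum_apply] at this
    exact this
  have h3 : ∀ β : IrrCharacter Γ, ∃ k : ℕ, classInner α (β : Γ → ℂ) = k :=
    fun β => IsCharacter.inner_nat hα (irr_isCharacter β)
  have h4 : ∀ β : IrrCharacter Γ, ∃ k : ℕ, ∑ n : G, (β : Γ → ℂ) n = (Nat.card G : ℂ) * k := by
    intro β
    obtain ⟨k, hk⟩ := IsCharacter.inner_nat (IsCharacter.comp (irr_isCharacter β) G.subtype)
      (IsIrrCharacter.isCharacter (isIrr_one' (G := G)))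
    refine ⟨k, ?_⟩
    rw [← hk]
    unfold classInner
    rw [← mul_assoc, mul_inv_cancel₀ (by
      have : Nat.card G ≠ 0 := Nat.card_pos.ne'
      exact_mod_cast this), one_mul]
    apply Finset.sum_congr rfl
    intro n _
    simp
  choose a ha using h3
  choose b hb using h4
  have h5 : ∑ β : IrrCharacter Γ, (a β * b β) = 0 := by
    have h6 : ∑ n : G, α n = (Nat.card G : ℂ) * ∑ β : IrrCharacter Γ, ((a β * b β : ℕ) : ℂ) := by
      rw [Finset.sum_congr rfl (fun n _ => h2 _), Finset.sum_comm, Finset.mul_sum]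
      apply Finset.sum_congr rfl
      intro β _
      rw [← Finset.mul_sum, hb, ha]; push_cast; ring
    rw [h0] at h6
    have h7 : (Nat.card G : ℂ) ≠ 0 := by
      have : Nat.card G ≠ 0 := Nat.card_pos.ne'
      exact_mod_cast this
    have h8 := (mul_eq_zero.mp h6.symm).resolve_left h7
    exact_mod_cast h8
  rw [Finset.sum_eq_zero_iff] at h5
  rw [Finset.sum_congr rfl (fun n _ => h2 _), Finset.sum_comm]
  apply Finset.sum_eq_zero
  intro β _
  rw [← Finset.mul_sum, CfsgLib.Gallagher.sum_coset β.2 g, hb, ha]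
  have h6 := h5 β (Finset.mem_univ _)
  have h7 : (a β : ℂ) * b β = 0 := by exact_mod_cast h6
  have h8 : (a β : ℂ) * ((Nat.card G : ℂ) * b β * (β : Γ → ℂ) g / (β : Γ → ℂ) 1) =
      ((a β : ℂ) * b β) * ((Nat.card G : ℂ) * (β : Γ → ℂ) g / (β : Γ → ℂ) 1) := by ring
  rw [h8, h7, zero_mul]

theorem detChar_pow {Γ : Type u} [Group Γ] [Finite Γ] {χ : Γ → ℂ} (hχ : IsCharacter Γ χ) {m : ℕ}
    (hχm : IsCharacter Γ (fun g => χ (g ^ m))) (g : Γ) : detChar (fun g => χ (g ^ m)) g = detChar χ g ^ m := by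
  let Z := Subgroup.zpowers g
  let gz : Z := ⟨g, Subgroup.mem_zpowers g⟩
  have hcomm : ∀ x y : Z, Commute (x : Γ) y := by
    rintro ⟨_, i, rfl⟩ ⟨_, j, rfl⟩
    exact (Commute.refl g).zpow_zpow i j
  let f : Z →* Γ :=
    { toFun := fun z => (z : Γ) ^ m
      map_one' := one_pow m
      map_mul' := fun x y => (hcomm x y).mul_pow m }
  have h1 : (fun g => χ (g ^ m)) ∘ Z.subtype = χ ∘ f := rfl
  have h2 : detChar (fun g => χ (g ^ m)) g = (detChar (fun g => χ (g ^ m)) ∘ Z.subtype) gz := rfl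
  rw [h2, ← CfsgLib.DetChar.detChar_comp hχm, h1, CfsgLib.DetChar.detChar_comp hχ]
  show detChar χ (g ^ m) = _
  obtain ⟨L, hL⟩ := CfsgLib.DetChar.detChar_hom hχ
  rw [hL, hL, map_pow, Units.val_pow_eq_pow_val]

theorem ext_pow_inv {Γ : Type u} [Group Γ] [Fintype Γ] {G : Subgroup Γ} [hG : G.Normal] [Fintype G]
    (hcop : G.index.Coprime (Nat.card G)) {χ : G → ℂ} (hχ : IsIrrCharacter G χ) {χh : Γ → ℂ}
    (hχh : IsIrrCharacter Γ χh) (hext : ∀ n : G, χh n = χ n) (hdet : Nat.Coprime G.index (detOrder χh))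
    {m : ℕ} (hm : m ≡ 1 [MOD Nat.card G]) (hmΓ : m.Coprime (Nat.card Γ)) (x : Γ) : χh (x ^ m) = χh x := by
  have hinv : ∀ g : Γ, conjFn g χ = χ := by
    intro g
    have : χ = fun n : G => χh n := by funext n; exact (hext n).symm
    rw [this]
    exact conjFn_res (IsCharacter.isClassFunction (IsIrrCharacter.isCharacter hχh)) g
  obtain ⟨χ₀, -, hu⟩ := CfsgLib.DetExt5.canonical_ext hχ hinv (one_eq_charDegree (IsIrrCharacter.isCharacter hχ)) (by
    apply Nat.Coprime.mul_right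
    · exact Nat.Coprime.coprime_dvd_right (detOrder_dvd_card (IsIrrCharacter.isCharacter hχ)) hcop
    · exact Nat.Coprime.coprime_dvd_right (charDegree_dvd hχ) hcop)
  have h1 : χh = χ₀ := hu χh hχh hext hdet
  have h2 : IsIrrCharacter Γ (fun g => χh (g ^ m)) := IsIrrCharacter.pow_coprime hχh hmΓ
  have h3 : (fun g => χh (g ^ m)) = χ₀ := by
    apply hu _ h2
    · intro n
      have h4 : n ^ m = n := by
        have h5 : orderOf n ∣ Nat.card G := orderOf_dvd_natCard n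
        have h6 : m ≡ 1 [MOD orderOf n] := hm.of_dvd h5
        have h7 := (pow_eq_pow_iff_modEq (x := n)).mpr h6
        rwa [pow_one] at h7
      show χh ((n : Γ) ^ m) = χ n
      rw [← Subgroup.coe_pow, h4, hext]
    · apply Nat.Coprime.coprime_dvd_right _ hdet
      apply orderOf_dvd_of_pow_eq_one
      funext g
      rw [Pi.pow_apply, detChar_pow (IsIrrCharacter.isCharacter hχh) (IsIrrCharacter.isCharacter h2), ← pow_mul, mul_comm, pow_mul]
      have h4 : detChar χh g ^ (detOrder χh) = 1 := by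
        have := pow_orderOf_eq_one (detChar χh)
        exact congrFun this g
      rw [h4, one_pow]; rfl
  have h4 := congrFun (h3.trans h1.symm) x
  exact h4

section cyc

variable {Γ : Type u} [Group Γ] [Fintype Γ] (G S : Subgroup Γ) [hG : G.Normal] [Fintype G]

theorem coset_sum (hcop : (Nat.card G).Coprime (Nat.card S)) (C : Subgroup Γ) [Fintype C]
    (hC : ∀ x : Γ, x ∈ C ↔ x ∈ G ∧ x ∈ Subgroup.centralizer (S : Set Γ)) {F : Γ → ℂ} (hF : IsClassFunction Γ F) {s : Γ} (hs : Subgroup.zpowers s = S) :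
    (Nat.card C : ℂ) * ∑ g : G, F ((g : Γ) * s) = (Nat.card G : ℂ) * ∑ c : C, F ((c : Γ) * s) := by
  classical
  have hsS : s ∈ S := by rw [← hs]; exact Subgroup.mem_zpowers s
  have hcG : ∀ c : C, (c : Γ) ∈ G := fun c => ((hC _).mp c.2).1
  have hcs : ∀ c : C, Commute (c : Γ) s := fun c =>
    ((Subgroup.mem_centralizer_iff.mp ((hC _).mp c.2).2) s hsS).symm
  -- the power extracting `s`
  obtain ⟨m, hm0, hm1⟩ : ∃ m : ℕ, m ≡ 0 [MOD Nat.card G] ∧ m ≡ 1 [MOD Nat.card S] := by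
    obtain ⟨m, h1, h2⟩ := Nat.chineseRemainder hcop 0 1
    exact ⟨m, h1, h2⟩
  have hsm : s ^ m = s := by
    have h5 : orderOf s ∣ Nat.card S := by rw [← hs, Nat.card_zpowers]
    have h6 : m ≡ 1 [MOD orderOf s] := hm1.of_dvd h5
    have h7 := (pow_eq_pow_iff_modEq (x := s)).mpr h6
    rwa [pow_one] at h7
  have hcm : ∀ c : C, (c : Γ) ^ m = 1 := by
    intro c
    have h1 : (⟨(c : Γ), hcG c⟩ : G) ^ m = 1 := by
      rw [← orderOf_dvd_iff_pow_eq_one]
      exact (orderOf_dvd_natCard _).trans ((Nat.modEq_zero_iff_dvd).mp hm0)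
    exact congrArg Subtype.val h1
  let Ψ : G × C → G := fun y => ⟨(y.1 : Γ) * ((y.2 : Γ) * s) * (y.1 : Γ)⁻¹ * s⁻¹, by
    have h1 : (y.1 : Γ) * ((y.2 : Γ) * s) * (y.1 : Γ)⁻¹ * s⁻¹ = (y.1 : Γ) * (y.2 : Γ) * (s * (y.1 : Γ)⁻¹ * s⁻¹) := by group
    rw [h1]
    exact G.mul_mem (G.mul_mem y.1.2 (hcG y.2)) (hG.conj_mem _ (G.inv_mem y.1.2) s)⟩
  have hΨ : ∀ y, (Ψ y : Γ) * s = (y.1 : Γ) * ((y.2 : Γ) * s) * (y.1 : Γ)⁻¹ := by
    intro y
    show (y.1 : Γ) * ((y.2 : Γ) * s) * (y.1 : Γ)⁻¹ * s⁻¹ * s = _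
    group
  have hpow : ∀ y, ((Ψ y : Γ) * s) ^ m = (y.1 : Γ) * s * (y.1 : Γ)⁻¹ := by
    intro y
    rw [hΨ, conj_pow, (hcs y.2).mul_pow, hcm, hsm, one_mul]
  have hle : ∀ x : G, (Finset.univ.filter (fun y : G × C => Ψ y = x)).card ≤ Fintype.card C := by
    intro x
    rcases (Finset.univ.filter (fun y : G × C => Ψ y = x)).eq_empty_or_nonempty with h | ⟨y₀, hy₀⟩
    · rw [h]; exact Nat.zero_le _
    · rw [Finset.mem_filter] at hy₀
      have hmem : ∀ y : G × C, Ψ y = x → (y₀.1 : Γ)⁻¹ * y.1 ∈ C := by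
        intro y hy
        have h1 := hpow y
        rw [hy, ← hy₀.2, hpow y₀] at h1
        rw [hC]
        refine ⟨G.mul_mem (G.inv_mem y₀.1.2) y.1.2, ?_⟩
        rw [← hs, Subgroup.mem_centralizer_iff]
        have h2 : Commute s ((y₀.1 : Γ)⁻¹ * y.1) := by
          show s * ((y₀.1 : Γ)⁻¹ * y.1) = (y₀.1 : Γ)⁻¹ * y.1 * s
          have h3 : (y₀.1 : Γ)⁻¹ * ((y₀.1 : Γ) * s * (y₀.1 : Γ)⁻¹) * y.1 = (y₀.1 : Γ)⁻¹ * ((y.1 : Γ) * s * (y.1 : Γ)⁻¹) * y.1 := by
            rw [h1]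
          have h4 : (y₀.1 : Γ)⁻¹ * ((y₀.1 : Γ) * s * (y₀.1 : Γ)⁻¹) * y.1 = s * ((y₀.1 : Γ)⁻¹ * y.1) := by group
          have h5 : (y₀.1 : Γ)⁻¹ * ((y.1 : Γ) * s * (y.1 : Γ)⁻¹) * y.1 = (y₀.1 : Γ)⁻¹ * y.1 * s := by group
          rw [h4, h5] at h3
          exact h3
        rintro _ ⟨i, rfl⟩
        exact (h2.zpow_left i).eq
      rw [Fintype.card, ← Finset.card_attach]
      apply Finset.card_le_card_of_injOn (fun y => if h : Ψ y.1 = x then (⟨_, hmem y.1 h⟩ : C) else 1)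
      · intro y _; exact Finset.mem_coe.mpr (Finset.mem_univ _)
      · rintro ⟨y, hy⟩ _ ⟨y', hy'⟩ _ h
        rw [Finset.mem_filter] at hy hy'
        simp only at h
        rw [dif_pos hy.2, dif_pos hy'.2, Subtype.mk.injEq] at h
        have h1 : y.1 = y'.1 := Subtype.ext (mul_left_cancel h)
        have h2 : (y.1 : Γ) * ((y.2 : Γ) * s) * (y.1 : Γ)⁻¹ = (y'.1 : Γ) * ((y'.2 : Γ) * s) * (y'.1 : Γ)⁻¹ := by
          rw [← hΨ, ← hΨ, hy.2, hy'.2]
        rw [h1] at h2
        have h3 : y.2 = y'.2 := Subtype.ext (mul_right_cancel (mul_left_cancel (mul_right_cancel h2)))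
        exact Subtype.ext (Prod.ext h1 h3)
  have hsum : ∑ x : G, (Finset.univ.filter (fun y : G × C => Ψ y = x)).card = ∑ x : G, Fintype.card C := by
    rw [← Finset.card_eq_sum_card_fiberwise (f := Ψ) (s := Finset.univ) (t := Finset.univ) (fun _ _ => Finset.mem_coe.mpr (Finset.mem_univ _))]
    rw [Finset.card_univ, Fintype.card_prod, Finset.sum_const, Finset.card_univ, smul_eq_mul]
  have heq := (Finset.sum_eq_sum_iff_of_le (fun x _ => hle x)).mp hsum
  have h1 : ∑ y : G × C, F ((Ψ y : Γ) * s) = (Nat.card C : ℂ) * ∑ g : G, F ((g : Γ) * s) := by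
    rw [← Finset.sum_fiberwise (s := Finset.univ) (g := Ψ), Finset.mul_sum]
    apply Finset.sum_congr rfl
    intro x _
    rw [Finset.sum_congr rfl (fun y hy => by rw [(Finset.mem_filter.mp hy).2]), Finset.sum_const, heq x (Finset.mem_univ _),
      nsmul_eq_mul, Nat.card_eq_fintype_card]
  have h2 : ∑ y : G × C, F ((Ψ y : Γ) * s) = (Nat.card G : ℂ) * ∑ c : C, F ((c : Γ) * s) := by
    rw [Fintype.sum_prod_type]
    have h3 : ∀ g : G, ∑ c : C, F ((Ψ (g, c) : Γ) * s) = ∑ c : C, F ((c : Γ) * s) := by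
      intro g
      apply Finset.sum_congr rfl
      intro c _
      rw [hΨ]
      exact hF _ _
    rw [Finset.sum_congr rfl (fun g _ => h3 g), Finset.sum_const, nsmul_eq_mul, Finset.card_univ, Nat.card_eq_fintype_card]
  rw [← h1, h2]

theorem index_eq_card_compl (hcop : (Nat.card G).Coprime (Nat.card S)) (htop : G ⊔ S = ⊤) : G.index = Nat.card S := by
  have h1 := CfsgLib.Coprime.card_sup (A := S) (K := G) (by rw [Subgroup.normalizer_eq_top]; exact le_top) hcop.symm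
  rw [htop, Subgroup.card_top] at h1
  have h2 := Subgroup.card_mul_index G
  rw [h1] at h2
  exact Nat.eq_of_mul_eq_mul_left Nat.card_pos h2

variable {G S}

theorem cyc_pow (hcop : (Nat.card G).Coprime (Nat.card S)) (htop : G ⊔ S = ⊤) {χ : G → ℂ} (hχ : IsIrrCharacter G χ)
    {χh : Γ → ℂ} (hχh : IsIrrCharacter Γ χh) (hext : ∀ n : G, χh n = χ n) (hdet : (detOrder χh).Coprime (Nat.card S))
    {s : Γ} (hs : s ∈ S) {c : Γ} (hc : c ∈ G) (hcs : Commute c s) {k : ℕ} (hk : k.Coprime (Nat.card S)) :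
    χh (c * s ^ k) = χh (c * s) := by
  have hidx := index_eq_card_compl G S hcop htop
  have hcard : Nat.card Γ = Nat.card G * Nat.card S := by rw [← hidx, Subgroup.card_mul_index]
  obtain ⟨m, hm0, hm1⟩ : ∃ m : ℕ, m ≡ 1 [MOD Nat.card G] ∧ m ≡ k [MOD Nat.card S] := by
    obtain ⟨m, h1, h2⟩ := Nat.chineseRemainder hcop 1 k
    exact ⟨m, h1, h2⟩
  have hmΓ : m.Coprime (Nat.card Γ) := by
    rw [hcard]
    apply Nat.Coprime.mul_right
    · rw [Nat.Coprime, hm0.gcd_eq]; exact Nat.gcd_one_left _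
    · rw [Nat.Coprime, hm1.gcd_eq]; exact hk
  have h1 := ext_pow_inv (by rw [hidx]; exact hcop.symm) hχ hχh hext (by rw [hidx]; exact hdet.symm) hm0 hmΓ (c * s)
  rw [hcs.mul_pow] at h1
  have h2 : c ^ m = c := by
    have h5 : orderOf (⟨c, hc⟩ : G) ∣ Nat.card G := orderOf_dvd_natCard _
    have h7 := (pow_eq_pow_iff_modEq (x := (⟨c, hc⟩ : G))).mpr (hm0.of_dvd h5)
    rw [pow_one] at h7
    exact congrArg Subtype.val h7
  have h3 : s ^ m = s ^ k := by
    have h5 : orderOf (⟨s, hs⟩ : S) ∣ Nat.card S := orderOf_dvd_natCard _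
    have h7 := (pow_eq_pow_iff_modEq (x := (⟨s, hs⟩ : S))).mpr (hm1.of_dvd h5)
    exact congrArg Subtype.val h7
  rw [h2, h3] at h1
  exact h1

/-- the multiplicity of `β` in the twisted restriction -/
noncomputable def psiC (C : Subgroup Γ) [Fintype C] (χh : Γ → ℂ) (β : C → ℂ) (t : Γ) : ℂ :=
  classInner (fun c : C => χh ((c : Γ) * t)) β

theorem psiC_isCharacter (hcyc : IsCyclic S) (C : Subgroup Γ) [Fintype C]
    (hC : ∀ x : Γ, x ∈ C ↔ x ∈ G ∧ x ∈ Subgroup.centralizer (S : Set Γ)) {χh : Γ → ℂ} (hχh : IsCharacter Γ χh)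
    (β : IrrCharacter C) : IsCharacter S (fun t : S => psiC C χh (β : C → ℂ) t) := by
  classical
  haveI : Fintype S := Fintype.ofFinite _
  have hcomm : ∀ (c : C) (t : S), Commute (c : Γ) t := fun c t =>
    ((Subgroup.mem_centralizer_iff.mp ((hC _).mp c.2).2) t t.2).symm
  let f : C × S →* Γ :=
    { toFun := fun x => (x.1 : Γ) * x.2
      map_one' := by simp
      map_mul' := fun x y => by
        show ((x.1 : Γ) * y.1) * ((x.2 : Γ) * y.2) = (x.1 : Γ) * x.2 * ((y.1 : Γ) * y.2)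
        have := (hcomm y.1 x.2).eq
        rw [mul_assoc, ← mul_assoc (y.1 : Γ), this]
        group }
  have hScomm : ∀ x y : S, x * y = y * x := fun x y => by
    letI := hcyc.commGroup
    exact mul_comm x y
  apply isCharacter_of_inner_nat
  · intro x y
    have : y * x * y⁻¹ = x := by rw [hScomm y x]; group
    rw [this]
  · intro lam
    obtain ⟨n, hn⟩ := IsCharacter.inner_nat (IsCharacter.comp hχh f)
      (IsCharacter.mul (IsCharacter.comp (irr_isCharacter β) (MonoidHom.fst C S)) (IsCharacter.comp (irr_isCharacter lam) (MonoidHom.snd C S)))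
    refine ⟨n, ?_⟩
    rw [← hn]
    unfold classInner psiC classInner
    rw [Fintype.sum_prod_type, Finset.sum_comm, Nat.card_prod]
    push_cast
    rw [mul_inv, Finset.mul_sum, Finset.mul_sum]
    apply Finset.sum_congr rfl
    intro t _
    have h1 : ∀ c : C, (χh ∘ f) (c, t) * conj ((((β : C → ℂ) ∘ (MonoidHom.fst C S)) * ((lam : S → ℂ) ∘ (MonoidHom.snd C S))) (c, t)) =
        χh ((c : Γ) * t) * conj ((β : C → ℂ) c) * conj ((lam : S → ℂ) t) := by
      intro c
      simp only [Function.comp_apply, Pi.mul_apply, MonoidHom.coe_fst, MonoidHom.coe_snd, map_mul]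
      show χh ((c : Γ) * t) * _ = _
      ring
    rw [Finset.sum_congr rfl (fun c _ => h1 c), ← Finset.sum_mul]
    ring

theorem cyc_main (hcop : (Nat.card G).Coprime (Nat.card S)) (htop : G ⊔ S = ⊤) (hcyc : IsCyclic S)
    (C : Subgroup Γ) [Fintype C] (hC : ∀ x : Γ, x ∈ C ↔ x ∈ G ∧ x ∈ Subgroup.centralizer (S : Set Γ))
    {χ : G → ℂ} (hχ : IsIrrCharacter G χ)
    {χh : Γ → ℂ} (hχh : IsIrrCharacter Γ χh) (hext : ∀ n : G, χh n = χ n) (hdet : (detOrder χh).Coprime (Nat.card S)) :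
    ∃ (β : IrrCharacter C) (ε : ℤ), (ε = 1 ∨ ε = -1) ∧
      ∀ c : C, ∀ s : Γ, Subgroup.zpowers s = S → χh ((c : Γ) * s) = (ε : ℂ) * (β : C → ℂ) c := by
  classical
  have hidx := index_eq_card_compl G S hcop htop
  have hcG : ∀ c : C, (c : Γ) ∈ G := fun c => ((hC _).mp c.2).1
  have hcomm : ∀ (c : C) (t : Γ), t ∈ S → Commute (c : Γ) t := fun c t ht =>
    ((Subgroup.mem_centralizer_iff.mp ((hC _).mp c.2).2) t ht).symm
  obtain ⟨s₀, hs₀⟩ := hcyc.exists_generator
  have hs : Subgroup.zpowers (s₀ : Γ) = S := by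
    apply le_antisymm
    · rw [Subgroup.zpowers_le]; exact s₀.2
    · intro x hx
      obtain ⟨i, hi⟩ := hs₀ ⟨x, hx⟩
      exact ⟨i, congrArg Subtype.val hi⟩
  have hχc := IsIrrCharacter.isCharacter hχh
  -- integrality
  have hint : ∀ β : IrrCharacter C, ∃ n : ℤ, psiC C χh (β : C → ℂ) (s₀ : Γ) = n := by
    intro β
    have h1 : IsGeneralizedCharacter S (fun t : S => psiC C χh (β : C → ℂ) t) :=
      IsCharacter.isGeneralized (psiC_isCharacter (G := G) hcyc C hC hχc β)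
    obtain ⟨n, hn⟩ := int_of_forall_pow h1 (n := Nat.card S) Nat.card_pos (g := s₀) (orderOf_dvd_natCard _) (by
      intro k hk
      show psiC C χh (β : C → ℂ) ((s₀ ^ k : S) : Γ) = psiC C χh (β : C → ℂ) (s₀ : Γ)
      unfold psiC
      congr 1
      funext c
      rw [Subgroup.coe_pow]
      exact cyc_pow hcop htop hχ hχh hext hdet s₀.2 (hcG c) (hcomm c _ s₀.2) hk)
    exact ⟨n, hn⟩
  choose n hn using hint
  have hφ : IsClassFunction C (fun c : C => χh ((c : Γ) * s₀)) := by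
    intro x y
    show χh (((y * x * y⁻¹ : C) : Γ) * s₀) = χh ((x : Γ) * s₀)
    have h1 : ((y * x * y⁻¹ : C) : Γ) * s₀ = (y : Γ) * ((x : Γ) * s₀) * (y : Γ)⁻¹ := by
      have h2 := (hcomm y⁻¹ _ s₀.2).eq
      rw [Subgroup.coe_mul, Subgroup.coe_mul, mul_assoc, h2, Subgroup.coe_inv]
      group
    rw [h1]
    exact IsCharacter.isClassFunction hχc _ _
  -- the norm
  have hnorm : classInner (fun c : C => χh ((c : Γ) * s₀)) (fun c : C => χh ((c : Γ) * s₀)) = 1 := by
    have h1 := coset_sum G S hcop C hC (F := fun x => χh x * conj (χh x)) (by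
      intro x y
      show χh (y * x * y⁻¹) * conj (χh (y * x * y⁻¹)) = _
      rw [IsCharacter.isClassFunction hχc]) hs
    have hres : IsIrrCharacter G (fun n : G => χh n) := by
      have : (fun n : G => χh n) = χ := funext hext
      rw [this]; exact hχ
    rw [CfsgLib.DetExt4.coset_norm hχh hres] at h1
    have hG0 : (Nat.card G : ℂ) ≠ 0 := by
      have : Nat.card G ≠ 0 := Nat.card_pos.ne'
      exact_mod_cast this
    have hC0 : (Nat.card C : ℂ) ≠ 0 := by
      have : Nat.card C ≠ 0 := Nat.card_pos.ne'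
      exact_mod_cast this
    rw [mul_comm (Nat.card C : ℂ)] at h1
    have h2 := mul_left_cancel₀ hG0 h1
    unfold classInner
    rw [← h2, inv_mul_cancel₀ hC0]
  have hsq : ∑ β : IrrCharacter C, n β ^ 2 = 1 := by
    have h1 := inner_eq_sum (β := fun c : C => χh ((c : Γ) * s₀)) hφ
    rw [hnorm] at h1
    have h2 : ∀ β : IrrCharacter C, classInner (fun c : C => χh ((c : Γ) * s₀)) (β : C → ℂ) * classInner (β : C → ℂ) (fun c : C => χh ((c : Γ) * s₀)) = ((n β ^ 2 : ℤ) : ℂ) := by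
      intro β
      have h3 : classInner (fun c : C => χh ((c : Γ) * s₀)) (β : C → ℂ) = n β := hn β
      have h4 : classInner (β : C → ℂ) (fun c : C => χh ((c : Γ) * s₀)) = n β := by
        rw [← classInner_conj_symm, h3, map_intCast]
      rw [h3, h4]
      push_cast; ring
    rw [Finset.sum_congr rfl (fun β _ => h2 β)] at h1
    exact_mod_cast h1.symm
  obtain ⟨β, hβ⟩ : ∃ β : IrrCharacter C, n β ≠ 0 := by
    by_contra hcon
    push Not at hcon
    rw [Finset.sum_eq_zero (fun β _ => by rw [hcon β]; ring)] at hsq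
    exact absurd hsq (by norm_num)
  have hone : n β ^ 2 + ∑ β' ∈ Finset.univ.erase β, n β' ^ 2 = 1 := by
    rw [Finset.add_sum_erase Finset.univ (fun β' => n β' ^ 2) (Finset.mem_univ β)]; exact hsq
  have hpos : 0 ≤ ∑ β' ∈ Finset.univ.erase β, n β' ^ 2 := Finset.sum_nonneg (fun _ _ => sq_nonneg _)
  have hβ1 : 1 ≤ n β ^ 2 := by
    have := sq_nonneg (n β)
    have h2 : n β ^ 2 ≠ 0 := pow_ne_zero 2 hβ
    omega
  have hz : ∑ β' ∈ Finset.univ.erase β, n β' ^ 2 = 0 := by omega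
  have hβ2 : n β ^ 2 = 1 := by omega
  have hz' : ∀ β' : IrrCharacter C, β' ≠ β → n β' = 0 := by
    intro β' hne
    rw [Finset.sum_eq_zero_iff_of_nonneg (fun _ _ => sq_nonneg _)] at hz
    have := hz β' (Finset.mem_erase.mpr ⟨hne, Finset.mem_univ _⟩)
    exact pow_eq_zero_iff (two_ne_zero) |>.mp this
  have hval : ∀ c : C, χh ((c : Γ) * s₀) = (n β : ℂ) * (β : C → ℂ) c := by
    intro c
    have h1 := congrFun (eq_sum_inner hφ) c
    rw [Finset.sum_apply, Finset.sum_eq_single β] at h1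
    · rw [Pi.smul_apply, smul_eq_mul] at h1
      have h2 : classInner (fun c : C => χh ((c : Γ) * s₀)) (β : C → ℂ) = n β := hn β
      rw [h2] at h1
      exact h1
    · intro β' _ hne
      have h2 : classInner (fun c : C => χh ((c : Γ) * s₀)) (β' : C → ℂ) = n β' := hn β'
      rw [Pi.smul_apply, h2, hz' β' hne]
      simp
    · intro h; exact absurd (Finset.mem_univ _) h
  have hpm : n β = 1 ∨ n β = -1 := by
    have h1 : (n β - 1) * (n β + 1) = 0 := by ring_nf; omega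
    rcases mul_eq_zero.mp h1 with h2 | h2
    · left; omega
    · right; omega
  refine ⟨β, n β, hpm, ?_⟩
  intro c s hs'
  have hsS : s ∈ S := by rw [← hs']; exact Subgroup.mem_zpowers s
  obtain ⟨k, hk⟩ : ∃ k : ℕ, (s₀ : Γ) ^ k = s := by
    have h1 : s ∈ Subgroup.zpowers (s₀ : Γ) := by rw [hs]; exact hsS
    have := mem_powers_iff_mem_zpowers.mpr h1
    exact this
  have hkc : k.Coprime (Nat.card S) := by
    have h1 : orderOf s = Nat.card S := by rw [← hs', Nat.card_zpowers]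
    have h2 : orderOf (s₀ : Γ) = Nat.card S := by
      rw [← Nat.card_zpowers]; exact congrArg (fun H : Subgroup Γ => Nat.card H) hs
    rw [← hk, orderOf_pow, h2] at h1
    have h3 : 0 < Nat.card S := Nat.card_pos
    have h4 : (Nat.card S).gcd k ∣ Nat.card S := Nat.gcd_dvd_left _ _
    have h5 : (Nat.card S).gcd k = 1 := by
      rcases h4 with ⟨d, hd⟩
      have h6 : 0 < (Nat.card S).gcd k := Nat.gcd_pos_of_pos_left _ h3
      rw [Nat.div_eq_iff_eq_mul_left h6 (Nat.gcd_dvd_left _ _)] at h1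
      nlinarith
    rw [Nat.Coprime, Nat.gcd_comm]; exact h5
  rw [← hk, cyc_pow hcop htop hχ hχh hext hdet s₀.2 (hcG c) (hcomm c _ s₀.2) hkc]
  exact hval c

theorem charDegree_pos' {G : Type u} [Group G] [Fintype G] {χ : G → ℂ} (h : IsIrrCharacter G χ) : 0 < charDegree χ := by
  apply Nat.pos_of_ne_zero
  intro h0
  apply IsIrrCharacter.one_ne_zero h
  rw [one_eq_charDegree (IsIrrCharacter.isCharacter h), h0, Nat.cast_zero]

theorem cyc_unique (C : Subgroup Γ) [Fintype C] {β β' : IrrCharacter C} {ε ε' : ℤ} (hε : ε = 1 ∨ ε = -1) (hε' : ε' = 1 ∨ ε' = -1)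
    (h : ∀ c : C, (ε : ℂ) * (β : C → ℂ) c = (ε' : ℂ) * (β' : C → ℂ) c) : β = β' ∧ ε = ε' := by
  have h1 := h 1
  rw [one_eq_charDegree (irr_isCharacter β), one_eq_charDegree (irr_isCharacter β')] at h1
  have h2 : ε * charDegree (β : C → ℂ) = ε' * charDegree (β' : C → ℂ) := by exact_mod_cast h1
  have hp : 0 < charDegree (β : C → ℂ) := charDegree_pos' β.2
  have hp' : 0 < charDegree (β' : C → ℂ) := charDegree_pos' β'.2
  have hee : ε = ε' := by
    rcases hε with rfl | rfl <;> rcases hε' with rfl | rfl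
    · rfl
    · exfalso; omega
    · exfalso; omega
    · rfl
  refine ⟨?_, hee⟩
  subst hee
  have h3 : (ε : ℂ) ≠ 0 := by
    rcases hε with rfl | rfl <;> norm_num
  apply Subtype.ext
  funext c
  exact mul_left_cancel₀ h3 (h c)

theorem cyc_constituent (hcyc : IsCyclic S) (C : Subgroup Γ) [Fintype C]
    (hC : ∀ x : Γ, x ∈ C ↔ x ∈ G ∧ x ∈ Subgroup.centralizer (S : Set Γ)) {χh : Γ → ℂ} (hχh : IsCharacter Γ χh)
    {β : IrrCharacter C} {ε : ℤ} (hε : ε = 1 ∨ ε = -1) {s : Γ} (hs : s ∈ S)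
    (h : ∀ c : C, χh ((c : Γ) * s) = (ε : ℂ) * (β : C → ℂ) c) : classInner (fun c : C => χh c) (β : C → ℂ) ≠ 0 := by
  intro h0
  have h1 := psiC_isCharacter (G := G) hcyc C hC hχh β
  have h2 : (fun t : S => psiC C χh (β : C → ℂ) t) 1 = 0 := by
    show classInner (fun c : C => χh ((c : Γ) * ((1 : S) : Γ))) (β : C → ℂ) = 0
    rw [Subgroup.coe_one]
    simp only [mul_one]
    exact h0
  have h3 : (fun t : S => psiC C χh (β : C → ℂ) t) = 0 := by
    obtain ⟨n, ρ, hρ⟩ := h1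
    have h4 : (n : ℂ) = 0 := by
      rw [← hρ, Representation.char_one] at h2
      simpa using h2
    have h5 : n = 0 := by exact_mod_cast h4
    subst h5
    rw [← hρ]
    funext t
    rw [Representation.character, Subsingleton.elim (ρ t) 0, map_zero]
    rfl
  have h4 : psiC C χh (β : C → ℂ) s = 0 := congrFun h3 ⟨s, hs⟩
  have h5 : (fun c : C => χh ((c : Γ) * s)) = (ε : ℂ) • (β : C → ℂ) := funext h
  unfold psiC at h4
  rw [h5, classInner_smul_left, IsIrrCharacter.inner_self β.2, mul_one] at h4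
  rcases hε with rfl | rfl <;> norm_num at h4

theorem cyc_inj (hcop : (Nat.card G).Coprime (Nat.card S)) (C : Subgroup Γ) [Fintype C]
    (hC : ∀ x : Γ, x ∈ C ↔ x ∈ G ∧ x ∈ Subgroup.centralizer (S : Set Γ)) {χ χ' : IrrCharacter G} {χh χh' : Γ → ℂ}
    (hχh : IsCharacter Γ χh) (hχh' : IsCharacter Γ χh') (hext : ∀ n : G, χh n = (χ : G → ℂ) n)
    (hext' : ∀ n : G, χh' n = (χ' : G → ℂ) n) {β : IrrCharacter C} {ε ε' : ℤ} (hε : ε = 1 ∨ ε = -1) (hε' : ε' = 1 ∨ ε' = -1)
    {s : Γ} (hs : Subgroup.zpowers s = S) (h : ∀ c : C, χh ((c : Γ) * s) = (ε : ℂ) * (β : C → ℂ) c)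
    (h' : ∀ c : C, χh' ((c : Γ) * s) = (ε' : ℂ) * (β : C → ℂ) c) : χ = χ' := by
  classical
  by_contra hne
  have hα : IsCharacter Γ (χh * fun g => conj (χh' g)) := IsCharacter.mul hχh (IsCharacter.conj hχh')
  have hG0 : (Nat.card G : ℂ) ≠ 0 := by
    have : Nat.card G ≠ 0 := Nat.card_pos.ne'
    exact_mod_cast this
  have h0 : ∑ n : G, (χh * fun g => conj (χh' g)) n = 0 := by
    have h1 : classInner (χ : G → ℂ) (χ' : G → ℂ) = 0 :=
      IsIrrCharacter.inner_eq_zero χ.2 χ'.2 (fun h => hne (Subtype.ext h))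
    unfold classInner at h1
    rw [mul_eq_zero, inv_eq_zero] at h1
    have h2 := h1.resolve_left hG0
    rw [← h2]
    apply Finset.sum_congr rfl
    intro n _
    rw [Pi.mul_apply, hext, hext']
  have h1 := coset_orth hα h0 s
  have h2 := coset_sum G S hcop C hC (IsCharacter.isClassFunction hα) hs
  rw [h1, mul_zero] at h2
  have h3 : ∑ c : C, (χh * fun g => conj (χh' g)) ((c : Γ) * s) = (ε : ℂ) * ε' * (Nat.card C : ℂ) := by
    have h4 := IsIrrCharacter.inner_self β.2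
    unfold classInner at h4
    have hC0 : (Nat.card C : ℂ) ≠ 0 := by
      have : Nat.card C ≠ 0 := Nat.card_pos.ne'
      exact_mod_cast this
    rw [inv_mul_eq_iff_eq_mul₀ hC0, mul_one] at h4
    rw [← h4, Finset.mul_sum]
    apply Finset.sum_congr rfl
    intro c _
    rw [Pi.mul_apply, h, h', map_mul]
    simp only [map_intCast]
    ring
  rw [h3] at h2
  have hC0 : (Nat.card C : ℂ) ≠ 0 := by
    have : Nat.card C ≠ 0 := Nat.card_pos.ne'
    exact_mod_cast this
  have h4 : (ε : ℂ) ≠ 0 := by rcases hε with rfl | rfl <;> norm_num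
  have h5 : (ε' : ℂ) ≠ 0 := by rcases hε' with rfl | rfl <;> norm_num
  exact mul_ne_zero hG0 (mul_ne_zero (mul_ne_zero h4 h5) hC0) h2.symm

theorem cyc_surj (hcop : (Nat.card G).Coprime (Nat.card S)) (htop : G ⊔ S = ⊤) (hcyc : IsCyclic S)
    (C : Subgroup Γ) [Fintype C] (hC : ∀ x : Γ, x ∈ C ↔ x ∈ G ∧ x ∈ Subgroup.centralizer (S : Set Γ)) (β : IrrCharacter C) :
    ∃ (χ : IrrCharacter G) (χh : IrrCharacter Γ) (ε : ℤ), (∀ g : Γ, conjFn g (χ : G → ℂ) = χ) ∧
      (∀ g : G, (χh : Γ → ℂ) g = (χ : G → ℂ) g) ∧ (Cfsg.detOrder (χh : Γ → ℂ)).Coprime (Nat.card S) ∧ (ε = 1 ∨ ε = -1) ∧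
      ∀ c : C, ∀ s : Γ, Subgroup.zpowers s = S → (χh : Γ → ℂ) ((c : Γ) * s) = (ε : ℂ) * (β : C → ℂ) c := by
  classical
  have hidx := index_eq_card_compl G S hcop htop
  let φ : S →* MulAut G := (MulAut.conjNormal (H := G)).comp S.subtype
  have hφ : ∀ (h : S) (k : G), ((φ h k : G) : Γ) = h * k * (h : Γ)⁻¹ := fun h k => MulAut.conjNormal_apply _ _
  have e1 : ∀ θ : IrrCharacter G, InvIrr φ θ → (∀ g : Γ, conjFn g (θ : G → ℂ) = θ) := by
    intro θ h g
    have hg : g ∈ G ⊔ S := by rw [htop]; exact Subgroup.mem_top _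
    rw [Subgroup.mem_sup_of_normal_left] at hg
    obtain ⟨k, hk, a, ha, rfl⟩ := hg
    rw [conjFn_mul, conjFn_of_mem (IsCharacter.isClassFunction (irr_isCharacter θ)) hk]
    funext x
    rw [conjFn_apply, ← h ⟨a, ha⟩ x]
    exact congrArg _ (Subtype.ext (hφ ⟨a, ha⟩ x).symm)
  have hex : ∀ θ : {θ : IrrCharacter G // InvIrr φ θ}, ∃ (χh : IrrCharacter Γ) (β : IrrCharacter C) (ε : ℤ),
      (∀ g : G, (χh : Γ → ℂ) g = (θ.1 : G → ℂ) g) ∧ (Cfsg.detOrder (χh : Γ → ℂ)).Coprime (Nat.card S) ∧ (ε = 1 ∨ ε = -1) ∧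
      ∀ c : C, ∀ s : Γ, Subgroup.zpowers s = S → (χh : Γ → ℂ) ((c : Γ) * s) = (ε : ℂ) * (β : C → ℂ) c := by
    rintro ⟨θ, hθ⟩
    obtain ⟨χ, ⟨h1, h2, h3⟩, -⟩ := CfsgLib.DetExt5.canonical_ext θ.2 (e1 θ hθ) (one_eq_charDegree (irr_isCharacter θ)) (by
      rw [hidx]
      apply Nat.Coprime.mul_right
      · exact Nat.Coprime.coprime_dvd_right (detOrder_dvd_card (irr_isCharacter θ)) hcop.symm
      · exact Nat.Coprime.coprime_dvd_right (charDegree_dvd θ.2) hcop.symm)
    have h4 : (detOrder χ).Coprime (Nat.card S) := by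
      rw [h3]; exact Nat.Coprime.coprime_dvd_left (detOrder_dvd_card (irr_isCharacter θ)) hcop
    obtain ⟨β, ε, hε, hv⟩ := cyc_main hcop htop hcyc C hC θ.2 h1 h2 h4
    exact ⟨⟨χ, h1⟩, β, ε, h2, h4, hε, hv⟩
  choose ch B E h1 h2 h3 h4 using hex
  obtain ⟨s₀, hs₀⟩ := hcyc.exists_generator
  have hs : Subgroup.zpowers (s₀ : Γ) = S := by
    apply le_antisymm
    · rw [Subgroup.zpowers_le]; exact s₀.2
    · intro x hx
      obtain ⟨i, hi⟩ := hs₀ ⟨x, hx⟩
      exact ⟨i, congrArg Subtype.val hi⟩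
  have hinj : Function.Injective B := by
    intro θ θ' h
    apply Subtype.ext
    have h5 := fun c => h4 θ' c s₀ hs
    rw [← h] at h5
    exact cyc_inj hcop C hC (irr_isCharacter _) (irr_isCharacter _) (h1 θ) (h1 θ') (h3 θ) (h3 θ') hs (fun c => h4 θ c s₀ hs) h5
  have hsolv : Group.IsSolvable S := by
    letI := hcyc.commGroup
    infer_instance
  let e : C ≃* fixS φ (⊤ : Subgroup S) :=
    { toFun := fun x => ⟨⟨(x : Γ), ((hC _).mp x.2).1⟩, fun a _ => Subtype.ext (by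
        rw [hφ]
        have := (Subgroup.mem_centralizer_iff.mp ((hC _).mp x.2).2) a a.2
        show (a : Γ) * (x : Γ) * (a : Γ)⁻¹ = x
        rw [this]; group)⟩
      invFun := fun x => ⟨((x : G) : Γ), (hC _).mpr ⟨(x : G).2, by
        rw [Subgroup.mem_centralizer_iff]
        intro a ha
        have h5 := congrArg (fun y : G => (y : Γ)) (x.2 ⟨a, ha⟩ (Subgroup.mem_top _))
        simp only [hφ] at h5
        exact mul_inv_eq_iff_eq_mul.mp h5⟩⟩
      left_inv := fun x => rfl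
      right_inv := fun x => rfl
      map_mul' := fun x y => rfl }
  have hcard : Nat.card (IrrCharacter C) ≤ Nat.card {θ : IrrCharacter G // InvIrr φ θ} := by
    rw [card_inv_fix _ S G φ rfl hsolv hcop]
    exact (Nat.card_congr (irrCongr e).symm).le
  have hbij := hinj.bijective_of_nat_card_le hcard
  obtain ⟨θ, hθ⟩ := hbij.2 β
  refine ⟨θ.1, ch θ, E θ, e1 θ.1 θ.2, h1 θ, h2 θ, h3 θ, ?_⟩
  rw [← hθ]
  exact h4 θ

end cyc

end CfsgLib.Block
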