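import Cfsg.Agent.Lib.BEasy33
import Cfsg.Agent.Lib.BGlau6
import Cfsg.Agent.Lib.Cover3

/-!
# Fully ramified characters
-/

set_option autoImplicit false
set_option linter.style.haveILetI false
set_option linter.unusedSectionVars false
set_option linter.unusedVariables false

open scoped ComplexConjugate Pointwise

namespace CfsgLib.Ramif

open Cfsg CfsgLib.CharBasic CfsgLib.CharInd CfsgLib.CharClifford CfsgLib.CliffordCorr

universe u v

variable {H : Type u} [Group H] [Fintype H]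

theorem sum_sub {Z : Subgroup H} [Fintype Z] [DecidablePred (· ∈ Z)] {M : Type*} [AddCommMonoid M] (f : H → M) : ∑ h : H, (if h ∈ Z then f h else 0) = ∑ z : Z, f z := by
  rw [← Finset.sum_filter]
  symm
  apply Finset.sum_bij (fun (i : Z) _ => (i : H))
  · intro i _
    rw [Finset.mem_filter]
    exact ⟨Finset.mem_univ _, i.2⟩
  · intro i _ j _ h
    exact Subtype.ext h
  · intro x hx
    exact ⟨⟨x, (Finset.mem_filter.mp hx).2⟩, Finset.mem_univ _, rfl⟩
  · intro i _
    rfl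

/-- a fully ramified character vanishes off the normal subgroup -/
theorem vanish_off {Z : Subgroup H} [Fintype Z] {χ : H → ℂ} (hχ : IsIrrCharacter H χ) {θ : Z → ℂ} (hθ : IsIrrCharacter Z θ) {e : ℕ} (he : e ^ 2 = Z.index) (hres : ∀ z : Z, χ z = (e : ℂ) * θ z) : ∀ h : H, h ∉ Z → χ h = 0 := by
  classical
  have h1 : ∑ h : H, Complex.normSq (χ h) = Nat.card H := by
    have h2 := IsIrrCharacter.inner_self hχ
    rw [classInner, inv_mul_eq_one₀ (by exact_mod_cast Nat.card_pos.ne')] at h2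
    have h3 : ((∑ h : H, Complex.normSq (χ h) : ℝ) : ℂ) = ((Nat.card H : ℝ) : ℂ) := by
      push_cast
      rw [h2]
      apply Finset.sum_congr rfl
      intro h _
      rw [Complex.mul_conj]
    exact_mod_cast h3
  have h2 : ∑ z : Z, Complex.normSq (χ z) = Nat.card H := by
    have h2 := IsIrrCharacter.inner_self hθ
    rw [classInner, inv_mul_eq_one₀ (by exact_mod_cast Nat.card_pos.ne')] at h2
    have h3 : ((∑ z : Z, Complex.normSq (χ z) : ℝ) : ℂ) = ((Nat.card H : ℝ) : ℂ) := by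
      push_cast
      rw [← Subgroup.card_mul_index Z, ← he]
      push_cast
      rw [h2, Finset.sum_mul]
      apply Finset.sum_congr rfl
      intro z _
      rw [← Complex.mul_conj, hres, map_mul, Complex.conj_natCast]
      ring
    exact_mod_cast h3
  have h3 : ∑ h : H, (if h ∈ Z then 0 else Complex.normSq (χ h)) = 0 := by
    have h4 : ∑ h : H, (if h ∈ Z then 0 else Complex.normSq (χ h)) = ∑ h : H, Complex.normSq (χ h) - ∑ h : H, (if h ∈ Z then Complex.normSq (χ h) else 0) := by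
      rw [← Finset.sum_sub_distrib]
      apply Finset.sum_congr rfl
      intro h _
      split_ifs <;> simp
    rw [h4, sum_sub (fun h => Complex.normSq (χ h)), h1, h2, sub_self]
  rw [Finset.sum_eq_zero_iff_of_nonneg (by intro h _; split_ifs; exacts [le_refl _, Complex.normSq_nonneg _])] at h3
  intro h hh
  have h4 := h3 h (Finset.mem_univ _)
  rw [if_neg hh] at h4
  exact Complex.normSq_eq_zero.mp h4

theorem s4565 (Z : Subgroup H) [Z.Normal] (χ : IrrCharacter H) (hfr : ∃ (θ : IrrCharacter Z) (e : ℕ), e ^ 2 = Z.index ∧ ∀ z : Z, (χ : H → ℂ) z = (e : ℂ) * (θ : Z → ℂ) z) (hZ : Z ≠ ⊤) (C : Subgroup (H ⧸ Z)) (hC : IsCyclic C) : Subgroup.centralizer (C : Set (H ⧸ Z)) ≠ C := by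
  classical
  intro hcen
  haveI : Fintype Z := Fintype.ofFinite Z
  obtain ⟨θ, e, he, hres⟩ := hfr
  have he0 : (e : ℂ) ≠ 0 := by
    intro h
    have : e = 0 := by exact_mod_cast h
    rw [this] at he
    exact Subgroup.index_ne_zero_of_finite (H := Z) (by rw [← he]; rfl)
  have hclass := irr_isClassFunction χ
  have hoff := vanish_off χ.2 θ.2 he hres
  have hinv : ∀ h : H, conjFn h (θ : Z → ℂ) = θ := by
    intro h
    funext z
    apply mul_left_cancel₀ he0
    rw [conjFn_apply, ← hres, ← hres]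
    exact hclass z h
  obtain ⟨D, hD⟩ : ∃ D, D = C.comap (QuotientGroup.mk' Z) := ⟨_, rfl⟩
  haveI : Fintype D := Fintype.ofFinite D
  have hmem : ∀ x : H, x ∈ D ↔ (x : H ⧸ Z) ∈ C := by intro x; rw [hD]; rfl
  have hZD : Z ≤ D := by
    intro z hz
    rw [hmem, (QuotientGroup.eq_one_iff z).mpr hz]
    exact C.one_mem
  obtain ⟨g₀, hg₀⟩ : ∃ g₀ : H, Subgroup.zpowers ((g₀ : H ⧸ Z)) = C := by
    obtain ⟨c, hc⟩ := Subgroup.isCyclic_iff_exists_zpowers_eq_top C |>.mp hC
    obtain ⟨g, hg⟩ := QuotientGroup.mk'_surjective Z c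
    exact ⟨g, by rw [← hc, ← hg]; rfl⟩
  have hcomm : ∀ x : H, x ∈ D ↔ (x : H ⧸ Z) * g₀ = g₀ * x := by
    intro x
    rw [hmem, ← hcen, ← hg₀, Subgroup.mem_centralizer_iff]
    constructor
    · intro h
      exact (h _ (Subgroup.mem_zpowers _)).symm
    · rintro h _ ⟨k, rfl⟩
      exact ((Commute.zpow_right (a := (x : H ⧸ Z)) (b := g₀) h k).eq).symm
  have hg₀D : g₀ ∈ D := by rw [hcomm]
  have hg₀Z : g₀ ∉ Z := by
    intro h
    have h1 : (g₀ : H ⧸ Z) = 1 := (QuotientGroup.eq_one_iff g₀).mpr h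
    apply hZ
    rw [eq_top_iff]
    intro x _
    have h2 : x ∈ D := by rw [hcomm, h1, one_mul, mul_one]
    rw [hmem, ← hg₀, h1, Subgroup.zpowers_one_eq_bot, Subgroup.mem_bot] at h2
    exact (QuotientGroup.eq_one_iff x).mp h2
  haveI : Fintype (Z.subgroupOf D) := Fintype.ofFinite _
  have hcyc : IsCyclic (D ⧸ Z.subgroupOf D) := by
    let f : D ⧸ Z.subgroupOf D →* C := QuotientGroup.lift (Z.subgroupOf D) (((QuotientGroup.mk' Z).comp D.subtype).codRestrict C (fun d => (hmem d).mp d.2)) (by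
      intro d hd
      apply Subtype.ext
      exact (QuotientGroup.eq_one_iff _).mpr (Subgroup.mem_subgroupOf.mp hd))
    apply isCyclic_of_injective f
    rw [injective_iff_map_eq_one]
    intro q hq
    obtain ⟨d, rfl⟩ := QuotientGroup.mk'_surjective _ q
    have h1 : ((d : H) : H ⧸ Z) = 1 := congrArg Subtype.val hq
    exact (QuotientGroup.eq_one_iff d).mpr (Subgroup.mem_subgroupOf.mpr ((QuotientGroup.eq_one_iff _).mp h1))
  obtain ⟨ϑ, hϑ, hϑres⟩ := CfsgLib.Cover3.ext_cyclic (G := D) (N := Z.subgroupOf D) (subFun_irr hZD θ.2) (by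
    intro g
    funext n
    exact congrFun (hinv g) ⟨(n : D), Subgroup.mem_subgroupOf.mp n.2⟩) hcyc
  have hϑc := IsIrrCharacter.isCharacter hϑ
  obtain ⟨f, hf⟩ : ∃ f : D → ℂ, ∀ d, f d = if (d : H) * g₀⁻¹ ∈ Z then ϑ d else 0 := ⟨_, fun d => rfl⟩
  have hnZ : ∀ z ∈ Z, z * g₀ ∉ Z := by
    intro z hz h
    apply hg₀Z
    have := Z.mul_mem (Z.inv_mem hz) h
    rwa [inv_mul_cancel_left] at this
  have hind : indFun D f = 0 := by
    apply eq_zero_of_inner_eq_zero (isClassFunction_indFun D f)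
    intro ψ
    rw [frobenius D f (irr_isClassFunction ψ), classInner]
    apply mul_eq_zero_of_right
    -- reduce to the coset
    have h1 : ∑ d : D, f d * conj ((ψ : H → ℂ) d) = ∑ n : Z.subgroupOf D, ϑ (n * ⟨g₀, hg₀D⟩) * conj ((ψ : H → ℂ) (n * g₀)) := by
      rw [← Equiv.sum_comp (Equiv.mulRight (⟨g₀, hg₀D⟩ : D)) (fun d : D => f d * conj ((ψ : H → ℂ) d))]
      rw [← sum_sub (Z := Z.subgroupOf D) (fun n : D => ϑ (n * ⟨g₀, hg₀D⟩) * conj ((ψ : H → ℂ) (n * g₀)))]
      apply Finset.sum_congr rfl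
      intro n _
      rw [Equiv.coe_mulRight, hf]
      have h2 : ((n * ⟨g₀, hg₀D⟩ : D) : H) = n * g₀ := rfl
      rw [h2, mul_inv_cancel_right]
      by_cases hn : (n : H) ∈ Z
      · rw [if_pos hn, if_pos (Subgroup.mem_subgroupOf.mpr hn)]
      · rw [if_neg hn, if_neg (fun h => hn (Subgroup.mem_subgroupOf.mp h)), zero_mul]
    rw [h1]
    by_cases hψ : ψ = χ
    · apply Finset.sum_eq_zero
      intro n _
      rw [hψ, hoff _ (hnZ _ (Subgroup.mem_subgroupOf.mp n.2)), map_zero, mul_zero]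
    · have h2 : ∑ z : Z, (ψ : H → ℂ) z * conj ((θ : Z → ℂ) z) = 0 := by
        have h3 : classInner (ψ : H → ℂ) (χ : H → ℂ) = 0 := IsIrrCharacter.inner_eq_zero ψ.2 χ.2 (fun h => hψ (Subtype.ext h))
        rw [classInner] at h3
        have h4 := (mul_eq_zero.mp h3).resolve_left (inv_ne_zero (by exact_mod_cast Nat.card_pos.ne'))
        have h5 : ∑ h : H, (ψ : H → ℂ) h * conj ((χ : H → ℂ) h) = ∑ h : H, (if h ∈ Z then (ψ : H → ℂ) h * conj ((χ : H → ℂ) h) else 0) := by
          apply Finset.sum_congr rfl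
          intro h _
          by_cases hh : h ∈ Z
          · rw [if_pos hh]
          · rw [if_neg hh, hoff h hh, map_zero, mul_zero]
        rw [h5, sum_sub (fun h => (ψ : H → ℂ) h * conj ((χ : H → ℂ) h))] at h4
        have h6 : ∑ z : Z, (ψ : H → ℂ) z * conj ((χ : H → ℂ) z) = (e : ℂ) * ∑ z : Z, (ψ : H → ℂ) z * conj ((θ : Z → ℂ) z) := by
          rw [Finset.mul_sum]
          apply Finset.sum_congr rfl
          intro z _
          rw [hres, map_mul, Complex.conj_natCast]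
          ring
        rw [h6] at h4
        exact (mul_eq_zero.mp h4).resolve_left he0
      have hα : IsCharacter D (ϑ * fun d : D => conj ((ψ : H → ℂ) d)) := IsCharacter.mul hϑc (IsCharacter.conj (IsCharacter.comp (irr_isCharacter ψ) D.subtype))
      refine CfsgLib.Block.coset_orth (G := Z.subgroupOf D) hα ?_ ⟨g₀, hg₀D⟩
      have h3 : ∑ n : Z.subgroupOf D, (ϑ * fun d : D => conj ((ψ : H → ℂ) d)) n = conj (∑ z : Z, (ψ : H → ℂ) z * conj ((θ : Z → ℂ) z)) := by
        rw [map_sum, ← Equiv.sum_comp (Subgroup.subgroupOfEquivOfLe hZD).toEquiv]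
        apply Finset.sum_congr rfl
        intro n _
        rw [Pi.mul_apply, hϑres, map_mul, Complex.conj_conj, mul_comm]
        rfl
      rw [h3, h2, map_zero]
  have hzero : ∀ n : Z.subgroupOf D, ϑ ((n : D) * ⟨g₀, hg₀D⟩) = 0 := by
    intro n
    have h1 := congrFun hind (n * g₀)
    rw [Pi.zero_apply, indFun_apply] at h1
    have h2 := (mul_eq_zero.mp h1).resolve_left (inv_ne_zero (by exact_mod_cast Nat.card_pos.ne'))
    have h3 : ∀ x : H, extendByZero D f (x⁻¹ * (n * g₀) * x) = if x ∈ D then ϑ ((n : D) * ⟨g₀, hg₀D⟩) else 0 := by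
      intro x
      have hnq : (((n : D) : H) : H ⧸ Z) = 1 := (QuotientGroup.eq_one_iff _).mpr (Subgroup.mem_subgroupOf.mp n.2)
      have hcast : ((x⁻¹ * (n * g₀) * x * g₀⁻¹ : H) : H ⧸ Z) = (x : H ⧸ Z)⁻¹ * ((((n : D) : H) : H ⧸ Z) * (g₀ : H ⧸ Z)) * (x : H ⧸ Z) * (g₀ : H ⧸ Z)⁻¹ := rfl
      by_cases hx : x ∈ D
      · rw [if_pos hx]
        have h4 : x⁻¹ * (n * g₀) * x = (((⟨x, hx⟩ : D)⁻¹ * (n * ⟨g₀, hg₀D⟩) * ⟨x, hx⟩ : D) : H) := rfl
        rw [h4, ext_coe, hf, if_pos]
        · have h5 := IsCharacter.isClassFunction hϑc (n * ⟨g₀, hg₀D⟩) (⟨x, hx⟩ : D)⁻¹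
          rw [inv_inv] at h5
          exact h5
        · rw [← h4]
          rw [← QuotientGroup.eq_one_iff]
          have h5 := (hcomm x).mp hx
          rw [hcast, hnq, one_mul, mul_assoc ((x : H ⧸ Z)⁻¹), ← h5]
          group
      · rw [if_neg hx]
        by_cases h4 : x⁻¹ * (n * g₀) * x ∈ D
        · have h5 : extendByZero D f (x⁻¹ * (n * g₀) * x) = f ⟨_, h4⟩ := ext_coe (θ := f) (⟨_, h4⟩ : D)
          rw [h5, hf, if_neg]
          intro h6
          apply hx
          rw [hcomm]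
          rw [← QuotientGroup.eq_one_iff] at h6
          rw [hcast, hnq, one_mul, mul_inv_eq_one, mul_assoc, inv_mul_eq_iff_eq_mul] at h6
          exact h6.symm
        · exact ext_of_not_mem h4
    rw [Finset.sum_congr rfl fun x _ => h3 x, sum_sub (Z := D) (fun _ => ϑ ((n : D) * ⟨g₀, hg₀D⟩)), Finset.sum_const, Finset.card_univ, nsmul_eq_mul] at h2
    exact (mul_eq_zero.mp h2).resolve_left (by exact_mod_cast Fintype.card_pos.ne')
  have hresirr : IsIrrCharacter (Z.subgroupOf D) (fun n : Z.subgroupOf D => ϑ n) := by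
    have : (fun n : Z.subgroupOf D => ϑ n) = subFun D (θ : Z → ℂ) := by
      funext n; exact hϑres n
    rw [this]
    exact subFun_irr hZD θ.2
  have h2 := CfsgLib.DetExt4.coset_norm hϑ hresirr ⟨g₀, hg₀D⟩
  rw [Finset.sum_eq_zero (fun n _ => by rw [hzero n, zero_mul])] at h2
  exact (Nat.cast_ne_zero.mpr Nat.card_pos.ne' : (Nat.card (Z.subgroupOf D) : ℂ) ≠ 0) h2.symm

end CfsgLib.Ramif
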