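import Cfsg.Agent.Lib.BEasy34
import Cfsg.Agent.Lib.BGlau7
import Cfsg.Agent.Lib.BFR2

/-!
# Characters over a faithful character of a central subgroup
-/

set_option autoImplicit false
set_option linter.style.haveILetI false
set_option linter.unusedSectionVars false
set_option linter.unusedVariables false

open scoped ComplexConjugate Pointwise

namespace CfsgLib.Good

open Cfsg CfsgLib.CharBasic

universe u v

theorem card_filter_sum {ι : Type u} [Fintype ι] (s : ι → Prop) [DecidablePred s] : (Nat.card {i : ι // s i} : ℂ) = ∑ i : ι, if s i then (1 : ℂ) else 0 := by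
  rw [Finset.sum_boole, Nat.card_eq_fintype_card, Fintype.card_subtype]

theorem card_classes {Q : Type u} [Group Q] [Fintype Q] (s : ConjClasses Q → Prop) [DecidablePred s] : (Nat.card {C : ConjClasses Q // s C} : ℂ) = ∑ q : Q, if s (ConjClasses.mk q) then (((Subgroup.centralizer ({q} : Set Q)).index : ℂ))⁻¹ else 0 := by
  classical
  haveI : Fintype (ConjClasses Q) := Fintype.ofFinite _
  rw [card_filter_sum, ← Finset.sum_fiberwise Finset.univ (fun q : Q => ConjClasses.mk q) (fun q : Q => if s (ConjClasses.mk q) then (((Subgroup.centralizer ({q} : Set Q)).index : ℂ))⁻¹ else 0)]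
  apply Finset.sum_congr rfl
  intro C _
  obtain ⟨q₀, rfl⟩ := ConjClasses.mk_surjective C
  have h1 : ∀ q ∈ Finset.univ.filter (fun q : Q => ConjClasses.mk q = ConjClasses.mk q₀), (if s (ConjClasses.mk q) then (((Subgroup.centralizer ({q} : Set Q)).index : ℂ))⁻¹ else 0) = if s (ConjClasses.mk q₀) then (((Subgroup.centralizer ({q₀} : Set Q)).index : ℂ))⁻¹ else 0 := by
    intro q hq
    have h2 := (Finset.mem_filter.mp hq).2
    have h3 : IsConj q₀ q := (ConjClasses.mk_eq_mk_iff_isConj.mp h2).symm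
    have h4 : (Subgroup.centralizer ({q} : Set Q)).index = (Subgroup.centralizer ({q₀} : Set Q)).index := by
      rw [← card_isConj_eq_index, ← card_isConj_eq_index]
      apply Nat.card_congr
      apply Equiv.subtypeEquivRight
      intro x
      exact ⟨fun h => h3.trans h, fun h => h3.symm.trans h⟩
    rw [h2, h4]
  rw [Finset.sum_congr rfl h1, Finset.sum_const, nsmul_eq_mul]
  have h5 : ((Finset.univ.filter (fun q : Q => ConjClasses.mk q = ConjClasses.mk q₀)).card : ℂ) = (Subgroup.centralizer ({q₀} : Set Q)).index := by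
    rw [← card_isConj_eq_index, ← Fintype.card_coe, ← Nat.card_eq_fintype_card]
    norm_cast
    apply Nat.card_congr
    apply Equiv.subtypeEquivRight
    intro x
    rw [Finset.mem_filter]
    constructor
    · intro h
      exact (ConjClasses.mk_eq_mk_iff_isConj.mp h.2).symm
    · intro h
      exact ⟨Finset.mem_univ _, ConjClasses.mk_eq_mk_iff_isConj.mpr h.symm⟩
  rw [h5]
  by_cases hs : s (ConjClasses.mk q₀)
  · rw [if_pos hs, if_pos hs, mul_inv_cancel₀]
    exact_mod_cast Subgroup.index_ne_zero_of_finite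
  · rw [if_neg hs, if_neg hs, mul_zero]

variable {G : Type u} [Group G] [Fintype G]

/-- special elements -/
def Sp (N : Subgroup G) (g : G) : Prop := ∀ x : G, x⁻¹ * g⁻¹ * x * g ∈ N → x * g = g * x

theorem sp_iff {N : Subgroup G} (hN : N ≤ Subgroup.center G) (g : G) : Sp N g ↔ ∀ z ∈ N, IsConj g (z * g) → z = 1 := by
  constructor
  · intro h z hz hc
    obtain ⟨x, hx⟩ := isConj_iff.mp hc
    have h1 := h x⁻¹ (by
      have h2 : x⁻¹⁻¹ * g⁻¹ * x⁻¹ * g = (x * g * x⁻¹)⁻¹ * g := by group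
      rw [h2, hx]
      have h3 : (z * g)⁻¹ * g = g⁻¹ * (z⁻¹ * g) := by group
      rw [h3, ← (Subgroup.mem_center_iff.mp (hN (N.inv_mem hz)) g), inv_mul_cancel_left]
      exact N.inv_mem hz)
    have h2 : x * g * x⁻¹ = g := by
      have h3 : x * (x⁻¹ * g) * x = x * (g * x⁻¹) * x := by rw [h1]
      have h4 : g * x = x * g := by
        have e1 : x * (x⁻¹ * g) * x = g * x := by group
        have e2 : x * (g * x⁻¹) * x = x * g := by group
        rw [← e1, ← e2, h3]
      rw [← h4]; group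
    rw [h2] at hx
    exact mul_eq_right.mp hx.symm
  · intro h x hx
    have h1 := h (x⁻¹ * g⁻¹ * x * g)⁻¹ (N.inv_mem hx) (by
      rw [isConj_iff]
      refine ⟨x⁻¹, ?_⟩
      have h2 := Subgroup.mem_center_iff.mp (hN (N.inv_mem hx)) g
      rw [← h2]; group)
    rw [inv_eq_one] at h1
    have h2 : x * g = g * x * (x⁻¹ * g⁻¹ * x * g) := by group
    rw [h2, h1, mul_one]

theorem sp_mul {N : Subgroup G} (hN : N ≤ Subgroup.center G) {g : G} (h : Sp N g) {n : G} (hn : n ∈ N) : Sp N (g * n) := by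
  have hnc : ∀ y : G, y * n = n * y := Subgroup.mem_center_iff.mp (hN hn)
  intro x hx
  have h1 : x⁻¹ * (g * n)⁻¹ * x * (g * n) = x⁻¹ * g⁻¹ * x * g := by
    have h2 : x⁻¹ * (g * n)⁻¹ * x * (g * n) = x⁻¹ * n⁻¹ * (g⁻¹ * x * g * n) := by group
    rw [h2, hnc, mul_assoc x⁻¹, inv_mul_cancel_left]; group
  rw [h1] at hx
  rw [← mul_assoc, h x hx, mul_assoc, hnc x, ← mul_assoc]

theorem sp_conj {N : Subgroup G} [hNn : N.Normal] {g : G} (h : Sp N g) (y : G) : Sp N (y * g * y⁻¹) := by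
  intro x hx
  have h1 := hNn.conj_mem _ hx y⁻¹
  have h2 : y⁻¹ * (x⁻¹ * (y * g * y⁻¹)⁻¹ * x * (y * g * y⁻¹)) * y⁻¹⁻¹ = (y⁻¹ * x * y)⁻¹ * g⁻¹ * (y⁻¹ * x * y) * g := by group
  rw [h2] at h1
  have h3 := h _ h1
  have h4 : x * (y * g * y⁻¹) = y * ((y⁻¹ * x * y) * g) * y⁻¹ := by group
  rw [h4, h3]; group

theorem s4567 (N : Subgroup G) [hNn : N.Normal] [Fintype N] (hN : N ≤ Subgroup.center G) (ψ : IrrCharacter N) (hfaith : ∀ n : N, (ψ : N → ℂ) n = (ψ : N → ℂ) 1 → n = 1) :
    Nat.card {χ : IrrCharacter G // classInner (fun n : N => (χ : G → ℂ) n) (ψ : N → ℂ) ≠ 0} = Nat.card {C : ConjClasses (G ⧸ N) // ∃ g : G, ConjClasses.mk (g : G ⧸ N) = C ∧ ∀ x : G, x⁻¹ * g⁻¹ * x * g ∈ N → x * g = g * x} := by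
  classical
  haveI : Fintype (G ⧸ N) := Fintype.ofFinite _
  have hGc : (Nat.card G : ℂ) ≠ 0 := by exact_mod_cast Nat.card_pos.ne'
  have hNc : (Nat.card N : ℂ) ≠ 0 := by exact_mod_cast Nat.card_pos.ne'
  have hψ1 : (ψ : N → ℂ) 1 = 1 := IsIrrCharacter.degree_one_of_comm ψ.2 (fun a b => by
      apply Subtype.ext
      exact (Subgroup.mem_center_iff.mp (hN b.2) a))
  obtain ⟨lam, hlam⟩ := IsCharacter.exists_linear (irr_isCharacter ψ) hψ1
  have hν : ∀ χ : IrrCharacter G, ∃ ν : N →* ℂˣ, ∀ (z : N) (g : G), (χ : G → ℂ) ((z : G) * g) = (ν z : ℂ) * (χ : G → ℂ) g := fun χ => CfsgLib.Block.central_lin χ.2 N hN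
  choose ν hν using hν
  obtain ⟨A, hA⟩ : ∃ A : IrrCharacter G → ℂ, ∀ χ, A χ = (Nat.card N : ℂ)⁻¹ * ∑ z : N, (ν χ z : ℂ) * conj ((ψ : N → ℂ) z) := ⟨_, fun χ => rfl⟩
  have hin : ∀ χ : IrrCharacter G, classInner (fun n : N => (χ : G → ℂ) n) (ψ : N → ℂ) = (χ : G → ℂ) 1 * A χ := by
    intro χ
    rw [classInner, hA, mul_left_comm]
    congr 1
    rw [Finset.mul_sum]
    apply Finset.sum_congr rfl
    intro z _
    have h1 := hν χ z 1
    rw [mul_one] at h1
    change (χ : G → ℂ) z * _ = _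
    rw [h1]; ring
  have hA1 : ∀ χ : IrrCharacter G, A χ = if classInner (fun n : N => (χ : G → ℂ) n) (ψ : N → ℂ) ≠ 0 then 1 else 0 := by
    intro χ
    have h1 : (χ : G → ℂ) 1 ≠ 0 := IsIrrCharacter.one_ne_zero χ.2
    have h2 : A χ = classInner (fun z : N => (ν χ z : ℂ)) (ψ : N → ℂ) := by rw [hA]; rfl
    have h3 : IsIrrCharacter N (fun z : N => (ν χ z : ℂ)) := isIrr_linear (ν χ)
    by_cases h4 : (fun z : N => (ν χ z : ℂ)) = (ψ : N → ℂ)
    · have h5 : A χ = 1 := by rw [h2, h4]; exact IsIrrCharacter.inner_self ψ.2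
      rw [if_pos, h5]
      rw [hin, h5, mul_one]; exact h1
    · have h5 : A χ = 0 := by rw [h2]; exact IsIrrCharacter.inner_eq_zero h3 ψ.2 h4
      rw [if_neg, h5]
      rw [hin, h5, mul_zero]; exact fun h => h rfl
  have hcount : (Nat.card {χ : IrrCharacter G // classInner (fun n : N => (χ : G → ℂ) n) (ψ : N → ℂ) ≠ 0} : ℂ) = ∑ χ : IrrCharacter G, A χ := by
    rw [card_filter_sum]
    exact Finset.sum_congr rfl fun χ _ => (hA1 χ).symm
  -- the inner sum
  have hinner : ∀ g : G, ∑ χ : IrrCharacter G, A χ * ((χ : G → ℂ) g * conj ((χ : G → ℂ) g)) = (Nat.card N : ℂ)⁻¹ * ((∑ z : N, conj ((ψ : N → ℂ) z) * classInd g (z * g)) * (Nat.card (Subgroup.centralizer ({g} : Set G)) : ℂ)) := by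
    intro g
    have h1 : ∀ χ : IrrCharacter G, A χ * ((χ : G → ℂ) g * conj ((χ : G → ℂ) g)) = (Nat.card N : ℂ)⁻¹ * ∑ z : N, conj ((ψ : N → ℂ) z) * ((χ : G → ℂ) (z * g) * conj ((χ : G → ℂ) g)) := by
      intro χ
      rw [hA, mul_assoc, Finset.sum_mul]
      congr 1
      apply Finset.sum_congr rfl
      intro z _
      rw [hν]; ring
    rw [Finset.sum_congr rfl fun χ _ => h1 χ, ← Finset.mul_sum, Finset.sum_comm, Finset.sum_mul]
    congr 1
    apply Finset.sum_congr rfl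
    intro z _
    rw [← Finset.mul_sum, sum_irr_mul_conj]; ring
  have hsp : ∀ g : G, ∑ z : N, conj ((ψ : N → ℂ) z) * classInd g (z * g) = if Sp N g then 1 else 0 := by
    intro g
    by_cases hg : Sp N g
    · rw [if_pos hg, Finset.sum_eq_single 1]
      · rw [hψ1, map_one, one_mul, OneMemClass.coe_one, one_mul, classInd_of_isConj (IsConj.refl g)]
      · intro z _ hz
        rw [classInd_of_not_isConj, mul_zero]
        intro h
        apply hz
        exact Subtype.ext ((sp_iff hN g).mp hg z z.2 h)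
      · intro h; exact absurd (Finset.mem_univ _) h
    · rw [if_neg hg]
      rw [sp_iff hN] at hg
      push Not at hg
      obtain ⟨z₀, hz₀, hc, hne⟩ := hg
      have h1 : ∀ z : N, IsConj g (((z * ⟨z₀, hz₀⟩ : N) : G) * g) ↔ IsConj g (z * g) := by
        intro z
        obtain ⟨x, hx⟩ := isConj_iff.mp hc
        have hzc : ∀ y : G, y * z = z * y := Subgroup.mem_center_iff.mp (hN z.2)
        have h2 : IsConj ((z : G) * g) (((z * ⟨z₀, hz₀⟩ : N) : G) * g) := by
          rw [isConj_iff]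
          refine ⟨x, ?_⟩
          have h3 : ((z * ⟨z₀, hz₀⟩ : N) : G) = z * z₀ := rfl
          rw [h3, mul_assoc (z : G), ← hx, ← mul_assoc x, hzc x]; group
        exact ⟨fun h => h.trans h2.symm, fun h => h.trans h2⟩
      have h2 : ∀ z : N, conj ((ψ : N → ℂ) (z * ⟨z₀, hz₀⟩)) * classInd g (((z * ⟨z₀, hz₀⟩ : N) : G) * g) = conj ((ψ : N → ℂ) ⟨z₀, hz₀⟩) * (conj ((ψ : N → ℂ) z) * classInd g (z * g)) := by
        intro z
        have h3 : classInd g (((z * ⟨z₀, hz₀⟩ : N) : G) * g) = classInd g (z * g) := by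
          by_cases h4 : IsConj g (z * g)
          · rw [classInd_of_isConj h4, classInd_of_isConj ((h1 z).mpr h4)]
          · rw [classInd_of_not_isConj h4, classInd_of_not_isConj (fun h => h4 ((h1 z).mp h))]
        rw [h3, hlam, hlam, hlam, map_mul, Units.val_mul, map_mul]; ring
      have h3 := Equiv.sum_comp (Equiv.mulRight (⟨z₀, hz₀⟩ : N)) (fun z : N => conj ((ψ : N → ℂ) z) * classInd g (z * g))
      simp only [Equiv.coe_mulRight] at h3
      rw [Finset.sum_congr rfl fun z _ => h2 z, ← Finset.mul_sum] at h3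
      have h4 : conj ((ψ : N → ℂ) ⟨z₀, hz₀⟩) ≠ 1 := by
        intro h
        apply hne
        have h5 : (ψ : N → ℂ) ⟨z₀, hz₀⟩ = (ψ : N → ℂ) 1 := by
          rw [hψ1, ← Complex.conj_conj ((ψ : N → ℂ) ⟨z₀, hz₀⟩), h, map_one]
        exact congrArg Subtype.val (hfaith _ h5)
      have h5 : (conj ((ψ : N → ℂ) ⟨z₀, hz₀⟩) - 1) * ∑ z : N, conj ((ψ : N → ℂ) z) * classInd g (z * g) = 0 := by
        rw [sub_mul, one_mul, h3, sub_self]
      exact (mul_eq_zero.mp h5).resolve_left (sub_ne_zero.mpr h4)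
  have hidx : ∀ g : G, (Nat.card G : ℂ)⁻¹ * (Nat.card (Subgroup.centralizer ({g} : Set G)) : ℂ) = ((Subgroup.centralizer ({g} : Set G)).index : ℂ)⁻¹ := by
    intro g
    have h1 : (Nat.card (Subgroup.centralizer ({g} : Set G)) : ℂ) * (Subgroup.centralizer ({g} : Set G)).index = Nat.card G := by
      exact_mod_cast Subgroup.card_mul_index _
    have h2 : ((Subgroup.centralizer ({g} : Set G)).index : ℂ) ≠ 0 := by exact_mod_cast Subgroup.index_ne_zero_of_finite
    rw [← h1] at hGc ⊢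
    have h3 := left_ne_zero_of_mul hGc
    field_simp
  have hlhs : ∑ χ : IrrCharacter G, A χ = (Nat.card N : ℂ)⁻¹ * ∑ g : G, if Sp N g then ((Subgroup.centralizer ({g} : Set G)).index : ℂ)⁻¹ else 0 := by
    have h1 : ∀ χ : IrrCharacter G, A χ = (Nat.card G : ℂ)⁻¹ * ∑ g : G, A χ * ((χ : G → ℂ) g * conj ((χ : G → ℂ) g)) := by
      intro χ
      have h2 := IsIrrCharacter.inner_self χ.2
      rw [classInner] at h2
      rw [← Finset.mul_sum, mul_left_comm, h2, mul_one]
    rw [Finset.sum_congr rfl fun χ _ => h1 χ, ← Finset.mul_sum, Finset.sum_comm, Finset.sum_congr rfl fun g _ => hinner g, Finset.mul_sum, Finset.mul_sum]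
    apply Finset.sum_congr rfl
    intro g _
    rw [hsp, mul_left_comm]
    congr 1
    by_cases hg : Sp N g
    · rw [if_pos hg, if_pos hg, one_mul, hidx]
    · rw [if_neg hg, if_neg hg, zero_mul, mul_zero]
  have hs : ∀ g : G, (∃ g' : G, ConjClasses.mk (g' : G ⧸ N) = ConjClasses.mk (g : G ⧸ N) ∧ ∀ x : G, x⁻¹ * g'⁻¹ * x * g' ∈ N → x * g' = g' * x) ↔ Sp N g := by
    intro g
    constructor
    · rintro ⟨g', hg', hsp'⟩
      obtain ⟨y, hy⟩ := isConj_iff.mp (ConjClasses.mk_eq_mk_iff_isConj.mp hg')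
      obtain ⟨y, rfl⟩ := QuotientGroup.mk'_surjective N y
      have h1 : ((y * g' * y⁻¹ : G) : G ⧸ N) = g := hy
      have h2 := QuotientGroup.eq.mp h1
      have h3 : Sp N (y * g' * y⁻¹) := sp_conj hsp' y
      have h4 := sp_mul hN h3 h2
      rwa [mul_inv_cancel_left] at h4
    · intro h
      exact ⟨g, rfl, h⟩
  have hcen : ∀ g : G, Sp N g → (Subgroup.centralizer ({(g : G ⧸ N)} : Set (G ⧸ N))).index = (Subgroup.centralizer ({g} : Set G)).index := by
    intro g hg
    rw [← Subgroup.index_comap_of_surjective _ (QuotientGroup.mk'_surjective N)]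
    congr 1
    ext x
    rw [Subgroup.mem_comap, Subgroup.mem_centralizer_iff, Subgroup.mem_centralizer_iff]
    constructor
    · intro h y hy
      rw [Set.mem_singleton_iff.mp hy]
      have h1 : (g : G ⧸ N) * x = x * g := h _ rfl
      symm
      apply hg
      rw [← QuotientGroup.eq_one_iff]
      have h2 : ((x⁻¹ * g⁻¹ * x * g : G) : G ⧸ N) = (x : G ⧸ N)⁻¹ * (g : G ⧸ N)⁻¹ * ((x : G ⧸ N) * g) := by
        rw [← mul_assoc]; rfl
      rw [h2, ← h1]; group
    · intro h y hy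
      rw [Set.mem_singleton_iff.mp hy]
      have h1 := h g rfl
      exact congrArg (QuotientGroup.mk' N) h1
  have hrhs : (Nat.card {C : ConjClasses (G ⧸ N) // ∃ g : G, ConjClasses.mk (g : G ⧸ N) = C ∧ ∀ x : G, x⁻¹ * g⁻¹ * x * g ∈ N → x * g = g * x} : ℂ) = (Nat.card N : ℂ)⁻¹ * ∑ g : G, if Sp N g then ((Subgroup.centralizer ({g} : Set G)).index : ℂ)⁻¹ else 0 := by
    rw [card_classes]
    have h1 := CfsgLib.Block.sum_cosets N (fun g : G => if (∃ g' : G, ConjClasses.mk (g' : G ⧸ N) = ConjClasses.mk (g : G ⧸ N) ∧ ∀ x : G, x⁻¹ * g'⁻¹ * x * g' ∈ N → x * g' = g' * x) then (((Subgroup.centralizer ({(g : G ⧸ N)} : Set (G ⧸ N))).index : ℂ))⁻¹ else 0) (by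
      intro x t ht
      have : ((x * t : G) : G ⧸ N) = x := by
        rw [QuotientGroup.mk_mul_of_mem x ht]
      simp only [this])
    have h2 : ∀ q : G ⧸ N, ((q.out : G) : G ⧸ N) = q := fun q => q.out_eq'
    simp only [h2] at h1
    rw [← mul_right_inj' hNc, ← h1, ← mul_assoc, mul_inv_cancel₀ hNc, one_mul]
    apply Finset.sum_congr rfl
    intro g _
    by_cases hg : Sp N g
    · rw [if_pos ((hs g).mpr hg), if_pos hg, hcen g hg]
    · rw [if_neg (fun h => hg ((hs g).mp h)), if_neg hg]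
  have : (Nat.card {χ : IrrCharacter G // classInner (fun n : N => (χ : G → ℂ) n) (ψ : N → ℂ) ≠ 0} : ℂ) = (Nat.card {C : ConjClasses (G ⧸ N) // ∃ g : G, ConjClasses.mk (g : G ⧸ N) = C ∧ ∀ x : G, x⁻¹ * g⁻¹ * x * g ∈ N → x * g = g * x} : ℂ) := by
    rw [hcount, hlhs, hrhs]
  exact_mod_cast this

end CfsgLib.Good
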