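import Cfsg.Agent.Lib.BEasy35
import Cfsg.Agent.Lib.PGrp

/-!
# Groups of order `p ^ 4` and derived subgroups of `p`-groups
-/

set_option autoImplicit false
set_option linter.style.haveILetI false
set_option linter.unusedSectionVars false
set_option linter.unusedVariables false

open scoped Pointwise commutatorElement

namespace CfsgLib.P4

universe u v

variable {P : Type u} [Group P]

theorem top_of {N : Subgroup P} {x : P} (h : N ⊔ Subgroup.zpowers x = ⊤) {L : Subgroup P} (h1 : N ≤ L) (h2 : x ∈ L) : L = ⊤ := by
  rw [eq_top_iff, ← h]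
  exact sup_le h1 ((Subgroup.zpowers_le).mpr h2)

section

variable (N : Subgroup P) [hN : N.Normal] (x : P)

/-- the map `n ↦ [x, n]` to the abelianization -/
noncomputable def f : N →* Abelianization N :=
  ((Abelianization.of (G := N)).comp (MulAut.conjNormal x : MulAut N).toMonoidHom) / (Abelianization.of (G := N))

theorem f_apply (n : N) : f N x n = Abelianization.of ((MulAut.conjNormal x : MulAut N) n) / Abelianization.of n := rfl

theorem of_eq_one (n : N) : Abelianization.of n = 1 ↔ n ∈ commutator N := by
  rw [← MonoidHom.mem_ker, Abelianization.ker_of]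

/-- the preimage of the image -/
noncomputable def M : Subgroup N := (f N x).range.comap (Abelianization.of (G := N))

theorem mem_M (m : N) : m ∈ M N x ↔ ∃ n, f N x n = Abelianization.of m := by
  rw [M, Subgroup.mem_comap, MonoidHom.mem_range]

theorem comm_le_M : commutator N ≤ M N x := by
  intro m hm
  rw [mem_M]
  exact ⟨1, by rw [map_one, (of_eq_one N m).mpr hm]⟩

theorem card_M [Finite P] : Nat.card (M N x) * Nat.card (f N x).ker = Nat.card N * Nat.card (commutator N) := by
  have h1 := Subgroup.card_mul_index (f N x).ker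
  rw [Subgroup.index_ker] at h1
  have h2 := Subgroup.card_mul_index (M N x)
  have hsurj : Function.Surjective (Abelianization.of (G := N)) := QuotientGroup.mk'_surjective _
  rw [M, Subgroup.index_comap_of_surjective _ hsurj, ← M] at h2
  have h3 := Subgroup.card_mul_index (f N x).range
  have h4 := Subgroup.card_mul_index (commutator N)
  rw [Subgroup.index_eq_card] at h4
  have h5 : Nat.card (N ⧸ commutator N) = Nat.card (Abelianization N) := rfl
  rw [h5] at h4
  haveI : Finite (Abelianization N) := inferInstanceAs (Finite (N ⧸ commutator N))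
  have h6 : 0 < (f N x).range.index := Nat.pos_of_ne_zero Subgroup.index_ne_zero_of_finite
  apply Nat.eq_of_mul_eq_mul_right h6
  calc Nat.card (M N x) * Nat.card (f N x).ker * (f N x).range.index = (Nat.card (M N x) * (f N x).range.index) * Nat.card (f N x).ker := by ring
    _ = Nat.card N * Nat.card (f N x).ker := by rw [h2]
    _ = Nat.card (commutator N) * Nat.card (Abelianization N) * Nat.card (f N x).ker := by rw [h4]
    _ = Nat.card (commutator N) * (Nat.card (f N x).range * (f N x).range.index) * Nat.card (f N x).ker := by rw [h3]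
    _ = (Nat.card (f N x).ker * Nat.card (f N x).range) * Nat.card (commutator N) * (f N x).range.index := by ring
    _ = _ := by rw [h1]

theorem M_invariant (y : P) (hy : y * x = x * y) {m : N} (hm : m ∈ M N x) : (MulAut.conjNormal y : MulAut N) m ∈ M N x := by
  rw [mem_M] at hm ⊢
  obtain ⟨n, hn⟩ := hm
  refine ⟨(MulAut.conjNormal y : MulAut N) n, ?_⟩
  have h1 : ∀ k : N, Abelianization.of ((MulAut.conjNormal y : MulAut N) k) = Abelianization.map (MulAut.conjNormal y : MulAut N).toMonoidHom (Abelianization.of k) := fun k => (Abelianization.map_of (MulAut.conjNormal y : MulAut N).toMonoidHom k).symm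
  rw [h1, ← hn, f_apply, f_apply, map_div, ← h1, ← h1]
  congr 2
  have h2 : (MulAut.conjNormal x : MulAut N) ((MulAut.conjNormal y : MulAut N) n) = (MulAut.conjNormal y : MulAut N) ((MulAut.conjNormal x : MulAut N) n) := by
    rw [← MulAut.mul_apply, ← map_mul, ← hy, map_mul, MulAut.mul_apply]
  rw [h2]

theorem map_M (hx : N ⊔ Subgroup.zpowers x = ⊤) : (M N x).map N.subtype = commutator P := by
  have hcN : (commutator N).map N.subtype ≤ commutator P := by
    rintro _ ⟨c, hc, rfl⟩
    have h1 : commutator N ≤ (commutator P).comap N.subtype := by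
      rw [commutator_def, Subgroup.commutator_le]
      intro a _ b _
      rw [Subgroup.mem_comap, map_commutatorElement, commutator_def]
      exact Subgroup.commutator_mem_commutator (Subgroup.mem_top _) (Subgroup.mem_top _)
    exact h1 hc
  apply le_antisymm
  · rintro _ ⟨m, hm, rfl⟩
    obtain ⟨n, hn⟩ := (mem_M N x m).mp hm
    rw [f_apply] at hn
    have h1 : Abelianization.of (((MulAut.conjNormal x : MulAut N) n * n⁻¹)⁻¹ * m) = 1 := by
      rw [map_mul, map_inv, map_mul, map_inv, ← hn, div_eq_mul_inv, inv_mul_cancel]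
    rw [of_eq_one] at h1
    have h2 := hcN ⟨_, h1, rfl⟩
    have h3 : N.subtype (((MulAut.conjNormal x : MulAut N) n * n⁻¹)⁻¹ * m) = (x * n * x⁻¹ * (n : P)⁻¹)⁻¹ * m := by
      simp [MulAut.conjNormal_apply]
    rw [h3] at h2
    have h4 : x * n * x⁻¹ * (n : P)⁻¹ ∈ commutator P := by
      rw [commutator_def]
      exact Subgroup.commutator_mem_commutator (Subgroup.mem_top x) (Subgroup.mem_top (n : P))
    have h5 := (commutator P).mul_mem h4 h2
    rwa [mul_inv_cancel_left] at h5
  · obtain ⟨K, hK⟩ : ∃ K, K = (M N x).map N.subtype := ⟨_, rfl⟩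
    rw [← hK]
    have hKN : ∀ k, k ∈ K ↔ ∃ h : k ∈ N, (⟨k, h⟩ : N) ∈ M N x := by
      intro k
      rw [hK]
      constructor
      · rintro ⟨m, hm, rfl⟩
        exact ⟨m.2, hm⟩
      · rintro ⟨h, hm⟩
        exact ⟨_, hm, rfl⟩
    have hcomN : ∀ a ∈ N, ∀ b ∈ N, a * b * a⁻¹ * b⁻¹ ∈ K := by
      intro a ha b hb
      rw [hKN]
      have h1 : (⟨a, ha⟩ * ⟨b, hb⟩ * ⟨a, ha⟩⁻¹ * ⟨b, hb⟩⁻¹ : N) ∈ M N x := by
        apply comm_le_M
        rw [commutator_def]
        exact Subgroup.commutator_mem_commutator (Subgroup.mem_top (⟨a, ha⟩ : N)) (Subgroup.mem_top (⟨b, hb⟩ : N))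
      exact ⟨N.mul_mem (N.mul_mem (N.mul_mem ha hb) (N.inv_mem ha)) (N.inv_mem hb), h1⟩
    have hxN : ∀ b ∈ N, x * b * x⁻¹ * b⁻¹ ∈ K := by
      intro b hb
      rw [hKN]
      refine ⟨N.mul_mem (hN.conj_mem b hb x) (N.inv_mem hb), ?_⟩
      rw [mem_M]
      refine ⟨⟨b, hb⟩, ?_⟩
      rw [f_apply, div_eq_mul_inv, ← map_inv, ← map_mul]
      congr 1
    have hKinv : ∀ y : P, y * x = x * y → ∀ k ∈ K, y * k * y⁻¹ ∈ K := by
      intro y hy k hk
      obtain ⟨h, hm⟩ := (hKN k).mp hk
      rw [hKN]
      exact ⟨hN.conj_mem k h y, M_invariant N x y hy hm⟩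
    have hnorm : Subgroup.normalizer (K : Set P) = ⊤ := by
      apply top_of hx
      · intro a ha
        rw [Subgroup.mem_normalizer_iff]
        have h1 : ∀ a ∈ N, ∀ k ∈ K, a * k * a⁻¹ ∈ K := by
          intro a ha k hk
          obtain ⟨h, -⟩ := (hKN k).mp hk
          have h2 := K.mul_mem (hcomN a ha k h) hk
          rwa [inv_mul_cancel_right] at h2
        intro k
        constructor
        · exact h1 a ha k
        · intro hk
          have h2 := h1 a⁻¹ (N.inv_mem ha) _ hk
          have h3 : a⁻¹ * (a * k * a⁻¹) * a⁻¹⁻¹ = k := by group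
          rwa [h3] at h2
      · rw [Subgroup.mem_normalizer_iff]
        intro k
        constructor
        · exact hKinv x rfl k
        · intro hk
          have h2 := hKinv x⁻¹ (by group) _ hk
          have h3 : x⁻¹ * (x * k * x⁻¹) * x⁻¹⁻¹ = k := by group
          rwa [h3] at h2
    haveI hKn : K.Normal := Subgroup.normalizer_eq_top_iff.mp hnorm
    -- the quotient is commutative
    have hq : ∀ a b : P, a * b * a⁻¹ * b⁻¹ ∈ K → (a : P ⧸ K) * b = b * a := by
      intro a b h
      have h1 : ((a * b * a⁻¹ * b⁻¹ : P) : P ⧸ K) = 1 := (QuotientGroup.eq_one_iff _).mpr h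
      have h2 : ((a * b * a⁻¹ * b⁻¹ : P) : P ⧸ K) = (a : P ⧸ K) * b * (a : P ⧸ K)⁻¹ * (b : P ⧸ K)⁻¹ := rfl
      rw [h2, mul_inv_eq_one, mul_inv_eq_iff_eq_mul] at h1
      exact h1
    have hq' : ∀ a b : P, (a : P ⧸ K) * b = b * a → a * b * a⁻¹ * b⁻¹ ∈ K := by
      intro a b h
      rw [← QuotientGroup.eq_one_iff]
      have h2 : ((a * b * a⁻¹ * b⁻¹ : P) : P ⧸ K) = (a : P ⧸ K) * b * (a : P ⧸ K)⁻¹ * (b : P ⧸ K)⁻¹ := rfl
      rw [h2, h]; group
    have hcen : ∀ b : P, (∀ a ∈ N, (a : P ⧸ K) * b = b * a) → (x : P ⧸ K) * b = b * x → ∀ a : P, (a : P ⧸ K) * b = b * a := by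
      intro b h1 h2
      have h3 : (Subgroup.centralizer ({(b : P ⧸ K)} : Set (P ⧸ K))).comap (QuotientGroup.mk' K) = ⊤ := by
        apply top_of hx
        · intro a ha
          rw [Subgroup.mem_comap, Subgroup.mem_centralizer_iff]
          intro y hy
          rw [Set.mem_singleton_iff.mp hy]
          exact (h1 a ha).symm
        · rw [Subgroup.mem_comap, Subgroup.mem_centralizer_iff]
          intro y hy
          rw [Set.mem_singleton_iff.mp hy]
          exact h2.symm
      intro a
      have h4 : a ∈ (Subgroup.centralizer ({(b : P ⧸ K)} : Set (P ⧸ K))).comap (QuotientGroup.mk' K) := by rw [h3]; exact Subgroup.mem_top _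
      rw [Subgroup.mem_comap, Subgroup.mem_centralizer_iff] at h4
      exact (h4 _ rfl).symm
    have hN1 : ∀ b ∈ N, ∀ a : P, (a : P ⧸ K) * b = b * a := by
      intro b hb
      apply hcen b
      · intro a ha
        exact hq a b (hcomN a ha b hb)
      · exact hq x b (hxN b hb)
    have hx1 : ∀ a : P, (a : P ⧸ K) * x = x * a := by
      apply hcen x
      · intro a ha
        exact (hN1 a ha x).symm
      · rfl
    rw [commutator_def, Subgroup.commutator_le]
    intro a _ b _
    apply hq'
    apply hcen b
    · intro c hc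
      exact (hN1 c hc b).symm
    · exact (hx1 b).symm

/-- the key formula -/
theorem key [Finite P] (hx : N ⊔ Subgroup.zpowers x = ⊤) : Nat.card (commutator P) * Nat.card {n : N // x * n * x⁻¹ * (n : P)⁻¹ ∈ (commutator N).map N.subtype} = Nat.card N * Nat.card (commutator N) := by
  rw [← card_M N x, ← map_M N x hx]
  congr 1
  · exact (Nat.card_congr (Subgroup.equivMapOfInjective (M N x) N.subtype N.subtype_injective).toEquiv).symm
  · apply Nat.card_congr
    apply Equiv.subtypeEquivRight
    intro n
    rw [MonoidHom.mem_ker, f_apply, div_eq_mul_inv, ← map_inv, ← map_mul, of_eq_one]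
    constructor
    · rintro ⟨c, hc, hcn⟩
      have h1 : c = (MulAut.conjNormal x : MulAut N) n * n⁻¹ := Subtype.ext hcn
      rw [← h1]; exact hc
    · intro h
      exact ⟨_, h, rfl⟩

end

section

variable {p : ℕ} [hp : Fact p.Prime] [Finite P]

theorem sup_of_not_mem {N : Subgroup P} (hN : N.index = p) {x : P} (hx : x ∉ N) : N ⊔ Subgroup.zpowers x = ⊤ := by
  apply (CfsgLib.PGrp.isCoatom_of_index_prime hN).2
  apply lt_of_le_of_ne le_sup_left
  intro h
  apply hx
  rw [h]
  exact Subgroup.mem_sup_right (Subgroup.mem_zpowers x)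

theorem s4586 (hP : IsPGroup p P) (N : Subgroup P) [N.Normal] (hN : N.index = p) :
    ((commutator P).index = p ^ 2 ↔ ∀ x : P, x ∉ N →
        Nat.card {n : N // x * n * x⁻¹ * (n : P)⁻¹ ∈ (commutator N).map N.subtype} = p * Nat.card (commutator N)) ∧
    ((commutator P).index = p ^ 2 ↔ ∃ x : P, x ∉ N ∧
        Nat.card {n : N // x * n * x⁻¹ * (n : P)⁻¹ ∈ (commutator N).map N.subtype} = p * Nat.card (commutator N)) := by
  have hp0 : 0 < p := hp.out.pos
  have h1 : ∀ x : P, x ∉ N → ((commutator P).index = p ^ 2 ↔ Nat.card {n : N // x * n * x⁻¹ * (n : P)⁻¹ ∈ (commutator N).map N.subtype} = p * Nat.card (commutator N)) := by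
    intro x hx
    have h2 := key N x (sup_of_not_mem hN hx)
    have h3 := Subgroup.card_mul_index (commutator P)
    have h4 := Subgroup.card_mul_index N
    rw [hN] at h4
    have h5 : 0 < Nat.card (commutator P) := Nat.card_pos
    have h6 : 0 < Nat.card (commutator N) := Nat.card_pos
    constructor
    · intro h
      rw [h, ← h4] at h3
      have h7 : Nat.card (commutator P) * p = Nat.card N := by
        apply Nat.eq_of_mul_eq_mul_right hp0
        rw [← h3]; ring
      rw [← h7] at h2
      apply Nat.eq_of_mul_eq_mul_left h5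
      rw [h2]; ring
    · intro h
      rw [h] at h2
      have h7 : Nat.card (commutator P) * p = Nat.card N := by
        apply Nat.eq_of_mul_eq_mul_right h6
        rw [← h2]; ring
      apply Nat.eq_of_mul_eq_mul_left h5
      rw [h3, ← h4, ← h7]; ring
  obtain ⟨x₀, hx₀⟩ : ∃ x₀ : P, x₀ ∉ N := by
    by_contra hcon
    push Not at hcon
    have : N = ⊤ := by rw [eq_top_iff]; intro x _; exact hcon x
    rw [this, Subgroup.index_top] at hN
    exact hp.out.one_lt.ne hN
  refine ⟨⟨fun h x hx => (h1 x hx).mp h, fun h => (h1 x₀ hx₀).mpr (h x₀ hx₀)⟩, ⟨fun h => ⟨x₀, hx₀, (h1 x₀ hx₀).mp h⟩, ?_⟩⟩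
  rintro ⟨x, hx, h⟩
  exact (h1 x hx).mpr h

/-- an abelian subgroup of index `p` -/
theorem abelian_index {A : Subgroup P} (hP : IsPGroup p P) (hA : A.index = p) (hab : ∀ a ∈ A, ∀ b ∈ A, a * b = b * a) (hnc : ¬ IsMulCommutative P) : Nat.card (commutator P) * Nat.card (Subgroup.center P) = Nat.card A := by
  haveI := CfsgLib.PGrp.normal_of_index_prime hP hA
  obtain ⟨x, hx⟩ : ∃ x : P, x ∉ A := by
    by_contra hcon
    push Not at hcon
    exact hnc ⟨⟨fun a b => hab a (hcon a) b (hcon b)⟩⟩
  have htop := sup_of_not_mem hA hx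
  have h1 := key A x htop
  have hc : commutator A = ⊥ := by
    rw [commutator_def, Subgroup.commutator_eq_bot_iff_le_centralizer]
    intro a _
    rw [Subgroup.mem_centralizer_iff]
    intro b _
    exact Subtype.ext (hab b b.2 a a.2)
  rw [hc, Subgroup.card_bot, mul_one] at h1
  rw [← h1]
  congr 1
  -- the center
  have hzA : Subgroup.center P ≤ A := by
    intro z hz
    by_contra hzA
    apply hnc
    have h2 := sup_of_not_mem hA hzA
    have h3 : Subgroup.center P = ⊤ := by
      apply top_of h2
      · intro a ha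
        have h4 : Subgroup.centralizer ({a} : Set P) = ⊤ := by
          apply top_of h2
          · intro b hb
            rw [Subgroup.mem_centralizer_iff]
            intro y hy
            rw [Set.mem_singleton_iff.mp hy]
            exact hab a ha b hb
          · rw [Subgroup.mem_centralizer_iff]
            intro y hy
            rw [Set.mem_singleton_iff.mp hy]
            exact (Subgroup.mem_center_iff.mp hz a)
        rw [Subgroup.mem_center_iff]
        intro g
        have h5 : g ∈ Subgroup.centralizer ({a} : Set P) := by rw [h4]; exact Subgroup.mem_top g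
        exact (Subgroup.mem_centralizer_iff.mp h5 a rfl).symm
      · exact hz
    refine ⟨⟨fun a b => ?_⟩⟩
    have h4 : b ∈ Subgroup.center P := by rw [h3]; exact Subgroup.mem_top b
    exact Subgroup.mem_center_iff.mp h4 a
  apply Nat.card_congr
  refine ⟨fun z => ⟨⟨z, hzA z.2⟩, ?_⟩, fun n => ⟨n.1, ?_⟩, fun z => rfl, fun n => rfl⟩
  · have h2 := Subgroup.mem_center_iff.mp z.2 x
    have h3 : x * z * x⁻¹ * (z : P)⁻¹ = 1 := by rw [h2]; group
    rw [h3]
    exact Subgroup.one_mem _
  · have h2 : x * ((n.1 : A) : P) * x⁻¹ * ((n.1 : A) : P)⁻¹ = 1 := by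
      obtain ⟨c, hc, hcn⟩ := n.2
      rw [← hcn, Subgroup.mem_bot.mp hc, map_one]
    rw [mul_inv_eq_one, mul_inv_eq_iff_eq_mul] at h2
    have h4 : Subgroup.centralizer ({((n.1 : A) : P)} : Set P) = ⊤ := by
      apply top_of htop
      · intro b hb
        rw [Subgroup.mem_centralizer_iff]
        intro y hy
        rw [Set.mem_singleton_iff.mp hy]
        exact hab _ n.1.2 b hb
      · rw [Subgroup.mem_centralizer_iff]
        intro y hy
        rw [Set.mem_singleton_iff.mp hy]
        exact h2.symm
    rw [Subgroup.mem_center_iff]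
    intro g
    have h5 : g ∈ Subgroup.centralizer ({((n.1 : A) : P)} : Set P) := by rw [h4]; exact Subgroup.mem_top g
    exact (Subgroup.mem_centralizer_iff.mp h5 _ rfl).symm

theorem pow_of_sub {n : ℕ} (hP : Nat.card P = p ^ n) (K : Subgroup P) : ∃ k ≤ n, Nat.card K = p ^ k ∧ K.index = p ^ (n - k) := by
  have h1 := Subgroup.card_subgroup_dvd_card K
  rw [hP, Nat.dvd_prime_pow hp.out] at h1
  obtain ⟨k, hk, hKk⟩ := h1
  refine ⟨k, hk, hKk, ?_⟩
  have h2 := Subgroup.card_mul_index K
  rw [hKk, hP, show n = k + (n - k) by omega, pow_add] at h2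
  have h3 := Nat.eq_of_mul_eq_mul_left (pow_pos hp.out.pos k) h2
  rw [h3]
  try (congr 1; omega)

theorem lt_card {K L : Subgroup P} (h : K < L) {k l : ℕ} (hK : Nat.card K = p ^ k) (hL : Nat.card L = p ^ l) : k < l := by
  have h1 : Nat.card K < Nat.card L := by
    apply lt_of_le_of_ne (Nat.le_of_dvd Nat.card_pos (Subgroup.card_dvd_of_le h.le))
    intro h2
    exact h.ne (Subgroup.eq_of_le_of_card_ge h.le h2.ge)
  rw [hK, hL] at h1
  exact (Nat.pow_lt_pow_iff_right hp.out.one_lt).mp h1

/-- centralizers of index `p` in groups of order `p ^ 4` -/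
theorem of_centralizer (hP : Nat.card P = p ^ 4) {x : P} (hx : x ∉ Subgroup.center P) (hC : (Subgroup.centralizer ({x} : Set P)).index = p) (hnc : ¬ IsMulCommutative P) :
    Nat.card (commutator P) * Nat.card (Subgroup.center P) = p ^ 3 := by
  have hPG : IsPGroup p P := IsPGroup.of_card hP
  obtain ⟨C, hCdef⟩ : ∃ C, C = Subgroup.centralizer ({x} : Set P) := ⟨_, rfl⟩
  rw [← hCdef] at hC
  have hCcard : Nat.card C = p ^ 3 := by
    have h1 := Subgroup.card_mul_index C
    rw [hC, hP, pow_succ] at h1
    exact Nat.eq_of_mul_eq_mul_right hp.out.pos h1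
  have hZC : Subgroup.center P ≤ C := by
    intro z hz
    rw [hCdef, Subgroup.mem_centralizer_iff]
    intro y hy
    exact Subgroup.mem_center_iff.mp hz y
  have hxC : x ∈ C := by
    rw [hCdef, Subgroup.mem_centralizer_iff]
    intro y hy
    rw [Set.mem_singleton_iff.mp hy]
  haveI : Nontrivial P := by
    apply (Finite.one_lt_card_iff_nontrivial).mp
    rw [hP]; exact Nat.one_lt_pow (by norm_num) hp.out.one_lt
  -- the centre of `C`
  have hcomm : IsMulCommutative C := by
    apply CfsgLib.PGrp.comm_of_center_index_lt (p := p) (hPG.to_subgroup C)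
    obtain ⟨z, hz4, hzc, -⟩ := pow_of_sub hP (Subgroup.center P)
    have hz1 : 1 ≤ z := by
      rcases Nat.eq_zero_or_pos z with h | h
      · exfalso
        rw [h, pow_zero] at hzc
        have h2 := hPG.center_nontrivial
        rw [Subgroup.nontrivial_iff_ne_bot] at h2
        exact h2 (Subgroup.card_eq_one.mp hzc)
      · exact h
    obtain ⟨w, hw3, hwc, hwi⟩ := pow_of_sub hCcard (Subgroup.center C)
    have h1 : Subgroup.center P < (Subgroup.center C).map C.subtype := by
      apply lt_of_le_of_ne
      · intro z hz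
        refine ⟨⟨z, hZC hz⟩, ?_, rfl⟩
        rw [SetLike.mem_coe, Subgroup.mem_center_iff]
        intro g
        exact Subtype.ext (Subgroup.mem_center_iff.mp hz g)
      · intro h
        apply hx
        rw [h]
        refine ⟨⟨x, hxC⟩, ?_, rfl⟩
        rw [SetLike.mem_coe, Subgroup.mem_center_iff]
        intro g
        apply Subtype.ext
        have h2 : (g : P) ∈ Subgroup.centralizer ({x} : Set P) := hCdef ▸ g.2
        rw [Subgroup.mem_centralizer_iff] at h2
        exact (h2 x rfl).symm
    have h2 : Nat.card ((Subgroup.center C).map C.subtype) = p ^ w := by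
      rw [← hwc]
      exact (Nat.card_congr (Subgroup.equivMapOfInjective (Subgroup.center C) C.subtype C.subtype_injective).toEquiv).symm
    have h3 := lt_card h1 hzc h2
    rw [hwi]
    exact Nat.pow_lt_pow_right hp.out.one_lt (by omega)
  rw [abelian_index hPG hC (fun a ha b hb => CfsgLib.PGrp.mul_comm_of_isMulCommutative hcomm ha hb) hnc, hCcard]

theorem s4584 (hP : Nat.card P = p ^ 4) : Nat.card (commutator P) = p ↔ (Subgroup.center P).index = p ^ 2 := by
  have hPG : IsPGroup p P := IsPGroup.of_card hP
  have hp1 := hp.out.one_lt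
  by_cases hnc : IsMulCommutative P
  · have h1 : commutator P = ⊥ := by
      rw [commutator_def, Subgroup.commutator_eq_bot_iff_le_centralizer]
      intro a _
      rw [Subgroup.mem_centralizer_iff]
      intro b _
      exact hnc.is_comm.comm b a
    have h2 : Subgroup.center P = ⊤ := by
      rw [eq_top_iff]
      intro a _
      rw [Subgroup.mem_center_iff]
      intro b
      exact hnc.is_comm.comm b a
    rw [h1, h2, Subgroup.card_bot, Subgroup.index_top]
    constructor
    · intro h; omega
    · intro h
      have := Nat.one_lt_pow (show 2 ≠ 0 by norm_num) hp1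
      omega
  · obtain ⟨x, hx⟩ : ∃ x, x ∉ Subgroup.center P := by
      by_contra hcon
      push Not at hcon
      exact hnc ⟨⟨fun a b => Subgroup.mem_center_iff.mp (hcon b) a⟩⟩
    have hnc' : ¬ (Subgroup.centralizer ({x} : Set P)).index = 1 := by
      intro h
      rw [Subgroup.index_eq_one] at h
      apply hx
      rw [Subgroup.mem_center_iff]
      intro g
      have h5 : g ∈ Subgroup.centralizer ({x} : Set P) := by rw [h]; exact Subgroup.mem_top g
      exact (Subgroup.mem_centralizer_iff.mp h5 _ rfl).symm
    obtain ⟨c, hc4, hcc, hci⟩ := pow_of_sub hP (Subgroup.centralizer ({x} : Set P))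
    have hc3 : c ≠ 4 := by
      rintro rfl
      apply hnc'
      rw [hci]; norm_num
    have hzi := Subgroup.card_mul_index (Subgroup.center P)
    constructor
    · intro h
      have hidx : (Subgroup.centralizer ({x} : Set P)).index ≤ p := by
        rw [← CfsgLib.CharBasic.card_isConj_eq_index, ← h]
        apply Nat.card_le_card_of_injective (fun y : {y : P // IsConj x y} => (⟨y.1 * x⁻¹, by
          obtain ⟨g, hg⟩ := isConj_iff.mp y.2
          rw [← hg, commutator_def]
          exact Subgroup.commutator_mem_commutator (Subgroup.mem_top g) (Subgroup.mem_top x)⟩ : commutator P))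
        intro a b hab
        exact Subtype.ext (mul_right_cancel (congrArg Subtype.val hab))
      have hC : (Subgroup.centralizer ({x} : Set P)).index = p := by
        rw [hci] at hidx ⊢
        have h1 : 4 - c ≤ 1 := by
          by_contra hcon
          have h2 : p ^ 2 ≤ p ^ (4 - c) := Nat.pow_le_pow_right hp.out.pos (by omega)
          nlinarith
        rw [show 4 - c = 1 by omega, pow_one]
      have h1 := of_centralizer hP hx hC hnc
      rw [h] at h1
      have h2 : Nat.card (Subgroup.center P) = p ^ 2 := by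
        apply Nat.eq_of_mul_eq_mul_left hp.out.pos
        rw [h1]; ring
      rw [h2, hP] at hzi
      apply Nat.eq_of_mul_eq_mul_left (pow_pos hp.out.pos 2)
      rw [hzi]; ring
    · intro h
      have h2 : Nat.card (Subgroup.center P) = p ^ 2 := by
        rw [h, hP] at hzi
        apply Nat.eq_of_mul_eq_mul_right (pow_pos hp.out.pos 2)
        rw [hzi]; ring
      have h3 : Subgroup.center P < Subgroup.centralizer ({x} : Set P) := by
        apply lt_of_le_of_ne
        · intro z hz
          rw [Subgroup.mem_centralizer_iff]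
          intro y hy
          exact Subgroup.mem_center_iff.mp hz y
        · intro h
          apply hx
          rw [h, Subgroup.mem_centralizer_iff]
          intro y hy
          rw [Set.mem_singleton_iff.mp hy]
      have h4 := lt_card h3 h2 hcc
      have hC : (Subgroup.centralizer ({x} : Set P)).index = p := by
        rw [hci, show 4 - c = 1 by omega, pow_one]
      have h1 := of_centralizer hP hx hC hnc
      rw [h2] at h1
      apply Nat.eq_of_mul_eq_mul_right (pow_pos hp.out.pos 2)
      rw [h1]; ring

theorem lcs_strict [Group.IsNilpotent P] {n : ℕ} (h : (⊤ : Subgroup P).lowerCentralSeries (n + 1) = (⊤ : Subgroup P).lowerCentralSeries n) : (⊤ : Subgroup P).lowerCentralSeries n = ⊥ := by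
  have h1 : ∀ k, (⊤ : Subgroup P).lowerCentralSeries (n + k) = (⊤ : Subgroup P).lowerCentralSeries n := by
    intro k
    induction k with
    | zero => rfl
    | succ k ih =>
      rw [← add_assoc, Subgroup.lowerCentralSeries_succ, ih, ← Subgroup.lowerCentralSeries_succ, h]
  rw [eq_bot_iff, ← h1 (Group.nilpotencyClass P)]
  refine le_trans (Subgroup.lowerCentralSeries_antitone _ (Nat.le_add_left _ _)) ?_
  rw [Subgroup.lowerCentralSeries_nilpotencyClass]

theorem s4585 (hP : Nat.card P = p ^ 4) : (commutator P).index = p ^ 2 ↔ Group.nilpotencyClass P = 3 := by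
  have hPG : IsPGroup p P := IsPGroup.of_card hP
  have hp1 := hp.out.one_lt
  haveI : Group.IsNilpotent P := hPG.isNilpotent
  have hbot : ∀ n, (⊤ : Subgroup P).lowerCentralSeries n = ⊥ ↔ Group.nilpotencyClass P ≤ n := fun n => Subgroup.lowerCentralSeries_eq_bot_iff_nilpotencyClass_le
  have hlt : ∀ n, (⊤ : Subgroup P).lowerCentralSeries n ≠ ⊥ → (⊤ : Subgroup P).lowerCentralSeries (n + 1) < (⊤ : Subgroup P).lowerCentralSeries n := by
    intro n hn
    apply lt_of_le_of_ne (Subgroup.lowerCentralSeries_antitone _ (Nat.le_succ n))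
    intro h
    exact hn (lcs_strict h)
  obtain ⟨a, ha4, hac, hai⟩ := pow_of_sub hP (commutator P)
  have hcom : (⊤ : Subgroup P).lowerCentralSeries 1 = commutator P := Subgroup.top_lowerCentralSeries_one
  obtain ⟨b, hb4, hbc, -⟩ := pow_of_sub hP ((⊤ : Subgroup P).lowerCentralSeries 2)
  obtain ⟨c, hc4, hcc, -⟩ := pow_of_sub hP ((⊤ : Subgroup P).lowerCentralSeries 3)
  have hbot' : Nat.card (⊥ : Subgroup P) = p ^ 0 := by rw [Subgroup.card_bot, pow_zero]
  constructor
  · intro h
    have ha2 : a = 2 := by
      rw [hai] at h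
      have : 4 - a = 2 := Nat.pow_right_injective hp.out.two_le h
      omega
    apply le_antisymm
    · rw [← hbot]
      by_contra hne
      have h1 := hlt 2 (fun h2 => hne (by
        rw [eq_bot_iff, ← h2]
        exact Subgroup.lowerCentralSeries_antitone _ (by norm_num)))
      have h2 := hlt 1 (fun h2 => hne (by
        rw [eq_bot_iff, ← h2]
        exact Subgroup.lowerCentralSeries_antitone _ (by norm_num)))
      have h3 := lt_card h1 hcc hbc
      have h4 := lt_card h2 hbc (by rw [hcom]; exact hac)
      have h5 := lt_card (bot_lt_iff_ne_bot.mpr hne) hbot' hcc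
      omega
    · by_contra hcon
      have h1 : Group.nilpotencyClass P ≤ 2 := by omega
      rw [← hbot, Subgroup.lowerCentralSeries_succ, hcom] at h1
      -- the derived subgroup is central
      have h2 : commutator P ≤ Subgroup.center P := by
        rw [Subgroup.commutator_eq_bot_iff_le_centralizer] at h1
        intro x hx
        rw [Subgroup.mem_center_iff]
        intro g
        exact Subgroup.mem_centralizer_iff.mp (h1 hx) g (Set.mem_univ g)
      have h3 := Subgroup.card_dvd_of_le h2
      rw [hac, ha2] at h3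
      obtain ⟨z, hz4, hzc, hzi⟩ := pow_of_sub hP (Subgroup.center P)
      have hz2 : 2 ≤ z := by
        rw [hzc, Nat.pow_dvd_pow_iff_le_right hp1] at h3
        exact h3
      have hnc : ¬ IsMulCommutative P := by
        intro hnc
        have h4 : commutator P = ⊥ := by
          rw [commutator_def, Subgroup.commutator_eq_bot_iff_le_centralizer]
          intro a _
          rw [Subgroup.mem_centralizer_iff]
          intro b _
          exact hnc.is_comm.comm b a
        rw [h4, Subgroup.card_bot, ha2] at hac
        have := Nat.one_lt_pow (show 2 ≠ 0 by norm_num) hp1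
        omega
      have hz2' : z = 2 := by
        by_contra hz
        apply hnc
        apply CfsgLib.PGrp.comm_of_center_index_lt hPG
        rw [hzi]
        exact Nat.pow_lt_pow_right hp1 (by omega)
      have h4 := (s4584 hP).mpr (by rw [hzi, hz2'])
      rw [hac, ha2] at h4
      have := hp.out.pos
      nlinarith
  · intro h
    have h1 : (⊤ : Subgroup P).lowerCentralSeries 2 ≠ ⊥ := by
      intro h2
      rw [hbot, h] at h2
      omega
    have h2 := hlt 1 (fun h2 => h1 (by
        rw [eq_bot_iff, ← h2]
        exact Subgroup.lowerCentralSeries_antitone _ (by norm_num)))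
    have h3 := lt_card h2 hbc (by rw [hcom]; exact hac)
    have h4 := lt_card (bot_lt_iff_ne_bot.mpr h1) hbot' hbc
    obtain ⟨Q, hQn, hQc⟩ := CfsgLib.PGrp.exists_normal_card hPG hP (show 2 ≤ 4 by norm_num)
    haveI := hQn
    have h5 : commutator P ≤ Q := by
      have h6 : Nat.card (P ⧸ Q) = p ^ 2 := by
        have h7 := Subgroup.card_mul_index Q
        rw [hQc, hP, Subgroup.index_eq_card] at h7
        apply Nat.eq_of_mul_eq_mul_left (pow_pos hp.out.pos 2)
        rw [h7]; ring
      have h7 := IsPGroup.commutative_of_card_eq_prime_sq h6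
      rw [commutator_def, Subgroup.commutator_le]
      intro x _ y _
      rw [← QuotientGroup.eq_one_iff]
      have h8 : ((⁅x, y⁆ : P) : P ⧸ Q) = ⁅(x : P ⧸ Q), (y : P ⧸ Q)⁆ := rfl
      rw [h8, commutatorElement_eq_one_iff_mul_comm]
      exact h7 _ _
    have h6 := Subgroup.card_dvd_of_le h5
    rw [hac, hQc, Nat.pow_dvd_pow_iff_le_right hp1] at h6
    rw [hai, show 4 - a = 2 by omega]

end

end CfsgLib.P4
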