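import Cfsg.Agent.Lib.BEasy36
import Cfsg.Agent.Lib.BEasy31
import Cfsg.Agent.Lib.BEasy28

/-!
# Finite 2-groups whose number of involutions is 1 mod 4
-/

set_option autoImplicit false
set_option linter.style.haveILetI false
set_option linter.unusedSectionVars false
set_option linter.unusedVariables false

open scoped ComplexConjugate Pointwise commutatorElement

namespace CfsgLib.Invol4

open Cfsg CfsgLib.CharBasic CfsgLib.Block

universe u v

variable {G : Type u} [Group G] [Fintype G]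

/-- the sign character of a subgroup of index two -/
theorem exists_sign (M : Subgroup G) (hM : M.index = 2) : ∃ lam : G →* ℂˣ, lam * lam = 1 ∧ ∀ g, lam g = 1 ↔ g ∈ M := by
  classical
  refine ⟨⟨⟨fun g => if g ∈ M then 1 else -1, ?_⟩, ?_⟩, ?_, ?_⟩
  · rw [if_pos M.one_mem]
  · intro a b
    simp only
    have h := Subgroup.mul_mem_iff_of_index_two hM (a := a) (b := b)
    by_cases ha : a ∈ M <;> by_cases hb : b ∈ M <;> simp [ha, hb, h]
  · ext g
    change (((if g ∈ M then (1 : ℂˣ) else -1) * (if g ∈ M then (1 : ℂˣ) else -1) : ℂˣ) : ℂ) = 1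
    by_cases hg : g ∈ M <;> simp [hg]
  · intro g
    change (if g ∈ M then (1 : ℂˣ) else -1) = 1 ↔ g ∈ M
    by_cases hg : g ∈ M
    · simp [hg]
    · simp only [hg, if_false, iff_false]
      intro h
      have h2 := congrArg (fun u : ℂˣ => (u : ℂ)) h
      simp only [Units.val_neg, Units.val_one] at h2
      norm_num at h2

/-- the real linear characters -/
noncomputable def RL (G : Type u) [Group G] : Subgroup (G →* ℂˣ) := (powMonoidHom 2 : (G →* ℂˣ) →* (G →* ℂˣ)).ker

theorem mem_RL (lam : G →* ℂˣ) : lam ∈ RL G ↔ lam * lam = 1 := by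
  rw [RL, MonoidHom.mem_ker, powMonoidHom_apply, pow_two]

theorem four_dvd (hG : IsPGroup 2 G) (hnc : ¬ IsCyclic G) : 4 ∣ Nat.card (RL G) := by
  haveI : Fact (Nat.Prime 2) := ⟨Nat.prime_two⟩
  have hne : (⊥ : Subgroup G) ≠ ⊤ := by
    intro h
    apply hnc
    haveI : Subsingleton G := (Subgroup.subsingleton_iff).mp (subsingleton_of_bot_eq_top h)
    infer_instance
  have hmax : ∀ K : Subgroup G, K ≠ ⊤ → ∃ M : Subgroup G, IsCoatom M ∧ K ≤ M := by
    intro K hK
    rcases IsCoatomic.eq_top_or_exists_le_coatom K with h | h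
    · exact absurd h hK
    · exact h
  obtain ⟨M₁, hM₁, -⟩ := hmax ⊥ hne
  obtain ⟨x, hx⟩ : ∃ x : G, x ∉ M₁ := by
    by_contra hcon
    push Not at hcon
    exact hM₁.1 (eq_top_iff.mpr fun x _ => hcon x)
  obtain ⟨M₂, hM₂, hxM₂⟩ := hmax (Subgroup.zpowers x) (by
    intro h
    exact hnc ((isCyclic_iff_exists_zpowers_eq_top).mpr ⟨x, h⟩))
  obtain ⟨l₁, h11, h12⟩ := exists_sign M₁ (CfsgLib.PGrp.index_of_coatom hG hM₁)
  obtain ⟨l₂, h21, h22⟩ := exists_sign M₂ (CfsgLib.PGrp.index_of_coatom hG hM₂)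
  have hl1 : l₁ x ≠ 1 := fun h => hx ((h12 x).mp h)
  have hl2 : l₂ x = 1 := (h22 x).mpr (hxM₂ (Subgroup.mem_zpowers x))
  have hl12 : l₁ ≠ l₂ := by
    rintro rfl
    exact hl1 hl2
  have hl10 : l₁ ≠ 1 := by
    rintro rfl
    exact hl1 rfl
  have hl20 : l₂ ≠ 1 := by
    rintro rfl
    apply hM₂.1
    rw [eq_top_iff]
    intro y _
    exact (h22 y).mp rfl
  have hp : IsPGroup 2 (RL G) := by
    intro lam
    refine ⟨1, ?_⟩
    apply Subtype.ext
    rw [pow_one, pow_two]
    exact (mem_RL _).mp lam.2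
  obtain ⟨k, hk⟩ := (IsPGroup.iff_card (p := 2) (G := RL G)).mp hp
  have h3 : 2 < Nat.card (RL G) := by
    haveI : Fintype (RL G) := Fintype.ofFinite _
    classical
    rw [Nat.card_eq_fintype_card]
    have h4 : ({1, ⟨l₁, (mem_RL _).mpr h11⟩, ⟨l₂, (mem_RL _).mpr h21⟩} : Finset (RL G)).card = 3 := by
      rw [Finset.card_eq_three]
      refine ⟨_, _, _, ?_, ?_, ?_, rfl⟩
      · intro h
        exact hl10 (congrArg Subtype.val h).symm
      · intro h
        exact hl20 (congrArg Subtype.val h).symm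
      · intro h
        exact hl12 (congrArg Subtype.val h)
    have h5 := Finset.card_le_univ ({1, ⟨l₁, (mem_RL _).mpr h11⟩, ⟨l₂, (mem_RL _).mpr h21⟩} : Finset (RL G))
    omega
  rw [hk] at h3 ⊢
  have h4 : 2 ≤ k := by
    by_contra hcon
    interval_cases k <;> norm_num at h3
  exact pow_dvd_pow 2 h4

/-- a degree two character fixed by all linear characters -/
theorem exists_fixed (hG : IsPGroup 2 G) (hodd : Odd (Nat.card {χ : IrrCharacter G // charDegree (χ : G → ℂ) = 2})) :
    ∃ χ : IrrCharacter G, charDegree (χ : G → ℂ) = 2 ∧ ∀ lam : G →* ℂˣ, ∀ g, (lam g : ℂ) * (χ : G → ℂ) g = (χ : G → ℂ) g := by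
  haveI : Fact (Nat.Prime 2) := ⟨Nat.prime_two⟩
  have hdeg : ∀ (lam : G →* ℂˣ) (χ : IrrCharacter G), charDegree (fun g => (lam g : ℂ) * (χ : G → ℂ) g) = charDegree (χ : G → ℂ) := by
    intro lam χ
    apply charDegree_eq
    change (lam 1 : ℂ) * (χ : G → ℂ) 1 = _
    rw [map_one, Units.val_one, one_mul, charDegree_one]
  letI : MulAction (G →* ℂˣ) {χ : IrrCharacter G // charDegree (χ : G → ℂ) = 2} :=
    { smul := fun lam χ => ⟨⟨fun g => (lam g : ℂ) * (χ.1 : G → ℂ) g, IsCharacter.mul_linear_isIrr χ.1.2 lam⟩, (hdeg lam χ.1).trans χ.2⟩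
      one_smul := by
        intro χ
        apply Subtype.ext
        apply Subtype.ext
        funext g
        change ((1 : G →* ℂˣ) g : ℂ) * (χ.1 : G → ℂ) g = _
        rw [MonoidHom.one_apply, Units.val_one, one_mul]
      mul_smul := by
        intro a b χ
        apply Subtype.ext
        apply Subtype.ext
        funext g
        change ((a * b) g : ℂ) * (χ.1 : G → ℂ) g = (a g : ℂ) * ((b g : ℂ) * (χ.1 : G → ℂ) g)
        rw [MonoidHom.mul_apply, Units.val_mul, mul_assoc] }
  obtain ⟨n, hn⟩ := (IsPGroup.iff_card (p := 2) (G := G)).mp hG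
  have hL : IsPGroup 2 (G →* ℂˣ) := by
    intro lam
    refine ⟨n, ?_⟩
    ext g
    rw [MonoidHom.pow_apply, ← map_pow, ← hn, pow_card_eq_one', map_one, MonoidHom.one_apply]
  have h1 := hL.card_modEq_card_fixedPoints {χ : IrrCharacter G // charDegree (χ : G → ℂ) = 2}
  have h2 : Nat.card (MulAction.fixedPoints (G →* ℂˣ) {χ : IrrCharacter G // charDegree (χ : G → ℂ) = 2}) ≠ 0 := by
    intro h
    rw [h] at h1
    have := (Nat.modEq_zero_iff_dvd).mp h1
    exact (Nat.not_even_iff_odd.mpr hodd) (even_iff_two_dvd.mpr this)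
  haveI := (Nat.card_ne_zero.mp h2).1
  obtain ⟨χ, hχ⟩ := (inferInstance : Nonempty (MulAction.fixedPoints (G →* ℂˣ) {χ : IrrCharacter G // charDegree (χ : G → ℂ) = 2}))
  refine ⟨χ.1, χ.2, fun lam g => ?_⟩
  have h3 := MulAction.mem_fixedPoints.mp hχ lam
  exact congrFun (congrArg (fun x : {χ : IrrCharacter G // charDegree (χ : G → ℂ) = 2} => (x.1 : G → ℂ)) h3) g

theorem index_le {χ : IrrCharacter G} (hd : charDegree (χ : G → ℂ) = 2) (hχ : ∀ lam : G →* ℂˣ, ∀ g, (lam g : ℂ) * (χ : G → ℂ) g = (χ : G → ℂ) g) : (commutator G).index ≤ 4 := by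
  classical
  have h0 : ∀ g, g ∉ commutator G → (χ : G → ℂ) g = 0 := by
    intro g hg
    obtain ⟨lam, hlam⟩ := exists_linear_ne hg
    by_contra h
    exact hlam (mul_right_cancel₀ h ((hχ lam g).trans (one_mul _).symm))
  haveI : Fintype (commutator G) := Fintype.ofFinite _
  have h1 : ∑ h : G, Complex.normSq ((χ : G → ℂ) h) = Nat.card G := by
    have h2 := IsIrrCharacter.inner_self χ.2
    rw [classInner, inv_mul_eq_one₀ (by exact_mod_cast Nat.card_pos.ne')] at h2
    have h3 : ((∑ h : G, Complex.normSq ((χ : G → ℂ) h) : ℝ) : ℂ) = ((Nat.card G : ℝ) : ℂ) := by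
      push_cast
      rw [h2]
      apply Finset.sum_congr rfl
      intro h _
      rw [Complex.mul_conj]
    exact_mod_cast h3
  have h2 : ∑ h : G, Complex.normSq ((χ : G → ℂ) h) = ∑ z : commutator G, Complex.normSq ((χ : G → ℂ) z) := by
    rw [← CfsgLib.Ramif.sum_sub (Z := commutator G) (fun h => Complex.normSq ((χ : G → ℂ) h))]
    apply Finset.sum_congr rfl
    intro h _
    by_cases hh : h ∈ commutator G
    · rw [if_pos hh]
    · rw [if_neg hh, h0 h hh, map_zero]
  have h3 : ∑ z : commutator G, Complex.normSq ((χ : G → ℂ) z) ≤ ∑ z : commutator G, (4 : ℝ) := by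
    apply Finset.sum_le_sum
    intro z _
    have h4 := IsCharacter.norm_le (irr_isCharacter χ) (z : G)
    rw [charDegree_one, hd] at h4
    rw [Complex.normSq_eq_norm_sq]
    have h5 : ‖((2 : ℕ) : ℂ)‖ = 2 := by simp
    have h6 : ‖(χ : G → ℂ) z‖ ≤ 2 := by
      rw [← h5]; simpa using h4
    have h7 := norm_nonneg ((χ : G → ℂ) z)
    nlinarith
  rw [Finset.sum_const, Finset.card_univ, nsmul_eq_mul, ← Nat.card_eq_fintype_card, ← h2, h1] at h3
  have h4 : Nat.card G ≤ Nat.card (commutator G) * 4 := by exact_mod_cast h3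
  rw [← Subgroup.card_mul_index (commutator G)] at h4
  exact Nat.le_of_mul_le_mul_left h4 Nat.card_pos

theorem four_le_index (hG : IsPGroup 2 G) (hnc : ¬ IsCyclic G) : 4 ≤ (commutator G).index := by
  have h1 := Nat.le_of_dvd Nat.card_pos (four_dvd hG hnc)
  refine h1.trans (le_trans ?_ (card_triv (commutator G)))
  apply Nat.card_le_card_of_injective (fun lam : RL G => (⟨lam.1, by
    intro i hi
    have h2 : commutator G ≤ lam.1.ker := by
      rw [commutator_def, Subgroup.commutator_le]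
      intro a _ b _
      rw [MonoidHom.mem_ker, map_commutatorElement, commutatorElement_eq_one_iff_mul_comm]
      exact mul_comm _ _
    exact MonoidHom.mem_ker.mp (h2 hi)⟩ : {lam : G →* ℂˣ // ∀ i ∈ commutator G, lam i = 1}))
  intro a b h
  have h2 := congrArg Subtype.val h
  exact Subtype.ext h2

/-- the indicator as an integer -/
theorem exists_nu (χ : IrrCharacter G) : ∃ ν : ℤ, (Nat.card G : ℂ)⁻¹ * ∑ s : G, (χ : G → ℂ) (s * s) = (ν : ℂ) ∧ (ν = 0 ∨ ν = 1 ∨ ν = -1) ∧ (ν = 0 ↔ ¬ ∀ s, ((χ : G → ℂ) s).im = 0) := by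
  obtain ⟨h1, h2⟩ := CfsgLib.CharFS.frobenius_schur χ.2
  have h3 : (¬ ∀ s, ((χ : G → ℂ) s).im = 0) ↔ ∃ s, ((χ : G → ℂ) s).im ≠ 0 := by push Not; rfl
  rw [h3, ← h2]
  rcases h1 with h | h | h
  · exact ⟨0, by rw [h]; simp, Or.inl rfl, by rw [h]; simp⟩
  · exact ⟨1, by rw [h]; simp, Or.inr (Or.inl rfl), by rw [h]; simp⟩
  · exact ⟨-1, by rw [h]; simp, Or.inr (Or.inr rfl), by rw [h]; simp⟩

/-- real characters of degree two -/
theorem card_deg2 (hodd : ¬ Odd (Nat.card {χ : IrrCharacter G // charDegree (χ : G → ℂ) = 2})) : Even (Nat.card {χ : IrrCharacter G // charDegree (χ : G → ℂ) = 2 ∧ ∀ s, ((χ : G → ℂ) s).im = 0}) := by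
  classical
  haveI : Fact (Nat.Prime 2) := ⟨Nat.prime_two⟩
  have hdeg : ∀ χ : IrrCharacter G, charDegree (fun g => conj ((χ : G → ℂ) g)) = charDegree (χ : G → ℂ) := by
    intro χ
    apply charDegree_eq
    change conj ((χ : G → ℂ) 1) = _
    rw [charDegree_one, Complex.conj_natCast]
  haveI : Fintype {χ : IrrCharacter G // charDegree (χ : G → ℂ) = 2} := Fintype.ofFinite _
  let f : Function.End {χ : IrrCharacter G // charDegree (χ : G → ℂ) = 2} := fun χ => ⟨⟨fun g => conj ((χ.1 : G → ℂ) g), IsIrrCharacter.conj χ.1.2⟩, (hdeg χ.1).trans χ.2⟩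
  have hf : f ^ 2 ^ 1 = 1 := by
    rw [pow_one, pow_two]
    funext χ
    apply Subtype.ext
    apply Subtype.ext
    funext g
    change conj (conj ((χ.1 : G → ℂ) g)) = (χ.1 : G → ℂ) g
    exact Complex.conj_conj _
  have h1 := Equiv.Perm.card_fixedPoints_modEq (p := 2) (n := 1) hf
  rw [← Nat.card_eq_fintype_card, ← Nat.card_eq_fintype_card] at h1
  have h2 : Nat.card (Function.fixedPoints f) = Nat.card {χ : IrrCharacter G // charDegree (χ : G → ℂ) = 2 ∧ ∀ s, ((χ : G → ℂ) s).im = 0} := by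
    apply Nat.card_congr
    refine ⟨fun χ => ⟨χ.1.1, χ.1.2, ?_⟩, fun χ => ⟨⟨χ.1, χ.2.1⟩, ?_⟩, fun _ => rfl, fun _ => rfl⟩
    · intro s
      have h3 : f χ.1 = χ.1 := χ.2
      have h4 := congrFun (congrArg (fun x : {χ : IrrCharacter G // charDegree (χ : G → ℂ) = 2} => (x.1 : G → ℂ)) h3) s
      exact Complex.conj_eq_iff_im.mp h4
    · apply Subtype.ext
      apply Subtype.ext
      funext g
      exact Complex.conj_eq_iff_im.mpr (χ.2.2 g)
  rw [h2] at h1
  rw [Nat.not_odd_iff_even] at hodd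
  rw [even_iff_two_dvd] at hodd ⊢
  exact (Nat.modEq_zero_iff_dvd).mp (h1.symm.trans ((Nat.modEq_zero_iff_dvd).mpr hodd))

theorem sum_filter_card {ι : Type u} [Fintype ι] (s : ι → Prop) [DecidablePred s] (c : ℤ) : ∑ i : ι, (if s i then c else 0) = c * Nat.card {i : ι // s i} := by
  rw [← Finset.sum_filter, Finset.sum_const, Nat.card_eq_fintype_card, Fintype.card_subtype]
  simp [mul_comm]

theorem s4477 (hG : IsPGroup 2 G) (ht : Nat.card {x : G // orderOf x = 2} % 4 = 1) : IsCyclic G ∨ (commutator G).index = 4 := by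
  classical
  haveI : Fact (Nat.Prime 2) := ⟨Nat.prime_two⟩
  by_contra hcon
  push Not at hcon
  obtain ⟨hnc, hidx⟩ := hcon
  have h4 := four_le_index hG hnc
  have hodd : ¬ Odd (Nat.card {χ : IrrCharacter G // charDegree (χ : G → ℂ) = 2}) := by
    intro h
    obtain ⟨χ, hχ1, hχ2⟩ := exists_fixed hG h
    have := index_le hχ1 hχ2
    omega
  have heven := card_deg2 hodd
  -- the count
  have hinv : Nat.card {s : G // s * s = 1} = Nat.card {x : G // orderOf x = 2} + 1 := by
    have h1 : Nat.card {s : G // s * s = 1} = Nat.card {s : G // orderOf s = 2 ∨ s = 1} := by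
      apply Nat.card_congr
      apply Equiv.subtypeEquivRight
      intro s
      constructor
      · intro h
        by_cases hs : s = 1
        · right; exact hs
        · left
          exact orderOf_eq_prime (by rw [pow_two]; exact h) hs
      · rintro (h | h)
        · rw [← pow_two, ← h, pow_orderOf_eq_one]
        · rw [h, mul_one]
    have h2 := Fintype.card_subtype_or_disjoint (fun s : G => orderOf s = 2) (fun s : G => s = 1) (by
      rw [Pi.disjoint_iff]
      intro s
      rw [Prop.disjoint_iff]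
      rintro ⟨h, h'⟩
      rw [h', orderOf_one] at h
      norm_num at h)
    rw [h1, Nat.card_eq_fintype_card, h2, ← Nat.card_eq_fintype_card, ← Nat.card_eq_fintype_card]
    congr 1
    rw [Nat.card_eq_fintype_card, Fintype.card_subtype_eq]
  choose ν hν1 hν2 hν3 using (fun χ : IrrCharacter G => exists_nu χ)
  have hsum : ((Nat.card {x : G // orderOf x = 2} + 1 : ℕ) : ℤ) = ∑ χ : IrrCharacter G, ν χ * (charDegree (χ : G → ℂ) : ℤ) := by
    have h1 := CfsgLib.CharFS.card_sq_eq_one (G := G)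
    rw [hinv, Finset.sum_congr rfl fun χ _ => by rw [hν1 χ, charDegree_one]] at h1
    exact_mod_cast h1
  have hterm : ∀ χ : IrrCharacter G, (4 : ℤ) ∣ ν χ * (charDegree (χ : G → ℂ) : ℤ) - ((if charDegree (χ : G → ℂ) = 1 ∧ ∀ s, ((χ : G → ℂ) s).im = 0 then 1 else 0) + (if charDegree (χ : G → ℂ) = 2 ∧ ∀ s, ((χ : G → ℂ) s).im = 0 then 2 else 0)) := by
    intro χ
    obtain ⟨n, hn⟩ := (IsPGroup.iff_card (p := 2) (G := G)).mp hG
    have hd := CfsgLib.Block.charDegree_dvd χ.2
    rw [hn, Nat.dvd_prime_pow Nat.prime_two] at hd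
    obtain ⟨k, -, hk⟩ := hd
    by_cases hr : ∀ s, ((χ : G → ℂ) s).im = 0
    · have hν0 : ν χ ≠ 0 := fun h => (hν3 χ).mp h hr
      have hk3 : k = 0 ∨ k = 1 ∨ 2 ≤ k := by omega
      rcases hk3 with hk0 | hk1 | hk2
      · rw [hk0, pow_zero] at hk
        -- linear
        have hν : ν χ = 1 := by
          obtain ⟨lam, hlam⟩ := IsCharacter.exists_linear (irr_isCharacter χ) (by rw [charDegree_one, hk]; simp)
          have h1 : ∀ s : G, (χ : G → ℂ) (s * s) = 1 := by
            intro s
            rw [hlam, map_mul, Units.val_mul]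
            have hn' : ‖((lam s : ℂˣ) : ℂ)‖ = 1 := by
              have h5 : (lam s : ℂ) ^ (orderOf s) = 1 := by
                rw [← Units.val_pow_eq_pow_val, ← map_pow, pow_orderOf_eq_one, map_one, Units.val_one]
              exact Complex.norm_eq_one_of_pow_eq_one h5 (orderOf_pos s).ne'
            have hi : ((lam s : ℂˣ) : ℂ).im = 0 := by
              rw [← hlam s]; exact hr s
            have h6 : conj ((lam s : ℂˣ) : ℂ) = lam s := Complex.conj_eq_iff_im.mpr hi
            have h7 := Complex.mul_conj' ((lam s : ℂˣ) : ℂ)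
            rw [h6, hn'] at h7
            rw [h7]; simp
          have h2 := hν1 χ
          rw [Finset.sum_congr rfl fun s _ => h1 s, Finset.sum_const, Finset.card_univ, ← Nat.card_eq_fintype_card, nsmul_eq_mul, mul_one, inv_mul_cancel₀ (by exact_mod_cast Nat.card_pos.ne')] at h2
          exact_mod_cast h2.symm
        rw [hν, hk, if_pos ⟨rfl, hr⟩, if_neg (fun h => by omega)]
        norm_num
      · rw [hk1, pow_one] at hk
        rw [hk, if_neg (fun h => by omega), if_pos ⟨rfl, hr⟩]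
        rcases hν2 χ with h | h | h
        · exact absurd h hν0
        · rw [h]; norm_num
        · rw [h]; norm_num
      · have hk4 : 4 ∣ charDegree (χ : G → ℂ) := by
          rw [hk]
          exact pow_dvd_pow 2 hk2
        have hk5 := Nat.le_of_dvd (by rw [hk]; positivity) hk4
        rw [if_neg (fun h => by omega), if_neg (fun h => by omega), add_zero, sub_zero]
        exact Dvd.dvd.mul_left (by exact_mod_cast hk4) _
    · have hν0 : ν χ = 0 := (hν3 χ).mpr hr
      rw [hν0, if_neg (fun h => hr h.2), if_neg (fun h => hr h.2)]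
      norm_num
  have hdvd := Finset.dvd_sum (s := Finset.univ) fun χ _ => hterm χ
  rw [Finset.sum_sub_distrib, ← hsum, Finset.sum_add_distrib, sum_filter_card, sum_filter_card, one_mul] at hdvd
  -- real linear characters
  have hlin : 4 ∣ Nat.card {χ : IrrCharacter G // charDegree (χ : G → ℂ) = 1 ∧ ∀ s, ((χ : G → ℂ) s).im = 0} := by
    have h1 : Nat.card {χ : IrrCharacter G // charDegree (χ : G → ℂ) = 1 ∧ ∀ s, ((χ : G → ℂ) s).im = 0} = Nat.card (RL G) := by
      symm
      have hreal : ∀ lam : RL G, ∀ s, ((lam.1 s : ℂˣ) : ℂ).im = 0 := by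
        intro lam s
        have h2 := (mem_RL _).mp lam.2
        have h3 := congrArg (fun f : G →* ℂˣ => ((f s : ℂˣ) : ℂ)) h2
        have h4 : ((lam.1 s : ℂˣ) : ℂ) * ((lam.1 s : ℂˣ) : ℂ) = 1 := h3
        rcases mul_self_eq_one_iff.mp h4 with h5 | h5
        · rw [h5]; simp
        · rw [h5]; simp
      apply Nat.card_congr
      apply Equiv.ofBijective (fun lam : RL G => (⟨linIrr lam.1, by
        apply charDegree_eq
        rw [linIrr_apply, map_one]; simp, hreal lam⟩ : {χ : IrrCharacter G // charDegree (χ : G → ℂ) = 1 ∧ ∀ s, ((χ : G → ℂ) s).im = 0}))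
      constructor
      · intro a b h
        have h2 := congrArg Subtype.val h
        exact Subtype.ext (linIrr_injective h2)
      · intro χ
        obtain ⟨lam, hlam⟩ := IsCharacter.exists_linear (irr_isCharacter χ.1) (by rw [charDegree_one, χ.2.1]; simp)
        refine ⟨⟨lam, ?_⟩, ?_⟩
        · rw [mem_RL]
          ext s
          rw [MonoidHom.mul_apply, Units.val_mul, MonoidHom.one_apply, Units.val_one]
          have hn' : ‖((lam s : ℂˣ) : ℂ)‖ = 1 := by
            have h5 : (lam s : ℂ) ^ (orderOf s) = 1 := by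
              rw [← Units.val_pow_eq_pow_val, ← map_pow, pow_orderOf_eq_one, map_one, Units.val_one]
            exact Complex.norm_eq_one_of_pow_eq_one h5 (orderOf_pos s).ne'
          have hi : ((lam s : ℂˣ) : ℂ).im = 0 := by
            rw [← hlam s]; exact χ.2.2 s
          have h6 : conj ((lam s : ℂˣ) : ℂ) = lam s := Complex.conj_eq_iff_im.mpr hi
          have h7 := Complex.mul_conj' ((lam s : ℂˣ) : ℂ)
          rw [h6, hn'] at h7
          rw [h7]; simp
        · apply Subtype.ext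
          apply Subtype.ext
          funext g
          exact (hlam g).symm
    rw [h1]
    exact four_dvd hG hnc
  obtain ⟨a, ha⟩ := hlin
  obtain ⟨b, hb⟩ := heven
  rw [ha, hb] at hdvd
  push_cast at hdvd
  omega

end CfsgLib.Invol4
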