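import Cfsg.Agent.Lib.BEasy37
import Cfsg.Agent.Lib.BlockDom
import Cfsg.Agent.Lib.BlockCover
import Cfsg.Agent.Lib.BlockPrin
import Cfsg.Agent.Lib.CharGalois

/-!
# Column sums of the principal block
-/

set_option autoImplicit false
set_option linter.style.haveILetI false
set_option linter.unusedSectionVars false
set_option linter.unusedVariables false

open scoped ComplexConjugate Pointwise commutatorElement

namespace CfsgLib.Lam

open Cfsg CfsgLib.CharBasic CfsgLib.CharGalois CfsgLib.Block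

universe u v

variable {G : Type u} [Group G] [Fintype G] {p : ℕ} {M : Ideal AlgInt}

theorem centralizer_pow {k : ℕ} (hk : Nat.Coprime k (Nat.card G)) (g : G) : Subgroup.centralizer ({g ^ k} : Set G) = Subgroup.centralizer ({g} : Set G) := by
  have hk' : k.Coprime (orderOf g) := hk.coprime_dvd_right (orderOf_dvd_natCard g)
  obtain ⟨m, hm⟩ := exists_pow_eq_self_of_coprime hk'
  ext x
  rw [Subgroup.mem_centralizer_iff, Subgroup.mem_centralizer_iff]
  constructor
  · intro h y hy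
    rw [Set.mem_singleton_iff.mp hy, ← hm]
    exact (Commute.pow_left (h _ rfl : Commute (g ^ k) x) m).eq
  · intro h y hy
    rw [Set.mem_singleton_iff.mp hy]
    exact (Commute.pow_left (h _ rfl : Commute g x) k).eq

theorem mem_principal_iff (χ : IrrCharacter G) : χ ∈ principalBlock M G ↔ SameBlock M (fun _ : G => (1 : ℂ)) (χ : G → ℂ) := Iff.rfl

/-- the Galois conjugate -/
noncomputable def pw (k : ℕ) (hk : Nat.Coprime k (Nat.card G)) (χ : IrrCharacter G) : IrrCharacter G :=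
  ⟨fun g => (χ : G → ℂ) (g ^ k), IsIrrCharacter.pow_coprime χ.2 hk⟩

theorem pw_mem {k : ℕ} (hk : Nat.Coprime k (Nat.card G)) {χ : IrrCharacter G} (hχ : χ ∈ principalBlock M G) : pw k hk χ ∈ principalBlock M G := by
  rw [mem_principal_iff] at hχ ⊢
  intro g
  have h1 := hχ (g ^ k)
  have h2 : centralChar (fun _ : G => (1 : ℂ)) (g ^ k) = centralChar (fun _ : G => (1 : ℂ)) g := by
    rw [centralChar, centralChar, centralizer_pow hk]
  have h3 : centralChar (χ : G → ℂ) (g ^ k) = centralChar (pw k hk χ : G → ℂ) g := by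
    rw [centralChar, centralChar, centralizer_pow hk]
    change _ = _ * (χ : G → ℂ) (g ^ k) / (χ : G → ℂ) (1 ^ k)
    rw [one_pow]
  rwa [h2, h3] at h1

theorem pow_surj {k : ℕ} (hk : Nat.Coprime k (Nat.card G)) (g : G) : ∃ h : G, h ^ k = g := by
  have hk' : k.Coprime (orderOf g) := hk.coprime_dvd_right (orderOf_dvd_natCard g)
  obtain ⟨m, hm⟩ := exists_pow_eq_self_of_coprime hk'
  refine ⟨g ^ m, ?_⟩
  rw [← pow_mul, mul_comm, pow_mul, hm]

theorem pw_injective {k : ℕ} (hk : Nat.Coprime k (Nat.card G)) : Function.Injective (pw (G := G) k hk) := by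
  intro a b h
  apply Subtype.ext
  funext g
  obtain ⟨x, rfl⟩ := pow_surj hk g
  exact congrFun (congrArg Subtype.val h) x

theorem finsum_eq (S : Set (IrrCharacter G)) [DecidablePred (· ∈ S)] {A : Type*} [AddCommMonoid A] (F : IrrCharacter G → A) : ∑ᶠ χ ∈ S, F χ = ∑ χ ∈ Finset.univ.filter (· ∈ S), F χ := by
  rw [finsum_mem_eq_finite_toFinset_sum _ (Set.toFinite S)]
  apply Finset.sum_congr _ (fun _ _ => rfl)
  ext χ
  simp

theorem int_sum (x : G) : ∃ m : ℤ, ∑ᶠ χ ∈ principalBlock M G, Complex.normSq ((χ : G → ℂ) x) = m := by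
  classical
  rw [finsum_eq]
  obtain ⟨f, hf⟩ : ∃ f : G → ℂ, f = ∑ χ ∈ Finset.univ.filter (· ∈ principalBlock M G), ((χ : G → ℂ) * fun g => conj ((χ : G → ℂ) g)) := ⟨_, rfl⟩
  have hfapp : ∀ g, f g = ∑ χ ∈ Finset.univ.filter (· ∈ principalBlock M G), (χ : G → ℂ) g * conj ((χ : G → ℂ) g) := by
    intro g
    rw [hf, Finset.sum_apply]
    rfl
  have hfc : IsCharacter G f := by
    rw [hf]
    apply IsCharacter.sum
    intro χ _
    exact IsCharacter.mul (irr_isCharacter χ) (IsCharacter.conj (irr_isCharacter χ))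
  obtain ⟨m, hm⟩ := int_of_forall_pow (IsCharacter.isGeneralized hfc) (n := Nat.card G) Nat.card_pos (g := x) (orderOf_dvd_natCard x) (by
    intro k hk
    rw [hfapp, hfapp]
    have himg : (Finset.univ.filter (· ∈ principalBlock M G)).image (pw k hk) = Finset.univ.filter (· ∈ principalBlock M G) := by
      apply Finset.eq_of_subset_of_card_le
      · intro χ hχ
        obtain ⟨ψ, hψ, rfl⟩ := Finset.mem_image.mp hχ
        rw [Finset.mem_filter] at hψ ⊢
        exact ⟨Finset.mem_univ _, pw_mem hk hψ.2⟩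
      · rw [Finset.card_image_of_injective _ (pw_injective hk)]
    conv_rhs => rw [← himg]
    rw [Finset.sum_image (fun a _ b _ h => pw_injective hk h)]
    rfl)
  refine ⟨m, ?_⟩
  have h1 : ((∑ χ ∈ Finset.univ.filter (· ∈ principalBlock M G), Complex.normSq ((χ : G → ℂ) x) : ℝ) : ℂ) = ((m : ℝ) : ℂ) := by
    push_cast
    rw [← hm, hfapp]
    apply Finset.sum_congr rfl
    intro χ _
    rw [Complex.mul_conj]
  exact_mod_cast h1

theorem one_mem : (⟨fun _ : G => (1 : ℂ), isIrr_one'⟩ : IrrCharacter G) ∈ principalBlock M G ↔ ∀ g : G, MemLocalIdeal M (centralChar (fun _ : G => (1 : ℂ)) g - centralChar (fun _ : G => (1 : ℂ)) g) := Iff.rfl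

theorem bij (hM : IsPModular p M) (H : Subgroup G) [H.Normal] (hH : ¬ p ∣ Nat.card H) : Set.BijOn (infl H) (principalBlock M (G ⧸ H)) (principalBlock M G) := by
  haveI : Fintype (G ⧸ H) := Fintype.ofFinite _
  have h1 : ∀ ψ : IrrCharacter (G ⧸ H), ψ ∈ principalBlock M (G ⧸ H) ↔ infl H ψ ∈ principalBlock M G := by
    intro ψ
    rw [mem_principal_iff, mem_principal_iff, infl_coe]
    constructor
    · intro h
      exact sameBlock_inflate H hM (χ := (⟨fun _ : G ⧸ H => (1 : ℂ), isIrr_one'⟩ : IrrCharacter (G ⧸ H))) (ψ := ψ) h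
    · intro h
      exact sameBlock_of_inflate H hM hH (χ := (⟨fun _ : G ⧸ H => (1 : ℂ), isIrr_one'⟩ : IrrCharacter (G ⧸ H))) (ψ := ψ) h
  refine ⟨fun ψ hψ => (h1 ψ).mp hψ, (infl_injective H).injOn, ?_⟩
  intro χ hχ
  obtain ⟨ψ, hψ⟩ := exists_infl H (χ := χ) (fun u hu => principal_ker hM H hH hχ hu)
  refine ⟨ψ, ?_, hψ⟩
  rw [h1, hψ]
  exact hχ

theorem s4735 [Fact p.Prime] (hM : IsPModular p M) (x : G) : (∃ n : ℕ, 0 < n ∧ ∑ᶠ χ ∈ principalBlock M G, Complex.normSq ((χ : G → ℂ) x) = n) ∧ ∑ᶠ χ ∈ principalBlock M G, Complex.normSq ((χ : G → ℂ) x) = ∑ᶠ ψ ∈ principalBlock M (G ⧸ pPrimeCore p G), Complex.normSq ((ψ : G ⧸ pPrimeCore p G → ℂ) (QuotientGroup.mk x)) ∧ ∑ᶠ χ ∈ principalBlock M G, Complex.normSq ((χ : G → ℂ) x) ≤ (Nat.card ↥(Subgroup.centralizer ({(QuotientGroup.mk x : G ⧸ pPrimeCore p G)} : Set (G ⧸ pPrimeCore p G))) : ℝ) ∧ ((∑ᶠ χ ∈ principalBlock M G, charDegree (χ : G → ℂ) ^ 2) = (pPrimeCore p G).index ↔ ∀ B : Set (IrrCharacter (G ⧸ pPrimeCore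 p G)), IsPBlock M B → B = principalBlock M (G ⧸ pPrimeCore p G)) := by
  classical
  haveI : Fintype (G ⧸ pPrimeCore p G) := Fintype.ofFinite _
  have hH : ¬ p ∣ Nat.card (pPrimeCore p G) := by
    have := CfsgLib.Core.card_pPrimeCore_coprime p G
    intro h
    exact (Fact.out : p.Prime).one_lt.ne' (Nat.eq_one_of_dvd_coprimes this h (dvd_refl p))
  have hbij := bij hM (pPrimeCore p G) hH
  have h2 : ∑ᶠ χ ∈ principalBlock M G, Complex.normSq ((χ : G → ℂ) x) = ∑ᶠ ψ ∈ principalBlock M (G ⧸ pPrimeCore p G), Complex.normSq ((ψ : G ⧸ pPrimeCore p G → ℂ) (QuotientGroup.mk x)) :=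
    (finsum_mem_eq_of_bijOn (infl (pPrimeCore p G)) hbij (fun ψ _ => by rw [infl_apply]; rfl)).symm
  have h3 : ∑ᶠ χ ∈ principalBlock M G, charDegree (χ : G → ℂ) ^ 2 = ∑ᶠ ψ ∈ principalBlock M (G ⧸ pPrimeCore p G), charDegree (ψ : G ⧸ pPrimeCore p G → ℂ) ^ 2 := by
    refine (finsum_mem_eq_of_bijOn (infl (pPrimeCore p G)) hbij (fun ψ _ => ?_)).symm
    have h4 : charDegree (infl (pPrimeCore p G) ψ : G → ℂ) = charDegree (ψ : G ⧸ pPrimeCore p G → ℂ) := by
      apply charDegree_eq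
      rw [infl_apply, map_one, charDegree_one]
    rw [h4]
  refine ⟨?_, h2, ?_, ?_⟩
  · obtain ⟨m, hm⟩ := int_sum (M := M) x
    have hpos : (1 : ℝ) ≤ ∑ᶠ χ ∈ principalBlock M G, Complex.normSq ((χ : G → ℂ) x) := by
      rw [finsum_eq]
      have h1 : (⟨fun _ : G => (1 : ℂ), isIrr_one'⟩ : IrrCharacter G) ∈ Finset.univ.filter (· ∈ principalBlock M G) := by
        rw [Finset.mem_filter]
        refine ⟨Finset.mem_univ _, ?_⟩
        exact SameBlock.refl hM _
      have h4 := Finset.single_le_sum (f := fun χ : IrrCharacter G => Complex.normSq ((χ : G → ℂ) x)) (fun χ _ => Complex.normSq_nonneg _) h1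
      have h5 : Complex.normSq (((⟨fun _ : G => (1 : ℂ), isIrr_one'⟩ : IrrCharacter G) : G → ℂ) x) = 1 := by
        change Complex.normSq 1 = 1
        exact map_one _
      simp only at h4
      rw [h5] at h4
      exact h4
    rw [hm] at hpos ⊢
    have hm1 : (1 : ℤ) ≤ m := by exact_mod_cast hpos
    refine ⟨m.toNat, by omega, ?_⟩
    have : ((m.toNat : ℤ) : ℝ) = (m : ℝ) := by rw [Int.toNat_of_nonneg (by omega)]
    rw [← this]; norm_cast
  · rw [h2, finsum_eq]
    have h4 := sum_irr_mul_conj_of_isConj (IsConj.refl (QuotientGroup.mk x : G ⧸ pPrimeCore p G))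
    have h5 : ∑ ψ : IrrCharacter (G ⧸ pPrimeCore p G), Complex.normSq ((ψ : G ⧸ pPrimeCore p G → ℂ) (QuotientGroup.mk x)) = (Nat.card ↥(Subgroup.centralizer ({(QuotientGroup.mk x : G ⧸ pPrimeCore p G)} : Set (G ⧸ pPrimeCore p G))) : ℝ) := by
      have h6 : ((∑ ψ : IrrCharacter (G ⧸ pPrimeCore p G), Complex.normSq ((ψ : G ⧸ pPrimeCore p G → ℂ) (QuotientGroup.mk x)) : ℝ) : ℂ) = (((Nat.card ↥(Subgroup.centralizer ({(QuotientGroup.mk x : G ⧸ pPrimeCore p G)} : Set (G ⧸ pPrimeCore p G))) : ℝ)) : ℂ) := by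
        push_cast
        rw [← h4]
        apply Finset.sum_congr rfl
        intro ψ _
        rw [Complex.mul_conj]
      exact_mod_cast h6
    rw [← h5]
    exact Finset.sum_le_sum_of_subset_of_nonneg (Finset.filter_subset _ _) (fun ψ _ _ => Complex.normSq_nonneg _)
  · rw [h3, finsum_eq]
    have h4 : ∑ ψ : IrrCharacter (G ⧸ pPrimeCore p G), charDegree (ψ : G ⧸ pPrimeCore p G → ℂ) ^ 2 = (pPrimeCore p G).index := by
      have h5 := sum_irr_one_sq (G ⧸ pPrimeCore p G)
      rw [Subgroup.index_eq_card]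
      have h6 : ((∑ ψ : IrrCharacter (G ⧸ pPrimeCore p G), charDegree (ψ : G ⧸ pPrimeCore p G → ℂ) ^ 2 : ℕ) : ℂ) = (Nat.card (G ⧸ pPrimeCore p G) : ℂ) := by
        rw [← h5]
        push_cast
        apply Finset.sum_congr rfl
        intro ψ _
        rw [charDegree_one]
      exact_mod_cast h6
    rw [← h4]
    constructor
    · intro h B hB
      have hall : ∀ ψ : IrrCharacter (G ⧸ pPrimeCore p G), ψ ∈ principalBlock M (G ⧸ pPrimeCore p G) := by
        intro ψ
        by_contra hψ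
        have h5 : ∑ ψ ∈ Finset.univ.filter (· ∈ principalBlock M (G ⧸ pPrimeCore p G)), charDegree (ψ : G ⧸ pPrimeCore p G → ℂ) ^ 2 < ∑ ψ : IrrCharacter (G ⧸ pPrimeCore p G), charDegree (ψ : G ⧸ pPrimeCore p G → ℂ) ^ 2 := by
          apply Finset.sum_lt_sum_of_subset (Finset.filter_subset _ _) (Finset.mem_univ ψ) (fun h6 => hψ (Finset.mem_filter.mp h6).2)
          · have h7 : charDegree (ψ : G ⧸ pPrimeCore p G → ℂ) ≠ 0 := by
              intro h8
              have h9 := charDegree_one ψ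
              rw [h8] at h9
              exact IsIrrCharacter.one_ne_zero ψ.2 (by rw [h9]; simp)
            positivity
          · intro _ _ _; exact Nat.zero_le _
        omega
      obtain ⟨χ, hχ⟩ := hB
      ext ψ
      constructor
      · intro _; exact hall ψ
      · intro _
        rw [hχ]
        exact SameBlock.trans hM (SameBlock.symm (hall χ)) (hall ψ)
    · intro h
      apply Finset.sum_congr _ (fun _ _ => rfl)
      ext ψ
      simp only [Finset.mem_filter, Finset.mem_univ, true_and, iff_true]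
      rw [← h (blockOf M (ψ : G ⧸ pPrimeCore p G → ℂ)) ⟨ψ, rfl⟩]
      exact SameBlock.refl hM _

end CfsgLib.Lam
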