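import Cfsg.Agent.Lib.BGlau5
import Cfsg.Agent.Lib.Transfer

/-!
# Thompson's theorem on character degrees divisible by `p`
-/

set_option autoImplicit false
set_option linter.style.haveILetI false
set_option linter.unusedSectionVars false
set_option linter.unusedVariables false

open scoped ComplexConjugate

namespace CfsgLib.Block

open Cfsg CfsgLib.CharBasic CfsgLib.CharInd CfsgLib.CharClifford

universe u v w

theorem sum_modEq_fixed {p : ℕ} [Fact p.Prime] {P : Type v} [Group P] (hP : IsPGroup p P) {X : Type w} [Fintype X] [DecidableEq X]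
    [MulAction P X] (f : X → ℕ) (hf : ∀ (a : P) x, f (a • x) = f x) (F : Finset X) (hF : ∀ x, x ∈ F ↔ ∀ a : P, a • x = x) :
    ∑ x, f x ≡ ∑ x ∈ F, f x [MOD p] := by
  classical
  let B := ∑ x, f x + 1
  have hB : ∀ x, f x < B := fun x => Nat.lt_succ_of_le (Finset.single_le_sum (f := f) (fun _ _ => Nat.zero_le _) (Finset.mem_univ x))
  let Y := {y : X × Fin B // (y.2 : ℕ) < f y.1}
  letI : MulAction P Y :=
    { smul := fun a y => ⟨(a • y.1.1, y.1.2), by rw [hf]; exact y.2⟩
      one_smul := fun y => Subtype.ext (Prod.ext (one_smul P y.1.1) rfl)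
      mul_smul := fun a b y => Subtype.ext (Prod.ext (mul_smul a b y.1.1) rfl) }
  have hsmul : ∀ (a : P) (y : Y), (a • y).1 = (a • y.1.1, y.1.2) := fun _ _ => rfl
  have hcard : ∀ x, (Finset.univ.filter (fun i : Fin B => (i : ℕ) < f x)).card = f x := by
    intro x
    have h1 : (Finset.univ.filter (fun i : Fin B => (i : ℕ) < f x)) = Finset.Iio (⟨f x, hB x⟩ : Fin B) := by
      ext i
      simp only [Finset.mem_filter, Finset.mem_univ, true_and, Finset.mem_Iio]
      exact Iff.rfl
    rw [h1, Fin.card_Iio]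
  have h1 : Nat.card Y = ∑ x, f x := by
    rw [Nat.card_eq_fintype_card, Fintype.card_subtype, Finset.card_filter, Fintype.sum_prod_type]
    apply Finset.sum_congr rfl
    intro x _
    rw [← Finset.card_filter]
    exact hcard x
  have h2 : Nat.card (MulAction.fixedPoints P Y) = ∑ x ∈ F, f x := by
    have hfix : ∀ y : Y, y ∈ MulAction.fixedPoints P Y ↔ y.1.1 ∈ F := by
      intro y
      rw [MulAction.mem_fixedPoints, hF]
      constructor
      · intro h a
        have := congrArg (fun z : Y => z.1.1) (h a)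
        exact this
      · intro h a
        exact Subtype.ext (Prod.ext (h a) rfl)
    let e : MulAction.fixedPoints P Y ≃ {y : X × Fin B // (y.2 : ℕ) < f y.1 ∧ y.1 ∈ F} :=
      { toFun := fun y => ⟨y.1.1, y.1.2, (hfix y.1).mp y.2⟩
        invFun := fun y => ⟨⟨y.1, y.2.1⟩, (hfix _).mpr y.2.2⟩
        left_inv := fun y => rfl
        right_inv := fun y => rfl }
    rw [Nat.card_congr e, Nat.card_eq_fintype_card, Fintype.card_subtype, Finset.card_filter, Fintype.sum_prod_type,
      ← Finset.sum_filter_add_sum_filter_not Finset.univ (fun x => x ∈ F)]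
    have h4 : ∑ x ∈ Finset.univ.filter (fun x => x ∉ F), ∑ y : Fin B, (if (y : ℕ) < f x ∧ x ∈ F then 1 else 0) = 0 := by
      apply Finset.sum_eq_zero
      intro x hx
      apply Finset.sum_eq_zero
      intro y _
      rw [if_neg (fun h => (Finset.mem_filter.mp hx).2 h.2)]
    rw [h4, add_zero, Finset.filter_mem_eq_inter, Finset.univ_inter]
    apply Finset.sum_congr rfl
    intro x hx
    rw [← hcard x, Finset.card_filter]
    apply Finset.sum_congr rfl
    intro y _
    simp [hx]
  have h3 := hP.card_modEq_card_fixedPoints Y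
  rw [h1, h2] at h3
  exact h3

section

variable {G : Type u} [Group G] [Fintype G] {p : ℕ}

/-- conjugation action on characters of a normal subgroup as a permutation action of a subgroup -/
theorem sum_inv_chars [Fact p.Prime] (N : Subgroup G) [hN : N.Normal] [Fintype N] {k : ℕ} (hk : N.index = p ^ k) :
    Nat.card N ≡ ∑ θ ∈ (Finset.univ.filter (fun θ : IrrCharacter N => (∀ g : G, conjFn g (θ : N → ℂ) = θ) ∧ ¬ p ∣ charDegree (θ : N → ℂ))),
      charDegree (θ : N → ℂ) ^ 2 [MOD p] := by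
  classical
  have hp : p.Prime := Fact.out
  have hsum : Nat.card N = ∑ θ : IrrCharacter N, charDegree (θ : N → ℂ) ^ 2 := by
    have h1 := sum_irr_one_sq N
    have h2 : ∀ θ : IrrCharacter N, (θ : N → ℂ) 1 ^ 2 = ((charDegree (θ : N → ℂ) ^ 2 : ℕ) : ℂ) := by
      intro θ
      rw [one_eq_charDegree (irr_isCharacter θ)]; push_cast; ring
    rw [Finset.sum_congr rfl (fun θ _ => h2 θ)] at h1
    exact_mod_cast h1.symm
  -- the action of the quotient
  have hconj : ∀ (g h : G) (θ : IrrCharacter N), conjIrr (g * h) θ = conjIrr h (conjIrr g θ) := by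
    intro g h θ
    apply Subtype.ext; funext n
    rw [conjIrr_apply, conjIrr_apply, conjIrr_apply]
    refine congrArg _ (Subtype.ext ?_)
    simp only
    group
  let ρ : G →* Equiv.Perm (IrrCharacter N) :=
    { toFun := fun g =>
        { toFun := fun θ => conjIrr g⁻¹ θ
          invFun := fun θ => conjIrr g θ
          left_inv := fun θ => conjIrr_inv' g θ
          right_inv := fun θ => conjIrr_inv g θ }
      map_one' := by
        ext θ : 1
        apply Subtype.ext; funext n
        show (conjIrr (1 : G)⁻¹ θ : N → ℂ) n = (θ : N → ℂ) n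
        rw [conjIrr_apply]
        refine congrArg _ (Subtype.ext ?_)
        simp
      map_mul' := by
        intro g h
        ext θ : 1
        show conjIrr (g * h)⁻¹ θ = conjIrr g⁻¹ (conjIrr h⁻¹ θ)
        rw [mul_inv_rev, hconj] }
  have hρ : ∀ g θ, ρ g θ = conjIrr g⁻¹ θ := fun _ _ => rfl
  have hNker : N ≤ ρ.ker := by
    intro g hg
    rw [MonoidHom.mem_ker]
    ext θ : 1
    rw [hρ]
    apply Subtype.ext
    have h1 := conjFn_of_mem (IsCharacter.isClassFunction (irr_isCharacter θ)) (N.inv_mem hg)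
    rw [← conjFn_eq_conjIrr]
    exact h1
  have hρp : IsPGroup p ρ.range := by
    have h1 : Nat.card ρ.range ∣ p ^ k := by
      rw [← Subgroup.index_ker, ← hk]
      exact Subgroup.index_dvd_of_le hNker
    obtain ⟨j, -, hj⟩ := (Nat.dvd_prime_pow hp).mp h1
    exact IsPGroup.of_card hj
  letI : MulAction ρ.range (IrrCharacter N) := MulAction.compHom _ ρ.range.subtype
  have hdeg : ∀ (a : ρ.range) (θ : IrrCharacter N), charDegree ((a • θ : IrrCharacter N) : N → ℂ) = charDegree (θ : N → ℂ) := by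
    rintro ⟨_, g, rfl⟩ θ
    show charDegree ((ρ g θ : IrrCharacter N) : N → ℂ) = _
    rw [hρ]
    unfold charDegree
    rw [conjIrr_apply]
    congr 3
    refine congrArg _ (Subtype.ext ?_)
    simp
  have h1 := sum_modEq_fixed (p := p) hρp (fun θ : IrrCharacter N => charDegree (θ : N → ℂ) ^ 2) (fun a θ => by rw [hdeg])
    (Finset.univ.filter (fun θ : IrrCharacter N => ∀ g : G, conjFn g (θ : N → ℂ) = θ)) (by
      intro θ
      rw [Finset.mem_filter]
      constructor
      · rintro ⟨-, h⟩ ⟨_, g, rfl⟩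
        show ρ g θ = θ
        rw [hρ]
        apply Subtype.ext
        rw [← conjFn_eq_conjIrr]
        exact h g⁻¹
      · intro h
        refine ⟨Finset.mem_univ _, ?_⟩
        intro g
        have h2 := h ⟨ρ g⁻¹, ⟨g⁻¹, rfl⟩⟩
        have h3 : ρ g⁻¹ θ = θ := h2
        rw [hρ, inv_inv] at h3
        rw [conjFn_eq_conjIrr, h3])
  rw [← hsum] at h1
  refine h1.trans ?_
  rw [← Finset.sum_filter_add_sum_filter_not _ (fun θ : IrrCharacter N => ¬ p ∣ charDegree (θ : N → ℂ)), Finset.filter_filter]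
  have h2 : ∑ θ ∈ (Finset.univ.filter (fun θ : IrrCharacter N => ∀ g : G, conjFn g (θ : N → ℂ) = θ)).filter
      (fun θ : IrrCharacter N => ¬ ¬ p ∣ charDegree (θ : N → ℂ)), charDegree (θ : N → ℂ) ^ 2 ≡ 0 [MOD p] := by
    rw [Nat.modEq_zero_iff_dvd]
    apply Finset.dvd_sum
    intro θ hθ
    rw [Finset.mem_filter, not_not] at hθ
    exact dvd_pow hθ.2 two_ne_zero
  have h3 := Nat.ModEq.add_left (∑ θ ∈ (Finset.univ.filter (fun θ : IrrCharacter N => (∀ g : G, conjFn g (θ : N → ℂ) = θ) ∧ ¬ p ∣ charDegree (θ : N → ℂ))),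
      charDegree (θ : N → ℂ) ^ 2) h2
  rw [add_zero] at h3
  exact h3

theorem detOrder_residual [Fact p.Prime] {θ : pResidual p G → ℂ} (hθ : IsCharacter (pResidual p G) θ) : ¬ p ∣ detOrder θ := by
  classical
  have hp : p.Prime := Fact.out
  obtain ⟨L, hL⟩ := CfsgLib.DetChar.detChar_hom hθ
  have hL' : detChar θ = fun n => (L n : ℂ) := funext hL
  have hord : detOrder θ = orderOf L := by
    unfold detOrder
    rw [hL', CfsgLib.DetExt3.orderOf_linear]
  rw [hord]
  obtain ⟨a, m, hm, ham⟩ := Nat.exists_eq_pow_mul_and_not_dvd (Nat.card_pos (α := G)).ne' p hp.ne_one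
  have h1 : L ^ m = 1 := by
    have h2 : ∀ g ∈ pResidual p G, ∀ hg : g ∈ pResidual p G, (L ⟨g, hg⟩) ^ m = 1 := by
      intro g hg0
      refine Subgroup.closure_induction (p := fun g _ => ∀ hg : g ∈ pResidual p G, (L ⟨g, hg⟩) ^ m = 1) ?_ ?_ ?_ ?_ hg0
      · intro x hx hg
        have h3 : orderOf x ∣ m := by
          have h4 : orderOf x ∣ p ^ a * m := by rw [← ham]; exact orderOf_dvd_natCard x
          exact Nat.Coprime.dvd_of_dvd_mul_left (Nat.Coprime.pow_right a hx) h4
        rw [← map_pow]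
        have h5 : (⟨x, hg⟩ : pResidual p G) ^ m = 1 := Subtype.ext (by
          rw [Subgroup.coe_pow]
          exact orderOf_dvd_iff_pow_eq_one.mp h3)
        rw [h5, map_one]
      · intro hg
        have : (⟨1, hg⟩ : pResidual p G) = 1 := rfl
        rw [this, map_one, one_pow]
      · intro x y hx hy h3 h4 hg
        have : (⟨x * y, hg⟩ : pResidual p G) = ⟨x, hx⟩ * ⟨y, hy⟩ := rfl
        rw [this, map_mul, mul_pow, h3 hx, h4 hy, one_mul]
      · intro x hx h3 hg
        have : (⟨x⁻¹, hg⟩ : pResidual p G) = (⟨x, hx⟩ : pResidual p G)⁻¹ := rfl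
        rw [this, map_inv, inv_pow, h3 hx, inv_one]
    apply MonoidHom.ext
    intro x
    rw [MonoidHom.pow_apply, MonoidHom.one_apply]
    exact h2 x x.2 x.2
  intro hdvd
  exact hm (hdvd.trans (orderOf_dvd_of_pow_eq_one h1))

theorem thompson_sum [Fact p.Prime] :
    Nat.card (pResidual p G) ≡ ∑ χ ∈ (Finset.univ.filter (fun χ : IrrCharacter G => ¬ p ∣ charDegree (χ : G → ℂ) ∧ ¬ p ∣ detOrder (χ : G → ℂ))),
      charDegree (χ : G → ℂ) ^ 2 [MOD p] := by
  classical
  have hp : p.Prime := Fact.out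
  haveI := CfsgLib.Transfer.pResidual_normal (G := G) p
  obtain ⟨k, hk⟩ := CfsgLib.Transfer.pResidual_index (G := G) p
  obtain ⟨N, hNdef⟩ : ∃ N : Subgroup G, N = pResidual p G := ⟨_, rfl⟩
  haveI : Fintype (pResidual p G) := Fintype.ofFinite _
  refine (sum_inv_chars (pResidual p G) hk).trans ?_
  have hcopr : ∀ n : ℕ, ¬ p ∣ n → (p ^ k).Coprime n := fun n hn => Nat.Coprime.pow_left k ((Nat.Prime.coprime_iff_not_dvd hp).mpr hn)
  -- restriction is a bijection
  have hcan : ∀ θ : IrrCharacter (pResidual p G), (∀ g : G, conjFn g (θ : pResidual p G → ℂ) = θ) → ¬ p ∣ charDegree (θ : pResidual p G → ℂ) →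
      ∃ χ : IrrCharacter G, (∀ n : pResidual p G, (χ : G → ℂ) n = (θ : pResidual p G → ℂ) n) ∧ ¬ p ∣ detOrder (χ : G → ℂ) ∧
        ∀ χ' : IrrCharacter G, (∀ n : pResidual p G, (χ' : G → ℂ) n = (θ : pResidual p G → ℂ) n) → ¬ p ∣ detOrder (χ' : G → ℂ) → χ' = χ := by
    intro θ h1 h2
    have h3 := detOrder_residual (p := p) (irr_isCharacter θ)
    obtain ⟨χ, ⟨ha, hb, hc⟩, hu⟩ := CfsgLib.DetExt5.canonical_ext θ.2 h1 (one_eq_charDegree (irr_isCharacter θ)) (by
      rw [hk]
      exact Nat.Coprime.mul_right (hcopr _ h3) (hcopr _ h2))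
    refine ⟨⟨χ, ha⟩, hb, by rw [show detOrder ((⟨χ, ha⟩ : IrrCharacter G) : G → ℂ) = detOrder (θ : pResidual p G → ℂ) from hc]; exact h3, ?_⟩
    intro χ' h4 h5
    exact Subtype.ext (hu _ χ'.2 h4 (by rw [hk]; exact hcopr _ h5))
  have hdeg : ∀ (χ : IrrCharacter G) (θ : IrrCharacter (pResidual p G)), (∀ n : pResidual p G, (χ : G → ℂ) n = (θ : pResidual p G → ℂ) n) →
      charDegree (χ : G → ℂ) = charDegree (θ : pResidual p G → ℂ) := by
    intro χ θ h
    unfold charDegree
    rw [← h 1]; rfl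
  refine congrArg (· % p) ?_
  have hmem : ∀ θ : IrrCharacter (pResidual p G), θ ∈ (Finset.univ.filter (fun θ : IrrCharacter (pResidual p G) =>
      (∀ g : G, conjFn g (θ : pResidual p G → ℂ) = θ) ∧ ¬ p ∣ charDegree (θ : pResidual p G → ℂ))) →
      (∀ g : G, conjFn g (θ : pResidual p G → ℂ) = θ) ∧ ¬ p ∣ charDegree (θ : pResidual p G → ℂ) := fun θ h => (Finset.mem_filter.mp h).2
  refine Finset.sum_bij (fun θ hθ => Classical.choose (hcan θ (hmem θ hθ).1 (hmem θ hθ).2)) ?_ ?_ ?_ ?_
  · intro θ hθ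
    have h := Classical.choose_spec (hcan θ (hmem θ hθ).1 (hmem θ hθ).2)
    rw [Finset.mem_filter]
    refine ⟨Finset.mem_univ _, ?_, h.2.1⟩
    rw [hdeg _ θ h.1]
    exact (hmem θ hθ).2
  · intro θ hθ θ' hθ' heq
    have h := Classical.choose_spec (hcan θ (hmem θ hθ).1 (hmem θ hθ).2)
    have h' := Classical.choose_spec (hcan θ' (hmem θ' hθ').1 (hmem θ' hθ').2)
    apply Subtype.ext
    funext n
    rw [← h.1, ← h'.1]
    exact congrArg (fun ψ : IrrCharacter G => (ψ : G → ℂ) n) heq
  · intro χ hχ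
    rw [Finset.mem_filter] at hχ
    obtain ⟨θ, hθ⟩ := exists_under (N := pResidual p G) χ
    obtain ⟨e, he, hei⟩ := CfsgLib.Cover3.degree_ratio' θ.2 χ.2 hθ
    have he1 : e = 1 := by
      rw [hk] at hei
      have h1 : e ∣ charDegree (χ : G → ℂ) := by
        rw [one_eq_charDegree (irr_isCharacter χ), one_eq_charDegree (irr_isCharacter θ)] at he
        have : charDegree (χ : G → ℂ) = e * charDegree (θ : pResidual p G → ℂ) := by exact_mod_cast he
        rw [this]; exact dvd_mul_right _ _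
      exact Nat.eq_one_of_dvd_coprimes (hcopr _ hχ.2.1) hei h1
    rw [he1, Nat.cast_one, one_mul] at he
    have hres : IsCharacter (pResidual p G) (fun n : pResidual p G => (χ : G → ℂ) n) := IsCharacter.comp (irr_isCharacter χ) (pResidual p G).subtype
    have hres' : (fun n : pResidual p G => (χ : G → ℂ) n) = (θ : pResidual p G → ℂ) :=
      (constituent_degree_le hres θ.2 hθ).2 (by
        show ((χ : G → ℂ) ((1 : pResidual p G) : G)).re ≤ _
        rw [Subgroup.coe_one, he])
    have hinv : ∀ g : G, conjFn g (θ : pResidual p G → ℂ) = θ := by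
      intro g
      rw [← hres']
      exact conjFn_res (IsCharacter.isClassFunction (irr_isCharacter χ)) g
    have hθp : ¬ p ∣ charDegree (θ : pResidual p G → ℂ) := by
      rw [← hdeg χ θ (fun n => congrFun hres' n)]; exact hχ.2.1
    have hθm : θ ∈ (Finset.univ.filter (fun θ : IrrCharacter (pResidual p G) =>
      (∀ g : G, conjFn g (θ : pResidual p G → ℂ) = θ) ∧ ¬ p ∣ charDegree (θ : pResidual p G → ℂ))) :=
      Finset.mem_filter.mpr ⟨Finset.mem_univ _, hinv, hθp⟩
    refine ⟨θ, hθm, ?_⟩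
    have h := Classical.choose_spec (hcan θ (hmem θ hθm).1 (hmem θ hθm).2)
    exact (h.2.2 χ (fun n => congrFun hres' n) hχ.2.2).symm
  · intro θ hθ
    have h := Classical.choose_spec (hcan θ (hmem θ hθ).1 (hmem θ hθ).2)
    exact congrArg (· ^ 2) (hdeg _ θ h.1).symm

end

end CfsgLib.Block
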