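import Cfsg.Agent.Lib.BEasy38
import Cfsg.Agent.Lib.BThomp
import Cfsg.Agent.Lib.BEasy21
import Cfsg.Agent.Lib.BEasy8
import Cfsg.Agent.Lib.BlockTrans

/-!
# Height-zero degrees in the principal block
-/

set_option autoImplicit false
set_option linter.style.haveILetI false
set_option linter.unusedSectionVars false
set_option linter.unusedVariables false

open scoped ComplexConjugate Pointwise commutatorElement

namespace CfsgLib.HZ

open Cfsg CfsgLib.CharBasic CfsgLib.CharInd CfsgLib.CharClifford CfsgLib.Block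

universe u v

variable {G : Type u} [Group G] [Fintype G] {p : ℕ} {M : Ideal AlgInt}

theorem sum_inv_set [Fact p.Prime] (N : Subgroup G) [hN : N.Normal] [Fintype N] {k : ℕ} (hk : N.index = p ^ k) (S : Set (IrrCharacter N)) [DecidablePred (· ∈ S)]
    (hS : ∀ (g : G) (θ : IrrCharacter N), θ ∈ S → conjIrr g θ ∈ S) :
    ∑ θ ∈ Finset.univ.filter (· ∈ S), charDegree (θ : N → ℂ) ^ 2 ≡ ∑ θ ∈ (Finset.univ.filter (fun θ : IrrCharacter N => (∀ g : G, conjFn g (θ : N → ℂ) = θ) ∧ ¬ p ∣ charDegree (θ : N → ℂ) ∧ θ ∈ S)),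
      charDegree (θ : N → ℂ) ^ 2 [MOD p] := by
  classical
  have hp : p.Prime := Fact.out
  -- the action of the quotient
  have hconj : ∀ (g h : G) (θ : IrrCharacter N), conjIrr (g * h) θ = conjIrr h (conjIrr g θ) := by
    intro g h θ
    apply Subtype.ext; funext n
    rw [conjIrr_apply, conjIrr_apply, conjIrr_apply]
    refine congrArg _ (Subtype.ext ?_)
    simp only
    group
  let ρ : G →* Equiv.Perm (IrrCharacter N) :=
    { toFun := fun g =>
        { toFun := fun θ => conjIrr g⁻¹ θ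
          invFun := fun θ => conjIrr g θ
          left_inv := fun θ => conjIrr_inv' g θ
          right_inv := fun θ => conjIrr_inv g θ }
      map_one' := by
        ext θ : 1
        apply Subtype.ext; funext n
        show (conjIrr (1 : G)⁻¹ θ : N → ℂ) n = (θ : N → ℂ) n
        rw [conjIrr_apply]
        refine congrArg _ (Subtype.ext ?_)
        simp
      map_mul' := by
        intro g h
        ext θ : 1
        show conjIrr (g * h)⁻¹ θ = conjIrr g⁻¹ (conjIrr h⁻¹ θ)
        rw [mul_inv_rev, hconj] }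
  have hρ : ∀ g θ, ρ g θ = conjIrr g⁻¹ θ := fun _ _ => rfl
  have hNker : N ≤ ρ.ker := by
    intro g hg
    rw [MonoidHom.mem_ker]
    ext θ : 1
    rw [hρ]
    apply Subtype.ext
    have h1 := conjFn_of_mem (IsCharacter.isClassFunction (irr_isCharacter θ)) (N.inv_mem hg)
    rw [← conjFn_eq_conjIrr]
    exact h1
  have hρp : IsPGroup p ρ.range := by
    have h1 : Nat.card ρ.range ∣ p ^ k := by
      rw [← Subgroup.index_ker, ← hk]
      exact Subgroup.index_dvd_of_le hNker
    obtain ⟨j, -, hj⟩ := (Nat.dvd_prime_pow hp).mp h1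
    exact IsPGroup.of_card hj
  letI : MulAction ρ.range (IrrCharacter N) := MulAction.compHom _ ρ.range.subtype
  have hdeg : ∀ (a : ρ.range) (θ : IrrCharacter N), charDegree ((a • θ : IrrCharacter N) : N → ℂ) = charDegree (θ : N → ℂ) := by
    rintro ⟨_, g, rfl⟩ θ
    show charDegree ((ρ g θ : IrrCharacter N) : N → ℂ) = _
    rw [hρ]
    unfold charDegree
    rw [conjIrr_apply]
    congr 3
    refine congrArg _ (Subtype.ext ?_)
    simp
  have hSiff : ∀ (a : ρ.range) (θ : IrrCharacter N), a • θ ∈ S ↔ θ ∈ S := by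
    rintro ⟨_, g, rfl⟩ θ
    show ρ g θ ∈ S ↔ _
    rw [hρ]
    constructor
    · intro h
      have h2 := hS g _ h
      rwa [conjIrr_inv' g θ] at h2
    · exact hS g⁻¹ θ
  have h1 := sum_modEq_fixed (p := p) hρp (fun θ : IrrCharacter N => if θ ∈ S then charDegree (θ : N → ℂ) ^ 2 else 0) (fun a θ => by
      simp only [hSiff, hdeg])
    (Finset.univ.filter (fun θ : IrrCharacter N => ∀ g : G, conjFn g (θ : N → ℂ) = θ)) (by
      intro θ
      rw [Finset.mem_filter]
      constructor
      · rintro ⟨-, h⟩ ⟨_, g, rfl⟩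
        show ρ g θ = θ
        rw [hρ]
        apply Subtype.ext
        rw [← conjFn_eq_conjIrr]
        exact h g⁻¹
      · intro h
        refine ⟨Finset.mem_univ _, ?_⟩
        intro g
        have h2 := h ⟨ρ g⁻¹, ⟨g⁻¹, rfl⟩⟩
        have h3 : ρ g⁻¹ θ = θ := h2
        rw [hρ, inv_inv] at h3
        rw [conjFn_eq_conjIrr, h3])
  rw [← Finset.sum_filter] at h1
  refine h1.trans ?_
  have h2 : ∑ θ ∈ (Finset.univ.filter (fun θ : IrrCharacter N => ∀ g : G, conjFn g (θ : N → ℂ) = θ)), (if θ ∈ S then charDegree (θ : N → ℂ) ^ 2 else 0) ≡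
      ∑ θ ∈ (Finset.univ.filter (fun θ : IrrCharacter N => ∀ g : G, conjFn g (θ : N → ℂ) = θ)), (if ¬ p ∣ charDegree (θ : N → ℂ) ∧ θ ∈ S then charDegree (θ : N → ℂ) ^ 2 else 0) [MOD p] := by
    rw [Nat.ModEq, Finset.sum_nat_mod, Finset.sum_nat_mod (f := fun θ : IrrCharacter N => if ¬ p ∣ charDegree (θ : N → ℂ) ∧ θ ∈ S then charDegree (θ : N → ℂ) ^ 2 else 0)]
    congr 1
    apply Finset.sum_congr rfl
    intro θ _
    by_cases h3 : θ ∈ S
    · by_cases h4 : p ∣ charDegree (θ : N → ℂ)
      · rw [if_pos h3, if_neg (fun h => h.1 h4)]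
        rw [Nat.zero_mod]
        exact Nat.mod_eq_zero_of_dvd (dvd_pow h4 two_ne_zero)
      · rw [if_pos h3, if_pos ⟨h4, h3⟩]
    · rw [if_neg h3, if_neg (fun h => h3 h.2)]
  refine h2.trans ?_
  rw [← Finset.sum_filter, Finset.filter_filter]

/-- linear characters of the residual have order prime to `p` -/
theorem lin_residual [Fact p.Prime] : ∃ m : ℕ, ¬ p ∣ m ∧ ∀ L : pResidual p G →* ℂˣ, L ^ m = 1 := by
  classical
  have hp : p.Prime := Fact.out
  obtain ⟨a, m, hm, ham⟩ := Nat.exists_eq_pow_mul_and_not_dvd (Nat.card_pos (α := G)).ne' p hp.ne_one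
  refine ⟨m, hm, fun L => ?_⟩
  have h2 : ∀ g ∈ pResidual p G, ∀ hg : g ∈ pResidual p G, (L ⟨g, hg⟩) ^ m = 1 := by
    intro g hg0
    refine Subgroup.closure_induction (p := fun g _ => ∀ hg : g ∈ pResidual p G, (L ⟨g, hg⟩) ^ m = 1) ?_ ?_ ?_ ?_ hg0
    · intro x hx hg
      have h3 : orderOf x ∣ m := by
        have h4 : orderOf x ∣ p ^ a * m := by rw [← ham]; exact orderOf_dvd_natCard x
        exact Nat.Coprime.dvd_of_dvd_mul_left (Nat.Coprime.pow_right a hx) h4
      rw [← map_pow]
      have h5 : (⟨x, hg⟩ : pResidual p G) ^ m = 1 := Subtype.ext (by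
        rw [Subgroup.coe_pow]
        exact orderOf_dvd_iff_pow_eq_one.mp h3)
      rw [h5, map_one]
    · intro hg
      have : (⟨1, hg⟩ : pResidual p G) = 1 := rfl
      rw [this, map_one, one_pow]
    · intro x y hx hy h3 h4 hg
      have : (⟨x * y, hg⟩ : pResidual p G) = ⟨x, hx⟩ * ⟨y, hy⟩ := rfl
      rw [this, map_mul, mul_pow, h3 hx, h4 hy, one_mul]
    · intro x hx h3 hg
      have : (⟨x⁻¹, hg⟩ : pResidual p G) = (⟨x, hx⟩ : pResidual p G)⁻¹ := rfl
      rw [this, map_inv, inv_pow, h3 hx, inv_one]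
  apply MonoidHom.ext
  intro x
  rw [MonoidHom.pow_apply, MonoidHom.one_apply]
  exact h2 x x.2 x.2

/-- the principal block is invariant -/
theorem principal_conj (hM : IsPModular p M) (N : Subgroup G) [hN : N.Normal] [Fintype N] (g : G) (θ : IrrCharacter N) (hθ : θ ∈ principalBlock M N) : conjIrr g θ ∈ principalBlock M N := by
  have h1 : SameBlock M ((⟨fun _ : N => (1 : ℂ), isIrr_one'⟩ : IrrCharacter N) : N → ℂ) (θ : N → ℂ) := hθ
  have h2 := sameBlock_conjIrr (M := M) g h1
  have h3 : (conjIrr g (⟨fun _ : N => (1 : ℂ), isIrr_one'⟩ : IrrCharacter N) : N → ℂ) = fun _ => 1 := by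
    funext n
    rw [conjIrr_apply]
  rw [h3] at h2
  exact h2

/-- products with linear characters -/
theorem lin_mul (hM : IsPModular p M) {N : Type u} [Group N] [Fintype N] {L L' : N →* ℂˣ} (h : SameBlock M (fun _ : N => (1 : ℂ)) (fun n => (L n : ℂ))) (h' : SameBlock M (fun _ : N => (1 : ℂ)) (fun n => (L' n : ℂ))) :
    SameBlock M (fun _ : N => (1 : ℂ)) (fun n => ((L * L') n : ℂ)) := by
  intro n
  have h1 := h n
  have h2 := h' n
  have e0 : centralChar (fun _ : N => (1 : ℂ)) n = ((Subgroup.centralizer ({n} : Set N)).index : ℂ) := by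
    rw [centralChar]; simp
  have e1 : ∀ K : N →* ℂˣ, centralChar (fun n => (K n : ℂ)) n = ((Subgroup.centralizer ({n} : Set N)).index : ℂ) * K n := by
    intro K
    rw [centralChar, map_one]; simp
  rw [e0, e1] at h1 h2 ⊢
  have hL : IsIntegral ℤ ((L n : ℂˣ) : ℂ) := by
    have := IsCharacter.isIntegral (IsIrrCharacter.isCharacter (isIrr_linear L)) n
    exact this
  have h3 : (((Subgroup.centralizer ({n} : Set N)).index : ℂ) - ((Subgroup.centralizer ({n} : Set N)).index : ℂ) * (((L * L') n : ℂˣ) : ℂ)) =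
      (((Subgroup.centralizer ({n} : Set N)).index : ℂ) - ((Subgroup.centralizer ({n} : Set N)).index : ℂ) * (L n : ℂ)) +
      (((Subgroup.centralizer ({n} : Set N)).index : ℂ) - ((Subgroup.centralizer ({n} : Set N)).index : ℂ) * (L' n : ℂ)) * (L n : ℂ) := by
    rw [MonoidHom.mul_apply, Units.val_mul]; ring
  rw [h3]
  exact locIdeal_add hM h1 (locIdeal_mul_right hM h2 (isIntegral_mem_locRing hM hL))

/-- the group of invariant linear characters in the principal block -/
noncomputable def Lam (hM : IsPModular p M) (N : Subgroup G) [hN : N.Normal] [Fintype N] : Subgroup (N →* ℂˣ) where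
  carrier := {L | SameBlock M (fun _ : N => (1 : ℂ)) (fun n => (L n : ℂ)) ∧ ∀ (g : G) (n : N), L ⟨g * n * g⁻¹, hN.conj_mem n n.2 g⟩ = L n}
  mul_mem' := by
    rintro a b ⟨ha, ha'⟩ ⟨hb, hb'⟩
    refine ⟨lin_mul hM ha hb, fun g n => ?_⟩
    rw [MonoidHom.mul_apply, MonoidHom.mul_apply, ha', hb']
  one_mem' := by
    refine ⟨?_, fun g n => rfl⟩
    have h1 : (fun n : N => (((1 : N →* ℂˣ) n : ℂˣ) : ℂ)) = fun _ => 1 := by
      funext n
      simp
    rw [h1]
    exact SameBlock.refl hM _
  inv_mem' := by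
    rintro L ⟨h, h'⟩
    refine ⟨?_, fun g n => ?_⟩
    · intro n
      have h1 := h n
      have e0 : centralChar (fun _ : N => (1 : ℂ)) n = ((Subgroup.centralizer ({n} : Set N)).index : ℂ) := by
        rw [centralChar]; simp
      have e1 : ∀ K : N →* ℂˣ, centralChar (fun n => (K n : ℂ)) n = ((Subgroup.centralizer ({n} : Set N)).index : ℂ) * K n := by
        intro K
        rw [centralChar, map_one]; simp
      rw [e0, e1] at h1 ⊢
      have hL : IsIntegral ℤ ((L⁻¹ n : ℂˣ) : ℂ) := IsCharacter.isIntegral (IsIrrCharacter.isCharacter (isIrr_linear L⁻¹)) n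
      have h4 : ((L n : ℂˣ) : ℂ) * ((L⁻¹ n : ℂˣ) : ℂ) = 1 := by
        rw [MonoidHom.inv_apply, ← Units.val_mul, mul_inv_cancel, Units.val_one]
      have h3 : (((Subgroup.centralizer ({n} : Set N)).index : ℂ) - ((Subgroup.centralizer ({n} : Set N)).index : ℂ) * ((L⁻¹ n : ℂˣ) : ℂ)) =
          -((((Subgroup.centralizer ({n} : Set N)).index : ℂ) - ((Subgroup.centralizer ({n} : Set N)).index : ℂ) * (L n : ℂ)) * ((L⁻¹ n : ℂˣ) : ℂ)) := by
        linear_combination (-((Subgroup.centralizer ({n} : Set N)).index : ℂ)) * h4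
      rw [h3]
      exact locIdeal_neg (locIdeal_mul_right hM h1 (isIntegral_mem_locRing hM hL))
    · rw [MonoidHom.inv_apply, MonoidHom.inv_apply, h']

theorem mem_Lam (hM : IsPModular p M) (N : Subgroup G) [hN : N.Normal] [Fintype N] (L : N →* ℂˣ) : L ∈ Lam hM N ↔ SameBlock M (fun _ : N => (1 : ℂ)) (fun n => (L n : ℂ)) ∧ ∀ (g : G) (n : N), L ⟨g * n * g⁻¹, hN.conj_mem n n.2 g⟩ = L n := Iff.rfl

theorem residual_coprime [Fact p.Prime] (hM : IsPModular p M) (hd : ∀ χ : IrrCharacter G, χ ∈ principalBlock M G → ¬ p ∣ charDegree (χ : G → ℂ) → charDegree (χ : G → ℂ) = 1) : ¬ p ∣ Nat.card (pResidual p G) := by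
  classical
  have hp : p.Prime := Fact.out
  intro hdvd
  haveI hNn := CfsgLib.Transfer.pResidual_normal (G := G) p
  obtain ⟨k, hk⟩ := CfsgLib.Transfer.pResidual_index (G := G) p
  haveI : Fintype (pResidual p G) := Fintype.ofFinite _
  have hcopr : ∀ n : ℕ, ¬ p ∣ n → (p ^ k).Coprime n := fun n hn => Nat.Coprime.pow_left k ((Nat.Prime.coprime_iff_not_dvd hp).mpr hn)
  have h1 := sum_inv_set (p := p) (pResidual p G) hk (principalBlock M (pResidual p G)) (fun g θ hθ => principal_conj hM _ g θ hθ)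
  -- the left side is divisible by `p`
  have h2 : p ∣ ∑ θ ∈ Finset.univ.filter (· ∈ principalBlock M (pResidual p G)), charDegree (θ : pResidual p G → ℂ) ^ 2 := by
    have h3 := s4491 (G := pResidual p G) hM (isPBlock_principalBlock (M := M) (G := pResidual p G))
    rw [blockDefect_principal hM, CfsgLib.Lam.finsum_eq] at h3
    have h4 : 0 < (Nat.card (pResidual p G)).factorization p := hp.factorization_pos_of_dvd Nat.card_pos.ne' hdvd
    exact Nat.dvd_of_factorization_pos (by omega)
  -- invariant characters are linear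
  have hlin : ∀ θ : IrrCharacter (pResidual p G), (∀ g : G, conjFn g (θ : pResidual p G → ℂ) = θ) → ¬ p ∣ charDegree (θ : pResidual p G → ℂ) → θ ∈ principalBlock M (pResidual p G) → charDegree (θ : pResidual p G → ℂ) = 1 := by
    intro θ hinv hθp hθB
    have h3 := detOrder_residual (p := p) (irr_isCharacter θ)
    obtain ⟨χ, ⟨ha, hb, hc⟩, -⟩ := CfsgLib.DetExt5.canonical_ext θ.2 hinv (one_eq_charDegree (irr_isCharacter θ)) (by
      rw [hk]
      exact Nat.Coprime.mul_right (hcopr _ h3) (hcopr _ hθp))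
    have hcov : Covers (N := pResidual p G) (blockOf M χ) (principalBlock M (pResidual p G)) := by
      refine ⟨⟨χ, ha⟩, SameBlock.refl hM _, θ, hθB, ?_⟩
      have h4 : (fun n : pResidual p G => χ n) = (θ : pResidual p G → ℂ) := funext hb
      change classInner (fun n : pResidual p G => χ n) (θ : pResidual p G → ℂ) ≠ 0
      rw [h4, IsIrrCharacter.inner_self θ.2]
      exact one_ne_zero
    have hcov' : Covers (N := pResidual p G) (principalBlock M G) (principalBlock M (pResidual p G)) := by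
      refine ⟨⟨fun _ => 1, isIrr_one'⟩, SameBlock.refl hM _, ⟨fun _ => 1, isIrr_one'⟩, SameBlock.refl hM _, ?_⟩
      change classInner (fun _ : pResidual p G => (1 : ℂ)) (fun _ : pResidual p G => (1 : ℂ)) ≠ 0
      rw [IsIrrCharacter.inner_self isIrr_one']
      exact one_ne_zero
    have h5 := covers_unique hM hk (⟨⟨χ, ha⟩, rfl⟩ : IsPBlock M (blockOf M χ)) isPBlock_principalBlock isPBlock_principalBlock hcov hcov'
    have h6 : (⟨χ, ha⟩ : IrrCharacter G) ∈ principalBlock M G := by
      rw [← h5]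
      exact SameBlock.refl hM _
    have h7 : charDegree χ = charDegree (θ : pResidual p G → ℂ) := by
      apply charDegree_eq
      have h8 := hb 1
      rw [OneMemClass.coe_one] at h8
      rw [h8, charDegree_one]
    have h8 := hd ⟨χ, ha⟩ h6 (by
      change ¬ p ∣ charDegree χ
      rw [h7]; exact hθp)
    rw [← h7]; exact h8
  -- counting
  have hF : ∑ θ ∈ (Finset.univ.filter (fun θ : IrrCharacter (pResidual p G) => (∀ g : G, conjFn g (θ : pResidual p G → ℂ) = θ) ∧ ¬ p ∣ charDegree (θ : pResidual p G → ℂ) ∧ θ ∈ principalBlock M (pResidual p G))),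
      charDegree (θ : pResidual p G → ℂ) ^ 2 = Nat.card (Lam hM (pResidual p G)) := by
    rw [Finset.sum_congr rfl (g := fun _ => 1) (by
      intro θ hθ
      have h3 := (Finset.mem_filter.mp hθ).2
      rw [hlin θ h3.1 h3.2.1 h3.2.2, one_pow]), Finset.sum_const, smul_eq_mul, mul_one, ← Fintype.card_coe, ← Nat.card_eq_fintype_card]
    symm
    apply Nat.card_congr
    have hdeg1 : ∀ L : pResidual p G →* ℂˣ, charDegree (linIrr L : pResidual p G → ℂ) = 1 := by
      intro L
      apply charDegree_eq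
      rw [linIrr_apply, map_one]; simp
    apply Equiv.ofBijective (fun L : Lam hM (pResidual p G) => (⟨linIrr L.1, by
      rw [Finset.mem_filter]
      refine ⟨Finset.mem_univ _, ?_, ?_, L.2.1⟩
      · intro g
        funext n
        rw [conjFn_apply, linIrr_apply, linIrr_apply, L.2.2]
      · rw [hdeg1]
        exact hp.one_lt.ne' ∘ Nat.dvd_one.mp⟩ : {θ : IrrCharacter (pResidual p G) // θ ∈ (Finset.univ.filter (fun θ : IrrCharacter (pResidual p G) => (∀ g : G, conjFn g (θ : pResidual p G → ℂ) = θ) ∧ ¬ p ∣ charDegree (θ : pResidual p G → ℂ) ∧ θ ∈ principalBlock M (pResidual p G)))}))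
    constructor
    · intro a b h
      have h3 := congrArg Subtype.val h
      exact Subtype.ext (linIrr_injective h3)
    · rintro ⟨θ, hθ⟩
      have h3 := (Finset.mem_filter.mp hθ).2
      obtain ⟨L, hL⟩ := IsCharacter.exists_linear (irr_isCharacter θ) (by rw [charDegree_one, hlin θ h3.1 h3.2.1 h3.2.2]; simp)
      have h4 : (θ : pResidual p G → ℂ) = fun n => (L n : ℂ) := funext hL
      refine ⟨⟨L, ?_, ?_⟩, ?_⟩
      · rw [← h4]; exact h3.2.2
      · intro g n
        have h5 := congrFun (h3.1 g) n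
        rw [conjFn_apply, hL, hL] at h5
        exact Units.ext h5
      · apply Subtype.ext
        apply Subtype.ext
        exact h4.symm
  rw [hF] at h1
  have h3 : p ∣ Nat.card (Lam hM (pResidual p G)) := (Nat.modEq_zero_iff_dvd).mp (h1.symm.trans ((Nat.modEq_zero_iff_dvd).mpr h2))
  haveI : Finite (Lam hM (pResidual p G)) := inferInstance
  obtain ⟨L, hL⟩ := exists_prime_orderOf_dvd_card' (G := Lam hM (pResidual p G)) p h3
  obtain ⟨m, hm, hLm⟩ := lin_residual (G := G) (p := p)
  apply hm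
  rw [← hL, orderOf_dvd_iff_pow_eq_one]
  apply Subtype.ext
  exact hLm L.1

theorem s4888 [Fact p.Prime] (hM : IsPModular p M) : (∃ d : ℕ, ∀ χ : IrrCharacter G, χ ∈ (principalBlock M G) → blockHeight p (principalBlock M G) (χ : G → ℂ) = 0 → charDegree (χ : G → ℂ) = d) ↔ HasNormalPComplement p G := by
  classical
  have hp : p.Prime := Fact.out
  have hheight : ∀ χ : IrrCharacter G, blockHeight p (principalBlock M G) (χ : G → ℂ) = 0 ↔ ¬ p ∣ charDegree (χ : G → ℂ) := by
    intro χ
    rw [height_principal hM, Nat.factorization_eq_zero_iff]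
    have h1 := charDegree_ne_zero χ.2
    constructor
    · rintro (h | h | h)
      · exact absurd hp h
      · exact h
      · exact absurd h h1
    · intro h; right; left; exact h
  constructor
  · rintro ⟨d, hd⟩
    have hd1 : d = 1 := by
      have h1 := hd ⟨fun _ => 1, isIrr_one'⟩ (SameBlock.refl hM _) (by
        rw [hheight]
        have h2 : charDegree (fun _ : G => (1 : ℂ)) = 1 := charDegree_eq (by simp)
        change ¬ p ∣ charDegree (fun _ : G => (1 : ℂ))
        rw [h2]
        exact hp.one_lt.ne' ∘ Nat.dvd_one.mp)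
      rw [← h1]
      exact charDegree_eq (by simp)
    have h1 := residual_coprime hM (fun χ hχ hχp => by rw [hd χ hχ ((hheight χ).mpr hχp), hd1])
    haveI hNn := CfsgLib.Transfer.pResidual_normal (G := G) p
    obtain ⟨k, hk⟩ := CfsgLib.Transfer.pResidual_index (G := G) p
    obtain ⟨P⟩ : Nonempty (Sylow p G) := inferInstance
    refine ⟨P, pResidual p G, hNn, ?_⟩
    have h2 := Subgroup.card_mul_index (pResidual p G)
    rw [hk] at h2
    have h3 : Nat.card P = p ^ k := by
      rw [P.card_eq_multiplicity, ← h2, Nat.factorization_mul Nat.card_pos.ne' (pow_ne_zero _ hp.ne_zero), Finsupp.add_apply, Nat.factorization_eq_zero_of_not_dvd h1, zero_add, hp.factorization_pow, Finsupp.single_eq_same]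
    apply Subgroup.isComplement'_of_coprime
    · rw [h3, h2]
    · rw [h3]
      exact Nat.Coprime.pow_right k ((Nat.Prime.coprime_iff_not_dvd hp).mpr h1).symm
  · rintro ⟨P, K, hK, hcompl⟩
    haveI := hK
    refine ⟨1, fun χ hχ hχ0 => ?_⟩
    rw [hheight] at hχ0
    have h1 : K.index = Nat.card P := hcompl.symm.index_eq_card
    have h2 : (P : Subgroup G).index = Nat.card K := hcompl.index_eq_card
    obtain ⟨k, hk⟩ := (IsPGroup.iff_card (p := p) (G := P)).mp P.isPGroup'
    have hKp : ¬ p ∣ Nat.card K := by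
      rw [← h2]; exact P.not_dvd_index
    obtain ⟨ψ, hψ⟩ := exists_infl K (χ := χ) (fun u hu => principal_ker hM K hKp hχ hu)
    haveI : Fintype (G ⧸ K) := Fintype.ofFinite _
    have h3 : charDegree (χ : G → ℂ) = charDegree (ψ : G ⧸ K → ℂ) := by
      rw [← hψ]
      apply charDegree_eq
      rw [infl_apply, map_one, charDegree_one]
    have h4 := charDegree_dvd ψ.2
    rw [← Subgroup.index_eq_card, h1, hk, Nat.dvd_prime_pow hp] at h4
    obtain ⟨j, -, hj⟩ := h4
    rw [h3, hj] at hχ0 ⊢
    have : j = 0 := by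
      by_contra h
      exact hχ0 (dvd_pow_self p h)
    rw [this, pow_zero]

end CfsgLib.HZ
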