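import Cfsg.Agent.Lib.BGlau6
import Cfsg.Agent.Lib.BlockNormal
import Cfsg.Agent.Lib.BlockCover
import Cfsg.Agent.Lib.BlockInd

/-!
# Blocks above an invariant character of a normal `p'`-subgroup
-/

set_option autoImplicit false
set_option linter.style.haveILetI false
set_option linter.unusedSectionVars false
set_option linter.unusedVariables false

open scoped ComplexConjugate

namespace CfsgLib.Block

open Cfsg CfsgLib.CharBasic CfsgLib.CharInd CfsgLib.CharClifford CfsgLib.CharGalois CfsgLib.Cover2 CfsgLib.Cover3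

universe u v w

theorem exists_reg_lift {Γ : Type v} [Group Γ] [Finite Γ] {G : Type u} [Group G] [Finite G] {π : Γ →* G}
    (hπ : Function.Surjective π) {p : ℕ} (hp : p.Prime) {x : G} (hx : ¬ p ∣ orderOf x) :
    ∃ y : Γ, π y = x ∧ ¬ p ∣ orderOf y := by
  obtain ⟨y₀, hy₀⟩ := hπ x
  obtain ⟨a, m, hm, ham⟩ := Nat.exists_eq_pow_mul_and_not_dvd (orderOf_pos y₀).ne' p hp.ne_one
  have hcop : (p ^ a).Coprime m := Nat.Coprime.pow_left a ((Nat.Prime.coprime_iff_not_dvd hp).mpr hm)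
  obtain ⟨k, hk0, hk1⟩ := Nat.chineseRemainder hcop 0 1
  refine ⟨y₀ ^ k, ?_, ?_⟩
  · rw [map_pow, hy₀]
    have h1 : orderOf x ∣ m := by
      have h2 : orderOf x ∣ p ^ a * m := by
        rw [← ham, ← hy₀]
        exact orderOf_map_dvd π y₀
      exact Nat.Coprime.dvd_of_dvd_mul_left ((Nat.Coprime.pow_right a ((Nat.Prime.coprime_iff_not_dvd hp).mpr hx).symm)) h2
    have h3 := (pow_eq_pow_iff_modEq (x := x)).mpr (hk1.of_dvd h1)
    rwa [pow_one] at h3
  · intro h
    apply hm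
    apply h.trans
    apply orderOf_dvd_of_pow_eq_one
    rw [← pow_mul, ← orderOf_dvd_iff_pow_eq_one, ham]
    exact mul_dvd_mul_right ((Nat.modEq_zero_iff_dvd).mp hk0) m

theorem index_lift {Γ : Type v} [Group Γ] [Finite Γ] {G : Type u} [Group G] [Finite G] {π : Γ →* G}
    (hπ : Function.Surjective π) (hcen : π.ker ≤ Subgroup.center Γ) {p : ℕ} (hp : p.Prime) {y : Γ} (hy : ¬ p ∣ orderOf y) :
    ∃ z : ℕ, ¬ p ∣ z ∧ (Subgroup.centralizer ({y} : Set Γ)).index = z * (Subgroup.centralizer ({π y} : Set G)).index := by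
  haveI : Fact p.Prime := ⟨hp⟩
  obtain ⟨C₂, hC₂⟩ : ∃ C₂ : Subgroup Γ, C₂ = (Subgroup.centralizer ({π y} : Set G)).comap π := ⟨_, rfl⟩
  have hle : Subgroup.centralizer ({y} : Set Γ) ≤ C₂ := by
    intro g hg
    rw [hC₂, Subgroup.mem_comap, Subgroup.mem_centralizer_singleton_iff]
    rw [Subgroup.mem_centralizer_singleton_iff] at hg
    rw [← map_mul, ← map_mul, hg]
  have hcomm : ∀ g : C₂, (g : Γ) * y * (g : Γ)⁻¹ * y⁻¹ ∈ Subgroup.center Γ := by
    intro g
    apply hcen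
    have h1 : (g : Γ) ∈ (Subgroup.centralizer ({π y} : Set G)).comap π := hC₂ ▸ g.2
    rw [Subgroup.mem_comap, Subgroup.mem_centralizer_singleton_iff] at h1
    rw [MonoidHom.mem_ker, map_mul, map_mul, map_mul, map_inv, map_inv, h1]
    group
  let f : C₂ →* Γ :=
    { toFun := fun g => (g : Γ) * y * (g : Γ)⁻¹ * y⁻¹
      map_one' := by simp
      map_mul' := by
        intro g h
        have h1 := (Subgroup.mem_center_iff.mp (hcomm h)) (g : Γ)
        show ((g : Γ) * h) * y * ((g : Γ) * h)⁻¹ * y⁻¹ = ((g : Γ) * y * (g : Γ)⁻¹ * y⁻¹) * ((h : Γ) * y * (h : Γ)⁻¹ * y⁻¹)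
        have h2 : ((g : Γ) * h) * y * ((g : Γ) * h)⁻¹ * y⁻¹ = (g : Γ) * ((h : Γ) * y * (h : Γ)⁻¹ * y⁻¹) * (y * (g : Γ)⁻¹ * y⁻¹) := by group
        rw [h2, h1]
        have h3 := (Subgroup.mem_center_iff.mp (hcomm h)) ((g : Γ) * y * (g : Γ)⁻¹ * y⁻¹)
        rw [h3]; group }
  have hf : ∀ g, f g = (g : Γ) * y * (g : Γ)⁻¹ * y⁻¹ := fun g => rfl
  have hker : f.ker = (Subgroup.centralizer ({y} : Set Γ)).subgroupOf C₂ := by
    ext g
    rw [MonoidHom.mem_ker, hf, Subgroup.mem_subgroupOf, Subgroup.mem_centralizer_singleton_iff, mul_inv_eq_one, mul_inv_eq_iff_eq_mul]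
  refine ⟨(Subgroup.centralizer ({y} : Set Γ)).relIndex C₂, ?_, ?_⟩
  · intro hdvd
    have h1 : (Subgroup.centralizer ({y} : Set Γ)).relIndex C₂ = Nat.card f.range := by
      rw [Subgroup.relIndex, ← hker, Subgroup.index_ker]
    rw [h1] at hdvd
    obtain ⟨⟨_, g, rfl⟩, hx⟩ := exists_prime_orderOf_dvd_card' (G := f.range) p hdvd
    apply hy
    rw [← hx]
    apply orderOf_dvd_of_pow_eq_one
    apply Subtype.ext
    rw [Subgroup.coe_pow, Subgroup.coe_one]
    show (f g) ^ orderOf y = 1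
    have h2 : f g * y = (g : Γ) * y * (g : Γ)⁻¹ := by rw [hf]; group
    have h3 : (f g * y) ^ orderOf y = 1 := by rw [h2, conj_pow, pow_orderOf_eq_one]; group
    have h4 : Commute (f g) y := (Subgroup.mem_center_iff.mp (hcomm g) y).symm
    rw [h4.mul_pow, pow_orderOf_eq_one, mul_one] at h3
    exact h3
  · have h1 : (Subgroup.centralizer ({π y} : Set G)).index = C₂.index := by
      rw [hC₂, Subgroup.index_comap_of_surjective _ hπ]
    rw [h1, Subgroup.relIndex_mul_index hle]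

theorem index_quot {Γ : Type v} [Group Γ] [Finite Γ] {G : Type u} [Group G] {π : Γ →* G}
    (hπ : Function.Surjective π) (y : Γ) :
    (Subgroup.centralizer ({π y} : Set G)).index ∣ (Subgroup.centralizer ({y} : Set Γ)).index := by
  rw [← Subgroup.index_comap_of_surjective _ hπ]
  apply Subgroup.index_dvd_of_le
  intro g hg
  rw [Subgroup.mem_comap, Subgroup.mem_centralizer_singleton_iff]
  rw [Subgroup.mem_centralizer_singleton_iff] at hg
  rw [← map_mul, ← map_mul, hg]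

section

variable {G : Type u} [Group G] [Fintype G] {N : Subgroup G} [hN : N.Normal] [Fintype N] {ϑ : N → ℂ}
  {Γ : Type u} [Group Γ] [Finite Γ]

/-- characters over `ϑ` are products with the extension on the cover -/
theorem cdata_factor (hϑ : IsIrrCharacter N ϑ) (D : CData N ϑ Γ) {χ : G → ℂ} (hχ : IsIrrCharacter G χ)
    (hcon : classInner (fun n : N => χ n) ϑ ≠ 0) :
    haveI := D.nrm
    ∃ β : Γ ⧸ D.ι.range → ℂ, IsIrrCharacter (Γ ⧸ D.ι.range) β ∧
      ∀ y : Γ, χ (D.π y) = β (QuotientGroup.mk' D.ι.range y) * D.χ y := by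
  classical
  haveI := D.nrm
  haveI : Fintype Γ := Fintype.ofFinite _
  haveI : Fintype D.ι.range := Fintype.ofFinite _
  have hinj : Function.Injective D.ι := fun a b h => by
    apply Subtype.ext
    rw [← D.πι, h, D.πι]
  obtain ⟨e, he⟩ : ∃ e : N ≃* D.ι.range, ∀ n, ((e n : D.ι.range) : Γ) = D.ι n := ⟨MonoidHom.ofInjective hinj, fun n => rfl⟩
  have hres := cdata_res_irr hϑ D
  have hψ : IsIrrCharacter Γ (χ ∘ D.π) := IsIrrCharacter.comp hχ D.π D.surj
  have hDc := IsIrrCharacter.isCharacter D.irr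
  have hinv : ∀ g : Γ, conjFn g (fun x : D.ι.range => D.χ x) = fun x : D.ι.range => D.χ x :=
    fun g => conjFn_res (IsCharacter.isClassFunction hDc) g
  have h1irr : IsIrrCharacter D.ι.range (fun _ : D.ι.range => (1 : ℂ)) := isIrr_one'
  have hone : (fun _ : D.ι.range => (1 : ℂ)) * (fun x : D.ι.range => D.χ x) = fun x : D.ι.range => D.χ x := by
    funext x; simp
  have hg := CfsgLib.Gallagher.gallagher (φ := fun _ : D.ι.range => (1 : ℂ)) (θ := fun x : D.ι.range => D.χ x) h1irr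
    (fun g => by funext x; rfl) hinv (by rw [hone]; exact hres) D.irr (fun n => rfl)
  rw [hone] at hg
  have hmem : (χ ∘ D.π) ∈ {ψ : Γ → ℂ | IsIrrCharacter Γ ψ ∧ classInner (indFun D.ι.range (fun x : D.ι.range => D.χ x)) ψ ≠ 0} := by
    refine ⟨hψ, ?_⟩
    rw [CfsgLib.CharInd.frobenius _ _ (IsCharacter.isClassFunction (IsIrrCharacter.isCharacter hψ))]
    intro h0
    apply hcon
    have h1 : classInner (fun x : D.ι.range => D.χ x) (fun x : D.ι.range => (χ ∘ D.π) x) = classInner ϑ (fun n : N => χ n) := by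
      unfold classInner
      congr 1
      · rw [Nat.card_congr e.toEquiv]
      · rw [← Equiv.sum_comp e.toEquiv]
        apply Finset.sum_congr rfl
        intro n _
        show D.χ ((e n : D.ι.range) : Γ) * conj (χ (D.π ((e n : D.ι.range) : Γ))) = _
        rw [he, D.res, D.πι]
    rw [h1] at h0
    rw [← classInner_conj_symm, h0, map_zero]
  obtain ⟨β, ⟨hβ, hβ1⟩, hβχ⟩ := hg.surjOn hmem
  have hker := CfsgLib.Gallagher2.ker_of_ind_one hβ hβ1
  obtain ⟨β', hβ', hββ⟩ := descend (π := QuotientGroup.mk' D.ι.range) (QuotientGroup.mk'_surjective _) hβ (by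
    intro z hz
    rw [QuotientGroup.ker_mk'] at hz
    exact hker ⟨z, hz⟩)
  refine ⟨β', hβ', ?_⟩
  intro y
  have h1 := congrFun hβχ y
  simp only [Pi.mul_apply, hββ, Function.comp_apply] at h1
  exact h1.symm

end

/-- A central-by-`p` normal subgroup is generated by its centre part and a normal `p`-subgroup -/
theorem exists_normal_p {G : Type u} [Group G] [Finite G] {p : ℕ} [hp : Fact p.Prime] (L Z : Subgroup G) [hL : L.Normal]
    (hZ : Z ≤ Subgroup.center G) (hZL : Z ≤ L) (hLZ : ∀ l ∈ L, ∃ k : ℕ, l ^ p ^ k ∈ Z) :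
    ∃ P : Subgroup G, P.Normal ∧ IsPGroup p P ∧ L ≤ P ⊔ Z := by
  obtain ⟨P, -⟩ : ∃ P : Sylow p L, True := ⟨default, trivial⟩
  let Z' : Subgroup L := Z.subgroupOf L
  haveI hZ'n : Z'.Normal := by
    refine ⟨fun n hn g => ?_⟩
    have h1 : (n : G) ∈ Subgroup.center G := hZ hn
    have h2 : g * n * g⁻¹ = n := by
      apply Subtype.ext
      have := (Subgroup.mem_center_iff.mp h1) (g : G)
      show (g : G) * n * (g : G)⁻¹ = n
      rw [this]; group
    rw [h2]; exact hn
  have hidx : ∃ k, Z'.index = p ^ k := by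
    have h1 : IsPGroup p (L ⧸ Z') := by
      intro x
      obtain ⟨l, rfl⟩ := QuotientGroup.mk_surjective x
      obtain ⟨k, hk⟩ := hLZ l l.2
      refine ⟨k, ?_⟩
      rw [← QuotientGroup.mk_pow, QuotientGroup.eq_one_iff]
      exact hk
    obtain ⟨k, hk⟩ := IsPGroup.iff_card.mp h1
    exact ⟨k, hk⟩
  have hsup : (P : Subgroup L) ⊔ Z' = ⊤ := by
    rw [← Subgroup.index_eq_one]
    obtain ⟨k, hk⟩ := hidx
    have h1 : ((P : Subgroup L) ⊔ Z').index ∣ p ^ k := by rw [← hk]; exact Subgroup.index_dvd_of_le le_sup_right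
    have h2 : ((P : Subgroup L) ⊔ Z').index ∣ (P : Subgroup L).index := Subgroup.index_dvd_of_le le_sup_left
    have h3 : ¬ p ∣ (P : Subgroup L).index := P.not_dvd_index
    have h4 : (p ^ k).Coprime (P : Subgroup L).index := Nat.Coprime.pow_left k ((Nat.Prime.coprime_iff_not_dvd hp.out).mpr h3)
    exact Nat.eq_one_of_dvd_coprimes h4 h1 h2
  haveI hPn : (P : Subgroup L).Normal := by
    refine ⟨fun n hn g => ?_⟩
    have hg : g ∈ (P : Subgroup L) ⊔ Z' := by rw [hsup]; exact Subgroup.mem_top _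
    rw [Subgroup.mem_sup_of_normal_right] at hg
    obtain ⟨u, hu, z, hz, rfl⟩ := hg
    have h1 : z * n * z⁻¹ = n := by
      apply Subtype.ext
      have h2 : (z : G) ∈ Subgroup.center G := hZ hz
      have := (Subgroup.mem_center_iff.mp h2) (n : G)
      show (z : G) * n * (z : G)⁻¹ = n
      rw [← this]; group
    have h3 : u * z * n * (u * z)⁻¹ = u * (z * n * z⁻¹) * u⁻¹ := by group
    rw [h3, h1]
    exact (P : Subgroup L).mul_mem ((P : Subgroup L).mul_mem hu hn) ((P : Subgroup L).inv_mem hu)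
  haveI : (P : Subgroup L).Characteristic := P.characteristic_of_normal hPn
  refine ⟨(P : Subgroup L).map L.subtype, inferInstance, P.2.map _, ?_⟩
  intro l hl
  have h1 : (⟨l, hl⟩ : L) ∈ (P : Subgroup L) ⊔ Z' := by rw [hsup]; exact Subgroup.mem_top _
  rw [Subgroup.mem_sup_of_normal_right] at h1
  obtain ⟨u, hu, z, hz, h2⟩ := h1
  have h3 : l = (u : G) * z := congrArg Subtype.val h2.symm
  rw [h3]
  exact Subgroup.mul_mem _ (Subgroup.mem_sup_left ⟨u, hu, rfl⟩) (Subgroup.mem_sup_right hz)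

section

variable {G : Type u} [Group G] [Fintype G] {N : Subgroup G} [hN : N.Normal] [Fintype N] {p : ℕ} {M : Ideal AlgInt}

/-- central characters over an invariant character of a normal `p'`-subgroup vanish at `p`-regular
elements acting non-trivially on a normal `p`-section -/
theorem fong_vanish (hM : IsPModular p M) (hNp : ¬ p ∣ Nat.card N) {θ : N → ℂ} (hθ : IsIrrCharacter N θ)
    (hinv : ∀ g : G, conjFn g θ = θ) (L : Subgroup G) [hL : L.Normal] (hNL : N ≤ L) (hLp : ∀ l ∈ L, ∃ k : ℕ, l ^ p ^ k ∈ N)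
    {x : G} (hx : ¬ p ∣ orderOf x) (hact : ∃ l ∈ L, x * l * x⁻¹ * l⁻¹ ∉ N) {χ : IrrCharacter G}
    (hχ : classInner (fun n : N => (χ : G → ℂ) n) θ ≠ 0) : MemLocalIdeal M (centralChar (χ : G → ℂ) x) := by
  classical
  have hp : p.Prime := hM.1
  haveI : Fact p.Prime := ⟨hp⟩
  obtain ⟨Γ, _, _, ⟨D⟩⟩ := exists_cdata hθ hinv
  haveI := D.nrm
  haveI : Fintype Γ := Fintype.ofFinite _
  haveI : Fintype (Γ ⧸ D.ι.range) := Fintype.ofFinite _
  obtain ⟨β, hβ, hβχ⟩ := cdata_factor hθ D χ.2 hχ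
  obtain ⟨y, rfl, hy⟩ := exists_reg_lift D.surj hp hx
  let q : Γ →* Γ ⧸ D.ι.range := QuotientGroup.mk' D.ι.range
  have hq : Function.Surjective q := QuotientGroup.mk'_surjective _
  -- the normal `p`-subgroup
  let L' : Subgroup (Γ ⧸ D.ι.range) := (L.comap D.π).map q
  let Z' : Subgroup (Γ ⧸ D.ι.range) := (D.π.ker).map q
  haveI : L'.Normal := Subgroup.Normal.map (hL.comap D.π) q hq
  obtain ⟨P, hPn, hPp, hLP⟩ := exists_normal_p (p := p) L' Z' (by
      rintro _ ⟨z, hz, rfl⟩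
      rw [Subgroup.mem_center_iff]
      intro g
      obtain ⟨g, rfl⟩ := hq g
      rw [← map_mul, ← map_mul, (Subgroup.mem_center_iff.mp (D.cen hz)) g])
    (by
      apply Subgroup.map_mono
      intro z hz
      rw [Subgroup.mem_comap, (MonoidHom.mem_ker).mp hz]
      exact L.one_mem)
    (by
      rintro _ ⟨l, hl, rfl⟩
      obtain ⟨k, hk⟩ := hLp _ hl
      refine ⟨k, ?_⟩
      have h1 : D.ι ⟨_, hk⟩ * (D.ι ⟨_, hk⟩)⁻¹ * l ^ p ^ k = l ^ p ^ k := by group
      rw [← map_pow, ← h1, mul_assoc, map_mul]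
      have h2 : q (D.ι ⟨_, hk⟩) = 1 := (QuotientGroup.eq_one_iff _).mpr ⟨_, rfl⟩
      rw [h2, one_mul]
      refine ⟨_, ?_, rfl⟩
      show D.π ((D.ι ⟨_, hk⟩)⁻¹ * l ^ p ^ k) = 1
      rw [map_mul, map_inv, D.πι, map_pow, inv_mul_cancel])
  have hyP : q y ∉ Subgroup.centralizer (P : Set (Γ ⧸ D.ι.range)) := by
    intro hyc
    obtain ⟨l, hl, hln⟩ := hact
    apply hln
    obtain ⟨l', hl'⟩ := D.surj l
    have h1 : q l' ∈ P ⊔ Z' := hLP ⟨l', by rw [SetLike.mem_coe, Subgroup.mem_comap, hl']; exact hl, rfl⟩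
    rw [Subgroup.mem_sup_of_normal_left] at h1
    obtain ⟨u, hu, _, ⟨z, hz, rfl⟩, huz⟩ := h1
    have h2 : q y * u = u * q y := ((Subgroup.mem_centralizer_iff.mp hyc) u hu).symm
    have h3 : q y * q z = q z * q y := by
      rw [← map_mul, ← map_mul, (Subgroup.mem_center_iff.mp (D.cen hz)) y]
    have h4 : q y * q l' = q l' * q y := by
      rw [← huz, ← mul_assoc, h2, mul_assoc, h3, mul_assoc]
    have h5 : q (y * l' * y⁻¹ * l'⁻¹) = 1 := by
      rw [map_mul, map_mul, map_mul, map_inv, map_inv, h4]; group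
    obtain ⟨n, hn⟩ := (QuotientGroup.eq_one_iff _).mp h5
    have h6 : D.π (y * l' * y⁻¹ * l'⁻¹) = n := by rw [← hn, D.πι]
    rw [map_mul, map_mul, map_mul, map_inv, map_inv, hl'] at h6
    rw [h6]; exact n.2
  have hvan := centralChar_mem_locIdeal_of_notMem hM P hPp hyP ⟨β, hβ⟩
  obtain ⟨z, hz, hzi⟩ := index_lift D.surj D.cen hp hy
  obtain ⟨w, hw⟩ := index_quot hq y
  have hχ1 : (χ : G → ℂ) 1 = β 1 * D.χ 1 := by
    have := hβχ 1
    rw [map_one, map_one] at this
    exact this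
  have hD1 : D.χ 1 = θ 1 := by
    have := D.res 1
    rwa [map_one] at this
  have hβ1 : β 1 ≠ 0 := IsIrrCharacter.one_ne_zero hβ
  have hD0 : D.χ 1 ≠ 0 := IsIrrCharacter.one_ne_zero D.irr
  have hDy : D.χ y ∈ locRing hM := by
    exact char_mem_locRing hM (IsIrrCharacter.isCharacter D.irr) y
  have hkey : ((z * charDegree θ : ℕ) : ℂ) * centralChar (χ : G → ℂ) (D.π y) = ((w : ℂ) * D.χ y) * centralChar β (q y) := by
    have h1 : ((z : ℂ) * (Subgroup.centralizer ({D.π y} : Set G)).index) = (Subgroup.centralizer ({q y} : Set (Γ ⧸ D.ι.range))).index * w := by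
      have : z * (Subgroup.centralizer ({D.π y} : Set G)).index = (Subgroup.centralizer ({q y} : Set (Γ ⧸ D.ι.range))).index * w := by
        rw [← hzi, hw]
      exact_mod_cast this
    unfold centralChar
    rw [hχ1, hβχ y]
    push_cast
    rw [← one_eq_charDegree (IsIrrCharacter.isCharacter hθ), ← hD1]
    have h2 : (z : ℂ) * D.χ 1 * ((Subgroup.centralizer ({D.π y} : Set G)).index * (β (q y) * D.χ y) / (β 1 * D.χ 1)) =
        ((z : ℂ) * (Subgroup.centralizer ({D.π y} : Set G)).index) * (β (q y) * D.χ y) / β 1 := by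
      field_simp
    rw [h2, h1]
    ring
  have h1 : MemLocalIdeal M (((z * charDegree θ : ℕ) : ℂ) * centralChar (χ : G → ℂ) (D.π y)) := by
    rw [hkey]
    exact locIdeal_mul_left hM ((locRing hM).mul_mem (natCast_mem_locRing hM _) hDy) hvan
  rcases locIdeal_or_of_mul hM (natCast_mem_locRing hM _) h1 with h2 | h2
  · exfalso
    rw [locIdeal_nat_iff hM] at h2
    rcases (Nat.Prime.dvd_mul hp).mp h2 with h3 | h3
    · exact hz h3
    · exact hNp (h3.trans (charDegree_dvd hθ))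
  · exact h2

theorem fong_block (hM : IsPModular p M) (hNp : ¬ p ∣ Nat.card N) (θ : IrrCharacter N)
    (hinv : ∀ g : G, conjFn g (θ : N → ℂ) = θ) (L : Subgroup G) [hL : L.Normal] (hNL : N ≤ L)
    (hLp : ∀ l ∈ L, ∃ k : ℕ, l ^ p ^ k ∈ N)
    (hreg : ∀ x : G, ¬ p ∣ orderOf x → x ∉ N → ∃ l ∈ L, x * l * x⁻¹ * l⁻¹ ∉ N) :
    IsPBlock M {χ : IrrCharacter G | classInner (fun n : N => (χ : G → ℂ) n) (θ : N → ℂ) ≠ 0} := by
  classical
  obtain ⟨χ₀, hχ₀⟩ := exists_over (N := N) (G := G) θ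
  refine ⟨χ₀, ?_⟩
  have hb : blockOf M (θ : N → ℂ) = {θ} := blockOf_eq_singleton_of_coprime hM hNp θ
  ext χ
  rw [Set.mem_ofPred_eq, mem_blockOf]
  constructor
  · intro hχ
    apply sameBlock_of_regular hM
    intro g hg
    by_cases hgN : g ∈ N
    · have key : ∀ ψ : IrrCharacter G, classInner (fun n : N => (ψ : G → ℂ) n) (θ : N → ℂ) ≠ 0 →
          centralChar (ψ : G → ℂ) g = ((Subgroup.centralizer ({g} : Set G)).index : ℂ) * (θ : N → ℂ) ⟨g, hgN⟩ / (θ : N → ℂ) 1 := by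
        intro ψ hψ
        have h1 := CfsgLib.Gallagher2.res_of_inv θ.2 hinv ψ.2 hψ
        have h2 := congrFun h1 ⟨g, hgN⟩
        have h3 := congrFun h1 1
        simp only [Pi.smul_apply, smul_eq_mul, Subgroup.coe_one] at h2 h3
        unfold centralChar
        rw [h2, h3]
        have h4 := IsIrrCharacter.one_ne_zero θ.2
        field_simp
      rw [key χ₀ hχ₀, key χ hχ, sub_self]
      exact locIdeal_zero hM
    · exact locIdeal_sub hM (fong_vanish hM hNp θ.2 hinv L hNL hLp hg (hreg g hg hgN) hχ₀)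
        (fong_vanish hM hNp θ.2 hinv L hNL hLp hg (hreg g hg hgN) hχ)
  · intro hχ
    have hcov : Covers (blockOf M (χ₀ : G → ℂ)) (blockOf M (θ : N → ℂ)) :=
      ⟨χ₀, mem_blockOf_self hM χ₀, θ, mem_blockOf_self hM θ, hχ₀⟩
    obtain ⟨θ', hθ', h⟩ := Covers.exists_constituent hM (isPBlock_blockOf χ₀) (isPBlock_blockOf θ) hcov hχ
    rw [hb, Set.mem_singleton_iff] at hθ'
    rw [hθ'] at h
    exact h

theorem exists_pprime_over (hp : p.Prime) (hNp : ¬ p ∣ Nat.card N) (θ : IrrCharacter N)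
    (hinv : ∀ g : G, conjFn g (θ : N → ℂ) = θ) :
    ∃ χ : IrrCharacter G, classInner (fun n : N => (χ : G → ℂ) n) (θ : N → ℂ) ≠ 0 ∧ ¬ p ∣ charDegree (χ : G → ℂ) := by
  classical
  haveI : Fact p.Prime := ⟨hp⟩
  obtain ⟨P, -⟩ : ∃ P : Sylow p G, True := ⟨default, trivial⟩
  obtain ⟨H, hH⟩ : ∃ H : Subgroup G, H = N ⊔ (P : Subgroup G) := ⟨_, rfl⟩
  have hNH : N ≤ H := by rw [hH]; exact le_sup_left
  have hPH : (P : Subgroup G) ≤ H := by rw [hH]; exact le_sup_right
  haveI : Fintype H := Fintype.ofFinite _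
  let N' : Subgroup H := N.subgroupOf H
  haveI : N'.Normal := inferInstanceAs (N.subgroupOf H).Normal
  haveI : Fintype N' := Fintype.ofFinite _
  let e : N' ≃* N := Subgroup.subgroupOfEquivOfLe hNH
  let θ' : IrrCharacter N' := irrCongr e θ
  have hθ' : ∀ n : N', (θ' : N' → ℂ) n = (θ : N → ℂ) (e n) := fun n => rfl
  have hinv' : ∀ g : H, conjFn g (θ' : N' → ℂ) = θ' := by
    intro g
    funext n
    have h1 := congrFun (hinv (g : G)) (e n)
    rw [conjFn_apply] at h1
    rw [conjFn_apply, hθ', hθ', ← h1]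
    rfl
  have hidx : ∃ k, N'.index = p ^ k := by
    have h1 : N'.index ∣ Nat.card P := by
      have h2 : N'.index = N.relIndex (N ⊔ (P : Subgroup G)) := by rw [← hH]; rfl
      rw [h2, sup_comm, Subgroup.relIndex_sup_right]
      exact Subgroup.relIndex_dvd_card _ _
    obtain ⟨k, hk⟩ := IsPGroup.iff_card.mp P.2
    have h3 : N'.index ∣ p ^ k := hk ▸ h1
    obtain ⟨j, -, hj⟩ := (Nat.dvd_prime_pow hp).mp h3
    exact ⟨j, hj⟩
  obtain ⟨k, hk⟩ := hidx
  have hN'p : ¬ p ∣ Nat.card N' := by rw [Nat.card_congr e.toEquiv]; exact hNp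
  have hcop : N'.index.Coprime (Nat.card N') := by
    rw [hk]; exact Nat.Coprime.pow_left k ((Nat.Prime.coprime_iff_not_dvd hp).mpr hN'p)
  obtain ⟨ψ, ⟨hψ, hψext, -⟩, -⟩ := CfsgLib.DetExt5.canonical_ext θ'.2 hinv' (one_eq_charDegree (irr_isCharacter θ')) (by
    apply Nat.Coprime.mul_right
    · exact Nat.Coprime.coprime_dvd_right (detOrder_dvd_card (irr_isCharacter θ')) hcop
    · exact Nat.Coprime.coprime_dvd_right (charDegree_dvd θ'.2) hcop)
  have hψc := IsIrrCharacter.isCharacter hψ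
  have hind := isCharacter_indFun H hψc
  have hψ1 : ψ 1 = charDegree (θ' : N' → ℂ) := by
    have := hψext 1
    rw [Subgroup.coe_one] at this
    rw [this, one_eq_charDegree (irr_isCharacter θ')]
  -- some constituent has `p'`-degree
  have hnat : ∀ χ : IrrCharacter G, ∃ a : ℕ, classInner (indFun H ψ) (χ : G → ℂ) = a := fun χ => IsCharacter.inner_nat hind (irr_isCharacter χ)
  choose a ha using hnat
  have hsum : ∑ χ : IrrCharacter G, a χ * charDegree (χ : G → ℂ) = H.index * charDegree (θ' : N' → ℂ) := by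
    have h1 := congrFun (eq_sum_inner (IsCharacter.isClassFunction hind)) 1
    rw [Finset.sum_apply, indFun_one, hψ1] at h1
    have h2 : ∀ χ : IrrCharacter G, (classInner (indFun H ψ) (χ : G → ℂ) • (χ : G → ℂ)) 1 = ((a χ * charDegree (χ : G → ℂ) : ℕ) : ℂ) := by
      intro χ
      rw [Pi.smul_apply, smul_eq_mul, ha, one_eq_charDegree (irr_isCharacter χ)]
      push_cast; ring
    rw [Finset.sum_congr rfl (fun χ _ => h2 χ)] at h1
    exact_mod_cast h1.symm
  obtain ⟨χ, hχ1, hχ2⟩ : ∃ χ : IrrCharacter G, a χ ≠ 0 ∧ ¬ p ∣ charDegree (χ : G → ℂ) := by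
    by_contra hcon
    push Not at hcon
    have h1 : p ∣ H.index * charDegree (θ' : N' → ℂ) := by
      rw [← hsum]
      apply Finset.dvd_sum
      intro χ _
      by_cases h : a χ = 0
      · rw [h, zero_mul]; exact dvd_zero _
      · exact dvd_mul_of_dvd_right (hcon χ h) _
    rcases (Nat.Prime.dvd_mul hp).mp h1 with h2 | h2
    · exact P.not_dvd_index (h2.trans (Subgroup.index_dvd_of_le hPH))
    · exact hN'p (h2.trans (charDegree_dvd θ'.2))
  refine ⟨χ, ?_, hχ2⟩
  have h1 : classInner (fun h : H => (χ : G → ℂ) h) ψ ≠ 0 := by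
    intro h0
    apply hχ1
    have h2 := CfsgLib.CharInd.frobenius H ψ (IsCharacter.isClassFunction (irr_isCharacter χ))
    rw [ha, ← classInner_conj_symm, h0, map_zero] at h2
    exact_mod_cast h2
  have h2 := inner_trans N'.subtype (IsCharacter.comp (irr_isCharacter χ) H.subtype) hψ θ'.2 h1 (by
    have : ψ ∘ N'.subtype = (θ' : N' → ℂ) := funext hψext
    rw [this, IsIrrCharacter.inner_self θ'.2]
    exact one_ne_zero)
  intro h0
  apply h2
  refine Eq.trans ?_ h0
  unfold classInner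
  congr 1
  · rw [Nat.card_congr e.toEquiv]
  · rw [← Equiv.sum_comp e.toEquiv]
    apply Finset.sum_congr rfl
    intro n _
    rw [hθ']
    rfl

end

end CfsgLib.Block
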