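import Cfsg.Prelude.Def_Local
import Cfsg.Agent.Lib.PL3

set_option autoImplicit false
set_option linter.style.haveILetI false
set_option linter.unusedVariables false

namespace CfsgLib.PSolv

universe u v
variable {G : Type u} [Group G]

open CfsgLib CfsgLib.Coprime CfsgLib.PL1 CfsgLib.PL2 CfsgLib.PL3
open Cfsg (IsPSolvable pCore pPrimeCore pPrimePCore IsPConstrained)

theorem relIndex_map_dvd {G' : Type v} [Group G'] (f : G →* G') (K L : Subgroup G) (hKL : K ≤ L) :
    (K.map f).relIndex (L.map f) ∣ K.relIndex L := by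
  have h1 : (K.map f).subgroupOf (L.map f) = (K.subgroupOf L).map (f.subgroupMap L) := by
    ext ⟨y, hy⟩
    rw [Subgroup.mem_subgroupOf]
    constructor
    · rintro ⟨x, hx, hxy⟩
      exact ⟨⟨x, hKL hx⟩, hx, Subtype.ext hxy⟩
    · rintro ⟨⟨x, hxL⟩, hx, hxy⟩
      exact ⟨x, hx, congrArg Subtype.val hxy⟩
  rw [Subgroup.relIndex, h1]
  exact Subgroup.index_map_dvd _ (f.subgroupMap_surjective L)

theorem isPSolvable_map {G' : Type v} [Group G'] {p : ℕ} [hp : Fact p.Prime] (f : G →* G') (hf : Function.Surjective f) (h : IsPSolvable p G) :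
    IsPSolvable p G' := by
  obtain ⟨n, H, h0, h1, h2, h3, h4⟩ := h
  refine ⟨n, fun i => (H i).map f, ?_, ?_, ?_, ?_, ?_⟩
  · simp only [h0, Subgroup.map_bot]
  · simp only [h1]; exact Subgroup.map_top_of_surjective f hf
  · exact fun i j hij => Subgroup.map_mono (h2 hij)
  · exact fun i => (h3 i).map f hf
  · intro i
    have h5 := relIndex_map_dvd f (H i.castSucc) (H i.succ) (h2 (Fin.castSucc_lt_succ).le)
    rcases h4 i with ⟨m, hm⟩ | hc
    · left
      rw [hm] at h5
      obtain ⟨k, -, hk⟩ := (Nat.dvd_prime_pow hp.out).mp h5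
      exact ⟨k, hk⟩
    · right
      exact Nat.Coprime.coprime_dvd_left h5 hc

theorem isPSolvable_of_injective {G' : Type v} [Group G'] {p : ℕ} [hp : Fact p.Prime] (f : G' →* G) (hf : Function.Injective f) (h : IsPSolvable p G) :
    IsPSolvable p G' := by
  obtain ⟨n, H, h0, h1, h2, h3, h4⟩ := h
  refine ⟨n, fun i => (H i).comap f, ?_, ?_, ?_, ?_, ?_⟩
  · simp only [h0]; exact (MonoidHom.comap_bot f).trans ((MonoidHom.ker_eq_bot_iff f).mpr hf)
  · simp only [h1]; exact Subgroup.comap_top f
  · exact fun i j hij => Subgroup.comap_mono (h2 hij)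
  · exact fun i => (h3 i).comap f
  · intro i
    have h5 : ((H i.castSucc).comap f).relIndex ((H i.succ).comap f) ∣ (H i.castSucc).relIndex (H i.succ) := by
      rw [Subgroup.relIndex_comap]
      have h6 : ((H i.succ).comap f).map f ≤ H i.succ := Subgroup.map_comap_le _ _
      have h7 := Subgroup.relIndex_subgroupOf (H := H i.castSucc) h6
      rw [← h7]
      haveI := h3 i.castSucc
      exact Subgroup.relIndex_dvd_index_of_normal _ _
    rcases h4 i with ⟨m, hm⟩ | hc
    · left
      rw [hm] at h5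
      obtain ⟨k, -, hk⟩ := (Nat.dvd_prime_pow hp.out).mp h5
      exact ⟨k, hk⟩
    · right
      exact Nat.Coprime.coprime_dvd_left h5 hc

theorem isPSolvable_quotient {p : ℕ} [hp : Fact p.Prime] (N : Subgroup G) [N.Normal] (h : IsPSolvable p G) : IsPSolvable p (G ⧸ N) :=
  isPSolvable_map (QuotientGroup.mk' N) (QuotientGroup.mk'_surjective N) h

theorem isPSolvable_subgroup {p : ℕ} [hp : Fact p.Prime] (H : Subgroup G) (h : IsPSolvable p G) : IsPSolvable p H :=
  isPSolvable_of_injective H.subtype H.subtype_injective h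

theorem isPSolvable_of_le {p : ℕ} [hp : Fact p.Prime] {H K : Subgroup G} (hHK : H ≤ K) (h : IsPSolvable p K) : IsPSolvable p H :=
  isPSolvable_of_injective (Subgroup.inclusion hHK) (Subgroup.inclusion_injective hHK) h

theorem isPSolvable_congr {G' : Type v} [Group G'] {p : ℕ} [hp : Fact p.Prime] (e : G ≃* G') (h : IsPSolvable p G) : IsPSolvable p G' :=
  isPSolvable_map e.toMonoidHom e.surjective h

/-- a nontrivial `p`-solvable group has a nontrivial core -/
theorem exists_core_ne_bot [Finite G] {p : ℕ} [hp : Fact p.Prime] (h : IsPSolvable p G) (hG : Nontrivial G) :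
    pCore p G ≠ ⊥ ∨ pPrimeCore p G ≠ ⊥ := by
  classical
  obtain ⟨n, H, h0, h1, h2, h3, h4⟩ := h
  have hex : ∃ k : ℕ, ∃ hk : k < n + 1, H ⟨k, hk⟩ ≠ ⊥ := by
    refine ⟨n, Nat.lt_succ_self n, ?_⟩
    have h5 : H ⟨n, Nat.lt_succ_self n⟩ = ⊤ := h1
    rw [h5]
    exact top_ne_bot
  obtain ⟨hk, hne⟩ := Nat.find_spec hex
  set k := Nat.find hex with hkdef
  have hk0 : k ≠ 0 := by
    intro h5
    apply hne
    have : (⟨k, hk⟩ : Fin (n + 1)) = 0 := Fin.ext h5
    rw [this, h0]
  obtain ⟨j, hj⟩ : ∃ j, k = j + 1 := Nat.exists_eq_succ_of_ne_zero hk0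
  have hjn : j < n := by omega
  have hbot : H ⟨j, by omega⟩ = ⊥ := by
    by_contra h5
    exact Nat.find_min hex (m := j) (by omega) ⟨by omega, h5⟩
  have h5 := h4 ⟨j, hjn⟩
  have e1 : H (Fin.castSucc ⟨j, hjn⟩) = ⊥ := hbot
  have e2 : (Fin.succ ⟨j, hjn⟩ : Fin (n + 1)) = ⟨k, hk⟩ := Fin.ext hj.symm
  rw [e1, e2, Subgroup.relIndex_bot_left] at h5
  rcases h5 with ⟨m, hm⟩ | hc
  · left
    intro h6
    have h7 := CfsgLib.Core.le_pCore (h3 _) (IsPGroup.of_card hm)
    exact hne (le_bot_iff.mp (h7.trans h6.le))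
  · right
    intro h6
    have h7 := CfsgLib.Core.le_pPrimeCore (h3 _) hc
    exact hne (le_bot_iff.mp (h7.trans h6.le))

theorem pCore_map_le {p : ℕ} [hp : Fact p.Prime] [Finite G] (N : Subgroup G) [hN : N.Normal] : (pCore p N).map N.subtype ≤ pCore p G := by
  haveI := CfsgLib.Core.pCore_characteristic p N
  exact CfsgLib.Core.le_pCore inferInstance ((CfsgLib.Core.pCore_isPGroup p N).map _)

theorem pPrimeCore_map_le {p : ℕ} [hp : Fact p.Prime] [Finite G] (N : Subgroup G) [hN : N.Normal] : (pPrimeCore p N).map N.subtype ≤ pPrimeCore p G := by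
  haveI := CfsgLib.Core.pPrimeCore_characteristic p N
  refine CfsgLib.Core.le_pPrimeCore inferInstance ?_
  rw [Subgroup.card_map_of_injective N.subtype_injective]
  exact CfsgLib.Core.card_pPrimeCore_coprime p N

theorem pPrimeCore_subgroup_eq_bot {p : ℕ} [hp : Fact p.Prime] [Finite G] (h : pPrimeCore p G = ⊥) (N : Subgroup G) [hN : N.Normal] :
    pPrimeCore p N = ⊥ := by
  have h1 := pPrimeCore_map_le (p := p) N
  rw [h, le_bot_iff] at h1
  exact (Subgroup.map_eq_bot_iff_of_injective _ N.subtype_injective).mp h1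

/-- a group with a central normal Sylow `p`-subgroup and trivial `O_{p'}` is a `p`-group -/
theorem isPGroup_of_central [Finite G] {p : ℕ} [hp : Fact p.Prime] {Z : Subgroup G} (hZ : Z ≤ Subgroup.center G) (hZp : IsPGroup p Z)
    (hidx : Z.index.Coprime p) (h : pPrimeCore p G = ⊥) : IsPGroup p G := by
  haveI : Z.Normal := ⟨fun n hn g => by rw [(Subgroup.mem_center_iff.mp (hZ hn) g), mul_inv_cancel_right]; exact hn⟩
  have h1 : ¬ p ∣ Z.index := (Nat.Prime.coprime_iff_not_dvd hp.out).mp hidx.symm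
  let P : Sylow p G := hZp.toSylow h1
  have hP : (P : Subgroup G) = Z := rfl
  obtain ⟨N, hN, hNc, k, hk⟩ := CfsgLib.Transfer.npc_of_normalizer_le P (by
    have : Subgroup.centralizer (P : Set G) = ⊤ := by
      rw [Subgroup.centralizer_eq_top_iff_subset]; exact hZ
    rw [this]; exact le_top)
  have h2 : N = ⊥ := by rw [eq_bot_iff, ← h]; exact CfsgLib.Core.le_pPrimeCore hN hNc
  rw [h2, Subgroup.index_bot] at hk
  exact IsPGroup.of_card hk

/-- general form of Lemma 1.2.3 of Hall and Higman -/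
theorem centralizer_le_of_psolvable [Finite G] {p : ℕ} [hp : Fact p.Prime] (h : pPrimeCore p G = ⊥)
    (hs : IsPSolvable p (Subgroup.centralizer (pCore p G : Set G))) : Subgroup.centralizer (pCore p G : Set G) ≤ pCore p G := by
  haveI hPn := CfsgLib.Core.pCore_normal p G
  set P := pCore p G with hP
  set C := Subgroup.centralizer (P : Set G) with hC
  haveI hCn : C.Normal := CfsgLib.Solv.normal_centralizer_of_normal hPn
  by_contra hcon
  -- Z as a subgroup of C
  let Z : Subgroup C := P.subgroupOf C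
  have hZc : Z ≤ Subgroup.center C := by
    intro z hz
    rw [Subgroup.mem_center_iff]
    intro c
    ext
    exact (Subgroup.mem_centralizer_iff.mp c.2 z hz).symm
  haveI hZn : Z.Normal := inferInstance
  have hQ : Nontrivial (C ⧸ Z) := by
    rw [QuotientGroup.nontrivial_iff]
    intro h1
    apply hcon
    intro c hc
    have : (⟨c, hc⟩ : C) ∈ Z := by rw [h1]; exact Subgroup.mem_top _
    exact this
  have hZp : IsPGroup p Z := (CfsgLib.Core.pCore_isPGroup p G).comap_of_injective C.subtype C.subtype_injective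
  have hcoreC : pPrimeCore p C = ⊥ := pPrimeCore_subgroup_eq_bot h C
  rcases exists_core_ne_bot (isPSolvable_quotient Z hs) hQ with h1 | h1
  · -- a normal p-subgroup
    haveI h2 := CfsgLib.Core.pCore_normal p (C ⧸ Z)
    set D := (pCore p (C ⧸ Z)).comap (QuotientGroup.mk' Z) with hD
    haveI hDn : D.Normal := h2.comap _
    have hDp : IsPGroup p D := by
      rw [IsPGroup.iff_card]
      obtain ⟨a, ha⟩ := IsPGroup.iff_card.mp (CfsgLib.Core.pCore_isPGroup p (C ⧸ Z))
      obtain ⟨b, hb⟩ := IsPGroup.iff_card.mp hZp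
      exact ⟨a + b, by rw [hD, CfsgLib.Hall.card_comap_mk, ha, hb, pow_add]⟩
    have h3 : D ≤ pCore p C := CfsgLib.Core.le_pCore hDn hDp
    have h4 : D.map C.subtype ≤ P := (Subgroup.map_mono h3).trans (pCore_map_le C)
    have h5 : D ≤ Z := fun x hx => h4 (Subgroup.mem_map_of_mem _ hx)
    apply h1
    rw [eq_bot_iff]
    intro y hy
    obtain ⟨x, rfl⟩ := QuotientGroup.mk'_surjective Z y
    exact (QuotientGroup.eq_one_iff x).mpr (h5 hy)
  · haveI h2 := CfsgLib.Core.pPrimeCore_normal p (C ⧸ Z)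
    set D := (pPrimeCore p (C ⧸ Z)).comap (QuotientGroup.mk' Z) with hD
    haveI hDn : D.Normal := h2.comap _
    have hZD : Z ≤ D := CfsgLib.Core2.le_comap_mk Z _
    have hDcore : pPrimeCore p D = ⊥ := pPrimeCore_subgroup_eq_bot hcoreC D
    have hidx : (Z.subgroupOf D).index.Coprime p := by
      have h3 := relIndex_mul_card hZD
      have h4 := CfsgLib.Hall.card_comap_mk Z (pPrimeCore p (C ⧸ Z))
      rw [← hD, ← h3] at h4
      have h5 : Z.relIndex D = Nat.card (pPrimeCore p (C ⧸ Z)) := Nat.eq_of_mul_eq_mul_right Nat.card_pos h4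
      show (Z.relIndex D).Coprime p
      rw [h5]
      exact CfsgLib.Core.card_pPrimeCore_coprime p _
    have hDp : IsPGroup p D := by
      apply isPGroup_of_central (Z := Z.subgroupOf D) _ _ hidx hDcore
      · intro z hz
        rw [Subgroup.mem_center_iff]
        intro c
        ext
        have := Subgroup.mem_center_iff.mp (hZc hz) c
        exact congrArg Subtype.val this
      · exact hZp.comap_of_injective D.subtype D.subtype_injective
    have h3 : D ≤ pCore p C := CfsgLib.Core.le_pCore hDn hDp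
    have h4 : D.map C.subtype ≤ P := (Subgroup.map_mono h3).trans (pCore_map_le C)
    have h5 : D ≤ Z := fun x hx => h4 (Subgroup.mem_map_of_mem _ hx)
    apply h1
    rw [eq_bot_iff]
    intro y hy
    obtain ⟨x, rfl⟩ := QuotientGroup.mk'_surjective Z y
    exact (QuotientGroup.eq_one_iff x).mpr (h5 hy)

/-- Lemma 1.2.3 of Hall and Higman -/
theorem hall_higman [Finite G] {p : ℕ} [hp : Fact p.Prime] (h : pPrimeCore p G = ⊥) (hs : IsPSolvable p G) :
    Subgroup.centralizer (pCore p G : Set G) ≤ pCore p G :=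
  centralizer_le_of_psolvable h (isPSolvable_subgroup _ hs)

/-! ### `p`-constraint -/

theorem isSyl_map_of_sylow {p : ℕ} [hp : Fact p.Prime] [Finite G] {M : Subgroup G} (P : Sylow p M) :
    IsSyl p ((P : Subgroup M).map M.subtype) M := isSyl_of_sylow P

theorem pPrimePCore_map (p : ℕ) (G : Type u) [Group G] :
    (pPrimePCore p G).map (QuotientGroup.mk' (pPrimeCore p G)) = pCore p (G ⧸ pPrimeCore p G) :=
  Subgroup.map_comap_eq_self_of_surjective (QuotientGroup.mk'_surjective _) _

theorem pPrimeCore_le_pPrimePCore (p : ℕ) (G : Type u) [Group G] : pPrimeCore p G ≤ pPrimePCore p G :=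
  CfsgLib.Core2.le_comap_mk _ _

theorem pPrimePCore_normal (p : ℕ) (G : Type u) [Group G] : (pPrimePCore p G).Normal :=
  (CfsgLib.Core.pCore_normal p _).comap _

theorem relIndex_pPrimePCore [Finite G] (p : ℕ) [hp : Fact p.Prime] : ∃ k : ℕ, (pPrimeCore p G).relIndex (pPrimePCore p G) = p ^ k := by
  obtain ⟨k, hk⟩ := IsPGroup.iff_card.mp (CfsgLib.Core.pCore_isPGroup p (G ⧸ pPrimeCore p G))
  refine ⟨k, ?_⟩
  have h3 := relIndex_mul_card (pPrimeCore_le_pPrimePCore p G)
  have h4 := CfsgLib.Hall.card_comap_mk (pPrimeCore p G) (pCore p (G ⧸ pPrimeCore p G))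
  have h5 : (pPrimePCore p G) = (pCore p (G ⧸ pPrimeCore p G)).comap (QuotientGroup.mk' (pPrimeCore p G)) := rfl
  rw [← h5, ← h3, hk] at h4
  exact Nat.eq_of_mul_eq_mul_right Nat.card_pos h4

theorem isSyl_sup_eq [Finite G] {p : ℕ} [hp : Fact p.Prime] {P N M : Subgroup G} (hP : IsSyl p P M) (hNM : N ≤ M)
    (hn : M ≤ Subgroup.normalizer (N : Set G)) {k : ℕ} (hk : N.relIndex M = p ^ k) : P ⊔ N = M := by
  refine le_antisymm (sup_le hP.1 hNM) fun g hg => ?_
  obtain ⟨c, hc, x, hx, rfl⟩ := CfsgLib.NPC.exists_mul_of_index hP.1 hNM hn hP.not_dvd_relIndex hk hg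
  exact mul_mem (Subgroup.mem_sup_right hc) (Subgroup.mem_sup_left hx)

theorem isSyl_map_pPrimePCore [Finite G] {p : ℕ} [hp : Fact p.Prime] {P : Subgroup G} (hP : IsSyl p P (pPrimePCore p G)) :
    P.map (QuotientGroup.mk' (pPrimeCore p G)) = pCore p (G ⧸ pPrimeCore p G) := by
  obtain ⟨k, hk⟩ := relIndex_pPrimePCore (G := G) p
  have h1 := isSyl_sup_eq hP (pPrimeCore_le_pPrimePCore p G) (by rw [Subgroup.normalizer_eq_top]; exact le_top) hk
  have h2 : (pPrimeCore p G).map (QuotientGroup.mk' (pPrimeCore p G)) = ⊥ :=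
    (Subgroup.map_eq_bot_iff _).mpr (by rw [QuotientGroup.ker_mk'])
  rw [← pPrimePCore_map, ← h1, Subgroup.map_sup, h2, sup_bot_eq]

theorem isPConstrained_iff [Finite G] {p : ℕ} [hp : Fact p.Prime] : IsPConstrained p G ↔
    Subgroup.centralizer (pCore p (G ⧸ pPrimeCore p G) : Set (G ⧸ pPrimeCore p G)) ≤ pCore p (G ⧸ pPrimeCore p G) := by
  have key : ∀ P : Subgroup G, IsSyl p P (pPrimePCore p G) →
      (Subgroup.centralizer (pCore p (G ⧸ pPrimeCore p G) : Set (G ⧸ pPrimeCore p G)) =
        (Subgroup.centralizer (P : Set G)).map (QuotientGroup.mk' (pPrimeCore p G))) := by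
    intro P hP
    rw [← isSyl_map_pPrimePCore hP, centralizer_map_mk hP.isPGroup (CfsgLib.Core.card_pPrimeCore_coprime p G)]
  constructor
  · intro h
    obtain ⟨P⟩ : Nonempty (Sylow p (pPrimePCore p G)) := inferInstance
    rw [key _ (isSyl_map_of_sylow P), ← pPrimePCore_map]
    exact Subgroup.map_mono (h P)
  · intro h P
    have h1 := h
    rw [key _ (isSyl_map_of_sylow P)] at h1
    intro x hx
    exact h1 (Subgroup.mem_map_of_mem _ hx)

/-- isomorphic transport of the core condition -/
theorem core_condition_congr {G' : Type v} [Group G'] [Finite G] [Finite G'] {p : ℕ} [hp : Fact p.Prime] (e : G ≃* G')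
    (h : Subgroup.centralizer (pCore p G : Set G) ≤ pCore p G) : Subgroup.centralizer (pCore p G' : Set G') ≤ pCore p G' := by
  have h1 : (pCore p G).map e.toMonoidHom ≤ pCore p G' := CfsgLib.Core.le_pCore
    ((CfsgLib.Core.pCore_normal p G).map _ e.surjective) ((CfsgLib.Core.pCore_isPGroup p G).map _)
  intro y hy
  obtain ⟨x, rfl⟩ := e.surjective y
  apply h1
  apply Subgroup.mem_map_of_mem
  apply h
  rw [Subgroup.mem_centralizer_iff] at hy ⊢
  intro z hz
  apply e.injective
  rw [map_mul, map_mul]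
  exact hy _ (h1 (Subgroup.mem_map_of_mem _ hz))

theorem core_condition_quotient_iff [Finite G] {p : ℕ} [hp : Fact p.Prime] {N : Subgroup G} [N.Normal] (hN : N = ⊥) :
    (Subgroup.centralizer (pCore p (G ⧸ N) : Set (G ⧸ N)) ≤ pCore p (G ⧸ N)) ↔ (Subgroup.centralizer (pCore p G : Set G) ≤ pCore p G) := by
  have e : (G ⧸ N) ≃* G := (QuotientGroup.quotientMulEquivOfEq hN).trans QuotientGroup.quotientBot
  exact ⟨core_condition_congr e, core_condition_congr e.symm⟩

theorem isPConstrained_iff_of_eq_bot [Finite G] {p : ℕ} [hp : Fact p.Prime] (h : pPrimeCore p G = ⊥) :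
    IsPConstrained p G ↔ Subgroup.centralizer (pCore p G : Set G) ≤ pCore p G := by
  rw [isPConstrained_iff, core_condition_quotient_iff h]

/-- S0630 -/
theorem isPConstrained_quotient_iff [Finite G] {p : ℕ} [hp : Fact p.Prime] [(pPrimeCore p G).Normal] :
    IsPConstrained p G ↔ IsPConstrained p (G ⧸ pPrimeCore p G) := by
  rw [isPConstrained_iff_of_eq_bot (CfsgLib.Solv.pPrimeCore_quotient p G), isPConstrained_iff]

/-- S0629 -/
theorem isPConstrained_of_psolvable [Finite G] {p : ℕ} [hp : Fact p.Prime] (P : Sylow p ↥(pPrimePCore p G))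
    (hsol : IsPSolvable p ↥(Subgroup.centralizer (((P : Subgroup ↥(pPrimePCore p G)).map (pPrimePCore p G).subtype : Subgroup G) : Set G))) :
    IsPConstrained p G := by
  rw [isPConstrained_iff]
  have hP := isSyl_map_of_sylow P
  have key : Subgroup.centralizer (pCore p (G ⧸ pPrimeCore p G) : Set (G ⧸ pPrimeCore p G)) =
        (Subgroup.centralizer (((P : Subgroup ↥(pPrimePCore p G)).map (pPrimePCore p G).subtype : Subgroup G) : Set G)).map
          (QuotientGroup.mk' (pPrimeCore p G)) := by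
    rw [← isSyl_map_pPrimePCore hP, centralizer_map_mk hP.isPGroup (CfsgLib.Core.card_pPrimeCore_coprime p G)]
  apply centralizer_le_of_psolvable (CfsgLib.Solv.pPrimeCore_quotient p G)
  rw [key]
  exact isPSolvable_map ((QuotientGroup.mk' (pPrimeCore p G)).subgroupMap _) (MonoidHom.subgroupMap_surjective _ _) hsol

theorem isPConstrained_of_isPSolvable [Finite G] {p : ℕ} [hp : Fact p.Prime] (h : IsPSolvable p G) : IsPConstrained p G := by
  obtain ⟨P⟩ : Nonempty (Sylow p (pPrimePCore p G)) := inferInstance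
  exact isPConstrained_of_psolvable P (isPSolvable_subgroup _ h)

/-! ### local subgroups -/

theorem le_centralizer_of_normalize {A B : Subgroup G} (hA : A ≤ Subgroup.normalizer (B : Set G)) (hB : B ≤ Subgroup.normalizer (A : Set G))
    (h : A ⊓ B = ⊥) : A ≤ Subgroup.centralizer (B : Set G) := by
  intro a ha
  rw [mem_centralizer_iff']
  intro b hb
  have h1 : a * b * a⁻¹ * b⁻¹ ∈ A ⊓ B := by
    refine Subgroup.mem_inf.mpr ⟨?_, comm_mem (hA ha) hb⟩
    have h2 := conj_mem (hB hb) (inv_mem ha)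
    have h3 : a * b * a⁻¹ * b⁻¹ = a * (b * a⁻¹ * b⁻¹) := by group
    rw [h3]; exact mul_mem ha h2
  rw [h, Subgroup.mem_bot, mul_inv_eq_one] at h1
  exact h1

theorem eq_bot_of_PxQ [Finite G] {p : ℕ} [hp : Fact p.Prime] (hc : Subgroup.centralizer (pCore p G : Set G) ≤ pCore p G) {P D : Subgroup G}
    (hP : IsPGroup p P) (hD : (Nat.card D).Coprime p) (hPD : P ≤ Subgroup.centralizer (D : Set G))
    (h : pCore p G ⊓ Subgroup.centralizer (P : Set G) ≤ Subgroup.centralizer (D : Set G)) : D = ⊥ := by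
  haveI := CfsgLib.Core.pCore_normal p G
  have hn : ∀ X : Subgroup G, X ≤ Subgroup.normalizer (pCore p G : Set G) := fun X => by
    rw [Subgroup.normalizer_eq_top (pCore p G)]; exact le_top
  have h1 := thompson_PxQ _ P D (pCore p G) le_rfl hP hD (CfsgLib.Core.pCore_isPGroup p G) hPD (hn _) (hn _) h
  have h2 : IsPGroup p D := (CfsgLib.Core.pCore_isPGroup p G).to_le (h1.trans hc)
  obtain ⟨k, hk⟩ := IsPGroup.iff_card.mp h2
  rw [← Subgroup.card_eq_one]
  rw [hk] at hD ⊢
  rcases Nat.eq_zero_or_pos k with h0 | h0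
  · rw [h0, pow_zero]
  · exfalso
    rw [Nat.coprime_pow_left_iff h0, Nat.coprime_self] at hD
    exact hp.out.one_lt.ne' hD

theorem isPGroup_of_forall_coprime [Finite G] {p : ℕ} [hp : Fact p.Prime] (h : ∀ x : G, (orderOf x).Coprime p → x = 1) : IsPGroup p G := by
  obtain ⟨k, hk⟩ := CfsgLib.NPC.exists_index_eq_pow (C := (⊥ : Subgroup G)) (p := p) (fun g hg => by rw [Subgroup.mem_bot]; exact h g hg)
  rw [Subgroup.index_bot] at hk
  exact IsPGroup.of_card hk

theorem inf_normalized {Q X H : Subgroup G} [hQ : Q.Normal] (hH : H ≤ Subgroup.normalizer (X : Set G)) :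
    H ≤ Subgroup.normalizer ((Q ⊓ Subgroup.centralizer (X : Set G) : Subgroup G) : Set G) := by
  have hcj : ∀ g ∈ H, ∀ y ∈ (Q ⊓ Subgroup.centralizer (X : Set G) : Subgroup G), g * y * g⁻¹ ∈ (Q ⊓ Subgroup.centralizer (X : Set G) : Subgroup G) :=
    fun g hg y hy => Subgroup.mem_inf.mpr ⟨hQ.conj_mem y hy.1 g, conj_mem_centralizer (hH hg) hy.2⟩
  intro g hg
  rw [Subgroup.mem_normalizer_iff]
  intro y
  refine ⟨hcj g hg y, fun h => ?_⟩
  have h1 := hcj g⁻¹ (inv_mem hg) _ h
  have h2 : g⁻¹ * (g * y * g⁻¹) * g⁻¹⁻¹ = y := by group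
  rwa [h2] at h1

theorem le_normalizer_map_char {H : Subgroup G} {K : Subgroup H} [hK : K.Normal] : H ≤ Subgroup.normalizer ((K.map H.subtype : Subgroup G) : Set G) := by
  have hcj : ∀ g ∈ H, ∀ y ∈ K.map H.subtype, g * y * g⁻¹ ∈ K.map H.subtype := by
    rintro g hg _ ⟨y, hy, rfl⟩
    exact ⟨_, hK.conj_mem y hy ⟨g, hg⟩, rfl⟩
  intro g hg
  rw [Subgroup.mem_normalizer_iff]
  intro y
  refine ⟨hcj g hg y, fun h => ?_⟩
  have h1 := hcj g⁻¹ (inv_mem hg) _ h
  have h2 : g⁻¹ * (g * y * g⁻¹) * g⁻¹⁻¹ = y := by group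
  rwa [h2] at h1

theorem le_map_pCore {p : ℕ} {H X : Subgroup G} (hXH : X ≤ H) (hX : IsPGroup p X) (hn : H ≤ Subgroup.normalizer (X : Set G)) :
    X ≤ (pCore p H).map H.subtype := by
  haveI : (X.subgroupOf H).Normal := Subgroup.normal_subgroupOf_of_le_normalizer hn
  have h1 : X.subgroupOf H ≤ pCore p H := CfsgLib.Core.le_pCore inferInstance (hX.comap_of_injective H.subtype H.subtype_injective)
  intro x hx
  exact ⟨⟨x, hXH hx⟩, h1 hx, rfl⟩

/-- the local subgroups between `C_G(P)` and `N_G(P)` -/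
theorem local_core [Finite G] {p : ℕ} [hp : Fact p.Prime] (hc : Subgroup.centralizer (pCore p G : Set G) ≤ pCore p G) {P H : Subgroup G}
    (hP : IsPGroup p P) (hCH : Subgroup.centralizer (P : Set G) ≤ H) (hHN : H ≤ Subgroup.normalizer (P : Set G))
    (h1 : (pPrimeCore p H).map H.subtype ≤ Subgroup.centralizer (P : Set G))
    (h2 : (Subgroup.centralizer (pCore p H : Set H)).map H.subtype ≤ Subgroup.centralizer (P : Set G)) :
    pPrimeCore p H = ⊥ ∧ Subgroup.centralizer (pCore p H : Set H) ≤ pCore p H := by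
  haveI := CfsgLib.Core.pCore_normal p G
  have hQH : pCore p G ⊓ Subgroup.centralizer (P : Set G) ≤ H := inf_le_right.trans hCH
  have hQn : H ≤ Subgroup.normalizer ((pCore p G ⊓ Subgroup.centralizer (P : Set G) : Subgroup G) : Set G) := inf_normalized hHN
  have hQp : IsPGroup p (pCore p G ⊓ Subgroup.centralizer (P : Set G) : Subgroup G) := (CfsgLib.Core.pCore_isPGroup p G).to_le inf_le_left
  constructor
  · haveI := CfsgLib.Core.pPrimeCore_normal p H
    have hDc : (Nat.card ((pPrimeCore p H).map H.subtype)).Coprime p := by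
      rw [Subgroup.card_map_of_injective H.subtype_injective]
      exact CfsgLib.Core.card_pPrimeCore_coprime p H
    have h3 : (pPrimeCore p H).map H.subtype = ⊥ := by
      apply eq_bot_of_PxQ hc hP hDc (Subgroup.le_centralizer_iff.mp h1)
      apply le_centralizer_of_normalize (hQH.trans le_normalizer_map_char) ((Subgroup.map_subtype_le _).trans hQn)
      exact inf_eq_bot_of_coprime (card_coprime_of_isPGroup hQp hDc)
    exact (Subgroup.map_eq_bot_iff_of_injective _ H.subtype_injective).mp h3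
  · apply CfsgLib.Core.le_pCore
    · haveI := CfsgLib.Core.pCore_normal p H
      exact CfsgLib.Solv.normal_centralizer_of_normal inferInstance
    · apply isPGroup_of_forall_coprime
      rintro ⟨⟨x, hxH⟩, hx⟩ hord
      have hord' : (orderOf x).Coprime p := by
        rw [← Subgroup.orderOf_mk x hxH, ← Subgroup.orderOf_mk _ hx]; exact hord
      have h3 : Subgroup.zpowers x = ⊥ := by
        apply eq_bot_of_PxQ hc hP (by rwa [Nat.card_zpowers])
        · rw [Subgroup.le_centralizer_iff, Subgroup.zpowers_le]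
          exact h2 ⟨_, hx, rfl⟩
        · rw [Subgroup.le_centralizer_iff, Subgroup.zpowers_le, Subgroup.mem_centralizer_iff]
          intro y hy
          obtain ⟨z, hz, rfl⟩ := le_map_pCore hQH hQp hQn hy
          exact congrArg Subtype.val ((Subgroup.mem_centralizer_iff.mp hx) z hz)
      rw [Subgroup.zpowers_eq_bot] at h3
      ext; exact h3

theorem local_core_normalizer [Finite G] {p : ℕ} [hp : Fact p.Prime] (hc : Subgroup.centralizer (pCore p G : Set G) ≤ pCore p G) {P : Subgroup G}
    (hP : IsPGroup p P) : pPrimeCore p (Subgroup.normalizer (P : Set G)) = ⊥ ∧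
      Subgroup.centralizer (pCore p (Subgroup.normalizer (P : Set G)) : Set (Subgroup.normalizer (P : Set G))) ≤ pCore p (Subgroup.normalizer (P : Set G)) := by
  haveI := CfsgLib.Core.pPrimeCore_normal p (Subgroup.normalizer (P : Set G))
  apply local_core hc hP (centralizer_le_normalizer' P) le_rfl
  · rw [Subgroup.le_centralizer_iff]
    apply le_centralizer_of_normalize (Subgroup.le_normalizer.trans le_normalizer_map_char) (Subgroup.map_subtype_le _)
    apply inf_eq_bot_of_coprime
    apply card_coprime_of_isPGroup hP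
    rw [Subgroup.card_map_of_injective (Subgroup.normalizer (P : Set G)).subtype_injective]
    exact CfsgLib.Core.card_pPrimeCore_coprime p _
  · rintro _ ⟨x, hx, rfl⟩
    rw [Subgroup.mem_centralizer_iff]
    intro y hy
    obtain ⟨z, hz, rfl⟩ := le_map_pCore Subgroup.le_normalizer hP le_rfl hy
    exact congrArg Subtype.val ((Subgroup.mem_centralizer_iff.mp hx) z hz)

theorem local_core_centralizer [Finite G] {p : ℕ} [hp : Fact p.Prime] (hc : Subgroup.centralizer (pCore p G : Set G) ≤ pCore p G) {P : Subgroup G}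
    (hP : IsPGroup p P) : pPrimeCore p (Subgroup.centralizer (P : Set G)) = ⊥ ∧
      Subgroup.centralizer (pCore p (Subgroup.centralizer (P : Set G)) : Set (Subgroup.centralizer (P : Set G))) ≤ pCore p (Subgroup.centralizer (P : Set G)) :=
  local_core hc hP le_rfl (centralizer_le_normalizer' P) (Subgroup.map_subtype_le _) (Subgroup.map_subtype_le _)

theorem card_comap_of_surjective [Finite G] {K : Type v} [Group K] (f : G →* K) (hf : Function.Surjective f) (L : Subgroup K) :
    Nat.card (L.comap f) = Nat.card f.ker * Nat.card L := by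
  haveI : Finite K := Finite.of_surjective f hf
  have h1 := (L.comap f).card_mul_index
  have h2 := L.card_mul_index
  have h3 := f.ker.card_mul_index
  rw [Subgroup.index_comap_of_surjective _ hf] at h1
  rw [Subgroup.index_ker, MonoidHom.range_eq_top.mpr hf, Subgroup.card_top] at h3
  have hpos : 0 < L.index := Nat.pos_of_ne_zero Subgroup.index_ne_zero_of_finite
  apply Nat.eq_of_mul_eq_mul_right hpos
  rw [h1, mul_assoc, h2, h3]

theorem pPrimeCore_eq_comap [Finite G] {p : ℕ} [hp : Fact p.Prime] {K : Type v} [Group K] (f : G →* K) (hf : Function.Surjective f)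
    (hk : (Nat.card f.ker).Coprime p) : pPrimeCore p G = (pPrimeCore p K).comap f := by
  haveI : Finite K := Finite.of_surjective f hf
  apply le_antisymm
  · rw [← Subgroup.map_le_iff_le_comap]
    apply CfsgLib.Core.le_pPrimeCore ((CfsgLib.Core.pPrimeCore_normal p G).map f hf)
    exact Nat.Coprime.coprime_dvd_left (Subgroup.card_map_dvd _ f) (CfsgLib.Core.card_pPrimeCore_coprime p G)
  · apply CfsgLib.Core.le_pPrimeCore ((CfsgLib.Core.pPrimeCore_normal p K).comap f)
    rw [card_comap_of_surjective f hf]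
    exact Nat.Coprime.mul_left hk (CfsgLib.Core.card_pPrimeCore_coprime p K)

/-- the quotient by `O_{p'}` only depends on the image modulo a `p'`-kernel -/
noncomputable def quotEquiv [Finite G] {p : ℕ} [hp : Fact p.Prime] {K : Type v} [Group K] (f : G →* K) (hf : Function.Surjective f)
    (hk : (Nat.card f.ker).Coprime p) : (G ⧸ pPrimeCore p G) ≃* (K ⧸ pPrimeCore p K) :=
  (QuotientGroup.quotientMulEquivOfEq (by
    rw [pPrimeCore_eq_comap f hf hk, ← MonoidHom.comap_ker, QuotientGroup.ker_mk'])).trans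
    (QuotientGroup.quotientKerEquivOfSurjective ((QuotientGroup.mk' (pPrimeCore p K)).comp f)
      ((QuotientGroup.mk'_surjective _).comp hf))

theorem isPConstrained_of_surjective [Finite G] {p : ℕ} [hp : Fact p.Prime] {K : Type v} [Group K] (f : G →* K) (hf : Function.Surjective f)
    (hk : (Nat.card f.ker).Coprime p) : IsPConstrained p G ↔ IsPConstrained p K := by
  haveI : Finite K := Finite.of_surjective f hf
  rw [isPConstrained_iff, isPConstrained_iff]
  exact ⟨core_condition_congr (quotEquiv f hf hk), core_condition_congr (quotEquiv f hf hk).symm⟩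

theorem map_mk_pgroup [Finite G] {p : ℕ} [hp : Fact p.Prime] {P : Subgroup G} (hP : IsPGroup p P) (N : Subgroup G) [N.Normal] :
    IsPGroup p (P.map (QuotientGroup.mk' N)) := hP.map _

/-- comparison of a local subgroup with its image modulo `O_{p'}(G)` -/
theorem local_quotient [Finite G] {p : ℕ} [hp : Fact p.Prime] {H : Subgroup G} {H' : Subgroup (G ⧸ pPrimeCore p G)}
    (hH : H.map (QuotientGroup.mk' (pPrimeCore p G)) = H') (h1 : pPrimeCore p H' = ⊥) :
    (pPrimeCore p H).map H.subtype = pPrimeCore p G ⊓ H ∧ (IsPConstrained p H ↔ IsPConstrained p H') := by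
  subst hH
  let f := (QuotientGroup.mk' (pPrimeCore p G)).subgroupMap H
  have hf : Function.Surjective f := MonoidHom.subgroupMap_surjective _ _
  have hker : f.ker = (pPrimeCore p G).subgroupOf H := by
    ext ⟨x, hx⟩
    rw [MonoidHom.mem_ker, Subgroup.mem_subgroupOf, ← QuotientGroup.eq_one_iff]
    exact ⟨fun h => congrArg Subtype.val h, fun h => Subtype.ext h⟩
  have hk : (Nat.card f.ker).Coprime p := by
    rw [hker]
    have h2 : Nat.card ((pPrimeCore p G).subgroupOf H) ∣ Nat.card (pPrimeCore p G) := by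
      rw [← Subgroup.card_map_of_injective H.subtype_injective, Subgroup.subgroupOf_map_subtype]
      exact Subgroup.card_dvd_of_le inf_le_left
    exact Nat.Coprime.coprime_dvd_left h2 (CfsgLib.Core.card_pPrimeCore_coprime p G)
  refine ⟨?_, isPConstrained_of_surjective f hf hk⟩
  rw [pPrimeCore_eq_comap f hf hk, h1, MonoidHom.comap_bot, hker, Subgroup.subgroupOf_map_subtype]

/-- S0661 -/
theorem pPrimeCore_normalizer [Finite G] {p : ℕ} [hp : Fact p.Prime]
    (hc : Subgroup.centralizer (pCore p (G ⧸ pPrimeCore p G) : Set (G ⧸ pPrimeCore p G)) ≤ pCore p (G ⧸ pPrimeCore p G)) {P : Subgroup G}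
    (hP : IsPGroup p P) : (pPrimeCore p (Subgroup.normalizer (P : Set G))).map (Subgroup.normalizer (P : Set G)).subtype =
      pPrimeCore p G ⊓ Subgroup.normalizer (P : Set G) := by
  have h1 := normalizer_map_mk hP (CfsgLib.Core.card_pPrimeCore_coprime p G)
  have h2 := local_core_normalizer hc (hP.map (QuotientGroup.mk' (pPrimeCore p G)))
  exact (local_quotient h1.symm h2.1).1

/-- S0631 -/
theorem isPConstrained_local [Finite G] {p : ℕ} [hp : Fact p.Prime] (hG : IsPConstrained p G) {P : Subgroup G} (hP : IsPGroup p P) :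
    IsPConstrained p (Subgroup.normalizer (P : Set G)) ∧ IsPConstrained p (Subgroup.centralizer (P : Set G)) := by
  rw [isPConstrained_iff] at hG
  constructor
  · have h1 := normalizer_map_mk hP (CfsgLib.Core.card_pPrimeCore_coprime p G)
    have h2 := local_core_normalizer hG (hP.map (QuotientGroup.mk' (pPrimeCore p G)))
    rw [(local_quotient h1.symm h2.1).2, isPConstrained_iff_of_eq_bot h2.1]
    exact h2.2
  · have h1 := centralizer_map_mk hP (CfsgLib.Core.card_pPrimeCore_coprime p G)
    have h2 := local_core_centralizer hG (hP.map (QuotientGroup.mk' (pPrimeCore p G)))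
    rw [(local_quotient h1.symm h2.1).2, isPConstrained_iff_of_eq_bot h2.1]
    exact h2.2

end CfsgLib.PSolv
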