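import Cfsg.Agent.Lib.BFong1
import Cfsg.Agent.Lib.BlockMain
import Cfsg.Agent.Lib.PSolv
import Cfsg.Agent.Lib.PChain

/-!
# Blocks of `p`-constrained groups above an invariant character
-/

set_option autoImplicit false
set_option linter.style.haveILetI false
set_option linter.unusedSectionVars false
set_option linter.unusedVariables false

open scoped ComplexConjugate

namespace CfsgLib.Block

open Cfsg CfsgLib.CharBasic CfsgLib.CharInd CfsgLib.CharClifford

universe u v w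

section

variable {G : Type u} [Group G] [Fintype G] {p : ℕ} {M : Ideal AlgInt}

theorem sylow_defect (hM : IsPModular p M) [Fact p.Prime] {B : Set (IrrCharacter G)} (hB : IsPBlock M B) {χ : IrrCharacter G}
    (hχ : χ ∈ B) (hχp : ¬ p ∣ charDegree (χ : G → ℂ)) :
    (∀ P : Sylow p G, IsDefectGroup p M B (P : Subgroup G)) ∧
      ∀ D : Subgroup G, IsDefectGroup p M B D → ∃ P : Sylow p G, D = (P : Subgroup G) := by
  have h2 : ∀ D : Subgroup G, IsDefectGroup p M B D → ∃ P : Sylow p G, D = (P : Subgroup G) := by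
    intro D hD
    have h1 := IsDefectGroup.le_degree hM hD hχ
    rw [Nat.factorization_eq_zero_of_not_dvd hχp, zero_add] at h1
    obtain ⟨P, hP⟩ := (IsDefectGroup.isPGroup hM hD).exists_le_sylow
    refine ⟨P, ?_⟩
    apply Subgroup.eq_of_le_of_card_ge hP
    obtain ⟨k, hk⟩ := IsPGroup.iff_card.mp (IsDefectGroup.isPGroup hM hD)
    rw [hk, Nat.factorization_pow, Finsupp.smul_apply, Nat.Prime.factorization_self Fact.out, smul_eq_mul, mul_one] at h1
    rw [P.card_eq_multiplicity, hk]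
    exact Nat.pow_le_pow_right (Nat.Prime.pos Fact.out) h1
  refine ⟨?_, h2⟩
  intro P
  obtain ⟨D, hD⟩ := exists_defectGroup hM hB
  obtain ⟨P', rfl⟩ := h2 D hD
  obtain ⟨g, hg⟩ := MulAction.exists_smul_eq G P' P
  have h3 := IsDefectGroup.conj hM hD g
  have h4 : (P' : Subgroup G).map (MulAut.conj g).toMonoidHom = (P : Subgroup G) := by
    rw [← hg]; rfl
  rwa [h4] at h3

theorem reg_of_constrained [Fact p.Prime]
    (hc : Subgroup.centralizer (pCore p (G ⧸ pPrimeCore p G) : Set (G ⧸ pPrimeCore p G)) ≤ pCore p (G ⧸ pPrimeCore p G))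
    {x : G} (hx : ¬ p ∣ orderOf x) (hxN : x ∉ pPrimeCore p G) :
    ∃ l ∈ pPrimePCore p G, x * l * x⁻¹ * l⁻¹ ∉ pPrimeCore p G := by
  by_contra hcon
  push Not at hcon
  haveI := Core.pPrimeCore_normal p G
  have h1 : QuotientGroup.mk' (pPrimeCore p G) x ∈ Subgroup.centralizer (pCore p (G ⧸ pPrimeCore p G) : Set (G ⧸ pPrimeCore p G)) := by
    rw [Subgroup.mem_centralizer_iff]
    intro y hy
    rw [SetLike.mem_coe, ← PSolv.pPrimePCore_map] at hy
    obtain ⟨l, hl, rfl⟩ := hy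
    have h2 := hcon l hl
    have h3 : QuotientGroup.mk' (pPrimeCore p G) (x * l * x⁻¹ * l⁻¹) = 1 := (QuotientGroup.eq_one_iff _).mpr h2
    rw [map_mul, map_mul, map_mul, map_inv, map_inv, mul_inv_eq_one, mul_inv_eq_iff_eq_mul] at h3
    exact h3.symm
  have h2 := hc h1
  obtain ⟨k, hk⟩ := Core.pCore_isPGroup p (G ⧸ pPrimeCore p G) ⟨_, h2⟩
  have h3 : QuotientGroup.mk' (pPrimeCore p G) x ^ p ^ k = 1 := congrArg Subtype.val hk
  have h4 : orderOf (QuotientGroup.mk' (pPrimeCore p G) x) ∣ p ^ k := orderOf_dvd_of_pow_eq_one h3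
  have h5 : orderOf (QuotientGroup.mk' (pPrimeCore p G) x) ∣ orderOf x := orderOf_map_dvd _ x
  have h6 : (p ^ k).Coprime (orderOf x) := Nat.Coprime.pow_left k ((Nat.Prime.coprime_iff_not_dvd Fact.out).mpr hx)
  have h7 := Nat.eq_one_of_dvd_coprimes h6 h4 h5
  rw [orderOf_eq_one_iff] at h7
  exact hxN ((QuotientGroup.eq_one_iff _).mp h7)

theorem pPrimePCore_pow [Fact p.Prime] {l : G} (hl : l ∈ pPrimePCore p G) : ∃ k : ℕ, l ^ p ^ k ∈ pPrimeCore p G := by
  haveI := Core.pPrimeCore_normal p G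
  have h1 : QuotientGroup.mk' (pPrimeCore p G) l ∈ pCore p (G ⧸ pPrimeCore p G) := hl
  obtain ⟨k, hk⟩ := Core.pCore_isPGroup p (G ⧸ pPrimeCore p G) ⟨_, h1⟩
  refine ⟨k, ?_⟩
  have h3 : QuotientGroup.mk' (pPrimeCore p G) l ^ p ^ k = 1 := congrArg Subtype.val hk
  rw [← map_pow] at h3
  exact (QuotientGroup.eq_one_iff _).mp h3

end

end CfsgLib.Block
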