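import Cfsg.Agent.Lib.BO3
import Cfsg.Agent.Lib.KInfStab

/-! Pairs of offenders generate `SL(2,p)`. -/
set_option autoImplicit false
set_option linter.style.haveILetI false
set_option linter.unusedVariables false

namespace CfsgLib.BO

universe u

open CfsgLib CfsgLib.JSub CfsgLib.Coprime CfsgLib.PL2 CfsgLib.PL3 CfsgLib.Dick CfsgLib.ThmA Subgroup
open scoped commutatorElement

variable {G : Type u} [Group G] [Finite G] {p : ℕ} [hp : Fact p.Prime]

/-- a `p`-element normalising a group of order `p` centralises it. -/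
theorem cent_of_card {U P : Subgroup G} (hU : Nat.card U = p) (hP : IsPGroup p P) (hPU : P ≤ Subgroup.normalizer (U : Set G)) :
    ∀ x ∈ P, ∀ u ∈ U, x * u * x⁻¹ = u := by
  have hUp : IsPGroup p U := IsPGroup.of_card (n := 1) (by rw [hU, pow_one])
  have hne : U ≠ ⊥ := by
    intro h
    rw [h, Subgroup.card_bot] at hU
    exact hp.out.one_lt.ne hU
  have h1 := commutator_lt_of_isPGroup hUp hP hPU hne
  have h2 : ⁅U, P⁆ = ⊥ := by
    by_contra hcon
    have h3 : Nat.card (⁅U, P⁆ : Subgroup G) ∣ p := by rw [← hU]; exact Subgroup.card_dvd_of_le h1.le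
    rcases (Nat.dvd_prime hp.out).mp h3 with h4 | h4
    · exact hcon (Subgroup.card_eq_one.mp h4)
    · exact h1.ne (Subgroup.eq_of_le_of_card_ge h1.le (by rw [h4, hU]))
  intro x hx u hu
  have h3 : ⁅u, x⁆ ∈ ⁅U, P⁆ := Subgroup.commutator_mem_commutator hu hx
  rw [h2, Subgroup.mem_bot, commutatorElement_eq_one_iff_mul_comm] at h3
  rw [← h3]; group

theorem pair {V : Subgroup G} {a b : G} (haN : a ∈ Subgroup.normalizer (V : Set G)) (hbN : b ∈ Subgroup.normalizer (V : Set G))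
    (hVc : ∀ x ∈ V, ∀ y ∈ V, x * y = y * x)
    (hap : a ^ p = 1) (hbp : b ^ p = 1) (ha1 : a ≠ 1) (hb1 : b ≠ 1)
    (hUa : Nat.card (⁅V, Subgroup.zpowers a⁆ : Subgroup G) = p) (hUb : Nat.card (⁅V, Subgroup.zpowers b⁆ : Subgroup G) = p)
    (hL : (Subgroup.zpowers a ⊔ Subgroup.zpowers b) ⊓
      Subgroup.centralizer ((⁅V, Subgroup.zpowers a ⊔ Subgroup.zpowers b⁆ : Subgroup G) : Set G) = ⊥) :
    Nat.card (⁅V, Subgroup.zpowers a ⊔ Subgroup.zpowers b⁆ : Subgroup G) = p ^ 2 ∧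
      Nonempty ((Subgroup.zpowers a ⊔ Subgroup.zpowers b : Subgroup G) ≃* Matrix.SpecialLinearGroup (Fin 2) (ZMod p)) := by
  classical
  have hpp := hp.out
  set Ua : Subgroup G := ⁅V, Subgroup.zpowers a⁆ with hUa'
  set Ub : Subgroup G := ⁅V, Subgroup.zpowers b⁆ with hUb'
  set L : Subgroup G := Subgroup.zpowers a ⊔ Subgroup.zpowers b with hL'
  have hoa : orderOf a = p := orderOf_eq_prime hap ha1
  have hob : orderOf b = p := orderOf_eq_prime hbp hb1
  have hpa : IsPGroup p (Subgroup.zpowers a) := IsPGroup.of_card (n := 1) (by rw [Nat.card_zpowers, hoa, pow_one])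
  have hpb : IsPGroup p (Subgroup.zpowers b) := IsPGroup.of_card (n := 1) (by rw [Nat.card_zpowers, hob, pow_one])
  have hzaN : Subgroup.zpowers a ≤ Subgroup.normalizer (V : Set G) := Subgroup.zpowers_le.mpr haN
  have hzbN : Subgroup.zpowers b ≤ Subgroup.normalizer (V : Set G) := Subgroup.zpowers_le.mpr hbN
  have hLN : L ≤ Subgroup.normalizer (V : Set G) := sup_le hzaN hzbN
  have hUaV : Ua ≤ V := CfsgLib.PL1.commutator_le_left hzaN
  have hUbV : Ub ≤ V := CfsgLib.PL1.commutator_le_left hzbN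
  have hcab : ∀ u ∈ Ua, ∀ z ∈ Ub, u * z = z * u := fun u hu z hz => hVc u (hUaV hu) z (hUbV hz)
  -- `[V,L]`
  have hW : (⁅V, L⁆ : Subgroup G) = Ua ⊔ Ub := by
    apply le_antisymm
    · rw [CfsgLib.PL1.commutator_le_iff hLN]
      apply sup_le
      · rw [← CfsgLib.PL1.commutator_le_iff hzaN]; exact le_sup_left
      · rw [← CfsgLib.PL1.commutator_le_iff hzbN]; exact le_sup_right
    · exact sup_le (Subgroup.commutator_mono le_rfl le_sup_left) (Subgroup.commutator_mono le_rfl le_sup_right)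
  have hzaUa : Subgroup.zpowers a ≤ Subgroup.normalizer (Ua : Set G) := by
    rw [hUa', Subgroup.commutator_comm]; exact CfsgLib.PStabN.le_normalizer_commutator
  have hzbUb : Subgroup.zpowers b ≤ Subgroup.normalizer (Ub : Set G) := by
    rw [hUb', Subgroup.commutator_comm]; exact CfsgLib.PStabN.le_normalizer_commutator
  have hca := cent_of_card hUa hpa hzaUa a (Subgroup.mem_zpowers a)
  have hcb := cent_of_card hUb hpb hzbUb b (Subgroup.mem_zpowers b)
  have haL : a ∈ L := (le_sup_left : Subgroup.zpowers a ≤ L) (Subgroup.mem_zpowers a)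
  have hbL : b ∈ L := (le_sup_right : Subgroup.zpowers b ≤ L) (Subgroup.mem_zpowers b)
  have hfaith : ∀ x ∈ L, (∀ u ∈ Ua, x * u * x⁻¹ = u) → (∀ u ∈ Ub, x * u * x⁻¹ = u) → x = 1 := by
    intro x hx h1 h2
    have h3 : x ∈ L ⊓ Subgroup.centralizer ((⁅V, L⁆ : Subgroup G) : Set G) := by
      refine Subgroup.mem_inf.mpr ⟨hx, ?_⟩
      rw [hW, Subgroup.sup_eq_closure, Subgroup.centralizer_closure, Subgroup.mem_centralizer_iff]
      rintro u (hu | hu)
      · have := h1 u hu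
        calc u * x = (x * u * x⁻¹) * x := by rw [this]
          _ = x * u := by group
      · have := h2 u hu
        calc u * x = (x * u * x⁻¹) * x := by rw [this]
          _ = x * u := by group
    rw [hL, Subgroup.mem_bot] at h3
    exact h3
  have hgen : ∀ {U : Subgroup G}, Nat.card U = p → ∀ w ∈ U, w ≠ 1 → ∀ u ∈ U, ∃ k : ℕ, u = w ^ k := by
    intro U hU w hw hw1 u hu
    have h1 : orderOf w = p := by
      have h2 : orderOf w ∣ p := by rw [← hU]; exact Subgroup.orderOf_dvd_natCard U hw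
      rcases (Nat.dvd_prime hpp).mp h2 with h3 | h3
      · exact absurd (orderOf_eq_one_iff.mp h3) hw1
      · exact h3
    have h2 : Subgroup.zpowers w = U := by
      apply Subgroup.eq_of_le_of_card_ge (Subgroup.zpowers_le.mpr hw)
      rw [Nat.card_zpowers, h1, hU]
    rw [← h2] at hu
    obtain ⟨k, hk⟩ := mem_powers_iff_mem_zpowers.mpr hu
    exact ⟨k, hk.symm⟩
  have hexp : ∀ {U : Subgroup G}, Nat.card U = p → ∀ u ∈ U, u ^ p = 1 := by
    intro U hU u hu
    have h1 : orderOf u ∣ p := by rw [← hU]; exact Subgroup.orderOf_dvd_natCard U hu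
    exact orderOf_dvd_iff_pow_eq_one.mp h1
  have hnontriv : ∀ {U : Subgroup G}, Nat.card U = p → ∃ w ∈ U, w ≠ 1 := by
    intro U hU
    by_contra hcon
    push Not at hcon
    have h1 : U = ⊥ := (Subgroup.eq_bot_iff_forall U).mpr hcon
    rw [h1, Subgroup.card_bot] at hU
    exact hpp.one_lt.ne hU
  obtain ⟨w2, hw2, hw21⟩ := hnontriv hUb
  -- `w1 = [a, w2]`
  have haV : a * w2 * a⁻¹ * w2⁻¹ ∈ Ua := by
    have h1 : ⁅w2, a⁆ ∈ Ua := Subgroup.commutator_mem_commutator (hUbV hw2) (Subgroup.mem_zpowers a)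
    have h2 : a * w2 * a⁻¹ * w2⁻¹ = (⁅w2, a⁆)⁻¹ := by rw [commutatorElement_def]; group
    rw [h2]; exact Ua.inv_mem h1
  set w1 := a * w2 * a⁻¹ * w2⁻¹ with hw1
  have hw1U : w1 ∈ Ua := haV
  have hw11 : w1 ≠ 1 := by
    intro h
    apply ha1
    apply hfaith a haL hca
    intro u hu
    obtain ⟨k, rfl⟩ := hgen hUb w2 hw2 hw21 u hu
    rw [← conj_pow]
    have h1 : a * w2 * a⁻¹ = w2 := by
      have : a * w2 * a⁻¹ = w1 * w2 := by rw [hw1]; group
      rw [this, h, one_mul]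
    rw [h1]
  have ha2 : a * w2 * a⁻¹ = w1 * w2 := by rw [hw1]; group
  have hbV : b * w1 * b⁻¹ * w1⁻¹ ∈ Ub := by
    have h1 : ⁅w1, b⁆ ∈ Ub := Subgroup.commutator_mem_commutator (hUaV hw1U) (Subgroup.mem_zpowers b)
    have h2 : b * w1 * b⁻¹ * w1⁻¹ = (⁅w1, b⁆)⁻¹ := by rw [commutatorElement_def]; group
    rw [h2]; exact Ub.inv_mem h1
  obtain ⟨k, hk⟩ := hgen hUb w2 hw2 hw21 _ hbV
  have hbw : b * w1 * b⁻¹ = w1 * w2 ^ k := by
    have h1 : b * w1 * b⁻¹ = w2 ^ k * w1 := by rw [← hk]; group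
    rw [h1, hcab w1 hw1U _ (Ub.pow_mem hw2 k)]
  have hkp : k.Coprime p := by
    rw [Nat.coprime_comm, Nat.Prime.coprime_iff_not_dvd hpp]
    rintro ⟨m, hm⟩
    have h2 : w2 ^ k = 1 := by rw [hm, pow_mul, hexp hUb w2 hw2, one_pow]
    rw [h2, mul_one] at hbw
    apply hb1
    apply hfaith b hbL _ hcb
    intro u hu
    obtain ⟨j, rfl⟩ := hgen hUa w1 hw1U hw11 u hu
    rw [← conj_pow, hbw]
  have hbpow : ∀ n : ℕ, b ^ n * w1 * (b ^ n)⁻¹ = w1 * w2 ^ (k * n) := by
    intro n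
    induction n with
    | zero => simp
    | succ n ih =>
      have h1 : b ^ (n + 1) * w1 * (b ^ (n + 1))⁻¹ = b * (b ^ n * w1 * (b ^ n)⁻¹) * b⁻¹ := by rw [pow_succ']; group
      rw [h1, ih]
      calc b * (w1 * w2 ^ (k * n)) * b⁻¹ = (b * w1 * b⁻¹) * (b * w2 ^ (k * n) * b⁻¹) := by group
        _ = w1 * w2 ^ k * (w2 ^ (k * n)) := by rw [hbw, hcb _ (Ub.pow_mem hw2 _)]
        _ = w1 * (w2 ^ k * w2 ^ (k * n)) := by group
        _ = w1 * w2 ^ (k * (n + 1)) := by rw [← pow_add]; congr 2; ring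
  obtain ⟨m, hm⟩ : ∃ m : ℕ, k * m ≡ 1 [MOD p] := by
    obtain ⟨m, -, hm⟩ := Nat.exists_mul_mod_eq_one_of_coprime hkp hpp.one_lt
    refine ⟨m, ?_⟩
    unfold Nat.ModEq
    rw [hm, Nat.mod_eq_of_lt hpp.one_lt]
  have hw2m : w2 ^ (k * m) = w2 := by
    have h1 := pow_eq_pow_iff_modEq (x := w2) (n := k * m) (m := 1)
    have h2 : orderOf w2 = p := orderOf_eq_prime (hexp hUb w2 hw2) hw21
    rw [h2, pow_one] at h1
    exact h1.mpr hm
  have hb' : (b ^ m) ^ k = b := by
    have h1 := pow_eq_pow_iff_modEq (x := b) (n := k * m) (m := 1)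
    rw [hob, pow_one] at h1
    rw [← pow_mul, mul_comm m k]
    exact h1.mpr hm
  have hclos : Subgroup.closure ({a, b ^ m} : Set G) = L := by
    apply le_antisymm
    · rw [Subgroup.closure_le]
      rintro x (rfl | hx)
      · exact haL
      · rw [Set.mem_singleton_iff] at hx; subst hx; exact L.pow_mem hbL m
    · apply sup_le
      · rw [Subgroup.zpowers_le]; exact Subgroup.subset_closure (by simp)
      · rw [Subgroup.zpowers_le]
        have h1 : (b ^ m) ^ k ∈ Subgroup.closure ({a, b ^ m} : Set G) := Subgroup.pow_mem _ (Subgroup.subset_closure (by simp)) k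
        rwa [hb'] at h1
  have hdisj : Ua ⊓ Ub = ⊥ := by
    rw [Subgroup.eq_bot_iff_forall]
    intro z hz
    by_contra hz1
    obtain ⟨hza, hzb⟩ := Subgroup.mem_inf.mp hz
    apply ha1
    apply hfaith a haL hca
    intro u hu
    obtain ⟨j, rfl⟩ := hgen hUb z hzb hz1 u hu
    exact hca _ (Ua.pow_mem hza j)
  constructor
  · rw [hW]
    have h1 : Ub ≤ Subgroup.normalizer (Ua : Set G) := by
      intro x hx
      apply CfsgLib.H7Basic.mem_normalizer_of_conj_mem
      intro u hu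
      rw [← hcab u hu x hx, mul_inv_cancel_right]; exact hu
    have h2 := card_sup_mul h1
    rw [hdisj, Subgroup.card_bot, mul_one, hUa, hUb] at h2
    rw [h2, sq]
  · rw [← hclos]
    refine sl2_of_coords (p := p) (hexp hUa w1 hw1U) (hexp hUb w2 hw2) (hcab w1 hw1U w2 hw2) hw11 ?_ hw21 (hca w1 hw1U) ha2 ?_ ?_ ?_
    · intro j hj
      have h1 : w2 ^ j ∈ Ua ⊓ Ub := ⟨(Subgroup.zpowers_le.mpr hw1U) hj, Ub.pow_mem hw2 j⟩
      rw [hdisj, Subgroup.mem_bot] at h1
      exact h1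
    · rw [hbpow, hw2m]
    · have h1 := cent_of_card hUb hpb hzbUb (b ^ m) (Subgroup.pow_mem _ (Subgroup.mem_zpowers b) m)
      exact h1 w2 hw2
    · intro x hx h1 h2
      rw [hclos] at hx
      apply hfaith x hx
      · intro u hu
        obtain ⟨j, rfl⟩ := hgen hUa w1 hw1U hw11 u hu
        rw [← conj_pow, h1]
      · intro u hu
        obtain ⟨j, rfl⟩ := hgen hUb w2 hw2 hw21 u hu
        rw [← conj_pow, h2]

end CfsgLib.BO
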