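import Cfsg.Agent.Lib.CExt6
set_option autoImplicit false
set_option maxRecDepth 1000000

namespace CfsgLib.Chev
open Cfsg.Lie

def t1LD4 : List (List ℕ) := [[0, 7, 6, 6, 7, 0, 9, 8, 7, 6, 0, 0, 0, 0, 6, 7, 8, 9, 0, 7, 6, 6, 7, 0], [5, 15, 0, 0, 1, 10, 0, 1, 1, 0, 5, 5, 5, 5, 0, 1, 1, 0, 10, 1, 0, 0, 15, 
  5], [0, 4, 3, 9, 8, 0, 3, 4, 4, 3, 0, 0, 0, 0, 3, 4, 4, 3, 0, 8, 9, 3, 4, 0], [0, 4, 9, 2, 7, 0, 2, 4, 4, 2, 0, 0, 0, 0, 2, 4, 4, 2, 0, 7, 2, 9, 4, 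
  0]]

theorem t1D4 : t1Chk chevD4 true t1LD4 = true := by decide +kernel

theorem decD4 : decChk chevD4 [(6,22),(1,23),(3,22),(2,22)] = true := by decide +kernel

def t1LF4 : List (List ℕ) := [[17, 16, 15, 15, 7, 7, 7, 34, 16, 15, 15, 7, 7, 7, 0, 20, 19, 18, 17, 16, 15, 7, 7, 7, 7, 7, 7, 15, 16, 17, 18, 19, 20, 0, 7, 7, 7, 15, 15, 16, 34, 
  7, 7, 7, 15, 15, 16, 17], [12, 11, 4, 21, 34, 8, 8, 4, 14, 4, 4, 12, 11, 4, 8, 4, 8, 8, 4, 4, 0, 12, 11, 4, 4, 11, 12, 0, 4, 4, 8, 8, 4, 8, 4, 11, 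
  12, 4, 4, 14, 4, 8, 8, 34, 21, 4, 11, 12], [0, 5, 23, 16, 2, 16, 0, 5, 2, 26, 5, 2, 2, 16, 2, 2, 5, 0, 2, 2, 5, 5, 0, 2, 2, 0, 5, 5, 2, 2, 0, 5, 2, 
  2, 16, 2, 2, 5, 26, 2, 5, 0, 16, 2, 16, 23, 5, 0], [6, 26, 0, 17, 0, 1, 17, 6, 6, 1, 22, 1, 17, 1, 1, 0, 1, 6, 1, 6, 1, 1, 6, 0, 0, 6, 1, 1, 6, 1, 
  6, 1, 0, 1, 1, 17, 1, 22, 1, 6, 6, 17, 1, 0, 17, 0, 26, 6]]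

theorem t1F4 : t1Chk chevF4 true t1LF4 = true := by decide +kernel

theorem decF4 : decChk chevF4 [(7,44),(8,40),(2,46),(1,47)] = true := by decide +kernel

def t1LE6 : List (List ℕ) := [[26, 19, 17, 16, 16, 17, 16, 16, 16, 16, 17, 16, 16, 17, 19, 0, 21, 20, 19, 18, 17, 16, 18, 17, 16, 16, 18, 17, 16, 16, 18, 17, 16, 17, 18, 16, 16, 
  18, 17, 16, 17, 18, 16, 16, 17, 18, 16, 16, 17, 18, 16, 17, 18, 19, 20, 21, 0, 19, 17, 16, 16, 17, 16, 16, 16, 16, 17, 16, 16, 17, 19, 26], [11, 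
  47, 13, 12, 11, 13, 12, 11, 1, 1, 1, 27, 26, 26, 1, 1, 11, 11, 12, 1, 1, 1, 1, 1, 1, 0, 12, 11, 11, 1, 12, 11, 11, 1, 1, 1, 1, 1, 1, 11, 11, 12, 1, 
  11, 11, 12, 0, 1, 1, 1, 1, 1, 1, 12, 11, 11, 1, 1, 26, 26, 27, 1, 1, 1, 11, 12, 13, 11, 12, 13, 47, 11], [15, 15, 6, 5, 5, 24, 23, 22, 7, 6, 5, 7, 
  6, 5, 5, 22, 6, 5, 5, 5, 5, 6, 7, 6, 5, 5, 5, 5, 6, 0, 7, 6, 5, 6, 7, 5, 5, 7, 6, 5, 6, 7, 0, 6, 5, 5, 5, 5, 6, 7, 6, 5, 5, 5, 5, 6, 22, 5, 5, 6, 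
  7, 5, 6, 7, 22, 23, 24, 5, 5, 6, 15, 15], [14, 8, 25, 9, 8, 14, 2, 2, 20, 19, 2, 9, 8, 2, 19, 2, 8, 2, 2, 9, 8, 2, 2, 2, 8, 2, 8, 9, 2, 8, 2, 2, 0, 
  9, 8, 2, 2, 8, 9, 0, 2, 2, 8, 2, 9, 8, 2, 8, 2, 2, 2, 8, 9, 2, 2, 8, 2, 19, 2, 8, 9, 2, 19, 20, 2, 2, 14, 8, 9, 25, 8, 14], [13, 10, 6, 24, 6, 3, 
  21, 3, 13, 3, 17, 10, 3, 17, 6, 3, 3, 10, 3, 6, 3, 6, 3, 6, 3, 3, 6, 3, 6, 10, 3, 6, 3, 3, 0, 10, 10, 0, 3, 3, 6, 3, 10, 6, 3, 6, 3, 3, 6, 3, 6, 3, 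
  6, 3, 10, 3, 3, 6, 17, 3, 10, 17, 3, 13, 3, 21, 3, 6, 24, 6, 10, 13], [12, 9, 7, 7, 23, 4, 4, 20, 4, 18, 12, 4, 18, 9, 7, 4, 4, 4, 9, 4, 7, 7, 7, 
  4, 4, 4, 4, 7, 7, 9, 7, 4, 4, 9, 4, 0, 0, 4, 9, 4, 4, 7, 9, 7, 7, 4, 4, 4, 4, 7, 7, 7, 4, 9, 4, 4, 4, 7, 9, 18, 4, 12, 18, 4, 20, 4, 4, 23, 7, 7, 
  9, 12]]

theorem t1E6 : t1Chk chevE6 false t1LE6 = true := by decide +kernel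

theorem decE6 : decChk chevE6 [(16,66),(1,71),(5,69),(2,70),(3,69),(4,68)] = true := by decide +kernel

def t1LE7 : List (List ℕ) := [[33, 94, 39, 36, 34, 33, 33, 36, 34, 33, 33, 34, 33, 33, 33, 33, 34, 1, 1, 1, 1, 1, 1, 1, 1, 1, 1, 1, 1, 1, 1, 1, 0, 38, 37, 36, 35, 34, 33, 35, 34, 
  33, 33, 1, 1, 1, 1, 1, 35, 34, 33, 33, 33, 1, 1, 1, 1, 1, 1, 1, 1, 1, 1, 1, 1, 1, 1, 1, 1, 1, 1, 1, 1, 33, 33, 33, 34, 35, 1, 1, 1, 1, 1, 33, 33, 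
  34, 35, 33, 34, 35, 36, 37, 38, 0, 1, 1, 1, 1, 1, 1, 1, 1, 1, 1, 1, 1, 1, 1, 1, 34, 33, 33, 33, 33, 34, 33, 33, 34, 36, 33, 33, 34, 36, 39, 94, 
  33], [48, 27, 27, 8, 7, 7, 7, 30, 29, 28, 27, 9, 8, 8, 7, 7, 7, 9, 8, 8, 7, 7, 7, 7, 7, 7, 8, 10, 9, 8, 7, 7, 7, 9, 8, 8, 7, 7, 7, 7, 7, 7, 8, 7, 
  7, 7, 8, 0, 10, 9, 8, 7, 7, 10, 9, 8, 7, 8, 8, 9, 7, 7, 7, 7, 7, 7, 9, 8, 8, 7, 8, 9, 10, 7, 7, 8, 9, 10, 0, 8, 7, 7, 7, 8, 7, 7, 7, 7, 7, 7, 8, 8, 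
  9, 7, 7, 7, 8, 9, 10, 8, 7, 7, 7, 7, 7, 7, 8, 8, 9, 7, 7, 7, 8, 8, 9, 27, 28, 29, 30, 7, 7, 7, 8, 27, 27, 48], [43, 17, 32, 20, 18, 17, 17, 20, 18, 
  17, 17, 2, 2, 2, 2, 2, 2, 22, 21, 20, 19, 18, 17, 2, 2, 2, 2, 2, 2, 2, 2, 17, 2, 18, 17, 17, 17, 17, 18, 2, 2, 2, 2, 19, 18, 17, 17, 2, 2, 2, 2, 2, 
  0, 19, 18, 17, 17, 2, 2, 2, 2, 2, 2, 2, 2, 2, 2, 2, 2, 17, 17, 18, 19, 0, 2, 2, 2, 2, 2, 17, 17, 18, 19, 2, 2, 2, 2, 18, 17, 17, 17, 17, 18, 2, 17, 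
  2, 2, 2, 2, 2, 2, 2, 2, 17, 18, 19, 20, 21, 22, 2, 2, 2, 2, 2, 2, 17, 17, 18, 20, 17, 17, 18, 20, 32, 17, 43], [39, 23, 11, 31, 12, 11, 11, 23, 3, 
  3, 3, 25, 24, 23, 3, 3, 3, 12, 11, 11, 3, 3, 3, 13, 12, 11, 3, 3, 3, 3, 11, 3, 3, 12, 11, 11, 3, 3, 3, 13, 12, 11, 3, 11, 11, 12, 3, 11, 3, 3, 3, 
  11, 3, 3, 3, 3, 0, 13, 12, 11, 3, 3, 3, 3, 3, 3, 11, 12, 13, 0, 3, 3, 3, 3, 11, 3, 3, 3, 11, 3, 12, 11, 11, 3, 11, 12, 13, 3, 3, 3, 11, 11, 12, 3, 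
  3, 11, 3, 3, 3, 3, 11, 12, 13, 3, 3, 3, 11, 11, 12, 3, 3, 3, 23, 24, 25, 3, 3, 3, 23, 11, 11, 12, 31, 11, 23, 39], [36, 20, 14, 8, 30, 8, 8, 4, 26, 
  4, 4, 20, 4, 4, 21, 20, 4, 14, 4, 4, 15, 14, 4, 8, 8, 4, 8, 4, 4, 8, 4, 4, 4, 14, 4, 4, 15, 14, 4, 8, 8, 4, 8, 8, 8, 4, 8, 14, 4, 4, 8, 4, 4, 4, 4, 
  8, 4, 4, 4, 0, 15, 14, 4, 4, 14, 15, 0, 4, 4, 4, 8, 4, 4, 4, 4, 8, 4, 4, 14, 8, 4, 8, 8, 8, 4, 8, 8, 4, 14, 15, 4, 4, 14, 4, 4, 4, 8, 4, 4, 8, 4, 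
  8, 8, 4, 14, 15, 4, 4, 14, 4, 20, 21, 4, 4, 20, 4, 4, 26, 4, 8, 8, 30, 8, 14, 20, 36], [34, 18, 12, 9, 9, 29, 9, 5, 5, 25, 5, 5, 22, 5, 18, 5, 18, 
  5, 16, 5, 12, 5, 12, 9, 5, 9, 9, 5, 9, 5, 5, 5, 5, 5, 16, 5, 12, 5, 12, 9, 5, 9, 9, 9, 5, 9, 9, 12, 5, 9, 5, 5, 5, 5, 9, 5, 5, 5, 12, 5, 5, 0, 16, 
  16, 0, 5, 5, 12, 5, 5, 5, 9, 5, 5, 5, 5, 9, 5, 12, 9, 9, 5, 9, 9, 9, 5, 9, 12, 5, 12, 5, 16, 5, 5, 5, 5, 5, 9, 5, 9, 9, 5, 9, 12, 5, 12, 5, 16, 5, 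
  18, 5, 18, 5, 22, 5, 5, 25, 5, 5, 9, 29, 9, 9, 12, 18, 34], [35, 19, 13, 10, 10, 10, 28, 6, 6, 6, 24, 6, 6, 21, 6, 19, 19, 6, 6, 15, 6, 13, 13, 6, 
  10, 10, 10, 10, 6, 6, 6, 6, 6, 6, 6, 15, 6, 13, 13, 6, 10, 10, 10, 6, 10, 10, 10, 13, 10, 6, 6, 6, 6, 10, 6, 6, 6, 13, 6, 6, 15, 6, 0, 0, 6, 15, 6, 
  6, 13, 6, 6, 6, 10, 6, 6, 6, 6, 10, 13, 10, 10, 10, 6, 10, 10, 10, 6, 13, 13, 6, 15, 6, 6, 6, 6, 6, 6, 6, 10, 10, 10, 10, 6, 13, 13, 6, 15, 6, 6, 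
  19, 19, 6, 21, 6, 6, 24, 6, 6, 6, 28, 10, 10, 10, 13, 19, 35]]

theorem t1E7 : t1Chk chevE7 false t1LE7 = true := by decide +kernel

theorem decE7 : decChk chevE7 [(1,125),(7,122),(2,124),(3,123),(4,122),(5,121),(6,120)] = true := by decide +kernel

end CfsgLib.Chev
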