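import Cfsg.Agent.Lib.CExt9
set_option autoImplicit false
set_option maxRecDepth 1000000

namespace CfsgLib.Chev
open Cfsg.Lie

universe u w

def wAE6 : List (ℕ × ℕ × ℕ) := [(0,1,25), (1,0,46), (2,0,47), (3,0,48), (4,0,49), (5,16,0), (6,17,0), (7,18,0), (8,19,0), (9,20,0), (10,21,0), (11,26,0), (12,27,0), (13,28,0), 
  (14,29,0), (16,0,61), (17,0,62), (18,0,63), (19,0,64), (20,0,65), (21,0,66), (22,0,67), (23,0,68), (24,0,69), (25,0,70), (26,1,64), (27,1,65), 
  (28,1,66), (29,2,66), (30,1,67), (31,1,68), (32,1,69), (33,2,67), (34,2,68), (35,3,67), (36,4,68), (37,3,69), (38,4,69), (39,2,70), (40,3,70), 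
  (41,4,70), (42,57,0), (43,58,0), (44,59,0), (45,60,0), (46,1,71), (47,2,71), (48,3,71), (49,4,71), (50,61,0), (51,62,0), (52,63,0), (53,64,0), 
  (54,65,0), (55,66,0), (57,16,69), (58,16,70), (59,17,70), (60,18,70), (61,16,71), (62,17,71), (63,18,71), (64,19,71), (65,20,71), (66,21,71), 
  (67,22,71), (68,23,71), (69,24,71), (70,25,71), (71,46,70)]

def wBE6 : List (ℕ × ℕ × ℕ) := [(17,17,34), (18,18,33), (19,19,31), (20,20,30), (21,61,0), (26,26,23), (27,27,22), (28,58,1), (29,57,2), (57,57,2), (58,58,1), (59,27,22), 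
  (60,26,23), (61,61,0), (62,20,30), (63,19,31), (64,18,33), (65,17,34)]

theorem twoE6 {F : Type u} [Field F] {E : Type w} [Group E] (S : CExt chevE6 F E) (hF : ∀ v : F, v = 0 ∨ v = 1) : Lifts S :=
  lifts_two S hF (par := [0,3,0,2,3,4]) (ord := [2,3,1,4,5]) (W := wAE6) (r0 := 16) (V := wBE6) (by decide +kernel) (by decide +kernel) (by decide +kernel) (by decide +kernel) decE6

def wAE7 : List (ℕ × ℕ × ℕ) := [(0,1,0), (1,2,52), (2,3,56), (3,2,69), (4,2,70), (5,2,71), (6,2,72), (7,2,79), (8,2,80), (9,2,81), (10,2,82), (11,3,80), (12,3,81), (13,3,82), 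
  (14,4,81), (15,4,82), (16,5,82), (17,33,0), (18,34,0), (19,35,0), (20,36,0), (21,37,0), (22,38,0), (23,39,0), (24,40,0), (25,41,0), (26,42,0), 
  (27,48,0), (28,49,0), (29,50,0), (30,51,0), (31,52,0), (33,1,109), (34,1,110), (35,1,111), (36,1,112), (37,1,113), (38,1,114), (39,1,115), 
  (40,1,116), (41,1,117), (42,1,118), (43,2,115), (44,2,116), (45,2,117), (46,2,118), (47,3,118), (48,1,119), (49,1,120), (50,1,121), (51,1,122), 
  (52,1,123), (53,2,119), (54,2,120), (55,2,121), (56,2,122), (57,3,119), (58,3,120), (59,3,121), (60,4,119), (61,4,120), (62,5,119), (63,6,120), 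
  (64,5,121), (65,6,121), (66,4,122), (67,5,122), (68,6,122), (69,3,123), (70,4,123), (71,5,123), (72,6,123), (73,94,0), (74,95,0), (75,96,0), 
  (76,97,0), (77,98,0), (78,7,122), (79,7,123), (80,8,123), (81,9,123), (82,10,123), (83,99,0), (84,100,0), (85,101,0), (86,102,0), (87,103,0), 
  (88,104,0), (89,105,0), (90,106,0), (91,107,0), (92,108,0), (94,2,125), (95,3,125), (96,4,125), (97,5,125), (98,6,125), (99,7,125), (100,8,125), 
  (101,9,125), (102,10,125), (103,11,125), (104,12,125), (105,13,125), (106,14,125), (107,15,125), (108,16,125), (109,43,120), (110,43,121), 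
  (111,44,121), (112,43,122), (113,44,122), (114,45,122), (115,43,123), (116,44,123), (117,45,123), (118,46,123), (119,53,123), (120,54,123), 
  (121,55,123), (122,56,123), (123,69,122), (124,125,0), (125,94,123)]

def wBE7 : List (ℕ × ℕ × ℕ) := [(33,33,16), (34,34,15), (35,35,14), (36,36,13), (37,37,12), (38,38,11), (39,39,10), (40,40,9), (41,41,8), (42,42,7), (48,48,6), (49,49,5), 
  (50,50,4), (51,51,3), (52,52,2), (94,52,2), (95,51,3), (96,50,4), (97,49,5), (98,48,6), (99,42,7), (100,41,8), (101,40,9), (102,39,10), 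
  (103,38,11), (104,37,12), (105,36,13), (106,35,14), (107,34,15), (108,33,16)]

theorem twoE7 {F : Type u} [Field F] {E : Type w} [Group E] (S : CExt chevE7 F E) (hF : ∀ v : F, v = 0 ∨ v = 1) : Lifts S :=
  lifts_two S hF (par := [0,3,0,2,3,4,5]) (ord := [2,3,1,4,5,6]) (W := wAE7) (r0 := 1) (V := wBE7) (by decide +kernel) (by decide +kernel) (by decide +kernel) (by decide +kernel) decE7

end CfsgLib.Chev
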