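import Mathlib
import Cfsg.Agent.Lib.COX4

/-! Explicit orbit data for the Weyl groups of types B2, G2, D4, F4, E6, E7, E8 (generated). -/

namespace CfsgLib.BNP.Data

/-- the Cartan matrix of type B2 (rows) -/
def rowsB2 : List (List ℤ) := [[2, -1], [-2, 2]]

/-- the Cartan matrix of type B2 -/
def AB2 : Matrix (Fin 2) (Fin 2) ℤ := Matrix.of fun i j => (rowsB2.getD i []).getD j 0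

set_option maxHeartbeats 4000000 in
/-- orbit levels for a chain of parabolic subgroups of type B2 -/
def dataB2 : List (Fin 2 × List (List (List ℤ))) :=
  [(0, [[[-1,1]], [[1,-1]], [[-1,0]]]),
  (1, [[[2,-1]]])]

set_option maxRecDepth 100000 in
theorem chkB2 : chkAll 2 rowsB2 (List.finRange 2) dataB2 = true := by
  decide +kernel

theorem diagB2 : ∀ i, AB2 i i = 2 := by decide +kernel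

theorem lenB2 : ∀ i : Fin 2, (rowsB2.getD i []).length = 2 := by decide +kernel

/-- the Cartan matrix of type G2 (rows) -/
def rowsG2 : List (List ℤ) := [[2, -1], [-3, 2]]

/-- the Cartan matrix of type G2 -/
def AG2 : Matrix (Fin 2) (Fin 2) ℤ := Matrix.of fun i j => (rowsG2.getD i []).getD j 0

set_option maxHeartbeats 4000000 in
/-- orbit levels for a chain of parabolic subgroups of type G2 -/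
def dataG2 : List (Fin 2 × List (List (List ℤ))) :=
  [(0, [[[-1,1]], [[2,-1]], [[-2,1]], [[1,-1]], [[-1,0]]]),
  (1, [[[3,-1]]])]

set_option maxRecDepth 100000 in
theorem chkG2 : chkAll 2 rowsG2 (List.finRange 2) dataG2 = true := by
  decide +kernel

theorem diagG2 : ∀ i, AG2 i i = 2 := by decide +kernel

theorem lenG2 : ∀ i : Fin 2, (rowsG2.getD i []).length = 2 := by decide +kernel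

/-- the Cartan matrix of type D4 (rows) -/
def rowsD4 : List (List ℤ) := [[2, -1, 0, 0], [-1, 2, -1, -1], [0, -1, 2, 0], [0, -1, 0, 2]]

/-- the Cartan matrix of type D4 -/
def AD4 : Matrix (Fin 4) (Fin 4) ℤ := Matrix.of fun i j => (rowsD4.getD i []).getD j 0

set_option maxHeartbeats 4000000 in
/-- orbit levels for a chain of parabolic subgroups of type D4 -/
def dataD4 : List (Fin 4 × List (List (List ℤ))) :=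
  [(0, [[[-1,1,0,0]], [[0,-1,1,1]], [[0,0,-1,1], [0,0,1,-1]], [[0,1,-1,-1]], [[1,-1,0,0]], [[-1,0,0,0]]]),
  (1, [[[1,-1,1,1]], [[1,0,-1,1], [1,0,1,-1]], [[1,1,-1,-1]], [[2,-1,0,0]]]),
  (2, [[[0,1,-1,0]]]),
  (3, [[[0,1,0,-1]]])]

set_option maxRecDepth 100000 in
theorem chkD4 : chkAll 4 rowsD4 (List.finRange 4) dataD4 = true := by
  decide +kernel

theorem diagD4 : ∀ i, AD4 i i = 2 := by decide +kernel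

theorem lenD4 : ∀ i : Fin 4, (rowsD4.getD i []).length = 4 := by decide +kernel

/-- the Cartan matrix of type F4 (rows) -/
def rowsF4 : List (List ℤ) := [[2, -1, 0, 0], [-1, 2, -1, 0], [0, -2, 2, -1], [0, 0, -1, 2]]

/-- the Cartan matrix of type F4 -/
def AF4 : Matrix (Fin 4) (Fin 4) ℤ := Matrix.of fun i j => (rowsF4.getD i []).getD j 0

set_option maxHeartbeats 4000000 in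
/-- orbit levels for a chain of parabolic subgroups of type F4 -/
def dataF4 : List (Fin 4 × List (List (List ℤ))) :=
  [(0, [[[-1,1,0,0]], [[0,-1,1,0]], [[0,1,-1,1]], [[1,-1,0,1], [0,1,0,-1]], [[-1,0,0,1], [1,-1,1,-1]], [[-1,0,1,-1], [1,1,-1,0]], [[-1,2,-1,0], [2,-1,0,0]], [[1,-2,1,0], [-2,1,0,0]], [[-1,-1,1,0], [1,0,-1,1]], [[-1,1,-1,1], [1,0,0,-1]], [[0,-1,0,1], [-1,1,0,-1]], [[0,-1,1,-1]], [[0,1,-1,0]], [[1,-1,0,0]], [[-1,0,0,0]]]),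
  (1, [[[1,-1,1,0]], [[1,1,-1,1]], [[2,-1,0,1], [1,1,0,-1]], [[2,-1,1,-1]], [[2,1,-1,0]], [[3,-1,0,0]]]),
  (2, [[[0,2,-1,1]], [[0,2,0,-1]]]),
  (3, [[[0,0,1,-1]]])]

set_option maxRecDepth 100000 in
theorem chkF4 : chkAll 4 rowsF4 (List.finRange 4) dataF4 = true := by
  decide +kernel

theorem diagF4 : ∀ i, AF4 i i = 2 := by decide +kernel

theorem lenF4 : ∀ i : Fin 4, (rowsF4.getD i []).length = 4 := by decide +kernel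

/-- the Cartan matrix of type E6 (rows) -/
def rowsE6 : List (List ℤ) := [[2, 0, -1, 0, 0, 0], [0, 2, 0, -1, 0, 0], [-1, 0, 2, -1, 0, 0], [0, -1, -1, 2, -1, 0], [0, 0, 0, -1, 2, -1], [0, 0, 0, 0, -1, 2]]

/-- the Cartan matrix of type E6 -/
def AE6 : Matrix (Fin 6) (Fin 6) ℤ := Matrix.of fun i j => (rowsE6.getD i []).getD j 0

set_option maxHeartbeats 4000000 in
/-- orbit levels for a chain of parabolic subgroups of type E6 -/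
def dataE6 : List (Fin 6 × List (List (List ℤ))) :=
  [(0, [[[-1,0,1,0,0,0]], [[0,0,-1,1,0,0]], [[0,1,0,-1,1,0]], [[0,-1,0,0,1,0], [0,1,0,0,-1,1]], [[0,-1,0,1,-1,1], [0,1,0,0,0,-1]], [[0,0,1,-1,0,1], [0,-1,0,1,0,-1]], [[1,0,-1,0,0,1], [0,0,1,-1,1,-1]], [[-1,0,0,0,0,1], [1,0,-1,0,1,-1], [0,0,1,0,-1,0]], [[-1,0,0,0,1,-1], [1,0,-1,1,-1,0]], [[-1,0,0,1,-1,0], [1,1,0,-1,0,0]], [[-1,1,1,-1,0,0], [1,-1,0,0,0,0]], [[-1,-1,1,0,0,0], [0,1,-1,0,0,0]], [[0,-1,-1,1,0,0]], [[0,0,0,-1,1,0]], [[0,0,0,0,-1,1]], [[0,0,0,0,0,-1]]]),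
  (5, [[[0,0,0,0,1,-1]], [[0,0,0,1,-1,0]], [[0,1,1,-1,0,0]], [[0,-1,1,0,0,0], [1,1,-1,0,0,0]], [[1,-1,-1,1,0,0]], [[1,0,0,-1,1,0]], [[1,0,0,0,-1,1]], [[1,0,0,0,0,-1]]]),
  (1, [[[0,-1,0,1,0,0]], [[0,0,1,-1,1,0]], [[1,0,-1,0,1,0], [0,0,1,0,-1,1]], [[1,0,-1,1,-1,1]], [[1,1,0,-1,0,1]], [[1,-1,0,0,0,1]]]),
  (2, [[[1,0,-1,1,0,0]], [[1,1,0,-1,1,0]], [[1,1,0,0,-1,1]]]),
  (3, [[[0,1,1,-1,1,0]], [[0,1,1,0,-1,1]]]),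
  (4, [[[0,0,0,1,-1,1]]])]

set_option maxRecDepth 100000 in
theorem chkE6 : chkAll 6 rowsE6 (List.finRange 6) dataE6 = true := by
  decide +kernel

theorem diagE6 : ∀ i, AE6 i i = 2 := by decide +kernel

theorem lenE6 : ∀ i : Fin 6, (rowsE6.getD i []).length = 6 := by decide +kernel

/-- the Cartan matrix of type E7 (rows) -/
def rowsE7 : List (List ℤ) := [[2, 0, -1, 0, 0, 0, 0], [0, 2, 0, -1, 0, 0, 0], [-1, 0, 2, -1, 0, 0, 0], [0, -1, -1, 2, -1, 0, 0], [0, 0, 0, -1, 2, -1, 0], [0, 0, 0, 0, -1, 2, -1], [0, 0, 0, 0, 0, -1, 2]]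

/-- the Cartan matrix of type E7 -/
def AE7 : Matrix (Fin 7) (Fin 7) ℤ := Matrix.of fun i j => (rowsE7.getD i []).getD j 0

set_option maxHeartbeats 4000000 in
/-- orbit levels for a chain of parabolic subgroups of type E7 -/
def dataE7 : List (Fin 7 × List (List (List ℤ))) :=
  [(6, [[[0,0,0,0,0,1,-1]], [[0,0,0,0,1,-1,0]], [[0,0,0,1,-1,0,0]], [[0,1,1,-1,0,0,0]], [[0,-1,1,0,0,0,0], [1,1,-1,0,0,0,0]], [[1,-1,-1,1,0,0,0], [-1,1,0,0,0,0,0]], [[-1,-1,0,1,0,0,0], [1,0,0,-1,1,0,0]], [[-1,0,1,-1,1,0,0], [1,0,0,0,-1,1,0]], [[0,0,-1,0,1,0,0], [-1,0,1,0,-1,1,0], [1,0,0,0,0,-1,1]], [[0,0,-1,1,-1,1,0], [-1,0,1,0,0,-1,1], [1,0,0,0,0,0,-1]], [[0,1,0,-1,0,1,0], [0,0,-1,1,0,-1,1], [-1,0,1,0,0,0,-1]], [[0,-1,0,0,0,1,0], [0,1,0,-1,1,-1,1], [0,0,-1,1,0,0,-1]],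 [[0,-1,0,0,1,-1,1], [0,1,0,0,-1,0,1], [0,1,0,-1,1,0,-1]], [[0,-1,0,1,-1,0,1], [0,-1,0,0,1,0,-1], [0,1,0,0,-1,1,-1]], [[0,0,1,-1,0,0,1], [0,-1,0,1,-1,1,-1], [0,1,0,0,0,-1,0]], [[1,0,-1,0,0,0,1], [0,0,1,-1,0,1,-1], [0,-1,0,1,0,-1,0]], [[-1,0,0,0,0,0,1], [1,0,-1,0,0,1,-1], [0,0,1,-1,1,-1,0]], [[-1,0,0,0,0,1,-1], [1,0,-1,0,1,-1,0], [0,0,1,0,-1,0,0]], [[-1,0,0,0,1,-1,0], [1,0,-1,1,-1,0,0]], [[-1,0,0,1,-1,0,0], [1,1,0,-1,0,0,0]], [[-1,1,1,-1,0,0,0], [1,-1,0,0,0,0,0]], [[-1,-1,1,0,0,0,0], [0,1,-1,0,0,0,0]], [[0,-1,-1,1,0,0,0]], [[0,0,0,-1,1,0,0]], [[0,0,0,0,-1,1,0]], [[0,0,0,0,0,-1,1]], [[0,0,0,0,0,0,-1]]]),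
  (0, [[[-1,0,1,0,0,0,0]], [[0,0,-1,1,0,0,0]], [[0,1,0,-1,1,0,0]], [[0,-1,0,0,1,0,0], [0,1,0,0,-1,1,0]], [[0,-1,0,1,-1,1,0], [0,1,0,0,0,-1,1]], [[0,0,1,-1,0,1,0], [0,-1,0,1,0,-1,1]], [[1,0,-1,0,0,1,0], [0,0,1,-1,1,-1,1]], [[-1,0,0,0,0,1,0], [1,0,-1,0,1,-1,1], [0,0,1,0,-1,0,1]], [[-1,0,0,0,1,-1,1], [1,0,-1,1,-1,0,1]], [[-1,0,0,1,-1,0,1], [1,1,0,-1,0,0,1]], [[-1,1,1,-1,0,0,1], [1,-1,0,0,0,0,1]], [[-1,-1,1,0,0,0,1], [0,1,-1,0,0,0,1]], [[0,-1,-1,1,0,0,1]], [[0,0,0,-1,1,0,1]], [[0,0,0,0,-1,1,1]], [[0,0,0,0,0,-1,2]]]),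
  (1, [[[0,-1,0,1,0,0,0]], [[0,0,1,-1,1,0,0]], [[1,0,-1,0,1,0,0], [0,0,1,0,-1,1,0]], [[1,0,-1,1,-1,1,0], [0,0,1,0,0,-1,1]], [[1,1,0,-1,0,1,0], [1,0,-1,1,0,-1,1]], [[1,-1,0,0,0,1,0], [1,1,0,-1,1,-1,1]], [[1,-1,0,0,1,-1,1], [1,1,0,0,-1,0,1]], [[1,-1,0,1,-1,0,1]], [[1,0,1,-1,0,0,1]], [[2,0,-1,0,0,0,1]]]),
  (2, [[[1,0,-1,1,0,0,0]], [[1,1,0,-1,1,0,0]], [[1,1,0,0,-1,1,0]], [[1,1,0,0,0,-1,1]]]),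
  (3, [[[0,1,1,-1,1,0,0]], [[0,1,1,0,-1,1,0]], [[0,1,1,0,0,-1,1]]]),
  (4, [[[0,0,0,1,-1,1,0]], [[0,0,0,1,0,-1,1]]]),
  (5, [[[0,0,0,0,1,-1,1]]])]

set_option maxRecDepth 100000 in
theorem chkE7 : chkAll 7 rowsE7 (List.finRange 7) dataE7 = true := by
  decide +kernel

theorem diagE7 : ∀ i, AE7 i i = 2 := by decide +kernel

theorem lenE7 : ∀ i : Fin 7, (rowsE7.getD i []).length = 7 := by decide +kernel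

/-- the Cartan matrix of type E8 (rows) -/
def rowsE8 : List (List ℤ) := [[2, 0, -1, 0, 0, 0, 0, 0], [0, 2, 0, -1, 0, 0, 0, 0], [-1, 0, 2, -1, 0, 0, 0, 0], [0, -1, -1, 2, -1, 0, 0, 0], [0, 0, 0, -1, 2, -1, 0, 0], [0, 0, 0, 0, -1, 2, -1, 0], [0, 0, 0, 0, 0, -1, 2, -1], [0, 0, 0, 0, 0, 0, -1, 2]]

/-- the Cartan matrix of type E8 -/
def AE8 : Matrix (Fin 8) (Fin 8) ℤ := Matrix.of fun i j => (rowsE8.getD i []).getD j 0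

set_option maxHeartbeats 4000000 in
/-- orbit levels for a chain of parabolic subgroups of type E8 -/
def dataE8 : List (Fin 8 × List (List (List ℤ))) :=
  [(7, [[[0,0,0,0,0,0,1,-1]], [[0,0,0,0,0,1,-1,0]], [[0,0,0,0,1,-1,0,0]], [[0,0,0,1,-1,0,0,0]], [[0,1,1,-1,0,0,0,0]], [[0,-1,1,0,0,0,0,0], [1,1,-1,0,0,0,0,0]], [[1,-1,-1,1,0,0,0,0], [-1,1,0,0,0,0,0,0]], [[-1,-1,0,1,0,0,0,0], [1,0,0,-1,1,0,0,0]], [[-1,0,1,-1,1,0,0,0], [1,0,0,0,-1,1,0,0]], [[0,0,-1,0,1,0,0,0], [-1,0,1,0,-1,1,0,0], [1,0,0,0,0,-1,1,0]], [[0,0,-1,1,-1,1,0,0], [-1,0,1,0,0,-1,1,0], [1,0,0,0,0,0,-1,1]], [[0,1,0,-1,0,1,0,0], [0,0,-1,1,0,-1,1,0], [-1,0,1,0,0,0,-1,1], [1,0,0,0,0,0,0,-1]], [[0,-1,0,0,0,1,0,0], [0,1,0,-1,1,-1,1,0], [0,0,-1,1,0,0,-1,1], [-1,0,1,0,0,0,0,-1]], [[0,-1,0,0,1,-1,1,0],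 [0,1,0,0,-1,0,1,0], [0,1,0,-1,1,0,-1,1], [0,0,-1,1,0,0,0,-1]], [[0,-1,0,1,-1,0,1,0], [0,-1,0,0,1,0,-1,1], [0,1,0,0,-1,1,-1,1], [0,1,0,-1,1,0,0,-1]], [[0,0,1,-1,0,0,1,0], [0,-1,0,1,-1,1,-1,1], [0,-1,0,0,1,0,0,-1], [0,1,0,0,0,-1,0,1], [0,1,0,0,-1,1,0,-1]], [[1,0,-1,0,0,0,1,0], [0,0,1,-1,0,1,-1,1], [0,-1,0,1,0,-1,0,1], [0,-1,0,1,-1,1,0,-1], [0,1,0,0,0,-1,1,-1]], [[-1,0,0,0,0,0,1,0], [1,0,-1,0,0,1,-1,1], [0,0,1,-1,1,-1,0,1], [0,0,1,-1,0,1,0,-1], [0,-1,0,1,0,-1,1,-1], [0,1,0,0,0,0,-1,0]], [[-1,0,0,0,0,1,-1,1], [1,0,-1,0,1,-1,0,1], [1,0,-1,0,0,1,0,-1], [0,0,1,0,-1,0,0,1], [0,0,1,-1,1,-1,1,-1], [0,-1,0,1,0,0,-1,0]], [[-1,0,0,0,1,-1,0,1], [-1,0,0,0,0,1,0,-1], [1,0,-1,1,-1,0,0,1], [1,0,-1,0,1,-1,1,-1], [0,0,1,0,-1,0,1,-1], [0,0,1,-1,1,0,-1,0]],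 [[-1,0,0,1,-1,0,0,1], [-1,0,0,0,1,-1,1,-1], [1,1,0,-1,0,0,0,1], [1,0,-1,1,-1,0,1,-1], [1,0,-1,0,1,0,-1,0], [0,0,1,0,-1,1,-1,0]], [[-1,1,1,-1,0,0,0,1], [-1,0,0,1,-1,0,1,-1], [-1,0,0,0,1,0,-1,0], [1,-1,0,0,0,0,0,1], [1,1,0,-1,0,0,1,-1], [1,0,-1,1,-1,1,-1,0], [0,0,1,0,0,-1,0,0]], [[-1,-1,1,0,0,0,0,1], [0,1,-1,0,0,0,0,1], [-1,1,1,-1,0,0,1,-1], [-1,0,0,1,-1,1,-1,0], [1,-1,0,0,0,0,1,-1], [1,1,0,-1,0,1,-1,0], [1,0,-1,1,0,-1,0,0]], [[0,-1,-1,1,0,0,0,1], [-1,-1,1,0,0,0,1,-1], [0,1,-1,0,0,0,1,-1], [-1,1,1,-1,0,1,-1,0], [-1,0,0,1,0,-1,0,0], [1,-1,0,0,0,1,-1,0], [1,1,0,-1,1,-1,0,0]], [[0,0,0,-1,1,0,0,1], [0,-1,-1,1,0,0,1,-1], [-1,-1,1,0,0,1,-1,0], [0,1,-1,0,0,1,-1,0], [-1,1,1,-1,1,-1,0,0], [1,-1,0,0,1,-1,0,0], [1,1,0,0,-1,0,0,0]], [[0,0,0,0,-1,1,0,1],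 [0,0,0,-1,1,0,1,-1], [0,-1,-1,1,0,1,-1,0], [-1,-1,1,0,1,-1,0,0], [0,1,-1,0,1,-1,0,0], [-1,1,1,0,-1,0,0,0], [1,-1,0,1,-1,0,0,0]], [[0,0,0,0,0,-1,1,1], [0,0,0,0,-1,1,1,-1], [0,0,0,-1,1,1,-1,0], [0,-1,-1,1,1,-1,0,0], [-1,-1,1,1,-1,0,0,0], [0,1,-1,1,-1,0,0,0], [1,0,1,-1,0,0,0,0]], [[0,0,0,0,0,0,-1,2], [0,0,0,0,0,-1,2,-1], [0,0,0,0,-1,2,-1,0], [0,0,0,-1,2,-1,0,0], [0,-1,-1,2,-1,0,0,0], [-1,0,2,-1,0,0,0,0], [0,2,0,-1,0,0,0,0], [2,0,-1,0,0,0,0,0]], [[0,0,0,0,0,0,1,-2], [0,0,0,0,0,1,-2,1], [0,0,0,0,1,-2,1,0], [0,0,0,1,-2,1,0,0], [0,1,1,-2,1,0,0,0], [1,0,-2,1,0,0,0,0], [0,-2,0,1,0,0,0,0], [-2,0,1,0,0,0,0,0]], [[0,0,0,0,0,1,-1,-1], [0,0,0,0,1,-1,-1,1], [0,0,0,1,-1,-1,1,0], [0,1,1,-1,-1,1,0,0], [0,-1,1,-1,1,0,0,0], [1,1,-1,-1,1,0,0,0], [-1,0,-1,1,0,0,0,0]],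 [[0,0,0,0,1,-1,0,-1], [0,0,0,1,-1,0,-1,1], [0,1,1,-1,0,-1,1,0], [0,-1,1,0,-1,1,0,0], [1,1,-1,0,-1,1,0,0], [1,-1,-1,0,1,0,0,0], [-1,1,0,-1,1,0,0,0]], [[0,0,0,1,-1,0,0,-1], [0,1,1,-1,0,0,-1,1], [0,-1,1,0,0,-1,1,0], [1,1,-1,0,0,-1,1,0], [1,-1,-1,1,-1,1,0,0], [-1,1,0,0,-1,1,0,0], [-1,-1,0,0,1,0,0,0]], [[0,1,1,-1,0,0,0,-1], [0,-1,1,0,0,0,-1,1], [1,1,-1,0,0,0,-1,1], [1,-1,-1,1,0,-1,1,0], [-1,1,0,0,0,-1,1,0], [-1,-1,0,1,-1,1,0,0], [1,0,0,-1,0,1,0,0]], [[0,-1,1,0,0,0,0,-1], [1,1,-1,0,0,0,0,-1], [1,-1,-1,1,0,0,-1,1], [-1,1,0,0,0,0,-1,1], [-1,-1,0,1,0,-1,1,0], [1,0,0,-1,1,-1,1,0], [-1,0,1,-1,0,1,0,0]], [[1,-1,-1,1,0,0,0,-1], [-1,1,0,0,0,0,0,-1], [-1,-1,0,1,0,0,-1,1], [1,0,0,-1,1,0,-1,1], [-1,0,1,-1,1,-1,1,0], [1,0,0,0,-1,0,1,0], [0,0,-1,0,0,1,0,0]],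 [[-1,-1,0,1,0,0,0,-1], [1,0,0,-1,1,0,0,-1], [-1,0,1,-1,1,0,-1,1], [1,0,0,0,-1,1,-1,1], [0,0,-1,0,1,-1,1,0], [-1,0,1,0,-1,0,1,0]], [[-1,0,1,-1,1,0,0,-1], [1,0,0,0,-1,1,0,-1], [0,0,-1,0,1,0,-1,1], [-1,0,1,0,-1,1,-1,1], [1,0,0,0,0,-1,0,1], [0,0,-1,1,-1,0,1,0]], [[0,0,-1,0,1,0,0,-1], [-1,0,1,0,-1,1,0,-1], [1,0,0,0,0,-1,1,-1], [0,0,-1,1,-1,1,-1,1], [-1,0,1,0,0,-1,0,1], [0,1,0,-1,0,0,1,0]], [[0,0,-1,1,-1,1,0,-1], [-1,0,1,0,0,-1,1,-1], [1,0,0,0,0,0,-1,0], [0,1,0,-1,0,1,-1,1], [0,0,-1,1,0,-1,0,1], [0,-1,0,0,0,0,1,0]], [[0,1,0,-1,0,1,0,-1], [0,0,-1,1,0,-1,1,-1], [-1,0,1,0,0,0,-1,0], [0,-1,0,0,0,1,-1,1], [0,1,0,-1,1,-1,0,1]], [[0,-1,0,0,0,1,0,-1], [0,1,0,-1,1,-1,1,-1], [0,0,-1,1,0,0,-1,0], [0,-1,0,0,1,-1,0,1], [0,1,0,0,-1,0,0,1]], [[0,-1,0,0,1,-1,1,-1],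 [0,1,0,0,-1,0,1,-1], [0,1,0,-1,1,0,-1,0], [0,-1,0,1,-1,0,0,1]], [[0,-1,0,1,-1,0,1,-1], [0,-1,0,0,1,0,-1,0], [0,1,0,0,-1,1,-1,0], [0,0,1,-1,0,0,0,1]], [[0,0,1,-1,0,0,1,-1], [0,-1,0,1,-1,1,-1,0], [0,1,0,0,0,-1,0,0], [1,0,-1,0,0,0,0,1]], [[1,0,-1,0,0,0,1,-1], [0,0,1,-1,0,1,-1,0], [0,-1,0,1,0,-1,0,0], [-1,0,0,0,0,0,0,1]], [[-1,0,0,0,0,0,1,-1], [1,0,-1,0,0,1,-1,0], [0,0,1,-1,1,-1,0,0]], [[-1,0,0,0,0,1,-1,0], [1,0,-1,0,1,-1,0,0], [0,0,1,0,-1,0,0,0]], [[-1,0,0,0,1,-1,0,0], [1,0,-1,1,-1,0,0,0]], [[-1,0,0,1,-1,0,0,0], [1,1,0,-1,0,0,0,0]], [[-1,1,1,-1,0,0,0,0], [1,-1,0,0,0,0,0,0]], [[-1,-1,1,0,0,0,0,0], [0,1,-1,0,0,0,0,0]], [[0,-1,-1,1,0,0,0,0]], [[0,0,0,-1,1,0,0,0]], [[0,0,0,0,-1,1,0,0]], [[0,0,0,0,0,-1,1,0]], [[0,0,0,0,0,0,-1,1]], [[0,0,0,0,0,0,0,-1]]]),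
  (6, [[[0,0,0,0,0,1,-1,1]], [[0,0,0,0,1,-1,0,1]], [[0,0,0,1,-1,0,0,1]], [[0,1,1,-1,0,0,0,1]], [[0,-1,1,0,0,0,0,1], [1,1,-1,0,0,0,0,1]], [[1,-1,-1,1,0,0,0,1], [-1,1,0,0,0,0,0,1]], [[-1,-1,0,1,0,0,0,1], [1,0,0,-1,1,0,0,1]], [[-1,0,1,-1,1,0,0,1], [1,0,0,0,-1,1,0,1]], [[0,0,-1,0,1,0,0,1], [-1,0,1,0,-1,1,0,1], [1,0,0,0,0,-1,1,1]], [[0,0,-1,1,-1,1,0,1], [-1,0,1,0,0,-1,1,1], [1,0,0,0,0,0,-1,2]], [[0,1,0,-1,0,1,0,1], [0,0,-1,1,0,-1,1,1], [-1,0,1,0,0,0,-1,2]], [[0,-1,0,0,0,1,0,1], [0,1,0,-1,1,-1,1,1], [0,0,-1,1,0,0,-1,2]], [[0,-1,0,0,1,-1,1,1], [0,1,0,0,-1,0,1,1], [0,1,0,-1,1,0,-1,2]], [[0,-1,0,1,-1,0,1,1], [0,-1,0,0,1,0,-1,2], [0,1,0,0,-1,1,-1,2]], [[0,0,1,-1,0,0,1,1], [0,-1,0,1,-1,1,-1,2], [0,1,0,0,0,-1,0,2]], [[1,0,-1,0,0,0,1,1], [0,0,1,-1,0,1,-1,2],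 [0,-1,0,1,0,-1,0,2]], [[-1,0,0,0,0,0,1,1], [1,0,-1,0,0,1,-1,2], [0,0,1,-1,1,-1,0,2]], [[-1,0,0,0,0,1,-1,2], [1,0,-1,0,1,-1,0,2], [0,0,1,0,-1,0,0,2]], [[-1,0,0,0,1,-1,0,2], [1,0,-1,1,-1,0,0,2]], [[-1,0,0,1,-1,0,0,2], [1,1,0,-1,0,0,0,2]], [[-1,1,1,-1,0,0,0,2], [1,-1,0,0,0,0,0,2]], [[-1,-1,1,0,0,0,0,2], [0,1,-1,0,0,0,0,2]], [[0,-1,-1,1,0,0,0,2]], [[0,0,0,-1,1,0,0,2]], [[0,0,0,0,-1,1,0,2]], [[0,0,0,0,0,-1,1,2]], [[0,0,0,0,0,0,-1,3]]]),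
  (0, [[[-1,0,1,0,0,0,0,0]], [[0,0,-1,1,0,0,0,0]], [[0,1,0,-1,1,0,0,0]], [[0,-1,0,0,1,0,0,0], [0,1,0,0,-1,1,0,0]], [[0,-1,0,1,-1,1,0,0], [0,1,0,0,0,-1,1,0]], [[0,0,1,-1,0,1,0,0], [0,-1,0,1,0,-1,1,0]], [[1,0,-1,0,0,1,0,0], [0,0,1,-1,1,-1,1,0]], [[-1,0,0,0,0,1,0,0], [1,0,-1,0,1,-1,1,0], [0,0,1,0,-1,0,1,0]], [[-1,0,0,0,1,-1,1,0], [1,0,-1,1,-1,0,1,0]], [[-1,0,0,1,-1,0,1,0], [1,1,0,-1,0,0,1,0]], [[-1,1,1,-1,0,0,1,0], [1,-1,0,0,0,0,1,0]], [[-1,-1,1,0,0,0,1,0], [0,1,-1,0,0,0,1,0]], [[0,-1,-1,1,0,0,1,0]], [[0,0,0,-1,1,0,1,0]], [[0,0,0,0,-1,1,1,0]], [[0,0,0,0,0,-1,2,0]]]),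
  (1, [[[0,-1,0,1,0,0,0,0]], [[0,0,1,-1,1,0,0,0]], [[1,0,-1,0,1,0,0,0], [0,0,1,0,-1,1,0,0]], [[1,0,-1,1,-1,1,0,0], [0,0,1,0,0,-1,1,0]], [[1,1,0,-1,0,1,0,0], [1,0,-1,1,0,-1,1,0]], [[1,-1,0,0,0,1,0,0], [1,1,0,-1,1,-1,1,0]], [[1,-1,0,0,1,-1,1,0], [1,1,0,0,-1,0,1,0]], [[1,-1,0,1,-1,0,1,0]], [[1,0,1,-1,0,0,1,0]], [[2,0,-1,0,0,0,1,0]]]),
  (2, [[[1,0,-1,1,0,0,0,0]], [[1,1,0,-1,1,0,0,0]], [[1,1,0,0,-1,1,0,0]], [[1,1,0,0,0,-1,1,0]]]),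
  (3, [[[0,1,1,-1,1,0,0,0]], [[0,1,1,0,-1,1,0,0]], [[0,1,1,0,0,-1,1,0]]]),
  (4, [[[0,0,0,1,-1,1,0,0]], [[0,0,0,1,0,-1,1,0]]]),
  (5, [[[0,0,0,0,1,-1,1,0]]])]

set_option maxRecDepth 100000 in
theorem chkE8 : chkAll 8 rowsE8 (List.finRange 8) dataE8 = true := by
  decide +kernel

theorem diagE8 : ∀ i, AE8 i i = 2 := by decide +kernel

theorem lenE8 : ∀ i : Fin 8, (rowsE8.getD i []).length = 8 := by decide +kernel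

end CfsgLib.BNP.Data
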