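import Mathlib
import Cfsg.Prelude.Def_ChevStructure
import Cfsg.Agent.Lib.COX5
import Cfsg.Agent.Lib.COX6

/-! Orders and Coxeter numbers of the presented Coxeter groups (generated). -/

namespace CfsgLib.BNP.Data

set_option maxHeartbeats 4000000 in
/-- orbits of the Coxeter element, type B2 -/
def trajB2 : List (List (List ℤ)) :=
  [[[-1,1], [-1,0], [1,-1]],
  [[-2,1], [0,-1], [2,-1]]]

set_option maxRecDepth 100000 in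
theorem chkCB2 : chkC 2 rowsB2 4 trajB2 = true := by
  decide +kernel

theorem typbB2 : ∀ i j : Fin 2, (decide (i = j) ||
    decide (CType (AB2 i j) (AB2 j i) ((CoxeterMatrix.B 2) i j))) = true := by
  decide +kernel

theorem typB2 : ∀ i j : Fin 2, i ≠ j → CType (AB2 i j) (AB2 j i) ((CoxeterMatrix.B 2) i j) := by
  intro i j hij
  simpa [hij] using typbB2 i j

/-- the Coxeter group of type B2 -/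
noncomputable def coxB2 : Cox (CoxeterMatrix.B 2).toCoxeterSystem.simple AB2 :=
  Cox.ofSystem (CoxeterMatrix.B 2).toCoxeterSystem diagB2 typB2

theorem orderOf_coxB2 : orderOf ((List.finRange 2).map (CoxeterMatrix.B 2).simple).prod = 4 :=
  coxB2.orderOf_cox (fun _ _ => rfl) lenB2 chkCB2

theorem card_coxB2 : Nat.card (CoxeterMatrix.B 2).Group = 8 := by
  obtain ⟨h1, h2⟩ := coxB2.gen_top (fun _ _ => rfl) lenB2 dataB2 chkB2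
  haveI := Fintype.ofFinite (CoxeterMatrix.B 2).Group
  have h3 := h2 1
  simp only [one_pow, Finset.sum_const, Finset.card_univ, smul_eq_mul, mul_one] at h3
  rw [Nat.card_eq_fintype_card, h3]
  decide +kernel

set_option maxHeartbeats 4000000 in
/-- orbits of the Coxeter element, type G2 -/
def trajG2 : List (List (List ℤ)) :=
  [[[-1,1], [-2,1], [-1,0], [1,-1], [2,-1]],
  [[-3,2], [-3,1], [0,-1], [3,-2], [3,-1]]]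

set_option maxRecDepth 100000 in
theorem chkCG2 : chkC 2 rowsG2 6 trajG2 = true := by
  decide +kernel

theorem typbG2 : ∀ i j : Fin 2, (decide (i = j) ||
    decide (CType (AG2 i j) (AG2 j i) ((CoxeterMatrix.G₂) i j))) = true := by
  decide +kernel

theorem typG2 : ∀ i j : Fin 2, i ≠ j → CType (AG2 i j) (AG2 j i) ((CoxeterMatrix.G₂) i j) := by
  intro i j hij
  simpa [hij] using typbG2 i j

/-- the Coxeter group of type G2 -/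
noncomputable def coxG2 : Cox (CoxeterMatrix.G₂).toCoxeterSystem.simple AG2 :=
  Cox.ofSystem (CoxeterMatrix.G₂).toCoxeterSystem diagG2 typG2

theorem orderOf_coxG2 : orderOf ((List.finRange 2).map (CoxeterMatrix.G₂).simple).prod = 6 :=
  coxG2.orderOf_cox (fun _ _ => rfl) lenG2 chkCG2

theorem card_coxG2 : Nat.card (CoxeterMatrix.G₂).Group = 12 := by
  obtain ⟨h1, h2⟩ := coxG2.gen_top (fun _ _ => rfl) lenG2 dataG2 chkG2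
  haveI := Fintype.ofFinite (CoxeterMatrix.G₂).Group
  have h3 := h2 1
  simp only [one_pow, Finset.sum_const, Finset.card_univ, smul_eq_mul, mul_one] at h3
  rw [Nat.card_eq_fintype_card, h3]
  decide +kernel

set_option maxHeartbeats 4000000 in
/-- orbits of the Coxeter element, type D4 -/
def trajD4 : List (List (List ℤ)) :=
  [[[-1,1,0,0], [0,-1,1,1], [-1,0,0,0], [1,-1,0,0], [0,1,-1,-1]],
  [[-1,0,1,1], [-1,-1,1,1], [0,-1,0,0], [1,0,-1,-1], [1,1,-1,-1]],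
  [[-1,0,0,1], [0,-1,1,0], [0,0,-1,0], [1,0,0,-1], [0,1,-1,0]],
  [[-1,0,1,0], [0,-1,0,1], [0,0,0,-1], [1,0,-1,0], [0,1,0,-1]]]

set_option maxRecDepth 100000 in
theorem chkCD4 : chkC 4 rowsD4 6 trajD4 = true := by
  decide +kernel

theorem typbD4 : ∀ i j : Fin 4, (decide (i = j) ||
    decide (CType (AD4 i j) (AD4 j i) ((Cfsg.Lie.coxeterD4) i j))) = true := by
  decide +kernel

theorem typD4 : ∀ i j : Fin 4, i ≠ j → CType (AD4 i j) (AD4 j i) ((Cfsg.Lie.coxeterD4) i j) := by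
  intro i j hij
  simpa [hij] using typbD4 i j

/-- the Coxeter group of type D4 -/
noncomputable def coxD4 : Cox (Cfsg.Lie.coxeterD4).toCoxeterSystem.simple AD4 :=
  Cox.ofSystem (Cfsg.Lie.coxeterD4).toCoxeterSystem diagD4 typD4

theorem orderOf_coxD4 : orderOf ((List.finRange 4).map (Cfsg.Lie.coxeterD4).simple).prod = 6 :=
  coxD4.orderOf_cox (fun _ _ => rfl) lenD4 chkCD4

theorem card_coxD4 : Nat.card (Cfsg.Lie.coxeterD4).Group = 192 := by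
  obtain ⟨h1, h2⟩ := coxD4.gen_top (fun _ _ => rfl) lenD4 dataD4 chkD4
  haveI := Fintype.ofFinite (Cfsg.Lie.coxeterD4).Group
  have h3 := h2 1
  simp only [one_pow, Finset.sum_const, Finset.card_univ, smul_eq_mul, mul_one] at h3
  rw [Nat.card_eq_fintype_card, h3]
  decide +kernel

set_option maxHeartbeats 4000000 in
/-- orbits of the Coxeter element, type F4 -/
def trajF4 : List (List (List ℤ)) :=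
  [[[-1,1,0,0], [0,-1,1,0], [-1,0,0,1], [-1,-1,1,0], [0,-1,0,1], [-1,0,0,0], [1,-1,0,0], [0,1,-1,0], [1,0,0,-1], [1,1,-1,0], [0,1,0,-1]],
  [[-1,0,1,0], [-1,-1,1,1], [-2,-1,1,1], [-1,-2,1,1], [-1,-1,0,1], [0,-1,0,0], [1,0,-1,0], [1,1,-1,-1], [2,1,-1,-1], [1,2,-1,-1], [1,1,0,-1]],
  [[-2,0,1,1], [-2,-2,2,1], [-2,-2,1,2], [-2,-2,1,1], [0,-2,0,1], [0,0,-1,0], [2,0,-1,-1], [2,2,-2,-1], [2,2,-1,-2], [2,2,-1,-1], [0,2,0,-1]],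
  [[-2,0,1,0], [0,-2,1,1], [-2,0,0,1], [0,-2,1,0], [0,0,-1,1], [0,0,0,-1], [2,0,-1,0], [0,2,-1,-1], [2,0,0,-1], [0,2,-1,0], [0,0,1,-1]]]

set_option maxRecDepth 100000 in
theorem chkCF4 : chkC 4 rowsF4 12 trajF4 = true := by
  decide +kernel

theorem typbF4 : ∀ i j : Fin 4, (decide (i = j) ||
    decide (CType (AF4 i j) (AF4 j i) ((CoxeterMatrix.F₄) i j))) = true := by
  decide +kernel

theorem typF4 : ∀ i j : Fin 4, i ≠ j → CType (AF4 i j) (AF4 j i) ((CoxeterMatrix.F₄) i j) := by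
  intro i j hij
  simpa [hij] using typbF4 i j

/-- the Coxeter group of type F4 -/
noncomputable def coxF4 : Cox (CoxeterMatrix.F₄).toCoxeterSystem.simple AF4 :=
  Cox.ofSystem (CoxeterMatrix.F₄).toCoxeterSystem diagF4 typF4

theorem orderOf_coxF4 : orderOf ((List.finRange 4).map (CoxeterMatrix.F₄).simple).prod = 12 :=
  coxF4.orderOf_cox (fun _ _ => rfl) lenF4 chkCF4

theorem card_coxF4 : Nat.card (CoxeterMatrix.F₄).Group = 1152 := by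
  obtain ⟨h1, h2⟩ := coxF4.gen_top (fun _ _ => rfl) lenF4 dataF4 chkF4
  haveI := Fintype.ofFinite (CoxeterMatrix.F₄).Group
  have h3 := h2 1
  simp only [one_pow, Finset.sum_const, Finset.card_univ, smul_eq_mul, mul_one] at h3
  rw [Nat.card_eq_fintype_card, h3]
  decide +kernel

set_option maxHeartbeats 4000000 in
/-- orbits of the Coxeter element, type E6 -/
def trajE6 : List (List (List ℤ)) :=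
  [[[-1,0,1,0,0,0], [0,0,-1,1,0,0], [0,-1,0,0,1,0], [-1,0,0,0,0,1], [0,-1,-1,1,0,0], [0,0,0,-1,1,0], [0,0,0,0,-1,1], [0,0,0,0,0,-1], [1,1,0,-1,0,0], [0,0,1,0,-1,0], [0,1,0,0,0,-1]],
  [[0,-1,0,1,0,0], [-1,0,0,0,1,0], [0,-1,-1,1,0,1], [-1,-1,0,0,1,0], [0,0,-1,0,0,1], [0,-1,0,0,0,0], [0,1,0,-1,0,0], [1,0,0,0,-1,0], [0,1,1,-1,0,-1], [1,1,0,0,-1,0], [0,0,1,0,0,-1]],
  [[-1,0,0,1,0,0], [0,-1,-1,1,1,0], [-1,-1,0,0,1,1], [-1,-1,-1,1,0,1], [0,-1,-1,0,1,0], [0,0,0,-1,0,1], [0,0,0,0,-1,0], [1,1,0,-1,0,-1], [1,1,1,-1,-1,0], [0,1,1,0,-1,-1], [1,1,0,0,0,-1]],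
  [[-1,-1,0,1,1,0], [-1,-1,-1,1,1,1], [-1,-2,-1,1,1,1], [-1,-1,-1,0,1,1], [0,-1,-1,0,0,1], [0,0,0,-1,0,0], [1,1,0,-1,-1,0], [1,1,1,-1,-1,-1], [1,2,1,-1,-1,-1], [1,1,1,0,-1,-1], [0,1,1,0,0,-1]],
  [[-1,-1,0,1,0,1], [-1,-1,-1,1,1,0], [0,-1,-1,0,1,1], [-1,-1,0,0,0,1], [0,0,-1,0,0,0], [1,0,0,-1,0,0], [0,1,1,-1,-1,0], [1,1,0,0,-1,-1], [1,1,1,-1,0,-1], [0,1,1,0,-1,0], [0,0,0,1,0,-1]],
  [[-1,-1,0,1,0,0], [0,0,-1,0,1,0], [0,-1,0,0,0,1], [-1,0,0,0,0,0], [1,0,-1,0,0,0], [0,0,1,-1,0,0], [0,1,0,0,-1,0], [1,0,0,0,0,-1], [0,1,1,-1,0,0], [0,0,0,1,-1,0], [0,0,0,0,1,-1]]]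

set_option maxRecDepth 100000 in
theorem chkCE6 : chkC 6 rowsE6 12 trajE6 = true := by
  decide +kernel

theorem typbE6 : ∀ i j : Fin 6, (decide (i = j) ||
    decide (CType (AE6 i j) (AE6 j i) ((CoxeterMatrix.E₆) i j))) = true := by
  decide +kernel

theorem typE6 : ∀ i j : Fin 6, i ≠ j → CType (AE6 i j) (AE6 j i) ((CoxeterMatrix.E₆) i j) := by
  intro i j hij
  simpa [hij] using typbE6 i j

/-- the Coxeter group of type E6 -/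
noncomputable def coxE6 : Cox (CoxeterMatrix.E₆).toCoxeterSystem.simple AE6 :=
  Cox.ofSystem (CoxeterMatrix.E₆).toCoxeterSystem diagE6 typE6

theorem orderOf_coxE6 : orderOf ((List.finRange 6).map (CoxeterMatrix.E₆).simple).prod = 12 :=
  coxE6.orderOf_cox (fun _ _ => rfl) lenE6 chkCE6

theorem card_coxE6 : Nat.card (CoxeterMatrix.E₆).Group = 51840 := by
  obtain ⟨h1, h2⟩ := coxE6.gen_top (fun _ _ => rfl) lenE6 dataE6 chkE6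
  haveI := Fintype.ofFinite (CoxeterMatrix.E₆).Group
  have h3 := h2 1
  simp only [one_pow, Finset.sum_const, Finset.card_univ, smul_eq_mul, mul_one] at h3
  rw [Nat.card_eq_fintype_card, h3]
  decide +kernel

set_option maxHeartbeats 4000000 in
/-- orbits of the Coxeter element, type E7 -/
def trajE7 : List (List (List ℤ)) :=
  [[[-1,0,1,0,0,0,0], [0,0,-1,1,0,0,0], [0,-1,0,0,1,0,0], [-1,0,0,0,0,1,0], [0,-1,-1,1,0,0,1], [-1,-1,0,0,1,0,0], [0,0,-1,0,0,1,0], [0,-1,0,0,0,0,1], [-1,0,0,0,0,0,0], [1,0,-1,0,0,0,0], [0,0,1,-1,0,0,0], [0,1,0,0,-1,0,0], [1,0,0,0,0,-1,0], [0,1,1,-1,0,0,-1], [1,1,0,0,-1,0,0], [0,0,1,0,0,-1,0], [0,1,0,0,0,0,-1]],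
  [[0,-1,0,1,0,0,0], [-1,0,0,0,1,0,0], [0,-1,-1,1,0,1,0], [-1,-1,0,0,1,0,1], [-1,-1,-1,1,0,1,0], [0,-1,-1,0,1,0,1], [-1,-1,0,0,0,1,0], [0,0,-1,0,0,0,1], [0,-1,0,0,0,0,0], [0,1,0,-1,0,0,0], [1,0,0,0,-1,0,0], [0,1,1,-1,0,-1,0], [1,1,0,0,-1,0,-1], [1,1,1,-1,0,-1,0], [0,1,1,0,-1,0,-1], [1,1,0,0,0,-1,0], [0,0,1,0,0,0,-1]],
  [[-1,0,0,1,0,0,0], [0,-1,-1,1,1,0,0], [-1,-1,0,0,1,1,0], [-1,-1,-1,1,0,1,1], [-1,-2,-1,1,1,0,1], [-1,-1,-1,0,1,1,0], [0,-1,-1,0,0,1,1], [-1,-1,0,0,0,0,1], [0,0,-1,0,0,0,0], [1,0,0,-1,0,0,0], [0,1,1,-1,-1,0,0], [1,1,0,0,-1,-1,0], [1,1,1,-1,0,-1,-1], [1,2,1,-1,-1,0,-1], [1,1,1,0,-1,-1,0], [0,1,1,0,0,-1,-1], [1,1,0,0,0,0,-1]],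
  [[-1,-1,0,1,1,0,0], [-1,-1,-1,1,1,1,0], [-1,-2,-1,1,1,1,1], [-2,-2,-1,1,1,1,1], [-1,-2,-2,1,1,1,1], [-1,-2,-1,0,1,1,1], [-1,-1,-1,0,0,1,1], [0,-1,-1,0,0,0,1], [0,0,0,-1,0,0,0], [1,1,0,-1,-1,0,0], [1,1,1,-1,-1,-1,0], [1,2,1,-1,-1,-1,-1], [2,2,1,-1,-1,-1,-1], [1,2,2,-1,-1,-1,-1], [1,2,1,0,-1,-1,-1], [1,1,1,0,0,-1,-1], [0,1,1,0,0,0,-1]],
  [[-1,-1,0,1,0,1,0], [-1,-1,-1,1,1,0,1], [-1,-2,-1,1,1,1,0], [-1,-1,-1,0,1,1,1], [-1,-2,-1,1,0,1,1], [-1,-1,-1,0,1,0,1], [0,-1,-1,0,0,1,0], [0,0,0,-1,0,0,1], [0,0,0,0,-1,0,0], [1,1,0,-1,0,-1,0], [1,1,1,-1,-1,0,-1], [1,2,1,-1,-1,-1,0], [1,1,1,0,-1,-1,-1], [1,2,1,-1,0,-1,-1], [1,1,1,0,-1,0,-1], [0,1,1,0,0,-1,0], [0,0,0,1,0,0,-1]],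
  [[-1,-1,0,1,0,0,1], [-1,-1,-1,1,1,0,0], [0,-1,-1,0,1,1,0], [-1,-1,0,0,0,1,1], [-1,-1,-1,1,0,0,1], [0,-1,-1,0,1,0,0], [0,0,0,-1,0,1,0], [0,0,0,0,-1,0,1], [0,0,0,0,0,-1,0], [1,1,0,-1,0,0,-1], [1,1,1,-1,-1,0,0], [0,1,1,0,-1,-1,0], [1,1,0,0,0,-1,-1], [1,1,1,-1,0,0,-1], [0,1,1,0,-1,0,0], [0,0,0,1,0,-1,0], [0,0,0,0,1,0,-1]],
  [[-1,-1,0,1,0,0,0], [0,0,-1,0,1,0,0], [0,-1,0,0,0,1,0], [-1,0,0,0,0,0,1], [0,-1,-1,1,0,0,0], [0,0,0,-1,1,0,0], [0,0,0,0,-1,1,0], [0,0,0,0,0,-1,1], [0,0,0,0,0,0,-1], [1,1,0,-1,0,0,0], [0,0,1,0,-1,0,0], [0,1,0,0,0,-1,0], [1,0,0,0,0,0,-1], [0,1,1,-1,0,0,0], [0,0,0,1,-1,0,0], [0,0,0,0,1,-1,0], [0,0,0,0,0,1,-1]]]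

set_option maxRecDepth 100000 in
theorem chkCE7 : chkC 7 rowsE7 18 trajE7 = true := by
  decide +kernel

theorem typbE7 : ∀ i j : Fin 7, (decide (i = j) ||
    decide (CType (AE7 i j) (AE7 j i) ((CoxeterMatrix.E₇) i j))) = true := by
  decide +kernel

theorem typE7 : ∀ i j : Fin 7, i ≠ j → CType (AE7 i j) (AE7 j i) ((CoxeterMatrix.E₇) i j) := by
  intro i j hij
  simpa [hij] using typbE7 i j

/-- the Coxeter group of type E7 -/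
noncomputable def coxE7 : Cox (CoxeterMatrix.E₇).toCoxeterSystem.simple AE7 :=
  Cox.ofSystem (CoxeterMatrix.E₇).toCoxeterSystem diagE7 typE7

theorem orderOf_coxE7 : orderOf ((List.finRange 7).map (CoxeterMatrix.E₇).simple).prod = 18 :=
  coxE7.orderOf_cox (fun _ _ => rfl) lenE7 chkCE7

theorem card_coxE7 : Nat.card (CoxeterMatrix.E₇).Group = 2903040 := by
  obtain ⟨h1, h2⟩ := coxE7.gen_top (fun _ _ => rfl) lenE7 dataE7 chkE7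
  haveI := Fintype.ofFinite (CoxeterMatrix.E₇).Group
  have h3 := h2 1
  simp only [one_pow, Finset.sum_const, Finset.card_univ, smul_eq_mul, mul_one] at h3
  rw [Nat.card_eq_fintype_card, h3]
  decide +kernel

set_option maxHeartbeats 4000000 in
/-- orbits of the Coxeter element, type E8 -/
def trajE8 : List (List (List ℤ)) :=
  [[[-1,0,1,0,0,0,0,0], [0,0,-1,1,0,0,0,0], [0,-1,0,0,1,0,0,0], [-1,0,0,0,0,1,0,0], [0,-1,-1,1,0,0,1,0], [-1,-1,0,0,1,0,0,1], [-1,-1,-1,1,0,1,0,0], [0,-1,-1,0,1,0,1,0], [-1,-1,0,0,0,1,0,1], [-1,-1,-1,1,0,0,1,0], [0,-1,-1,0,1,0,0,1], [-1,-1,0,0,0,1,0,0], [0,0,-1,0,0,0,1,0], [0,-1,0,0,0,0,0,1], [-1,0,0,0,0,0,0,0], [1,0,-1,0,0,0,0,0], [0,0,1,-1,0,0,0,0], [0,1,0,0,-1,0,0,0], [1,0,0,0,0,-1,0,0], [0,1,1,-1,0,0,-1,0], [1,1,0,0,-1,0,0,-1], [1,1,1,-1,0,-1,0,0], [0,1,1,0,-1,0,-1,0],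 [1,1,0,0,0,-1,0,-1], [1,1,1,-1,0,0,-1,0], [0,1,1,0,-1,0,0,-1], [1,1,0,0,0,-1,0,0], [0,0,1,0,0,0,-1,0], [0,1,0,0,0,0,0,-1]],
  [[0,-1,0,1,0,0,0,0], [-1,0,0,0,1,0,0,0], [0,-1,-1,1,0,1,0,0], [-1,-1,0,0,1,0,1,0], [-1,-1,-1,1,0,1,0,1], [-1,-2,-1,1,1,0,1,0], [-1,-1,-1,0,1,1,0,1], [-1,-2,-1,1,0,1,1,0], [-1,-1,-1,0,1,0,1,1], [-1,-2,-1,1,0,1,0,1], [-1,-1,-1,0,1,0,1,0], [0,-1,-1,0,0,1,0,1], [-1,-1,0,0,0,0,1,0], [0,0,-1,0,0,0,0,1], [0,-1,0,0,0,0,0,0], [0,1,0,-1,0,0,0,0], [1,0,0,0,-1,0,0,0], [0,1,1,-1,0,-1,0,0], [1,1,0,0,-1,0,-1,0], [1,1,1,-1,0,-1,0,-1], [1,2,1,-1,-1,0,-1,0], [1,1,1,0,-1,-1,0,-1], [1,2,1,-1,0,-1,-1,0], [1,1,1,0,-1,0,-1,-1], [1,2,1,-1,0,-1,0,-1], [1,1,1,0,-1,0,-1,0], [0,1,1,0,0,-1,0,-1], [1,1,0,0,0,0,-1,0], [0,0,1,0,0,0,0,-1]],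
  [[-1,0,0,1,0,0,0,0], [0,-1,-1,1,1,0,0,0], [-1,-1,0,0,1,1,0,0], [-1,-1,-1,1,0,1,1,0], [-1,-2,-1,1,1,0,1,1], [-2,-2,-1,1,1,1,0,1], [-1,-2,-2,1,1,1,1,0], [-1,-2,-1,0,1,1,1,1], [-2,-2,-1,1,0,1,1,1], [-1,-2,-2,1,1,0,1,1], [-1,-2,-1,0,1,1,0,1], [-1,-1,-1,0,0,1,1,0], [0,-1,-1,0,0,0,1,1], [-1,-1,0,0,0,0,0,1], [0,0,-1,0,0,0,0,0], [1,0,0,-1,0,0,0,0], [0,1,1,-1,-1,0,0,0], [1,1,0,0,-1,-1,0,0], [1,1,1,-1,0,-1,-1,0], [1,2,1,-1,-1,0,-1,-1], [2,2,1,-1,-1,-1,0,-1], [1,2,2,-1,-1,-1,-1,0], [1,2,1,0,-1,-1,-1,-1], [2,2,1,-1,0,-1,-1,-1], [1,2,2,-1,-1,0,-1,-1], [1,2,1,0,-1,-1,0,-1], [1,1,1,0,0,-1,-1,0], [0,1,1,0,0,0,-1,-1], [1,1,0,0,0,0,0,-1]],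
  [[-1,-1,0,1,1,0,0,0], [-1,-1,-1,1,1,1,0,0], [-1,-2,-1,1,1,1,1,0], [-2,-2,-1,1,1,1,1,1], [-2,-3,-2,2,1,1,1,1], [-2,-3,-2,1,2,1,1,1], [-2,-3,-2,1,1,2,1,1], [-2,-3,-2,1,1,1,2,1], [-2,-3,-2,1,1,1,1,2], [-2,-3,-2,1,1,1,1,1], [-1,-2,-2,0,1,1,1,1], [-1,-2,-1,0,0,1,1,1], [-1,-1,-1,0,0,0,1,1], [0,-1,-1,0,0,0,0,1], [0,0,0,-1,0,0,0,0], [1,1,0,-1,-1,0,0,0], [1,1,1,-1,-1,-1,0,0], [1,2,1,-1,-1,-1,-1,0], [2,2,1,-1,-1,-1,-1,-1], [2,3,2,-2,-1,-1,-1,-1], [2,3,2,-1,-2,-1,-1,-1], [2,3,2,-1,-1,-2,-1,-1], [2,3,2,-1,-1,-1,-2,-1], [2,3,2,-1,-1,-1,-1,-2], [2,3,2,-1,-1,-1,-1,-1], [1,2,2,0,-1,-1,-1,-1], [1,2,1,0,0,-1,-1,-1], [1,1,1,0,0,0,-1,-1], [0,1,1,0,0,0,0,-1]],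
  [[-1,-1,0,1,0,1,0,0], [-1,-1,-1,1,1,0,1,0], [-1,-2,-1,1,1,1,0,1], [-2,-2,-1,1,1,1,1,0], [-1,-2,-2,1,1,1,1,1], [-2,-3,-1,1,1,1,1,1], [-2,-2,-2,1,1,1,1,1], [-1,-3,-2,1,1,1,1,1], [-2,-2,-1,0,1,1,1,1], [-1,-2,-2,1,0,1,1,1], [-1,-2,-1,0,1,0,1,1], [-1,-1,-1,0,0,1,0,1], [0,-1,-1,0,0,0,1,0], [0,0,0,-1,0,0,0,1], [0,0,0,0,-1,0,0,0], [1,1,0,-1,0,-1,0,0], [1,1,1,-1,-1,0,-1,0], [1,2,1,-1,-1,-1,0,-1], [2,2,1,-1,-1,-1,-1,0], [1,2,2,-1,-1,-1,-1,-1], [2,3,1,-1,-1,-1,-1,-1], [2,2,2,-1,-1,-1,-1,-1], [1,3,2,-1,-1,-1,-1,-1], [2,2,1,0,-1,-1,-1,-1], [1,2,2,-1,0,-1,-1,-1], [1,2,1,0,-1,0,-1,-1], [1,1,1,0,0,-1,0,-1], [0,1,1,0,0,0,-1,0], [0,0,0,1,0,0,0,-1]],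
  [[-1,-1,0,1,0,0,1,0], [-1,-1,-1,1,1,0,0,1], [-1,-2,-1,1,1,1,0,0], [-1,-1,-1,0,1,1,1,0], [-1,-2,-1,1,0,1,1,1], [-2,-2,-1,1,1,0,1,1], [-1,-2,-2,1,1,1,0,1], [-1,-2,-1,0,1,1,1,0], [-1,-1,-1,0,0,1,1,1], [-1,-2,-1,1,0,0,1,1], [-1,-1,-1,0,1,0,0,1], [0,-1,-1,0,0,1,0,0], [0,0,0,-1,0,0,1,0], [0,0,0,0,-1,0,0,1], [0,0,0,0,0,-1,0,0], [1,1,0,-1,0,0,-1,0], [1,1,1,-1,-1,0,0,-1], [1,2,1,-1,-1,-1,0,0], [1,1,1,0,-1,-1,-1,0], [1,2,1,-1,0,-1,-1,-1], [2,2,1,-1,-1,0,-1,-1], [1,2,2,-1,-1,-1,0,-1], [1,2,1,0,-1,-1,-1,0], [1,1,1,0,0,-1,-1,-1], [1,2,1,-1,0,0,-1,-1], [1,1,1,0,-1,0,0,-1], [0,1,1,0,0,-1,0,0], [0,0,0,1,0,0,-1,0], [0,0,0,0,1,0,0,-1]],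
  [[-1,-1,0,1,0,0,0,1], [-1,-1,-1,1,1,0,0,0], [0,-1,-1,0,1,1,0,0], [-1,-1,0,0,0,1,1,0], [-1,-1,-1,1,0,0,1,1], [-1,-2,-1,1,1,0,0,1], [-1,-1,-1,0,1,1,0,0], [0,-1,-1,0,0,1,1,0], [-1,-1,0,0,0,0,1,1], [-1,-1,-1,1,0,0,0,1], [0,-1,-1,0,1,0,0,0], [0,0,0,-1,0,1,0,0], [0,0,0,0,-1,0,1,0], [0,0,0,0,0,-1,0,1], [0,0,0,0,0,0,-1,0], [1,1,0,-1,0,0,0,-1], [1,1,1,-1,-1,0,0,0], [0,1,1,0,-1,-1,0,0], [1,1,0,0,0,-1,-1,0], [1,1,1,-1,0,0,-1,-1], [1,2,1,-1,-1,0,0,-1], [1,1,1,0,-1,-1,0,0], [0,1,1,0,0,-1,-1,0], [1,1,0,0,0,0,-1,-1], [1,1,1,-1,0,0,0,-1], [0,1,1,0,-1,0,0,0], [0,0,0,1,0,-1,0,0], [0,0,0,0,1,0,-1,0], [0,0,0,0,0,1,0,-1]],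
  [[-1,-1,0,1,0,0,0,0], [0,0,-1,0,1,0,0,0], [0,-1,0,0,0,1,0,0], [-1,0,0,0,0,0,1,0], [0,-1,-1,1,0,0,0,1], [-1,-1,0,0,1,0,0,0], [0,0,-1,0,0,1,0,0], [0,-1,0,0,0,0,1,0], [-1,0,0,0,0,0,0,1], [0,-1,-1,1,0,0,0,0], [0,0,0,-1,1,0,0,0], [0,0,0,0,-1,1,0,0], [0,0,0,0,0,-1,1,0], [0,0,0,0,0,0,-1,1], [0,0,0,0,0,0,0,-1], [1,1,0,-1,0,0,0,0], [0,0,1,0,-1,0,0,0], [0,1,0,0,0,-1,0,0], [1,0,0,0,0,0,-1,0], [0,1,1,-1,0,0,0,-1], [1,1,0,0,-1,0,0,0], [0,0,1,0,0,-1,0,0], [0,1,0,0,0,0,-1,0], [1,0,0,0,0,0,0,-1], [0,1,1,-1,0,0,0,0], [0,0,0,1,-1,0,0,0], [0,0,0,0,1,-1,0,0], [0,0,0,0,0,1,-1,0], [0,0,0,0,0,0,1,-1]]]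

set_option maxRecDepth 100000 in
theorem chkCE8 : chkC 8 rowsE8 30 trajE8 = true := by
  decide +kernel

theorem typbE8 : ∀ i j : Fin 8, (decide (i = j) ||
    decide (CType (AE8 i j) (AE8 j i) ((CoxeterMatrix.E₈) i j))) = true := by
  decide +kernel

theorem typE8 : ∀ i j : Fin 8, i ≠ j → CType (AE8 i j) (AE8 j i) ((CoxeterMatrix.E₈) i j) := by
  intro i j hij
  simpa [hij] using typbE8 i j

/-- the Coxeter group of type E8 -/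
noncomputable def coxE8 : Cox (CoxeterMatrix.E₈).toCoxeterSystem.simple AE8 :=
  Cox.ofSystem (CoxeterMatrix.E₈).toCoxeterSystem diagE8 typE8

theorem orderOf_coxE8 : orderOf ((List.finRange 8).map (CoxeterMatrix.E₈).simple).prod = 30 :=
  coxE8.orderOf_cox (fun _ _ => rfl) lenE8 chkCE8

theorem card_coxE8 : Nat.card (CoxeterMatrix.E₈).Group = 696729600 := by
  obtain ⟨h1, h2⟩ := coxE8.gen_top (fun _ _ => rfl) lenE8 dataE8 chkE8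
  haveI := Fintype.ofFinite (CoxeterMatrix.E₈).Group
  have h3 := h2 1
  simp only [one_pow, Finset.sum_const, Finset.card_univ, smul_eq_mul, mul_one] at h3
  rw [Nat.card_eq_fintype_card, h3]
  decide +kernel

end CfsgLib.BNP.Data
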