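import Cfsg.Agent.Lib.Chev12
import Cfsg.Agent.Lib.ChevNE6
set_option autoImplicit false
set_option maxRecDepth 1000000

namespace CfsgLib.Chev
open Cfsg.Lie

def rcE6 : Tr := .node (.node (.node (.node (.node (.node (.node (.leaf 7755367) (.leaf 9021849)) (.node (.leaf 8943752) (.leaf 0))) (.node (.node (.leaf 7759736) (.leaf 0)) (.node (.leaf 9017496) (.leaf 0)))) (.node (.node (.node (.leaf 7829367) (.leaf 0)) (.node (.leaf 9017480) (.leaf 0))) (.node (.node (.leaf 8943736) (.leaf 0)) (.node (.leaf 8947849) (.leaf 0))))) (.node (.node (.node (.node (.leaf 8873591) (.leaf 10070681)) (.node (.leaf 9996424) (.leaf 0))) (.node (.node (.leaf 8877944) (.leaf 0)) (.node (.leaf 10066328) (.leaf 0)))) (.node (.node (.node (.leaf 8877959) (.leaf 0)) (.node (.leaf 9017736) (.leaf 0))) (.node (.node (.leaf 8943496) (.leaf 0)) (.node (.leaf 10066313) (.leaf 0)))))) (.node (.node (.node (.node (.node (.leaf 7759479) (.leaf 10135961)) (.node (.leaf 8882312) (.leaf 0)))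 (.node (.node (.leaf 8873848) (.leaf 0)) (.node (.leaf 8952216) (.leaf 0)))) (.node (.node (.node (.leaf 8943479) (.leaf 0)) (.node (.leaf 8948104) (.leaf 0))) (.node (.node (.leaf 7829384) (.leaf 0)) (.node (.leaf 8952201) (.leaf 0))))) (.node (.node (.node (.node (.leaf 7825271) (.leaf 10140313)) (.node (.leaf 10061960) (.leaf 0))) (.node (.node (.leaf 7829624) (.leaf 0)) (.node (.leaf 10070424) (.leaf 0)))) (.node (.node (.node (.leaf 8947591) (.leaf 0)) (.node (.leaf 8947864) (.leaf 0))) (.node (.node (.leaf 7829640) (.leaf 0)) (.node (.leaf 9017753) (.leaf 0))))))) (.node (.node (.node (.node (.node (.node (.leaf 7755383) (.leaf 10070425)) (.node (.leaf 7833736) (.leaf 0))) (.node (.node (.leaf 7825272) (.leaf 0)) (.node (.leaf 10066072) (.leaf 0)))) (.node (.node (.node (.leaf 8877943) (.leaf 0)) (.node (.leaf 10066056) (.leaf 0))) (.node (.node (.leaf 8947832) (.leaf 0)) (.node (.leaf 8948105) (.leaf 0))))) (.node (.node (.node (.node (.leaf 7759735)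 (.leaf 10136217)) (.node (.leaf 9013384) (.leaf 0))) (.node (.node (.leaf 8943480) (.leaf 0)) (.node (.leaf 9021848) (.leaf 0)))) (.node (.node (.node (.leaf 8943495) (.leaf 0)) (.node (.leaf 10066312) (.leaf 0))) (.node (.node (.leaf 8947592) (.leaf 0)) (.node (.leaf 8952217) (.leaf 0)))))) (.node (.node (.node (.node (.node (.leaf 7825015) (.leaf 9022105)) (.node (.leaf 7899272) (.leaf 0))) (.node (.node (.leaf 7829368) (.leaf 0)) (.node (.leaf 9017752) (.leaf 0)))) (.node (.node (.node (.leaf 7829383) (.leaf 0)) (.node (.leaf 8952200) (.leaf 0))) (.node (.node (.leaf 8877960) (.leaf 0)) (.node (.leaf 9017737) (.leaf 0))))) (.node (.node (.node (.node (.leaf 8873847) (.leaf 10140329)) (.node (.leaf 8951944) (.leaf 0))) (.node (.node (.leaf 8878200) (.leaf 0)) (.node (.leaf 10135960) (.leaf 0)))) (.node (.node (.node (.leaf 8947847) (.leaf 0)) (.node (.leaf 8951960) (.leaf 0))) (.node (.node (.leaf 8878216) (.leaf 0)) (.node (.leaf 10066329) (.leaf 0)))))))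
def CLE6 : List (List ℤ) := [[2, 0, -1, 0, 0, 0], [0, 2, 0, -1, 0, 0], [-1, 0, 2, -1, 0, 0], [0, -1, -1, 2, -1, 0], [0, 0, 0, -1, 2, -1], [0, 0, 0, 0, -1, 2]]
def KLE6 : List (List ℤ) := [[4, 3, 5, 6, 4, 2], [3, 6, 6, 9, 6, 3], [5, 6, 10, 12, 8, 4], [6, 9, 12, 18, 12, 6], [4, 6, 8, 12, 10, 5], [2, 3, 4, 6, 5, 4]]
theorem rvcE6 : rvChk 6 72 chevE6 rcE6.get CLE6 = true := by decide +kernel
theorem kcE6 : kChk 6 CLE6 KLE6 3 = true := by decide +kernel
noncomputable def gdE6 : GD chevE6 := mkGD nfE6 rcE6.get CLE6 KLE6 3 (by norm_num) rvcE6 kcE6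
end CfsgLib.Chev
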