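import Cfsg.Agent.Lib.Chev12
import Cfsg.Agent.Lib.ChevNE7
set_option autoImplicit false
set_option maxRecDepth 1000000

namespace CfsgLib.Chev
open Cfsg.Lie

def rcE7 : Tr := .node (.node (.node (.node (.node (.node (.node (.leaf 124077414) (.leaf 144214152)) (.node (.leaf 143165575) (.leaf 143235465))) (.node (.node (.leaf 143091319) (.leaf 143235224)) (.node (.leaf 125269896) (.leaf 144353945)))) (.node (.node (.node (.leaf 124147319) (.leaf 161061000)) (.node (.leaf 142047096) (.leaf 144288153))) (.node (.node (.leaf 142047095) (.leaf 144288152)) (.node (.leaf 143161480) (.leaf 161135273))))) (.node (.node (.node (.node (.leaf 124147303) (.leaf 161056904)) (.node (.leaf 125265784) (.leaf 143235481))) (.node (.node (.leaf 125265783) (.leaf 143235480)) (.node (.leaf 143165320) (.leaf 161135257)))) (.node (.node (.node (.leaf 125199991) (.leaf 144284040)) (.node (.leaf 142047352) (.leaf 162179481))) (.node (.node (.leaf 142047111) (.leaf 162179480)) (.node (.leaf 125339784) (.leaf 162253737)))))) (.node (.node (.node (.node (.node (.leaf 124077671)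 (.leaf 143231112)) (.node (.leaf 125200248) (.leaf 161061257))) (.node (.node (.leaf 125200247) (.leaf 161061016)) (.node (.leaf 143095688) (.leaf 162179737)))) (.node (.node (.node (.leaf 141973111) (.leaf 143169928)) (.node (.leaf 143161208) (.leaf 144353689))) (.node (.node (.leaf 143161207) (.leaf 144353688)) (.node (.leaf 142051464) (.leaf 162249385))))) (.node (.node (.node (.node (.leaf 141973095) (.leaf 143235208)) (.node (.leaf 143091576) (.leaf 161061273))) (.node (.node (.leaf 143091575) (.leaf 161061272)) (.node (.leaf 142047368) (.leaf 162249369)))) (.node (.node (.node (.leaf 125265527) (.leaf 143165592)) (.node (.leaf 143161464) (.leaf 144288409))) (.node (.node (.leaf 143161223) (.leaf 143165833)) (.node (.leaf 126388360) (.leaf 0))))))) (.node (.node (.node (.node (.node (.node (.leaf 124077415) (.leaf 160991368)) (.node (.leaf 124151672) (.leaf 144284041))) (.node (.node (.leaf 124151671) (.leaf 144283800)) (.node (.leaf 142047112) (.leaf 161131161)))) (.node (.node (.node (.leaf 125195895) (.leaf 143165832)) (.node (.leaf 143095672)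 (.leaf 161065369))) (.node (.node (.leaf 143095671) (.leaf 161065368)) (.node (.leaf 125274248) (.leaf 162183849))))) (.node (.node (.node (.node (.leaf 125195879) (.leaf 143169672)) (.node (.leaf 142043000) (.leaf 144284057))) (.node (.node (.leaf 142042999) (.leaf 144284056)) (.node (.leaf 125270152) (.leaf 162183833)))) (.node (.node (.node (.leaf 141977207) (.leaf 161061256)) (.node (.leaf 143095928) (.leaf 143239833))) (.node (.node (.leaf 143095687) (.leaf 143165577)) (.node (.leaf 142117000) (.leaf 162253738)))))) (.node (.node (.node (.node (.node (.leaf 124081767) (.leaf 144279688)) (.node (.leaf 141977464) (.leaf 143169945))) (.node (.node (.leaf 141977463) (.leaf 143169944)) (.node (.leaf 143161224) (.leaf 144358041)))) (.node (.node (.node (.leaf 124151415) (.leaf 143235464)) (.node (.leaf 125270136) (.leaf 161130905))) (.node (.node (.leaf 125269895) (.leaf 161130904)) (.node (.leaf 143100040) (.leaf 162253481))))) (.node (.node (.node (.node (.leaf 124081783) (.leaf 144283784)) (.node (.leaf 125269880) (.leaf 143239577))) (.node (.node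 (.leaf 125269879) (.leaf 143239576)) (.node (.leaf 143095944) (.leaf 144358057)))) (.node (.node (.node (.leaf 142042743) (.leaf 143169688)) (.node (.leaf 143165560) (.leaf 161065625))) (.node (.node (.leaf 143165319) (.leaf 143169929)) (.node (.leaf 159942792) (.leaf 0)))))))
def CLE7 : List (List ℤ) := [[2, 0, -1, 0, 0, 0, 0], [0, 2, 0, -1, 0, 0, 0], [-1, 0, 2, -1, 0, 0, 0], [0, -1, -1, 2, -1, 0, 0], [0, 0, 0, -1, 2, -1, 0], [0, 0, 0, 0, -1, 2, -1], [0, 0, 0, 0, 0, -1, 2]]
def KLE7 : List (List ℤ) := [[4, 4, 6, 8, 6, 4, 2], [4, 7, 8, 12, 9, 6, 3], [6, 8, 12, 16, 12, 8, 4], [8, 12, 16, 24, 18, 12, 6], [6, 9, 12, 18, 15, 10, 5], [4, 6, 8, 12, 10, 8, 4], [2, 3, 4, 6, 5, 4, 3]]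
theorem rvcE7 : rvChk 7 126 chevE7 rcE7.get CLE7 = true := by decide +kernel
theorem kcE7 : kChk 7 CLE7 KLE7 2 = true := by decide +kernel
noncomputable def gdE7 : GD chevE7 := mkGD nfE7 rcE7.get CLE7 KLE7 2 (by norm_num) rvcE7 kcE7
end CfsgLib.Chev
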