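import Cfsg.Agent.Lib.Chev12
import Cfsg.Agent.Lib.ChevNE8
set_option autoImplicit false
set_option maxRecDepth 1000000

namespace CfsgLib.Chev
open Cfsg.Lie

def rcE8 : Tr := .node (.node (.node (.node (.node (.node (.node (.node (.leaf 1698899030) (.leaf 2308540552)) (.node (.leaf 2289526647) (.leaf 2578098841))) (.node (.node (.leaf 2271630951) (.leaf 2578098584)) (.node (.leaf 2290579576) (.leaf 2596068265)))) (.node (.node (.node (.leaf 1985234279) (.leaf 2291767448)) (.node (.leaf 2271635320) (.leaf 2578102953))) (.node (.node (.leaf 2271635063) (.leaf 2308549017)) (.node (.leaf 2289535112) (.leaf 0))))) (.node (.node (.node (.node (.leaf 1985230182) (.leaf 2290653576)) (.node (.leaf 2272753543) (.leaf 2309733017))) (.node (.node (.leaf 1986418295) (.leaf 2576980361)) (.node (.leaf 2290648968) (.leaf 2596068522)))) (.node (.node (.node (.leaf 2003125863) (.leaf 2290723224)) (.node (.leaf 2004318072) (.leaf 2594949801))) (.node (.node (.leaf 1986422647) (.leaf 2290723481)) (.node (.leaf 2559084680) (.leaf 0)))))) (.node (.node (.node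 (.node (.node (.leaf 1985225814) (.leaf 2291767432)) (.node (.leaf 2289530743) (.leaf 2577054361))) (.node (.node (.leaf 1985304183) (.leaf 2290653577)) (.node (.leaf 2272753544) (.leaf 2594950058)))) (.node (.node (.node (.leaf 2271561063) (.leaf 2290719128)) (.node (.leaf 2004313976) (.leaf 2594945705))) (.node (.node (.leaf 2004313719) (.leaf 2577050009)) (.node (.leaf 2289600648) (.leaf 0))))) (.node (.node (.node (.node (.leaf 2003125606) (.leaf 2576980360)) (.node (.leaf 2290648967) (.leaf 2291841705))) (.node (.node (.leaf 2272679543) (.leaf 2308544921)) (.node (.leaf 2290579592) (.leaf 2596138170)))) (.node (.node (.node (.leaf 2003129959) (.leaf 2291837336)) (.node (.leaf 2290644856) (.leaf 2578172841))) (.node (.node (.leaf 2272683895) (.leaf 2291837593)) (.node (.leaf 2308475016) (.leaf 0))))))) (.node (.node (.node (.node (.node (.node (.leaf 1984111702) (.leaf 2290653320)) (.node (.leaf 2004318071) (.leaf 2291841689))) (.node (.node (.leaf 2272679527) (.leaf 2290649225)) (.node (.leaf 2290649208) (.leaf 2309737386)))) (.node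 (.node (.node (.leaf 1986348391) (.leaf 2576980120)) (.node (.leaf 2272683896) (.leaf 2309733033))) (.node (.node (.leaf 2272683639) (.leaf 2291837337)) (.node (.leaf 2004387976) (.leaf 0))))) (.node (.node (.node (.node (.leaf 1985299814) (.leaf 2291767688)) (.node (.leaf 2290579335) (.leaf 2594945689))) (.node (.node (.leaf 2271630967) (.leaf 2290719129)) (.node (.leaf 2272753800) (.leaf 2596068538)))) (.node (.node (.node (.leaf 1985304167) (.leaf 2308549016)) (.node (.leaf 2289530744) (.leaf 2596063913))) (.node (.node (.leaf 2271635319) (.leaf 2308549273)) (.node (.leaf 2575861896) (.leaf 0)))))) (.node (.node (.node (.node (.node (.leaf 1985230166) (.leaf 2576980104)) (.node (.leaf 2290644855) (.leaf 2578102937))) (.node (.node (.leaf 2003129975) (.leaf 2291767689)) (.node (.leaf 2290579336) (.leaf 2596064170)))) (.node (.node (.node (.leaf 1985300071) (.leaf 2308544920)) (.node (.leaf 2289526648) (.leaf 2309737129))) (.node (.node (.leaf 2289526391) (.leaf 2578098585)) (.node (.leaf 2273872008) (.leaf 0))))) (.node (.node (.node (.node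 (.leaf 1985230167) (.leaf 2290653336)) (.node (.leaf 1986422648) (.leaf 2577054377))) (.node (.node (.leaf 1986422391) (.leaf 2290723225)) (.node (.leaf 2004322440) (.leaf 2613963962)))) (.node (.node (.node (.leaf 1986418279) (.leaf 2577050008)) (.node (.leaf 2272753784) (.leaf 2595998633))) (.node (.node (.leaf 2004313975) (.leaf 2577050265)) (.node (.leaf 2290714760) (.leaf 0)))))))) (.node (.node (.node (.node (.node (.node (.node (.leaf 1967334486) (.leaf 2576976008)) (.node (.leaf 2290575223) (.leaf 2594876057))) (.node (.node (.leaf 2004244071) (.leaf 2594875800)) (.node (.leaf 2290645112) (.leaf 2596068281)))) (.node (.node (.node (.leaf 1985299815) (.leaf 2308544664)) (.node (.leaf 2004248440) (.leaf 2594880169))) (.node (.node (.leaf 2004248183) (.leaf 2576984473)) (.node (.leaf 2290583688) (.leaf 0))))) (.node (.node (.node (.node (.leaf 1985234278) (.leaf 2290719112)) (.node (.leaf 2289530759) (.leaf 2578168473))) (.node (.node (.leaf 2003195511) (.leaf 2290653593)) (.node (.leaf 2004318344) (.leaf 2596068282)))) (.node (.node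 (.node (.leaf 2271561319) (.leaf 2291771800)) (.node (.leaf 2272753528) (.leaf 2595998377))) (.node (.node (.leaf 2003199863) (.leaf 2291772057)) (.node (.leaf 2307426440) (.leaf 0)))))) (.node (.node (.node (.node (.node (.leaf 1985229910) (.leaf 2308544648)) (.node (.leaf 2290579319) (.leaf 2309667481))) (.node (.node (.leaf 1986352759) (.leaf 2290719113)) (.node (.leaf 2289530760) (.leaf 2595998634)))) (.node (.node (.node (.leaf 1985234535) (.leaf 2291767704)) (.node (.leaf 2272749432) (.leaf 2595994281))) (.node (.node (.leaf 2272749175) (.leaf 2309663129)) (.node (.leaf 2005436552) (.leaf 0))))) (.node (.node (.node (.node (.leaf 2271561062) (.leaf 2290649240)) (.node (.leaf 2290649223) (.leaf 2308618921))) (.node (.node (.leaf 2289456759) (.leaf 2576980377)) (.node (.leaf 2290645128) (.leaf 2597186746)))) (.node (.node (.node (.leaf 2271565415) (.leaf 2308614552)) (.node (.leaf 2004318328) (.leaf 2594950057))) (.node (.node (.leaf 2289461111) (.leaf 2308614809)) (.node (.leaf 2576910472) (.leaf 0))))))) (.node (.node (.node (.node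 (.node (.node (.leaf 1985160278) (.leaf 2290718856)) (.node (.leaf 2272753527) (.leaf 2308618905))) (.node (.node (.leaf 2289456743) (.leaf 2290649481)) (.node (.leaf 2004318088) (.leaf 2578172842)))) (.node (.node (.node (.leaf 2003125607) (.leaf 2290653592)) (.node (.leaf 2289461112) (.leaf 2578168489))) (.node (.node (.leaf 2289460855) (.leaf 2308614553)) (.node (.leaf 2272823432) (.leaf 0))))) (.node (.node (.node (.node (.leaf 1986348390) (.leaf 2308544904)) (.node (.leaf 2290644871) (.leaf 2595994265))) (.node (.node (.leaf 2004244087) (.leaf 2291767705)) (.node (.leaf 2289531016) (.leaf 2596072634)))) (.node (.node (.node (.leaf 1986352743) (.leaf 2576984472)) (.node (.leaf 2290579320) (.leaf 2309737385))) (.node (.node (.leaf 2004248439) (.leaf 2576984729)) (.node (.leaf 2291697800) (.leaf 0)))))) (.node (.node (.node (.node (.node (.leaf 1985229926) (.leaf 2290649480)) (.node (.leaf 2004318087) (.leaf 2594880153))) (.node (.node (.leaf 2271565431) (.leaf 2308544905)) (.node (.leaf 2290644872) (.leaf 2596068266)))) (.node (.node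 (.node (.leaf 1986348647) (.leaf 2576980376)) (.node (.leaf 2290575224) (.leaf 2578172585))) (.node (.node (.leaf 2290574967) (.leaf 2594875801)) (.node (.leaf 2022213768) (.leaf 0))))) (.node (.node (.node (.node (.leaf 1985230183) (.leaf 2290718872)) (.node (.leaf 2003199864) (.leaf 2309667497))) (.node (.node (.leaf 2003199607) (.leaf 2291771801)) (.node (.leaf 2272757896) (.leaf 2882399418)))) (.node (.node (.node (.leaf 2003195495) (.leaf 2309663128)) (.node (.leaf 2289531000) (.leaf 2596064169))) (.node (.node (.leaf 2272749431) (.leaf 2309663385)) (.node (.leaf 2291763336) (.leaf 0))))))))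
def CLE8 : List (List ℤ) := [[2, 0, -1, 0, 0, 0, 0, 0], [0, 2, 0, -1, 0, 0, 0, 0], [-1, 0, 2, -1, 0, 0, 0, 0], [0, -1, -1, 2, -1, 0, 0, 0], [0, 0, 0, -1, 2, -1, 0, 0], [0, 0, 0, 0, -1, 2, -1, 0], [0, 0, 0, 0, 0, -1, 2, -1], [0, 0, 0, 0, 0, 0, -1, 2]]
def KLE8 : List (List ℤ) := [[4, 5, 7, 10, 8, 6, 4, 2], [5, 8, 10, 15, 12, 9, 6, 3], [7, 10, 14, 20, 16, 12, 8, 4], [10, 15, 20, 30, 24, 18, 12, 6], [8, 12, 16, 24, 20, 15, 10, 5], [6, 9, 12, 18, 15, 12, 8, 4], [4, 6, 8, 12, 10, 8, 6, 3], [2, 3, 4, 6, 5, 4, 3, 2]]
theorem rvcE8 : rvChk 8 240 chevE8 rcE8.get CLE8 = true := by decide +kernel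
theorem kcE8 : kChk 8 CLE8 KLE8 1 = true := by decide +kernel
noncomputable def gdE8 : GD chevE8 := mkGD nfE8 rcE8.get CLE8 KLE8 1 (by norm_num) rvcE8 kcE8
end CfsgLib.Chev
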