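import Mathlib

set_option autoImplicit false

/-! Derangements of prime order in transitive groups. -/
namespace CfsgLib.CM1

open MulAction

variable {G Ω : Type*} [Group G] [MulAction G Ω]

/-- lengths of orbits of a Sylow subgroup -/
theorem pow_dvd_orbit [Finite G] [Finite Ω] (htr : IsPretransitive G Ω) {p k : ℕ} [hp : Fact p.Prime] (P : Sylow p G)
    (hk : p ^ k ∣ Nat.card Ω) (x : Ω) : p ^ k ∣ Nat.card (orbit (P : Subgroup G) x) := by
  classical
  have h1 : Nat.card (orbit (P : Subgroup G) x) * Nat.card (stabilizer (P : Subgroup G) x) = Nat.card (P : Subgroup G) := by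
    rw [← Nat.card_prod]
    exact Nat.card_congr (orbitProdStabilizerEquivGroup (P : Subgroup G) x)
  have h2 : Nat.card Ω * Nat.card (stabilizer G x) = Nat.card G := by
    rw [← index_stabilizer_of_transitive G x, mul_comm]
    exact (stabilizer G x).card_mul_index
  have h3 : Nat.card (stabilizer (P : Subgroup G) x) ∣ Nat.card (stabilizer G x) := by
    have hle : (stabilizer (P : Subgroup G) x).map (P : Subgroup G).subtype ≤ stabilizer G x := by
      rintro _ ⟨y, hy, rfl⟩
      exact hy
    have := Subgroup.card_dvd_of_le hle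
    rwa [Subgroup.card_map_of_injective (P : Subgroup G).subtype_injective] at this
  have hG0 : Nat.card G ≠ 0 := Nat.card_pos.ne'
  obtain ⟨c, hc⟩ := (Nat.dvd_prime_pow hp.out).1 ((Dvd.intro_left _ h1).trans (dvd_of_eq P.card_eq_multiplicity))
  obtain ⟨a, ha⟩ := (Nat.dvd_prime_pow hp.out).1 ((Dvd.intro _ h1).trans (dvd_of_eq P.card_eq_multiplicity))
  have h4 : p ^ (k + c) ∣ Nat.card G := by
    rw [← h2, pow_add]
    exact mul_dvd_mul hk (hc.2 ▸ h3)
  have h5 := (hp.out.pow_dvd_iff_le_factorization hG0).1 h4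
  have h6 : p ^ (a + c) = p ^ (Nat.card G).factorization p := by
    rw [← P.card_eq_multiplicity, ← h1, ha.2, hc.2, pow_add]
  have h7 := Nat.pow_right_injective hp.out.two_le h6
  rw [ha.2]
  exact pow_dvd_pow p (by omega)

theorem orbit_card_le [Finite G] [Finite Ω] (P : Subgroup G) (x : Ω) : Nat.card (orbit P x) ≤ Nat.card Ω :=
  Nat.card_le_card_of_injective _ Subtype.val_injective

theorem exists_derangement_pow [Finite G] [FaithfulSMul G Ω] [Finite Ω] (htr : IsPretransitive G Ω) {p k : ℕ} (hp : p.Prime)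
    (hk : 1 ≤ k) (hΩ : Nat.card Ω = p ^ k) : ∃ g : G, orderOf g = p ∧ ∀ ω : Ω, g • ω ≠ ω := by
  classical
  haveI : Fact p.Prime := ⟨hp⟩
  obtain ⟨P⟩ : Nonempty (Sylow p G) := inferInstance
  have hne : Nonempty Ω := (Nat.card_pos_iff.1 (by rw [hΩ]; exact pow_pos hp.pos k)).1
  obtain ⟨x⟩ := hne
  have horb : ∀ x : Ω, orbit (P : Subgroup G) x = Set.univ := by
    intro x
    have h1 := pow_dvd_orbit htr P (dvd_of_eq hΩ.symm) x
    have h2 : Nat.card Ω ≤ Nat.card (orbit (P : Subgroup G) x) := by
      rw [hΩ]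
      haveI : Nonempty (orbit (P : Subgroup G) x) := ⟨⟨x, mem_orbit_self x⟩⟩
      exact Nat.le_of_dvd Nat.card_pos h1
    apply Set.eq_of_subset_of_ncard_le (Set.subset_univ _)
    rw [Set.ncard_univ, ← Nat.card_coe_set_eq]
    exact h2
  haveI : Nontrivial Ω := Finite.one_lt_card_iff_nontrivial.1 (by rw [hΩ]; exact Nat.one_lt_pow (by omega) hp.one_lt)
  haveI : Nontrivial (P : Subgroup G) := by
    by_contra hnt
    rw [not_nontrivial_iff_subsingleton] at hnt
    obtain ⟨y, hy⟩ := exists_ne x
    have h1 : y ∈ orbit (P : Subgroup G) x := by rw [horb]; exact Set.mem_univ y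
    obtain ⟨g, hg⟩ := h1
    rw [Subsingleton.elim g 1] at hg
    apply hy
    rw [← hg]
    exact one_smul _ x
  haveI : Nontrivial (Subgroup.center (P : Subgroup G)) := P.2.center_nontrivial
  have hcen : IsPGroup p (Subgroup.center (P : Subgroup G)) := P.2.to_subgroup _
  have hdvd : p ∣ Nat.card (Subgroup.center (P : Subgroup G)) := by
    obtain ⟨m, hm⟩ := hcen.exists_card_eq
    rw [hm]
    apply dvd_pow_self
    rintro rfl
    have := Finite.one_lt_card (α := Subgroup.center (P : Subgroup G))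
    rw [hm, pow_zero] at this
    omega
  obtain ⟨z, hz⟩ := exists_prime_orderOf_dvd_card' p hdvd
  refine ⟨((z : (P : Subgroup G)) : G), ?_, ?_⟩
  · rw [Subgroup.orderOf_coe, Subgroup.orderOf_coe, hz]
  · intro ω hω
    have h1 : ((z : (P : Subgroup G)) : G) = 1 := by
      apply FaithfulSMul.eq_of_smul_eq_smul (α := Ω)
      intro y
      have h2 : y ∈ orbit (P : Subgroup G) ω := by rw [horb]; exact Set.mem_univ y
      obtain ⟨g, hg⟩ := h2
      have h3 : (z : (P : Subgroup G)) * g = g * z := ((Subgroup.mem_center_iff.1 z.2) g).symm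
      have h3' : ((z : (P : Subgroup G)) : G) * (g : G) = (g : G) * ((z : (P : Subgroup G)) : G) := congrArg (fun w : (P : Subgroup G) => (w : G)) h3
      have hg' : (g : G) • ω = y := hg
      rw [← hg', ← mul_smul, h3', mul_smul, hω, one_smul]
    have h2 : z = 1 := by
      apply Subtype.ext
      apply Subtype.ext
      exact h1
    rw [h2, orderOf_one] at hz
    exact hp.one_lt.ne hz

/-- degree `m p` with `m < p` -/
theorem exists_derangement_mp [Finite G] [FaithfulSMul G Ω] [Finite Ω] (htr : IsPretransitive G Ω) {p m : ℕ} (hp : p.Prime)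
    (hm : 1 ≤ m) (hmp : m < p) (hΩ : Nat.card Ω = m * p) : ∃ g : G, orderOf g = p ∧ ∀ ω : Ω, g • ω ≠ ω := by
  classical
  haveI : Fact p.Prime := ⟨hp⟩
  obtain ⟨P⟩ : Nonempty (Sylow p G) := inferInstance
  have horb : ∀ x : Ω, Nat.card (orbit (P : Subgroup G) x) = p := by
    intro x
    have h1 := pow_dvd_orbit htr P (k := 1) (by rw [pow_one, hΩ]; exact dvd_mul_left _ _) x
    rw [pow_one] at h1
    have h2 : Nat.card (orbit (P : Subgroup G) x) ∣ Nat.card (P : Subgroup G) :=
      ⟨_, by
        rw [← Nat.card_prod]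
        exact (Nat.card_congr (orbitProdStabilizerEquivGroup (P : Subgroup G) x)).symm⟩
    rw [P.card_eq_multiplicity] at h2
    obtain ⟨a, -, ha⟩ := (Nat.dvd_prime_pow hp).1 h2
    have h3 := orbit_card_le (P : Subgroup G) x
    rw [hΩ, ha] at h3
    have h4 : p ^ a < p ^ 2 := lt_of_le_of_lt h3 (by rw [pow_two]; exact Nat.mul_lt_mul_of_pos_right hmp hp.pos)
    have h5 : a < 2 := (Nat.pow_lt_pow_iff_right hp.one_lt).1 h4
    rw [ha] at h1
    have h6 : a ≠ 0 := by
      rintro rfl
      rw [pow_zero, Nat.dvd_one] at h1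
      exact hp.one_lt.ne' h1
    have h7 : a = 1 := by omega
    rw [ha, h7, pow_one]
  -- stabilisers have index p
  let S : Ω → Subgroup (P : Subgroup G) := fun x => stabilizer (P : Subgroup G) x
  have hSidx : ∀ x, (S x).index = p := by
    intro x
    exact (index_stabilizer (P : Subgroup G) x).trans (horb x)
  have hSn : ∀ x, (S x).Normal := by
    intro x
    apply Subgroup.normal_of_index_eq_minFac_card
    rw [hSidx x]
    obtain ⟨k, hk⟩ := P.2.exists_card_eq
    have hk' : Nat.card (P : Subgroup G) = p ^ k := hk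
    have hk0 : k ≠ 0 := by
      rintro rfl
      have h1 := (S x).index_dvd_card
      rw [hSidx x, hk', pow_zero, Nat.dvd_one] at h1
      exact hp.one_lt.ne' h1
    rw [hk', Nat.Prime.pow_minFac hp hk0]
  -- number of different stabilisers is at most m
  have hconst : ∀ (x : Ω) (g : (P : Subgroup G)), S (g • x) = S x := by
    intro x g
    change stabilizer (P : Subgroup G) (g • x) = stabilizer (P : Subgroup G) x
    rw [stabilizer_smul_eq_stabilizer_map_conj]
    haveI := hSn x
    exact Subgroup.Normal.map_conj_eq (S x) g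
  -- fixing sets
  by_contra hcon
  push Not at hcon
  have hcover : ∀ g : (P : Subgroup G), ∃ x : Ω, g ∈ S x := by
    intro g
    by_contra hno
    push Not at hno
    have hp1 : g ^ p = 1 := by
      have h0 : ∀ x : Ω, g ^ p ∈ S x := by
        intro x
        have h1 := Subgroup.pow_index_mem (S x) g
        rwa [hSidx x] at h1
      apply Subtype.ext
      apply FaithfulSMul.eq_of_smul_eq_smul (α := Ω)
      intro x
      have := h0 x
      have h2 : (g ^ p) • x = x := this
      change ((g ^ p : (P : Subgroup G)) : G) • x = ((1 : (P : Subgroup G)) : G) • x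
      rw [Subgroup.coe_one, one_smul]
      exact h2
    have hg1 : g ≠ 1 := by
      rintro rfl
      have hne : Nonempty Ω := (Nat.card_pos_iff.1 (by rw [hΩ]; exact Nat.mul_pos hm hp.pos)).1
      obtain ⟨x⟩ := hne
      exact hno x (one_mem _)
    have ho : orderOf (g : G) = p := by
      rw [Subgroup.orderOf_coe]
      exact orderOf_eq_prime hp1 hg1
    obtain ⟨ω, hω⟩ := hcon (g : G) ho
    exact hno ω hω
  -- counting
  have hcount : Nat.card {q : ↥(P : Subgroup G) × Ω // q.1 ≠ 1 ∧ q.1 • q.2 = q.2} = Nat.card Ω * (Nat.card (P : Subgroup G) / p - 1) := by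
    haveI : Fintype (P : Subgroup G) := Fintype.ofFinite _
    haveI : Fintype Ω := Fintype.ofFinite _
    have e : {q : ↥(P : Subgroup G) × Ω // q.1 ≠ 1 ∧ q.1 • q.2 = q.2} ≃ Σ x : Ω, {g : S x // g ≠ 1} :=
      { toFun := fun q => ⟨q.1.2, ⟨⟨q.1.1, q.2.2⟩, fun h => q.2.1 (congrArg Subtype.val h)⟩⟩
        invFun := fun q => ⟨(q.2.1.1, q.1), fun h => q.2.2 (Subtype.ext h), q.2.1.2⟩
        left_inv := fun q => rfl
        right_inv := fun q => rfl }
    rw [Nat.card_congr e, Nat.card_sigma]
    have h1 : ∀ x : Ω, Nat.card {g : S x // g ≠ 1} = Nat.card (P : Subgroup G) / p - 1 := by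
      intro x
      have h2 : Nat.card {g : S x // g ≠ 1} = Nat.card (S x) - 1 := by
        haveI : Fintype (S x) := Fintype.ofFinite _
        rw [Nat.card_eq_fintype_card, Nat.card_eq_fintype_card, Fintype.card_subtype_compl, Fintype.card_subtype_eq]
      rw [h2]
      have h3 := (S x).card_mul_index
      rw [hSidx x] at h3
      rw [← h3, Nat.mul_div_cancel _ hp.pos]
    rw [Finset.sum_congr rfl (fun x _ => h1 x), Finset.sum_const, Finset.card_univ, smul_eq_mul, Nat.card_eq_fintype_card (α := Ω)]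
  -- each nontrivial element fixes at least p points
  have hfix : ∀ g : (P : Subgroup G), p ≤ Nat.card {x : Ω // g • x = x} := by
    intro g
    obtain ⟨x, hx⟩ := hcover g
    refine (horb x).symm.le.trans ?_
    refine Nat.card_le_card_of_injective (fun y : orbit (P : Subgroup G) x => (⟨y.1, ?_⟩ : {x : Ω // g • x = x})) ?_
    · obtain ⟨h, hh⟩ := y.2
      have : g ∈ S y.1 := by
        rw [← hh]
        change g ∈ S (h • x)
        rw [hconst]
        exact hx
      exact this
    · intro y z h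
      exact Subtype.ext (congrArg (fun w : {x : Ω // g • x = x} => w.1) h)
  have hcount2 : (Nat.card (P : Subgroup G) - 1) * p ≤ Nat.card {q : ↥(P : Subgroup G) × Ω // q.1 ≠ 1 ∧ q.1 • q.2 = q.2} := by
    haveI : Fintype (P : Subgroup G) := Fintype.ofFinite _
    haveI : Fintype Ω := Fintype.ofFinite _
    have e : {q : ↥(P : Subgroup G) × Ω // q.1 ≠ 1 ∧ q.1 • q.2 = q.2} ≃ Σ g : {g : ↥(P : Subgroup G) // g ≠ 1}, {x : Ω // g.1 • x = x} :=
      { toFun := fun q => ⟨⟨q.1.1, q.2.1⟩, ⟨q.1.2, q.2.2⟩⟩
        invFun := fun q => ⟨(q.1.1, q.2.1), q.1.2, q.2.2⟩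
        left_inv := fun q => rfl
        right_inv := fun q => rfl }
    rw [Nat.card_congr e, Nat.card_sigma]
    have h2 : Nat.card (P : Subgroup G) - 1 = Fintype.card {g : (P : Subgroup G) // g ≠ 1} := by
      rw [Nat.card_eq_fintype_card, Fintype.card_subtype_compl, Fintype.card_subtype_eq]
    rw [h2, ← smul_eq_mul, ← Finset.card_univ, ← Finset.sum_const]
    apply Finset.sum_le_sum
    intro g _
    exact hfix g.1
  rw [hcount, hΩ] at hcount2
  obtain ⟨x⟩ : Nonempty Ω := (Nat.card_pos_iff.1 (by rw [hΩ]; exact Nat.mul_pos hm hp.pos)).1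
  have h3 := (S x).card_mul_index
  rw [hSidx x] at h3
  have h4 : 0 < Nat.card (S x) := Nat.card_pos
  rw [← h3, Nat.mul_div_cancel _ hp.pos] at hcount2
  have h5 : (Nat.card (S x) * p - 1) * p ≤ (m * (Nat.card (S x) - 1)) * p := by
    calc _ ≤ _ := hcount2
      _ = _ := by ring
  have h6 := Nat.le_of_mul_le_mul_right h5 hp.pos
  have h7 : m * (Nat.card (S x) - 1) ≤ p * (Nat.card (S x) - 1) := Nat.mul_le_mul_right _ hmp.le
  have h8 : p * (Nat.card (S x) - 1) = Nat.card (S x) * p - p := by
    rw [Nat.mul_sub, mul_one, mul_comm]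
  have h9 : p ≤ Nat.card (S x) * p := Nat.le_mul_of_pos_left p h4
  have := hp.two_le
  omega

/-- counting derangements: `n |D| ≥ (r-1)|G|`, in the form of a sum -/
theorem sum_fix [Fintype G] [Fintype Ω] (htr : IsPretransitive G Ω) [Nonempty Ω] :
    ∑ g : G, (Nat.card (fixedBy Ω g) : ℤ) = Nat.card G := by
  classical
  have h1 := sum_card_fixedBy_eq_card_orbits_mul_card_group G Ω
  have h2 : Fintype.card (Quotient (orbitRel G Ω)) = 1 := by
    rw [Fintype.card_eq_one_iff_nonempty_unique]
    haveI : Subsingleton (Quotient (orbitRel G Ω)) := by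
      refine ⟨fun a b => ?_⟩
      induction a using Quotient.inductionOn
      induction b using Quotient.inductionOn
      apply Quotient.sound
      rename_i a b
      exact htr.exists_smul_eq b a
    exact ⟨⟨⟨Quotient.mk _ (Classical.arbitrary Ω)⟩, fun a => Subsingleton.elim _ _⟩⟩
  rw [h2, one_mul] at h1
  rw [Nat.card_eq_fintype_card, ← h1]
  push_cast
  apply Finset.sum_congr rfl
  intro g _
  rw [Nat.card_eq_fintype_card]

theorem sum_fix_sq [Fintype G] [Fintype Ω] :
    ∑ g : G, (Nat.card (fixedBy Ω g) : ℤ) ^ 2 = Nat.card (Quotient (orbitRel G (Ω × Ω))) * Nat.card G := by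
  classical
  have h1 := sum_card_fixedBy_eq_card_orbits_mul_card_group G (Ω × Ω)
  rw [Nat.card_eq_fintype_card, Nat.card_eq_fintype_card, ← Nat.cast_mul, ← h1]
  push_cast
  apply Finset.sum_congr rfl
  intro g _
  have e : fixedBy (Ω × Ω) g ≃ fixedBy Ω g × fixedBy Ω g :=
    { toFun := fun q => (⟨q.1.1, congrArg Prod.fst q.2⟩, ⟨q.1.2, congrArg Prod.snd q.2⟩)
      invFun := fun q => ⟨(q.1.1, q.2.1), Prod.ext q.1.2 q.2.2⟩
      left_inv := fun q => rfl
      right_inv := fun q => rfl }
  rw [← Nat.card_eq_fintype_card, Nat.card_congr e, Nat.card_prod]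
  push_cast
  ring

end CfsgLib.CM1
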