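import Mathlib

set_option autoImplicit false

/-! Stabilisers of partitions. -/
namespace CfsgLib.CM3

open MulAction
open scoped Pointwise

variable {Ω : Type*} [Fintype Ω] [DecidableEq Ω]

/-- permutations preserving the partition given by `f` -/
def part {b : ℕ} (f : Ω → Fin b) : Subgroup (Equiv.Perm Ω) where
  carrier := {g | ∀ x y : Ω, f x = f y ↔ f (g x) = f (g y)}
  one_mem' := fun x y => Iff.rfl
  mul_mem' := fun {g h} hg hh x y => (hh x y).trans (hg _ _)
  inv_mem' := fun {g} hg x y => by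
    have := hg (g⁻¹ x) (g⁻¹ y)
    rw [← Equiv.Perm.mul_apply, ← Equiv.Perm.mul_apply, mul_inv_cancel] at this
    exact this.symm

theorem mem_part {b : ℕ} {f : Ω → Fin b} {g : Equiv.Perm Ω} : g ∈ part f ↔ ∀ x y : Ω, f x = f y ↔ f (g x) = f (g y) := Iff.rfl

theorem closure_eq {b : ℕ} (f : Ω → Fin b) : Subgroup.closure {g : Equiv.Perm Ω | ∀ x y : Ω, f x = f y ↔ f (g x) = f (g y)} = part f :=
  Subgroup.closure_eq (part f)

/-- coordinates -/
theorem exists_coord {a b : ℕ} (f : Ω → Fin b) (hf : ∀ i : Fin b, Nat.card {x : Ω // f x = i} = a) :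
    ∃ e : Ω ≃ Fin b × Fin a, ∀ x, (e x).1 = f x := by
  have h : ∀ i : Fin b, Nonempty ({x : Ω // f x = i} ≃ Fin a) := by
    intro i
    rw [← hf i]
    exact ⟨Finite.equivFin _⟩
  let c := fun i => (h i).some
  let e : Ω ≃ Fin b × Fin a :=
    (Equiv.sigmaFiberEquiv f).symm.trans ((Equiv.sigmaCongrRight (fun i => (c i))).trans (Equiv.sigmaEquivProd (Fin b) (Fin a)))
  exact ⟨e, fun x => rfl⟩

theorem swap_mem {b : ℕ} {f : Ω → Fin b} {x y : Ω} (h : f x = f y) : Equiv.swap x y ∈ part f := by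
  rw [mem_part]
  have key : ∀ z, f (Equiv.swap x y z) = f z := by
    intro z
    by_cases hx : z = x
    · rw [hx, Equiv.swap_apply_left, h]
    · by_cases hy : z = y
      · rw [hy, Equiv.swap_apply_right, h]
      · rw [Equiv.swap_apply_of_ne_of_ne hx hy]
  intro u v
  rw [key, key]

/-- permuting the fibres -/
theorem exists_perm_fib {a b : ℕ} (f : Ω → Fin b) (hf : ∀ i : Fin b, Nat.card {x : Ω // f x = i} = a) (σ : Equiv.Perm (Fin b)) :
    ∃ g ∈ part f, (∀ x, f (g x) = σ (f x)) ∧ (∀ x, σ (f x) = f x → g x = x) := by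
  obtain ⟨e, he⟩ := exists_coord f hf
  let g : Equiv.Perm Ω := e.trans ((Equiv.prodCongr σ (Equiv.refl _)).trans e.symm)
  have hg : ∀ x, f (g x) = σ (f x) := by
    intro x
    rw [← he (g x), ← he x]
    change (e (e.symm (σ (e x).1, (e x).2))).1 = σ (e x).1
    rw [Equiv.apply_symm_apply]
  refine ⟨g, ?_, hg, ?_⟩
  · rw [mem_part]
    intro x y
    rw [hg, hg]
    exact σ.injective.eq_iff.symm
  · intro x hx
    change e.symm (σ (e x).1, (e x).2) = x
    rw [he, hx, ← he x]
    exact e.symm_apply_apply x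

/-- an overgroup of the partition stabiliser which is not contained in it is primitive -/
theorem primitive_of_not_le {a b : ℕ} (ha : 2 ≤ a) (f : Ω → Fin b) (hf : ∀ i : Fin b, Nat.card {x : Ω // f x = i} = a)
    (K L : Subgroup (Equiv.Perm Ω)) (hLK : L ≤ K) (hKL : ¬ K ≤ part f)
    (htr : ∀ x y : Ω, ∃ g ∈ L, g x = y)
    (hin : ∀ x y z : Ω, y ≠ x → f y = f x → f z = f x → z ≠ x → ∃ g ∈ L, g x = x ∧ g y = z)
    (hout1 : ∀ x y z : Ω, f y ≠ f x → f z ≠ f x → ∃ g ∈ L, g x = x ∧ g y = z) :
    IsPreprimitive K Ω := by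
  haveI : IsPretransitive K Ω := ⟨fun x y => by
    obtain ⟨g, hg, hgx⟩ := htr x y
    exact ⟨⟨g, hLK hg⟩, hgx⟩⟩
  refine ⟨fun {B} hB => ?_⟩
  by_cases hsub : B.Subsingleton
  · exact Or.inl hsub
  right
  rw [Set.not_subsingleton_iff] at hsub
  obtain ⟨x, hx, y, hy, hxy⟩ := hsub
  have hstab : ∀ g ∈ L, ∀ u ∈ B, g u ∈ B → ∀ w ∈ B, g w ∈ B := by
    intro g hg u hu hgu w hw
    have h1 : (⟨g, hLK hg⟩ : K) • B = B := by
      apply MulAction.isBlock_iff_smul_eq_of_nonempty.1 hB
      exact ⟨g u, ⟨u, hu, rfl⟩, hgu⟩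
    rw [← h1]
    exact ⟨w, hw, rfl⟩
  by_cases hall : ∀ w ∈ B, f w = f x
  · -- B is a fibre
    exfalso
    have hBf : ∀ z, f z = f x → z ∈ B := by
      intro z hz
      by_cases hzx : z = x
      · rw [hzx]; exact hx
      · obtain ⟨g, hg, hgx, hgy⟩ := hin x y z hxy.symm (hall y hy) hz hzx
        rw [← hgy]
        exact hstab g hg x hx (by rw [hgx]; exact hx) y hy
    apply hKL
    intro k hk
    rw [mem_part]
    -- main property
    have key : ∀ k ∈ K, ∀ u v, f u = f v → f (k u) = f (k v) := by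
      intro k hk u v huv
      obtain ⟨m, hm, hmx⟩ := htr x u
      obtain ⟨n, hn, hnx⟩ := htr x (k u)
      -- m B = fibre of u, as m maps B to something...
      -- v ∈ m B
      have hcard : B.ncard = a := by
        have h1 : B = {z | f z = f x} := Set.ext (fun z => ⟨fun hz => hall z hz, fun hz => hBf z hz⟩)
        rw [h1, ← hf (f x)]
        rfl
      have hfib : ∀ (m : Equiv.Perm Ω) (hm : m ∈ L), ∀ z, f z = f (m x) → z ∈ (⟨m, hLK hm⟩ : K) • B := by
        intro m hm z hz
        by_cases hzm : z = m x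
        · rw [hzm]; exact ⟨x, hx, rfl⟩
        · -- use y
          by_cases hmy : f (m y) = f (m x)
          · obtain ⟨g, hg, hgx, hgy⟩ := hin (m x) (m y) z (fun h => hxy (m.injective h).symm) hmy hz hzm
            have hgB : (⟨g * m, hLK (mul_mem hg hm)⟩ : K) • B = (⟨m, hLK hm⟩ : K) • B := by
              have h3 : ((⟨m, hLK hm⟩ : K)⁻¹ * ⟨g * m, hLK (mul_mem hg hm)⟩) • B = B := by
                apply MulAction.isBlock_iff_smul_eq_of_nonempty.1 hB
                refine ⟨x, ⟨x, hx, ?_⟩, hx⟩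
                change m⁻¹ (g (m x)) = x
                rw [hgx, ← Equiv.Perm.mul_apply, inv_mul_cancel]; rfl
              rw [mul_smul, inv_smul_eq_iff] at h3
              exact h3
            rw [← hgB]
            exact ⟨y, hy, hgy⟩
          · exfalso
            -- B ∋ x, y, m x, m y in different fibres: impossible by hout1 and size
            -- choose w in the fibre of m y different from m y
            have h2 : ∃ w, f w = f (m y) ∧ w ≠ m y := by
              haveI : Nontrivial {z : Ω // f z = f (m y)} := Finite.one_lt_card_iff_nontrivial.1 (by rw [hf]; omega)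
              obtain ⟨w, hw⟩ := exists_ne (⟨m y, rfl⟩ : {z : Ω // f z = f (m y)})
              exact ⟨w.1, w.2, fun h => hw (Subtype.ext h)⟩
            -- all points outside the fibre of m x lie in m B
            have h4 : ∀ z, f z ≠ f (m x) → z ∈ (⟨m, hLK hm⟩ : K) • B := by
              intro z hz
              obtain ⟨g, hg, hgx, hgy⟩ := hout1 (m x) (m y) z hmy hz
              have hgB : (⟨g * m, hLK (mul_mem hg hm)⟩ : K) • B = (⟨m, hLK hm⟩ : K) • B := by
                have h3 : ((⟨m, hLK hm⟩ : K)⁻¹ * ⟨g * m, hLK (mul_mem hg hm)⟩) • B = B := by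
                  apply MulAction.isBlock_iff_smul_eq_of_nonempty.1 hB
                  refine ⟨x, ⟨x, hx, ?_⟩, hx⟩
                  change m⁻¹ (g (m x)) = x
                  rw [hgx, ← Equiv.Perm.mul_apply, inv_mul_cancel]; rfl
                rw [mul_smul, inv_smul_eq_iff] at h3
                exact h3
              rw [← hgB]
              exact ⟨y, hy, hgy⟩
            have h5 : ({z | f z = f (m y)} ∪ {m x} : Set Ω) ⊆ (⟨m, hLK hm⟩ : K) • B := by
              rintro z (hz | hz)
              · exact h4 z (fun h => hmy (by rw [← hz, h]))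
              · rw [Set.mem_singleton_iff.1 hz]
                exact ⟨x, hx, rfl⟩
            have h6 := Set.ncard_le_ncard h5
            rw [Set.ncard_smul_set, hcard, Set.ncard_union_eq] at h6
            · rw [Set.ncard_singleton] at h6
              have h7 : ({z | f z = f (m y)} : Set Ω).ncard = a := by rw [← hf (f (m y))]; rfl
              omega
            · rw [Set.disjoint_singleton_right]
              intro h
              exact hmy h.symm
      have hv : v ∈ (⟨m, hLK hm⟩ : K) • B := hfib m hm v (by rw [hmx]; exact huv.symm)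
      have hu : u ∈ (⟨m, hLK hm⟩ : K) • B := hfib m hm u (by rw [hmx])
      have hku : k u ∈ ((⟨k, hk⟩ : K) * ⟨m, hLK hm⟩) • B := by
        rw [mul_smul]; exact ⟨u, hu, rfl⟩
      have hkv : k v ∈ ((⟨k, hk⟩ : K) * ⟨m, hLK hm⟩) • B := by
        rw [mul_smul]; exact ⟨v, hv, rfl⟩
      have hnB : ((⟨k, hk⟩ : K) * ⟨m, hLK hm⟩) • B = (⟨n, hLK hn⟩ : K) • B := by
        have h3 : ((⟨n, hLK hn⟩ : K)⁻¹ * ((⟨k, hk⟩ : K) * ⟨m, hLK hm⟩)) • B = B := by
          apply MulAction.isBlock_iff_smul_eq_of_nonempty.1 hB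
          refine ⟨x, ?_, hx⟩
          rw [mul_smul]
          refine ⟨k u, hku, ?_⟩
          change n⁻¹ (k u) = x
          rw [← hnx, ← Equiv.Perm.mul_apply, inv_mul_cancel]; rfl
        rw [mul_smul, inv_smul_eq_iff] at h3
        exact h3
      -- n B is the fibre of n x
      have hsub2 : ({z | f z = f (n x)} : Set Ω) ⊆ (⟨n, hLK hn⟩ : K) • B := fun z hz => hfib n hn z hz
      have heq : ({z | f z = f (n x)} : Set Ω) = (⟨n, hLK hn⟩ : K) • B := by
        apply Set.eq_of_subset_of_ncard_le hsub2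
        rw [Set.ncard_smul_set, hcard]
        have h7 : ({z | f z = f (n x)} : Set Ω).ncard = a := by rw [← hf (f (n x))]; rfl
        rw [h7]
      rw [hnB, ← heq] at hku hkv
      exact hku.trans hkv.symm
    intro u v
    constructor
    · exact key k hk u v
    · intro h
      have := key k⁻¹ (inv_mem hk) _ _ h
      rwa [← Equiv.Perm.mul_apply, ← Equiv.Perm.mul_apply, inv_mul_cancel] at this
  · -- B meets two fibres
    push Not at hall
    obtain ⟨w, hw, hwx⟩ := hall
    have h4 : ∀ z, f z ≠ f x → z ∈ B := by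
      intro z hz
      obtain ⟨g, hg, hgx, hgy⟩ := hout1 x w z hwx hz
      rw [← hgy]
      exact hstab g hg x hx (by rw [hgx]; exact hx) w hw
    apply Set.eq_univ_of_forall
    intro z
    by_cases hz : f z = f x
    · obtain ⟨g, hg, hgx, hgy⟩ := hout1 w x z hwx.symm (by rw [hz]; exact hwx.symm)
      rw [← hgy]
      exact hstab g hg w hw (by rw [hgx]; exact hw) x hx
    · exact h4 z hz

/-- the partition stabiliser is maximal in the symmetric group -/
theorem part_coatom {a b : ℕ} (ha : 2 ≤ a) (hb : 2 ≤ b) (f : Ω → Fin b) (hf : ∀ i : Fin b, Nat.card {x : Ω // f x = i} = a) :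
    IsCoatom (part f) := by
  have hpos : ∀ i : Fin b, ∃ x, f x = i := by
    intro i
    haveI : Nonempty {x : Ω // f x = i} := (Nat.card_pos_iff.1 (by rw [hf]; omega)).1
    obtain ⟨x⟩ := this
    exact ⟨x.1, x.2⟩
  have htwo : ∀ x : Ω, ∃ y, f y = f x ∧ y ≠ x := by
    intro x
    haveI : Nontrivial {z : Ω // f z = f x} := Finite.one_lt_card_iff_nontrivial.1 (by rw [hf]; omega)
    obtain ⟨w, hw⟩ := exists_ne (⟨x, rfl⟩ : {z : Ω // f z = f x})
    exact ⟨w.1, w.2, fun h => hw (Subtype.ext h)⟩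
  have htr : ∀ x y : Ω, ∃ g ∈ part f, g x = y := by
    intro x y
    obtain ⟨g, hg, hgf, -⟩ := exists_perm_fib f hf (Equiv.swap (f x) (f y))
    have h1 : f (g x) = f y := by rw [hgf, Equiv.swap_apply_left]
    exact ⟨Equiv.swap (g x) y * g, mul_mem (swap_mem h1) hg, by rw [Equiv.Perm.mul_apply, Equiv.swap_apply_left]⟩
  have hin : ∀ x y z : Ω, y ≠ x → f y = f x → f z = f x → z ≠ x → ∃ g ∈ part f, g x = x ∧ g y = z := by
    intro x y z h1 h2 h3 h4
    exact ⟨Equiv.swap y z, swap_mem (h2.trans h3.symm), Equiv.swap_apply_of_ne_of_ne h1.symm h4.symm, Equiv.swap_apply_left _ _⟩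
  have hout : ∀ x y z : Ω, f y ≠ f x → f z ≠ f x → ∃ g ∈ part f, g x = x ∧ g y = z := by
    intro x y z h1 h2
    obtain ⟨g, hg, hgf, hgx⟩ := exists_perm_fib f hf (Equiv.swap (f y) (f z))
    have h3 : g x = x := hgx x (Equiv.swap_apply_of_ne_of_ne h1.symm h2.symm)
    have h4 : f (g y) = f z := by rw [hgf, Equiv.swap_apply_left]
    refine ⟨Equiv.swap (g y) z * g, mul_mem (swap_mem h4) hg, ?_, by rw [Equiv.Perm.mul_apply, Equiv.swap_apply_left]⟩
    rw [Equiv.Perm.mul_apply, h3, Equiv.swap_apply_of_ne_of_ne]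
    · intro h
      apply h2
      rw [← h4, ← h]
    · intro h
      exact h2 (by rw [h])
  constructor
  · intro htop
    obtain ⟨x, hx⟩ := hpos ⟨0, by omega⟩
    obtain ⟨y, hy⟩ := hpos ⟨1, by omega⟩
    obtain ⟨z, hz, hzx⟩ := htwo x
    have hne : f x ≠ f y := by rw [hx, hy]; intro h; have := congrArg Fin.val h; simp at this
    have h1 : Equiv.swap x y ∈ part f := by rw [htop]; exact Subgroup.mem_top _
    have h2 := (mem_part.1 h1 x z).1 hz.symm
    rw [Equiv.swap_apply_left, Equiv.swap_apply_of_ne_of_ne hzx] at h2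
    · exact hne (by rw [h2, hz])
    · rintro rfl
      exact hne hz.symm
  · intro K hK
    have hprim := primitive_of_not_le ha f hf K (part f) hK.le (fun h => hK.not_ge h) htr hin hout
    obtain ⟨x, hx⟩ := hpos ⟨0, by omega⟩
    obtain ⟨z, hz, hzx⟩ := htwo x
    exact Equiv.Perm.subgroup_eq_top_of_isPreprimitive_of_isSwap_mem hprim (Equiv.swap x z) ⟨x, z, hzx.symm, rfl⟩ (hK.le (swap_mem hz.symm))

end CfsgLib.CM3
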