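import Mathlib
import Cfsg.Prelude.Def_Characters
import Cfsg.Prelude.Def_OddOrderChar
import Cfsg.Agent.Lib.CharBasic
import Cfsg.Agent.Lib.CharBasic2
import Cfsg.Agent.Lib.CharInd
import Cfsg.Agent.Lib.CharClifford
import Cfsg.Agent.Lib.CharTI

/-!
# Coherence

Linear isometries on integer spans of characters, linear extension, the base point criterion for coherence.
-/

set_option autoImplicit false
set_option linter.style.haveILetI false

open scoped ComplexConjugate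

namespace CfsgLib.CharCoh

open Cfsg CfsgLib.CharBasic CfsgLib.CharInd CfsgLib.CharClifford

universe u v

section span

variable {X : Type u}

theorem mem_zspan_of_mem {S : Set (X → ℂ)} {φ : X → ℂ} (h : φ ∈ S) : φ ∈ zspan S := Submodule.subset_span h

theorem zspan_mono {S T : Set (X → ℂ)} (h : S ⊆ T) : zspan S ⊆ zspan T := Submodule.span_mono h

theorem zspanOn_mono {S T : Set (X → ℂ)} {A : Set X} (h : S ⊆ T) : zspanOn S A ⊆ zspanOn T A :=
  fun _ hα => ⟨zspan_mono h hα.1, hα.2⟩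

theorem zspan_add {S : Set (X → ℂ)} {α β : X → ℂ} (hα : α ∈ zspan S) (hβ : β ∈ zspan S) : α + β ∈ zspan S :=
  Submodule.add_mem _ hα hβ

theorem zspan_zsmul {S : Set (X → ℂ)} {α : X → ℂ} (n : ℤ) (hα : α ∈ zspan S) : n • α ∈ zspan S :=
  Submodule.smul_mem _ n hα

theorem zspan_zero {S : Set (X → ℂ)} : (0 : X → ℂ) ∈ zspan S := Submodule.zero_mem _

theorem zspan_sub {S : Set (X → ℂ)} {α β : X → ℂ} (hα : α ∈ zspan S) (hβ : β ∈ zspan S) : α - β ∈ zspan S :=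
  Submodule.sub_mem _ hα hβ

theorem zsmul_eq (n : ℤ) (α : X → ℂ) : n • α = (n : ℂ) • α := by
  funext x; simp

theorem mem_zspan_finset {S : Finset (X → ℂ)} {θ : X → ℂ} :
    θ ∈ zspan (S : Set (X → ℂ)) ↔ ∃ c : (X → ℂ) → ℤ, θ = ∑ φ ∈ S, (c φ : ℂ) • φ := by
  classical
  constructor
  · intro h
    obtain ⟨c, -, hc⟩ := Submodule.mem_span_finset.mp h
    refine ⟨c, ?_⟩
    rw [← hc]
    exact Finset.sum_congr rfl fun φ _ => zsmul_eq _ _
  · rintro ⟨c, rfl⟩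
    apply Submodule.sum_mem
    intro φ hφ
    rw [← zsmul_eq]
    exact Submodule.smul_mem _ _ (Submodule.subset_span hφ)

theorem mem_zspanOn_one {L : Type u} [Group L] {S : Set (L → ℂ)} {α : L → ℂ} :
    α ∈ zspanOn S ({1}ᶜ : Set L) ↔ α ∈ zspan S ∧ α 1 = 0 := by
  constructor
  · rintro ⟨h1, h2⟩
    exact ⟨h1, h2 1 (by simp)⟩
  · rintro ⟨h1, h2⟩
    refine ⟨h1, fun x hx => ?_⟩
    have : x = 1 := by simpa using hx
    rw [this, h2]

end span

section iso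

variable {L : Type u} [Group L] [Fintype L] {G : Type v} [Group G] [Fintype G]

/-- a set closed under the operations used by `IsLinearIsometryOn` -/
structure IsZClosed (E : Set (L → ℂ)) : Prop where
  zero : (0 : L → ℂ) ∈ E
  add : ∀ α ∈ E, ∀ β ∈ E, α + β ∈ E
  smul : ∀ (n : ℤ), ∀ α ∈ E, n • α ∈ E

omit [Group L] [Fintype L] in
theorem isZClosed_zspan (S : Set (L → ℂ)) : IsZClosed (zspan S) :=
  ⟨zspan_zero, fun _ hα _ hβ => zspan_add hα hβ, fun n _ hα => zspan_zsmul n hα⟩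

omit [Group L] [Fintype L] in
theorem isZClosed_zspanOn (S : Set (L → ℂ)) (A : Set L) : IsZClosed (zspanOn S A) := by
  refine ⟨⟨zspan_zero, fun _ _ => rfl⟩, fun α hα β hβ => ⟨zspan_add hα.1 hβ.1, fun x hx => ?_⟩, fun n α hα => ⟨zspan_zsmul n hα.1, fun x hx => ?_⟩⟩
  · rw [Pi.add_apply, hα.2 x hx, hβ.2 x hx, add_zero]
  · rw [Pi.smul_apply, hα.2 x hx, smul_zero]

variable {E : Set (L → ℂ)} {τ : (L → ℂ) → (G → ℂ)}

theorem iso_mono {E' : Set (L → ℂ)} (hτ : IsLinearIsometryOn E τ) (h : E' ⊆ E) : IsLinearIsometryOn E' τ :=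
  ⟨fun α hα β hβ => hτ.1 α (h hα) β (h hβ), fun α hα n => hτ.2.1 α (h hα) n,
    fun α hα β hβ => hτ.2.2.1 α (h hα) β (h hβ), fun α hα => hτ.2.2.2 α (h hα)⟩

theorem iso_zero (hE : IsZClosed E) (hτ : IsLinearIsometryOn E τ) : τ 0 = 0 := by
  have := hτ.2.1 0 hE.zero 0
  simpa using this

theorem iso_neg (hτ : IsLinearIsometryOn E τ) {α : L → ℂ} (hα : α ∈ E) : τ (-α) = -τ α := by
  have := hτ.2.1 α hα (-1)
  simpa using this

theorem iso_sub (hE : IsZClosed E) (hτ : IsLinearIsometryOn E τ) {α β : L → ℂ} (hα : α ∈ E) (hβ : β ∈ E) :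
    τ (α - β) = τ α - τ β := by
  have hnβ : -β ∈ E := by simpa using hE.smul (-1) β hβ
  rw [sub_eq_add_neg, hτ.1 α hα (-β) hnβ, iso_neg hτ hβ, sub_eq_add_neg]

omit [Group L] [Fintype L] in
theorem IsZClosed.sub (hE : IsZClosed E) {α β : L → ℂ} (hα : α ∈ E) (hβ : β ∈ E) : α - β ∈ E := by
  have hnβ : -β ∈ E := by simpa using hE.smul (-1) β hβ
  rw [sub_eq_add_neg]
  exact hE.add _ hα _ hnβ

omit [Group L] [Fintype L] in
theorem IsZClosed.sum (hE : IsZClosed E) {ι : Type*} (s : Finset ι) (f : ι → L → ℂ) (hf : ∀ i ∈ s, f i ∈ E) : ∑ i ∈ s, f i ∈ E := by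
  classical
  induction s using Finset.induction_on with
  | empty => simpa using hE.zero
  | insert a s ha ih =>
    rw [Finset.sum_insert ha]
    exact hE.add _ (hf a (Finset.mem_insert_self a s)) _ (ih fun i hi => hf i (Finset.mem_insert_of_mem hi))

theorem iso_sum (hE : IsZClosed E) (hτ : IsLinearIsometryOn E τ) {ι : Type*} (s : Finset ι) (f : ι → L → ℂ) (hf : ∀ i ∈ s, f i ∈ E) :
    τ (∑ i ∈ s, f i) = ∑ i ∈ s, τ (f i) := by
  classical
  induction s using Finset.induction_on with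
  | empty => simpa using iso_zero hE hτ
  | insert a s ha ih =>
    rw [Finset.sum_insert ha, Finset.sum_insert ha, hτ.1 _ (hf a (Finset.mem_insert_self a s)) _
      (hE.sum s f fun i hi => hf i (Finset.mem_insert_of_mem hi)), ih fun i hi => hf i (Finset.mem_insert_of_mem hi)]

theorem iso_smul (hτ : IsLinearIsometryOn E τ) {α : L → ℂ} (hα : α ∈ E) (n : ℤ) : τ ((n : ℂ) • α) = (n : ℂ) • τ α := by
  rw [← zsmul_eq, hτ.2.1 α hα n, zsmul_eq]

/-- linear extension of a map defined on an orthogonal set -/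
noncomputable def lin (S : Finset (L → ℂ)) (T : (L → ℂ) → (G → ℂ)) : (L → ℂ) → (G → ℂ) :=
  fun θ => ∑ φ ∈ S, (classInner θ φ / classInner φ φ) • T φ

variable {S : Finset (L → ℂ)} {T : (L → ℂ) → (G → ℂ)}

omit [Group G] [Fintype G] in
theorem lin_comb (horth : ∀ φ ∈ S, ∀ ψ ∈ S, φ ≠ ψ → classInner φ ψ = 0) (hne : ∀ φ ∈ S, classInner φ φ ≠ 0)
    (c : (L → ℂ) → ℂ) : lin S T (∑ φ ∈ S, c φ • φ) = ∑ φ ∈ S, c φ • T φ := by
  classical
  unfold lin
  apply Finset.sum_congr rfl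
  intro φ hφ
  congr 1
  rw [classInner_sum_left, Finset.sum_eq_single φ]
  · rw [classInner_smul_left, mul_div_assoc, div_self (hne φ hφ), mul_one]
  · intro ψ hψ hne'
    rw [classInner_smul_left, horth ψ hψ φ hφ hne', mul_zero]
  · intro h; exact absurd hφ h

omit [Group G] [Fintype G] in
theorem lin_mem (horth : ∀ φ ∈ S, ∀ ψ ∈ S, φ ≠ ψ → classInner φ ψ = 0) (hne : ∀ φ ∈ S, classInner φ φ ≠ 0)
    {φ : L → ℂ} (hφ : φ ∈ S) : lin S T φ = T φ := by
  classical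
  unfold lin
  rw [Finset.sum_eq_single φ]
  · rw [div_self (hne φ hφ), one_smul]
  · intro ψ hψ hne'
    rw [horth φ hφ ψ hψ hne'.symm, zero_div, zero_smul]
  · intro h; exact absurd hφ h

theorem inner_comb {X : Type*} [Group X] [Fintype X] {ι : Type*} (s : Finset ι) (c d : ι → ℂ) (f : ι → X → ℂ) :
    classInner (∑ i ∈ s, c i • f i) (∑ j ∈ s, d j • f j) = ∑ i ∈ s, ∑ j ∈ s, c i * conj (d j) * classInner (f i) (f j) := by
  rw [classInner_sum_left]
  apply Finset.sum_congr rfl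
  intro i _
  rw [classInner_sum_right]
  apply Finset.sum_congr rfl
  intro j _
  rw [classInner_smul_left, classInner_smul_right]
  ring

theorem lin_isometry (horth : ∀ φ ∈ S, ∀ ψ ∈ S, φ ≠ ψ → classInner φ ψ = 0) (hne : ∀ φ ∈ S, classInner φ φ ≠ 0)
    (hgen : ∀ φ ∈ S, IsGeneralizedCharacter G (T φ)) (hgram : ∀ φ ∈ S, ∀ ψ ∈ S, classInner (T φ) (T ψ) = classInner φ ψ) :
    IsLinearIsometryOn (zspan (S : Set (L → ℂ))) (lin S T) := by
  refine ⟨?_, ?_, ?_, ?_⟩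
  · intro α _ β _
    unfold lin
    rw [← Finset.sum_add_distrib]
    apply Finset.sum_congr rfl
    intro φ _
    rw [classInner_add_left, add_div, add_smul]
  · intro α _ n
    unfold lin
    rw [Finset.smul_sum]
    apply Finset.sum_congr rfl
    intro φ _
    rw [zsmul_eq, classInner_smul_left, zsmul_eq, smul_smul, mul_div_assoc]
  · intro α hα β hβ
    obtain ⟨c, rfl⟩ := mem_zspan_finset.mp hα
    obtain ⟨d, rfl⟩ := mem_zspan_finset.mp hβ
    rw [lin_comb horth hne (fun φ => (c φ : ℂ)), lin_comb horth hne (fun φ => (d φ : ℂ)), inner_comb, inner_comb S _ _ (fun φ => φ)]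
    apply Finset.sum_congr rfl
    intro φ hφ
    apply Finset.sum_congr rfl
    intro ψ hψ
    rw [hgram φ hφ ψ hψ]
  · intro α hα
    obtain ⟨c, rfl⟩ := mem_zspan_finset.mp hα
    rw [lin_comb horth hne (fun φ => (c φ : ℂ))]
    apply IsGeneralizedCharacter.sum
    intro φ hφ
    exact IsGeneralizedCharacter.zsmul (hgen φ hφ) (c φ)

/-- **base point criterion** for agreement -/
theorem agree_of_base (horth : ∀ φ ∈ S, ∀ ψ ∈ S, φ ≠ ψ → classInner φ ψ = 0) (hne : ∀ φ ∈ S, classInner φ φ ≠ 0)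
    (hτ : IsLinearIsometryOn (zspanOn (S : Set (L → ℂ)) {1}ᶜ) τ) (d : (L → ℂ) → ℤ) (hd : ∀ φ ∈ S, φ 1 = (d φ : ℂ))
    {χ₁ : L → ℂ} (hχ₁ : χ₁ ∈ S) (hd1 : d χ₁ ≠ 0)
    (h : ∀ φ ∈ S, τ ((d χ₁ : ℂ) • φ - (d φ : ℂ) • χ₁) = (d χ₁ : ℂ) • T φ - (d φ : ℂ) • T χ₁)
    {α : L → ℂ} (hα : α ∈ zspanOn (S : Set (L → ℂ)) {1}ᶜ) : lin S T α = τ α := by
  classical
  rw [mem_zspanOn_one] at hα
  obtain ⟨hα, hα1⟩ := hα
  have hα0 := hα
  obtain ⟨c, hc⟩ := mem_zspan_finset.mp hα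
  have hE := isZClosed_zspanOn (S : Set (L → ℂ)) ({1}ᶜ : Set L)
  have hd1' : (d χ₁ : ℂ) ≠ 0 := by exact_mod_cast hd1
  -- d₁ α = Σ c_φ (d₁ φ - d_φ χ₁)
  have hsum : ∑ φ ∈ S, (c φ : ℂ) * (d φ : ℂ) = 0 := by
    rw [hc] at hα1
    simp only [Finset.sum_apply, Pi.smul_apply, smul_eq_mul] at hα1
    rw [← hα1]
    exact Finset.sum_congr rfl fun φ hφ => by rw [hd φ hφ]
  have h1 : (d χ₁ : ℂ) • α = ∑ φ ∈ S, (c φ : ℂ) • ((d χ₁ : ℂ) • φ - (d φ : ℂ) • χ₁) := by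
    simp only [smul_sub, Finset.sum_sub_distrib, smul_smul]
    rw [← Finset.sum_smul, hsum, zero_smul, sub_zero, hc, Finset.smul_sum]
    exact Finset.sum_congr rfl fun φ _ => by rw [smul_smul, mul_comm]
  have hmem : ∀ φ ∈ S, (d χ₁ : ℂ) • φ - (d φ : ℂ) • χ₁ ∈ zspanOn (S : Set (L → ℂ)) {1}ᶜ := by
    intro φ hφ
    rw [mem_zspanOn_one]
    constructor
    · rw [← zsmul_eq, ← zsmul_eq]
      exact zspan_sub (zspan_zsmul _ (mem_zspan_of_mem hφ)) (zspan_zsmul _ (mem_zspan_of_mem hχ₁))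
    · simp only [Pi.sub_apply, Pi.smul_apply, smul_eq_mul]
      rw [hd φ hφ, hd χ₁ hχ₁]; ring
  have hαE : α ∈ zspanOn (S : Set (L → ℂ)) {1}ᶜ := mem_zspanOn_one.mpr ⟨hα0, hα1⟩
  have h2 : (d χ₁ : ℂ) • τ α = (d χ₁ : ℂ) • lin S T α := by
    rw [← iso_smul hτ hαE, h1, iso_sum hE hτ]
    · have h3 : ∀ φ ∈ S, τ ((c φ : ℂ) • ((d χ₁ : ℂ) • φ - (d φ : ℂ) • χ₁)) = (c φ : ℂ) • ((d χ₁ : ℂ) • T φ - (d φ : ℂ) • T χ₁) := by
        intro φ hφ
        rw [iso_smul hτ (hmem φ hφ), h φ hφ]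
      rw [Finset.sum_congr rfl h3]
      simp only [smul_sub, Finset.sum_sub_distrib, smul_smul]
      rw [← Finset.sum_smul, hsum, zero_smul, sub_zero, hc, lin_comb horth hne (fun φ => (c φ : ℂ)), Finset.smul_sum]
      exact Finset.sum_congr rfl fun φ _ => by rw [smul_smul, mul_comm]
    · intro φ hφ
      rw [← zsmul_eq]
      exact hE.smul _ _ (hmem φ hφ)
  exact (smul_right_injective _ hd1' h2).symm

/-- **base point criterion** for coherence -/
theorem isCoherent_of_base (horth : ∀ φ ∈ S, ∀ ψ ∈ S, φ ≠ ψ → classInner φ ψ = 0) (hne : ∀ φ ∈ S, classInner φ φ ≠ 0)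
    (hτ : IsLinearIsometryOn (zspanOn (S : Set (L → ℂ)) {1}ᶜ) τ) (d : (L → ℂ) → ℤ) (hd : ∀ φ ∈ S, φ 1 = (d φ : ℂ))
    {χ₁ : L → ℂ} (hχ₁ : χ₁ ∈ S) (hd1 : d χ₁ ≠ 0)
    (hgen : ∀ φ ∈ S, IsGeneralizedCharacter G (T φ)) (hgram : ∀ φ ∈ S, ∀ ψ ∈ S, classInner (T φ) (T ψ) = classInner φ ψ)
    (h : ∀ φ ∈ S, τ ((d χ₁ : ℂ) • φ - (d φ : ℂ) • χ₁) = (d χ₁ : ℂ) • T φ - (d φ : ℂ) • T χ₁)
    (hnz : ∃ α ∈ zspanOn (S : Set (L → ℂ)) {1}ᶜ, α ≠ 0) : IsCoherent (S : Set (L → ℂ)) {1}ᶜ τ :=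
  ⟨hnz, lin S T, lin_isometry horth hne hgen hgram, fun _ hα => agree_of_base horth hne hτ d hd hχ₁ hd1 h hα⟩

/-- two distinct orthogonal members give a nonzero element vanishing at one -/
theorem exists_ne_zero_of_two {S : Set (L → ℂ)} {φ ψ : L → ℂ} (hφ : φ ∈ S) (hψ : ψ ∈ S) (h0 : classInner φ ψ = 0) (hφ0 : classInner φ φ ≠ 0)
    {a b : ℤ} (ha : φ 1 = (a : ℂ)) (hb : ψ 1 = (b : ℂ)) (hb0 : b ≠ 0) : ∃ α ∈ zspanOn S {1}ᶜ, α ≠ 0 := by
  refine ⟨(b : ℂ) • φ - (a : ℂ) • ψ, ?_, ?_⟩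
  · rw [mem_zspanOn_one]
    constructor
    · rw [← zsmul_eq, ← zsmul_eq]
      exact zspan_sub (zspan_zsmul _ (mem_zspan_of_mem hφ)) (zspan_zsmul _ (mem_zspan_of_mem hψ))
    · simp only [Pi.sub_apply, Pi.smul_apply, smul_eq_mul]
      rw [ha, hb]; ring
  · intro h
    have h1 := congrArg (fun f => classInner f φ) h
    simp only [classInner_sub_left, classInner_smul_left, classInner_zero_left] at h1
    have h2 : classInner ψ φ = 0 := by rw [← classInner_conj_symm, h0, map_zero]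
    rw [h2, mul_zero, sub_zero, mul_eq_zero] at h1
    rcases h1 with h1 | h1
    · exact hb0 (by exact_mod_cast h1)
    · exact hφ0 h1

/-- members of the span of characters take integer values at one -/
theorem isGeneralized_of_mem_zspan {S : Set (L → ℂ)} (hS : ∀ φ ∈ S, IsGeneralizedCharacter L φ) {α : L → ℂ} (hα : α ∈ zspan S) :
    IsGeneralizedCharacter L α := by
  unfold zspan at hα
  rw [SetLike.mem_coe] at hα
  induction hα using Submodule.span_induction with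
  | mem x hx => exact hS x hx
  | zero => exact isGeneralized_zero
  | add x y _ _ hx hy => exact IsGeneralizedCharacter.add hx hy
  | smul n x _ hx => rw [zsmul_eq]; exact IsGeneralizedCharacter.zsmul hx n

/-- norms of characters -/
theorem inner_self_ne_zero {χ : L → ℂ} (h : χ ≠ 0) : classInner χ χ ≠ 0 := fun h' => h (classInner_self_eq_zero.mp h')

/-- pairwise orthogonal sets of nonzero characters are finite -/
theorem finite_of_orthogonal {S : Set (L → ℂ)} (hS : ∀ φ ∈ S, IsCharacter L φ) (h0 : ∀ φ ∈ S, φ ≠ 0)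
    (horth : ∀ φ ∈ S, ∀ ψ ∈ S, φ ≠ ψ → classInner φ ψ = 0) : S.Finite := by
  classical
  have hex : ∀ φ : S, ∃ χ : IrrCharacter L, classInner (φ : L → ℂ) χ ≠ 0 := fun φ =>
    exists_constituent (hS φ φ.2) (h0 φ φ.2)
  choose f hf using hex
  have hinj : Function.Injective f := by
    intro φ ψ h
    by_contra hne
    have h1 := horth φ φ.2 ψ ψ.2 (fun h => hne (Subtype.ext h))
    rcases (inner_eq_zero_iff (hS φ φ.2) (hS ψ ψ.2)).mp h1 (f φ) with h2 | h2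
    · exact hf φ h2
    · rw [h] at h2; exact hf ψ h2
  have : Finite S := Finite.of_injective f hinj
  exact Set.toFinite S

end iso

end CfsgLib.CharCoh
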