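import Mathlib
import Cfsg.Prelude.Def_Characters
import Cfsg.Prelude.Def_OddOrderChar
import Cfsg.Agent.Lib.CharBasic
import Cfsg.Agent.Lib.CharBasic2
import Cfsg.Agent.Lib.CharInd
import Cfsg.Agent.Lib.CharClifford
import Cfsg.Agent.Lib.CharTI
import Cfsg.Agent.Lib.CharCoh

/-!
# Coherence systems

Bessel's inequality, Peterfalvi (5.5)-(5.7).
-/

set_option autoImplicit false
set_option linter.style.haveILetI false

open scoped ComplexConjugate

namespace CfsgLib.CharCoh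

open Cfsg CfsgLib.CharBasic CfsgLib.CharInd CfsgLib.CharClifford

universe u v

section bessel

variable {G : Type u} [Group G] [Fintype G]

/-- **Bessel's inequality** for an orthogonal family, with real coefficients -/
theorem bessel {ι : Type*} [DecidableEq ι] (s : Finset ι) (f : ι → G → ℂ) (n : ι → ℝ) (hn : ∀ i ∈ s, 0 < n i)
    (hf : ∀ i ∈ s, ∀ j ∈ s, classInner (f i) (f j) = if i = j then (n i : ℂ) else 0) (X : G → ℂ) (x : ι → ℝ)
    (hx : ∀ i ∈ s, classInner X (f i) = (x i : ℂ)) :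
    ∑ i ∈ s, x i ^ 2 / n i ≤ (classInner X X).re ∧
      ((classInner X X).re ≤ ∑ i ∈ s, x i ^ 2 / n i → X = ∑ i ∈ s, ((x i / n i : ℝ) : ℂ) • f i) := by
  have h1 : classInner X (∑ i ∈ s, ((x i / n i : ℝ) : ℂ) • f i) = ((∑ i ∈ s, x i ^ 2 / n i : ℝ) : ℂ) := by
    rw [classInner_sum_right]
    push_cast
    apply Finset.sum_congr rfl
    intro i hi
    rw [classInner_smul_right, hx i hi]
    simp only [map_div₀, Complex.conj_ofReal]
    ring
  have h2 : classInner (∑ i ∈ s, ((x i / n i : ℝ) : ℂ) • f i) X = ((∑ i ∈ s, x i ^ 2 / n i : ℝ) : ℂ) := by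
    rw [← classInner_conj_symm, h1, Complex.conj_ofReal]
  have h3 : classInner (∑ i ∈ s, ((x i / n i : ℝ) : ℂ) • f i) (∑ i ∈ s, ((x i / n i : ℝ) : ℂ) • f i) = ((∑ i ∈ s, x i ^ 2 / n i : ℝ) : ℂ) := by
    rw [inner_comb]
    push_cast
    apply Finset.sum_congr rfl
    intro i hi
    rw [Finset.sum_eq_single i]
    · rw [hf i hi i hi, if_pos rfl]
      have : (n i : ℂ) ≠ 0 := by exact_mod_cast (hn i hi).ne'
      simp only [map_div₀, Complex.conj_ofReal]
      field_simp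
    · intro j hj hji
      rw [hf i hi j hj, if_neg (Ne.symm hji), mul_zero]
    · intro h; exact absurd hi h
  have h4 : classInner (X - ∑ i ∈ s, ((x i / n i : ℝ) : ℂ) • f i) (X - ∑ i ∈ s, ((x i / n i : ℝ) : ℂ) • f i) =
      classInner X X - ((∑ i ∈ s, x i ^ 2 / n i : ℝ) : ℂ) := by
    rw [classInner_sub_left, classInner_sub_right, classInner_sub_right, h1, h2, h3]
    ring
  have h5 := classInner_self_re_nonneg (X - ∑ i ∈ s, ((x i / n i : ℝ) : ℂ) • f i)
  rw [h4, Complex.sub_re, Complex.ofReal_re] at h5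
  refine ⟨by linarith, fun h => ?_⟩
  have h6 : (classInner X X).re = ∑ i ∈ s, x i ^ 2 / n i := by linarith
  have h7 : classInner X X = ((classInner X X).re : ℂ) := by
    rw [classInner_self, Complex.ofReal_re]
  rw [h7, h6, sub_self, classInner_self_eq_zero, sub_eq_zero] at h4
  exact h4

theorem gen_inner_comm {X Y : G → ℂ} (hX : IsGeneralizedCharacter G X) (hY : IsGeneralizedCharacter G Y) :
    classInner X Y = classInner Y X := by
  obtain ⟨n, hn⟩ := IsGeneralizedCharacter.inner_int hX hY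
  rw [← classInner_conj_symm Y X, ← classInner_conj_symm X Y, hn]
  simp

theorem conjFun_conjFun {X : Type*} (χ : X → ℂ) : conjFun (conjFun χ) = χ := by
  funext x; simp [conjFun]

theorem conjFun_one {χ : G → ℂ} (h : IsCharacter G χ) : conjFun χ 1 = χ 1 := by
  obtain ⟨n, hn⟩ := IsCharacter.exists_nat h
  simp [conjFun, hn]

theorem isCharacter_conjFun {χ : G → ℂ} (h : IsCharacter G χ) : IsCharacter G (conjFun χ) := IsCharacter.conj h

theorem isIrr_conjFun {χ : G → ℂ} (h : IsIrrCharacter G χ) : IsIrrCharacter G (conjFun χ) := IsIrrCharacter.conj h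

theorem inner_conjFun (φ ψ : G → ℂ) : classInner (conjFun φ) (conjFun ψ) = conj (classInner φ ψ) := classInner_conj_conj φ ψ

theorem inner_conjFun_char {φ ψ : G → ℂ} (hφ : IsCharacter G φ) (hψ : IsCharacter G ψ) :
    classInner (conjFun φ) (conjFun ψ) = classInner φ ψ := by
  obtain ⟨n, hn⟩ := IsCharacter.inner_nat hφ hψ
  rw [inner_conjFun, hn]; simp

/-- Bessel for orthonormal sets with integer coefficients -/
theorem bessel_int (R : Finset (G → ℂ)) (hR : ∀ α ∈ R, ∀ β ∈ R, α ≠ β → classInner α β = 0) (hR1 : ∀ α ∈ R, classInner α α = 1)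
    (X : G → ℂ) (x : (G → ℂ) → ℤ) (hx : ∀ α ∈ R, classInner X α = (x α : ℂ)) :
    ((∑ α ∈ R, x α ^ 2 : ℤ) : ℝ) ≤ (classInner X X).re ∧
      ((classInner X X).re ≤ ((∑ α ∈ R, x α ^ 2 : ℤ) : ℝ) → X = ∑ α ∈ R, (x α : ℂ) • α) := by
  classical
  have := bessel R (fun α => α) (fun _ => 1) (fun _ _ => one_pos) (fun α hα β hβ => by
    split_ifs with h
    · subst h; rw [hR1 α hα]; simp
    · exact hR α hα β hβ h) X (fun α => (x α : ℝ)) (fun α hα => by rw [hx α hα]; simp)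
  simpa using this

/-- norm of an integer combination of an orthonormal set -/
theorem norm_comb (R : Finset (G → ℂ)) (hR : ∀ α ∈ R, ∀ β ∈ R, α ≠ β → classInner α β = 0) (hR1 : ∀ α ∈ R, classInner α α = 1)
    (x y : (G → ℂ) → ℤ) : classInner (∑ α ∈ R, (x α : ℂ) • α) (∑ α ∈ R, (y α : ℂ) • α) = ((∑ α ∈ R, x α * y α : ℤ) : ℂ) := by
  classical
  rw [inner_comb R _ _ (fun φ => φ)]
  push_cast
  apply Finset.sum_congr rfl
  intro α hα
  rw [Finset.sum_eq_single α]
  · rw [hR1 α hα]; simp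
  · intro β hβ hne
    rw [hR α hα β hβ (Ne.symm hne), mul_zero]
  · intro h; exact absurd hα h

theorem inner_comb_mem (R : Finset (G → ℂ)) (hR : ∀ α ∈ R, ∀ β ∈ R, α ≠ β → classInner α β = 0) (hR1 : ∀ α ∈ R, classInner α α = 1)
    (x : (G → ℂ) → ℤ) {β : G → ℂ} (hβ : β ∈ R) : classInner (∑ α ∈ R, (x α : ℂ) • α) β = (x β : ℂ) := by
  classical
  rw [classInner_sum_left, Finset.sum_eq_single β]
  · rw [classInner_smul_left, hR1 β hβ, mul_one]
  · intro α hα hne
    rw [classInner_smul_left, hR α hα β hβ hne, mul_zero]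
  · intro h; exact absurd hβ h

theorem inner_comb_zero (R : Finset (G → ℂ)) (x : (G → ℂ) → ℤ) {Z : G → ℂ} (hZ : ∀ α ∈ R, classInner α Z = 0) :
    classInner (∑ α ∈ R, (x α : ℂ) • α) Z = 0 := by
  rw [classInner_sum_left]
  apply Finset.sum_eq_zero
  intro α hα
  rw [classInner_smul_left, hZ α hα, mul_zero]

end bessel

section system

variable {L : Type u} [Group L] [Fintype L] {G : Type v} [Group G] [Fintype G] {S : Set (L → ℂ)} {τ : (L → ℂ) → (G → ℂ)} {R : (L → ℂ) → Finset (G → ℂ)}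

theorem sub_conj_mem (hchar : ∀ χ ∈ S, IsCharacter L χ) (hconj : ∀ χ ∈ S, conjFun χ ∈ S) {χ : L → ℂ} (hχ : χ ∈ S) :
    χ - conjFun χ ∈ zspanOn S {1}ᶜ := by
  rw [mem_zspanOn_one]
  refine ⟨zspan_sub (mem_zspan_of_mem hχ) (mem_zspan_of_mem (hconj χ hχ)), ?_⟩
  rw [Pi.sub_apply, conjFun_one (hchar χ hχ), sub_self]

theorem sys_sub_conj_mem (hS : IsCoherenceSystem S τ R) {χ : L → ℂ} (hχ : χ ∈ S) : χ - conjFun χ ∈ zspanOn S {1}ᶜ :=
  sub_conj_mem hS.isCharacter hS.conj_mem hχ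

theorem sys_R_zero (hS : IsCoherenceSystem S τ R) {χ : L → ℂ} (hχ : χ ∈ S) : ∀ α ∈ R χ, ∀ β ∈ R χ, α ≠ β → classInner α β = 0 :=
  fun α hα β hβ h => by rw [hS.orthonormal χ hχ α hα β hβ, if_neg h]

theorem sys_R_one (hS : IsCoherenceSystem S τ R) {χ : L → ℂ} (hχ : χ ∈ S) : ∀ α ∈ R χ, classInner α α = 1 :=
  fun α hα => by rw [hS.orthonormal χ hχ α hα α hα, if_pos rfl]

theorem sys_inner_sub_conj (hS : IsCoherenceSystem S τ R) {χ : L → ℂ} (hχ : χ ∈ S) : classInner χ (χ - conjFun χ) = classInner χ χ := by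
  rw [classInner_sub_right, hS.orthogonal χ hχ _ (hS.conj_mem χ hχ) (Ne.symm (hS.conj_ne χ hχ)), sub_zero]

/-- Peterfalvi (5.5), general form -/
theorem sys_five (hS : IsCoherenceSystem S τ R) {χ : L → ℂ} (hχ : χ ∈ S) {X : G → ℂ} (hX : IsGeneralizedCharacter G X)
    (h : classInner X (τ (χ - conjFun χ)) = classInner χ χ) :
    ∃ x : (G → ℂ) → ℤ, (∀ α ∈ R χ, classInner X α = (x α : ℂ)) ∧ ((∑ α ∈ R χ, x α : ℤ) : ℂ) = classInner χ χ ∧
      (classInner χ χ).re ≤ ((∑ α ∈ R χ, x α ^ 2 : ℤ) : ℝ) ∧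
      (((∑ α ∈ R χ, x α ^ 2 : ℤ) : ℝ) ≤ (classInner χ χ).re → ∀ α ∈ R χ, x α = 0 ∨ x α = 1) := by
  classical
  have hex : ∀ α : G → ℂ, ∃ n : ℤ, α ∈ R χ → classInner X α = (n : ℂ) := by
    intro α
    by_cases hα : α ∈ R χ
    · obtain ⟨n, hn⟩ := IsGeneralizedCharacter.inner_int hX (hS.virtual χ hχ α hα)
      exact ⟨n, fun _ => hn⟩
    · exact ⟨0, fun h => absurd h hα⟩
  choose x hx using hex
  have hsum : ((∑ α ∈ R χ, x α : ℤ) : ℂ) = classInner χ χ := by
    rw [← h, hS.sum_eq χ hχ, classInner_sum_right]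
    push_cast
    exact Finset.sum_congr rfl fun α hα => (hx α hα).symm
  have hre : (classInner χ χ).re = ((∑ α ∈ R χ, x α : ℤ) : ℝ) := by
    rw [← hsum, Complex.intCast_re]
  have hle : ∑ α ∈ R χ, x α ≤ ∑ α ∈ R χ, x α ^ 2 := by
    apply Finset.sum_le_sum
    intro α _
    nlinarith [sq_nonneg (x α), Int.le_self_sq (x α)]
  refine ⟨x, hx, hsum, ?_, ?_⟩
  · rw [hre]; exact_mod_cast hle
  · intro hle2 α hα
    rw [hre] at hle2
    have hle3 : ∑ α ∈ R χ, x α ^ 2 ≤ ∑ α ∈ R χ, x α := by exact_mod_cast hle2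
    have h0 : ∑ α ∈ R χ, (x α ^ 2 - x α) = 0 := by rw [Finset.sum_sub_distrib]; omega
    have h1 := (Finset.sum_eq_zero_iff_of_nonneg (fun α _ => by nlinarith [Int.le_self_sq (x α)])).mp h0 α hα
    have h2 : x α * (x α - 1) = 0 := by linear_combination h1
    rcases mul_eq_zero.mp h2 with h3 | h3
    · left; exact h3
    · right; omega

end system

end CfsgLib.CharCoh
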