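import Mathlib
import Cfsg.Prelude.Def_Characters
import Cfsg.Prelude.Def_OddOrderChar
import Cfsg.Agent.Lib.CharBasic
import Cfsg.Agent.Lib.CharBasic2
import Cfsg.Agent.Lib.CharInd
import Cfsg.Agent.Lib.CharClifford
import Cfsg.Agent.Lib.CharTI
import Cfsg.Agent.Lib.CharCoh
import Cfsg.Agent.Lib.CharCoh2

/-!
# Coherence systems, II

Peterfalvi (5.6), (5.7).
-/

set_option autoImplicit false
set_option linter.style.haveILetI false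

open scoped ComplexConjugate

namespace CfsgLib.CharCoh

open Cfsg CfsgLib.CharBasic CfsgLib.CharInd CfsgLib.CharClifford

universe u v

section system

variable {L : Type u} [Group L] [Fintype L] {G : Type v} [Group G] [Fintype G] {S : Set (L → ℂ)} {τ : (L → ℂ) → (G → ℂ)} {R : (L → ℂ) → Finset (G → ℂ)}

theorem char_eq_zero_of_one {χ : L → ℂ} (h : IsCharacter L χ) (h1 : χ 1 = 0) : χ = 0 := by
  funext g
  have := IsCharacter.norm_le h g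
  rw [h1, norm_zero] at this
  exact norm_le_zero_iff.mp this

theorem sys_ne_zero (hS : IsCoherenceSystem S τ R) {χ : L → ℂ} (hχ : χ ∈ S) : χ ≠ 0 := by
  intro h
  apply hS.conj_ne χ hχ
  rw [h]; funext x; simp [conjFun]

theorem sys_norm_ne_zero (hS : IsCoherenceSystem S τ R) {χ : L → ℂ} (hχ : χ ∈ S) : classInner χ χ ≠ 0 :=
  inner_self_ne_zero (sys_ne_zero hS hχ)

theorem sys_one_ne_zero (hS : IsCoherenceSystem S τ R) {χ : L → ℂ} (hχ : χ ∈ S) : χ 1 ≠ 0 := fun h =>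
  sys_ne_zero hS hχ (char_eq_zero_of_one (hS.isCharacter χ hχ) h)

theorem sys_finite (hS : IsCoherenceSystem S τ R) : S.Finite :=
  finite_of_orthogonal hS.isCharacter (fun _ h => sys_ne_zero hS h) hS.orthogonal

/-- an image of the right norm lies in the span of `R φ` -/
theorem sys_image (hS : IsCoherenceSystem S τ R) {φ : L → ℂ} (hφ : φ ∈ S) {Y : G → ℂ} (hY : IsGeneralizedCharacter G Y)
    (hYn : (classInner Y Y).re ≤ (classInner φ φ).re) (h : classInner Y (τ (φ - conjFun φ)) = classInner φ φ) :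
    ∃ x : (G → ℂ) → ℤ, Y = ∑ α ∈ R φ, (x α : ℂ) • α ∧ (∀ α ∈ R φ, x α = 0 ∨ x α = 1) ∧ ((∑ α ∈ R φ, x α : ℤ) : ℂ) = classInner φ φ := by
  obtain ⟨x, hx, hsum, hle, heq⟩ := sys_five hS hφ hY h
  obtain ⟨b1, b2⟩ := bessel_int (R φ) (sys_R_zero hS hφ) (sys_R_one hS hφ) Y x hx
  exact ⟨x, b2 (by linarith), heq (by linarith), hsum⟩

theorem sys_inner_zero (hS : IsCoherenceSystem S τ R) {φ χ : L → ℂ} (hφ : φ ∈ S) (hχ : χ ∈ S) (h1 : classInner φ χ = 0) (h2 : classInner φ (conjFun χ) = 0)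
    (x : (G → ℂ) → ℤ) : ∀ β ∈ R χ, classInner (∑ α ∈ R φ, (x α : ℂ) • α) β = 0 :=
  fun β hβ => inner_comb_zero _ _ fun α hα => hS.disjoint χ hχ φ hφ h1 h2 α hα β hβ

theorem symm_zero {X Y : G → ℂ} (h : classInner X Y = 0) : classInner Y X = 0 := by
  rw [← classInner_conj_symm, h, map_zero]

theorem sub_smul_mem {S : Set (L → ℂ)} (d : (L → ℂ) → ℕ) (hd : ∀ φ ∈ S, φ 1 = (d φ : ℂ)) {φ ψ : L → ℂ} (hφ : φ ∈ S) (hψ : ψ ∈ S) :
    (d ψ : ℂ) • φ - (d φ : ℂ) • ψ ∈ zspanOn S {1}ᶜ := by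
  rw [mem_zspanOn_one]
  constructor
  · have h1 : (d ψ : ℂ) • φ = (d ψ : ℤ) • φ := by rw [zsmul_eq]; simp
    have h2 : (d φ : ℂ) • ψ = (d φ : ℤ) • ψ := by rw [zsmul_eq]; simp
    rw [h1, h2]
    exact zspan_sub (zspan_zsmul _ (mem_zspan_of_mem hφ)) (zspan_zsmul _ (mem_zspan_of_mem hψ))
  · simp only [Pi.sub_apply, Pi.smul_apply, smul_eq_mul]
    rw [hd φ hφ, hd ψ hψ]; ring

/-- Peterfalvi (5.6) -/
theorem sys_six (hS : IsCoherenceSystem S τ R) (d n : (L → ℂ) → ℕ) (hd : ∀ φ ∈ S, φ 1 = (d φ : ℂ)) (hn : ∀ φ ∈ S, classInner φ φ = (n φ : ℂ))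
    (S₁ : Finset (L → ℂ)) (hS₁ : ↑S₁ ⊆ S) (hS₁c : ∀ φ ∈ S₁, conjFun φ ∈ S₁) (hcoh : IsCoherent (↑S₁ : Set (L → ℂ)) {1}ᶜ τ)
    (χ : L → ℂ) (hχ : χ ∈ S) (hχ₁ : χ ∉ S₁) (hχ₂ : conjFun χ ∉ S₁) (χ₁ : L → ℂ) (hχ₁S : χ₁ ∈ S₁) (hdvd : d χ₁ ∣ d χ)
    (hineq : (2 * d χ * d χ₁ : ℝ) < ∑ φ ∈ S₁, ((d φ : ℝ) ^ 2 / (n φ : ℝ))) :
    IsCoherent (↑S₁ ∪ {χ, conjFun χ} : Set (L → ℂ)) {1}ᶜ τ := by
  classical
  obtain ⟨⟨α₀, hα₀, hα₀'⟩, τ₁, hτ₁, hagree⟩ := hcoh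
  have hSS : ∀ φ ∈ S₁, φ ∈ S := fun φ hφ => hS₁ (Finset.mem_coe.mpr hφ)
  have hnpos : ∀ φ ∈ S, (0 : ℝ) < n φ := by
    intro φ hφ
    have h1 := sys_norm_ne_zero hS hφ
    rw [hn φ hφ] at h1
    have : n φ ≠ 0 := by intro h; rw [h] at h1; exact h1 (by simp)
    exact_mod_cast Nat.pos_of_ne_zero this
  have hdpos : ∀ φ ∈ S, (0 : ℝ) < d φ := by
    intro φ hφ
    have h1 := sys_one_ne_zero hS hφ
    rw [hd φ hφ] at h1
    have : d φ ≠ 0 := by intro h; rw [h] at h1; exact h1 (by simp)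
    exact_mod_cast Nat.pos_of_ne_zero this
  have horth := hS.orthogonal
  have hcχ := hS.conj_mem χ hχ
  have hz1 : ∀ φ ∈ S₁, φ ∈ zspan (S₁ : Set (L → ℂ)) := fun φ hφ => mem_zspan_of_mem (Finset.mem_coe.mpr hφ)
  have hχφ : ∀ φ ∈ S₁, φ ≠ χ := fun φ hφ h => hχ₁ (h ▸ hφ)
  have hχφ' : ∀ φ ∈ S₁, φ ≠ conjFun χ := fun φ hφ h => hχ₂ (h ▸ hφ)
  have ho1 : ∀ φ ∈ S₁, classInner φ χ = 0 := fun φ hφ => horth φ (hSS φ hφ) χ hχ (hχφ φ hφ)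
  have ho2 : ∀ φ ∈ S₁, classInner φ (conjFun χ) = 0 := fun φ hφ => horth φ (hSS φ hφ) _ hcχ (hχφ' φ hφ)
  have hmono : zspanOn (S₁ : Set (L → ℂ)) {1}ᶜ ⊆ zspanOn S {1}ᶜ := zspanOn_mono hS₁
  -- Step 1
  have hsc : ∀ φ ∈ S₁, φ - conjFun φ ∈ zspanOn (S₁ : Set (L → ℂ)) {1}ᶜ := fun φ hφ =>
    sub_conj_mem (S := (S₁ : Set (L → ℂ))) (fun ψ hψ => hS.isCharacter ψ (hS₁ hψ)) (fun ψ hψ => hS₁c ψ hψ) hφ
  have st1 : ∀ φ ∈ S₁, ∀ α ∈ R χ, classInner (τ₁ φ) α = 0 := by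
    intro φ hφ α hα
    have hnorm : classInner (τ₁ φ) (τ₁ φ) = classInner φ φ := hτ₁.2.2.1 _ (hz1 φ hφ) _ (hz1 φ hφ)
    obtain ⟨x, hx, -, -⟩ := sys_image hS (hSS φ hφ) (hτ₁.2.2.2 φ (hz1 φ hφ)) (le_of_eq (by rw [hnorm])) (by
      rw [← hagree _ (hsc φ hφ), hτ₁.2.2.1 _ (hz1 φ hφ) _ (hsc φ hφ).1, sys_inner_sub_conj hS (hSS φ hφ)])
    rw [hx]
    exact sys_inner_zero hS (hSS φ hφ) hχ (ho1 φ hφ) (ho2 φ hφ) x α hα
  have st1' : ∀ φ ∈ S₁, classInner (τ₁ φ) (τ (χ - conjFun χ)) = 0 := by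
    intro φ hφ
    rw [hS.sum_eq χ hχ, classInner_sum_right]
    exact Finset.sum_eq_zero fun α hα => st1 φ hφ α hα
  -- Step 2
  obtain ⟨a, ha⟩ := hdvd
  have hχ₁S' := hSS χ₁ hχ₁S
  have hβ : χ - (a : ℂ) • χ₁ ∈ zspanOn S {1}ᶜ := by
    rw [mem_zspanOn_one]
    constructor
    · have h2 : (a : ℂ) • χ₁ = (a : ℤ) • χ₁ := by rw [zsmul_eq]; simp
      rw [h2]
      exact zspan_sub (mem_zspan_of_mem hχ) (zspan_zsmul _ (mem_zspan_of_mem hχ₁S'))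
    · simp only [Pi.sub_apply, Pi.smul_apply, smul_eq_mul]
      rw [hd χ hχ, hd χ₁ hχ₁S', ha]; push_cast; ring
  have hτβ := hS.isometry.2.2.2 _ hβ
  have hscχ := sys_sub_conj_mem hS hχ
  have h5 : classInner (τ (χ - (a : ℂ) • χ₁)) (τ (χ - conjFun χ)) = classInner χ χ := by
    rw [hS.isometry.2.2.1 _ hβ _ hscχ, classInner_sub_left, sys_inner_sub_conj hS hχ, classInner_smul_left, classInner_sub_right,
      ho1 χ₁ hχ₁S, ho2 χ₁ hχ₁S]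
    ring
  obtain ⟨x, hx, hxsum, hxle, hxeq⟩ := sys_five hS hχ hτβ h5
  obtain ⟨X, hX⟩ : ∃ X : G → ℂ, X = ∑ α ∈ R χ, (x α : ℂ) • α := ⟨_, rfl⟩
  have hXgen : IsGeneralizedCharacter G X := by
    rw [hX]; exact IsGeneralizedCharacter.sum _ fun α hα => IsGeneralizedCharacter.zsmul (hS.virtual χ hχ α hα) _
  obtain ⟨Y, hY⟩ : ∃ Y : G → ℂ, Y = X - τ (χ - (a : ℂ) • χ₁) := ⟨_, rfl⟩
  have hYgen : IsGeneralizedCharacter G Y := by rw [hY]; exact IsGeneralizedCharacter.sub hXgen hτβ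
  have hYα : ∀ α ∈ R χ, classInner α Y = 0 := by
    intro α hα
    apply symm_zero
    rw [hY, classInner_sub_left, hx α hα, hX, inner_comb_mem (R χ) (sys_R_zero hS hχ) (sys_R_one hS hχ) x hα, sub_self]
  have hXY : classInner X Y = 0 := by rw [hX]; exact inner_comb_zero _ _ hYα
  have hYX : classInner Y X = 0 := symm_zero hXY
  have hτβe : τ (χ - (a : ℂ) • χ₁) = X - Y := by rw [hY]; ring
  have hnormβ : classInner (τ (χ - (a : ℂ) • χ₁)) (τ (χ - (a : ℂ) • χ₁)) = (n χ : ℂ) + (a : ℂ) ^ 2 * n χ₁ := by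
    rw [hS.isometry.2.2.1 _ hβ _ hβ, classInner_sub_left, classInner_sub_right, classInner_sub_right, classInner_smul_left, classInner_smul_right,
      classInner_smul_left, classInner_smul_right, ho1 χ₁ hχ₁S, symm_zero (ho1 χ₁ hχ₁S), hn χ hχ, hn χ₁ hχ₁S']
    simp only [map_natCast]
    ring
  have hnormXY : classInner X X + classInner Y Y = (n χ : ℂ) + (a : ℂ) ^ 2 * n χ₁ := by
    rw [← hnormβ, hτβe, classInner_sub_left, classInner_sub_right, classInner_sub_right, hXY, hYX]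
    ring
  have hXn : classInner X X = ((∑ α ∈ R χ, x α ^ 2 : ℤ) : ℂ) := by
    rw [hX, norm_comb (R χ) (sys_R_zero hS hχ) (sys_R_one hS hχ)]
    congr 1
    exact Finset.sum_congr rfl fun α _ => (sq (x α)).symm
  have hYle : (classInner Y Y).re ≤ (a : ℝ) ^ 2 * n χ₁ := by
    have h1 := congrArg Complex.re hnormXY
    rw [Complex.add_re, hXn, Complex.intCast_re] at h1
    rw [hn χ hχ, Complex.natCast_re] at hxle
    have h2 : ((n χ : ℂ) + (a : ℂ) ^ 2 * n χ₁).re = (n χ : ℝ) + (a : ℝ) ^ 2 * n χ₁ := by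
      rw [show ((n χ : ℂ) + (a : ℂ) ^ 2 * n χ₁) = (((n χ : ℝ) + (a : ℝ) ^ 2 * n χ₁ : ℝ) : ℂ) by push_cast; ring, Complex.ofReal_re]
    rw [h2] at h1
    linarith
  -- Step 3
  have hy : ∀ φ, ∃ m : ℤ, φ ∈ S₁ → classInner Y (τ₁ φ) = (m : ℂ) := by
    intro φ
    by_cases hφ : φ ∈ S₁
    · obtain ⟨m, hm⟩ := IsGeneralizedCharacter.inner_int hYgen (hτ₁.2.2.2 φ (hz1 φ hφ))
      exact ⟨m, fun _ => hm⟩
    · exact ⟨0, fun h => absurd h hφ⟩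
  choose y hy using hy
  have hXτ : ∀ φ ∈ S₁, classInner X (τ₁ φ) = 0 := fun φ hφ => by
    rw [hX]; exact inner_comb_zero _ _ fun α hα => symm_zero (st1 φ hφ α hα)
  have hdS₁ : ∀ φ ∈ (S₁ : Set (L → ℂ)), φ 1 = (d φ : ℂ) := fun φ hφ => hd φ (hS₁ hφ)
  have hrel : ∀ φ ∈ S₁, (d χ₁ : ℂ) * y φ = d φ * (y χ₁ - a * n χ₁) + (a : ℂ) * d χ₁ * (if φ = χ₁ then (n χ₁ : ℂ) else 0) := by
    intro φ hφ
    have hm := sub_smul_mem d hdS₁ (Finset.mem_coe.mpr hχ₁S) (Finset.mem_coe.mpr hφ)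
    have h1 := hS.isometry.2.2.1 _ hβ _ (hmono hm)
    have e1 : τ ((d φ : ℂ) • χ₁ - (d χ₁ : ℂ) • φ) = (d φ : ℂ) • τ₁ χ₁ - (d χ₁ : ℂ) • τ₁ φ := by
      rw [← hagree _ hm]
      have i1 : (d φ : ℂ) • χ₁ = (((d φ : ℕ) : ℤ) : ℂ) • χ₁ := by simp
      have i2 : (d χ₁ : ℂ) • φ = (((d χ₁ : ℕ) : ℤ) : ℂ) • φ := by simp
      rw [i1, i2, iso_sub (isZClosed_zspan _) hτ₁ (by rw [← zsmul_eq]; exact zspan_zsmul _ (hz1 _ hχ₁S)) (by rw [← zsmul_eq]; exact zspan_zsmul _ (hz1 _ hφ)),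
        iso_smul hτ₁ (hz1 _ hχ₁S), iso_smul hτ₁ (hz1 _ hφ)]
      simp
    rw [e1, hτβe, classInner_sub_left, classInner_sub_right, classInner_sub_right, classInner_smul_right, classInner_smul_right,
      classInner_smul_right, classInner_smul_right, hXτ _ hχ₁S, hXτ _ hφ, hy _ hχ₁S, hy _ hφ, classInner_sub_left, classInner_sub_right,
      classInner_sub_right, classInner_smul_left, classInner_smul_left, classInner_smul_right, classInner_smul_right, classInner_smul_right,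
      classInner_smul_right, symm_zero (ho1 χ₁ hχ₁S), symm_zero (ho1 φ hφ), hn χ₁ hχ₁S'] at h1
    have h2 : classInner χ₁ φ = if φ = χ₁ then (n χ₁ : ℂ) else 0 := by
      split_ifs with h
      · rw [h, hn χ₁ hχ₁S']
      · exact horth _ hχ₁S' _ (hSS φ hφ) (Ne.symm h)
    rw [h2] at h1
    simp only [map_natCast] at h1
    linear_combination h1
  have hd1 := hdpos χ₁ hχ₁S'
  have hn1 := hnpos χ₁ hχ₁S'
  obtain ⟨D, hD⟩ : ∃ D : ℤ, D = y χ₁ - a * n χ₁ := ⟨_, rfl⟩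
  have hyφ : ∀ φ ∈ S₁, (y φ : ℝ) = (d φ : ℝ) * D / d χ₁ + (if φ = χ₁ then (a : ℝ) * n χ₁ else 0) := by
    intro φ hφ
    have h1 := hrel φ hφ
    have h2 : (d χ₁ : ℝ) * y φ = d φ * D + (a : ℝ) * d χ₁ * (if φ = χ₁ then (n χ₁ : ℝ) else 0) := by
      rw [hD]
      apply Complex.ofReal_injective
      push_cast
      rw [h1]
      split_ifs <;> simp
    have : (y φ : ℝ) = (d φ * D + (a : ℝ) * d χ₁ * (if φ = χ₁ then (n χ₁ : ℝ) else 0)) / d χ₁ := by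
      rw [eq_div_iff hd1.ne', mul_comm]; exact h2
    rw [this]
    split_ifs
    · field_simp
    · field_simp; ring
  obtain ⟨b1, b2⟩ := bessel S₁ (fun φ => τ₁ φ) (fun φ => (n φ : ℝ)) (fun φ hφ => hnpos φ (hSS φ hφ)) (fun φ hφ ψ hψ => by
    rw [hτ₁.2.2.1 _ (hz1 φ hφ) _ (hz1 ψ hψ)]
    split_ifs with h
    · subst h; rw [hn φ (hSS φ hφ)]; simp
    · exact horth _ (hSS φ hφ) _ (hSS ψ hψ) h) Y (fun φ => (y φ : ℝ)) (fun φ hφ => by rw [hy φ hφ]; simp)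
  have hBsum : ∑ φ ∈ S₁, (y φ : ℝ) ^ 2 / n φ = (∑ φ ∈ S₁, ((d φ : ℝ) ^ 2 / (n φ : ℝ))) * ((D : ℝ) ^ 2 / (d χ₁ : ℝ) ^ 2) + 2 * a * D + (a : ℝ) ^ 2 * n χ₁ := by
    have h1 : ∀ φ ∈ S₁, (y φ : ℝ) ^ 2 / n φ = (d φ : ℝ) ^ 2 / (n φ : ℝ) * ((D : ℝ) ^ 2 / (d χ₁ : ℝ) ^ 2) + (if φ = χ₁ then 2 * a * (D : ℝ) + (a : ℝ) ^ 2 * n χ₁ else 0) := by
      intro φ hφ
      rw [hyφ φ hφ]
      have h3 := (hnpos φ (hSS φ hφ)).ne'
      split_ifs with h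
      · subst h
        field_simp
        ring
      · field_simp
        ring
    rw [Finset.sum_congr rfl h1, Finset.sum_add_distrib, ← Finset.sum_mul, Finset.sum_ite_eq' S₁ χ₁, if_pos hχ₁S]
    ring
  obtain ⟨Sg, hSg⟩ : ∃ Sg : ℝ, Sg = ∑ φ ∈ S₁, ((d φ : ℝ) ^ 2 / (n φ : ℝ)) := ⟨_, rfl⟩
  rw [← hSg] at hBsum hineq
  have hadχ : (d χ : ℝ) = d χ₁ * a := by rw [ha]; push_cast; ring
  have hD0 : D = 0 := by
    by_contra hD0
    have h1 : Sg * ((D : ℝ) ^ 2 / (d χ₁ : ℝ) ^ 2) + 2 * a * D ≤ 0 := by linarith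
    have h2 : Sg * (D : ℝ) ^ 2 + 2 * d χ * d χ₁ * D ≤ 0 := by
      have : (Sg * ((D : ℝ) ^ 2 / (d χ₁ : ℝ) ^ 2) + 2 * a * D) * (d χ₁ : ℝ) ^ 2 ≤ 0 := by nlinarith [sq_nonneg (d χ₁ : ℝ)]
      have e : (Sg * ((D : ℝ) ^ 2 / (d χ₁ : ℝ) ^ 2) + 2 * a * D) * (d χ₁ : ℝ) ^ 2 = Sg * (D : ℝ) ^ 2 + 2 * d χ * d χ₁ * D := by
        rw [hadχ]; field_simp
      linarith
    have h3 : (1 : ℝ) ≤ (D : ℝ) ^ 2 := by
      have : 1 ≤ D ^ 2 := by nlinarith [sq_nonneg D, Int.one_le_abs hD0, sq_abs D]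
      exact_mod_cast this
    have h4 : -(D : ℝ) ≤ (D : ℝ) ^ 2 := by
      have : -D ≤ D ^ 2 := by nlinarith [Int.one_le_abs hD0, sq_abs D, neg_abs_le D, neg_le_abs D]
      exact_mod_cast this
    have h5 : 0 ≤ (2 * d χ * d χ₁ : ℝ) := by positivity
    nlinarith [mul_lt_mul_of_pos_right hineq (lt_of_lt_of_le one_pos h3), mul_le_mul_of_nonneg_left h4 h5]
  have hBs : ∑ φ ∈ S₁, (y φ : ℝ) ^ 2 / n φ = (a : ℝ) ^ 2 * n χ₁ := by
    rw [hBsum, hD0]; simp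
  have hYeq : Y = (a : ℂ) • τ₁ χ₁ := by
    rw [b2 (by rw [hBs]; exact hYle), Finset.sum_eq_single χ₁]
    · rw [hyφ χ₁ hχ₁S, if_pos rfl, hD0]
      congr 1
      push_cast
      have : (n χ₁ : ℂ) ≠ 0 := by exact_mod_cast hn1.ne'
      field_simp
      ring
    · intro φ hφ hne
      rw [hyφ φ hφ, if_neg hne, hD0]
      simp
    · intro h; exact absurd hχ₁S h
  have hXX : classInner X X = (n χ : ℂ) := by
    have h1 : classInner Y Y = (a : ℂ) ^ 2 * n χ₁ := by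
      rw [hYeq, classInner_smul_left, classInner_smul_right, hτ₁.2.2.1 _ (hz1 _ hχ₁S) _ (hz1 _ hχ₁S), hn χ₁ hχ₁S']
      simp only [map_natCast]; ring
    rw [h1] at hnormXY
    linear_combination hnormXY
  have hXe : X = τ (χ - (a : ℂ) • χ₁) + (a : ℂ) • τ₁ χ₁ := by rw [hτβe, hYeq]; ring
  -- Step 4
  obtain ⟨W, hW⟩ : ∃ W : G → ℂ, W = τ (χ - conjFun χ) := ⟨_, rfl⟩
  rw [← hW] at h5 st1'
  have hXW : classInner X W = (n χ : ℂ) := by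
    rw [hXe, classInner_add_left, h5, classInner_smul_left, st1' χ₁ hχ₁S, hn χ hχ]; ring
  have hWgen : IsGeneralizedCharacter G W := by rw [hW]; exact hS.isometry.2.2.2 _ hscχ
  have hWX : classInner W X = (n χ : ℂ) := by rw [gen_inner_comm hWgen hXgen, hXW]
  have hncχ : classInner (conjFun χ) (conjFun χ) = (n χ : ℂ) := by
    rw [inner_conjFun_char (hS.isCharacter χ hχ) (hS.isCharacter χ hχ), hn χ hχ]
  have hcc : classInner χ (conjFun χ) = 0 := horth _ hχ _ hcχ (hS.conj_ne χ hχ).symm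
  have hWW : classInner W W = 2 * (n χ : ℂ) := by
    rw [hW, hS.isometry.2.2.1 _ hscχ _ hscχ, classInner_sub_left, classInner_sub_right, classInner_sub_right, hcc, symm_zero hcc, hncχ, hn χ hχ]
    ring
  have hne : conjFun χ ≠ χ := hS.conj_ne χ hχ
  obtain ⟨T, hT⟩ : ∃ T : (L → ℂ) → (G → ℂ), T = fun φ => if φ = χ then X else if φ = conjFun χ then X - W else τ₁ φ := ⟨_, rfl⟩
  have hTχ : T χ = X := by rw [hT]; simp
  have hTc : T (conjFun χ) = X - W := by rw [hT]; simp [hne]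
  have hTφ : ∀ φ ∈ S₁, T φ = τ₁ φ := fun φ hφ => by rw [hT]; simp [hχφ φ hφ, hχφ' φ hφ]
  have hset : (↑S₁ ∪ {χ, conjFun χ} : Set (L → ℂ)) = ((insert χ (insert (conjFun χ) S₁) : Finset (L → ℂ)) : Set (L → ℂ)) := by
    ext φ
    simp only [Set.mem_union, Finset.mem_coe, Set.mem_insert_iff, Set.mem_singleton_iff, Finset.mem_insert]
    tauto
  have hsub : ∀ φ ∈ (insert χ (insert (conjFun χ) S₁) : Finset (L → ℂ)), φ ∈ S := by
    intro φ hφ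
    rw [Finset.mem_insert, Finset.mem_insert] at hφ
    rcases hφ with rfl | rfl | h
    · exact hχ
    · exact hcχ
    · exact hSS φ h
  have hsub' : ((insert χ (insert (conjFun χ) S₁) : Finset (L → ℂ)) : Set (L → ℂ)) ⊆ S := fun φ hφ => hsub φ (Finset.mem_coe.mp hφ)
  have hcase : ∀ P : (L → ℂ) → Prop, P χ → P (conjFun χ) → (∀ φ ∈ S₁, P φ) → ∀ φ ∈ (insert χ (insert (conjFun χ) S₁) : Finset (L → ℂ)), P φ := by
    intro P p1 p2 p3 φ hφ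
    rw [Finset.mem_insert, Finset.mem_insert] at hφ
    rcases hφ with rfl | rfl | h
    · exact p1
    · exact p2
    · exact p3 φ h
  have hτX : ∀ φ ∈ S₁, classInner (τ₁ φ) X = 0 := fun φ hφ => symm_zero (hXτ φ hφ)
  have hWτ : ∀ φ ∈ S₁, classInner W (τ₁ φ) = 0 := fun φ hφ => symm_zero (st1' φ hφ)
  rw [hset]
  refine isCoherent_of_base (T := T) (fun φ hφ ψ hψ h => horth φ (hsub φ hφ) ψ (hsub ψ hψ) h) (fun φ hφ => sys_norm_ne_zero hS (hsub φ hφ))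
    (iso_mono hS.isometry (zspanOn_mono hsub')) (fun φ => (d φ : ℤ)) (fun φ hφ => by rw [hd φ (hsub φ hφ)]; simp) (χ₁ := χ₁)
    (Finset.mem_insert_of_mem (Finset.mem_insert_of_mem hχ₁S)) ?_ ?_ ?_ ?_ ?_
  · have := hd1.ne'
    exact_mod_cast this
  · apply hcase
    · rw [hTχ]; exact hXgen
    · rw [hTc]; exact IsGeneralizedCharacter.sub hXgen hWgen
    · intro φ hφ; rw [hTφ φ hφ]; exact hτ₁.2.2.2 _ (hz1 φ hφ)
  · apply hcase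
    · apply hcase
      · rw [hTχ, hXX, hn χ hχ]
      · rw [hTχ, hTc, classInner_sub_right, hXX, hXW, hcc, sub_self]
      · intro ψ hψ
        rw [hTχ, hTφ ψ hψ, hXτ ψ hψ, symm_zero (ho1 ψ hψ)]
    · apply hcase
      · rw [hTχ, hTc, classInner_sub_left, hXX, hWX, symm_zero hcc, sub_self]
      · rw [hTc, classInner_sub_left, classInner_sub_right, classInner_sub_right, hXX, hXW, hWX, hWW, hncχ]; ring
      · intro ψ hψ
        rw [hTc, hTφ ψ hψ, classInner_sub_left, hXτ ψ hψ, hWτ ψ hψ, symm_zero (ho2 ψ hψ), sub_self]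
    · intro φ hφ
      apply hcase
      · rw [hTφ φ hφ, hTχ, hτX φ hφ, ho1 φ hφ]
      · rw [hTφ φ hφ, hTc, classInner_sub_right, hτX φ hφ, st1' φ hφ, ho2 φ hφ, sub_self]
      · intro ψ hψ
        rw [hTφ φ hφ, hTφ ψ hψ, hτ₁.2.2.1 _ (hz1 φ hφ) _ (hz1 ψ hψ)]
  · have hcχ1 : d (conjFun χ) = d χ := by
      have h1 := hd _ hcχ
      rw [conjFun_one (hS.isCharacter χ hχ), hd χ hχ] at h1
      exact_mod_cast h1.symm
    have hβ1 : (((d χ₁ : ℕ) : ℤ) : ℂ) • χ - (((d χ : ℕ) : ℤ) : ℂ) • χ₁ = (((d χ₁ : ℕ) : ℤ) : ℂ) • (χ - (a : ℂ) • χ₁) := by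
      rw [ha]; push_cast; rw [smul_sub, smul_smul]
    have hτβ1 : τ ((((d χ₁ : ℕ) : ℤ) : ℂ) • (χ - (a : ℂ) • χ₁)) = (((d χ₁ : ℕ) : ℤ) : ℂ) • (X - (a : ℂ) • τ₁ χ₁) := by
      rw [iso_smul hS.isometry hβ, hτβe, hYeq]
    apply hcase
    · rw [hβ1, hτβ1, hTχ, hTφ χ₁ hχ₁S, ha, smul_sub, smul_smul]; push_cast; rfl
    · have e : (((d χ₁ : ℕ) : ℤ) : ℂ) • conjFun χ - (((d (conjFun χ) : ℕ) : ℤ) : ℂ) • χ₁ =
          (((d χ₁ : ℕ) : ℤ) : ℂ) • (χ - (a : ℂ) • χ₁) - (((d χ₁ : ℕ) : ℤ) : ℂ) • (χ - conjFun χ) := by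
        rw [hcχ1, ← hβ1, smul_sub]; ring
      rw [e, iso_sub (isZClosed_zspanOn S {1}ᶜ) hS.isometry (by rw [← zsmul_eq]; exact (isZClosed_zspanOn S {1}ᶜ).smul _ _ hβ)
        (by rw [← zsmul_eq]; exact (isZClosed_zspanOn S {1}ᶜ).smul _ _ hscχ), hτβ1, iso_smul hS.isometry hscχ, ← hW, hTc, hTφ χ₁ hχ₁S, hcχ1, ha,
        smul_sub, smul_sub, smul_smul]
      push_cast
      ring
    · intro φ hφ
      have hm := sub_smul_mem d hdS₁ (Finset.mem_coe.mpr hφ) (Finset.mem_coe.mpr hχ₁S)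
      rw [hTφ φ hφ, hTφ χ₁ hχ₁S]
      have i1 : (((d χ₁ : ℕ) : ℤ) : ℂ) • φ - (((d φ : ℕ) : ℤ) : ℂ) • χ₁ ∈ zspanOn (S₁ : Set (L → ℂ)) {1}ᶜ := by simpa using hm
      rw [← hagree _ i1, iso_sub (isZClosed_zspan _) hτ₁ (by rw [← zsmul_eq]; exact zspan_zsmul _ (hz1 _ hφ)) (by rw [← zsmul_eq]; exact zspan_zsmul _ (hz1 _ hχ₁S)),
        iso_smul hτ₁ (hz1 _ hφ), iso_smul hτ₁ (hz1 _ hχ₁S)]
  · exact ⟨α₀, zspanOn_mono (by rw [← hset]; exact Set.subset_union_left) hα₀, hα₀'⟩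

end system

end CfsgLib.CharCoh
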