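import Mathlib
import Cfsg.Prelude.Def_Characters
import Cfsg.Prelude.Def_OddOrderChar
import Cfsg.Agent.Lib.CharBasic
import Cfsg.Agent.Lib.CharBasic2
import Cfsg.Agent.Lib.CharInd
import Cfsg.Agent.Lib.CharClifford
import Cfsg.Agent.Lib.CharTI
import Cfsg.Agent.Lib.CharCoh
import Cfsg.Agent.Lib.CharCoh2
import Cfsg.Agent.Lib.CharCoh3

/-!
# Coherence of sets of induced characters

`inducedIrrAbove K A`: the degree-norm sum, growth of coherent sets.
-/

set_option autoImplicit false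
set_option linter.style.haveILetI false

open scoped ComplexConjugate

namespace CfsgLib.CharCoh

open Cfsg CfsgLib.CharBasic CfsgLib.CharInd CfsgLib.CharClifford

universe u v

section above

variable {L : Type u} [Group L] [Fintype L]

theorem exists_data (K : Subgroup L) [K.Normal] {θ : K → ℂ} (hθ : IsIrrCharacter K θ) :
    ∃ m n : ℕ, 0 < m ∧ 0 < n ∧ θ 1 = m ∧ indFun K θ 1 = ((K.index * m : ℕ) : ℂ) ∧ classInner (indFun K θ) (indFun K θ) = (n : ℂ) ∧
      (inertia (G := L) θ).index * n = K.index ∧ n = K.relIndex (inertia (G := L) θ) := by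
  classical
  haveI : Fintype K := Fintype.ofFinite K
  obtain ⟨m, hm, hm'⟩ := IsIrrCharacter.exists_pos hθ
  have hle : K ≤ inertia (G := L) θ := le_inertia (IsCharacter.isClassFunction (IsIrrCharacter.isCharacter hθ))
  have hmul := Subgroup.relIndex_mul_index hle
  have hcard := Subgroup.card_mul_index (inertia (G := L) θ)
  have hcardK := Subgroup.card_mul_index K
  refine ⟨m, K.relIndex (inertia (G := L) θ), hm, ?_, hm', ?_, ?_, ?_, rfl⟩
  · exact Nat.pos_of_ne_zero Subgroup.index_ne_zero_of_finite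
  · rw [indFun_one, hm']; push_cast; ring
  · rw [inner_ind_ind_irr hθ hθ]
    have h1 : Nat.card {x : L // conjFn x θ = θ} = Nat.card (inertia (G := L) θ) :=
      Nat.card_congr (Equiv.subtypeEquivRight fun x => mem_inertia.symm)
    have h2 : Nat.card (inertia (G := L) θ) = Nat.card K * K.relIndex (inertia (G := L) θ) := by
      have h3 : Nat.card (inertia (G := L) θ) * (inertia (G := L) θ).index = Nat.card K * K.relIndex (inertia (G := L) θ) * (inertia (G := L) θ).index := by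
        rw [hcard, mul_assoc, hmul, hcardK]
      exact Nat.eq_of_mul_eq_mul_right (Nat.pos_of_ne_zero Subgroup.index_ne_zero_of_finite) h3
    rw [h1, h2]
    push_cast
    rw [← mul_assoc, inv_mul_cancel₀ (by exact_mod_cast Nat.card_pos.ne'), one_mul]
  · rw [mul_comm]; exact hmul

theorem above_conj {K A : Subgroup L} {φ : L → ℂ} (h : φ ∈ inducedIrrAbove K A) : conjFun φ ∈ inducedIrrAbove K A := by
  obtain ⟨θ, h1, h2, h3, rfl⟩ := h
  refine ⟨fun k => conj (θ k), IsIrrCharacter.conj h1, fun h => h2 ?_, fun a ha => congrArg conj (h3 a ha), ?_⟩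
  · funext k
    have : conj (θ k) = 1 := congrFun h k
    rw [← Complex.conj_conj (θ k), this, map_one]
  · funext g
    rw [indFun_conj]; rfl

theorem above_char {K A : Subgroup L} {φ : L → ℂ} (h : φ ∈ inducedIrrAbove K A) : IsCharacter L φ := by
  obtain ⟨θ, h1, -, -, rfl⟩ := h
  exact isCharacter_indFun K (IsIrrCharacter.isCharacter h1)

theorem above_mono {K A B : Subgroup L} (hAB : ∀ k ∈ K, k ∈ A → k ∈ B) : inducedIrrAbove K B ⊆ inducedIrrAbove K A := by
  rintro φ ⟨θ, h1, h2, h3, rfl⟩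
  exact ⟨θ, h1, h2, fun a ha => h3 a (hAB a a.2 ha), rfl⟩

theorem above_orth {K A : Subgroup L} [K.Normal] {φ ψ : L → ℂ} (h : φ ∈ inducedIrrAbove K A) (h' : ψ ∈ inducedIrrAbove K A) (hne : φ ≠ ψ) :
    classInner φ ψ = 0 := by
  haveI : Fintype K := Fintype.ofFinite K
  obtain ⟨θ, h1, -, -, rfl⟩ := h
  obtain ⟨θ', h1', -, -, rfl⟩ := h'
  rw [inner_ind_ind_eq_zero_iff h1 h1']
  rintro x rfl
  exact hne (indFun_conjFn θ x).symm

theorem above_ne_zero {K A : Subgroup L} {φ : L → ℂ} (h : φ ∈ inducedIrrAbove K A) : φ ≠ 0 := by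
  obtain ⟨θ, h1, -, -, rfl⟩ := h
  intro h0
  have h2 := congrFun h0 1
  rw [indFun_one, Pi.zero_apply, mul_eq_zero] at h2
  rcases h2 with h2 | h2
  · have : K.index = 0 := by exact_mod_cast h2
    exact Subgroup.index_ne_zero_of_finite this
  · exact IsIrrCharacter.one_ne_zero h1 h2

theorem above_finite (K A : Subgroup L) [K.Normal] : (inducedIrrAbove K A).Finite :=
  finite_of_orthogonal (fun _ h => above_char h) (fun _ h => above_ne_zero h) (fun _ h _ h' hne => above_orth h h' hne)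

/-- the degrees are multiples of the index -/
theorem above_degree_dvd {K A : Subgroup L} [K.Normal] {φ : L → ℂ} (h : φ ∈ inducedIrrAbove K A) {d : ℕ} (hd : φ 1 = d) : K.index ∣ d := by
  obtain ⟨θ, h1, -, -, rfl⟩ := h
  obtain ⟨m, n, -, -, -, h2, -⟩ := exists_data K h1
  rw [hd] at h2
  have : d = K.index * m := by exact_mod_cast h2
  exact ⟨m, this⟩

open Classical in
/-- the set of nontrivial irreducible characters of `K` with `A ∩ K` in the kernel -/
noncomputable def aboveIrr (K A : Subgroup L) : Finset (IrrCharacter K) :=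
  Finset.univ.filter (fun θ : IrrCharacter K => (θ : K → ℂ) ≠ (fun _ => 1) ∧ ∀ a : K, (a : L) ∈ A → (θ : K → ℂ) a = (θ : K → ℂ) 1)

theorem mem_aboveIrr {K A : Subgroup L} {θ : IrrCharacter K} :
    θ ∈ aboveIrr K A ↔ (θ : K → ℂ) ≠ (fun _ => 1) ∧ ∀ a : K, (a : L) ∈ A → (θ : K → ℂ) a = (θ : K → ℂ) 1 := by
  classical
  unfold aboveIrr
  rw [Finset.mem_filter]
  simp

theorem sum_aboveIrr_sq (K A : Subgroup L) [K.Normal] [A.Normal] :
    ∑ θ ∈ aboveIrr K A, (θ : K → ℂ) 1 ^ 2 = (A.relIndex K : ℂ) - 1 := by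
  classical
  haveI : (A.subgroupOf K).Normal := inferInstance
  have h1 := sum_irr_one_sq (K ⧸ A.subgroupOf K)
  have h2 : ∑ χ : {χ : IrrCharacter K // ∀ n ∈ A.subgroupOf K, (χ : K → ℂ) n = (χ : K → ℂ) 1}, ((χ : IrrCharacter K) : K → ℂ) 1 ^ 2 = (A.relIndex K : ℂ) := by
    rw [← Equiv.sum_comp (irrQuotientEquiv (A.subgroupOf K))]
    have h3 : (Nat.card (K ⧸ A.subgroupOf K) : ℂ) = (A.relIndex K : ℂ) := by
      rw [Subgroup.relIndex, Subgroup.index]
    rw [← h3, ← h1]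
    apply Finset.sum_congr rfl
    intro ψ _
    rw [irrQuotientEquiv_apply]
    rfl
  have h4 : ∑ χ ∈ Finset.univ.filter (fun χ : IrrCharacter K => ∀ n ∈ A.subgroupOf K, (χ : K → ℂ) n = (χ : K → ℂ) 1), (χ : K → ℂ) 1 ^ 2 = (A.relIndex K : ℂ) := by
    rw [← h2]
    rw [← Finset.sum_subtype_eq_sum_filter]
    apply Finset.sum_congr
    · ext x; simp
    · intro _ _; rfl
  have h5 : Finset.univ.filter (fun χ : IrrCharacter K => ∀ n ∈ A.subgroupOf K, (χ : K → ℂ) n = (χ : K → ℂ) 1) = insert (irrOne K) (aboveIrr K A) := by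
    ext χ
    rw [Finset.mem_filter, Finset.mem_insert, mem_aboveIrr]
    simp only [Finset.mem_univ, true_and]
    constructor
    · intro h
      by_cases hχ : χ = irrOne K
      · left; exact hχ
      · right
        refine ⟨fun h' => hχ ?_, fun a ha => h a (Subgroup.mem_subgroupOf.mpr ha)⟩
        apply Subtype.ext
        rw [h']
        funext k
        rw [irrOne_apply]
    · rintro (rfl | h)
      · intro n _; rw [irrOne_apply, irrOne_apply]
      · intro n hn; exact h.2 n (Subgroup.mem_subgroupOf.mp hn)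
  have h6 : irrOne K ∉ aboveIrr K A := by
    rw [mem_aboveIrr]
    rintro ⟨h, -⟩
    apply h
    funext k
    rw [irrOne_apply]
  rw [h5, Finset.sum_insert h6, irrOne_apply] at h4
  linear_combination h4

/-- **the degree-norm sum** of `S(A)` -/
theorem sum_above (K A : Subgroup L) [K.Normal] [A.Normal] (F : Finset (L → ℂ)) (hF : ∀ φ, φ ∈ F ↔ φ ∈ inducedIrrAbove K A) (d n : (L → ℂ) → ℕ)
    (hd : ∀ φ ∈ F, φ 1 = (d φ : ℂ)) (hn : ∀ φ ∈ F, classInner φ φ = (n φ : ℂ)) :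
    ∑ φ ∈ F, ((d φ : ℝ) ^ 2 / (n φ : ℝ)) = (K.index : ℝ) * ((A.relIndex K : ℝ) - 1) := by
  classical
  haveI : Fintype K := Fintype.ofFinite K
  have hreal : ∀ θ : IrrCharacter K, ((θ : K → ℂ) 1).re ^ 2 = ((θ : K → ℂ) 1 ^ 2).re := by
    intro θ
    obtain ⟨m, -, hm⟩ := IsIrrCharacter.exists_pos θ.2
    have h : ((m : ℂ) ^ 2) = ((m ^ 2 : ℕ) : ℂ) := by push_cast; rfl
    rw [hm, Complex.natCast_re, h, Complex.natCast_re]
    push_cast; rfl
  have h1 : ∑ θ ∈ aboveIrr K A, ((θ : K → ℂ) 1).re ^ 2 = (A.relIndex K : ℝ) - 1 := by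
    have h2 := congrArg Complex.re (sum_aboveIrr_sq K A)
    rw [Complex.re_sum, Complex.sub_re, Complex.natCast_re, Complex.one_re] at h2
    rw [← h2]
    exact Finset.sum_congr rfl fun θ _ => hreal θ
  have hmaps : ∀ θ ∈ aboveIrr K A, indFun K (θ : K → ℂ) ∈ F := by
    intro θ hθ
    rw [hF]
    obtain ⟨h2, h3⟩ := mem_aboveIrr.mp hθ
    exact ⟨θ, θ.2, h2, h3, rfl⟩
  rw [← h1, ← Finset.sum_fiberwise_of_maps_to hmaps, Finset.mul_sum]
  apply Finset.sum_congr rfl
  intro φ hφ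
  obtain ⟨θ₀, hθ₀, hne, hker, hφθ⟩ := (hF φ).mp hφ
  have hfib : (aboveIrr K A).filter (fun θ : IrrCharacter K => indFun K (θ : K → ℂ) = φ) = orb (G := L) θ₀ := by
    ext θ
    rw [Finset.mem_filter, mem_orb, mem_aboveIrr]
    constructor
    · rintro ⟨-, h⟩
      by_contra hno
      push Not at hno
      have := (inner_ind_ind_eq_zero_iff hθ₀ θ.2).mpr hno
      rw [h, hφθ] at this
      exact inner_ind_ind_ne_zero hθ₀ this
    · rintro ⟨g, hg⟩
      refine ⟨⟨fun h => hne ?_, fun a ha => ?_⟩, ?_⟩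
      · rw [← hg] at h
        funext k
        have h3 := congrFun (conjFn_conjFn_inv g θ₀) k
        have h4 : conjFn g⁻¹ (conjFn g θ₀) = fun _ => 1 := by
          rw [h]; funext k; rw [conjFn_apply]
        rw [conjFn_inv_conjFn] at h4
        exact congrFun h4 k
      · rw [← hg, conjFn_apply, conjFn_apply_one]
        exact hker _ (Subgroup.Normal.conj_mem inferInstance _ ha g)
      · rw [← hg, indFun_conjFn, hφθ]
  obtain ⟨m, nn, hm, hnn, hθ1, hind1, hnorm, hidx, -⟩ := exists_data K hθ₀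
  have hdφ : d φ = K.index * m := by
    have := hd φ hφ
    rw [hφθ, hind1] at this
    rw [hφθ]
    exact_mod_cast this.symm
  have hnφ : n φ = nn := by
    have := hn φ hφ
    rw [hφθ, hnorm] at this
    rw [hφθ]
    exact_mod_cast this.symm
  rw [hfib]
  have h2 : ∑ θ ∈ orb (G := L) θ₀, ((θ : K → ℂ) 1).re ^ 2 = (inertia (G := L) θ₀).index * (m : ℝ) ^ 2 := by
    rw [Finset.sum_congr rfl (fun θ hθ => by rw [orb_apply_one hθ, hθ1, Complex.natCast_re]), Finset.sum_const, card_orb hθ₀, nsmul_eq_mul]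
  rw [h2, hdφ, hnφ]
  have hnn' : (nn : ℝ) ≠ 0 := by exact_mod_cast hnn.ne'
  have hidx' : ((inertia (G := L) θ₀).index : ℝ) * nn = K.index := by exact_mod_cast hidx
  rw [div_eq_iff hnn']
  push_cast
  linear_combination (-(K.index : ℝ) * m ^ 2) * hidx'

/-- existence of a nontrivial linear character -/
theorem exists_linear_above {K A : Subgroup L} [K.Normal] [A.Normal] (hsolv : Group.IsSolvable K) (hAK : ¬ K ≤ A) :
    ∃ lam : K → ℂ, IsIrrCharacter K lam ∧ lam ≠ (fun _ => 1) ∧ (∀ a : K, (a : L) ∈ A → lam a = lam 1) ∧ lam 1 = 1 := by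
  classical
  haveI := hsolv
  haveI : (A.subgroupOf K).Normal := inferInstance
  haveI : Nontrivial (K ⧸ A.subgroupOf K) := by
    rw [QuotientGroup.nontrivial_iff]
    intro h
    exact hAK (Subgroup.subgroupOf_eq_top.mp h)
  have hcomm : commutator (K ⧸ A.subgroupOf K) ≠ ⊤ := by
    have := Group.IsSolvable.commutator_lt_top_of_nontrivial (K ⧸ A.subgroupOf K)
    exact this.ne
  -- number of linear characters at least two
  have hcard := card_linear (K ⧸ A.subgroupOf K)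
  have hgt : 1 < Nat.card {χ : IrrCharacter (K ⧸ A.subgroupOf K) // (χ : K ⧸ A.subgroupOf K → ℂ) 1 = 1} := by
    rw [hcard]
    have h1 : (commutator (K ⧸ A.subgroupOf K)).index ≠ 0 := Subgroup.index_ne_zero_of_finite
    have h2 : (commutator (K ⧸ A.subgroupOf K)).index ≠ 1 := fun h => hcomm (Subgroup.index_eq_one.mp h)
    omega
  haveI : Nontrivial {χ : IrrCharacter (K ⧸ A.subgroupOf K) // (χ : K ⧸ A.subgroupOf K → ℂ) 1 = 1} := Finite.one_lt_card_iff_nontrivial.mp hgt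
  obtain ⟨χ, hχ⟩ := exists_ne (⟨irrOne _, irrOne_apply _⟩ : {χ : IrrCharacter (K ⧸ A.subgroupOf K) // (χ : K ⧸ A.subgroupOf K → ℂ) 1 = 1})
  refine ⟨((irrQuotientEquiv (A.subgroupOf K) χ.1 : IrrCharacter K) : K → ℂ), ((irrQuotientEquiv (A.subgroupOf K) χ.1 : IrrCharacter K)).2, ?_, ?_, ?_⟩
  · intro h
    apply hχ
    apply Subtype.ext
    apply Subtype.ext
    funext q
    obtain ⟨k, rfl⟩ := QuotientGroup.mk'_surjective (A.subgroupOf K) q
    have := congrFun h k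
    rw [irrQuotientEquiv_apply] at this
    rw [irrOne_apply]
    exact this
  · intro a ha
    exact (irrQuotientEquiv (A.subgroupOf K) χ.1).2 a (Subgroup.mem_subgroupOf.mpr ha)
  · rw [irrQuotientEquiv_apply]
    exact χ.2

end above

section grow

variable {L : Type u} [Group L] [Fintype L] {G : Type v} [Group G] [Fintype G] {S : Set (L → ℂ)} {τ : (L → ℂ) → (G → ℂ)} {R : (L → ℂ) → Finset (G → ℂ)}

/-- restriction of coherence to a subset -/
theorem coherent_subset {E F : Set (L → ℂ)} (hEF : E ⊆ F) (hF : IsCoherent F {1}ᶜ τ) (hE : ∃ α ∈ zspanOn E {1}ᶜ, α ≠ 0) : IsCoherent E {1}ᶜ τ := by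
  obtain ⟨-, τ₁, hτ₁, h⟩ := hF
  exact ⟨hE, τ₁, iso_mono hτ₁ (zspan_mono hEF), fun α hα => h α (zspanOn_mono hEF hα)⟩

/-- growing a coherent set -/
theorem sys_grow (hS : IsCoherenceSystem S τ R) (d n : (L → ℂ) → ℕ) (hd : ∀ φ ∈ S, φ 1 = (d φ : ℂ)) (hn : ∀ φ ∈ S, classInner φ φ = (n φ : ℂ))
    (χ₁ : L → ℂ) (T : Finset (L → ℂ)) (B : ℝ) (hTS : ∀ ψ ∈ T, ψ ∈ S) (hdvd : ∀ ψ ∈ T, d χ₁ ∣ d ψ) (hlt : ∀ ψ ∈ T, (2 * d ψ * d χ₁ : ℝ) < B) :
    ∀ S₁ : Finset (L → ℂ), ↑S₁ ⊆ S → (∀ φ ∈ S₁, conjFun φ ∈ S₁) → IsCoherent (↑S₁ : Set (L → ℂ)) {1}ᶜ τ → χ₁ ∈ S₁ →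
      B ≤ ∑ φ ∈ S₁, ((d φ : ℝ) ^ 2 / (n φ : ℝ)) →
      ∃ S₂ : Finset (L → ℂ), S₁ ⊆ S₂ ∧ T ⊆ S₂ ∧ ↑S₂ ⊆ S ∧ (∀ φ ∈ S₂, conjFun φ ∈ S₂) ∧ IsCoherent (↑S₂ : Set (L → ℂ)) {1}ᶜ τ := by
  classical
  induction T using Finset.induction_on with
  | empty =>
    intro S₁ h1 h2 h3 h4 h5
    exact ⟨S₁, Finset.Subset.refl _, Finset.empty_subset _, h1, h2, h3⟩
  | insert ψ T hψ ih =>
    intro S₁ h1 h2 h3 h4 h5
    have hψS : ψ ∈ S := hTS ψ (Finset.mem_insert_self _ _)
    obtain ⟨S', hS1, hS2, hS3, hS4, hS5⟩ : ∃ S' : Finset (L → ℂ), S₁ ⊆ S' ∧ ψ ∈ S' ∧ ↑S' ⊆ S ∧ (∀ φ ∈ S', conjFun φ ∈ S') ∧ IsCoherent (↑S' : Set (L → ℂ)) {1}ᶜ τ := by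
      by_cases hm : ψ ∈ S₁
      · exact ⟨S₁, Finset.Subset.refl _, hm, h1, h2, h3⟩
      · have hm' : conjFun ψ ∉ S₁ := fun h => hm (by rw [← conjFun_conjFun ψ]; exact h2 _ h)
        have h6 := sys_six hS d n hd hn S₁ h1 h2 h3 ψ hψS hm hm' χ₁ h4 (hdvd ψ (Finset.mem_insert_self _ _))
          (lt_of_lt_of_le (hlt ψ (Finset.mem_insert_self _ _)) h5)
        have hset : (↑S₁ ∪ {ψ, conjFun ψ} : Set (L → ℂ)) = ((insert ψ (insert (conjFun ψ) S₁) : Finset (L → ℂ)) : Set (L → ℂ)) := by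
          ext φ
          simp only [Set.mem_union, Finset.mem_coe, Set.mem_insert_iff, Set.mem_singleton_iff, Finset.mem_insert]
          tauto
        rw [hset] at h6
        refine ⟨insert ψ (insert (conjFun ψ) S₁), fun φ hφ => Finset.mem_insert_of_mem (Finset.mem_insert_of_mem hφ), Finset.mem_insert_self _ _, ?_, ?_, h6⟩
        · intro φ hφ
          rw [Finset.mem_coe, Finset.mem_insert, Finset.mem_insert] at hφ
          rcases hφ with rfl | rfl | h
          · exact hψS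
          · exact hS.conj_mem ψ hψS
          · exact h1 h
        · intro φ hφ
          rw [Finset.mem_insert, Finset.mem_insert] at hφ ⊢
          rcases hφ with rfl | rfl | h
          · right; left; rfl
          · left; exact conjFun_conjFun _
          · right; right; exact h2 φ h
    have hSSpos : ∀ φ ∈ S', 0 ≤ ((d φ : ℝ) ^ 2 / (n φ : ℝ)) := fun φ _ => by positivity
    obtain ⟨S₂, g1, g2, g3, g4, g5⟩ := ih (fun φ hφ => hTS φ (Finset.mem_insert_of_mem hφ)) (fun φ hφ => hdvd φ (Finset.mem_insert_of_mem hφ))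
      (fun φ hφ => hlt φ (Finset.mem_insert_of_mem hφ)) S' hS3 hS4 hS5 (hS1 h4)
      (h5.trans (Finset.sum_le_sum_of_subset_of_nonneg hS1 fun φ h _ => hSSpos φ h))
    refine ⟨S₂, hS1.trans g1, ?_, g3, g4, g5⟩
    intro φ hφ
    rw [Finset.mem_insert] at hφ
    rcases hφ with rfl | h
    · exact g1 hS2
    · exact g2 h

theorem exists_dn (hS : IsCoherenceSystem S τ R) : ∃ d n : (L → ℂ) → ℕ, (∀ φ ∈ S, φ 1 = (d φ : ℂ)) ∧ (∀ φ ∈ S, classInner φ φ = (n φ : ℂ)) := by
  classical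
  have h1 : ∀ φ : L → ℂ, ∃ m : ℕ, φ ∈ S → φ 1 = m := by
    intro φ
    by_cases h : φ ∈ S
    · obtain ⟨m, hm⟩ := IsCharacter.exists_nat (hS.isCharacter φ h)
      exact ⟨m, fun _ => hm⟩
    · exact ⟨0, fun h' => absurd h' h⟩
  have h2 : ∀ φ : L → ℂ, ∃ m : ℕ, φ ∈ S → classInner φ φ = m := by
    intro φ
    by_cases h : φ ∈ S
    · obtain ⟨m, hm⟩ := IsCharacter.inner_nat (hS.isCharacter φ h) (hS.isCharacter φ h)
      exact ⟨m, fun _ => hm⟩
    · exact ⟨0, fun h' => absurd h' h⟩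
  choose d hd using h1
  choose n hn using h2
  exact ⟨d, n, hd, hn⟩

/-- conjugate-closed nonempty subsets of a coherence system have nonzero degree zero combinations -/
theorem sys_exists_ne (hS : IsCoherenceSystem S τ R) {E : Set (L → ℂ)} (hES : E ⊆ S) {χ : L → ℂ} (h : χ ∈ E) (h' : conjFun χ ∈ E) :
    ∃ α ∈ zspanOn E {1}ᶜ, α ≠ 0 := by
  refine ⟨χ - conjFun χ, ?_, fun h0 => hS.conj_ne χ (hES h) (sub_eq_zero.mp h0).symm⟩
  rw [mem_zspanOn_one]
  refine ⟨zspan_sub (mem_zspan_of_mem h) (mem_zspan_of_mem h'), ?_⟩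
  rw [Pi.sub_apply, conjFun_one (hS.isCharacter χ (hES h)), sub_self]

end grow

end CfsgLib.CharCoh
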