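import Mathlib
import Cfsg.Prelude.Def_Characters
import Cfsg.Prelude.Def_OddOrderChar
import Cfsg.Agent.Lib.CharBasic
import Cfsg.Agent.Lib.CharBasic2
import Cfsg.Agent.Lib.CharInd
import Cfsg.Agent.Lib.CharClifford
import Cfsg.Agent.Lib.CharTI
import Cfsg.Agent.Lib.CharCoh
import Cfsg.Agent.Lib.CharCoh2
import Cfsg.Agent.Lib.CharCoh3

/-!
# Coherence systems, III

Peterfalvi (5.7).
-/

set_option autoImplicit false
set_option linter.style.haveILetI false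

open scoped ComplexConjugate

namespace CfsgLib.CharCoh

open Cfsg CfsgLib.CharBasic CfsgLib.CharInd CfsgLib.CharClifford

universe u v

section system

variable {L : Type u} [Group L] [Fintype L] {G : Type v} [Group G] [Fintype G] {S : Set (L → ℂ)} {τ : (L → ℂ) → (G → ℂ)} {R : (L → ℂ) → Finset (G → ℂ)}

theorem inner_comb_comb_zero (hS : IsCoherenceSystem S τ R) {φ χ : L → ℂ} (hφ : φ ∈ S) (hχ : χ ∈ S) (h1 : classInner φ χ = 0) (h2 : classInner φ (conjFun χ) = 0)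
    (x y : (G → ℂ) → ℤ) : classInner (∑ α ∈ R φ, (x α : ℂ) • α) (∑ α ∈ R χ, (y α : ℂ) • α) = 0 := by
  apply symm_zero
  exact inner_comb_zero _ _ fun β hβ => symm_zero (sys_inner_zero hS hφ hχ h1 h2 x β hβ)

/-- the difference of two members of the same degree -/
theorem sys_diff (hS : IsCoherenceSystem S τ R) {φ χ : L → ℂ} (hφ : φ ∈ S) (hχ : χ ∈ S) (hne : φ ≠ χ) (hne' : φ ≠ conjFun χ) (h1 : φ 1 = χ 1) :
    ∃ x y : (G → ℂ) → ℤ, (∀ α ∈ R φ, x α = 0 ∨ x α = 1) ∧ ((∑ α ∈ R φ, x α : ℤ) : ℂ) = classInner φ φ ∧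
      τ (φ - χ) = ∑ α ∈ R φ, (x α : ℂ) • α - ∑ α ∈ R χ, (y α : ℂ) • α := by
  classical
  have horth := hS.orthogonal
  have hcχ := hS.conj_mem χ hχ
  have hcφ := hS.conj_mem φ hφ
  have hne2 : conjFun φ ≠ χ := fun h => hne' (by rw [← h, conjFun_conjFun])
  have o1 : classInner φ χ = 0 := horth φ hφ χ hχ hne
  have o2 : classInner φ (conjFun χ) = 0 := horth φ hφ _ hcχ hne'
  have o3 : classInner χ (conjFun φ) = 0 := horth χ hχ _ hcφ hne2.symm
  have hm : φ - χ ∈ zspanOn S {1}ᶜ := by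
    rw [mem_zspanOn_one]
    exact ⟨zspan_sub (mem_zspan_of_mem hφ) (mem_zspan_of_mem hχ), by rw [Pi.sub_apply, h1, sub_self]⟩
  have hm' : χ - φ ∈ zspanOn S {1}ᶜ := by
    rw [mem_zspanOn_one]
    exact ⟨zspan_sub (mem_zspan_of_mem hχ) (mem_zspan_of_mem hφ), by rw [Pi.sub_apply, h1, sub_self]⟩
  have hneg : τ (χ - φ) = -τ (φ - χ) := by
    rw [← iso_neg hS.isometry hm, neg_sub]
  obtain ⟨x, hx, hxs, hxle, hxeq⟩ := sys_five hS hφ (hS.isometry.2.2.2 _ hm) (by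
    rw [hS.isometry.2.2.1 _ hm _ (sys_sub_conj_mem hS hφ), classInner_sub_left, sys_inner_sub_conj hS hφ, classInner_sub_right, symm_zero o1, o3]; ring)
  obtain ⟨y, hy, hys, hyle, hyeq⟩ := sys_five hS hχ (hS.isometry.2.2.2 _ hm') (by
    rw [hS.isometry.2.2.1 _ hm' _ (sys_sub_conj_mem hS hχ), classInner_sub_left, sys_inner_sub_conj hS hχ, classInner_sub_right, o1, o2]; ring)
  obtain ⟨V, hV⟩ : ∃ V : G → ℂ, V = τ (φ - χ) := ⟨_, rfl⟩
  obtain ⟨X, hX⟩ : ∃ X : G → ℂ, X = ∑ α ∈ R φ, (x α : ℂ) • α := ⟨_, rfl⟩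
  obtain ⟨Y, hY⟩ : ∃ Y : G → ℂ, Y = ∑ α ∈ R χ, (y α : ℂ) • α := ⟨_, rfl⟩
  have hXY : classInner X Y = 0 := by rw [hX, hY]; exact inner_comb_comb_zero hS hφ hχ o1 o2 x y
  have hXX : classInner X X = ((∑ α ∈ R φ, x α ^ 2 : ℤ) : ℂ) := by
    rw [hX, norm_comb (R φ) (sys_R_zero hS hφ) (sys_R_one hS hφ)]
    congr 1
    exact Finset.sum_congr rfl fun α _ => (sq (x α)).symm
  have hYY : classInner Y Y = ((∑ α ∈ R χ, y α ^ 2 : ℤ) : ℂ) := by
    rw [hY, norm_comb (R χ) (sys_R_zero hS hχ) (sys_R_one hS hχ)]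
    congr 1
    exact Finset.sum_congr rfl fun α _ => (sq (y α)).symm
  have hVX : classInner V X = ((∑ α ∈ R φ, x α ^ 2 : ℤ) : ℂ) := by
    rw [hV, hX, classInner_sum_right]
    push_cast
    apply Finset.sum_congr rfl
    intro α hα
    rw [classInner_smul_right, hx α hα]
    simp [sq]
  have hVY : classInner V Y = -((∑ α ∈ R χ, y α ^ 2 : ℤ) : ℂ) := by
    rw [hV, hY, classInner_sum_right]
    push_cast
    rw [← Finset.sum_neg_distrib]
    apply Finset.sum_congr rfl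
    intro α hα
    have : classInner (τ (φ - χ)) α = -(y α : ℂ) := by
      rw [← hy α hα, hneg, classInner_neg_left, neg_neg]
    rw [classInner_smul_right, this]
    simp [sq]
  have hVV : classInner V V = classInner φ φ + classInner χ χ := by
    rw [hV, hS.isometry.2.2.1 _ hm _ hm, classInner_sub_left, classInner_sub_right, classInner_sub_right, o1, symm_zero o1]
    ring
  have hXV : classInner X V = ((∑ α ∈ R φ, x α ^ 2 : ℤ) : ℂ) := by
    rw [← classInner_conj_symm, hVX, map_intCast]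
  have hYV : classInner Y V = -((∑ α ∈ R χ, y α ^ 2 : ℤ) : ℂ) := by
    rw [← classInner_conj_symm, hVY, map_neg, map_intCast]
  have hZ : classInner (V - X + Y) (V - X + Y) = classInner φ φ + classInner χ χ - ((∑ α ∈ R φ, x α ^ 2 : ℤ) : ℂ) - ((∑ α ∈ R χ, y α ^ 2 : ℤ) : ℂ) := by
    rw [classInner_add_left, classInner_sub_left, classInner_add_right, classInner_add_right, classInner_add_right, classInner_sub_right,
      classInner_sub_right, classInner_sub_right, hVV, hVX, hVY, hXX, hXY, hXV, hYV, symm_zero hXY, hYY]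
    ring
  have hpos := classInner_self_re_nonneg (V - X + Y)
  have hZre := congrArg Complex.re hZ
  rw [Complex.sub_re, Complex.sub_re, Complex.add_re, Complex.intCast_re, Complex.intCast_re] at hZre
  have hVe : V - X + Y = 0 := by
    apply classInner_self_eq_zero.mp
    rw [classInner_self]
    rw [classInner_self, Complex.ofReal_re] at hZre hpos
    have : ((Nat.card G : ℝ)⁻¹ * ∑ g, ‖(V - X + Y) g‖ ^ 2) = 0 := by linarith
    rw [this]; simp
  refine ⟨x, y, hxeq (by rw [hVe] at hZre; simp only [classInner_zero_left, Complex.zero_re] at hZre; linarith), hxs, ?_⟩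
  rw [← hX, ← hY, ← hV]
  have : V = (V - X + Y) + X - Y := by ring
  rw [this, hVe]; ring

theorem sum_smul_sum_ones (hS : IsCoherenceSystem S τ R) {χ : L → ℂ} (hχ : χ ∈ S) (x : (G → ℂ) → ℤ) :
    classInner (∑ α ∈ R χ, (x α : ℂ) • α) (τ (χ - conjFun χ)) = ((∑ α ∈ R χ, x α : ℤ) : ℂ) := by
  rw [hS.sum_eq χ hχ, classInner_sum_right]
  push_cast
  exact Finset.sum_congr rfl fun α hα => inner_comb_mem _ (sys_R_zero hS hχ) (sys_R_one hS hχ) x hα

/-- Peterfalvi (5.7) -/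
theorem sys_seven (hS : IsCoherenceSystem S τ R) (hdeg : ∀ φ ∈ S, ∀ ψ ∈ S, φ 1 = ψ 1) : IsCoherent S {1}ᶜ τ := by
  classical
  have hfin := sys_finite hS
  obtain ⟨F, hF⟩ := hfin.exists_finset_coe
  have hFS : ∀ φ, φ ∈ F ↔ φ ∈ S := fun φ => by rw [← hF, Finset.mem_coe]
  have horth := hS.orthogonal
  obtain ⟨χ₁, hχ₁⟩ := hS.nonempty
  have hcχ₁ := hS.conj_mem χ₁ hχ₁
  obtain ⟨d, hd⟩ := IsCharacter.exists_nat (hS.isCharacter χ₁ hχ₁)
  have hd0 : d ≠ 0 := by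
    rintro rfl
    exact sys_one_ne_zero hS hχ₁ (by rw [hd]; simp)
  have hm : ∀ φ ∈ S, ∀ ψ ∈ S, φ - ψ ∈ zspanOn S {1}ᶜ := fun φ hφ ψ hψ => by
    rw [mem_zspanOn_one]
    exact ⟨zspan_sub (mem_zspan_of_mem hφ) (mem_zspan_of_mem hψ), by rw [Pi.sub_apply, hdeg φ hφ ψ hψ, sub_self]⟩
  have hE := isZClosed_zspanOn S ({1}ᶜ : Set L)
  -- reduction to the construction of the image of χ₁
  suffices H : ∃ X : G → ℂ, IsGeneralizedCharacter G X ∧ classInner X X = classInner χ₁ χ₁ ∧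
      ∀ φ ∈ S, φ ≠ χ₁ → classInner X (τ (χ₁ - φ)) = classInner χ₁ χ₁ by
    obtain ⟨X, hXg, hXX, hXφ⟩ := H
    have hXφ' : ∀ φ ∈ S, φ ≠ χ₁ → classInner (τ (χ₁ - φ)) X = classInner χ₁ χ₁ := fun φ hφ hne => by
      rw [gen_inner_comm (hS.isometry.2.2.2 _ (hm _ hχ₁ φ hφ)) hXg, hXφ φ hφ hne]
    rw [← hF]
    refine isCoherent_of_base (T := fun φ => X - τ (χ₁ - φ)) (fun φ hφ ψ hψ h => horth φ ((hFS φ).mp hφ) ψ ((hFS ψ).mp hψ) h)
      (fun φ hφ => sys_norm_ne_zero hS ((hFS φ).mp hφ)) (by rw [hF]; exact hS.isometry) (fun φ => (d : ℤ))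
      (fun φ hφ => by rw [hdeg φ ((hFS φ).mp hφ) χ₁ hχ₁, hd]; simp) (χ₁ := χ₁) ((hFS χ₁).mpr hχ₁) (by exact_mod_cast hd0) ?_ ?_ ?_ ?_
    · intro φ hφ
      exact IsGeneralizedCharacter.sub hXg (hS.isometry.2.2.2 _ (hm _ hχ₁ _ ((hFS φ).mp hφ)))
    · intro φ hφ ψ hψ
      have hφ' := (hFS φ).mp hφ
      have hψ' := (hFS ψ).mp hψ
      have h00 : τ (χ₁ - χ₁) = 0 := by rw [sub_self]; exact iso_zero hE hS.isometry
      beta_reduce
      rw [classInner_sub_left, classInner_sub_right, classInner_sub_right, hXX, hS.isometry.2.2.1 _ (hm _ hχ₁ _ hφ') _ (hm _ hχ₁ _ hψ')]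
      by_cases h1 : φ = χ₁
      · subst h1
        by_cases h2 : ψ = φ
        · subst h2
          rw [h00, sub_self]
          simp [classInner_zero_left, classInner_zero_right]
        · rw [h00, hXφ ψ hψ' h2, sub_self, horth φ hφ' ψ hψ' (Ne.symm h2)]
          simp [classInner_zero_left]
      · by_cases h2 : ψ = χ₁
        · subst h2
          rw [h00, hXφ' φ hφ' h1, sub_self, horth φ hφ' ψ hψ' h1]
          simp [classInner_zero_right]
        · rw [hXφ ψ hψ' h2, hXφ' φ hφ' h1, classInner_sub_left, classInner_sub_right, classInner_sub_right, horth χ₁ hχ₁ ψ hψ' (Ne.symm h2), horth φ hφ' χ₁ hχ₁ h1]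
          ring
    · intro φ hφ
      have hφ' := (hFS φ).mp hφ
      beta_reduce
      rw [sub_self, iso_zero hE hS.isometry, sub_zero]
      have e : ((d : ℤ) : ℂ) • φ - ((d : ℤ) : ℂ) • χ₁ = ((-(d : ℤ) : ℤ) : ℂ) • (χ₁ - φ) := by
        push_cast
        rw [neg_smul, smul_sub]; ring
      rw [e, iso_smul hS.isometry (hm _ hχ₁ _ hφ'), smul_sub]
      push_cast
      rw [neg_smul]; ring
    · rw [hF]
      exact ⟨χ₁ - conjFun χ₁, sys_sub_conj_mem hS hχ₁, fun h => hS.conj_ne χ₁ hχ₁ (sub_eq_zero.mp h).symm⟩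
  by_cases hall : ∀ φ ∈ S, φ = χ₁ ∨ φ = conjFun χ₁
  · -- only two members
    obtain ⟨n, hn⟩ := IsCharacter.inner_nat (hS.isCharacter χ₁ hχ₁) (hS.isCharacter χ₁ hχ₁)
    have hscχ := sys_sub_conj_mem hS hχ₁
    have hcc : classInner χ₁ (conjFun χ₁) = 0 := horth _ hχ₁ _ hcχ₁ (hS.conj_ne χ₁ hχ₁).symm
    have hcard : (R χ₁).card = 2 * n := by
      have h1 : classInner (τ (χ₁ - conjFun χ₁)) (τ (χ₁ - conjFun χ₁)) = 2 * (n : ℂ) := by
        rw [hS.isometry.2.2.1 _ hscχ _ hscχ, classInner_sub_left, classInner_sub_right, classInner_sub_right, hcc, symm_zero hcc,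
          inner_conjFun_char (hS.isCharacter χ₁ hχ₁) (hS.isCharacter χ₁ hχ₁), hn]
        ring
      have h2 := sum_smul_sum_ones hS hχ₁ (fun _ => 1)
      have h3 : (∑ α ∈ R χ₁, ((1 : ℤ) : ℂ) • α) = τ (χ₁ - conjFun χ₁) := by
        rw [hS.sum_eq χ₁ hχ₁]; simp
      rw [h3, h1] at h2
      simp only [Finset.sum_const, mul_one, nsmul_eq_mul] at h2
      exact_mod_cast h2.symm
    obtain ⟨T, hTR, hTc⟩ := Finset.exists_subset_card_eq (s := R χ₁) (n := n) (by omega)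
    have hsum : ∀ c : ℤ, (∑ α ∈ R χ₁, if α ∈ T then c else 0) = ∑ α ∈ T, c := by
      intro c
      rw [Finset.sum_ite_mem, Finset.inter_eq_right.mpr hTR]
    refine ⟨∑ α ∈ R χ₁, (((if α ∈ T then 1 else 0 : ℤ)) : ℂ) • α, ?_, ?_, ?_⟩
    · exact IsGeneralizedCharacter.sum _ fun α hα => IsGeneralizedCharacter.zsmul (hS.virtual χ₁ hχ₁ α hα) _
    · rw [norm_comb (R χ₁) (sys_R_zero hS hχ₁) (sys_R_one hS hχ₁), hn]
      have : (∑ α ∈ R χ₁, ((if α ∈ T then 1 else 0 : ℤ) * (if α ∈ T then 1 else 0 : ℤ))) = n := by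
        rw [← hTc, Finset.card_eq_sum_ones]
        push_cast
        rw [← hsum 1]
        exact Finset.sum_congr rfl fun α _ => by split_ifs <;> rfl
      rw [this]; simp
    · intro φ hφ hne
      rcases hall φ hφ with rfl | rfl
      · exact absurd rfl hne
      · rw [sum_smul_sum_ones hS hχ₁, hsum, hn]
        simp [hTc]
  · push Not at hall
    obtain ⟨χ₂, hχ₂, hne1, hne2⟩ := hall
    have hcχ₂ := hS.conj_mem χ₂ hχ₂
    have hne1' : χ₁ ≠ χ₂ := Ne.symm hne1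
    have hne2' : χ₁ ≠ conjFun χ₂ := fun h => hne2 (by rw [h, conjFun_conjFun])
    obtain ⟨x, y, hx01, hxs, hxy⟩ := sys_diff hS hχ₁ hχ₂ hne1' hne2' (hdeg _ hχ₁ _ hχ₂)
    obtain ⟨X, hX⟩ : ∃ X : G → ℂ, X = ∑ α ∈ R χ₁, (x α : ℂ) • α := ⟨_, rfl⟩
    obtain ⟨Y, hY⟩ : ∃ Y : G → ℂ, Y = ∑ α ∈ R χ₂, (y α : ℂ) • α := ⟨_, rfl⟩
    have hXX : classInner X X = classInner χ₁ χ₁ := by
      rw [hX, norm_comb (R χ₁) (sys_R_zero hS hχ₁) (sys_R_one hS hχ₁), ← hxs]
      congr 1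
      apply Finset.sum_congr rfl
      intro α hα
      rcases hx01 α hα with h | h <;> rw [h] <;> rfl
    have o1 : classInner χ₁ χ₂ = 0 := horth _ hχ₁ _ hχ₂ hne1'
    have o2 : classInner χ₁ (conjFun χ₂) = 0 := horth _ hχ₁ _ hcχ₂ hne2'
    have hXY : classInner X Y = 0 := by
      rw [hX, hY]; exact inner_comb_comb_zero hS hχ₁ hχ₂ o1 o2 x y
    refine ⟨X, ?_, hXX, ?_⟩
    · rw [hX]; exact IsGeneralizedCharacter.sum _ fun α hα => IsGeneralizedCharacter.zsmul (hS.virtual χ₁ hχ₁ α hα) _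
    intro φ hφ hφ1
    by_cases h1 : φ = conjFun χ₁
    · rw [h1, hX, sum_smul_sum_ones hS hχ₁, hxs]
    by_cases h2 : φ = χ₂
    · rw [h2, hxy, ← hX, ← hY, classInner_sub_right, hXX, hXY, sub_zero]
    by_cases h3 : φ = conjFun χ₂
    · have e : τ (χ₁ - conjFun χ₂) = τ (χ₁ - χ₂) + τ (χ₂ - conjFun χ₂) := by
        rw [← hS.isometry.1 _ (hm _ hχ₁ _ hχ₂) _ (sys_sub_conj_mem hS hχ₂)]
        congr 1; ring
      rw [h3, e, classInner_add_right, hxy, ← hX, ← hY, classInner_sub_right, hXX, hXY]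
      have : classInner X (τ (χ₂ - conjFun χ₂)) = 0 := by
        rw [hS.sum_eq χ₂ hχ₂, classInner_sum_right]
        exact Finset.sum_eq_zero fun β hβ => by rw [hX]; exact sys_inner_zero hS hχ₁ hχ₂ o1 o2 x β hβ
      rw [this]; ring
    · have hφ1' : χ₁ ≠ φ := Ne.symm hφ1
      have hφ2' : χ₁ ≠ conjFun φ := fun h => h1 (by rw [h, conjFun_conjFun])
      obtain ⟨x', y', -, -, hxy'⟩ := sys_diff hS hχ₁ hφ hφ1' hφ2' (hdeg _ hχ₁ _ hφ)
      obtain ⟨X', hX'⟩ : ∃ X' : G → ℂ, X' = ∑ α ∈ R χ₁, (x' α : ℂ) • α := ⟨_, rfl⟩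
      obtain ⟨Y', hY'⟩ : ∃ Y' : G → ℂ, Y' = ∑ α ∈ R φ, (y' α : ℂ) • α := ⟨_, rfl⟩
      have p1 : classInner χ₁ φ = 0 := horth _ hχ₁ _ hφ hφ1'
      have p2 : classInner χ₁ (conjFun φ) = 0 := horth _ hχ₁ _ (hS.conj_mem φ hφ) hφ2'
      have q1 : classInner χ₂ φ = 0 := horth _ hχ₂ _ hφ (Ne.symm h2)
      have q2 : classInner χ₂ (conjFun φ) = 0 := horth _ hχ₂ _ (hS.conj_mem φ hφ) (fun h => h3 (by rw [h, conjFun_conjFun]))
      have hXY' : classInner X Y' = 0 := by rw [hX, hY']; exact inner_comb_comb_zero hS hχ₁ hφ p1 p2 x y'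
      have hYY' : classInner Y Y' = 0 := by rw [hY, hY']; exact inner_comb_comb_zero hS hχ₂ hφ q1 q2 y y'
      have hYX' : classInner Y X' = 0 := by
        apply symm_zero; rw [hY, hX']; exact inner_comb_comb_zero hS hχ₁ hχ₂ o1 o2 x' y
      have h5 := hS.isometry.2.2.1 _ (hm _ hχ₁ _ hχ₂) _ (hm _ hχ₁ _ hφ)
      rw [hxy, hxy', ← hX, ← hY, ← hX', ← hY', classInner_sub_left, classInner_sub_right, classInner_sub_right, hXY', hYY', hYX', classInner_sub_left,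
        classInner_sub_right, classInner_sub_right, p1, q1, symm_zero o1] at h5
      rw [hxy', ← hX', ← hY', classInner_sub_right, hXY']
      linear_combination h5

end system

end CfsgLib.CharCoh
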