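import Mathlib
import Cfsg.Prelude.Def_Characters
import Cfsg.Prelude.Def_OddOrderChar
import Cfsg.Agent.Lib.CharBasic
import Cfsg.Agent.Lib.CharBasic2
import Cfsg.Agent.Lib.CharInd
import Cfsg.Agent.Lib.CharClifford
import Cfsg.Agent.Lib.CharTI
import Cfsg.Agent.Lib.CharCoh
import Cfsg.Agent.Lib.CharCoh2
import Cfsg.Agent.Lib.CharCoh3
import Cfsg.Agent.Lib.CharCoh4
import Cfsg.Agent.Lib.CharCoh5
import Cfsg.Agent.S1492

/-!
# Peterfalvi (6.2), (6.3)
-/

set_option autoImplicit false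
set_option linter.style.haveILetI false

open scoped ComplexConjugate commutatorElement

namespace CfsgLib.CharCoh

open Cfsg CfsgLib.CharBasic CfsgLib.CharInd CfsgLib.CharClifford

universe u v

section groups

variable {L : Type u} [Group L]

theorem relIndex_ne_zero' [Finite L] (A B : Subgroup L) : A.relIndex B ≠ 0 := by
  rw [Subgroup.relIndex]; exact Subgroup.index_ne_zero_of_finite

theorem lcs_le_of_nilpotent_quotient {H M : Subgroup L} [(M.subgroupOf H).Normal] (h : Group.IsNilpotent (H ⧸ M.subgroupOf H)) :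
    ∃ n, H.lowerCentralSeries n ≤ M := by
  obtain ⟨n, hn⟩ := Subgroup.nilpotent_iff_lowerCentralSeries.mp h
  refine ⟨n, ?_⟩
  have h1 : ((⊤ : Subgroup H).lowerCentralSeries n).map (QuotientGroup.mk' (M.subgroupOf H)) = ⊥ := by
    rw [Subgroup.map_lowerCentralSeries, ← hn]
    congr 1
    exact Subgroup.map_top_of_surjective _ (QuotientGroup.mk'_surjective _)
  rw [Subgroup.map_eq_bot_iff, QuotientGroup.ker_mk'] at h1
  rw [← Subgroup.top_subtype_lowerCentralSeries]
  rintro x ⟨y, hy, rfl⟩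
  exact Subgroup.mem_subgroupOf.mp (h1 hy)

theorem commutator_sup_le {X B H C : Subgroup L} [B.Normal] (h1 : ⁅X, H⁆ ≤ C) (h2 : ⁅B, H⁆ ≤ B) (hBC : B ≤ C) : ⁅X ⊔ B, H⁆ ≤ C := by
  rw [Subgroup.commutator_le]
  intro x hx h hh
  obtain ⟨y, hy, b, hb, rfl⟩ := Subgroup.mem_sup_of_normal_right.mp hx
  have e : ⁅y * b, h⁆ = (y * ⁅b, h⁆ * y⁻¹) * ⁅y, h⁆ := by
    rw [commutatorElement_def, commutatorElement_def, commutatorElement_def]; group
  rw [e]
  apply mul_mem
  · exact hBC (Subgroup.Normal.conj_mem inferInstance _ (h2 (Subgroup.commutator_mem_commutator hb hh)) y)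
  · exact h1 (Subgroup.commutator_mem_commutator hy hh)

theorem commutator_sup_lt {H M A : Subgroup L} [H.Normal] [A.Normal] [M.Normal] (hn : ∃ n, H.lowerCentralSeries n ≤ M)
    (hMA : M < A) (hAH : A ≤ H) : ⁅A, H⁆ ⊔ M < A := by
  have hle : ⁅A, H⁆ ⊔ M ≤ A := sup_le (Subgroup.commutator_le_left A H) hMA.le
  refine lt_of_le_of_ne hle fun heq => ?_
  have key : ∀ n, A ≤ H.lowerCentralSeries n ⊔ M := by
    intro n
    induction n with
    | zero => exact hAH.trans le_sup_left
    | succ n ih =>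
      rw [← heq]
      apply sup_le _ le_sup_right
      refine (Subgroup.commutator_mono ih le_rfl).trans ?_
      exact commutator_sup_le (by rw [← Subgroup.lowerCentralSeries_succ]; exact le_sup_left) (Subgroup.commutator_le_left M H) le_sup_right
  obtain ⟨n, hn⟩ := hn
  exact absurd ((key n).trans (sup_le hn le_rfl)) (not_le_of_gt hMA)

end groups

section main

variable {L : Type u} [Group L] [Fintype L] {G : Type v} [Group G] [Fintype G] {τ : (L → ℂ) → (G → ℂ)} {R : (L → ℂ) → Finset (G → ℂ)}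

theorem above_subset_bot (K A : Subgroup L) : inducedIrrAbove K A ⊆ inducedIrrAbove K ⊥ :=
  above_mono (fun k _ hk => by rw [Subgroup.mem_bot] at hk; rw [hk]; exact one_mem _)

/-- Peterfalvi (6.2), in terms of degrees: if the degrees of the irreducible characters of `K` trivial on `B` are small -/
theorem sys_grow_above {K : Subgroup L} [K.Normal] (hsolv : Group.IsSolvable K) (hS : IsCoherenceSystem (inducedIrrAbove K ⊥) τ R) (A B : Subgroup L)
    [A.Normal] [B.Normal] (hAK : A < K) (hBK : B < K) (hA : IsCoherent (inducedIrrAbove K A) {1}ᶜ τ)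
    (hdeg : ∀ θ : K → ℂ, IsIrrCharacter K θ → θ ≠ (fun _ => 1) → (∀ a : K, (a : L) ∈ B → θ a = θ 1) → ∀ m : ℕ, θ 1 = m → (2 * K.index * m : ℝ) < A.relIndex K - 1) :
    IsCoherent (inducedIrrAbove K B) {1}ᶜ τ := by
  classical
  obtain ⟨d, n, hd, hn⟩ := exists_dn hS
  obtain ⟨FA, hFA⟩ := (above_finite K A).exists_finset_coe
  obtain ⟨FB, hFB⟩ := (above_finite K B).exists_finset_coe
  have hmA : ∀ φ, φ ∈ FA ↔ φ ∈ inducedIrrAbove K A := fun φ => by rw [← hFA, Finset.mem_coe]
  have hmB : ∀ φ, φ ∈ FB ↔ φ ∈ inducedIrrAbove K B := fun φ => by rw [← hFB, Finset.mem_coe]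
  obtain ⟨lam, h1, h2, h3, h4⟩ := exists_linear_above (L := L) (K := K) (A := A) hsolv (not_le_of_gt hAK)
  obtain ⟨lam', h1', h2', h3', h4'⟩ := exists_linear_above (L := L) (K := K) (A := B) hsolv (not_le_of_gt hBK)
  have hχ₁ : indFun K lam ∈ inducedIrrAbove K A := ⟨lam, h1, h2, h3, rfl⟩
  have hχ₂ : indFun K lam' ∈ inducedIrrAbove K B := ⟨lam', h1', h2', h3', rfl⟩
  have hdχ₁ : d (indFun K lam) = K.index := by
    have := hd _ (above_subset_bot K A hχ₁)
    rw [indFun_one, h4, mul_one] at this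
    exact_mod_cast this.symm
  have hsum := sum_above K A FA hmA d n (fun φ hφ => hd φ (above_subset_bot K A ((hmA φ).mp hφ))) (fun φ hφ => hn φ (above_subset_bot K A ((hmA φ).mp hφ)))
  have hidx : (0 : ℝ) < K.index := by exact_mod_cast Nat.pos_of_ne_zero Subgroup.index_ne_zero_of_finite
  obtain ⟨S₂, g1, g2, g3, g4, g5⟩ := sys_grow hS d n hd hn (indFun K lam) FB ((K.index : ℝ) * ((A.relIndex K : ℝ) - 1))
    (fun ψ hψ => above_subset_bot K B ((hmB ψ).mp hψ))
    (fun ψ hψ => by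
      rw [hdχ₁]
      exact above_degree_dvd ((hmB ψ).mp hψ) (hd ψ (above_subset_bot K B ((hmB ψ).mp hψ))))
    (fun ψ hψ => by
      obtain ⟨θ, t1, t2, t3, rfl⟩ := (hmB ψ).mp hψ
      obtain ⟨m, hm, hm'⟩ := IsIrrCharacter.exists_pos t1
      have hdψ : d (indFun K θ) = K.index * m := by
        have := hd _ (above_subset_bot K B ((hmB _).mp hψ))
        rw [indFun_one, hm'] at this
        exact_mod_cast this.symm
      rw [hdψ, hdχ₁]
      have h5 := hdeg θ t1 t2 t3 m hm'
      push_cast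
      nlinarith)
    FA (by rw [hFA]; exact above_subset_bot K A) (fun φ hφ => (hmA _).mpr (above_conj ((hmA φ).mp hφ))) (by rw [hFA]; exact hA) ((hmA _).mpr hχ₁) (le_of_eq hsum.symm)
  refine coherent_subset (F := (S₂ : Set (L → ℂ))) ?_ g5 (sys_exists_ne hS (above_subset_bot K B) hχ₂ (above_conj hχ₂))
  intro φ hφ
  exact g2 ((hmB φ).mpr hφ)

/-- Peterfalvi (6.2) -/
theorem sys_six_two {K : Subgroup L} [K.Normal] (hsolv : Group.IsSolvable K) (hS : IsCoherenceSystem (inducedIrrAbove K ⊥) τ R) (A B C D : Subgroup L)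
    [A.Normal] [B.Normal] [C.Normal] [D.Normal] (hAK : A < K) (hBK : B < K) (hBD : B ≤ D) (hDC : D ≤ C) (hCK : C ≤ K)
    (hcent : ∀ x ∈ D, ∀ y ∈ C, x * y * x⁻¹ * y⁻¹ ∈ B) (hA : IsCoherent (inducedIrrAbove K A) {1}ᶜ τ)
    (hlt : 4 * C.index ^ 2 * D.relIndex C < (A.relIndex K - 1) ^ 2) : IsCoherent (inducedIrrAbove K B) {1}ᶜ τ := by
  classical
  refine sys_grow_above hsolv hS A B hAK hBK hA ?_
  intro θ h1 h2 h3 m hm
  have hS1492 := Cfsg.Agent.S1492.result θ h1 (B.subgroupOf K) (C.subgroupOf K) (D.subgroupOf K)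
    (fun x hx => Subgroup.mem_subgroupOf.mpr (hBD (Subgroup.mem_subgroupOf.mp hx)))
    (fun x hx => Subgroup.mem_subgroupOf.mpr (hDC (Subgroup.mem_subgroupOf.mp hx)))
    (fun c _ b hb => by
      rw [Subgroup.mem_subgroupOf] at hb ⊢
      exact Subgroup.Normal.conj_mem inferInstance _ hb c)
    (fun x hx y hy => by
      rw [Subgroup.mem_subgroupOf] at hx hy ⊢
      exact hcent _ hx _ hy)
    (fun b hb => h3 b (Subgroup.mem_subgroupOf.mp hb))
  rw [hm, Complex.norm_natCast] at hS1492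
  have cC : Nat.card (C.subgroupOf K) = Nat.card C := Nat.card_congr (Subgroup.subgroupOfEquivOfLe hCK).toEquiv
  have cD : Nat.card (D.subgroupOf K) = Nat.card D := Nat.card_congr (Subgroup.subgroupOfEquivOfLe (hDC.trans hCK)).toEquiv
  rw [cC, cD] at hS1492
  have hnat : m ^ 2 * Nat.card C * Nat.card D ≤ Nat.card K ^ 2 := by exact_mod_cast hS1492
  -- orders
  have e1 := Subgroup.relIndex_mul_index hCK
  have e2 : Nat.card C * C.relIndex K = Nat.card K := by
    have := Subgroup.card_mul_index (C.subgroupOf K)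
    rw [cC] at this
    exact this
  have e3 : Nat.card D * D.relIndex C = Nat.card C := by
    have := Subgroup.card_mul_index (D.subgroupOf C)
    rw [Nat.card_congr (Subgroup.subgroupOfEquivOfLe hDC).toEquiv] at this
    exact this
  have hCpos : 0 < Nat.card C := Nat.card_pos
  have hDpos : 0 < Nat.card D := Nat.card_pos
  -- m² ≤ [K:C]² [C:D]
  have hm2 : m ^ 2 ≤ (C.relIndex K) ^ 2 * D.relIndex C := by
    have h5 : m ^ 2 * (Nat.card C * Nat.card D) ≤ (C.relIndex K) ^ 2 * D.relIndex C * (Nat.card C * Nat.card D) := by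
      calc m ^ 2 * (Nat.card C * Nat.card D) = m ^ 2 * Nat.card C * Nat.card D := by ring
        _ ≤ Nat.card K ^ 2 := hnat
        _ = (C.relIndex K) ^ 2 * (Nat.card C * Nat.card C) := by rw [← e2]; ring
        _ = (C.relIndex K) ^ 2 * D.relIndex C * (Nat.card C * Nat.card D) := by nth_rewrite 2 [← e3]; ring
    exact Nat.le_of_mul_le_mul_right h5 (Nat.mul_pos hCpos hDpos)
  have hApos : 1 ≤ A.relIndex K := Nat.one_le_iff_ne_zero.mpr (relIndex_ne_zero' _ _)
  have hsq : (2 * K.index * m) ^ 2 < (A.relIndex K - 1) ^ 2 := by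
    calc (2 * K.index * m) ^ 2 = 4 * K.index ^ 2 * m ^ 2 := by ring
      _ ≤ 4 * K.index ^ 2 * ((C.relIndex K) ^ 2 * D.relIndex C) := Nat.mul_le_mul_left _ hm2
      _ = 4 * C.index ^ 2 * D.relIndex C := by rw [← e1]; ring
      _ < _ := hlt
  have hlt2 : 2 * K.index * m < A.relIndex K - 1 := lt_of_pow_lt_pow_left₀ 2 (Nat.zero_le _) hsq
  have : ((2 * K.index * m : ℕ) : ℝ) < ((A.relIndex K - 1 : ℕ) : ℝ) := by exact_mod_cast hlt2
  rw [Nat.cast_sub hApos] at this
  push_cast at this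
  exact this

/-- Peterfalvi (6.3) -/
theorem sys_six_three {K : Subgroup L} [K.Normal] (hsolv : Group.IsSolvable K) (hS : IsCoherenceSystem (inducedIrrAbove K ⊥) τ R) (M H₁ H : Subgroup L)
    [M.Normal] [H₁.Normal] [H.Normal] (hMH₁ : M ≤ H₁) (hH₁H : H₁ ≤ H) (hHK : H ≤ K) (hnil : ∃ n, H.lowerCentralSeries n ≤ M)
    (hcoh : IsCoherent (inducedIrrAbove K H₁) {1}ᶜ τ) (hbig : 4 * K.index ^ 2 + 1 < H₁.relIndex H) : IsCoherent (inducedIrrAbove K M) {1}ᶜ τ := by
  classical
  have hH₁lt : H₁ < H := by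
    refine lt_of_le_of_ne hH₁H fun h => ?_
    rw [h, Subgroup.relIndex_self] at hbig
    omega
  have main : ∀ N : ℕ, ∀ A : Subgroup L, A.Normal → M ≤ A → A ≤ H₁ → Nat.card A = N → IsCoherent (inducedIrrAbove K A) {1}ᶜ τ → IsCoherent (inducedIrrAbove K M) {1}ᶜ τ := by
    intro N
    induction N using Nat.strong_induction_on with
    | _ N ih =>
      intro A hAn hMA hAH₁ hcard hA
      rcases eq_or_lt_of_le hMA with heq | hlt
      · rw [heq]; exact hA
      · have hAH : A ≤ H := hAH₁.trans hH₁H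
        have hAK : A < K := lt_of_le_of_lt hAH₁ (lt_of_lt_of_le hH₁lt hHK)
        have hBA := commutator_sup_lt hnil hlt hAH
        have hBn : (⁅A, H⁆ ⊔ M).Normal := inferInstance
        have hcardlt : Nat.card (⁅A, H⁆ ⊔ M : Subgroup L) < N := by
          rw [← hcard]
          apply lt_of_le_of_ne (Nat.le_of_dvd Nat.card_pos (Subgroup.card_dvd_of_le hBA.le))
          intro h
          exact hBA.ne (Subgroup.eq_of_le_of_card_ge hBA.le h.ge)
        refine ih _ hcardlt (⁅A, H⁆ ⊔ M) hBn le_sup_right (hBA.le.trans hAH₁) rfl ?_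
        refine sys_six_two hsolv hS A (⁅A, H⁆ ⊔ M) H A hAK (lt_of_lt_of_le hBA hAK.le) hBA.le hAH hHK ?_ hA ?_
        · intro x hx y hy
          exact (le_sup_left : ⁅A, H⁆ ≤ ⁅A, H⁆ ⊔ M) (Subgroup.commutator_mem_commutator hx hy)
        · -- inequality
          have e1 := Subgroup.relIndex_mul_index hHK
          have e2 := Subgroup.relIndex_mul_relIndex A H K hAH hHK
          have e3 : H₁.relIndex H ≤ A.relIndex H := by
            have := Subgroup.relIndex_mul_relIndex A H₁ H hAH₁ hH₁H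
            rw [← this]
            exact Nat.le_mul_of_pos_left _ (Nat.pos_of_ne_zero (relIndex_ne_zero' _ _))
          have hx : 1 ≤ H.relIndex K := Nat.one_le_iff_ne_zero.mpr (relIndex_ne_zero' _ _)
          have he : 1 ≤ K.index := Nat.one_le_iff_ne_zero.mpr Subgroup.index_ne_zero_of_finite
          rw [← e1, ← e2]
          generalize H.relIndex K = x at *
          generalize A.relIndex H = y at *
          generalize K.index = e at *
          have hy : 4 * e ^ 2 + 2 ≤ y := by omega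
          have hyx : 1 ≤ y * x := Nat.mul_pos (by omega) hx
          have hZ : (4 * ((x : ℤ) * e) ^ 2 * y) < ((y : ℤ) * x - 1) ^ 2 := by
            have hy' : (4 * (e : ℤ) ^ 2 + 2) ≤ y := by exact_mod_cast hy
            have hx' : (1 : ℤ) ≤ x := by exact_mod_cast hx
            have hxy : (0 : ℤ) ≤ (x : ℤ) ^ 2 * y := by positivity
            nlinarith [mul_le_mul_of_nonneg_left hy' hxy, mul_nonneg (sub_nonneg.mpr hx') (by positivity : (0 : ℤ) ≤ (x : ℤ) * y)]
          have h6 : ((4 * (x * e) ^ 2 * y : ℕ) : ℤ) < (((y * x - 1) ^ 2 : ℕ) : ℤ) := by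
            rw [Nat.cast_pow, Nat.cast_sub hyx]
            push_cast
            exact hZ
          exact_mod_cast h6
  exact main _ H₁ inferInstance hMH₁ le_rfl rfl hcoh

end main

end CfsgLib.CharCoh
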