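import Mathlib
import Cfsg.Agent.Lib.Derange

/-!
# Quotients which are Frobenius groups, and primes dividing the commutator quotient of a nilpotent group
-/

set_option autoImplicit false
set_option linter.style.haveILetI false

open scoped commutatorElement

namespace CfsgLib.FrobQuot

universe u

theorem relIndex_eq_card_map {L : Type u} [Group L] [Finite L] (H N : Subgroup L) [H.Normal] :
    H.relIndex N = Nat.card (N.map (QuotientGroup.mk' H)) := by
  have h1 := Subgroup.index_ker ((QuotientGroup.mk' H).comp N.subtype)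
  have h2 : ((QuotientGroup.mk' H).comp N.subtype).ker = H.subgroupOf N := by
    ext x
    rw [MonoidHom.mem_ker, Subgroup.mem_subgroupOf, MonoidHom.comp_apply, Subgroup.subtype_apply, QuotientGroup.mk'_apply, QuotientGroup.eq_one_iff]
  have h3 : ((QuotientGroup.mk' H).comp N.subtype).range = N.map (QuotientGroup.mk' H) := by
    rw [MonoidHom.range_comp, Subgroup.range_subtype]
  rw [h2, h3] at h1
  rw [Subgroup.relIndex]; exact h1

/-- counting in a Frobenius quotient -/
theorem index_dvd_relIndex_sub_one {L : Type u} [Group L] [Finite L] (H K N : Subgroup L) [H.Normal] [N.Normal]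
    (hfrob : ∀ k ∈ K, k ∉ H → ∀ x : L, x * k * x⁻¹ * k⁻¹ ∈ H → x ∈ K) (hNK : N ≤ K) : K.index ∣ H.relIndex N - 1 := by
  classical
  let inst : MulAction L (L ⧸ H) := MulAction.compHom (L ⧸ H) ((MulAut.conj : L ⧸ H →* MulAut (L ⧸ H)).comp (QuotientGroup.mk' H))
  have hsmul : ∀ (g : L) (q : L ⧸ H), inst.toSMul.smul g q = (g : L ⧸ H) * q * (g : L ⧸ H)⁻¹ := fun g q => rfl
  have hNn : (N.map (QuotientGroup.mk' H)).Normal := Subgroup.Normal.map inferInstance _ (QuotientGroup.mk'_surjective H)
  have key := @CfsgLib.Derange.index_dvd_ncard L (L ⧸ H) _ _ inst K {q : L ⧸ H | q ∈ N.map (QuotientGroup.mk' H) ∧ q ≠ 1} (Set.toFinite _)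
    (by
      rintro g q ⟨hq, hq1⟩
      refine ⟨?_, ?_⟩
      · show inst.toSMul.smul g q ∈ _
        rw [hsmul]
        exact hNn.conj_mem q hq _
      · intro h
        apply hq1
        have h' : inst.toSMul.smul g q = 1 := h
        rw [hsmul] at h'
        have : q = (g : L ⧸ H)⁻¹ * ((g : L ⧸ H) * q * (g : L ⧸ H)⁻¹) * (g : L ⧸ H) := by group
        rw [this, h']; group)
    (by
      rintro q ⟨hq, hq1⟩ x hx
      obtain ⟨n, hn, rfl⟩ := hq
      have hx' : inst.toSMul.smul x (QuotientGroup.mk' H n) = QuotientGroup.mk' H n := hx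
      rw [hsmul] at hx'
      have hnH : n ∉ H := by
        intro h
        apply hq1
        rw [QuotientGroup.mk'_apply]
        exact (QuotientGroup.eq_one_iff n).mpr h
      apply hfrob n (hNK hn) hnH
      rw [← QuotientGroup.eq_one_iff]
      rw [QuotientGroup.mk_mul, QuotientGroup.mk_mul, QuotientGroup.mk_mul, QuotientGroup.mk_inv, QuotientGroup.mk_inv]
      rw [QuotientGroup.mk'_apply] at hx'
      rw [hx', mul_inv_cancel])
  have hcard : Set.ncard {q : L ⧸ H | q ∈ N.map (QuotientGroup.mk' H) ∧ q ≠ 1} = H.relIndex N - 1 := by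
    rw [relIndex_eq_card_map]
    have h1 : {q : L ⧸ H | q ∈ N.map (QuotientGroup.mk' H) ∧ q ≠ 1} = ((N.map (QuotientGroup.mk' H) : Subgroup (L ⧸ H)) : Set (L ⧸ H)) \ {1} := by
      ext q; simp
    rw [h1, Set.ncard_sdiff (Set.singleton_subset_iff.mpr (one_mem _)), Set.ncard_singleton]
    rfl
  rw [hcard] at key
  exact key

theorem commutator_ne_top_of_pgroup {P : Type u} [Group P] [Finite P] {p : ℕ} [Fact p.Prime] (hP : IsPGroup p P) (hnt : Nontrivial P) :
    p ∣ (commutator P).index := by
  haveI : Group.IsNilpotent P := IsPGroup.isNilpotent hP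
  haveI : Group.IsSolvable P := inferInstance
  have h1 := (Group.IsSolvable.commutator_lt_top_of_nontrivial P).ne
  obtain ⟨n, hn⟩ := IsPGroup.iff_card.mp hP
  have h2 : (commutator P).index ∣ p ^ n := by rw [← hn]; exact Subgroup.index_dvd_card _
  obtain ⟨k, -, hk⟩ := (Nat.dvd_prime_pow (Fact.out : p.Prime)).mp h2
  rw [hk]
  apply dvd_pow_self
  rintro rfl
  rw [pow_zero, Subgroup.index_eq_one] at hk
  exact h1 hk

/-- a prime dividing the order of a nilpotent group divides the order of its abelianization -/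
theorem prime_dvd_index_commutator {Q : Type u} [Group Q] [Finite Q] (hQ : Group.IsNilpotent Q) {p : ℕ} (hp : p.Prime) (hd : p ∣ Nat.card Q) :
    p ∣ (commutator Q).index := by
  classical
  haveI := Fact.mk hp
  obtain ⟨e⟩ := (Group.isNilpotent_of_finite_tfae (G := Q)).out 0 4 |>.mp hQ
  obtain ⟨P⟩ : Nonempty (Sylow p Q) := inferInstance
  have hmem : p ∈ (Nat.card Q).primeFactors := Nat.mem_primeFactors.mpr ⟨hp, hd, Nat.card_pos.ne'⟩
  -- projection onto the Sylow subgroup
  let f : Q →* (P : Subgroup Q) :=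
    ((Pi.evalMonoidHom (fun P : Sylow p Q => ((P : Subgroup Q) : Type u)) P).comp
      (Pi.evalMonoidHom (fun p : (Nat.card Q).primeFactors => (∀ P : Sylow p Q, ((P : Subgroup Q) : Type u))) ⟨p, hmem⟩)).comp e.symm.toMonoidHom
  have hf : Function.Surjective f := by
    intro y
    refine ⟨e (Function.update 1 ⟨p, hmem⟩ (Function.update 1 P y)), ?_⟩
    simp [f]
  have hPnt : Nontrivial (P : Subgroup Q) := by
    rw [Subgroup.nontrivial_iff_ne_bot]
    exact P.ne_bot_of_dvd_card hd
  have h1 := commutator_ne_top_of_pgroup P.isPGroup' hPnt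
  have h2 : (commutator Q).map f = commutator (P : Subgroup Q) := by
    rw [commutator_def, Subgroup.map_commutator, Subgroup.map_top_of_surjective f hf]; rfl
  have h3 := Subgroup.index_map_dvd (commutator Q) hf
  rw [h2] at h3
  exact h1.trans h3

end CfsgLib.FrobQuot
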