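import Mathlib
import Cfsg.Prelude.Def_Characters
import Cfsg.Prelude.Def_OddOrderChar
import Cfsg.Agent.Lib.CharBasic
import Cfsg.Agent.Lib.CharBasic2
import Cfsg.Agent.Lib.CharInd
import Cfsg.Agent.Lib.CharClifford
import Cfsg.Agent.Lib.CharCoh
import Cfsg.Agent.Lib.CharCoh2
import Cfsg.Agent.Lib.CharCoh3
import Cfsg.Agent.Lib.CharCoh4
import Cfsg.Agent.Lib.CharCoh5
import Cfsg.Agent.Lib.CharCoh6
import Cfsg.Agent.Lib.FrobQuot
import Cfsg.Agent.Lib.FrobQuot2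

/-!
# Peterfalvi (6.4)
-/

set_option autoImplicit false
set_option linter.style.haveILetI false

open scoped ComplexConjugate commutatorElement

namespace CfsgLib.CharCoh

open Cfsg CfsgLib.CharBasic CfsgLib.CharInd CfsgLib.CharClifford CfsgLib.FrobQuot

universe u v

variable {L : Type u} [Group L] [Fintype L] {G : Type v} [Group G] [Fintype G] {τ : (L → ℂ) → (G → ℂ)} {R : (L → ℂ) → Finset (G → ℂ)}

theorem sys_restrict {S E : Set (L → ℂ)} (hS : IsCoherenceSystem S τ R) (hE : E ⊆ S) (hne : E.Nonempty) (hconj : ∀ φ ∈ E, conjFun φ ∈ E) :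
    IsCoherenceSystem E τ R :=
  ⟨hne, fun χ h => hS.isCharacter χ (hE h), hconj, fun χ h => hS.conj_ne χ (hE h), iso_mono hS.isometry (zspanOn_mono hE),
    fun α hα => hS.map_one α (zspanOn_mono hE hα), fun χ h φ h' => hS.orthogonal χ (hE h) φ (hE h'), fun χ h => hS.orthonormal χ (hE h),
    fun χ h => hS.virtual χ (hE h), fun χ h => hS.sum_eq χ (hE h), fun χ h φ h' => hS.disjoint χ (hE h) φ (hE h')⟩

/-- coherence for abelian quotients -/
theorem coherent_abelian {K : Subgroup L} [K.Normal] (hsolv : Group.IsSolvable K) (hS : IsCoherenceSystem (inducedIrrAbove K ⊥) τ R)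
    (H₁ : Subgroup L) [H₁.Normal] (hlt : H₁ < K) (hab : ⁅K, K⁆ ≤ H₁) : IsCoherent (inducedIrrAbove K H₁) {1}ᶜ τ := by
  obtain ⟨lam, h1, h2, h3, h4⟩ := exists_linear_above (L := L) (K := K) (A := H₁) hsolv (not_le_of_gt hlt)
  have hS' := sys_restrict hS (above_subset_bot K H₁) ⟨_, lam, h1, h2, h3, rfl⟩ (fun φ hφ => above_conj hφ)
  have hlin : ∀ φ ∈ inducedIrrAbove K H₁, φ 1 = (K.index : ℂ) := by
    rintro φ ⟨θ, t1, t2, t3, rfl⟩
    have hθ1 : θ 1 = 1 := by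
      refine (degree_one_iff (⟨θ, t1⟩ : IrrCharacter K)).mpr fun n hn => t3 n (hab ?_)
      rw [← Subgroup.map_subtype_commutator]
      exact Subgroup.mem_map_of_mem _ hn
    rw [indFun_one, hθ1, mul_one]
  exact sys_seven hS' fun φ hφ ψ hψ => by rw [hlin φ hφ, hlin ψ hψ]

/-- group-theoretic part of Peterfalvi (6.4) -/
theorem six_four_big {K : Subgroup L} [K.Normal] (hodd : Odd (Nat.card L)) (M : Subgroup L) [M.Normal] (hMK : M ≤ K)
    (hnil : Group.IsNilpotent (↥K ⧸ M.subgroupOf K)) (H₁ : Subgroup L) (hH₁ : H₁ = ⁅K, K⁆ ⊔ M) (hH₁K : H₁ < K) (hKL : K < ⊤)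
    (hfrob : ∀ k ∈ K, k ∉ H₁ → ∀ x : L, x * k * x⁻¹ * k⁻¹ ∈ H₁ → x ∈ K)
    (hgood : (∃ N : Subgroup L, N.Normal ∧ H₁ < N ∧ N < K) ∨ 4 * K.index ^ 2 + 1 < H₁.relIndex K ∨ (¬ ∃ p m : ℕ, p.Prime ∧ M.relIndex K = p ^ m) ∨
      ⁅K, K⁆ ≤ M ∨ (∃ p m : ℕ, p.Prime ∧ M.relIndex K = p ^ m ∧ K.index ∣ p - 1)) :
    ⁅K, K⁆ ≤ M ∨ 4 * K.index ^ 2 + 1 < H₁.relIndex K := by
  classical
  have hH₁n : H₁.Normal := by rw [hH₁]; infer_instance
  have hKKH : ⁅K, K⁆ ≤ H₁ := by rw [hH₁]; exact le_sup_left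
  have hMH₁ : M ≤ H₁ := by rw [hH₁]; exact le_sup_right
  have hidx := index_commutator_quotient K M hMK
  rw [← hH₁] at hidx
  have hcardQ : Nat.card (K ⧸ M.subgroupOf K) = M.relIndex K := by rw [Subgroup.relIndex, Subgroup.index]
  have hprime : ∀ p : ℕ, p.Prime → p ∣ M.relIndex K → p ∣ H₁.relIndex K := by
    intro p hp hpd
    rw [← hidx]
    exact prime_dvd_index_commutator hnil hp (by rw [hcardQ]; exact hpd)
  rcases hgood with ⟨N, hN, h1, h2⟩ | h | h | h | ⟨p, m, hp, hpm, hdvd⟩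
  · right; exact big_of_intermediate hodd hKL hfrob h1 h2
  · right; exact h
  · right
    -- two distinct primes
    have hne1 : M.relIndex K ≠ 1 := fun h1 => h ⟨2, 0, Nat.prime_two, by rw [h1, pow_zero]⟩
    have hp := Nat.minFac_prime hne1
    obtain ⟨q, hq, hqd, hqp⟩ : ∃ q : ℕ, q.Prime ∧ q ∣ M.relIndex K ∧ q ≠ (M.relIndex K).minFac := by
      by_contra hno
      push Not at hno
      exact h ⟨_, _, hp, Nat.eq_prime_pow_of_unique_prime_dvd (relIndex_ne_zero' M K) fun {d} hd hdd => hno d hd hdd⟩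
    obtain ⟨N, hN, h1, h2⟩ := exists_intermediate hH₁K.le hKKH hp hq hqp.symm (hprime _ hp (Nat.minFac_dvd _)) (hprime q hq hqd)
    exact big_of_intermediate hodd hKL hfrob h1 h2
  · left; exact h
  · by_cases hle : ⁅K, K⁆ ≤ M
    · left; exact hle
    right
    have hdiv : H₁.relIndex K ∣ p ^ m := by
      rw [← hpm]
      have := Subgroup.relIndex_mul_relIndex M H₁ K hMH₁ hH₁K.le
      rw [← this]; exact Dvd.intro_left _ rfl
    obtain ⟨j, -, hj⟩ := (Nat.dvd_prime_pow hp).mp hdiv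
    have hj0 : j ≠ 0 := by
      rintro rfl
      rw [pow_zero, Subgroup.relIndex_eq_one] at hj
      exact absurd hj (not_le_of_gt hH₁K)
    have hj1 : j ≠ 1 := by
      rintro rfl
      rw [pow_one] at hj
      refine hle (commutator_le_of_prime hMK (lcs_le_of_nilpotent_quotient hnil) hp ?_)
      rw [← hH₁]; exact hj
    have hpL : p ∣ Nat.card L := by
      have h1 : p ∣ H₁.relIndex K := by rw [hj]; exact dvd_pow_self p hj0
      exact h1.trans ((Subgroup.index_dvd_card (H₁.subgroupOf K)).trans (Subgroup.card_subgroup_dvd_card K))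
    have hpodd : Odd p := Odd.of_dvd_nat hodd hpL
    have hKodd : Odd K.index := Odd.of_dvd_nat hodd (Subgroup.index_dvd_card K)
    have hge := odd_dvd_le hKodd hpodd hp.one_lt.ne' hdvd
    have he1 : 1 ≤ K.index := Nat.one_le_iff_ne_zero.mpr Subgroup.index_ne_zero_of_finite
    calc 4 * K.index ^ 2 + 1 < p ^ 2 := by nlinarith
      _ ≤ p ^ j := Nat.pow_le_pow_right hp.pos (by omega)
      _ = H₁.relIndex K := hj.symm

/-- Peterfalvi (6.4) -/
theorem sys_six_four {K : Subgroup L} [K.Normal] (hsolv : Group.IsSolvable K) (hS : IsCoherenceSystem (inducedIrrAbove K ⊥) τ R)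
    (hodd : Odd (Nat.card L)) (M : Subgroup L) [M.Normal] (hMK : M ≤ K)
    (hnil : Group.IsNilpotent (↥K ⧸ M.subgroupOf K)) (H₁ : Subgroup L) (hH₁ : H₁ = ⁅K, K⁆ ⊔ M) (hH₁K : H₁ < K) (hKL : K < ⊤)
    (hfrob : ∀ k ∈ K, k ∉ H₁ → ∀ x : L, x * k * x⁻¹ * k⁻¹ ∈ H₁ → x ∈ K)
    (hgood : (∃ N : Subgroup L, N.Normal ∧ H₁ < N ∧ N < K) ∨ 4 * K.index ^ 2 + 1 < H₁.relIndex K ∨ (¬ ∃ p m : ℕ, p.Prime ∧ M.relIndex K = p ^ m) ∨
      ⁅K, K⁆ ≤ M ∨ (∃ p m : ℕ, p.Prime ∧ M.relIndex K = p ^ m ∧ K.index ∣ p - 1)) :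
    IsCoherent (inducedIrrAbove K M) {1}ᶜ τ := by
  have hH₁n : H₁.Normal := by rw [hH₁]; infer_instance
  have hKKH : ⁅K, K⁆ ≤ H₁ := by rw [hH₁]; exact le_sup_left
  have hMH₁ : M ≤ H₁ := by rw [hH₁]; exact le_sup_right
  rcases six_four_big hodd M hMK hnil H₁ hH₁ hH₁K hKL hfrob hgood with h | h
  · exact coherent_abelian hsolv hS M (lt_of_le_of_lt hMH₁ hH₁K) h
  · exact sys_six_three hsolv hS M H₁ K hMH₁ hH₁K.le le_rfl (lcs_le_of_nilpotent_quotient hnil) (coherent_abelian hsolv hS H₁ hH₁K hKKH) h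

end CfsgLib.CharCoh
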