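import Mathlib
import Cfsg.Prelude.Def_Characters
import Cfsg.Prelude.Def_OddOrderChar
import Cfsg.Agent.Lib.CharBasic
import Cfsg.Agent.Lib.CharBasic2
import Cfsg.Agent.Lib.CharInd
import Cfsg.Agent.Lib.CharClifford
import Cfsg.Agent.Lib.CharCoh
import Cfsg.Agent.Lib.CharCoh2
import Cfsg.Agent.Lib.CharCoh3
import Cfsg.Agent.Lib.CharCoh4
import Cfsg.Agent.Lib.CharCoh5
import Cfsg.Agent.Lib.CharCoh6
import Cfsg.Agent.Lib.CharCoh7
import Cfsg.Agent.Lib.FrobQuot
import Cfsg.Agent.Lib.FrobQuot2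
import Cfsg.Agent.S1487

/-!
# Coherence by degree levels, characters nontrivial on a central subgroup
-/

set_option autoImplicit false
set_option linter.style.haveILetI false

open scoped ComplexConjugate commutatorElement

namespace CfsgLib.CharCoh

open Cfsg CfsgLib.CharBasic CfsgLib.CharInd CfsgLib.CharClifford CfsgLib.FrobQuot

universe u v

/-- squares of degrees of the characters of a quotient -/
theorem sum_irr_quot {G : Type u} [Group G] [Finite G] (N : Subgroup G) [N.Normal] [DecidablePred fun χ : IrrCharacter G => ∀ n ∈ N, (χ : G → ℂ) n = (χ : G → ℂ) 1] :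
    ∑ χ ∈ Finset.univ.filter (fun χ : IrrCharacter G => ∀ n ∈ N, (χ : G → ℂ) n = (χ : G → ℂ) 1), (χ : G → ℂ) 1 ^ 2 = (N.index : ℂ) := by
  classical
  have h1 := sum_irr_one_sq (G ⧸ N)
  have h2 : ∑ χ : {χ : IrrCharacter G // ∀ n ∈ N, (χ : G → ℂ) n = (χ : G → ℂ) 1}, ((χ : IrrCharacter G) : G → ℂ) 1 ^ 2 = (N.index : ℂ) := by
    rw [← Equiv.sum_comp (irrQuotientEquiv N)]
    have h3 : (Nat.card (G ⧸ N) : ℂ) = (N.index : ℂ) := by rw [Subgroup.index]
    rw [← h3, ← h1]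
    apply Finset.sum_congr rfl
    intro ψ _
    rw [irrQuotientEquiv_apply]
    rfl
  rw [← h2, ← Finset.sum_subtype_eq_sum_filter]
  apply Finset.sum_congr
  · ext x; simp
  · intro _ _; rfl

theorem sum_irr_not_quot {G : Type u} [Group G] [Finite G] (N : Subgroup G) [N.Normal] [DecidablePred fun χ : IrrCharacter G => ∃ n ∈ N, (χ : G → ℂ) n ≠ (χ : G → ℂ) 1] :
    ∑ χ ∈ Finset.univ.filter (fun χ : IrrCharacter G => ∃ n ∈ N, (χ : G → ℂ) n ≠ (χ : G → ℂ) 1), (χ : G → ℂ) 1 ^ 2 = (Nat.card G : ℂ) - (N.index : ℂ) := by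
  classical
  rw [← sum_irr_quot N, ← sum_irr_one_sq G, eq_sub_iff_add_eq, add_comm]
  rw [← Finset.sum_filter_add_sum_filter_not Finset.univ (fun χ : IrrCharacter G => ∀ n ∈ N, (χ : G → ℂ) n = (χ : G → ℂ) 1)]
  congr 1
  apply Finset.sum_congr _ fun _ _ => rfl
  ext χ
  simp

/-- a nontrivial normal subgroup is not in the kernel of all irreducible characters -/
theorem exists_irr_not_trivial {G : Type u} [Group G] [Finite G] {Z : Subgroup G} (hZ : Z ≠ ⊥) : ∃ χ : IrrCharacter G, ∃ z ∈ Z, (χ : G → ℂ) z ≠ (χ : G → ℂ) 1 := by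
  obtain ⟨⟨z, hz⟩, hz1'⟩ := Subgroup.ne_bot_iff_exists_ne_one.mp hZ
  have hz1 : z ≠ 1 := fun h => hz1' (Subtype.ext h)
  by_contra hno
  push Not at hno
  have h1 := (isConj_iff_forall_irr z 1).mpr fun χ => hno χ z hz
  exact hz1 (isConj_one_left.mp h1)

section levels

variable {L : Type u} [Group L] [Fintype L] {G : Type v} [Group G] [Fintype G] {X : Set (L → ℂ)} {τ : (L → ℂ) → (G → ℂ)} {R : (L → ℂ) → Finset (G → ℂ)}

/-- coherence by degree levels -/
theorem sys_levels (hS : IsCoherenceSystem X τ R) (d n : (L → ℂ) → ℕ) (hd : ∀ φ ∈ X, φ 1 = (d φ : ℂ)) (hn : ∀ φ ∈ X, classInner φ φ = (n φ : ℂ))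
    (F : Finset (L → ℂ)) (hF : ∀ φ, φ ∈ F ↔ φ ∈ X) (χ₁ : L → ℂ) (hχ₁ : χ₁ ∈ X) (hmin : ∀ φ ∈ X, d χ₁ ≤ d φ) (hdvd : ∀ φ ∈ X, d χ₁ ∣ d φ)
    (h : ∀ χ ∈ X, d χ₁ < d χ → (2 * d χ * d χ₁ : ℝ) < ∑ φ ∈ F.filter (fun φ => d φ < d χ), ((d φ : ℝ) ^ 2 / (n φ : ℝ))) :
    IsCoherent X {1}ᶜ τ := by
  classical
  have hdc : ∀ φ ∈ X, d (conjFun φ) = d φ := by
    intro φ hφ
    have h1 := hd _ (hS.conj_mem φ hφ)
    rw [conjFun_one (hS.isCharacter φ hφ), hd φ hφ] at h1
    exact_mod_cast h1.symm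
  have hFX : ((F : Finset (L → ℂ)) : Set (L → ℂ)) = X := by ext φ; rw [Finset.mem_coe, hF]
  have key : ∀ N, d χ₁ ≤ N → IsCoherent (((F.filter (fun φ => d φ ≤ N) : Finset (L → ℂ))) : Set (L → ℂ)) {1}ᶜ τ := by
    intro N hN
    induction N, hN using Nat.le_induction with
    | base =>
      have hsub : ((F.filter (fun φ => d φ ≤ d χ₁) : Finset (L → ℂ)) : Set (L → ℂ)) ⊆ X := by
        intro φ hφ
        rw [Finset.mem_coe, Finset.mem_filter] at hφ
        exact (hF φ).mp hφ.1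
      have hdeg : ∀ φ ∈ ((F.filter (fun φ => d φ ≤ d χ₁) : Finset (L → ℂ)) : Set (L → ℂ)), φ 1 = (d χ₁ : ℂ) := by
        intro φ hφ
        have h1 := hsub hφ
        rw [Finset.mem_coe, Finset.mem_filter] at hφ
        rw [hd φ h1, le_antisymm hφ.2 (hmin φ h1)]
      refine sys_seven (sys_restrict hS hsub ⟨χ₁, ?_⟩ ?_) fun φ hφ ψ hψ => by rw [hdeg φ hφ, hdeg ψ hψ]
      · rw [Finset.mem_coe, Finset.mem_filter]
        exact ⟨(hF _).mpr hχ₁, le_rfl⟩
      · intro φ hφ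
        have h1 := hsub hφ
        rw [Finset.mem_coe, Finset.mem_filter] at hφ ⊢
        exact ⟨(hF _).mpr (hS.conj_mem φ h1), by rw [hdc φ h1]; exact hφ.2⟩
    | succ N hN ih =>
      have hmemF : ∀ M φ, φ ∈ F.filter (fun φ => d φ ≤ M) ↔ φ ∈ X ∧ d φ ≤ M := fun M φ => by rw [Finset.mem_filter, hF]
      obtain ⟨S₂, g1, g2, g3, g4, g5⟩ := sys_grow hS d n hd hn χ₁ (F.filter (fun φ => d φ = N + 1)) (∑ φ ∈ F.filter (fun φ => d φ ≤ N), ((d φ : ℝ) ^ 2 / (n φ : ℝ)))
        (fun ψ hψ => (hF ψ).mp (Finset.mem_filter.mp hψ).1) (fun ψ hψ => hdvd ψ ((hF ψ).mp (Finset.mem_filter.mp hψ).1))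
        (fun ψ hψ => by
          obtain ⟨h1, h2⟩ := Finset.mem_filter.mp hψ
          have h3 := h ψ ((hF ψ).mp h1) (by omega)
          have h4 : F.filter (fun φ => d φ < d ψ) = F.filter (fun φ => d φ ≤ N) := by
            apply Finset.filter_congr; intro φ _; rw [h2]; exact Nat.lt_succ_iff
          rw [h4] at h3
          exact h3)
        (F.filter (fun φ => d φ ≤ N))
        (by intro φ hφ; exact ((hmemF N φ).mp hφ).1)
        (fun φ hφ => by
          have h1 := (hmemF N φ).mp hφ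
          exact (hmemF N _).mpr ⟨hS.conj_mem φ h1.1, by rw [hdc φ h1.1]; exact h1.2⟩)
        ih ((hmemF N _).mpr ⟨hχ₁, hN⟩) le_rfl
      refine coherent_subset (F := (S₂ : Set (L → ℂ))) ?_ g5 ?_
      · intro φ hφ
        rw [Finset.mem_coe, hmemF] at hφ
        rcases Nat.lt_or_ge N (d φ) with h1 | h1
        · exact g2 (Finset.mem_filter.mpr ⟨(hF φ).mpr hφ.1, by omega⟩)
        · exact g1 ((hmemF N φ).mpr ⟨hφ.1, h1⟩)
      · refine sys_exists_ne hS (χ := χ₁) (fun φ hφ => ((hmemF _ φ).mp hφ).1) ((hmemF _ _).mpr ⟨hχ₁, by omega⟩)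
          ((hmemF _ _).mpr ⟨hS.conj_mem _ hχ₁, by rw [hdc _ hχ₁]; omega⟩)
  have h1 := key (∑ φ ∈ F, d φ + d χ₁) (Nat.le_add_left _ _)
  have h2 : F.filter (fun φ => d φ ≤ ∑ φ ∈ F, d φ + d χ₁) = F := by
    apply Finset.filter_true_of_mem
    intro φ hφ
    exact (Finset.single_le_sum (fun _ _ => Nat.zero_le _) hφ).trans (Nat.le_add_right _ _)
  rw [h2, hFX] at h1
  exact h1

end levels

section central

variable {L : Type u} [Group L] [Fintype L]

theorem not_above_iff {K Z : Subgroup L} [K.Normal] [Z.Normal] (hZK : Z ≤ K) {θ : K → ℂ} (hθ : IsIrrCharacter K θ) :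
    indFun K θ ∈ inducedIrrAbove K Z ↔ θ ≠ (fun _ => 1) ∧ ∀ a : K, (a : L) ∈ Z → θ a = θ 1 := by
  haveI : Fintype K := Fintype.ofFinite K
  constructor
  · rintro ⟨θ', h1, h2, h3, h4⟩
    have h5 : classInner (indFun K θ) (indFun K θ') ≠ 0 := by rw [h4]; exact inner_ind_ind_ne_zero h1
    rw [Ne, inner_ind_ind_eq_zero_iff hθ h1] at h5
    push Not at h5
    obtain ⟨g, hg⟩ := h5
    have h6 : θ = conjFn g⁻¹ θ' := conjFn_eq_iff.mp hg
    refine ⟨?_, ?_⟩
    · rintro rfl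
      apply h2
      rw [← hg]
      funext k; rw [conjFn_apply]
    · intro a ha
      rw [h6, conjFn_apply, conjFn_apply_one]
      exact h3 _ (Subgroup.Normal.conj_mem inferInstance _ ha _)
  · rintro ⟨h1, h2⟩
    exact ⟨θ, hθ, h1, h2, rfl⟩

/-- the members of `S` outside `S(Z)` -/
theorem diff_above_eq {K Z : Subgroup L} [K.Normal] [Z.Normal] (hZK : Z ≤ K)
    (hirr : ∀ χ ∈ inducedIrrAbove K ⊥ \ inducedIrrAbove K Z, IsIrrCharacter L χ) :
    inducedIrrAbove K ⊥ \ inducedIrrAbove K Z = {χ | IsIrrCharacter L χ ∧ ∃ z ∈ Z, χ z ≠ χ 1} := by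
  haveI : Fintype K := Fintype.ofFinite K
  ext χ
  constructor
  · intro hχ
    refine ⟨hirr χ hχ, ?_⟩
    obtain ⟨⟨θ, h1, h2, h3, rfl⟩, hn⟩ := hχ
    by_contra hno
    push Not at hno
    apply hn
    refine ⟨θ, h1, h2, ?_, rfl⟩
    exact (Cfsg.Agent.S1487.result Z K hZK θ h1).mpr hno
  · rintro ⟨hχ, z, hz, hzne⟩
    have hχc := IsIrrCharacter.isCharacter hχ
    have hres := IsCharacter.restrict hχc K
    have hne : (fun k : K => χ k) ≠ 0 := fun h => IsIrrCharacter.one_ne_zero hχ (congrFun h 1)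
    obtain ⟨θ, hθ⟩ := exists_constituent hres hne
    have hfrob := frobenius K (θ : K → ℂ) (IsCharacter.isClassFunction hχc)
    -- θ is nontrivial on Z
    have hθZ : ¬ ∀ a : K, (a : L) ∈ Z → (θ : K → ℂ) a = (θ : K → ℂ) 1 := by
      intro hall
      apply hzne
      have h1 := (Cfsg.Agent.S1487.result Z K hZK (θ : K → ℂ) θ.2).mp hall
      -- χ is a constituent of the induced character
      have hclif := clifford hχ θ.2 hθ
      have hz' := congrFun hclif ⟨z, hZK hz⟩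
      have h1' := congrFun hclif 1
      simp only [Pi.smul_apply, Finset.sum_apply, smul_eq_mul, Subgroup.coe_one] at hz' h1'
      rw [hz', h1']
      congr 1
      apply Finset.sum_congr rfl
      intro ψ hψ
      obtain ⟨g, hg⟩ := mem_orb.mp hψ
      rw [← hg, conjFn_apply, conjFn_apply_one]
      exact hall _ (Subgroup.Normal.conj_mem inferInstance _ hz g)
    have hθ1 : (θ : K → ℂ) ≠ fun _ => 1 := by
      intro h
      apply hθZ
      intro a _
      rw [h]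
    have hmem : indFun K (θ : K → ℂ) ∈ inducedIrrAbove K ⊥ \ inducedIrrAbove K Z := by
      refine ⟨⟨θ, θ.2, hθ1, fun a ha => ?_, rfl⟩, fun h => hθZ ((not_above_iff hZK θ.2).mp h).2⟩
      rw [Subgroup.mem_bot] at ha
      have : a = 1 := Subtype.ext ha
      rw [this]
    have hirr' := hirr _ hmem
    have : χ = indFun K (θ : K → ℂ) := by
      by_contra hne'
      have h1 := IsIrrCharacter.inner_eq_zero hirr' hχ (Ne.symm hne')
      rw [hfrob] at h1
      apply hθ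
      rw [← classInner_conj_symm, h1, map_zero]
    rw [this]
    exact hmem

end central

end CfsgLib.CharCoh
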