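import Mathlib
import Cfsg.Prelude.Def_Characters
import Cfsg.Prelude.Def_OddOrderChar
import Cfsg.Agent.Lib.CharBasic
import Cfsg.Agent.Lib.CharBasic2
import Cfsg.Agent.Lib.CharInd
import Cfsg.Agent.Lib.CharClifford
import Cfsg.Agent.Lib.CharTI
import Cfsg.Agent.Lib.CharCoh
import Cfsg.Agent.Lib.CharCoh2
import Cfsg.Agent.Lib.CharCoh3
import Cfsg.Agent.Lib.CharCoh5

/-!
# Coherence of sets of irreducible characters, by degree levels
-/

set_option autoImplicit false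
set_option linter.style.haveILetI false

open scoped ComplexConjugate

namespace CfsgLib.CharCoh

open Cfsg CfsgLib.CharBasic CfsgLib.CharInd CfsgLib.CharClifford

universe u v

section irr

variable {N : Type u} [Group N] [Fintype N] {G : Type v} [Group G] [Fintype G]

/-- adding one irreducible character to a coherent set -/
theorem irr_extend (S₀ : Finset (N → ℂ)) (χ : N → ℂ) (hirr : ∀ ξ ∈ S₀, IsIrrCharacter N ξ) (hχ : IsIrrCharacter N χ) (hχS : χ ∉ S₀) (d : (N → ℂ) → ℕ)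
    (hd : ∀ ξ ∈ insert χ S₀, ξ 1 = (d ξ : ℂ)) (τ : (N → ℂ) → (G → ℂ)) (hτ : IsLinearIsometryOn (zspanOn (↑(insert χ S₀) : Set (N → ℂ)) {1}ᶜ) τ)
    (hτ1 : ∀ α ∈ zspanOn (↑(insert χ S₀) : Set (N → ℂ)) {1}ᶜ, τ α 1 = 0) (hcoh : IsCoherent (↑S₀ : Set (N → ℂ)) {1}ᶜ τ) (ψ : N → ℂ) (hψ : ψ ∈ S₀)
    (hdvd : d ψ ∣ d χ) (hlt : 2 * d ψ * d χ < ∑ ξ ∈ S₀, d ξ ^ 2) : IsCoherent (↑(insert χ S₀) : Set (N → ℂ)) {1}ᶜ τ := by
  classical
  obtain ⟨⟨α₀, hα₀, hα₀'⟩, τ₁, hτ₁, hagree⟩ := hcoh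
  obtain ⟨S', hS'⟩ : ∃ S' : Finset (N → ℂ), S' = insert χ S₀ := ⟨_, rfl⟩
  rw [← hS'] at hτ hτ1 hd ⊢
  have hSS : ∀ φ ∈ S₀, φ ∈ S' := fun φ hφ => by rw [hS']; exact Finset.mem_insert_of_mem hφ
  have hχS' : χ ∈ S' := by rw [hS']; exact Finset.mem_insert_self _ _
  have hirr' : ∀ φ ∈ S', IsIrrCharacter N φ := by
    intro φ hφ
    rw [hS', Finset.mem_insert] at hφ
    rcases hφ with rfl | h
    · exact hχ
    · exact hirr φ h
  have horth : ∀ φ ∈ S', ∀ ξ ∈ S', φ ≠ ξ → classInner φ ξ = 0 := fun φ hφ ξ hξ h => IsIrrCharacter.inner_eq_zero (hirr' φ hφ) (hirr' ξ hξ) h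
  have hself : ∀ φ ∈ S', classInner φ φ = 1 := fun φ hφ => IsIrrCharacter.inner_self (hirr' φ hφ)
  have hdpos : ∀ φ ∈ S', (0 : ℝ) < d φ := by
    intro φ hφ
    obtain ⟨m, hm, hm'⟩ := IsIrrCharacter.exists_pos (hirr' φ hφ)
    rw [hd φ hφ] at hm'
    have : d φ = m := by exact_mod_cast hm'
    rw [this]; exact_mod_cast hm
  have hmono : zspanOn (S₀ : Set (N → ℂ)) {1}ᶜ ⊆ zspanOn (S' : Set (N → ℂ)) {1}ᶜ := zspanOn_mono (fun φ hφ => hSS φ hφ)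
  have hz1 : ∀ φ ∈ S₀, φ ∈ zspan (S₀ : Set (N → ℂ)) := fun φ hφ => mem_zspan_of_mem (Finset.mem_coe.mpr hφ)
  have hχφ : ∀ φ ∈ S₀, φ ≠ χ := fun φ hφ h => hχS (h ▸ hφ)
  have ho1 : ∀ φ ∈ S₀, classInner φ χ = 0 := fun φ hφ => horth φ (hSS φ hφ) χ hχS' (hχφ φ hφ)
  obtain ⟨a, ha⟩ := hdvd
  have hψS' := hSS ψ hψ
  have hdS' : ∀ φ ∈ (S' : Set (N → ℂ)), φ 1 = (d φ : ℂ) := fun φ hφ => hd φ hφ
  have hdS₀ : ∀ φ ∈ (S₀ : Set (N → ℂ)), φ 1 = (d φ : ℂ) := fun φ hφ => hd φ (hSS φ hφ)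
  have hβ : χ - (a : ℂ) • ψ ∈ zspanOn (S' : Set (N → ℂ)) {1}ᶜ := by
    rw [mem_zspanOn_one]
    constructor
    · have h2 : (a : ℂ) • ψ = (a : ℤ) • ψ := by rw [zsmul_eq]; simp
      rw [h2]
      exact zspan_sub (mem_zspan_of_mem hχS') (zspan_zsmul _ (mem_zspan_of_mem hψS'))
    · simp only [Pi.sub_apply, Pi.smul_apply, smul_eq_mul]
      rw [hd χ hχS', hd ψ hψS', ha]; push_cast; ring
  obtain ⟨V, hV⟩ : ∃ V : G → ℂ, V = τ (χ - (a : ℂ) • ψ) := ⟨_, rfl⟩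
  have hVgen : IsGeneralizedCharacter G V := by rw [hV]; exact hτ.2.2.2 _ hβ
  have hVV : classInner V V = 1 + (a : ℂ) ^ 2 := by
    rw [hV, hτ.2.2.1 _ hβ _ hβ, classInner_sub_left, classInner_sub_right, classInner_sub_right, classInner_smul_left, classInner_smul_right,
      classInner_smul_left, classInner_smul_right, ho1 ψ hψ, symm_zero (ho1 ψ hψ), hself χ hχS', hself ψ hψS']
    simp only [map_natCast]
    ring
  have hy : ∀ φ, ∃ m : ℤ, φ ∈ S₀ → classInner V (τ₁ φ) = (m : ℂ) := by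
    intro φ
    by_cases hφ : φ ∈ S₀
    · obtain ⟨m, hm⟩ := IsGeneralizedCharacter.inner_int hVgen (hτ₁.2.2.2 φ (hz1 φ hφ))
      exact ⟨m, fun _ => hm⟩
    · exact ⟨0, fun h => absurd h hφ⟩
  choose y hy using hy
  have hsubτ : ∀ φ ∈ S₀, τ ((d φ : ℂ) • ψ - (d ψ : ℂ) • φ) = (d φ : ℂ) • τ₁ ψ - (d ψ : ℂ) • τ₁ φ := by
    intro φ hφ
    have hm := sub_smul_mem d hdS₀ (Finset.mem_coe.mpr hψ) (Finset.mem_coe.mpr hφ)
    rw [← hagree _ hm]
    have i1 : (d φ : ℂ) • ψ = (((d φ : ℕ) : ℤ) : ℂ) • ψ := by simp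
    have i2 : (d ψ : ℂ) • φ = (((d ψ : ℕ) : ℤ) : ℂ) • φ := by simp
    rw [i1, i2, iso_sub (isZClosed_zspan _) hτ₁ (by rw [← zsmul_eq]; exact zspan_zsmul _ (hz1 _ hψ)) (by rw [← zsmul_eq]; exact zspan_zsmul _ (hz1 _ hφ)),
      iso_smul hτ₁ (hz1 _ hψ), iso_smul hτ₁ (hz1 _ hφ)]
    simp
  obtain ⟨D, hD⟩ : ∃ D : ℤ, D = y ψ + a := ⟨_, rfl⟩
  have hrelZ : ∀ φ ∈ S₀, (d ψ : ℤ) * y φ = d φ * D - (if φ = ψ then (a : ℤ) * d ψ else 0) := by
    intro φ hφ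
    have hm := sub_smul_mem d hdS₀ (Finset.mem_coe.mpr hψ) (Finset.mem_coe.mpr hφ)
    have h1 := hτ.2.2.1 _ hβ _ (hmono hm)
    rw [hsubτ φ hφ, ← hV, classInner_sub_right, classInner_smul_right, classInner_smul_right, hy _ hψ, hy _ hφ, classInner_sub_left, classInner_sub_right,
      classInner_sub_right, classInner_smul_left, classInner_smul_left, classInner_smul_right, classInner_smul_right, classInner_smul_right,
      classInner_smul_right, symm_zero (ho1 ψ hψ), symm_zero (ho1 φ hφ), hself ψ hψS'] at h1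
    have h2 : classInner ψ φ = if φ = ψ then (1 : ℂ) else 0 := by
      split_ifs with h
      · rw [h, hself ψ hψS']
      · exact horth _ hψS' _ (hSS φ hφ) (Ne.symm h)
    rw [h2] at h1
    simp only [map_natCast] at h1
    have : ((((d ψ : ℤ) * y φ : ℤ)) : ℂ) = ((d φ * D - (if φ = ψ then (a : ℤ) * d ψ else 0) : ℤ) : ℂ) := by
      rw [hD]
      split_ifs with h
      · rw [if_pos h] at h1
        push_cast
        linear_combination -h1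
      · rw [if_neg h] at h1
        push_cast
        linear_combination -h1
    exact_mod_cast this
  have hd1 := hdpos ψ hψS'
  have hyφ : ∀ φ ∈ S₀, (y φ : ℝ) = (d φ : ℝ) * D / d ψ - (if φ = ψ then (a : ℝ) else 0) := by
    intro φ hφ
    have h2 : (d ψ : ℝ) * y φ = d φ * D - (if φ = ψ then (a : ℝ) * d ψ else 0) := by
      have := hrelZ φ hφ
      have h3 : (((d ψ : ℤ) * y φ : ℤ) : ℝ) = ((d φ * D - (if φ = ψ then (a : ℤ) * d ψ else 0) : ℤ) : ℝ) := by rw [this]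
      push_cast at h3
      split_ifs at h3 ⊢ <;> simpa using h3
    have : (y φ : ℝ) = (d φ * D - (if φ = ψ then (a : ℝ) * d ψ else 0)) / d ψ := by
      rw [eq_div_iff hd1.ne', mul_comm]; exact h2
    rw [this]
    split_ifs
    · field_simp
    · field_simp; ring
  obtain ⟨b1, b2⟩ := bessel S₀ (fun φ => τ₁ φ) (fun φ => 1) (fun φ hφ => one_pos) (fun φ hφ ξ hξ => by
    rw [hτ₁.2.2.1 _ (hz1 φ hφ) _ (hz1 ξ hξ)]
    split_ifs with h
    · subst h; rw [hself φ (hSS φ hφ)]; simp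
    · exact horth _ (hSS φ hφ) _ (hSS ξ hξ) h) V (fun φ => (y φ : ℝ)) (fun φ hφ => by rw [hy φ hφ]; simp)
  have hVre : (classInner V V).re = 1 + (a : ℝ) ^ 2 := by
    rw [hVV, show (1 + (a : ℂ) ^ 2) = ((1 + (a : ℝ) ^ 2 : ℝ) : ℂ) by push_cast; ring, Complex.ofReal_re]
  rw [hVre] at b1 b2
  simp only [div_one] at b1 b2
  obtain ⟨Sg, hSg⟩ : ∃ Sg : ℕ, Sg = ∑ ξ ∈ S₀, d ξ ^ 2 := ⟨_, rfl⟩
  rw [← hSg] at hlt
  have hBsum : ∑ φ ∈ S₀, (y φ : ℝ) ^ 2 = (Sg : ℝ) * ((D : ℝ) ^ 2 / (d ψ : ℝ) ^ 2) - 2 * a * D + (a : ℝ) ^ 2 := by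
    have h1 : ∀ φ ∈ S₀, (y φ : ℝ) ^ 2 = (d φ : ℝ) ^ 2 * ((D : ℝ) ^ 2 / (d ψ : ℝ) ^ 2) + (if φ = ψ then -2 * a * (D : ℝ) + (a : ℝ) ^ 2 else 0) := by
      intro φ hφ
      rw [hyφ φ hφ]
      split_ifs with h
      · subst h
        field_simp
        ring
      · field_simp
        ring
    rw [Finset.sum_congr rfl h1, Finset.sum_add_distrib, ← Finset.sum_mul, Finset.sum_ite_eq' S₀ ψ, if_pos hψ, hSg]
    push_cast
    ring
  have hadχ : (d χ : ℝ) = d ψ * a := by rw [ha]; push_cast; ring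
  have hdχ := hdpos χ hχS'
  have ha0 : 0 < a := by
    rcases Nat.eq_zero_or_pos a with h | h
    · rw [hadχ, h] at hdχ; simp at hdχ
    · exact h
  have ha1 : (1 : ℝ) ≤ a := by exact_mod_cast ha0
  have hltR : (2 * d ψ * d χ : ℝ) < Sg := by exact_mod_cast hlt
  have hmain : (Sg : ℝ) * (D : ℝ) ^ 2 ≤ (d ψ : ℝ) ^ 2 + 2 * D * (d ψ * d χ) := by
    have h1 : (Sg : ℝ) * ((D : ℝ) ^ 2 / (d ψ : ℝ) ^ 2) - 2 * a * D - 1 ≤ 0 := by linarith
    have h2 : ((Sg : ℝ) * ((D : ℝ) ^ 2 / (d ψ : ℝ) ^ 2) - 2 * a * D - 1) * (d ψ : ℝ) ^ 2 ≤ 0 := by nlinarith [sq_nonneg (d ψ : ℝ)]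
    have e : ((Sg : ℝ) * ((D : ℝ) ^ 2 / (d ψ : ℝ) ^ 2) - 2 * a * D - 1) * (d ψ : ℝ) ^ 2 = (Sg : ℝ) * (D : ℝ) ^ 2 - 2 * D * (d ψ * d χ) - (d ψ : ℝ) ^ 2 := by
      rw [hadχ]; field_simp
    linarith
  have hψχ : (d ψ : ℝ) ^ 2 ≤ d ψ * d χ := by rw [hadχ]; nlinarith [sq_nonneg (d ψ : ℝ), hd1]
  have hP : 0 < (d ψ : ℝ) * d χ := by positivity
  -- D = 1 impossible
  have hD1 : D ≠ 1 := by
    intro h
    have hq : ∑ φ ∈ S₀, (y φ : ℝ) ^ 2 = (Sg : ℝ) / (d ψ : ℝ) ^ 2 - 2 * a + (a : ℝ) ^ 2 := by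
      rw [hBsum, h]; push_cast; ring
    have hgt : (2 * a : ℝ) < (Sg : ℝ) / (d ψ : ℝ) ^ 2 := by
      rw [lt_div_iff₀ (by positivity)]
      calc (2 * a * (d ψ : ℝ) ^ 2 : ℝ) = 2 * d ψ * d χ := by rw [hadχ]; ring
        _ < Sg := hltR
    have hint : ((∑ φ ∈ S₀, y φ ^ 2 : ℤ) : ℝ) = (Sg : ℝ) / (d ψ : ℝ) ^ 2 - 2 * a + (a : ℝ) ^ 2 := by rw [← hq]; push_cast; rfl
    have hlow : (a : ℤ) ^ 2 < ∑ φ ∈ S₀, y φ ^ 2 := by
      have : ((a : ℤ) ^ 2 : ℝ) < ((∑ φ ∈ S₀, y φ ^ 2 : ℤ) : ℝ) := by rw [hint]; push_cast; linarith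
      exact_mod_cast this
    have hge : 1 + (a : ℝ) ^ 2 ≤ ∑ φ ∈ S₀, (y φ : ℝ) ^ 2 := by
      have : 1 + (a : ℤ) ^ 2 ≤ ∑ φ ∈ S₀, y φ ^ 2 := by omega
      exact_mod_cast this
    have hVe := b2 hge
    have hV1 : V 1 = 0 := by rw [hV]; exact hτ1 _ hβ
    have hdeg1 : ∀ φ ∈ S₀, (d ψ : ℂ) * τ₁ φ 1 = d φ * τ₁ ψ 1 := by
      intro φ hφ
      have h1 := hτ1 _ (hmono (sub_smul_mem d hdS₀ (Finset.mem_coe.mpr hψ) (Finset.mem_coe.mpr hφ)))
      rw [hsubτ φ hφ] at h1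
      simp only [Pi.sub_apply, Pi.smul_apply, smul_eq_mul] at h1
      linear_combination -h1
    have hψ1 : τ₁ ψ 1 ≠ 0 := by
      have h1 : classInner (τ₁ ψ) (τ₁ ψ) = 1 := by rw [hτ₁.2.2.1 _ (hz1 ψ hψ) _ (hz1 ψ hψ), hself ψ hψS']
      rcases IsGeneralizedCharacter.irr_or_neg (hτ₁.2.2.2 _ (hz1 ψ hψ)) h1 with h2 | h2
      · exact IsIrrCharacter.one_ne_zero h2
      · have := IsIrrCharacter.one_ne_zero h2
        intro h3; apply this; simp [h3]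
    have hs : (∑ φ ∈ S₀, (y φ : ℂ) * d φ) * τ₁ ψ 1 = 0 := by
      have h1 := congrFun hVe 1
      rw [hV1] at h1
      simp only [Finset.sum_apply, Pi.smul_apply, smul_eq_mul] at h1
      rw [Finset.sum_mul]
      have h2 : (d ψ : ℂ) * 0 = ∑ φ ∈ S₀, (d ψ : ℂ) * ((((y φ : ℝ) : ℝ) : ℂ) * τ₁ φ 1) := by
        rw [h1, Finset.mul_sum]
      rw [mul_zero] at h2
      rw [h2]
      apply Finset.sum_congr rfl
      intro φ hφ
      push_cast
      linear_combination -(y φ : ℂ) * hdeg1 φ hφ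
    have hs' : ∑ φ ∈ S₀, (y φ : ℂ) * d φ = 0 := (mul_eq_zero.mp hs).resolve_right hψ1
    have hs2 : ∑ φ ∈ S₀, y φ * (d φ : ℤ) = 0 := by
      have : ((∑ φ ∈ S₀, y φ * (d φ : ℤ) : ℤ) : ℂ) = 0 := by push_cast; exact hs'
      exact_mod_cast this
    have hs3 : (d ψ : ℤ) * ∑ φ ∈ S₀, y φ * (d φ : ℤ) = Sg - d ψ * d χ := by
      rw [Finset.mul_sum]
      have : ∀ φ ∈ S₀, (d ψ : ℤ) * (y φ * (d φ : ℤ)) = (d φ : ℤ) ^ 2 - (if φ = ψ then (a : ℤ) * d ψ * d ψ else 0) := by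
        intro φ hφ
        have h1 := hrelZ φ hφ
        rw [h] at h1
        split_ifs at h1 ⊢ with h2
        · subst h2; linear_combination (d φ : ℤ) * h1
        · linear_combination (d φ : ℤ) * h1
      rw [Finset.sum_congr rfl this, Finset.sum_sub_distrib, Finset.sum_ite_eq' S₀ ψ, if_pos hψ, hSg, ha]
      push_cast
      ring
    rw [hs2, mul_zero] at hs3
    have hs4 : (Sg : ℝ) = d ψ * d χ := by
      have : (Sg : ℤ) = d ψ * d χ := by linarith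
      exact_mod_cast this
    nlinarith
  have hD0 : D = 0 := by
    by_contra hD0
    rcases lt_or_gt_of_ne hD0 with h | h
    · have h1 : (D : ℝ) ≤ -1 := by exact_mod_cast Int.le_sub_one_of_lt h
      have h2 : 0 ≤ (Sg : ℝ) * (D : ℝ) ^ 2 := by positivity
      nlinarith
    · have h1 : (2 : ℝ) ≤ D := by
        have : 2 ≤ D := by omega
        exact_mod_cast this
      have h2 : (2 * d ψ * d χ : ℝ) * (D : ℝ) ^ 2 ≤ (Sg : ℝ) * (D : ℝ) ^ 2 := mul_le_mul_of_nonneg_right hltR.le (sq_nonneg _)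
      have h3 : 0 ≤ (D : ℝ) * (D - 1) - 2 := by nlinarith
      nlinarith [mul_nonneg hP.le h3]
  have hyψ : y ψ = -a := by omega
  have hy0 : ∀ φ ∈ S₀, φ ≠ ψ → y φ = 0 := by
    intro φ hφ hne
    have h1 := hrelZ φ hφ
    rw [hD0, if_neg hne, mul_zero, sub_zero] at h1
    rcases mul_eq_zero.mp h1 with h2 | h2
    · have : (d ψ : ℝ) = 0 := by exact_mod_cast h2
      exact absurd this hd1.ne'
    · exact h2
  obtain ⟨Z, hZ⟩ : ∃ Z : G → ℂ, Z = V + (a : ℂ) • τ₁ ψ := ⟨_, rfl⟩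
  have hτ₁gen : ∀ φ ∈ S₀, IsGeneralizedCharacter G (τ₁ φ) := fun φ hφ => hτ₁.2.2.2 _ (hz1 φ hφ)
  have hZgen : IsGeneralizedCharacter G Z := by
    rw [hZ]
    apply IsGeneralizedCharacter.add hVgen
    have := IsGeneralizedCharacter.zsmul (hτ₁gen ψ hψ) (a : ℤ)
    simpa using this
  have hττ : classInner (τ₁ ψ) (τ₁ ψ) = 1 := by rw [hτ₁.2.2.1 _ (hz1 ψ hψ) _ (hz1 ψ hψ), hself ψ hψS']
  have hVψ : classInner V (τ₁ ψ) = -(a : ℂ) := by rw [hy ψ hψ, hyψ]; simp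
  have hψV : classInner (τ₁ ψ) V = -(a : ℂ) := by rw [gen_inner_comm (hτ₁gen ψ hψ) hVgen, hVψ]
  have hZZ : classInner Z Z = 1 := by
    rw [hZ, classInner_add_left, classInner_add_right, classInner_add_right, classInner_smul_left, classInner_smul_right, classInner_smul_left,
      classInner_smul_right, hVV, hVψ, hψV, hττ]
    simp only [map_natCast]
    ring
  have hZφ : ∀ φ ∈ S₀, classInner Z (τ₁ φ) = 0 := by
    intro φ hφ
    rw [hZ, classInner_add_left, classInner_smul_left, hy φ hφ]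
    by_cases h : φ = ψ
    · rw [h, hyψ, hττ]; push_cast; ring
    · rw [hy0 φ hφ h, hτ₁.2.2.1 _ (hz1 ψ hψ) _ (hz1 φ hφ), horth _ hψS' _ (hSS φ hφ) (Ne.symm h)]
      simp
  obtain ⟨T, hT⟩ : ∃ T : (N → ℂ) → (G → ℂ), T = fun φ => if φ = χ then Z else τ₁ φ := ⟨_, rfl⟩
  have hTχ : T χ = Z := by rw [hT]; simp
  have hTφ : ∀ φ ∈ S₀, T φ = τ₁ φ := fun φ hφ => by rw [hT]; simp [hχφ φ hφ]
  have hcase : ∀ P : (N → ℂ) → Prop, P χ → (∀ φ ∈ S₀, P φ) → ∀ φ ∈ S', P φ := by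
    intro P p1 p3 φ hφ
    rw [hS', Finset.mem_insert] at hφ
    rcases hφ with rfl | h
    · exact p1
    · exact p3 φ h
  refine isCoherent_of_base (T := T) horth (fun φ hφ => by rw [hself φ hφ]; exact one_ne_zero) hτ (fun φ => (d φ : ℤ)) (fun φ hφ => by rw [hd φ hφ]; simp)
    (χ₁ := ψ) hψS' ?_ ?_ ?_ ?_ ⟨α₀, hmono hα₀, hα₀'⟩
  · have := hd1.ne'
    exact_mod_cast this
  · apply hcase
    · rw [hTχ]; exact hZgen
    · intro φ hφ; rw [hTφ φ hφ]; exact hτ₁gen φ hφ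
  · apply hcase
    · apply hcase
      · rw [hTχ, hZZ, hself χ hχS']
      · intro φ hφ
        rw [hTχ, hTφ φ hφ, hZφ φ hφ, symm_zero (ho1 φ hφ)]
    · intro φ hφ
      apply hcase
      · rw [hTχ, hTφ φ hφ, symm_zero (hZφ φ hφ), ho1 φ hφ]
      · intro ξ hξ
        rw [hTφ φ hφ, hTφ ξ hξ, hτ₁.2.2.1 _ (hz1 φ hφ) _ (hz1 ξ hξ)]
  · apply hcase
    · have hβ1 : (((d ψ : ℕ) : ℤ) : ℂ) • χ - (((d χ : ℕ) : ℤ) : ℂ) • ψ = (((d ψ : ℕ) : ℤ) : ℂ) • (χ - (a : ℂ) • ψ) := by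
        rw [ha]; push_cast; rw [smul_sub, smul_smul]
      rw [hβ1, iso_smul hτ hβ, hTχ, hTφ ψ hψ, ← hV, hZ, ha, smul_add, smul_smul]
      push_cast
      ring
    · intro φ hφ
      have h1 := hsubτ φ hφ
      have hm := sub_smul_mem d hdS₀ (Finset.mem_coe.mpr hψ) (Finset.mem_coe.mpr hφ)
      have e : (((d ψ : ℕ) : ℤ) : ℂ) • φ - (((d φ : ℕ) : ℤ) : ℂ) • ψ = -((d φ : ℂ) • ψ - (d ψ : ℂ) • φ) := by
        push_cast; ring
      rw [e, iso_neg hτ (hmono hm), h1, hTφ φ hφ, hTφ ψ hψ]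
      push_cast; ring

/-- a set of irreducible characters of the same degree -/
theorem irr_base (S₀ : Finset (N → ℂ)) (hirr : ∀ ξ ∈ S₀, IsIrrCharacter N ξ) (hdeg : ∀ ξ ∈ S₀, ∀ η ∈ S₀, ξ 1 = η 1) (τ : (N → ℂ) → (G → ℂ))
    (hτ : IsLinearIsometryOn (zspanOn (↑S₀ : Set (N → ℂ)) {1}ᶜ) τ) (hτ1 : ∀ α ∈ zspanOn (↑S₀ : Set (N → ℂ)) {1}ᶜ, τ α 1 = 0) (htwo : 2 ≤ S₀.card) :
    IsCoherent (↑S₀ : Set (N → ℂ)) {1}ᶜ τ := by
  classical
  obtain ⟨χ₁, hχ₁, χ₂, hχ₂, hne⟩ := Finset.one_lt_card.mp htwo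
  have horth : ∀ φ ∈ S₀, ∀ ξ ∈ S₀, φ ≠ ξ → classInner φ ξ = 0 := fun φ hφ ξ hξ h => IsIrrCharacter.inner_eq_zero (hirr φ hφ) (hirr ξ hξ) h
  have hself : ∀ φ ∈ S₀, classInner φ φ = 1 := fun φ hφ => IsIrrCharacter.inner_self (hirr φ hφ)
  have hm : ∀ φ ∈ S₀, ∀ ψ ∈ S₀, φ - ψ ∈ zspanOn (S₀ : Set (N → ℂ)) {1}ᶜ := fun φ hφ ψ hψ => by
    rw [mem_zspanOn_one]
    exact ⟨zspan_sub (mem_zspan_of_mem hφ) (mem_zspan_of_mem hψ), by rw [Pi.sub_apply, hdeg φ hφ ψ hψ, sub_self]⟩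
  have hE := isZClosed_zspanOn (S₀ : Set (N → ℂ)) ({1}ᶜ : Set N)
  obtain ⟨ε, hε, μ, hμ, hτμ⟩ := CfsgLib.CharTI.isometry_family (G := G) (ι := {φ // φ ∈ S₀}) ⟨χ₁, hχ₁⟩ (fun φ => τ (φ - χ₁))
    (by show τ (χ₁ - χ₁) = 0; rw [sub_self]; exact iso_zero hE hτ) (fun φ => hτ.2.2.2 _ (hm _ φ.2 _ hχ₁)) (fun φ => hτ1 _ (hm _ φ.2 _ hχ₁))
    (fun φ hφ => by
      have hne' : (φ : N → ℂ) ≠ χ₁ := fun h => hφ (Subtype.ext h)
      rw [hτ.2.2.1 _ (hm _ φ.2 _ hχ₁) _ (hm _ φ.2 _ hχ₁), classInner_sub_left, classInner_sub_right, classInner_sub_right, hself _ φ.2, hself _ hχ₁,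
        horth _ φ.2 _ hχ₁ hne', horth _ hχ₁ _ φ.2 hne'.symm]
      ring)
    (fun φ ψ hφ hψ hφψ => by
      have hne1 : (φ : N → ℂ) ≠ χ₁ := fun h => hφ (Subtype.ext h)
      have hne2 : (ψ : N → ℂ) ≠ χ₁ := fun h => hψ (Subtype.ext h)
      have hne3 : (φ : N → ℂ) ≠ ψ := fun h => hφψ (Subtype.ext h)
      rw [hτ.2.2.1 _ (hm _ φ.2 _ hχ₁) _ (hm _ ψ.2 _ hχ₁), classInner_sub_left, classInner_sub_right, classInner_sub_right, hself _ hχ₁,
        horth _ φ.2 _ hχ₁ hne1, horth _ hχ₁ _ ψ.2 hne2.symm, horth _ φ.2 _ ψ.2 hne3]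
      ring)
  have hε2 : ε * conj ε = 1 := by rcases hε with rfl | rfl <;> simp
  obtain ⟨m, hm0, hm1⟩ := IsIrrCharacter.exists_pos (hirr χ₁ hχ₁)
  obtain ⟨T, hT⟩ : ∃ T : (N → ℂ) → (G → ℂ), T = fun φ => if h : φ ∈ S₀ then ε • ((μ ⟨φ, h⟩ : IrrCharacter G) : G → ℂ) else 0 := ⟨_, rfl⟩
  have hTφ : ∀ (φ : N → ℂ) (h : φ ∈ S₀), T φ = ε • ((μ ⟨φ, h⟩ : IrrCharacter G) : G → ℂ) := fun φ h => by rw [hT]; simp [h]
  refine isCoherent_of_base (T := T) horth (fun φ hφ => by rw [hself φ hφ]; exact one_ne_zero) hτ (fun _ => (m : ℤ)) (fun φ hφ => by rw [hdeg φ hφ χ₁ hχ₁, hm1]; simp)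
    (χ₁ := χ₁) hχ₁ (by exact_mod_cast hm0.ne') ?_ ?_ ?_ ?_
  · intro φ hφ
    rw [hTφ φ hφ]
    rcases hε with rfl | rfl
    · rw [one_smul]; exact IsIrrCharacter.isGeneralized (μ _).2
    · rw [neg_one_smul]; exact IsGeneralizedCharacter.neg (IsIrrCharacter.isGeneralized (μ _).2)
  · intro φ hφ ψ hψ
    rw [hTφ φ hφ, hTφ ψ hψ, classInner_smul_left, classInner_smul_right, ← mul_assoc, hε2, one_mul, irr_inner, IsIrrCharacter.inner (hirr φ hφ) (hirr ψ hψ)]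
    by_cases h : φ = ψ
    · subst h; rw [if_pos rfl, if_pos rfl]
    · rw [if_neg h, if_neg]
      intro h'
      exact h (congrArg Subtype.val (hμ h'))
  · intro φ hφ
    have h1 := hτμ ⟨φ, hφ⟩
    rw [hTφ φ hφ, hTφ χ₁ hχ₁, ← smul_sub, ← smul_sub, ← smul_sub, iso_smul hτ (hm _ hφ _ hχ₁), h1]
  · exact ⟨χ₁ - χ₂, hm _ hχ₁ _ hχ₂, fun h => hne (sub_eq_zero.mp h)⟩

/-- coherence of a set of irreducible characters by degree levels -/
theorem irr_levels (F : Finset (N → ℂ)) (hirr : ∀ ξ ∈ F, IsIrrCharacter N ξ) (d : (N → ℂ) → ℕ) (hd : ∀ ξ ∈ F, ξ 1 = (d ξ : ℂ)) (τ : (N → ℂ) → (G → ℂ))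
    (hτ : IsLinearIsometryOn (zspanOn (↑F : Set (N → ℂ)) {1}ᶜ) τ) (hτ1 : ∀ α ∈ zspanOn (↑F : Set (N → ℂ)) {1}ᶜ, τ α 1 = 0) (htwo : 2 ≤ F.card)
    (χ₁ : N → ℂ) (hχ₁ : χ₁ ∈ F) (hmin : ∀ φ ∈ F, d χ₁ ≤ d φ) (hdvd : ∀ φ ∈ F, d χ₁ ∣ d φ)
    (h : ∀ χ ∈ F, d χ₁ < d χ → 2 * d χ₁ * d χ < ∑ φ ∈ F.filter (fun φ => d φ < d χ), d φ ^ 2) : IsCoherent (↑F : Set (N → ℂ)) {1}ᶜ τ := by
  classical
  have hmemF : ∀ M φ, φ ∈ F.filter (fun φ => d φ ≤ M) ↔ φ ∈ F ∧ d φ ≤ M := fun M φ => Finset.mem_filter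
  have hd1 : 0 < d χ₁ := by
    obtain ⟨m, hm, hm'⟩ := IsIrrCharacter.exists_pos (hirr χ₁ hχ₁)
    rw [hd χ₁ hχ₁] at hm'
    have : d χ₁ = m := by exact_mod_cast hm'
    omega
  -- adding a whole level
  have hadd : ∀ (T S₀ : Finset (N → ℂ)), T ⊆ F → S₀ ⊆ F → χ₁ ∈ S₀ → IsCoherent (↑S₀ : Set (N → ℂ)) {1}ᶜ τ → ∀ B : ℕ, B ≤ ∑ φ ∈ S₀, d φ ^ 2 →
      (∀ ψ ∈ T, 2 * d χ₁ * d ψ < B) → IsCoherent (↑(S₀ ∪ T) : Set (N → ℂ)) {1}ᶜ τ := by
    intro T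
    induction T using Finset.induction_on with
    | empty => intro S₀ _ _ _ h3 _ _ _; rw [Finset.union_empty]; exact h3
    | insert ψ T hψ ih =>
      intro S₀ hTF hSF hχS hcoh B hB hlt
      have hψF : ψ ∈ F := hTF (Finset.mem_insert_self _ _)
      have hTF' : T ⊆ F := fun x hx => hTF (Finset.mem_insert_of_mem hx)
      by_cases hm : ψ ∈ S₀
      · have : S₀ ∪ insert ψ T = S₀ ∪ T := by
          ext x; simp only [Finset.mem_union, Finset.mem_insert]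
          constructor
          · rintro (h1 | rfl | h1)
            · left; exact h1
            · left; exact hm
            · right; exact h1
          · rintro (h1 | h1)
            · left; exact h1
            · right; right; exact h1
        rw [this]
        exact ih S₀ hTF' hSF hχS hcoh B hB fun φ hφ => hlt φ (Finset.mem_insert_of_mem hφ)
      · have hins : insert ψ S₀ ⊆ F := by
          intro x hx; rw [Finset.mem_insert] at hx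
          rcases hx with rfl | hx
          · exact hψF
          · exact hSF hx
        have h1 := irr_extend S₀ ψ (fun ξ hξ => hirr ξ (hSF hξ)) (hirr ψ hψF) hm d (fun ξ hξ => hd ξ (hins hξ)) τ
          (iso_mono hτ (zspanOn_mono (by exact_mod_cast hins))) (fun α hα => hτ1 α (zspanOn_mono (by exact_mod_cast hins) hα)) hcoh χ₁ hχS (hdvd ψ hψF)
          (lt_of_lt_of_le (hlt ψ (Finset.mem_insert_self _ _)) hB)
        have h2 := ih (insert ψ S₀) hTF' hins (Finset.mem_insert_of_mem hχS) h1 B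
          (hB.trans (Finset.sum_le_sum_of_subset (Finset.subset_insert _ _))) fun φ hφ => hlt φ (Finset.mem_insert_of_mem hφ)
        have : S₀ ∪ insert ψ T = insert ψ S₀ ∪ T := by
          rw [Finset.union_insert, Finset.insert_union]
        rw [this]; exact h2
  have key : ∀ M, d χ₁ ≤ M → 2 ≤ (F.filter (fun φ => d φ ≤ M)).card → IsCoherent (((F.filter (fun φ => d φ ≤ M) : Finset (N → ℂ))) : Set (N → ℂ)) {1}ᶜ τ := by
    intro M hM
    induction M, hM using Nat.le_induction with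
    | base =>
      intro hcard
      have hsub : F.filter (fun φ => d φ ≤ d χ₁) ⊆ F := Finset.filter_subset _ _
      have hdeg : ∀ φ ∈ F.filter (fun φ => d φ ≤ d χ₁), φ 1 = (d χ₁ : ℂ) := by
        intro φ hφ
        obtain ⟨h1, h2⟩ := (hmemF _ φ).mp hφ
        rw [hd φ h1, le_antisymm h2 (hmin φ h1)]
      exact irr_base _ (fun ξ hξ => hirr ξ (hsub hξ)) (fun φ hφ ψ hψ => by rw [hdeg φ hφ, hdeg ψ hψ]) τ
        (iso_mono hτ (zspanOn_mono (by exact_mod_cast hsub))) (fun α hα => hτ1 α (zspanOn_mono (by exact_mod_cast hsub) hα)) hcard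
    | succ M hM ih =>
      intro hcard
      by_cases hT : ∃ ψ ∈ F, d ψ = M + 1
      · obtain ⟨ψ, hψ, hψd⟩ := hT
        have hlt : ∀ ψ ∈ F.filter (fun φ => d φ = M + 1), 2 * d χ₁ * d ψ < ∑ φ ∈ F.filter (fun φ => d φ ≤ M), d φ ^ 2 := by
          intro ψ hψ
          obtain ⟨h1, h2⟩ := Finset.mem_filter.mp hψ
          have h3 := h ψ h1 (by omega)
          have h4 : F.filter (fun φ => d φ < d ψ) = F.filter (fun φ => d φ ≤ M) := by
            apply Finset.filter_congr; intro φ _; rw [h2]; exact Nat.lt_succ_iff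
          rw [h4] at h3
          exact h3
        have hcard' : 2 ≤ (F.filter (fun φ => d φ ≤ M)).card := by
          by_contra hc
          have h1 : F.filter (fun φ => d φ ≤ M) = {χ₁} := by
            have h2 : χ₁ ∈ F.filter (fun φ => d φ ≤ M) := (hmemF _ _).mpr ⟨hχ₁, hM⟩
            apply (Finset.eq_singleton_iff_unique_mem).mpr
            refine ⟨h2, fun x hx => ?_⟩
            by_contra hne
            exact hc (Finset.one_lt_card.mpr ⟨x, hx, χ₁, h2, hne⟩)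
          have h2 := hlt ψ (Finset.mem_filter.mpr ⟨hψ, hψd⟩)
          rw [h1, Finset.sum_singleton] at h2
          have h3 : d χ₁ ≤ d ψ := by omega
          nlinarith
        have h1 := hadd (F.filter (fun φ => d φ = M + 1)) (F.filter (fun φ => d φ ≤ M)) (Finset.filter_subset _ _) (Finset.filter_subset _ _)
          ((hmemF _ _).mpr ⟨hχ₁, hM⟩) (ih hcard') _ le_rfl hlt
        have h2 : F.filter (fun φ => d φ ≤ M) ∪ F.filter (fun φ => d φ = M + 1) = F.filter (fun φ => d φ ≤ M + 1) := by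
          ext φ
          rw [Finset.mem_union, Finset.mem_filter, Finset.mem_filter, Finset.mem_filter]
          constructor
          · rintro (⟨a, b⟩ | ⟨a, b⟩)
            · exact ⟨a, by omega⟩
            · exact ⟨a, by omega⟩
          · rintro ⟨a, b⟩
            rcases Nat.lt_or_ge M (d φ) with h | h
            · right; exact ⟨a, by omega⟩
            · left; exact ⟨a, h⟩
        rw [h2] at h1
        exact h1
      · push Not at hT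
        have h2 : F.filter (fun φ => d φ ≤ M + 1) = F.filter (fun φ => d φ ≤ M) := by
          apply Finset.filter_congr
          intro φ hφ
          have := hT φ hφ
          omega
        rw [h2] at hcard ⊢
        exact ih hcard
  have h2 : F.filter (fun φ => d φ ≤ ∑ φ ∈ F, d φ + d χ₁) = F := by
    apply Finset.filter_true_of_mem
    intro φ hφ
    exact (Finset.single_le_sum (fun _ _ => Nat.zero_le _) hφ).trans (Nat.le_add_right _ _)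
  have h1 := key (∑ φ ∈ F, d φ + d χ₁) (Nat.le_add_left _ _) (by rw [h2]; exact htwo)
  rw [h2] at h1
  exact h1

end irr

end CfsgLib.CharCoh
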