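import Mathlib
import Cfsg.Agent.Lib.FrobQuot
import Cfsg.Agent.Lib.CharCoh6

/-!
# The group theory behind Peterfalvi (6.4)
-/

set_option autoImplicit false
set_option linter.style.haveILetI false

open scoped commutatorElement

namespace CfsgLib.FrobQuot

open CfsgLib.CharCoh

universe u

variable {L : Type u} [Group L]

theorem index_commutator_quotient [Finite L] (K M : Subgroup L) (hMK : M ≤ K) [(M.subgroupOf K).Normal] :
    (commutator (K ⧸ M.subgroupOf K)).index = (⁅K, K⁆ ⊔ M).relIndex K := by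
  have hKK : ⁅K, K⁆ ≤ K := Subgroup.commutator_le_self K
  have h1 : (⁅K, K⁆ ⊔ M).subgroupOf K = commutator K ⊔ M.subgroupOf K := by
    rw [Subgroup.subgroupOf_sup hKK hMK]
    congr 1
    rw [← Subgroup.map_subtype_commutator]
    exact Subgroup.comap_map_eq_self_of_injective K.subtype_injective _
  have h2 : ((⁅K, K⁆ ⊔ M).subgroupOf K).map (QuotientGroup.mk' (M.subgroupOf K)) = commutator (K ⧸ M.subgroupOf K) := by
    rw [h1, Subgroup.map_sup, QuotientGroup.map_mk'_self, sup_bot_eq, commutator_def, commutator_def, Subgroup.map_commutator,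
      Subgroup.map_top_of_surjective _ (QuotientGroup.mk'_surjective _)]
  rw [← h2, Subgroup.relIndex]
  apply Subgroup.index_map_eq
  · exact QuotientGroup.mk'_surjective _
  · rw [QuotientGroup.ker_mk', h1]; exact le_sup_right

/-- a nilpotent quotient whose abelianization has prime order is abelian -/
theorem commutator_le_of_prime [Finite L] {K M : Subgroup L} [K.Normal] [M.Normal] (hMK : M ≤ K) (hn : ∃ n, K.lowerCentralSeries n ≤ M)
    {p : ℕ} (hp : p.Prime) (hj : (⁅K, K⁆ ⊔ M).relIndex K = p) : ⁅K, K⁆ ≤ M := by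
  classical
  by_contra hno
  have hKK : ⁅K, K⁆ ≤ K := Subgroup.commutator_le_self K
  obtain ⟨H₁, hH₁⟩ : ∃ H₁ : Subgroup L, H₁ = ⁅K, K⁆ ⊔ M := ⟨_, rfl⟩
  have hH₁n : H₁.Normal := by rw [hH₁]; infer_instance
  have hH₁K : H₁ ≤ K := by rw [hH₁]; exact sup_le hKK hMK
  have hMH₁ : M < H₁ := by
    refine lt_of_le_of_ne (by rw [hH₁]; exact le_sup_right) fun h => hno ?_
    rw [h, hH₁]; exact le_sup_left
  have hlt := commutator_sup_lt hn hMH₁ hH₁K
  obtain ⟨B, hB⟩ : ∃ B : Subgroup L, B = ⁅H₁, K⁆ ⊔ M := ⟨_, rfl⟩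
  have hBn : B.Normal := by rw [hB]; infer_instance
  rw [← hB] at hlt
  rw [← hH₁] at hj
  -- cyclic quotient
  haveI : (H₁.subgroupOf K).Normal := inferInstance
  haveI := Fact.mk hp
  have hcyc : IsCyclic (K ⧸ H₁.subgroupOf K) := isCyclic_of_prime_card (p := p) (by
    rw [← hj, Subgroup.relIndex, Subgroup.index])
  obtain ⟨g, hg⟩ := hcyc.exists_generator
  obtain ⟨g, rfl⟩ := QuotientGroup.mk_surjective g
  have hrep : ∀ x ∈ K, ∃ h ∈ H₁, ∃ n : ℤ, x = h * (g : L) ^ n := by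
    intro x hx
    obtain ⟨n, hn⟩ := Subgroup.mem_zpowers_iff.mp (hg ((⟨x, hx⟩ : K) : K ⧸ H₁.subgroupOf K))
    refine ⟨x * ((g : L) ^ n)⁻¹, ?_, n, by group⟩
    rw [← QuotientGroup.mk_zpow] at hn
    have h2 := QuotientGroup.eq.mp hn.symm
    -- x⁻¹ g^n ∈ H₁
    rw [Subgroup.mem_subgroupOf] at h2
    have h3 : x⁻¹ * (g : L) ^ n ∈ H₁ := by simpa using h2
    have h4 := hH₁n.conj_mem _ (inv_mem h3) x
    have e : x * (x⁻¹ * (g : L) ^ n)⁻¹ * x⁻¹ = x * ((g : L) ^ n)⁻¹ := by group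
    rw [e] at h4
    exact h4
  have hcomm : ∀ h ∈ H₁, ∀ k ∈ K, Commute (h : L ⧸ B) (k : L ⧸ B) := by
    intro h hh k hk
    have h1 : ⁅h, k⁆ ∈ B := by rw [hB]; exact (le_sup_left : ⁅H₁, K⁆ ≤ _) (Subgroup.commutator_mem_commutator hh hk)
    have h2 := (QuotientGroup.eq_one_iff ⁅h, k⁆).mpr h1
    rw [commutatorElement_def, QuotientGroup.mk_mul, QuotientGroup.mk_mul, QuotientGroup.mk_mul, QuotientGroup.mk_inv, QuotientGroup.mk_inv] at h2
    show (h : L ⧸ B) * k = k * h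
    calc (h : L ⧸ B) * k = ((h : L ⧸ B) * k * (h : L ⧸ B)⁻¹ * (k : L ⧸ B)⁻¹) * (k * h) := by group
      _ = k * h := by rw [h2, one_mul]
  have hle : ⁅K, K⁆ ≤ B := by
    rw [Subgroup.commutator_le]
    intro x hx y hy
    obtain ⟨h, hh, n, rfl⟩ := hrep x hx
    obtain ⟨h', hh', m, rfl⟩ := hrep y hy
    rw [← QuotientGroup.eq_one_iff, commutatorElement_def]
    have hgn : ∀ n : ℤ, (g : L) ^ n ∈ K := fun n => K.zpow_mem g.2 n
    have c1 : Commute (h : L ⧸ B) (h' : L ⧸ B) := hcomm h hh h' (hH₁K hh')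
    have c2 : Commute (h : L ⧸ B) (((g : L) ^ m : L) : L ⧸ B) := hcomm h hh _ (hgn m)
    have c3 : Commute (h' : L ⧸ B) (((g : L) ^ n : L) : L ⧸ B) := hcomm h' hh' _ (hgn n)
    have c4 : Commute ((((g : L) ^ n : L)) : L ⧸ B) (((g : L) ^ m : L) : L ⧸ B) := by
      rw [QuotientGroup.mk_zpow, QuotientGroup.mk_zpow]
      exact (Commute.refl _).zpow_zpow n m
    have c5 : Commute ((h : L ⧸ B) * (((g : L) ^ n : L) : L ⧸ B)) ((h' : L ⧸ B) * (((g : L) ^ m : L) : L ⧸ B)) :=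
      (c1.mul_right c2).mul_left (c3.symm.mul_right c4)
    rw [QuotientGroup.mk_mul, QuotientGroup.mk_mul, QuotientGroup.mk_mul, QuotientGroup.mk_inv, QuotientGroup.mk_inv, QuotientGroup.mk_mul, QuotientGroup.mk_mul]
    rw [c5.eq]; group
  have : H₁ ≤ B := by
    nth_rewrite 1 [hH₁]
    exact sup_le hle (by rw [hB]; exact le_sup_right)
  exact absurd this (not_le_of_gt hlt)

theorem odd_dvd_le {e n : ℕ} (he : Odd e) (hn : Odd n) (hn1 : n ≠ 1) (h : e ∣ n - 1) : 2 * e + 1 ≤ n := by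
  obtain ⟨c, hc⟩ := h
  obtain ⟨k, hk⟩ := hn
  have h1 : e * c = 2 * k := by omega
  have h2 : 2 ∣ c := by
    have : 2 ∣ e * c := ⟨k, h1⟩
    rcases (Nat.Prime.dvd_mul Nat.prime_two).mp this with h | h
    · obtain ⟨a, ha⟩ := he; omega
    · exact h
  obtain ⟨c', hc'⟩ := h2
  have hc0 : c' ≠ 0 := by rintro rfl; subst hc'; omega
  have : e * 2 ≤ e * c := by rw [hc']; exact Nat.mul_le_mul_left _ (by omega)
  omega

/-- an intermediate normal subgroup makes the index large -/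
theorem big_of_intermediate [Finite L] {K H₁ N : Subgroup L} [K.Normal] [H₁.Normal] [N.Normal] (hodd : Odd (Nat.card L)) (hKL : K < ⊤)
    (hfrob : ∀ k ∈ K, k ∉ H₁ → ∀ x : L, x * k * x⁻¹ * k⁻¹ ∈ H₁ → x ∈ K) (h1 : H₁ < N) (h2 : N < K) :
    4 * K.index ^ 2 + 1 < H₁.relIndex K := by
  have hoddd : ∀ n : ℕ, n ∣ Nat.card L → Odd n := fun n hn => Odd.of_dvd_nat hodd hn
  have hKodd : Odd K.index := hoddd _ (Subgroup.index_dvd_card K)
  have hrel : ∀ A B : Subgroup L, A ≤ B → A.relIndex B ∣ Nat.card L := by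
    intro A B hAB
    exact (Subgroup.index_dvd_card (A.subgroupOf B)).trans (Subgroup.card_subgroup_dvd_card B)
  have hne : ∀ A B : Subgroup L, A < B → A.relIndex B ≠ 1 := by
    intro A B hAB h
    rw [Subgroup.relIndex_eq_one] at h
    exact absurd h (not_le_of_gt hAB)
  have hNodd := hoddd _ (hrel H₁ N h1.le)
  have hKNodd := hoddd _ (hrel N K h2.le)
  have d1 := index_dvd_relIndex_sub_one H₁ K N hfrob h2.le
  have d2 := index_dvd_relIndex_sub_one H₁ K K hfrob le_rfl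
  have hmul := Subgroup.relIndex_mul_relIndex H₁ N K h1.le h2.le
  have hx := odd_dvd_le hKodd hNodd (hne _ _ h1) d1
  have d3 : K.index ∣ N.relIndex K - 1 := by
    have hNpos : 1 ≤ H₁.relIndex N := by omega
    have hKpos : 1 ≤ N.relIndex K := Nat.one_le_iff_ne_zero.mpr (relIndex_ne_zero' _ _)
    -- xy - 1 = (x-1) y + (y-1)
    have e : H₁.relIndex K - 1 = (H₁.relIndex N - 1) * N.relIndex K + (N.relIndex K - 1) := by
      rw [← hmul, Nat.sub_mul, one_mul]
      have : N.relIndex K ≤ H₁.relIndex N * N.relIndex K := Nat.le_mul_of_pos_left _ hNpos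
      omega
    rw [e] at d2
    exact (Nat.dvd_add_right (Dvd.dvd.mul_right d1 _)).mp d2
  have hy := odd_dvd_le hKodd hKNodd (hne _ _ h2) d3
  rw [← hmul]
  have he1 : 1 ≤ K.index := Nat.one_le_iff_ne_zero.mpr Subgroup.index_ne_zero_of_finite
  have := Nat.mul_le_mul hx hy
  nlinarith

/-- two primes give an intermediate normal subgroup -/
theorem exists_intermediate [Finite L] {K H₁ : Subgroup L} [K.Normal] [H₁.Normal] (hH₁K : H₁ ≤ K) (hab : ⁅K, K⁆ ≤ H₁)
    {p q : ℕ} (hp : p.Prime) (hq : q.Prime) (hpq : p ≠ q) (hpd : p ∣ H₁.relIndex K) (hqd : q ∣ H₁.relIndex K) :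
    ∃ N : Subgroup L, N.Normal ∧ H₁ < N ∧ N < K := by
  classical
  haveI := Fact.mk hp
  obtain ⟨f, hf⟩ : ∃ f : L →* L ⧸ H₁, f = QuotientGroup.mk' H₁ := ⟨_, rfl⟩
  have hfs : Function.Surjective f := by rw [hf]; exact QuotientGroup.mk'_surjective H₁
  have hker : f.ker = H₁ := by rw [hf]; exact QuotientGroup.ker_mk' H₁
  obtain ⟨Kb, hKb⟩ : ∃ Kb : Subgroup (L ⧸ H₁), Kb = K.map f := ⟨_, rfl⟩
  have hKbn : Kb.Normal := by rw [hKb]; exact Subgroup.Normal.map inferInstance _ hfs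
  have hcard : Nat.card Kb = H₁.relIndex K := by rw [hKb, hf, relIndex_eq_card_map]
  have hcomm : ∀ a b : Kb, a * b = b * a := by
    intro a b
    apply Subtype.ext
    have ha : (a : L ⧸ H₁) ∈ K.map f := by rw [← hKb]; exact a.2
    have hb : (b : L ⧸ H₁) ∈ K.map f := by rw [← hKb]; exact b.2
    obtain ⟨x, hx, hx'⟩ := ha
    obtain ⟨y, hy, hy'⟩ := hb
    rw [Subgroup.coe_mul, Subgroup.coe_mul, ← hx', ← hy']
    have h1 : f ⁅x, y⁆ = 1 := by
      rw [← MonoidHom.mem_ker, hker]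
      exact hab (Subgroup.commutator_mem_commutator hx hy)
    rw [map_commutatorElement, commutatorElement_eq_one_iff_mul_comm] at h1
    exact h1
  obtain ⟨P⟩ : Nonempty (Sylow p Kb) := inferInstance
  have hPn : (P : Subgroup Kb).Normal := ⟨fun n hn g => by rw [hcomm g n, mul_assoc, mul_inv_cancel, mul_one]; exact hn⟩
  have hPchar : (P : Subgroup Kb).Characteristic := Sylow.characteristic_of_normal P hPn
  obtain ⟨Pb, hPb⟩ : ∃ Pb : Subgroup (L ⧸ H₁), Pb = (P : Subgroup Kb).map Kb.subtype := ⟨_, rfl⟩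
  have hPbn : Pb.Normal := by rw [hPb]; exact ConjAct.normal_of_characteristic_of_normal
  have hPbK : Pb ≤ Kb := by rw [hPb]; exact Subgroup.map_subtype_le _
  have hPcard : Nat.card Pb = Nat.card P := by
    rw [hPb]; exact Nat.card_congr (((P : Subgroup Kb).equivMapOfInjective _ Kb.subtype_injective).toEquiv).symm
  have hmapcomap : (Pb.comap f).map f = Pb := Subgroup.map_comap_eq_self_of_surjective hfs Pb
  refine ⟨Pb.comap f, Subgroup.Normal.comap hPbn f, ?_, ?_⟩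
  · refine lt_of_le_of_ne ?_ ?_
    · exact hker.symm.le.trans (Subgroup.ker_le_comap f Pb)
    · intro h
      have h1 : Pb = ⊥ := by
        rw [← hmapcomap, ← h]
        exact (Subgroup.map_eq_bot_iff _).mpr hker.symm.le
      have h2 : p ∣ Nat.card P := P.dvd_card_of_dvd_card (by rw [hcard]; exact hpd)
      rw [← hPcard, h1, Subgroup.card_bot] at h2
      exact hp.one_lt.ne' (Nat.dvd_one.mp h2)
  · refine lt_of_le_of_ne ?_ ?_
    · have h1 : Pb.comap f ≤ Kb.comap f := Subgroup.comap_mono hPbK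
      have h2 : Kb.comap f = K := by
        rw [hKb, Subgroup.comap_map_eq, hker, sup_eq_left.mpr hH₁K]
      rw [h2] at h1
      exact h1
    · intro h
      have h1 : Pb = Kb := by rw [← hmapcomap, h, hKb]
      have h2 : q ∣ Nat.card Pb := by rw [h1, hcard]; exact hqd
      rw [hPcard] at h2
      obtain ⟨n, hn⟩ := IsPGroup.iff_card.mp P.isPGroup'
      rw [hn] at h2
      exact hpq ((Nat.prime_dvd_prime_iff_eq hq hp).mp (hq.dvd_of_dvd_pow h2)).symm

end CfsgLib.FrobQuot
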