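import Mathlib
import Cfsg.Agent.Lib.H7Basic

/-!
# Frobenius groups, structure: kernel contains the centralizers of its nonidentity elements
-/

set_option autoImplicit false
set_option linter.style.haveILetI false

namespace CfsgLib.FrobStruct

universe u v

variable {G : Type u} [Group G]

/-- a normal subgroup containing the centralizers of its nonidentity elements is a Hall subgroup -/
theorem coprime_index [Finite G] {K : Subgroup G} [hK : K.Normal] (hC : ∀ k ∈ K, k ≠ 1 → Subgroup.centralizer ({k} : Set G) ≤ K) :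
    Nat.Coprime (Nat.card K) K.index := by
  classical
  by_contra hcon
  obtain ⟨p, hp, hpK, hpi⟩ := Nat.Prime.not_coprime_iff_dvd.mp hcon
  haveI : Fact p.Prime := ⟨hp⟩
  obtain ⟨P⟩ : Nonempty (Sylow p G) := inferInstance
  -- P ⊓ K is nontrivial
  have hne : (P : Subgroup G) ⊓ K ≠ ⊥ := by
    intro h
    obtain ⟨k, hk⟩ := exists_prime_orderOf_dvd_card' (G := K) p hpK
    -- k is in some conjugate of P
    have hz : IsPGroup p (Subgroup.zpowers (k : G)) := by
      apply IsPGroup.of_card (n := 1)
      rw [Nat.card_zpowers, Subgroup.orderOf_coe, hk, pow_one]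
    obtain ⟨Q, hQ⟩ := hz.exists_le_sylow
    obtain ⟨g, hg⟩ := MulAction.exists_smul_eq G Q P
    have hkQ : (k : G) ∈ (Q : Subgroup G) := hQ (Subgroup.mem_zpowers _)
    have h1 : g * k * g⁻¹ ∈ (P : Subgroup G) := by
      rw [← hg]
      exact ⟨k, hkQ, by simp⟩
    have h2 : g * k * g⁻¹ ∈ (P : Subgroup G) ⊓ K := Subgroup.mem_inf.mpr ⟨h1, hK.conj_mem _ k.2 g⟩
    rw [h, Subgroup.mem_bot] at h2
    have h3 : (k : G) = 1 := by
      have : (k : G) = g⁻¹ * (g * k * g⁻¹) * g := by group
      rw [this, h2]; group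
    have h4 : orderOf k = 1 := by
      rw [← Subgroup.orderOf_coe, h3, orderOf_one]
    rw [h4] at hk
    exact hp.one_lt.ne hk
  obtain ⟨z, hz, hz1, hPz⟩ := CfsgLib.H7Basic.exists_mem_center_of_normalized (p := p) P.2
    (P.2.to_le inf_le_left) (fun x hx w hw => Subgroup.mem_inf.mpr
      ⟨(P : Subgroup G).mul_mem ((P : Subgroup G).mul_mem hx (Subgroup.mem_inf.mp hw).1) ((P : Subgroup G).inv_mem hx),
        hK.conj_mem _ (Subgroup.mem_inf.mp hw).2 x⟩) hne
  have hPK : (P : Subgroup G) ≤ K := by
    intro x hx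
    apply hC z (Subgroup.mem_inf.mp hz).2 hz1
    rw [Subgroup.mem_centralizer_singleton_iff]
    exact hPz x hx
  have h1 : ¬ p ∣ (P : Subgroup G).index := P.not_dvd_index
  exact h1 (hpi.trans (Subgroup.index_dvd_of_le hPK))

/-- relative version -/
theorem coprime_index_normalizer [Finite G] {K : Subgroup G}
    (hC : ∀ k ∈ K, k ≠ 1 → Subgroup.centralizer ({k} : Set G) ≤ K) :
    Nat.Coprime (Nat.card K) (K.subgroupOf (Subgroup.normalizer (K : Set G))).index := by
  set N := Subgroup.normalizer (K : Set G) with hN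
  have hKN : K ≤ N := Subgroup.le_normalizer
  haveI : (K.subgroupOf N).Normal := Subgroup.normal_in_normalizer
  have h1 := coprime_index (K := K.subgroupOf N) (by
    intro k hk hk1 c hc
    rw [Subgroup.mem_subgroupOf] at hk ⊢
    apply hC k hk (fun h => hk1 (Subtype.ext h))
    rw [Subgroup.mem_centralizer_singleton_iff] at hc ⊢
    exact congrArg Subtype.val hc)
  rwa [Nat.card_congr (Subgroup.subgroupOfEquivOfLe hKN).toEquiv] at h1

/-- elements of `N(K)` outside `K` are not conjugate into `K` -/
theorem not_conj_mem [Finite G] {K : Subgroup G}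
    (hC : ∀ k ∈ K, k ≠ 1 → Subgroup.centralizer ({k} : Set G) ≤ K) {x : G} (hx : x ∈ Subgroup.normalizer (K : Set G)) (hxK : x ∉ K) (g : G) :
    g * x * g⁻¹ ∉ K := by
  intro hg
  set N := Subgroup.normalizer (K : Set G) with hN
  haveI : (K.subgroupOf N).Normal := Subgroup.normal_in_normalizer
  have hcop := coprime_index_normalizer hC
  rw [← hN] at hcop
  have hox : orderOf x ∣ Nat.card K := by
    have h1 := orderOf_dvd_natCard (⟨g * x * g⁻¹, hg⟩ : K)
    rw [← Subgroup.orderOf_coe] at h1
    have h2 : orderOf (g * x * g⁻¹) = orderOf x := by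
      have := orderOf_injective (MulAut.conj g).toMonoidHom (MulAut.conj g).injective x
      simpa using this
    simp only at h1
    rwa [h2] at h1
  -- image in the quotient
  have h3 : (QuotientGroup.mk' (K.subgroupOf N)) ⟨x, hx⟩ ≠ 1 := by
    intro h
    rw [QuotientGroup.mk'_apply, QuotientGroup.eq_one_iff, Subgroup.mem_subgroupOf] at h
    exact hxK h
  apply h3
  rw [← orderOf_eq_one_iff, ← Nat.dvd_one, ← hcop]
  apply Nat.dvd_gcd
  · refine dvd_trans ?_ hox
    have : orderOf (⟨x, hx⟩ : N) = orderOf x := by rw [← Subgroup.orderOf_coe]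
    rw [← this]
    exact orderOf_map_dvd _ _
  · rw [Subgroup.index]
    exact orderOf_dvd_natCard _

end CfsgLib.FrobStruct
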