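import Mathlib
import Cfsg.Prelude.Def_Characters
import Cfsg.Agent.Lib.CharBasic
import Cfsg.Agent.Lib.CharBasic2
import Cfsg.Agent.Lib.CharInd
import Cfsg.Agent.Lib.CharClifford
import Cfsg.Agent.Lib.CharFS

/-!
# Frobenius groups: elementary facts and characters

Two forms: (a) `K ⊓ H = ⊥`, `K ⊔ H = ⊤`, `K` normal, no nontrivial element of `H` commutes with a nontrivial element of `K`;
(b) `K` normal and `K` contains the centralizers of its nontrivial elements.
-/

set_option autoImplicit false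
set_option linter.style.haveILetI false

open scoped ComplexConjugate

namespace CfsgLib.Frobenius7

open Cfsg CfsgLib.CharBasic CfsgLib.CharInd CfsgLib.CharClifford CfsgLib.CharFS

universe u v

variable {G : Type u} [Group G]

section basic

variable {K H : Subgroup G}

/-- an element commuting with no nontrivial element of a normal finite subgroup `K`: all elements of `hK` are `K`-conjugate to `h` -/
theorem exists_conj_of_fpf [Finite G] [hK : K.Normal] {h : G} (hh : ∀ k ∈ K, h * k = k * h → k = 1) {y : G} (hy : y * h⁻¹ ∈ K) :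
    ∃ k ∈ K, y = k * h * k⁻¹ := by
  classical
  let φ : K → K := fun k => ⟨k * h * (k : G)⁻¹ * h⁻¹, by
    have h1 : h * (k : G)⁻¹ * h⁻¹ ∈ K := hK.conj_mem _ (K.inv_mem k.2) h
    have e : (k : G) * h * (k : G)⁻¹ * h⁻¹ = k * (h * (k : G)⁻¹ * h⁻¹) := by group
    rw [e]
    exact K.mul_mem k.2 h1⟩
  have hφ : Function.Injective φ := by
    intro k m hkm
    have h1 : (k : G) * h * (k : G)⁻¹ * h⁻¹ = m * h * (m : G)⁻¹ * h⁻¹ := congrArg Subtype.val hkm
    have h2 : (k : G) * h * (k : G)⁻¹ = m * h * (m : G)⁻¹ := mul_right_cancel h1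
    have h3 : h * ((m : G)⁻¹ * k) = ((m : G)⁻¹ * k) * h := by
      calc h * ((m : G)⁻¹ * k) = (m : G)⁻¹ * (m * h * (m : G)⁻¹) * k := by group
        _ = (m : G)⁻¹ * (k * h * (k : G)⁻¹) * k := by rw [h2]
        _ = ((m : G)⁻¹ * k) * h := by group
    have h4 := hh _ (K.mul_mem (K.inv_mem m.2) k.2) h3
    ext
    exact (inv_mul_eq_one.mp h4).symm
  have hφs : Function.Surjective φ := Finite.surjective_of_injective hφ
  obtain ⟨k, hk⟩ := hφs ⟨y * h⁻¹, hy⟩
  refine ⟨k, k.2, ?_⟩
  have h1 : (k : G) * h * (k : G)⁻¹ * h⁻¹ = y * h⁻¹ := congrArg Subtype.val hk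
  exact (mul_right_cancel h1).symm

/-- elements of `G` outside `K` commute with no nontrivial element of `K` -/
theorem fpf_of_not_mem [Finite G] [hK : K.Normal] (hsup : K ⊔ H = ⊤)
    (hfpf : ∀ h ∈ H, h ≠ 1 → ∀ k ∈ K, h * k = k * h → k = 1) {y : G} (hy : y ∉ K) : ∀ k ∈ K, y * k = k * y → k = 1 := by
  have h1 : y ∈ K ⊔ H := by rw [hsup]; trivial
  rw [Subgroup.mem_sup_of_normal_left] at h1
  obtain ⟨k₁, hk₁, h, hh, rfl⟩ := h1
  have hne : h ≠ 1 := by
    rintro rfl
    exact hy (by simpa using hk₁)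
  obtain ⟨k₂, hk₂, he⟩ := exists_conj_of_fpf (K := K) (hfpf h hh hne) (y := k₁ * h) (by simpa using hk₁)
  intro k hk hc
  rw [he] at hc
  have h2 : h * (k₂⁻¹ * k * k₂) = (k₂⁻¹ * k * k₂) * h := by
    calc h * (k₂⁻¹ * k * k₂) = k₂⁻¹ * (k₂ * h * k₂⁻¹ * k) * k₂ := by group
      _ = k₂⁻¹ * (k * (k₂ * h * k₂⁻¹)) * k₂ := by rw [hc]
      _ = _ := by group
  have h3 := hfpf h hh hne _ (by
    have := hK.conj_mem k hk k₂⁻¹
    rwa [inv_inv] at this) h2
  have h4 : k = k₂ * (k₂⁻¹ * k * k₂) * k₂⁻¹ := by group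
  rw [h4, h3]; group

end basic

section irr

variable {K : Subgroup G}

/-- in a group with a normal subgroup `K` such that `g` commutes with no nontrivial element of `K` and likewise for
all elements of the coset, the trivial character is the only irreducible character of `K` fixed by `g` -/
theorem eq_one_of_conjFn_eq [Finite G] [hK : K.Normal] {g : G} (hg : ∀ k ∈ K, g * k = k * g → k = 1) {θ : K → ℂ}
    (hθ : IsIrrCharacter K θ) (h : conjFn g θ = θ) : θ = fun _ => 1 := by
  classical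
  haveI : Fintype K := Fintype.ofFinite K
  have h1 := permutation_lemma (G := K) (fun k => ⟨g * k * g⁻¹, hK.conj_mem k k.2 g⟩)
    (fun χ => ⟨conjFn g χ.1, isIrr_conjFn χ.2 g⟩) (fun χ k => rfl)
  have h2 : Nat.card {C : ConjClasses K // ∀ k : K, ConjClasses.mk k = C → IsConj (⟨g * k * g⁻¹, hK.conj_mem k k.2 g⟩ : K) k} ≤ 1 := by
    have h3 : ∀ k : K, IsConj (⟨g * k * g⁻¹, hK.conj_mem k k.2 g⟩ : K) k → k = 1 := by
      intro k hk
      obtain ⟨c, hc⟩ := isConj_iff.mp hk
      have hc' : (c : G) * (g * k * g⁻¹) * (c : G)⁻¹ = k := congrArg Subtype.val hc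
      -- c * g commutes with k; c * g is K-conjugate to g
      obtain ⟨k₂, hk₂, he⟩ := exists_conj_of_fpf (K := K) hg (y := c * g) (by simp)
      have h4 : (c * g) * k = k * (c * g) := by
        calc (c : G) * g * k = (c * (g * k * g⁻¹) * (c : G)⁻¹) * (c * g) := by group
          _ = _ := by rw [hc']
      rw [he] at h4
      have h5 : g * (k₂⁻¹ * k * k₂) = (k₂⁻¹ * k * k₂) * g := by
        calc g * (k₂⁻¹ * k * k₂) = k₂⁻¹ * (k₂ * g * k₂⁻¹ * k) * k₂ := by group
          _ = k₂⁻¹ * (k * (k₂ * g * k₂⁻¹)) * k₂ := by rw [h4]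
          _ = _ := by group
      have h6 := hg _ (by
        have := hK.conj_mem k k.2 k₂⁻¹
        rwa [inv_inv] at this) h5
      ext
      have h7 : (k : G) = k₂ * (k₂⁻¹ * k * k₂) * k₂⁻¹ := by group
      rw [h7, h6]; simp
    rw [Finite.card_le_one_iff_subsingleton]
    constructor
    rintro ⟨C, hC⟩ ⟨D, hD⟩
    ext
    simp only
    have hC1 := h3 _ (hC (rep C) (mk_rep C))
    have hD1 := h3 _ (hD (rep D) (mk_rep D))
    rw [← mk_rep C, ← mk_rep D, hC1, hD1]
  rw [← h1, Finite.card_le_one_iff_subsingleton] at h2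
  have h4 := h2.allEq ⟨⟨θ, hθ⟩, Subtype.ext h⟩ ⟨⟨fun _ => 1, isIrr_one'⟩, Subtype.ext (by funext k; rfl)⟩
  exact congrArg (fun x : {χ : IrrCharacter K // (⟨conjFn g χ.1, isIrr_conjFn χ.2 g⟩ : IrrCharacter K) = χ} => x.1.1) h4

/-- a nonprincipal irreducible character of the Frobenius kernel induces irreducibly -/
theorem isIrr_indFun [Fintype G] [hK : K.Normal] (hfix : ∀ g : G, g ∉ K → ∀ k ∈ K, g * k = k * g → k = 1) {θ : K → ℂ}
    (hθ : IsIrrCharacter K θ) (hθ1 : θ ≠ fun _ => 1) : IsIrrCharacter G (indFun K θ) := by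
  classical
  haveI : Fintype K := Fintype.ofFinite K
  have hθc := IsIrrCharacter.isCharacter hθ
  have hθcl := IsCharacter.isClassFunction hθc
  rw [isIrr_iff]
  refine ⟨isCharacter_indFun K hθc, ?_⟩
  rw [inner_ind_ind_irr hθ hθ]
  have h : inertia (G := G) θ = K := by
    apply le_antisymm _ (le_inertia hθcl)
    intro g hg
    by_contra hgK
    exact hθ1 (eq_one_of_conjFn_eq (hfix g hgK) hθ hg)
  have h2 : Nat.card {x : G // conjFn x θ = θ} = Nat.card K :=
    Nat.card_congr (Equiv.subtypeEquivRight (fun x => by rw [← mem_inertia, h]))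
  rw [h2, inv_mul_cancel₀ (card_sub_ne_zero K)]

end irr

end CfsgLib.Frobenius7
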