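import Mathlib
import Cfsg.Prelude.Def_Characters
import Cfsg.Prelude.Def_OddOrderChar
import Cfsg.Agent.Lib.CharBasic
import Cfsg.Agent.Lib.CharBasic2
import Cfsg.Agent.Lib.CharInd
import Cfsg.Agent.Lib.CharClifford
import Cfsg.Agent.Lib.CharCoh
import Cfsg.Agent.Lib.CharCoh2
import Cfsg.Agent.Lib.CharCoh3
import Cfsg.Agent.Lib.CharCoh5
import Cfsg.Agent.Lib.CharCoh6
import Cfsg.Agent.Lib.CharCoh8
import Cfsg.Agent.Lib.CharCoh9
import Cfsg.Agent.Lib.FrobQuot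
import Cfsg.Agent.Lib.FrobQuot2
import Cfsg.Agent.Lib.Frobenius7
import Cfsg.Agent.Lib.FrobStruct
import Cfsg.Agent.Lib.PG

/-!
# Coherence for Frobenius groups
-/

set_option autoImplicit false
set_option linter.style.haveILetI false

open scoped ComplexConjugate commutatorElement

namespace CfsgLib.FrobCoh

open Cfsg CfsgLib.CharBasic CfsgLib.CharInd CfsgLib.CharClifford CfsgLib.CharCoh CfsgLib.FrobQuot

universe u v

section irradd

variable {N : Type u} [Group N] [Fintype N] {G : Type v} [Group G] [Fintype G]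

/-- adding a set of irreducible characters of small degree -/
theorem irr_add (F : Finset (N → ℂ)) (hirr : ∀ ξ ∈ F, IsIrrCharacter N ξ) (d : (N → ℂ) → ℕ) (hd : ∀ ξ ∈ F, ξ 1 = (d ξ : ℂ)) (τ : (N → ℂ) → (G → ℂ))
    (hτ : IsLinearIsometryOn (zspanOn (↑F : Set (N → ℂ)) {1}ᶜ) τ) (hτ1 : ∀ α ∈ zspanOn (↑F : Set (N → ℂ)) {1}ᶜ, τ α 1 = 0)
    (χ₁ : N → ℂ) (hdvd : ∀ φ ∈ F, d χ₁ ∣ d φ) :
    ∀ (T S₀ : Finset (N → ℂ)), T ⊆ F → S₀ ⊆ F → χ₁ ∈ S₀ → IsCoherent (↑S₀ : Set (N → ℂ)) {1}ᶜ τ → ∀ B : ℕ, B ≤ ∑ φ ∈ S₀, d φ ^ 2 →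
      (∀ ψ ∈ T, 2 * d χ₁ * d ψ < B) → ∃ S₂ : Finset (N → ℂ), S₀ ⊆ S₂ ∧ T ⊆ S₂ ∧ S₂ ⊆ F ∧ IsCoherent (↑S₂ : Set (N → ℂ)) {1}ᶜ τ := by
  classical
  intro T
  induction T using Finset.induction_on with
  | empty => intro S₀ _ h2 _ h3 _ _ _; exact ⟨S₀, Finset.Subset.refl _, Finset.empty_subset _, h2, h3⟩
  | insert ψ T hψ ih =>
    intro S₀ hTF hSF hχS hcoh B hB hlt
    have hψF : ψ ∈ F := hTF (Finset.mem_insert_self _ _)
    have hTF' : T ⊆ F := fun x hx => hTF (Finset.mem_insert_of_mem hx)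
    by_cases hm : ψ ∈ S₀
    · obtain ⟨S₂, g1, g2, g3, g4⟩ := ih S₀ hTF' hSF hχS hcoh B hB fun φ hφ => hlt φ (Finset.mem_insert_of_mem hφ)
      refine ⟨S₂, g1, ?_, g3, g4⟩
      intro x hx
      rw [Finset.mem_insert] at hx
      rcases hx with rfl | hx
      · exact g1 hm
      · exact g2 hx
    · have hins : insert ψ S₀ ⊆ F := by
        intro x hx; rw [Finset.mem_insert] at hx
        rcases hx with rfl | hx
        · exact hψF
        · exact hSF hx
      have h1 := irr_extend S₀ ψ (fun ξ hξ => hirr ξ (hSF hξ)) (hirr ψ hψF) hm d (fun ξ hξ => hd ξ (hins hξ)) τ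
        (iso_mono hτ (zspanOn_mono (by exact_mod_cast hins))) (fun α hα => hτ1 α (zspanOn_mono (by exact_mod_cast hins) hα)) hcoh χ₁ hχS (hdvd ψ hψF)
        (lt_of_lt_of_le (hlt ψ (Finset.mem_insert_self _ _)) hB)
      obtain ⟨S₂, g1, g2, g3, g4⟩ := ih (insert ψ S₀) hTF' hins (Finset.mem_insert_of_mem hχS) h1 B
        (hB.trans (Finset.sum_le_sum_of_subset (Finset.subset_insert _ _))) fun φ hφ => hlt φ (Finset.mem_insert_of_mem hφ)
      refine ⟨S₂, (Finset.subset_insert _ _).trans g1, ?_, g3, g4⟩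
      intro x hx
      rw [Finset.mem_insert] at hx
      rcases hx with rfl | hx
      · exact g1 (Finset.mem_insert_self _ _)
      · exact g2 hx

end irradd

section frob

variable {N : Type u} [Group N] [Fintype N] {H : Subgroup N} [H.Normal]

theorem hfix_of_hC (hC : ∀ h ∈ H, h ≠ 1 → Subgroup.centralizer ({h} : Set N) ≤ H) : ∀ g : N, g ∉ H → ∀ k ∈ H, g * k = k * g → k = 1 := by
  intro g hg k hk hgk
  by_contra hk1
  exact hg (hC k hk hk1 (Subgroup.mem_centralizer_iff.mpr fun y hy => by rw [Set.mem_singleton_iff] at hy; rw [hy]; exact hgk.symm))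

omit [Fintype N] in
/-- quotients of Frobenius groups -/
theorem frob_quot [Finite N] (hC : ∀ h ∈ H, h ≠ 1 → Subgroup.centralizer ({h} : Set N) ≤ H) {A : Subgroup N} [A.Normal] (hAH : A ≤ H) :
    ∀ k ∈ H, k ∉ A → ∀ x : N, x * k * x⁻¹ * k⁻¹ ∈ A → x ∈ H := by
  intro k hk hkA x hx
  by_contra hxH
  have hfix : ∀ k ∈ H, x * k = k * x → k = 1 := fun k hk h => by
    by_contra hk1
    exact hxH (hC k hk hk1 (Subgroup.mem_centralizer_iff.mpr fun y hy => by rw [Set.mem_singleton_iff] at hy; rw [hy]; exact h.symm))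
  have hfixA : ∀ a ∈ A, x * a = a * x → a = 1 := fun a ha => hfix a (hAH ha)
  have h1 : (k⁻¹ * x * k) * x⁻¹ ∈ A := by
    have h2 := Subgroup.Normal.conj_mem (inferInstance : A.Normal) _ hx k⁻¹
    have e : k⁻¹ * (x * k * x⁻¹ * k⁻¹) * k⁻¹⁻¹ = (k⁻¹ * x * k) * x⁻¹ := by group
    rw [e] at h2; exact h2
  obtain ⟨a, ha, hax⟩ := CfsgLib.Frobenius7.exists_conj_of_fpf hfixA h1
  have h2 : k * a = 1 := by
    apply hfix _ (mul_mem hk (hAH ha))
    calc x * (k * a) = k * (k⁻¹ * x * k) * a := by group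
      _ = k * (a * x * a⁻¹) * a := by rw [hax]
      _ = k * a * x := by group
  have h3 : k = a⁻¹ := eq_inv_of_mul_eq_one_left h2
  exact hkA (by rw [h3]; exact inv_mem ha)

variable (hC : ∀ h ∈ H, h ≠ 1 → Subgroup.centralizer ({h} : Set N) ≤ H)

include hC

theorem frob_isIrr {A : Subgroup N} {χ : N → ℂ} (h : χ ∈ inducedIrrAbove H A) : IsIrrCharacter N χ := by
  obtain ⟨θ, h1, h2, -, rfl⟩ := h
  exact CfsgLib.Frobenius7.isIrr_indFun (hfix_of_hC hC) h1 h2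

theorem frob_index_dvd {A B : Subgroup N} [A.Normal] [B.Normal] (hAB : A ≤ B) (hBH : B ≤ H) : H.index ∣ A.relIndex B - 1 :=
  index_dvd_relIndex_sub_one A H B (frob_quot hC (hAB.trans hBH)) hBH

theorem frob_sum {A : Subgroup N} [A.Normal] (F : Finset (N → ℂ)) (hF : ∀ φ, φ ∈ F ↔ φ ∈ inducedIrrAbove H A) (d : (N → ℂ) → ℕ)
    (hd : ∀ φ ∈ F, φ 1 = (d φ : ℂ)) : ∑ φ ∈ F, d φ ^ 2 = H.index * (A.relIndex H - 1) := by
  have h1 := sum_above H A F hF d (fun _ => 1) hd (fun φ hφ => by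
    rw [IsIrrCharacter.inner_self (frob_isIrr hC ((hF φ).mp hφ))]; simp)
  have h2 : 1 ≤ A.relIndex H := Nat.one_le_iff_ne_zero.mpr (relIndex_ne_zero' _ _)
  have h3 : ((∑ φ ∈ F, d φ ^ 2 : ℕ) : ℝ) = ((H.index * (A.relIndex H - 1) : ℕ) : ℝ) := by
    rw [Nat.cast_mul, Nat.cast_sub h2, Nat.cast_sum]
    simpa using h1
  exact_mod_cast h3

/-- the set of characters induced from nonprincipal irreducible characters of the kernel -/
theorem frob_set : inducedIrrAbove H ⊥ = {χ : N → ℂ | IsIrrCharacter N χ ∧ ∃ h ∈ H, χ h ≠ χ 1} := by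
  have h1 : inducedIrrAbove H H = (∅ : Set (N → ℂ)) := by
    rw [Set.eq_empty_iff_forall_notMem]
    rintro χ ⟨θ, h1, h2, h3, -⟩
    apply h2
    funext k
    rw [h3 k k.2]
    -- θ is constant, irreducible hence one
    by_contra hne
    have hcl : θ = fun _ => θ 1 := by funext k; exact h3 k k.2
    haveI : Fintype H := Fintype.ofFinite H
    have h4 := IsIrrCharacter.inner_eq_zero h1 (isIrr_one' (G := H)) h2
    rw [hcl] at h4
    have h5 : classInner (fun _ : H => θ 1) (fun _ : H => (1 : ℂ)) = θ 1 := by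
      have : (fun _ : H => θ 1) = (θ 1) • (fun _ : H => (1 : ℂ)) := by funext k; simp
      rw [this, classInner_smul_left, IsIrrCharacter.inner_self isIrr_one', mul_one]
    rw [h5] at h4
    exact IsIrrCharacter.one_ne_zero h1 h4
  have h2 := diff_above_eq (K := H) (Z := H) le_rfl (fun χ hχ => frob_isIrr hC hχ.1)
  rw [h1, Set.sdiff_empty] at h2
  exact h2

end frob

end CfsgLib.FrobCoh
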