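import Mathlib
import Cfsg.Prelude.Def_Characters
import Cfsg.Prelude.Def_OddOrderChar
import Cfsg.Agent.Lib.FrobCoh

/-!
# Feit's theorem on coherence for Frobenius groups with nilpotent kernel
-/

set_option autoImplicit false
set_option linter.style.haveILetI false

open scoped ComplexConjugate commutatorElement

namespace CfsgLib.FrobCoh

open Cfsg CfsgLib.CharBasic CfsgLib.CharInd CfsgLib.CharClifford CfsgLib.CharCoh CfsgLib.FrobQuot

universe u v

theorem prime_dvd_center {Q : Type u} [Group Q] [Finite Q] (hQ : Group.IsNilpotent Q) {p : ℕ} (hp : p.Prime) (hd : p ∣ Nat.card Q) :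
    ∃ z ∈ Subgroup.center Q, orderOf z = p := by
  haveI := Fact.mk hp
  haveI := hQ
  obtain ⟨P⟩ : Nonempty (Sylow p Q) := inferInstance
  have hPn : (P : Subgroup Q).Normal := inferInstance
  have hPne : (P : Subgroup Q) ≠ ⊥ := P.ne_bot_of_dvd_card hd
  have h1 := CfsgLib.PG.inf_center_ne_bot_of_nilpotent hQ (P : Subgroup Q) hPne
  have h2 : IsPGroup p ((P : Subgroup Q) ⊓ Subgroup.center Q : Subgroup Q) := P.isPGroup'.to_le inf_le_left
  haveI : Nontrivial ((P : Subgroup Q) ⊓ Subgroup.center Q : Subgroup Q) := (Subgroup.nontrivial_iff_ne_bot _).mpr h1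
  have h3 : p ∣ Nat.card ((P : Subgroup Q) ⊓ Subgroup.center Q : Subgroup Q) := by
    obtain ⟨n, hn⟩ := IsPGroup.iff_card.mp h2
    rw [hn]
    apply dvd_pow_self
    rintro rfl
    rw [pow_zero] at hn
    have := Finite.one_lt_card (α := ((P : Subgroup Q) ⊓ Subgroup.center Q : Subgroup Q))
    omega
  obtain ⟨x, hx⟩ := exists_prime_orderOf_dvd_card' p h3
  refine ⟨x, (Subgroup.mem_inf.mp x.2).2, ?_⟩
  exact (Subgroup.orderOf_coe x).trans hx

section frob

variable {N : Type u} [Group N] [Fintype N] {G : Type v} [Group G] [Fintype G] {H : Subgroup N} [H.Normal]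

/-- degree bound -/
theorem degree_bound {A B : Subgroup N} [A.Normal] [B.Normal] (hBA : B ≤ A) (hAH : A ≤ H) (hcent : ⁅A, H⁆ ≤ B) {θ : H → ℂ} (hθ : IsIrrCharacter H θ)
    (hB : ∀ a : H, (a : N) ∈ B → θ a = θ 1) {m : ℕ} (hm : θ 1 = m) : m ^ 2 ≤ A.relIndex H := by
  have h1 := Cfsg.Agent.S1492.result θ hθ (B.subgroupOf H) ⊤ (A.subgroupOf H)
    (fun x hx => Subgroup.mem_subgroupOf.mpr (hBA (Subgroup.mem_subgroupOf.mp hx))) le_top
    (fun c _ b hb => by
      rw [Subgroup.mem_subgroupOf] at hb ⊢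
      exact Subgroup.Normal.conj_mem inferInstance _ hb c)
    (fun x hx y _ => by
      rw [Subgroup.mem_subgroupOf] at hx ⊢
      exact hcent (Subgroup.commutator_mem_commutator hx y.2))
    (fun b hb => hB b (Subgroup.mem_subgroupOf.mp hb))
  rw [hm, Complex.norm_natCast, Subgroup.card_top] at h1
  have h2 : m ^ 2 * Nat.card H * Nat.card (A.subgroupOf H) ≤ Nat.card H ^ 2 := by exact_mod_cast h1
  have h3 : Nat.card (A.subgroupOf H) * A.relIndex H = Nat.card H := Subgroup.card_mul_index (A.subgroupOf H)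
  have h4 : m ^ 2 * (Nat.card H * Nat.card (A.subgroupOf H)) ≤ A.relIndex H * (Nat.card H * Nat.card (A.subgroupOf H)) := by
    calc m ^ 2 * (Nat.card H * Nat.card (A.subgroupOf H)) = m ^ 2 * Nat.card H * Nat.card (A.subgroupOf H) := by ring
      _ ≤ Nat.card H ^ 2 := h2
      _ = Nat.card H * Nat.card H := sq _
      _ = A.relIndex H * (Nat.card H * Nat.card (A.subgroupOf H)) := by nth_rewrite 2 [← h3]; ring
  exact Nat.le_of_mul_le_mul_right h4 (Nat.mul_pos Nat.card_pos Nat.card_pos)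

variable (hC : ∀ h ∈ H, h ≠ 1 → Subgroup.centralizer ({h} : Set N) ≤ H)
  {τ : (N → ℂ) → (G → ℂ)} (hτ : IsLinearIsometryOn (zspanOn (inducedIrrAbove H (⊥ : Subgroup N)) {1}ᶜ) τ)
  (hτ1 : ∀ α ∈ zspanOn (inducedIrrAbove H (⊥ : Subgroup N)) {1}ᶜ, τ α 1 = 0)

omit [H.Normal] in
theorem exists_deg (X : Set (N → ℂ)) (hX : ∀ χ ∈ X, IsCharacter N χ) : ∃ d : (N → ℂ) → ℕ, ∀ φ ∈ X, φ 1 = (d φ : ℂ) := by
  classical
  have h1 : ∀ φ : N → ℂ, ∃ m : ℕ, φ ∈ X → φ 1 = m := by
    intro φ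
    by_cases h : φ ∈ X
    · obtain ⟨m, hm⟩ := IsCharacter.exists_nat (hX φ h)
      exact ⟨m, fun _ => hm⟩
    · exact ⟨0, fun h' => absurd h' h⟩
  choose d hd using h1
  exact ⟨d, hd⟩

theorem linear_degree {A : Subgroup N} (hab : ⁅H, H⁆ ≤ A) {φ : N → ℂ} (hφ : φ ∈ inducedIrrAbove H A) : φ 1 = (H.index : ℂ) := by
  obtain ⟨θ, t1, t2, t3, rfl⟩ := hφ
  have hθ1 : θ 1 = 1 := by
    refine (degree_one_iff (⟨θ, t1⟩ : IrrCharacter H)).mpr fun n hn => t3 n (hab ?_)
    rw [← Subgroup.map_subtype_commutator]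
    exact Subgroup.mem_map_of_mem _ hn
  rw [indFun_one, hθ1, mul_one]

include hC in
/-- the number of characters of degree `e` -/
theorem frob_card {A : Subgroup N} [A.Normal] (hab : ⁅H, H⁆ ≤ A) (F : Finset (N → ℂ)) (hF : ∀ φ, φ ∈ F ↔ φ ∈ inducedIrrAbove H A) :
    F.card * H.index = A.relIndex H - 1 := by
  have h1 := frob_sum hC F hF (fun _ => H.index) (fun φ hφ => linear_degree hab ((hF φ).mp hφ))
  rw [Finset.sum_const, smul_eq_mul] at h1
  have h2 : H.index * (F.card * H.index) = H.index * (A.relIndex H - 1) := by rw [← h1]; ring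
  exact Nat.eq_of_mul_eq_mul_left (Nat.pos_of_ne_zero Subgroup.index_ne_zero_of_finite) h2

include hC hτ hτ1

/-- abelian quotients -/
theorem frob_base {A : Subgroup N} [A.Normal] (hab : ⁅H, H⁆ ≤ A) (hlt : A < H) (hne : A.relIndex H ≠ H.index + 1) :
    IsCoherent (inducedIrrAbove H A) {1}ᶜ τ := by
  classical
  obtain ⟨F, hF⟩ := (above_finite H A).exists_finset_coe
  have hFm : ∀ φ, φ ∈ F ↔ φ ∈ inducedIrrAbove H A := fun φ => by rw [← hF, Finset.mem_coe]
  have hcard := frob_card hC hab F hFm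
  have hrel : A.relIndex H ≠ 1 := by
    intro h
    rw [Subgroup.relIndex_eq_one] at h
    exact absurd h (not_le_of_gt hlt)
  have hrel0 : A.relIndex H ≠ 0 := relIndex_ne_zero' _ _
  have htwo : 2 ≤ F.card := by
    rcases Nat.lt_or_ge F.card 2 with h | h
    · interval_cases hc : F.card
      · omega
      · omega
    · exact h
  have hmono : (F : Set (N → ℂ)) ⊆ inducedIrrAbove H ⊥ := by rw [hF]; exact above_subset_bot H A
  rw [← hF]
  exact irr_base F (fun ξ hξ => frob_isIrr hC ((hFm ξ).mp hξ)) (fun ξ hξ η hη => by rw [linear_degree hab ((hFm ξ).mp hξ), linear_degree hab ((hFm η).mp hη)]) τ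
    (iso_mono hτ (zspanOn_mono hmono)) (fun α hα => hτ1 α (zspanOn_mono hmono hα)) htwo

/-- growth -/
theorem frob_grow (hsolv : Group.IsSolvable H) {A B : Subgroup N} [A.Normal] [B.Normal] (hBA : B ≤ A) (hlt : A < H) (hcoh : IsCoherent (inducedIrrAbove H A) {1}ᶜ τ)
    (hdeg : ∀ θ : H → ℂ, IsIrrCharacter H θ → (∀ a : H, (a : N) ∈ B → θ a = θ 1) → ∀ m : ℕ, θ 1 = m → 2 * H.index * m < A.relIndex H - 1) :
    IsCoherent (inducedIrrAbove H B) {1}ᶜ τ := by
  classical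
  obtain ⟨d, hd⟩ := exists_deg (inducedIrrAbove H (⊥ : Subgroup N)) (fun χ hχ => above_char hχ)
  obtain ⟨FA, hFA⟩ := (above_finite H A).exists_finset_coe
  obtain ⟨FB, hFB⟩ := (above_finite H B).exists_finset_coe
  obtain ⟨F, hF⟩ := (above_finite H (⊥ : Subgroup N)).exists_finset_coe
  have hmA : ∀ φ, φ ∈ FA ↔ φ ∈ inducedIrrAbove H A := fun φ => by rw [← hFA, Finset.mem_coe]
  have hmB : ∀ φ, φ ∈ FB ↔ φ ∈ inducedIrrAbove H B := fun φ => by rw [← hFB, Finset.mem_coe]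
  have hm : ∀ φ, φ ∈ F ↔ φ ∈ inducedIrrAbove H ⊥ := fun φ => by rw [← hF, Finset.mem_coe]
  obtain ⟨lam, h1, h2, h3, h4⟩ := exists_linear_above (L := N) (K := H) (A := A) hsolv (not_le_of_gt hlt)
  have hχ₁ : indFun H lam ∈ inducedIrrAbove H A := ⟨lam, h1, h2, h3, rfl⟩
  have hdχ₁ : d (indFun H lam) = H.index := by
    have := hd _ (above_subset_bot H A hχ₁)
    rw [indFun_one, h4, mul_one] at this
    exact_mod_cast this.symm
  have hsum := frob_sum hC FA hmA d (fun φ hφ => hd φ (above_subset_bot H A ((hmA φ).mp hφ)))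
  have hidx : 0 < H.index := Nat.pos_of_ne_zero Subgroup.index_ne_zero_of_finite
  obtain ⟨S₂, g1, g2, g3, g4⟩ := irr_add F (fun ξ hξ => frob_isIrr hC ((hm ξ).mp hξ)) d (fun φ hφ => hd φ ((hm φ).mp hφ)) τ (by rw [hF]; exact hτ) (by rw [hF]; exact hτ1)
    (indFun H lam) (fun φ hφ => by rw [hdχ₁]; exact above_degree_dvd ((hm φ).mp hφ) (hd φ ((hm φ).mp hφ)))
    FB FA (fun φ hφ => (hm φ).mpr (above_subset_bot H B ((hmB φ).mp hφ))) (fun φ hφ => (hm φ).mpr (above_subset_bot H A ((hmA φ).mp hφ)))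
    ((hmA _).mpr hχ₁) (by rw [hFA]; exact hcoh) (H.index * (A.relIndex H - 1)) (le_of_eq hsum.symm) (fun ψ hψ => by
      obtain ⟨θ, t1, t2, t3, rfl⟩ := (hmB ψ).mp hψ
      obtain ⟨m, hm0, hm'⟩ := IsIrrCharacter.exists_pos t1
      have hdψ : d (indFun H θ) = H.index * m := by
        have := hd _ (above_subset_bot H B ((hmB _).mp hψ))
        rw [indFun_one, hm'] at this
        exact_mod_cast this.symm
      rw [hdψ, hdχ₁]
      have h5 := hdeg θ t1 t3 m hm'
      calc 2 * H.index * (H.index * m) = H.index * (2 * H.index * m) := by ring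
        _ < H.index * (A.relIndex H - 1) := Nat.mul_lt_mul_of_pos_left h5 hidx)
  obtain ⟨⟨α, hα, hα0⟩, -⟩ := hcoh
  refine coherent_subset (F := (S₂ : Set (N → ℂ))) ?_ g4 ⟨α, zspanOn_mono (above_mono fun k _ hk => hBA hk) hα, hα0⟩
  intro φ hφ
  exact g2 ((hmB φ).mpr hφ)

omit hτ hτ1 in
theorem step_big {A : Subgroup N} [A.Normal] (hAH : A ≤ H) (hbig : 4 * H.index ^ 2 + 1 < A.relIndex H) {θ : H → ℂ} (hθ : IsIrrCharacter H θ)
    (hB : ∀ a : H, (a : N) ∈ ⁅A, H⁆ → θ a = θ 1) {m : ℕ} (hm : θ 1 = m) : 2 * H.index * m < A.relIndex H - 1 := by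
  have h1 := degree_bound (B := ⁅A, H⁆) (Subgroup.commutator_le_left A H) hAH le_rfl hθ hB hm
  generalize A.relIndex H = x at *
  generalize H.index = e at *
  obtain ⟨y, rfl⟩ : ∃ y, x = y + 1 := ⟨x - 1, by omega⟩
  rw [Nat.add_sub_cancel]
  have h2 : (2 * e * m) ^ 2 < y ^ 2 := by
    have h3 : 4 * e ^ 2 * m ^ 2 ≤ 4 * e ^ 2 * (y + 1) := Nat.mul_le_mul_left _ h1
    nlinarith
  exact lt_of_pow_lt_pow_left₀ 2 (Nat.zero_le _) h2

end frob

end CfsgLib.FrobCoh
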