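import Mathlib
import Cfsg.Prelude.Def_Characters
import Cfsg.Prelude.Def_OddOrderChar
import Cfsg.Agent.Lib.FrobCoh
import Cfsg.Agent.Lib.FrobCoh2

/-!
# Feit's theorem on coherence for Frobenius groups with nilpotent kernel, II
-/

set_option autoImplicit false
set_option linter.style.haveILetI false

open scoped ComplexConjugate commutatorElement

namespace CfsgLib.FrobCoh

open Cfsg CfsgLib.CharBasic CfsgLib.CharInd CfsgLib.CharClifford CfsgLib.CharCoh CfsgLib.FrobQuot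

universe u v

section frob

variable {N : Type u} [Group N] [Fintype N] {G : Type v} [Group G] [Fintype G] {H : Subgroup N} [H.Normal]

omit [Fintype N] [H.Normal] in
theorem index_ge_of_dvd {e n : ℕ} (h : e ∣ n - 1) (h1 : n ≠ 1) (h0 : n ≠ 0) : e + 1 ≤ n := by
  have := Nat.le_of_dvd (by omega) h
  omega

theorem relIndex_ne_one_of_lt {A B : Subgroup N} (h : A < B) : A.relIndex B ≠ 1 := by
  intro h1
  rw [Subgroup.relIndex_eq_one] at h1
  exact absurd h1 (not_le_of_gt h)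

theorem arith_big {e x m : ℕ} (hm : m ^ 2 ≤ x) (hbig : 4 * e ^ 2 + 1 < x) : 2 * e * m < x - 1 := by
  obtain ⟨y, rfl⟩ : ∃ y, x = y + 1 := ⟨x - 1, by omega⟩
  rw [Nat.add_sub_cancel]
  have h2 : (2 * e * m) ^ 2 < y ^ 2 := by
    have h3 : 4 * e ^ 2 * m ^ 2 ≤ 4 * e ^ 2 * (y + 1) := Nat.mul_le_mul_left _ hm
    nlinarith
  exact lt_of_pow_lt_pow_left₀ 2 (Nat.zero_le _) h2

theorem arith_two {e x m : ℕ} (he : 2 ≤ e) (hm : m ^ 2 * (e + 1) ≤ x) (hx : (e + 1) ^ 2 ≤ x) : 2 * e * m < x - 1 := by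
  obtain ⟨y, rfl⟩ : ∃ y, x = y + 1 := ⟨x - 1, by have : 1 ≤ (e + 1) ^ 2 := Nat.one_le_pow _ _ (by omega); omega⟩
  rw [Nat.add_sub_cancel]
  have h2 : (2 * e * m) ^ 2 < y ^ 2 := by
    -- 4 e² m² (e+1) ≤ 4 e² (y+1) < y² (e+1)
    have h3 : 4 * e ^ 2 * (m ^ 2 * (e + 1)) ≤ 4 * e ^ 2 * (y + 1) := Nat.mul_le_mul_left _ hm
    have h4 : 4 * e ^ 2 * (y + 1) < y ^ 2 * (e + 1) := by
      have h5 : e ^ 2 + 2 * e ≤ y := by nlinarith
      -- y² (e+1) ≥ y (e²+2e)(e+1)
      have h6 : y * ((e ^ 2 + 2 * e) * (e + 1)) ≤ y * (y * (e + 1)) := Nat.mul_le_mul_left _ (Nat.mul_le_mul_right _ h5)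
      have h7 : 4 * e ^ 2 * (y + 1) < y * ((e ^ 2 + 2 * e) * (e + 1)) := by
        -- (e²+2e)(e+1) = e³+3e²+2e ; minus 4e² = e³ - e² + 2e > 0, times y ≥ e²+2e
        have h8 : 4 * e ^ 2 + e * (e * e) + 2 * e = (e ^ 2 + 2 * e) * (e + 1) + e ^ 2 := by ring
        have h9 : e ^ 2 + 2 * e + 4 * e ^ 2 ≤ (e ^ 2 + 2 * e) * (e + 1) + e ^ 2 * 0 + (e^2) := by nlinarith
        nlinarith [Nat.mul_le_mul_left (e * e) he, Nat.mul_le_mul_left e h5, Nat.mul_le_mul_left (e*e) h5]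
      calc 4 * e ^ 2 * (y + 1) < y * ((e ^ 2 + 2 * e) * (e + 1)) := h7
        _ ≤ y * (y * (e + 1)) := h6
        _ = y ^ 2 * (e + 1) := by ring
    have h10 : (2 * e * m) ^ 2 * (e + 1) < y ^ 2 * (e + 1) := by
      calc (2 * e * m) ^ 2 * (e + 1) = 4 * e ^ 2 * (m ^ 2 * (e + 1)) := by ring
        _ ≤ 4 * e ^ 2 * (y + 1) := h3
        _ < _ := h4
    exact Nat.lt_of_mul_lt_mul_right h10
  exact lt_of_pow_lt_pow_left₀ 2 (Nat.zero_le _) h2

variable (hC : ∀ h ∈ H, h ≠ 1 → Subgroup.centralizer ({h} : Set N) ≤ H)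

include hC in
theorem intermediate_bound {p q : ℕ} (hp : p.Prime) (hq : q.Prime) (hpq : p ≠ q) (hpd : p ∣ (⁅H, H⁆).relIndex H) (hqd : q ∣ (⁅H, H⁆).relIndex H) :
    (H.index + 1) ^ 2 ≤ (⁅H, H⁆).relIndex H := by
  have hle : ⁅H, H⁆ ≤ H := Subgroup.commutator_le_self H
  obtain ⟨M, hM, h1, h2⟩ := exists_intermediate hle le_rfl hp hq hpq hpd hqd
  have d1 := frob_index_dvd hC h1.le h2.le
  have d2 := frob_index_dvd hC h2.le le_rfl
  have g1 := index_ge_of_dvd d1 (relIndex_ne_one_of_lt h1) (relIndex_ne_zero' _ _)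
  have g2 := index_ge_of_dvd d2 (relIndex_ne_one_of_lt h2) (relIndex_ne_zero' _ _)
  rw [← Subgroup.relIndex_mul_relIndex ⁅H, H⁆ M H h1.le h2.le, sq]
  exact Nat.mul_le_mul g1 g2

include hC in
theorem step_two (hnil : Group.IsNilpotent H) (he : 2 ≤ H.index) {A B : Subgroup N} [A.Normal] [B.Normal] (hBA : B < A) (hAH : A ≤ ⁅H, H⁆)
    (hmax : ∀ M : Subgroup N, M.Normal → B < M → ¬ M < A) (hcent : ⁅A, H⁆ ≤ B)
    {p q : ℕ} (hp : p.Prime) (hq : q.Prime) (hpq : p ≠ q) (hpd : p ∣ (⁅H, H⁆).relIndex H) (hqd : q ∣ (⁅H, H⁆).relIndex H)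
    {θ : H → ℂ} (hθ : IsIrrCharacter H θ) (hθB : ∀ a : H, (a : N) ∈ B → θ a = θ 1) {m : ℕ} (hm : θ 1 = m) : 2 * H.index * m < A.relIndex H - 1 := by
  classical
  have hle : ⁅H, H⁆ ≤ H := Subgroup.commutator_le_self H
  have hAH' : A ≤ H := hAH.trans hle
  have hBH : B ≤ H := hBA.le.trans hAH'
  have hb1 := intermediate_bound hC hp hq hpq hpd hqd
  have hx : (H.index + 1) ^ 2 ≤ A.relIndex H := by
    refine hb1.trans ?_
    rw [← Subgroup.relIndex_mul_relIndex A ⁅H, H⁆ H hAH hle]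
    exact Nat.le_mul_of_pos_left _ (Nat.pos_of_ne_zero (relIndex_ne_zero' _ _))
  -- the preimage of the centre of H/B
  obtain ⟨f, hf⟩ : ∃ f : N →* N ⧸ B, f = QuotientGroup.mk' B := ⟨_, rfl⟩
  have hfs : Function.Surjective f := by rw [hf]; exact QuotientGroup.mk'_surjective B
  have hker : f.ker = B := by rw [hf]; exact QuotientGroup.ker_mk' B
  obtain ⟨Hb, hHb⟩ : ∃ Hb : Subgroup (N ⧸ B), Hb = H.map f := ⟨_, rfl⟩
  have hHbn : Hb.Normal := by rw [hHb]; exact Subgroup.Normal.map inferInstance _ hfs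
  obtain ⟨D, hD⟩ : ∃ D : Subgroup N, D = (Hb ⊓ Subgroup.centralizer (Hb : Set (N ⧸ B))).comap f := ⟨_, rfl⟩
  have hDn : D.Normal := by rw [hD]; infer_instance
  have hcomapH : Hb.comap f = H := by rw [hHb, Subgroup.comap_map_eq, hker, sup_eq_left.mpr hBH]
  have hDH : D ≤ H := by
    have h1 : D ≤ Hb.comap f := by rw [hD]; exact Subgroup.comap_mono inf_le_left
    rw [hcomapH] at h1
    exact h1
  have hfcomm : ∀ a h : N, f ⁅a, h⁆ = 1 ↔ f a * f h = f h * f a := by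
    intro a h
    rw [map_commutatorElement, commutatorElement_eq_one_iff_mul_comm]
  have hAD : A ≤ D := by
    intro a ha
    rw [hD, Subgroup.mem_comap, Subgroup.mem_inf, Subgroup.mem_centralizer_iff]
    refine ⟨by rw [hHb]; exact Subgroup.mem_map_of_mem _ (hAH' ha), ?_⟩
    intro y hy
    have hy' : y ∈ H.map f := by rw [← hHb]; exact hy
    obtain ⟨h, hh, rfl⟩ := hy'
    have h1 : f ⁅a, h⁆ = 1 := by
      rw [← MonoidHom.mem_ker, hker]
      exact hcent (Subgroup.commutator_mem_commutator ha hh)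
    exact ((hfcomm a h).mp h1).symm
  have hDHB : ⁅D, H⁆ ≤ B := by
    rw [Subgroup.commutator_le]
    intro d hd h hh
    rw [hD, Subgroup.mem_comap, Subgroup.mem_inf, Subgroup.mem_centralizer_iff] at hd
    have h1 := hd.2 (f h) (by rw [hHb]; exact Subgroup.mem_map_of_mem _ hh)
    have h2 : f ⁅d, h⁆ = 1 := (hfcomm d h).mpr h1.symm
    rw [← MonoidHom.mem_ker, hker] at h2
    exact h2
  have hDA : A ≠ D := by
    intro heq
    -- every prime divisor of |H : H'| divides |A : B|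
    have hnilb : Group.IsNilpotent Hb := by
      haveI := hnil
      let g : H →* Hb := (f.comp H.subtype).codRestrict Hb (fun x => by rw [hHb]; exact Subgroup.mem_map_of_mem _ x.2)
      apply Group.nilpotent_of_surjective g
      rintro ⟨y, hy⟩
      have hy' : y ∈ H.map f := by rw [← hHb]; exact hy
      obtain ⟨h, hh, hhy⟩ := hy'
      exact ⟨⟨h, hh⟩, Subtype.ext hhy⟩
    have hcardb : Nat.card Hb = B.relIndex H := by rw [hHb, hf, relIndex_eq_card_map]
    have hBHH : (⁅H, H⁆).relIndex H ∣ B.relIndex H := by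
      rw [← Subgroup.relIndex_mul_relIndex B ⁅H, H⁆ H (hBA.le.trans hAH) hle]
      exact Dvd.intro_left _ rfl
    have hAmap : A.map f = Hb ⊓ Subgroup.centralizer (Hb : Set (N ⧸ B)) := by
      rw [heq, hD, Subgroup.map_comap_eq_self_of_surjective hfs]
    have key : ∀ r : ℕ, r.Prime → r ∣ (⁅H, H⁆).relIndex H → r ∣ B.relIndex A := by
      intro r hr hrd
      obtain ⟨z, hz, hzr⟩ := prime_dvd_center hnilb hr (by rw [hcardb]; exact hrd.trans hBHH)
      have hzm : (z : N ⧸ B) ∈ A.map f := by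
        rw [hAmap, Subgroup.mem_inf, Subgroup.mem_centralizer_iff]
        refine ⟨z.2, fun y hy => ?_⟩
        exact congrArg Subtype.val (Subgroup.mem_center_iff.mp hz ⟨y, hy⟩)
      rw [relIndex_eq_card_map, ← hf]
      have h1 : orderOf (⟨z, hzm⟩ : (A.map f : Subgroup (N ⧸ B))) = r := by
        rw [← hzr, ← Subgroup.orderOf_coe, ← Subgroup.orderOf_coe]
      rw [← h1]
      exact orderOf_dvd_natCard _
    have hAA : ⁅A, A⁆ ≤ B := (Subgroup.commutator_mono le_rfl hAH').trans hcent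
    obtain ⟨M, hM, h1, h2⟩ := exists_intermediate (K := A) (H₁ := B) hBA.le hAA hp hq hpq (key p hp hpd) (key q hq hqd)
    exact hmax M hM h1 h2
  have hlt : A < D := lt_of_le_of_ne hAD hDA
  have hm2 := degree_bound (A := D) (B := B) (hBA.le.trans hAD) hDH hDHB hθ hθB hm
  have d1 := frob_index_dvd hC hAD hDH
  have g1 := index_ge_of_dvd d1 (relIndex_ne_one_of_lt hlt) (relIndex_ne_zero' _ _)
  refine arith_two he ?_ hx
  rw [← Subgroup.relIndex_mul_relIndex A D H hAD hDH, mul_comm]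
  exact Nat.mul_le_mul g1 hm2

variable {τ : (N → ℂ) → (G → ℂ)} (hτ : IsLinearIsometryOn (zspanOn (inducedIrrAbove H (⊥ : Subgroup N)) {1}ᶜ) τ)
  (hτ1 : ∀ α ∈ zspanOn (inducedIrrAbove H (⊥ : Subgroup N)) {1}ᶜ, τ α 1 = 0)

include hC hτ hτ1

/-- descent -/
theorem frob_descent (hnil : Group.IsNilpotent H) (hstep : ∀ A B : Subgroup N, A.Normal → B.Normal → B < A → A ≤ ⁅H, H⁆ → (∀ M : Subgroup N, M.Normal → B < M → ¬ M < A) →
      ⁅A, H⁆ ≤ B → ∀ θ : H → ℂ, IsIrrCharacter H θ → (∀ a : H, (a : N) ∈ B → θ a = θ 1) → ∀ m : ℕ, θ 1 = m → 2 * H.index * m < A.relIndex H - 1)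
    (hlt : ⁅H, H⁆ < H) (hcoh : IsCoherent (inducedIrrAbove H ⁅H, H⁆) {1}ᶜ τ) : IsCoherent (inducedIrrAbove H ⊥) {1}ᶜ τ := by
  classical
  haveI := hnil
  have hsolv : Group.IsSolvable H := inferInstance
  obtain ⟨n, hn⟩ := (Subgroup.isNilpotent_iff_lowerCentralSeries H).mp hnil
  have main : ∀ k : ℕ, ∀ A : Subgroup N, A.Normal → A ≤ ⁅H, H⁆ → Nat.card A = k → IsCoherent (inducedIrrAbove H A) {1}ᶜ τ → IsCoherent (inducedIrrAbove H (⊥ : Subgroup N)) {1}ᶜ τ := by
    intro k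
    induction k using Nat.strong_induction_on with
    | _ k ih =>
      intro A hAn hAH hcard hA
      rcases eq_or_ne A ⊥ with rfl | hne
      · exact hA
      · -- maximal normal subgroup below A
        obtain ⟨B, hBmem, hBmax⟩ := (Set.toFinite {B : Subgroup N | B.Normal ∧ B < A}).exists_maximal ⟨⊥, inferInstance, bot_lt_iff_ne_bot.mpr hne⟩
        have hBn : B.Normal := hBmem.1
        have hBA : B < A := hBmem.2
        have hmax : ∀ M : Subgroup N, M.Normal → B < M → ¬ M < A := by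
          intro M hM h1 h2
          exact absurd (hBmax ⟨hM, h2⟩ h1.le) (not_le_of_gt h1)
        have hAH' : A ≤ H := hAH.trans hlt.le
        have h1 := commutator_sup_lt (H := H) (M := B) (A := A) ⟨n, by rw [hn]; exact bot_le⟩ hBA hAH'
        have hcent : ⁅A, H⁆ ≤ B := by
          have h2 : ¬ B < ⁅A, H⁆ ⊔ B := fun h => hmax _ inferInstance h h1
          have h3 : ⁅A, H⁆ ⊔ B = B := (eq_of_le_of_not_lt le_sup_right h2).symm
          rw [← h3]; exact le_sup_left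
        have hcardlt : Nat.card B < k := by
          rw [← hcard]
          apply lt_of_le_of_ne (Nat.le_of_dvd Nat.card_pos (Subgroup.card_dvd_of_le hBA.le))
          intro h
          exact hBA.ne (Subgroup.eq_of_le_of_card_ge hBA.le h.ge)
        refine ih _ hcardlt B hBn (hBA.le.trans hAH) rfl ?_
        exact frob_grow hC hτ hτ1 hsolv hBA.le (lt_of_le_of_lt hAH hlt) hA (hstep A B hAn hBn hBA hAH hmax hcent)
  exact main _ ⁅H, H⁆ inferInstance le_rfl rfl hcoh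

/-- **Feit's theorem** -/
theorem frob_main (hnil : Group.IsNilpotent H) (hH2 : H ≠ ⊤) (hH1 : H ≠ ⊥) (hcard : Nat.card H ≠ H.index + 1) :
    IsCoherent (inducedIrrAbove H ⊥) {1}ᶜ τ ∨ ∃ p : ℕ, p.Prime ∧ (∃ m : ℕ, Nat.card H = p ^ m) ∧ ⁅H, H⁆ ≠ ⊥ ∧ (⁅H, H⁆).relIndex H ≤ 4 * H.index ^ 2 + 1 := by
  classical
  haveI := hnil
  have hsolv : Group.IsSolvable H := inferInstance
  have hle : ⁅H, H⁆ ≤ H := Subgroup.commutator_le_self H
  have hmap : (commutator H).map H.subtype = ⁅H, H⁆ := Subgroup.map_subtype_commutator H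
  have hlt : ⁅H, H⁆ < H := by
    refine lt_of_le_of_ne hle fun h => ?_
    haveI : Nontrivial H := (Subgroup.nontrivial_iff_ne_bot _).mpr hH1
    have h1 := (Group.IsSolvable.commutator_lt_top_of_nontrivial H).ne
    apply h1
    apply Subgroup.map_injective H.subtype_injective
    rw [hmap, h, ← MonoidHom.range_eq_map, Subgroup.range_subtype]
  have he : 2 ≤ H.index := by
    have h1 : H.index ≠ 0 := Subgroup.index_ne_zero_of_finite
    have h2 : H.index ≠ 1 := fun h => hH2 (Subgroup.index_eq_one.mp h)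
    omega
  -- prime divisors
  have hidxc : (commutator H).index = (⁅H, H⁆).relIndex H := by
    rw [Subgroup.relIndex]
    congr 1
    rw [← hmap]
    exact (Subgroup.comap_map_eq_self_of_injective H.subtype_injective _).symm
  have hprime : ∀ p : ℕ, p.Prime → p ∣ Nat.card H → p ∣ (⁅H, H⁆).relIndex H := by
    intro p hp hd
    rw [← hidxc]
    exact prime_dvd_index_commutator hnil hp hd
  have hcardne1 : Nat.card H ≠ 1 := by rw [Ne, Subgroup.card_eq_one]; exact hH1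
  have hpp : (∃ p : ℕ, p.Prime ∧ ∃ m : ℕ, Nat.card H = p ^ m) ∨ ∃ p q : ℕ, p.Prime ∧ q.Prime ∧ p ≠ q ∧ p ∣ (⁅H, H⁆).relIndex H ∧ q ∣ (⁅H, H⁆).relIndex H := by
    have hp := Nat.minFac_prime hcardne1
    by_cases hno : ∃ q : ℕ, q.Prime ∧ q ∣ Nat.card H ∧ q ≠ (Nat.card H).minFac
    · obtain ⟨q, hq, hqd, hqp⟩ := hno
      right
      exact ⟨_, q, hp, hq, hqp.symm, hprime _ hp (Nat.minFac_dvd _), hprime q hq hqd⟩
    · push Not at hno
      left
      exact ⟨_, hp, _, Nat.eq_prime_pow_of_unique_prime_dvd Nat.card_pos.ne' fun {d} hd hdd => hno d hd hdd⟩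
  have hcardmul : (⁅H, H⁆).relIndex H ≤ Nat.card H := by
    rw [Subgroup.relIndex]
    exact Nat.le_of_dvd Nat.card_pos (Subgroup.index_dvd_card _)
  by_cases hy : (⁅H, H⁆).relIndex H = H.index + 1
  · right
    have hne : ⁅H, H⁆ ≠ ⊥ := by
      intro h
      rw [h, Subgroup.relIndex_bot_left] at hy
      exact hcard hy
    rcases hpp with ⟨p, hp, m, hm⟩ | ⟨p, q, hp, hq, hpq, hpd, hqd⟩
    · exact ⟨p, hp, ⟨m, hm⟩, hne, by rw [hy]; nlinarith⟩
    · exfalso
      have := intermediate_bound hC hp hq hpq hpd hqd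
      rw [hy] at this
      nlinarith
  · have hcoh := frob_base hC hτ hτ1 (A := ⁅H, H⁆) le_rfl hlt hy
    by_cases hne : ⁅H, H⁆ = ⊥
    · left
      rw [hne] at hcoh
      exact hcoh
    by_cases hbig : 4 * H.index ^ 2 + 1 < (⁅H, H⁆).relIndex H
    · left
      refine frob_descent hC hτ hτ1 hnil ?_ hlt hcoh
      intro A B hA hB hBA hAH hmax hcent θ hθ hθB m hm
      have h1 := degree_bound hBA.le (hAH.trans hlt.le) hcent hθ hθB hm
      refine arith_big h1 (lt_of_lt_of_le hbig ?_)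
      rw [← Subgroup.relIndex_mul_relIndex A ⁅H, H⁆ H hAH hle]
      exact Nat.le_mul_of_pos_left _ (Nat.pos_of_ne_zero (relIndex_ne_zero' _ _))
    · rcases hpp with ⟨p, hp, m, hm⟩ | ⟨p, q, hp, hq, hpq, hpd, hqd⟩
      · right; exact ⟨p, hp, ⟨m, hm⟩, hne, not_lt.mp hbig⟩
      · left
        refine frob_descent hC hτ hτ1 hnil ?_ hlt hcoh
        intro A B hA hB hBA hAH hmax hcent θ hθ hθB m hm
        exact step_two hC hnil he hBA hAH hmax hcent hp hq hpq hpd hqd hθ hθB hm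

end frob

end CfsgLib.FrobCoh
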