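import Mathlib
import Cfsg.Prelude.Def_Characters
import Cfsg.Prelude.Def_OddOrderChar
import Cfsg.Prelude.Def_OddOrderLocal
import Cfsg.Agent.Lib.CharTI
import Cfsg.Agent.Lib.FrobCoh
import Cfsg.Agent.Lib.FrobCoh2
import Cfsg.Agent.Lib.FrobCoh3

/-!
# Induction from the normalizer of a TI-subgroup with Frobenius normalizer
-/

set_option autoImplicit false
set_option linter.style.haveILetI false

open scoped ComplexConjugate commutatorElement

namespace CfsgLib.CohTI

open Cfsg CfsgLib.CharBasic CfsgLib.CharInd CfsgLib.CharClifford CfsgLib.CharCoh CfsgLib.FrobQuot CfsgLib.FrobCoh CfsgLib.CharTI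

universe u

variable {G : Type u} [Group G] {N K : Subgroup G}

theorem ti_apply [Fintype G] (hTI : ∀ g : G, g ∉ N → ∀ k ∈ K, g * k * g⁻¹ ∈ K → k = 1) {ψ : N → ℂ} (hψ : IsClassFunction N ψ)
    (hψK : ∀ x : N, (x : G) ∉ K → ψ x = 0) {t : N} (htK : (t : G) ∈ K) (ht1 : t ≠ 1) : indFun N ψ t = ψ t := by
  apply indFun_apply_of_fusion hψ
  intro g hg hne
  by_contra hgN
  have h1 : g⁻¹ * (t : G) * g ∈ K := by
    by_contra hno
    exact hne (hψK ⟨_, hg⟩ hno)
  have h2 : g⁻¹ ∉ N := fun h => hgN (by simpa using inv_mem h)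
  have h3 := hTI g⁻¹ h2 t htK (by simpa using h1)
  exact ht1 (Subtype.ext h3)

theorem ti_inner [Fintype G] [Fintype N] (hTI : ∀ g : G, g ∉ N → ∀ k ∈ K, g * k * g⁻¹ ∈ K → k = 1) {ψ θ : N → ℂ} (hψ : IsClassFunction N ψ)
    (hψK : ∀ x : N, (x : G) ∉ K → ψ x = 0) (hθK : ∀ x : N, (x : G) ∉ K → θ x = 0) (hψ1 : ψ 1 = 0) :
    classInner (indFun N ψ) (indFun N θ) = classInner ψ θ := by
  rw [frobenius' _ θ (isClassFunction_indFun _ ψ)]
  simp only [classInner]
  congr 1
  apply Finset.sum_congr rfl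
  intro x _
  by_cases hx : (x : G) ∈ K
  · by_cases hx1 : x = 1
    · subst hx1
      have h1 : indFun N ψ ((1 : N) : G) = 0 := by
        rw [Subgroup.coe_one, indFun_one, hψ1, mul_zero]
      rw [h1, hψ1]
    · rw [ti_apply hTI hψ hψK hx hx1]
  · rw [hθK x hx, map_zero, mul_zero, mul_zero]

theorem hC_sub (hC : ∀ k ∈ K, k ≠ 1 → Subgroup.centralizer ({k} : Set G) ≤ K) :
    ∀ h ∈ K.subgroupOf N, h ≠ 1 → Subgroup.centralizer ({h} : Set N) ≤ K.subgroupOf N := by
  intro h hh hh1 x hx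
  rw [Subgroup.mem_subgroupOf] at hh ⊢
  apply hC h hh (fun h' => hh1 (Subtype.ext h'))
  rw [Subgroup.mem_centralizer_iff] at hx ⊢
  intro y hy
  rw [Set.mem_singleton_iff] at hy
  rw [hy]
  exact congrArg Subtype.val (hx h rfl)

theorem span_class [Fintype G] [Fintype N] {α : N → ℂ} (hα : α ∈ zspan (inducedIrrAbove (K.subgroupOf N) (⊥ : Subgroup N))) : IsClassFunction N α :=
  IsGeneralizedCharacter.isClassFunction (isGeneralized_of_mem_zspan (fun _ hφ => IsCharacter.isGeneralized (above_char hφ)) hα)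

theorem span_vanish [Fintype G] [Fintype N] [(K.subgroupOf N).Normal] {α : N → ℂ} (hα : α ∈ zspan (inducedIrrAbove (K.subgroupOf N) (⊥ : Subgroup N))) :
    ∀ x : N, (x : G) ∉ K → α x = 0 := by
  unfold zspan at hα
  rw [SetLike.mem_coe] at hα
  induction hα using Submodule.span_induction with
  | mem φ hφ =>
    intro x hx
    obtain ⟨θ, -, -, -, rfl⟩ := hφ
    exact indFun_of_not_mem (fun h => hx (Subgroup.mem_subgroupOf.mp h))
  | zero => intro x _; rfl
  | add φ ψ _ _ hφ hψ => intro x hx; rw [Pi.add_apply, hφ x hx, hψ x hx, add_zero]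
  | smul n φ _ hφ => intro x hx; rw [Pi.smul_apply, hφ x hx, smul_zero]

/-- induction is an isometry -/
theorem ti_isometry [Fintype G] [Fintype N] [(K.subgroupOf N).Normal] (hTI : ∀ g : G, g ∉ N → ∀ k ∈ K, g * k * g⁻¹ ∈ K → k = 1) :
    IsLinearIsometryOn (zspanOn (inducedIrrAbove (K.subgroupOf N) (⊥ : Subgroup N)) {1}ᶜ) (fun α => indFun N α) := by
  refine ⟨fun α _ β _ => indFun_add N α β, fun α _ n => ?_, fun α hα β hβ => ?_, fun α hα => ?_⟩
  · show indFun N (n • α) = n • indFun N α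
    rw [zsmul_eq, zsmul_eq, indFun_smul]
  · obtain ⟨h1, h2⟩ := mem_zspanOn_one.mp hα
    exact ti_inner hTI (span_class h1) (span_vanish h1) (span_vanish hβ.1) h2
  · exact isGeneralized_indFun N (isGeneralized_of_mem_zspan (fun _ hφ => IsCharacter.isGeneralized (above_char hφ)) hα.1)

theorem ti_one [Fintype G] [Fintype N] {α : N → ℂ} (hα : α ∈ zspanOn (inducedIrrAbove (K.subgroupOf N) (⊥ : Subgroup N)) {1}ᶜ) : indFun N α 1 = 0 := by
  rw [indFun_one, (mem_zspanOn_one.mp hα).2, mul_zero]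

/-- `K` is a Hall subgroup -/
theorem hall [Finite G] (hC : ∀ k ∈ K, k ≠ 1 → Subgroup.centralizer ({k} : Set G) ≤ K) : Nat.Coprime (Nat.card K) K.index := by
  rw [Nat.coprime_iff_gcd_eq_one]
  by_contra hne
  obtain ⟨p, hp, hpd⟩ := Nat.exists_prime_and_dvd hne
  haveI := Fact.mk hp
  have hpK : p ∣ Nat.card K := hpd.trans (Nat.gcd_dvd_left _ _)
  have hpI : p ∣ K.index := hpd.trans (Nat.gcd_dvd_right _ _)
  obtain ⟨x, hx⟩ := exists_prime_orderOf_dvd_card' p hpK
  have hxG : orderOf (x : G) = p := (Subgroup.orderOf_coe x).trans hx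
  have hx1 : (x : G) ≠ 1 := by
    intro h
    rw [h, orderOf_one] at hxG
    exact hp.one_lt.ne hxG
  -- a Sylow subgroup containing x
  have hxp : IsPGroup p (Subgroup.zpowers (x : G)) := by
    apply IsPGroup.of_card (n := 1)
    rw [Nat.card_zpowers, hxG, pow_one]
  obtain ⟨Q, hQ⟩ := hxp.exists_le_sylow
  have hxQ : (x : G) ∈ (Q : Subgroup G) := hQ (Subgroup.mem_zpowers _)
  haveI : Nontrivial (Q : Subgroup G) := ⟨⟨⟨x, hxQ⟩, 1, fun h => hx1 (congrArg Subtype.val h)⟩⟩
  haveI : Nontrivial (Subgroup.center (Q : Subgroup G)) := Q.isPGroup'.center_nontrivial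
  obtain ⟨z, hz⟩ := exists_ne (1 : Subgroup.center (Q : Subgroup G))
  have hz1 : ((z : (Q : Subgroup G)) : G) ≠ 1 := fun h => hz (Subtype.ext (Subtype.ext h))
  have hcomm : ∀ y ∈ (Q : Subgroup G), y * ((z : (Q : Subgroup G)) : G) = ((z : (Q : Subgroup G)) : G) * y := by
    intro y hy
    exact congrArg Subtype.val (Subgroup.mem_center_iff.mp z.2 ⟨y, hy⟩)
  have hzK : ((z : (Q : Subgroup G)) : G) ∈ K := by
    apply hC x x.2 hx1
    rw [Subgroup.mem_centralizer_iff]
    intro y hy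
    rw [Set.mem_singleton_iff] at hy
    rw [hy]
    exact hcomm x hxQ
  have hQK : (Q : Subgroup G) ≤ K := by
    intro y hy
    apply hC _ hzK hz1
    rw [Subgroup.mem_centralizer_iff]
    intro w hw
    rw [Set.mem_singleton_iff] at hw
    rw [hw]
    exact (hcomm y hy).symm
  have h1 : K.index ∣ (Q : Subgroup G).index := Subgroup.index_dvd_of_le hQK
  exact Q.not_dvd_index (hpI.trans h1)

end CfsgLib.CohTI
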