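import Mathlib
import Cfsg.Agent.Lib.ThompsonNPC
import Cfsg.Agent.Lib.PGrp
set_option autoImplicit false
set_option linter.unusedSectionVars false
set_option linter.unusedVariables false

/-! Thompson's theorem on fixed-point-free automorphisms of prime order. -/

namespace CfsgLib
namespace H5Fpf

open JSub NPC ThompsonNPC MonoidHom
open scoped Pointwise

universe u

/-- averaging lemma in module form -/
theorem smul_fixed {R : Type*} [Group R] [Finite R] {M : Type*} [AddCommGroup M] (φ : R →* R)
    (hφ : FixedPointFree φ) {p : ℕ} (hp : p.Prime) (hpow : φ^[p] = _root_.id)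
    (ρ : R →* AddMonoid.End M) (f : AddMonoid.End M) (hf : ∀ x m, f (ρ x m) = ρ (φ x) (f m))
    (hsum : ∀ m : M, ∑ i ∈ Finset.range p, (f ^ i) m = 0) (m : M) (r : R) :
    ρ r (Nat.card R • m) = Nat.card R • m := by
  classical
  have := Fintype.ofFinite R
  have hfi : ∀ (i : ℕ) (x : R) (m : M), (f ^ i) (ρ x m) = ρ (φ^[i] x) ((f ^ i) m) := by
    intro i
    induction i with
    | zero => intro x m; simp
    | succ i ih =>
      intro x m
      rw [pow_succ]
      change (f ^ i) (f (ρ x m)) = ρ (φ^[i + 1] x) ((f ^ i) (f m))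
      rw [hf, ih, Function.iterate_succ_apply]
  have hinj : ∀ i, 0 < i → i < p → Function.Bijective (fun x : R => x * φ^[i] (x⁻¹)) := by
    intro i h0 h1
    apply Function.Injective.bijective_of_finite
    intro x y hxy
    have hxy' : x * φ^[i] (x⁻¹) = y * φ^[i] (y⁻¹) := hxy
    have e1 : φ^[i] (y⁻¹ * x) = y⁻¹ * x := by
      have e2 : ∀ a b : R, φ^[i] (a * b) = φ^[i] a * φ^[i] b := fun a b => iterate_map_mul φ i a b
      have e3 : ∀ a : R, φ^[i] (a⁻¹) = (φ^[i] a)⁻¹ := fun a => iterate_map_inv φ i a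
      rw [e2, e3]
      rw [e3, e3] at hxy'
      have : x = y * (φ^[i] y)⁻¹ * φ^[i] x := by rw [← hxy', inv_mul_cancel_right]
      conv_rhs => rw [this]
      group
    -- a fixed point of `φ^i` is a fixed point of `φ`
    have e4 : φ (y⁻¹ * x) = y⁻¹ * x := by
      have hc : Function.IsPeriodicPt φ i (y⁻¹ * x) := e1
      have hc2 : Function.IsPeriodicPt φ p (y⁻¹ * x) := by
        change φ^[p] _ = _
        rw [hpow]; rfl
      have h3 := hc.gcd hc2
      have h4 : Nat.gcd i p = 1 := (Nat.coprime_comm.mp ((Nat.Prime.coprime_iff_not_dvd hp).mpr (Nat.not_dvd_of_pos_of_lt h0 h1)))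
      rw [h4] at h3
      exact h3
    have := hφ _ e4
    exact (inv_mul_eq_one.mp this).symm
  set N : M → M := fun m => ∑ y : R, ρ y m with hN
  have hNfix : ∀ m, ρ r (N m) = N m := by
    intro m
    rw [hN]
    simp only [map_sum]
    have : ∀ y : R, ρ r (ρ y m) = ρ (r * y) m := by intro y; rw [map_mul]; rfl
    simp only [this]
    exact Equiv.sum_comp (Equiv.mulLeft r) (fun y => ρ y m)
  have h1 : ∑ x : R, ρ x (∑ i ∈ Finset.range p, (f ^ i) (ρ x⁻¹ m)) = 0 := by
    apply Finset.sum_eq_zero
    intro x _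
    rw [hsum, map_zero]
  have h2 : ∑ i ∈ Finset.range p, ∑ x : R, ρ (x * φ^[i] (x⁻¹)) ((f ^ i) m) = 0 := by
    rw [← h1, Finset.sum_comm]
    apply Finset.sum_congr rfl
    intro x _
    rw [map_sum]
    apply Finset.sum_congr rfl
    intro i _
    rw [hfi, map_mul]; rfl
  have h3 : Nat.card R • m = - ∑ i ∈ Finset.Ico 1 p, N ((f ^ i) m) := by
    rw [Finset.range_eq_Ico, Finset.sum_eq_sum_Ico_succ_bot hp.pos] at h2
    have h4 : ∑ x : R, ρ (x * φ^[0] (x⁻¹)) ((f ^ 0) m) = Nat.card R • m := by
      simp [Finset.card_univ]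
    rw [h4] at h2
    rw [eq_neg_iff_add_eq_zero, ← h2]
    congr 1
    apply Finset.sum_congr rfl
    intro i hi
    rw [Finset.mem_Ico] at hi
    exact ((hinj i hi.1 hi.2).sum_comp (fun y => ρ y ((f ^ i) m))).symm
  rw [h3, _root_.map_neg, map_sum]
  congr 1
  exact Finset.sum_congr rfl fun i _ => hNfix _

section
variable {G : Type u} [Group G] [Finite G]

theorem bijective_of_iterate {φ : G →* G} {p : ℕ} (hp : p.Prime) (hpow : φ^[p] = _root_.id) : Function.Bijective φ := by
  obtain ⟨n, rfl⟩ := Nat.exists_eq_succ_of_ne_zero hp.ne_zero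
  constructor
  · intro x y hxy
    have h1 : φ^[n + 1] x = φ^[n + 1] y := by rw [Function.iterate_succ_apply, Function.iterate_succ_apply, hxy]
    have h2 : φ^[n.succ] = φ^[n + 1] := rfl
    rw [h2] at hpow
    rw [hpow] at h1; exact h1
  · intro y
    refine ⟨φ^[n] y, ?_⟩
    rw [← Function.iterate_succ_apply' φ n y, hpow]; rfl

/-- restriction to an invariant subgroup -/
def res (φ : G →* G) (H : Subgroup G) (hH : ∀ x ∈ H, φ x ∈ H) : H →* H :=
  (φ.comp H.subtype).codRestrict H (fun x => hH x x.2)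

theorem res_coe (φ : G →* G) (H : Subgroup G) (hH : ∀ x ∈ H, φ x ∈ H) (x : H) : (res φ H hH x : G) = φ x := rfl

theorem res_iterate (φ : G →* G) (H : Subgroup G) (hH : ∀ x ∈ H, φ x ∈ H) (n : ℕ) (x : H) :
    ((res φ H hH)^[n] x : G) = φ^[n] (x : G) := by
  induction n generalizing x with
  | zero => rfl
  | succ n ih => rw [Function.iterate_succ_apply, Function.iterate_succ_apply, ih, res_coe]

theorem res_fpf {φ : G →* G} (hφ : FixedPointFree φ) (H : Subgroup G) (hH : ∀ x ∈ H, φ x ∈ H) :
    FixedPointFree (res φ H hH) := by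
  intro x hx
  have h1 : φ (x : G) = x := congrArg Subtype.val hx
  exact Subtype.ext (hφ _ h1)

theorem res_pow {φ : G →* G} {p : ℕ} (hpow : φ^[p] = _root_.id) (H : Subgroup G) (hH : ∀ x ∈ H, φ x ∈ H) :
    (res φ H hH)^[p] = _root_.id := by
  funext x
  apply Subtype.ext
  rw [res_iterate, hpow]; rfl

theorem quot_fpf {φ : G →* G} (hφ : FixedPointFree φ) (N : Subgroup G) [N.Normal] (hN : N ≤ N.comap φ) :
    FixedPointFree (QuotientGroup.map N N φ hN) := by
  intro x hx
  obtain ⟨g, rfl⟩ := QuotientGroup.mk'_surjective N x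
  have h1 : QuotientGroup.mk' N (φ g) = QuotientGroup.mk' N g := hx
  have h2 : g / φ g ∈ N := by
    rw [← QuotientGroup.eq_one_iff, ← QuotientGroup.mk'_apply, map_div, h1, div_self']
  obtain ⟨n, hn⟩ := (res_fpf hφ N hN).commutatorMap_surjective ⟨_, h2⟩
  have h3 : (n : G) / φ n = g / φ g := congrArg Subtype.val hn
  have h4 : (n : G) = g := hφ.commutatorMap_injective h3
  rw [QuotientGroup.mk'_apply, QuotientGroup.eq_one_iff, ← h4]
  exact n.2

theorem quot_pow {φ : G →* G} {p : ℕ} (hpow : φ^[p] = _root_.id) (N : Subgroup G) [N.Normal] (hN : N ≤ N.comap φ) :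
    (QuotientGroup.map N N φ hN)^[p] = _root_.id := by
  have h1 : ∀ n g, (QuotientGroup.map N N φ hN)^[n] (QuotientGroup.mk' N g) = QuotientGroup.mk' N (φ^[n] g) := by
    intro n
    induction n with
    | zero => intro g; rfl
    | succ n ih => intro g; rw [Function.iterate_succ_apply, Function.iterate_succ_apply, ← ih]; rfl
  funext x
  obtain ⟨g, rfl⟩ := QuotientGroup.mk'_surjective N x
  rw [h1, hpow]; rfl

/-- invariant Sylow subgroups -/
theorem exists_sylow {φ : G →* G} (hφ : FixedPointFree φ) {p : ℕ} (hp : p.Prime) (hpow : φ^[p] = _root_.id)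
    (q : ℕ) [Fact q.Prime] : ∃ P : Sylow q G, (P : Subgroup G).map φ = P := by
  obtain ⟨P⟩ : Nonempty (Sylow q G) := inferInstance
  have hb := bijective_of_iterate hp hpow
  have hc : Nat.card ((P : Subgroup G).map φ) = q ^ (Nat.card G).factorization q := by
    rw [Subgroup.card_map_of_injective hb.1]; exact P.card_eq_multiplicity
  obtain ⟨g, hg⟩ := MulAction.exists_smul_eq G P (Sylow.ofCard _ hc)
  have hg' : (P : Subgroup G).map (MulAut.conj g).toMonoidHom = (P : Subgroup G).map φ := by
    have := congrArg (fun Q : Sylow q G => (Q : Subgroup G)) hg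
    exact this
  obtain ⟨h, hh⟩ := hφ.commutatorMap_surjective g⁻¹
  have hh' : h / φ h = g⁻¹ := hh
  have e : φ h = g * h := by
    rw [div_eq_iff_eq_mul] at hh'
    rw [← inv_mul_eq_iff_eq_mul]
    exact hh'.symm
  refine ⟨h⁻¹ • P, ?_⟩
  have h1 : ((h⁻¹ • P : Sylow q G) : Subgroup G) = (P : Subgroup G).map (MulAut.conj h⁻¹).toMonoidHom := rfl
  rw [h1, Subgroup.map_map]
  have h2 : φ.comp (MulAut.conj h⁻¹).toMonoidHom = (MulAut.conj (φ h)⁻¹).toMonoidHom.comp φ := by
    ext x
    simp
  rw [h2, ← Subgroup.map_map, ← hg', Subgroup.map_map, e]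
  congr 1
  ext x
  simp
  group

theorem invariant_of_map_eq {φ : G →* G} {X : Subgroup G} (h : X.map φ = X) : ∀ x ∈ X, φ x ∈ X := by
  intro x hx
  rw [← h]
  exact ⟨x, hx, rfl⟩

theorem map_eq_of_invariant {φ : G →* G} (hb : Function.Injective φ) {X : Subgroup G} (h : ∀ x ∈ X, φ x ∈ X) :
    X.map φ = X := by
  apply Subgroup.eq_of_le_of_card_ge
  · rintro _ ⟨x, hx, rfl⟩; exact h x hx
  · rw [Subgroup.card_map_of_injective hb]

theorem char_invariant {φ : G →* G} (hb : Function.Bijective φ) {X : Subgroup G} (hX : X.Characteristic) :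
    ∀ x ∈ X, φ x ∈ X := by
  intro x hx
  have h1 := (Subgroup.characteristic_iff_map_eq.mp hX) (MulEquiv.ofBijective φ hb)
  rw [← h1]
  exact ⟨x, hx, rfl⟩

/-- action lemma: `R` centralises an abelian normal `V` of coprime order without `φ`-fixed points -/
theorem centralize {φ : G →* G} (hφ : FixedPointFree φ) {p : ℕ} (hp : p.Prime) (hpow : φ^[p] = _root_.id)
    {V : Subgroup G} (hVn : V.Normal) (hV : ∀ x ∈ V, φ x ∈ V) (hVab : ∀ x ∈ V, ∀ y ∈ V, x * y = y * x)
    {R : Subgroup G} (hR : ∀ x ∈ R, φ x ∈ R) (hc : (Nat.card R).Coprime (Nat.card V)) :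
    R ≤ Subgroup.centralizer (V : Set G) := by
  let _ : CommGroup V := { (inferInstance : Group V) with mul_comm := fun a b => Subtype.ext (hVab a a.2 b b.2) }
  let ρ : R →* AddMonoid.End (Additive V) :=
    { toFun := fun r => MonoidHom.toAdditive
        { toFun := fun v => ⟨r * v * (r : G)⁻¹, hVn.conj_mem v v.2 r⟩
          map_one' := Subtype.ext (by simp)
          map_mul' := fun v w => Subtype.ext (by simp) }
      map_one' := AddMonoidHom.ext fun v => Additive.toMul.injective (Subtype.ext (by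
        change (1 : G) * ((Additive.toMul v : V) : G) * (1 : G)⁻¹ = ((Additive.toMul v : V) : G)
        rw [one_mul, inv_one, mul_one]))
      map_mul' := fun g h => AddMonoidHom.ext fun v => Additive.toMul.injective (Subtype.ext (by
        change ((g : G) * h) * ((Additive.toMul v : V) : G) * ((g : G) * h)⁻¹ = g * (h * ((Additive.toMul v : V) : G) * (h : G)⁻¹) * (g : G)⁻¹
        group)) }
  let f : AddMonoid.End (Additive V) := MonoidHom.toAdditive (res φ V hV)
  have hρ : ∀ (r : R) (m : Additive V), ((Additive.toMul (ρ r m) : V) : G) = r * (Additive.toMul m : V) * (r : G)⁻¹ :=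
    fun r m => rfl
  have hf : ∀ (m : Additive V), ((Additive.toMul (f m) : V) : G) = φ (Additive.toMul m : V) := fun m => rfl
  have hfi : ∀ (i : ℕ) (m : Additive V), Additive.toMul ((f ^ i) m) = (res φ V hV)^[i] (Additive.toMul m) := by
    intro i
    induction i with
    | zero => intro m; rfl
    | succ i ih =>
      intro m
      rw [pow_succ]
      change Additive.toMul ((f ^ i) (f m)) = _
      rw [ih]
      rfl
  intro r hr
  rw [Subgroup.mem_centralizer_iff]
  intro v hv
  have key := smul_fixed (res φ R hR) (res_fpf hφ R hR) hp (res_pow hpow R hR) ρ f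
    (fun x m => Additive.toMul.injective (Subtype.ext (by
      change φ ((x : G) * (Additive.toMul m : V) * (x : G)⁻¹) = φ x * φ (Additive.toMul m : V) * (φ x)⁻¹
      rw [map_mul, map_mul, map_inv]))) (fun m => by
      obtain ⟨n, hn⟩ := (res_fpf hφ V hV).commutatorMap_surjective (Additive.toMul m)
      have h1 : m = Additive.ofMul n - f (Additive.ofMul n) := hn.symm
      have h2 : ∀ i ∈ Finset.range p, (f ^ i) m = (f ^ i) (Additive.ofMul n) - (f ^ (i + 1)) (Additive.ofMul n) := by
        intro i _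
        rw [h1, map_sub, pow_succ]; rfl
      rw [Finset.sum_congr rfl h2, Finset.sum_range_sub']
      have h3 : (f ^ p) (Additive.ofMul n) = Additive.ofMul n := by
        apply Additive.toMul.injective
        rw [hfi, res_pow hpow V hV]; rfl
      rw [h3, pow_zero]
      exact sub_self _) (Additive.ofMul ⟨v, hv⟩) ⟨r, hr⟩
  have key2 : r * v ^ Nat.card R * r⁻¹ = v ^ Nat.card R := congrArg (fun m : Additive V => ((Additive.toMul m : V) : G)) key
  obtain ⟨m, hm⟩ := exists_pow_eq_self_of_coprime (x := v) (n := Nat.card R)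
    (Nat.Coprime.coprime_dvd_right (Subgroup.orderOf_dvd_natCard V hv) hc)
  have h1 : Commute r (v ^ Nat.card R) := by
    change r * v ^ Nat.card R = v ^ Nat.card R * r
    rw [← mul_inv_eq_iff_eq_mul]; exact key2
  have h2 := h1.pow_right m
  rw [hm] at h2
  exact h2.eq.symm

theorem npc_of_nilpotent {q : ℕ} [Fact q.Prime] (h : Group.IsNilpotent G) : NPC q G := by
  rw [npc_iff_frobCond]
  intro Q hQ g hg ho
  have hcop : Coprime.CopAct (Subgroup.zpowers g) Q := by
    refine ⟨by rw [Subgroup.zpowers_le]; exact hg, ?_, Or.inr ?_⟩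
    · obtain ⟨n, hn⟩ := IsPGroup.iff_card.mp hQ
      rw [Nat.card_zpowers, hn]; exact Nat.Coprime.pow_right n ho
    · have := hQ.isNilpotent
      infer_instance
  have h1 := hcop.commutator_commutator
  have h2 : Group.IsNilpotent (⊤ : Subgroup G) := Group.isNilpotent_top.mpr h
  have h3 := Coprime.eq_bot_of_le_commutator h2 le_top le_top h1.ge
  have h4 := hcop.le_centralizer_of_commutator_commutator (by rw [h3]; exact Subgroup.commutator_bot_left _)
  exact h4 (Subgroup.mem_zpowers g)

/-- the solvable case -/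
theorem solvable_case {φ : G →* G} (hφ : FixedPointFree φ) {p : ℕ} (hp : p.Prime) (hpow : φ^[p] = _root_.id)
    (IH : ∀ N : Subgroup G, ∀ _ : N.Normal, N ≠ ⊥ → (∀ x ∈ N, φ x ∈ N) → Group.IsNilpotent (G ⧸ N))
    (hs : Group.IsSolvable G) : Group.IsNilpotent G := by
  classical
  rcases subsingleton_or_nontrivial G with hsub | hnt
  · infer_instance
  have hb := bijective_of_iterate hp hpow
  -- a minimal invariant normal subgroup
  let S : Set (Subgroup G) := {N | N.Normal ∧ N ≠ ⊥ ∧ ∀ x ∈ N, φ x ∈ N}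
  have hSne : S.Nonempty := ⟨⊤, inferInstance, by
    intro h; exact (not_subsingleton G) (Subgroup.subsingleton_iff.mp (subsingleton_of_bot_eq_top h.symm)), fun _ _ => trivial⟩
  obtain ⟨N, ⟨hNn, hNb, hNφ⟩, hmin⟩ := Set.exists_min_image S (fun N => Nat.card N) (Set.toFinite _) hSne
  have hmin' : ∀ X : Subgroup G, X.Normal → X ≤ N → (∀ x ∈ X, φ x ∈ X) → X ≠ ⊥ → X = N := by
    intro X h1 h2 h3 h4
    exact Subgroup.eq_of_le_of_card_ge h2 (hmin X ⟨h1, h4, h3⟩)
  have hNab : ∀ x ∈ N, ∀ y ∈ N, x * y = y * x := by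
    have h1 : (⁅N, N⁆ : Subgroup G) ≤ N := Subgroup.commutator_le_left N N
    have h2 : ∀ x ∈ (⁅N, N⁆ : Subgroup G), φ x ∈ (⁅N, N⁆ : Subgroup G) := by
      apply invariant_of_map_eq
      rw [Subgroup.map_commutator, map_eq_of_invariant hb.1 hNφ]
    by_cases h3 : (⁅N, N⁆ : Subgroup G) = ⊥
    · intro x hx y hy
      have h4 := Subgroup.commutator_mem_commutator hx hy
      rw [h3, Subgroup.mem_bot] at h4
      exact commutatorElement_eq_one_iff_mul_comm.mp h4
    · exfalso
      have h4 := hmin' _ (Subgroup.commutator_normal N N) h1 h2 h3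
      have h5 : Group.IsSolvable N := inferInstance
      obtain ⟨n, hn⟩ := hs.solvable
      have h6 : ∀ k, N ≤ derivedSeries G k := by
        intro k
        induction k with
        | zero => exact le_top
        | succ k ih => rw [derivedSeries_succ, ← h4]; exact Subgroup.commutator_mono ih ih
      exact hNb (le_bot_iff.mp (hn ▸ h6 n))
  -- prime dividing `|N|`
  have h1 : Nat.card N ≠ 1 := by rwa [Ne, Subgroup.card_eq_one]
  obtain ⟨q, hq, hqd⟩ := Nat.exists_prime_and_dvd h1
  have : Fact q.Prime := ⟨hq⟩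
  have hNq : IsPGroup q N := by
    let X : Subgroup G :=
      { carrier := {x | x ∈ N ∧ x ^ q = 1}
        one_mem' := ⟨N.one_mem, one_pow _⟩
        mul_mem' := by
          rintro a b ⟨ha, ha'⟩ ⟨hb, hb'⟩
          refine ⟨N.mul_mem ha hb, ?_⟩
          have : Commute a b := hNab a ha b hb
          rw [this.mul_pow, ha', hb', one_mul]
        inv_mem' := by
          rintro a ⟨ha, ha'⟩
          exact ⟨N.inv_mem ha, by rw [inv_pow, ha', inv_one]⟩ }
    have hX : X = N := by
      apply hmin'
      · constructor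
        rintro x ⟨hx, hx'⟩ g
        exact ⟨hNn.conj_mem x hx g, by rw [conj_pow, hx']; simp⟩
      · intro x hx; exact hx.1
      · rintro x ⟨hx, hx'⟩
        exact ⟨hNφ x hx, by rw [← map_pow, hx', map_one]⟩
      · obtain ⟨x, hx⟩ := exists_prime_orderOf_dvd_card' q hqd
        intro hXb
        have h2 : (x : G) ∈ X := ⟨x.2, by
          have : x ^ q = 1 := by rw [← hx]; exact pow_orderOf_eq_one x
          exact congrArg Subtype.val this⟩
        rw [hXb, Subgroup.mem_bot] at h2
        have h3 : x = 1 := Subtype.ext h2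
        rw [h3, orderOf_one] at hx
        exact hq.one_lt.ne hx
    rintro ⟨x, hx⟩
    rw [← hX] at hx
    exact ⟨1, Subtype.ext (by rw [pow_one]; exact hx.2)⟩
  -- Sylow subgroups for other primes centralize `N`
  have hcent : ∀ r : ℕ, ∀ _ : Fact r.Prime, r ≠ q → ∀ R : Sylow r G, (R : Subgroup G) ≤ Subgroup.centralizer (N : Set G) := by
    intro r hr hrq R
    obtain ⟨P, hP⟩ := exists_sylow hφ hp hpow r
    have h2 : (P : Subgroup G) ≤ Subgroup.centralizer (N : Set G) := by
      apply centralize hφ hp hpow hNn hNφ hNab (invariant_of_map_eq hP)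
      obtain ⟨a, ha⟩ := IsPGroup.iff_card.mp P.isPGroup'
      obtain ⟨b, hb⟩ := IsPGroup.iff_card.mp hNq
      rw [ha, hb]
      exact Nat.Coprime.pow _ _ ((Nat.coprime_primes hr.out hq).mpr hrq)
    obtain ⟨g, hg⟩ := MulAction.exists_smul_eq G P R
    have h3 : (R : Subgroup G) = (P : Subgroup G).map (MulAut.conj g).toMonoidHom := by rw [← hg]; rfl
    rw [h3]
    rintro _ ⟨x, hx, rfl⟩
    exact (Solv.normal_centralizer_of_normal hNn).conj_mem x (h2 hx) g
  -- the centre is nontrivial
  obtain ⟨Q⟩ : Nonempty (Sylow q G) := inferInstance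
  have hNQ : N ≤ Q := hNq.le_sylow_of_normal Q
  have hfix : ∃ x ∈ N, x ≠ 1 ∧ ∀ y ∈ (Q : Subgroup G), y * x = x * y := by
    have h2 : (Q : Subgroup G) ≤ Subgroup.normalizer (N : Set G) := by
      rw [Subgroup.normalizer_eq_top_iff.mpr hNn]; exact le_top
    have h0 : (N.subgroupOf Q).Normal := Subgroup.normal_subgroupOf_of_le_normalizer h2
    have hne : N.subgroupOf Q ≠ ⊥ := by
      intro hbot
      apply hNb
      rw [Subgroup.subgroupOf_eq_bot] at hbot
      rw [eq_bot_iff]
      intro x hx
      exact Subgroup.disjoint_def.mp hbot hx (hNQ hx)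
    have h3 := PGrp.inf_center_ne_bot Q.isPGroup' h0 hne
    obtain ⟨⟨x, hx⟩, hx1⟩ := (Subgroup.ne_bot_iff_exists_ne_one).mp h3
    refine ⟨x, hx.1, ?_, ?_⟩
    · intro h; apply hx1; apply Subtype.ext; exact Subtype.ext h
    · intro y hy
      exact congrArg Subtype.val (Subgroup.mem_center_iff.mp hx.2 ⟨y, hy⟩)
  obtain ⟨x, hxN, hx1, hxQ⟩ := hfix
  have hxc : x ∈ Subgroup.center G := by
    have htop : Subgroup.centralizer {x} = ⊤ := by
      rw [← Subgroup.index_eq_one]
      by_contra hne
      obtain ⟨r, hr, hrd⟩ := Nat.exists_prime_and_dvd hne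
      have : Fact r.Prime := ⟨hr⟩
      have hle : ∃ R : Sylow r G, (R : Subgroup G) ≤ Subgroup.centralizer {x} := by
        by_cases hrq : r = q
        · subst hrq
          refine ⟨Q, fun y hy => ?_⟩
          rw [Subgroup.mem_centralizer_singleton_iff]
          exact hxQ y hy
        · obtain ⟨R⟩ : Nonempty (Sylow r G) := inferInstance
          refine ⟨R, fun y hy => ?_⟩
          rw [Subgroup.mem_centralizer_singleton_iff]
          exact (Subgroup.mem_centralizer_iff.mp (hcent r ‹_› hrq R hy) x hxN).symm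
      obtain ⟨R, hR⟩ := hle
      exact R.not_dvd_index (hrd.trans (Subgroup.index_dvd_of_le hR))
    rw [Subgroup.mem_center_iff]
    intro g
    have : g ∈ Subgroup.centralizer {x} := by rw [htop]; trivial
    rwa [Subgroup.mem_centralizer_singleton_iff] at this
  have hZ : Subgroup.center G ≠ ⊥ := by
    intro h
    rw [h, Subgroup.mem_bot] at hxc
    exact hx1 hxc
  have := IH (Subgroup.center G) inferInstance hZ (char_invariant hb inferInstance)
  exact Group.of_quotient_center_nilpotent this

/-- **Thompson's theorem** on fixed-point-free automorphisms of prime order. -/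
theorem nilpotent_aux {p : ℕ} (hp : p.Prime) (n : ℕ) : ∀ (G : Type u) [Group G] [Finite G], Nat.card G ≤ n →
    ∀ φ : G →* G, FixedPointFree φ → φ^[p] = _root_.id → Group.IsNilpotent G := by
  induction n with
  | zero =>
    intro G _ _ h
    have : 0 < Nat.card G := Nat.card_pos
    omega
  | succ n ih =>
    intro G _ _ hn φ hφ hpow
    have hb := bijective_of_iterate hp hpow
    have hquot : ∀ N : Subgroup G, N ≠ ⊥ → Nat.card (G ⧸ N) ≤ n := by
      intro N hN
      have h1 := Subgroup.card_mul_index N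
      have h2 : 1 < Nat.card N := by
        have := Nat.card_pos (α := N)
        have h3 : Nat.card N ≠ 1 := by rwa [Ne, Subgroup.card_eq_one]
        omega
      have h3 : Nat.card (G ⧸ N) = N.index := rfl
      have h4 : 0 < N.index := Nat.pos_of_ne_zero Subgroup.index_ne_zero_of_finite
      rw [h3]
      nlinarith
    have IH1 : ∀ N : Subgroup G, ∀ _ : N.Normal, N ≠ ⊥ → (∀ x ∈ N, φ x ∈ N) → Group.IsNilpotent (G ⧸ N) := by
      intro N hNn hN hNφ
      exact ih (G ⧸ N) (hquot N hN) (QuotientGroup.map N N φ hNφ) (quot_fpf hφ N hNφ) (quot_pow hpow N hNφ)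
    have IH2 : ∀ M : Subgroup G, M ≠ ⊤ → (∀ x ∈ M, φ x ∈ M) → Group.IsNilpotent M := by
      intro M hM hMφ
      have h1 : Nat.card M < Nat.card G := by
        rw [← Subgroup.card_top (G := G)]
        have h2 : M < ⊤ := lt_top_iff_ne_top.mpr hM
        exact Set.Finite.card_lt_card (Set.toFinite _) h2
      exact ih M (by omega) (res φ M hMφ) (res_fpf hφ M hMφ) (res_pow hpow M hMφ)
    by_cases hs : Group.IsSolvable G
    · exact solvable_case hφ hp hpow IH1 hs
    exfalso
    have hsolv : ∀ N : Subgroup G, ∀ _ : N.Normal, Group.IsSolvable N → Group.IsSolvable (G ⧸ N) → False := by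
      intro N hNn h1 h2
      exact hs (Group.isSolvable_of_ker_le_range N.subtype (QuotientGroup.mk' N) (by
        rw [QuotientGroup.ker_mk', Subgroup.range_subtype]))
    -- an odd prime divisor
    have hodd : ∃ q : ℕ, q.Prime ∧ q ≠ 2 ∧ q ∣ Nat.card G := by
      by_contra hc
      push Not at hc
      have h1 : IsPGroup 2 G := by
        have h2 : ∀ q : ℕ, q.Prime → q ∣ Nat.card G → q = 2 := fun q hq hd => by
          by_contra hne
          exact hc q hq hne hd
        exact IsPGroup.of_card (Nat.eq_prime_pow_of_unique_prime_dvd Nat.card_pos.ne' (fun {q} hq hd => h2 q hq hd))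
      have : Fact (Nat.Prime 2) := ⟨Nat.prime_two⟩
      have := h1.isNilpotent
      exact hs inferInstance
    obtain ⟨q, hq, hq2, hqd⟩ := hodd
    have : Fact q.Prime := ⟨hq⟩
    obtain ⟨P, hP⟩ := exists_sylow hφ hp hpow q
    have hPb : (P : Subgroup G) ≠ ⊥ := P.ne_bot_of_dvd_card hqd
    have hJ : (J q (P : Subgroup G)).map φ = J q (P : Subgroup G) := by
      rw [← J_map φ hb.1.injOn, hP]
    have hZ : (Z (P : Subgroup G)).map φ = Z (P : Subgroup G) := by
      rw [← Z_map φ hb.1.injOn, hP]
    have key : ∀ W : Subgroup G, IsPGroup q W → W ≠ ⊥ → W.map φ = W → NPC q (Subgroup.normalizer (W : Set G)) := by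
      intro W hW hWb hWφ
      by_cases ht : Subgroup.normalizer (W : Set G) = ⊤
      · exfalso
        have hWn : W.Normal := Subgroup.normalizer_eq_top_iff.mp ht
        have h1 := IH1 W hWn hWb (invariant_of_map_eq hWφ)
        have h2 := hW.isNilpotent
        exact hsolv W hWn inferInstance inferInstance
      · have h1 := IH2 _ ht (by
          intro x hx
          have h2 := Subgroup.le_normalizer_map (H := W) φ ⟨x, hx, rfl⟩
          rwa [hWφ] at h2)
        exact npc_of_nilpotent h1
    have hnpc : NPC q G := by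
      rw [thompson hq2 P]
      refine ⟨key _ (P.isPGroup'.to_le (J_le q _)) (J_ne_bot P.isPGroup' hPb) hJ, ?_⟩
      exact (key _ (P.isPGroup'.to_le (Z_le _)) (Z_ne_bot P.isPGroup' hPb) hZ).of_le (centralizer_le_normalizer _)
    obtain ⟨K, hKn, hKc, k, hk⟩ := hnpc
    have hKφ : ∀ x ∈ K, φ x ∈ K := by
      intro x hx
      rw [mem_iff_coprime hKc hk] at hx ⊢
      rw [orderOf_injective φ hb.1]; exact hx
    have hKt : K ≠ ⊤ := by
      intro h
      rw [h, Subgroup.card_top] at hKc
      exact (Nat.Prime.coprime_iff_not_dvd hq).mp hKc.symm hqd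
    have h1 := IH2 K hKt hKφ
    have h2 : IsPGroup q (G ⧸ K) := IsPGroup.of_card hk
    have h3 := h2.isNilpotent
    exact hsolv K hKn inferInstance inferInstance


theorem nilpotent_of_fpf {p : ℕ} (hp : p.Prime) (φ : G →* G) (hφ : FixedPointFree φ) (hpow : φ^[p] = _root_.id) :
    Group.IsNilpotent G := nilpotent_aux hp _ G le_rfl φ hφ hpow

end

end H5Fpf
end CfsgLib
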