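import Mathlib
import Cfsg.Agent.Lib.CohTI
import Cfsg.Agent.Lib.H5Fpf

/-!
# Frobenius kernels (in centralizer form) are nilpotent
-/

set_option autoImplicit false
set_option linter.style.haveILetI false

namespace CfsgLib.FrobNil

universe u

variable {N : Type u} [Group N] {H : Subgroup N}

/-- an element of prime order outside the kernel -/
theorem exists_prime_not_mem [Finite N] (hH2 : H ≠ ⊤) (hC : ∀ h ∈ H, h ≠ 1 → Subgroup.centralizer ({h} : Set N) ≤ H) :
    ∃ (q : ℕ) (w : N), q.Prime ∧ orderOf w = q ∧ w ∉ H := by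
  have hi : H.index ≠ 1 := fun h => hH2 (Subgroup.index_eq_one.mp h)
  obtain ⟨q, hq, hqd⟩ := Nat.exists_prime_and_dvd hi
  haveI := Fact.mk hq
  have h1 : q ∣ Nat.card N := hqd.trans (Subgroup.index_dvd_card H)
  obtain ⟨w, hw⟩ := exists_prime_orderOf_dvd_card' q h1
  refine ⟨q, w, hq, hw, fun hwH => ?_⟩
  have h2 : q ∣ Nat.card H := by
    rw [← hw, ← Subgroup.orderOf_mk w hwH]
    exact orderOf_dvd_natCard _
  have h3 := CohTI.hall hC
  have h4 := Nat.dvd_gcd h2 hqd
  rw [h3] at h4
  exact hq.one_lt.ne' (Nat.dvd_one.mp h4)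

theorem conj_iterate [H.Normal] (w : N) (n : ℕ) (x : H) :
    (((MulAut.conjNormal w : MulAut H).toMonoidHom)^[n] x : N) = w ^ n * x * (w ^ n)⁻¹ := by
  induction n generalizing x with
  | zero => simp
  | succ n ih =>
    rw [Function.iterate_succ_apply, ih]
    show w ^ n * (((MulAut.conjNormal w : MulAut H) x : H) : N) * (w ^ n)⁻¹ = _
    rw [MulAut.conjNormal_apply]
    group

theorem frob_nilpotent [Finite N] [H.Normal] (hH2 : H ≠ ⊤) (hC : ∀ h ∈ H, h ≠ 1 → Subgroup.centralizer ({h} : Set N) ≤ H) :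
    Group.IsNilpotent H := by
  obtain ⟨q, w, hq, hw, hwH⟩ := exists_prime_not_mem hH2 hC
  apply H5Fpf.nilpotent_of_fpf hq ((MulAut.conjNormal w : MulAut H).toMonoidHom)
  · intro x hx
    have h1 : w * (x : N) * w⁻¹ = x := by
      have := congrArg (Subtype.val : H → N) hx
      have h2 := conj_iterate (H := H) w 1 x
      rw [Function.iterate_one, pow_one] at h2
      rw [← h2]
      exact this
    by_contra hx1
    apply hwH
    apply hC x x.2 (fun h => hx1 (Subtype.ext h))
    rw [Subgroup.mem_centralizer_iff]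
    intro y hy
    rw [Set.mem_singleton_iff] at hy
    rw [hy]
    calc (x : N) * w = w * (x : N) * w⁻¹ * w := by rw [h1]
      _ = w * x := by group
  · funext x
    apply Subtype.ext
    rw [conj_iterate, ← hw, pow_orderOf_eq_one]
    simp

end CfsgLib.FrobNil
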