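import Mathlib
import Cfsg.Agent.Lib.CNOdd
import Cfsg.Agent.Lib.Sibley3
import Cfsg.Agent.Lib.FrobNil

/-!
# One TI Frobenius subgroup of odd order
-/

set_option autoImplicit false
set_option linter.style.haveILetI false
set_option linter.unusedSectionVars false

open scoped ComplexConjugate commutatorElement

namespace CfsgLib.CNOdd2

open Cfsg CfsgLib.CharBasic CfsgLib.CharInd CfsgLib.CharClifford CfsgLib.CharCoh CfsgLib.FrobQuot CfsgLib.FrobCoh CfsgLib.Sibley2 CfsgLib.CNOdd

universe u v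

section coh

variable {G : Type u} [Group G] [Fintype G]

theorem coherent_odd (H L : Subgroup G) [Fintype L] (hodd : Odd (Nat.card L)) (hlt : H < L) (hH1 : H ≠ ⊥) (hHn : ∀ x ∈ L, ∀ h ∈ H, x * h * x⁻¹ ∈ H)
    (hfrob : ∀ h ∈ H, h ≠ 1 → L ⊓ Subgroup.centralizer ({h} : Set G) ≤ H) (hTI : IsTISubset (H : Set G)) (hN : Subgroup.normalizer (H : Set G) = L) :
    IsCoherent (inducedIrrAbove (H.subgroupOf L) ⊥) {1}ᶜ (fun α : L → ℂ => indFun L α) := by
  classical
  have hHL : H ≤ L := hlt.le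
  haveI hnorm : (H.subgroupOf L).Normal := by
    refine ⟨fun h hh x => ?_⟩
    rw [Subgroup.mem_subgroupOf] at hh ⊢
    exact hHn x x.2 _ hh
  obtain ⟨K, hK⟩ : ∃ K : Subgroup L, K = H.subgroupOf L := ⟨_, rfl⟩
  haveI hKn : K.Normal := by rw [hK]; exact hnorm
  have hC : ∀ k ∈ H, k ≠ 1 → Subgroup.centralizer ({k} : Set G) ≤ H := by
    intro k hk hk1 x hx
    have h1 := Subgroup.mem_centralizer_iff.mp hx k rfl
    have hxL : x ∈ L := by
      rw [← hN]
      by_contra h
      apply hk1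
      apply hTI x h k hk
      rw [← h1, mul_inv_cancel_right]
      exact hk
    exact hfrob k hk hk1 (Subgroup.mem_inf.mpr ⟨hxL, hx⟩)
  have hCK : ∀ h ∈ K, h ≠ 1 → Subgroup.centralizer ({h} : Set L) ≤ K := by
    rw [hK]; exact CohTI.hC_sub hC
  have hTI' : ∀ g : G, g ∉ L → ∀ k ∈ H, g * k * g⁻¹ ∈ H → k = 1 := by
    intro g hg k hk hgk
    rw [← hN] at hg
    exact hTI g hg k hk hgk
  have hiso : IsLinearIsometryOn (zspanOn (inducedIrrAbove K (⊥ : Subgroup L)) {1}ᶜ) (fun α => indFun L α) := by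
    rw [hK]; exact CohTI.ti_isometry hTI'
  have hone : ∀ α ∈ zspanOn (inducedIrrAbove K (⊥ : Subgroup L)) {1}ᶜ, (fun α => indFun L α) α 1 = 0 := by
    rw [hK]; exact fun α hα => CohTI.ti_one hα
  rw [← hK]
  have hcardK : Nat.card K = Nat.card H := by
    rw [hK]; exact Nat.card_congr (Subgroup.subgroupOfEquivOfLe hHL).toEquiv
  have hKtop : K ≠ ⊤ := by
    intro h
    rw [hK, Subgroup.subgroupOf_eq_top] at h
    exact hlt.not_ge h
  have hnilK : Group.IsNilpotent K := FrobNil.frob_nilpotent hKtop hCK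
  have hKbot : K ≠ ⊥ := by
    intro h
    apply hH1
    rw [Subgroup.eq_bot_iff_forall]
    intro w hw
    have h1 : (⟨w, hHL hw⟩ : L) ∈ K := by rw [hK, Subgroup.mem_subgroupOf]; exact hw
    rw [h, Subgroup.mem_bot] at h1
    exact congrArg (Subtype.val : L → G) h1
  have hodd2 : Odd (Nat.card K) := hodd.of_dvd_nat (Subgroup.card_subgroup_dvd_card K)
  have hodd3 : Odd K.index := hodd.of_dvd_nat (Subgroup.index_dvd_card K)
  rcases frob_main hCK hiso hone hnilK hKtop hKbot (fun h => (Nat.not_even_iff_odd.mpr hodd2) (by rw [h]; exact hodd3.add_odd odd_one)) with h | ⟨p, hp, ⟨m, hm⟩, hna, -⟩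
  · exact h
  · haveI := Fact.mk hp
    have hp2 : p ≠ 2 := by
      rintro rfl
      have hm0 : m ≠ 0 := by
        rintro rfl
        rw [pow_zero] at hm
        exact hKbot (Subgroup.card_eq_one.mp hm)
      rw [hm] at hodd2
      exact (Nat.not_even_iff_odd.mpr hodd2) (even_iff_two_dvd.mpr (dvd_pow_self 2 hm0))
    have hpH : IsPGroup p H := IsPGroup.iff_card.mpr ⟨m, by rw [← hcardK, hm]⟩
    have hcop := CohTI.hall hC
    have hHp : ∃ P : Sylow p G, (P : Subgroup G) = H := by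
      have hm0 : m ≠ 0 := by
        rintro rfl
        rw [pow_zero] at hm
        exact hKbot (Subgroup.card_eq_one.mp hm)
      have hnd : ¬ p ∣ H.index := by
        intro h
        rw [← hcardK, hm] at hcop
        have h1 : p ∣ 1 := by
          rw [← hcop]
          exact Nat.dvd_gcd (dvd_pow_self p hm0) h
        exact hp.one_lt.ne' (Nat.dvd_one.mp h1)
      exact ⟨hpH.toSylow hnd, rfl⟩
    obtain ⟨P, rfl⟩ := hHp
    exact sibley hp2 hTI hC L hN.symm K hK hKtop hna

end coh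

end CfsgLib.CNOdd2
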