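import Mathlib
import Cfsg.Agent.Lib.COX6

/-! The centre of a finite crystallographic Coxeter group, and generation by the Coxeter element and one or two
simple reflections. -/

namespace CfsgLib.BNP

open Matrix

variable {W : Type*} [Group W] {n : ℕ}

namespace Cox

variable {σ : Fin n → W} {A : Matrix (Fin n) (Fin n) ℤ} (K : Cox σ A)

include K

theorem eq_of_wt {w w' : W} (h : ∀ j, K.wt w (Pi.single j 1) = K.wt w' (Pi.single j 1)) : w = w' := by
  have h1 : w'⁻¹ * w = 1 := by
    apply K.eq_one_of_wt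
    intro j
    rw [K.wt_mul, h j, K.wt_inv_wt]
  rw [inv_mul_eq_one] at h1
  exact h1.symm

theorem central_smul {z : W} (hz : ∀ w, z * w = w * z) (i : Fin n) :
    K.ρ z (sr i) = (K.ρ z (sr i) i) • sr i := by
  have h1 : K.ρ (σ i) (K.ρ z (sr i)) = - K.ρ z (sr i) := by
    rw [← Module.End.mul_apply, ← map_mul, ← hz, map_mul, Module.End.mul_apply, K.ρ_σ, rf_apply, cof_sr,
      K.diag, ← map_neg]
    congr 1
    module
  rw [K.ρ_σ, rf_apply] at h1
  funext j
  have h2 := congrFun h1 j
  simp only [Pi.sub_apply, Pi.smul_apply, Pi.neg_apply, smul_eq_mul] at h2 ⊢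
  by_cases hj : j = i
  · subst hj
    simp [sr]
  · have h3 : (sr i : Fin n → ℤ) j = 0 := by simp [sr, hj]
    rw [h3] at h2 ⊢
    linarith

theorem central_unit {z : W} (hz : ∀ w, z * w = w * z) (i : Fin n) :
    K.ρ z (sr i) i = 1 ∨ K.ρ z (sr i) i = -1 := by
  have hz' : ∀ w, z⁻¹ * w = w * z⁻¹ := by
    intro w
    rw [inv_mul_eq_iff_eq_mul, ← mul_assoc, hz w, mul_inv_cancel_right]
  have h1 := K.central_smul hz i
  have h2 := K.central_smul hz' i
  have h3 := K.ρ_inv_mul z (sr i)
  rw [h1, map_smul, h2, smul_smul] at h3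
  have h4 := congrFun h3 i
  simp only [Pi.smul_apply, smul_eq_mul, sr, Pi.single_eq_same, mul_one] at h4
  exact Int.eq_one_or_neg_one_of_mul_eq_one h4

theorem central_adj {z : W} (hz : ∀ w, z * w = w * z) {i j : Fin n} (hA : A i j ≠ 0) :
    K.ρ z (sr i) i = K.ρ z (sr j) j := by
  by_cases hij : i = j
  · rw [hij]
  have h1 : K.ρ z (K.ρ (σ i) (sr j)) = K.ρ (σ i) (K.ρ z (sr j)) := by
    rw [← Module.End.mul_apply, ← map_mul, hz, map_mul, Module.End.mul_apply]
  obtain ⟨ci, hci⟩ : ∃ ci, ci = K.ρ z (sr i) i := ⟨_, rfl⟩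
  obtain ⟨cj, hcj⟩ : ∃ cj, cj = K.ρ z (sr j) j := ⟨_, rfl⟩
  have e1 := K.central_smul hz i
  have e2 := K.central_smul hz j
  rw [← hci] at e1 ⊢
  rw [← hcj] at e2 ⊢
  rw [e2, map_smul, K.ρ_σ, rf_apply, cof_sr, map_sub, map_smul, e1, e2] at h1
  have h2 := congrFun h1 i
  have h3 : (sr j : Fin n → ℤ) i = 0 := by simp [sr, hij]
  have h4 : (sr i : Fin n → ℤ) i = 1 := by simp [sr]
  simp only [Pi.sub_apply, Pi.smul_apply, smul_eq_mul, h3, h4] at h2
  have h5 : A i j * (ci - cj) = 0 := by linarith
  rcases mul_eq_zero.1 h5 with h6 | h6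
  · exact absurd h6 hA
  · linarith

/-- a central element acts as `1` or `-1` -/
theorem central_dich {r : Fin n → ℕ} {j0 : Fin n} (hc : ∀ j, j = j0 ∨ ∃ i, r i < r j ∧ A i j ≠ 0) {z : W}
    (hz : ∀ w, z * w = w * z) : z = 1 ∨ ∀ v, K.ρ z v = -v := by
  have h1 : ∀ m : ℕ, ∀ j, r j ≤ m → K.ρ z (sr j) j = K.ρ z (sr j0) j0 := by
    intro m
    induction m with
    | zero =>
      intro j hj
      rcases hc j with h | ⟨i, h, -⟩
      · rw [h]
      · omega
    | succ m ih =>
      intro j hj
      rcases hc j with h | ⟨i, h, h'⟩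
      · rw [h]
      · rw [← K.central_adj hz h']
        exact ih i (by omega)
  have h2 : ∀ j, K.ρ z (sr j) = (K.ρ z (sr j0) j0) • sr j := by
    intro j
    rw [K.central_smul hz j, h1 (r j) j le_rfl]
  rcases K.central_unit hz j0 with h3 | h3
  · left
    apply K.ρ_injective
    rw [map_one]
    apply LinearMap.pi_ext'
    intro i
    apply LinearMap.ext_ring
    rw [LinearMap.comp_apply, LinearMap.comp_apply, LinearMap.single_apply, Module.End.one_apply]
    have h4 := h2 i
    rw [h3, one_smul] at h4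
    exact h4
  · right
    have h5 : K.ρ z = -1 := by
      apply LinearMap.pi_ext'
      intro i
      apply LinearMap.ext_ring
      rw [LinearMap.comp_apply, LinearMap.comp_apply, LinearMap.single_apply]
      have h4 := h2 i
      rw [h3, neg_one_smul] at h4
      exact h4
    intro v
    rw [h5]
    rfl

theorem center_of_neg {r : Fin n → ℕ} {j0 : Fin n} (hc : ∀ j, j = j0 ∨ ∃ i, r i < r j ∧ A i j ≠ 0) {z : W}
    (hz : ∀ v, K.ρ z v = -v) : Nat.card (Subgroup.center W) = 2 ∧ Subgroup.center W ≤ Subgroup.zpowers z := by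
  have h1 : z ∈ Subgroup.center W := by
    rw [Subgroup.mem_center_iff]
    intro g
    apply K.ρ_injective
    apply LinearMap.ext
    intro v
    rw [map_mul, map_mul, Module.End.mul_apply, Module.End.mul_apply, hz, hz, map_neg]
  have h2 : z ≠ 1 := by
    intro h
    have h3 := congrFun (hz (sr j0)) j0
    rw [h, map_one, Module.End.one_apply] at h3
    simp [sr] at h3
  have h3 : ∀ w ∈ Subgroup.center W, w = 1 ∨ w = z := by
    intro w hw
    rw [Subgroup.mem_center_iff] at hw
    rcases K.central_dich hc (fun g => (hw g).symm) with h | h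
    · left; exact h
    · right
      apply K.ρ_injective
      apply LinearMap.ext
      intro v
      rw [h, hz]
  have h4 : (Subgroup.center W : Set W) = {1, z} := by
    ext w
    constructor
    · intro hw
      exact h3 w hw
    · rintro (rfl | hw)
      · exact one_mem _
      · rw [Set.mem_singleton_iff] at hw
        rw [hw]; exact h1
  constructor
  · rw [← SetLike.coe_sort_coe, h4, Nat.card_coe_set_eq, Set.ncard_pair h2.symm]
  · intro w hw
    rcases h3 w hw with h | h
    · rw [h]; exact one_mem _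
    · rw [h]; exact Subgroup.mem_zpowers z

theorem center_of_mod {r : Fin n → ℕ} {j0 : Fin n} (hc : ∀ j, j = j0 ∨ ∃ i, r i < r j ∧ A i j ≠ 0)
    {f : Fin n → ℤ} {m : ℤ} (hf : ∀ i, m ∣ cof A i f) (hf2 : ¬ m ∣ 2 * f j0) :
    Subgroup.center W = ⊥ := by
  have hstep : ∀ (i : Fin n) (v : Fin n → ℤ), (∀ i, m ∣ cof A i v) → ∀ j, m ∣ (K.ρ (σ i) v) j - v j := by
    intro i v hv j
    rw [K.ρ_σ, rf_apply]
    simp only [Pi.sub_apply, Pi.smul_apply, smul_eq_mul]
    have h1 := hv i
    have h2 : v j - cof A i v * (sr i : Fin n → ℤ) j - v j = -(cof A i v * (sr i : Fin n → ℤ) j) := by ring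
    rw [h2, dvd_neg]
    exact Dvd.dvd.mul_right h1 _
  have hpres : ∀ (v v' : Fin n → ℤ), (∀ i, m ∣ cof A i v) → (∀ j, m ∣ v' j - v j) → ∀ i, m ∣ cof A i v' := by
    intro v v' hv hv' i
    have h1 : cof A i v' = cof A i v + ∑ j, A i j * (v' j - v j) := by
      rw [cof_apply, cof_apply, ← Finset.sum_add_distrib]
      apply Finset.sum_congr rfl
      intro j _
      ring
    rw [h1]
    exact dvd_add (hv i) (Finset.dvd_sum fun j _ => Dvd.dvd.mul_left (hv' j) _)
  have key : ∀ w : W, ∀ j, m ∣ (K.ρ w f) j - f j := by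
    intro w
    obtain ⟨l, rfl⟩ := K.inv.gen w
    induction l with
    | nil =>
      intro j
      rw [wd_nil, map_one, Module.End.one_apply, sub_self]
      exact dvd_zero _
    | cons i l ih =>
      intro j
      have h2 := hstep i _ (hpres f _ hf ih) j
      rw [wd_cons, map_mul, Module.End.mul_apply]
      have h3 := dvd_add h2 (ih j)
      rwa [sub_add_sub_cancel] at h3
  rw [eq_bot_iff]
  intro z hz
  rw [Subgroup.mem_center_iff] at hz
  rw [Subgroup.mem_bot]
  rcases K.central_dich hc (fun g => (hz g).symm) with h | h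
  · exact h
  · exfalso
    apply hf2
    have h1 := key z j0
    rw [h, Pi.neg_apply] at h1
    have h2 : 2 * f j0 = -(-f j0 - f j0) := by ring
    rw [h2, dvd_neg]
    exact h1

/-- the action of `-1` from a computation with weights -/
theorem neg_of_wt {z : W} (h : ∀ j, K.wt z (Pi.single j 1) = -Pi.single j 1) : ∀ v, K.ρ z v = -v := by
  have h1 : K.ρ z⁻¹ = -1 := by
    apply LinearMap.pi_ext'
    intro i
    apply LinearMap.ext_ring
    rw [LinearMap.comp_apply, LinearMap.comp_apply, LinearMap.single_apply]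
    funext j
    have h1 := congrFun (h j) i
    rw [wt_apply, single_one_dotProduct] at h1
    change K.ρ z⁻¹ (sr i) j = -(Pi.single i (1 : ℤ) : Fin n → ℤ) j
    rw [h1, Pi.neg_apply, Pi.single_apply, Pi.single_apply]
    simp [eq_comm]
  intro v
  have h2 := K.ρ_inv_mul z v
  rw [h1] at h2
  have h3 : -(K.ρ z v) = v := h2
  rw [← h3, neg_neg, h3]

end Cox

/-- iterate of the Coxeter element on labels -/
def cstI (n : ℕ) (rows : List (List ℤ)) : ℕ → List ℤ → List ℤ
  | 0, x => x
  | k + 1, x => cst n rows (cstI n rows k x)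

/-- check that the `k`-th power of the Coxeter element is `-1` -/
def chkNeg (n : ℕ) (rows : List (List ℤ)) (k : ℕ) : Bool :=
  (List.finRange n).all fun j => decide (cstI n rows k (indic n j) = (indic n j).map (fun a => -a))

/-- letters: `0` the Coxeter element, `1` its inverse, `2` and `3` two simple reflections -/
def blk (n : ℕ) (a b : Fin n) : ℕ → List (Fin n)
  | 0 => List.finRange n
  | 1 => (List.finRange n).reverse
  | 2 => [a]
  | _ => [b]

/-- check of a word for a simple reflection -/
def chkWd (n : ℕ) (rows : List (List ℤ)) (a b j : Fin n) (L : List ℕ) : Bool :=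
  (List.finRange n).all fun i => decide ((L.flatMap (blk n a b)).foldr (fun (i : Fin n) y => lrf rows i y) (indic n i) =
    lrf rows j (indic n i))

namespace Cox

variable {σ : Fin n → W} {A : Matrix (Fin n) (Fin n) ℤ} (K : Cox σ A)

include K

theorem cstI_spec {rows : List (List ℤ)} (hA : ∀ i j : Fin n, A i j = (rows.getD i []).getD j 0)
    (hr : ∀ i : Fin n, (rows.getD i []).length = n) (k : ℕ) {x : List ℤ} (hx : x.length = n) :
    K.wt (((List.finRange n).map σ).prod ^ k) (toW n x) = toW n (cstI n rows k x) ∧ (cstI n rows k x).length = n := by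
  induction k with
  | zero => rw [pow_zero, K.wt_one]; exact ⟨rfl, hx⟩
  | succ k ih =>
    obtain ⟨h1, h2⟩ := ih
    have h3 := K.wt_wd hA hr (List.finRange n) h2
    rw [pow_succ', K.wt_mul, h1]
    exact ⟨h3.1, h3.2⟩

theorem neg_of_chk {rows : List (List ℤ)} (hA : ∀ i j : Fin n, A i j = (rows.getD i []).getD j 0)
    (hr : ∀ i : Fin n, (rows.getD i []).length = n) {k : ℕ} (h : chkNeg n rows k = true) :
    ∀ v, K.ρ (((List.finRange n).map σ).prod ^ k) v = -v := by
  unfold chkNeg at h
  simp only [List.all_eq_true, decide_eq_true_eq] at h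
  apply K.neg_of_wt
  intro j
  have h1 := (K.cstI_spec hA hr k (x := indic n j) (by simp [indic])).1
  rw [K.toW_indic, h j (List.mem_finRange j)] at h1
  rw [h1, ← K.toW_indic]
  funext i
  unfold toW
  rw [Pi.neg_apply, List.getD_eq_getElem _ _ (by simp [indic]), List.getElem_map,
    List.getD_eq_getElem _ _ (by simp [indic])]

theorem mem_of_chk {rows : List (List ℤ)} (hA : ∀ i j : Fin n, A i j = (rows.getD i []).getD j 0)
    (hr : ∀ i : Fin n, (rows.getD i []).length = n) {a b j : Fin n} {L : List ℕ}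
    (h : chkWd n rows a b j L = true) (H : Subgroup W) (h0 : ((List.finRange n).map σ).prod ∈ H)
    (ha : σ a ∈ H) (hb : σ b ∈ H) : σ j ∈ H := by
  unfold chkWd at h
  simp only [List.all_eq_true, decide_eq_true_eq] at h
  have h1 : wd σ (L.flatMap (blk n a b)) = σ j := by
    apply K.eq_of_wt
    intro i
    have h2 := (K.wt_wd hA hr (L.flatMap (blk n a b)) (x := indic n i) (by simp [indic])).1
    have h3 := (K.wt_wd hA hr [j] (x := indic n i) (by simp [indic])).1
    rw [h i (List.mem_finRange i)] at h2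
    rw [wd_singleton] at h3
    rw [← K.toW_indic, h2, h3]
    rfl
  rw [← h1]
  have hblk : ∀ l : ℕ, wd σ (blk n a b l) ∈ H := by
    intro l
    match l with
    | 0 => exact h0
    | 1 =>
      change wd σ (List.finRange n).reverse ∈ H
      rw [K.inv.wd_reverse]
      exact H.inv_mem h0
    | 2 => change wd σ [a] ∈ H; rw [wd_singleton]; exact ha
    | (k + 3) => change wd σ [b] ∈ H; rw [wd_singleton]; exact hb
  clear h h1
  induction L with
  | nil => exact H.one_mem
  | cons l L ih =>
    rw [List.flatMap_cons, wd_append]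
    exact H.mul_mem (hblk l) ih

end Cox

end CfsgLib.BNP
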