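import Mathlib
import Cfsg.Prelude.Def_Characters
import Cfsg.Agent.Lib.CharBasic
import Cfsg.Agent.Lib.CharBasic2
import Cfsg.Agent.Lib.CharGalois

/-!
# Averages of squared character values over Galois conjugates
-/

set_option autoImplicit false
set_option linter.style.haveILetI false

open scoped ComplexConjugate

namespace CfsgLib.CharAvg

open Cfsg CfsgLib.CharBasic CfsgLib.CharGalois

universe u v

variable {G : Type u} [Group G]

/-- power of a group element by a unit of `ZMod n`, `n` a multiple of the order -/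
theorem pow_val_mul {n : ℕ} [NeZero n] {g : G} (hg : orderOf g ∣ n) (a b : ZMod n) :
    g ^ (a * b).val = (g ^ a.val) ^ b.val := by
  rw [← pow_mul, ZMod.val_mul]
  conv_rhs => rw [← Nat.mod_add_div (a.val * b.val) n, pow_add, pow_mul, orderOf_dvd_iff_pow_eq_one.mp hg, one_pow, mul_one]

theorem pow_val_natCast {n : ℕ} [NeZero n] {g : G} (hg : orderOf g ∣ n) (k : ℕ) :
    g ^ ((k : ZMod n)).val = g ^ k := by
  rw [ZMod.val_natCast]
  conv_rhs => rw [← Nat.mod_add_div k n, pow_add, pow_mul, orderOf_dvd_iff_pow_eq_one.mp hg, one_pow, mul_one]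

theorem ne_zero_pow [Finite G] {χ : G → ℂ} (h : IsGeneralizedCharacter G χ) {n : ℕ} [NeZero n] {g : G} (hg : orderOf g ∣ n)
    (h0 : χ g ≠ 0) (u : (ZMod n)ˣ) : χ (g ^ (u : ZMod n).val) ≠ 0 := by
  intro h1
  obtain ⟨τ, hτ⟩ := exists_ringEquiv_pow n (u : ZMod n).val (Nat.pos_of_ne_zero (NeZero.ne n)) (ZMod.val_coe_unit_coprime u)
  have h2 := gen_map_apply_eq h (τ : ℂ →+* ℂ) hτ hg
  rw [h1] at h2
  exact h0 ((map_eq_zero τ).mp h2)

theorem prod_int [Finite G] {χ : G → ℂ} (h : IsGeneralizedCharacter G χ) {n : ℕ} [NeZero n] {g : G} (hg : orderOf g ∣ n) :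
    ∃ m : ℤ, ∏ u : (ZMod n)ˣ, χ (g ^ (u : ZMod n).val) = m := by
  classical
  have hn : 0 < n := Nat.pos_of_ne_zero (NeZero.ne n)
  have hgu : ∀ u : (ZMod n)ˣ, orderOf (g ^ (u : ZMod n).val) ∣ n := fun u => (orderOf_pow_dvd _).trans hg
  obtain ⟨q, hq⟩ := rat_of_fixed hn (z := ∏ u : (ZMod n)ˣ, χ (g ^ (u : ZMod n).val)) (by
    apply Subfield.prod_mem
    intro u _
    exact char_mem_closure h (hgu u)) (by
    intro τ
    obtain ⟨k, hk, hτ⟩ := exists_pow_of_ringEquiv hn (τ : ℂ →+* ℂ)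
    rw [map_prod]
    have h1 : ∀ u : (ZMod n)ˣ, τ (χ (g ^ (u : ZMod n).val)) = χ (g ^ ((u * ZMod.unitOfCoprime k hk : (ZMod n)ˣ) : ZMod n).val) := by
      intro u
      have h2 := gen_map_apply_eq h (τ : ℂ →+* ℂ) hτ (hgu u)
      rw [Units.val_mul, pow_val_mul hg, ZMod.coe_unitOfCoprime, pow_val_natCast (hgu u)]
      exact h2
    rw [Finset.prod_congr rfl (fun u _ => h1 u)]
    exact Fintype.prod_equiv (Equiv.mulRight (ZMod.unitOfCoprime k hk)) _ _ (fun u => rfl))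
  refine isInt_of_isIntegral_of_rat ?_ hq
  apply IsIntegral.prod
  intro u _
  exact IsGeneralizedCharacter.isIntegral h _

/-- the average of `|χ|²` over the Galois conjugates of a nonzero value is at least one -/
theorem avg [Finite G] {χ : G → ℂ} (h : IsGeneralizedCharacter G χ) {n : ℕ} [NeZero n] {g : G} (hg : orderOf g ∣ n)
    (h0 : χ g ≠ 0) : (Fintype.card (ZMod n)ˣ : ℝ) ≤ ∑ u : (ZMod n)ˣ, ‖χ (g ^ (u : ZMod n).val)‖ ^ 2 := by
  classical
  obtain ⟨m, hm⟩ := prod_int h hg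
  have hne : ∀ u : (ZMod n)ˣ, χ (g ^ (u : ZMod n).val) ≠ 0 := ne_zero_pow h hg h0
  have hm0 : m ≠ 0 := by
    rintro rfl
    rw [Int.cast_zero, Finset.prod_eq_zero_iff] at hm
    obtain ⟨u, -, hu⟩ := hm
    exact hne u hu
  have h1 : 1 ≤ ∏ u : (ZMod n)ˣ, ‖χ (g ^ (u : ZMod n).val)‖ ^ 2 := by
    rw [Finset.prod_pow, ← norm_prod, hm]
    have h2 : (1 : ℝ) ≤ ‖(m : ℂ)‖ := by
      rw [Complex.norm_intCast]
      exact_mod_cast Int.one_le_abs hm0
    nlinarith
  have h2 : 0 ≤ ∑ u : (ZMod n)ˣ, Real.log (‖χ (g ^ (u : ZMod n).val)‖ ^ 2) := by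
    rw [← Real.log_prod (fun u _ => pow_ne_zero _ (norm_ne_zero_iff.mpr (hne u)))]
    exact Real.log_nonneg h1
  have h3 : ∀ u : (ZMod n)ˣ, Real.log (‖χ (g ^ (u : ZMod n).val)‖ ^ 2) ≤ ‖χ (g ^ (u : ZMod n).val)‖ ^ 2 - 1 := fun u =>
    Real.log_le_sub_one_of_pos (pow_pos (norm_pos_iff.mpr (hne u)) _)
  have h4 := h2.trans (Finset.sum_le_sum (fun u _ => h3 u))
  rw [Finset.sum_sub_distrib, Finset.sum_const, Finset.card_univ, nsmul_eq_mul, mul_one] at h4
  linarith

/-- for `u` prime to `n` the power map is a bijection -/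
theorem pow_val_bijective [Finite G] {n : ℕ} [NeZero n] (hn : ∀ g : G, orderOf g ∣ n) (u : (ZMod n)ˣ) :
    Function.Bijective (fun g : G => g ^ (u : ZMod n).val) := by
  rw [← Finite.injective_iff_bijective]
  intro x y hxy
  have h1 : ∀ z : G, (z ^ (u : ZMod n).val) ^ ((u⁻¹ : (ZMod n)ˣ) : ZMod n).val = z := by
    intro z
    rw [← pow_val_mul (hn z), ← Units.val_mul, mul_inv_cancel, Units.val_one]
    rcases eq_or_ne n 1 with h | h
    · subst h
      have := hn z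
      rw [Nat.dvd_one, orderOf_eq_one_iff] at this
      rw [this, one_pow]
    · haveI : Fact (1 < n) := ⟨by have := NeZero.ne n; omega⟩
      rw [ZMod.val_one, pow_one]
  have h2 : x ^ (u : ZMod n).val = y ^ (u : ZMod n).val := hxy
  rw [← h1 x, h2, h1 y]

theorem pow_val_inv [Finite G] {n : ℕ} [NeZero n] {z : G} (hn : orderOf z ∣ n) (u : (ZMod n)ˣ) :
    (z ^ (u : ZMod n).val) ^ ((u⁻¹ : (ZMod n)ˣ) : ZMod n).val = z := by
  rw [← pow_val_mul hn, ← Units.val_mul, mul_inv_cancel, Units.val_one]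
  rcases eq_or_ne n 1 with h | h
  · subst h
    rw [Nat.dvd_one, orderOf_eq_one_iff] at hn
    rw [hn, one_pow]
  · haveI : Fact (1 < n) := ⟨by have := NeZero.ne n; omega⟩
    rw [ZMod.val_one, pow_one]

theorem centralizer_pow_val [Finite G] {n : ℕ} [NeZero n] {g : G} (hg : orderOf g ∣ n) (u : (ZMod n)ˣ) :
    Subgroup.centralizer ({g ^ (u : ZMod n).val} : Set G) = Subgroup.centralizer ({g} : Set G) := by
  ext y
  rw [Subgroup.mem_centralizer_singleton_iff, Subgroup.mem_centralizer_singleton_iff]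
  constructor
  · intro h
    have h1 : Commute y (g ^ (u : ZMod n).val) := h
    have h2 := h1.pow_right ((u⁻¹ : (ZMod n)ˣ) : ZMod n).val
    rw [pow_val_inv hg] at h2
    exact h2
  · intro h
    have h1 : Commute y g := h
    exact h1.pow_right _

/-- column orthogonality in real form -/
theorem sum_norm_sq [Finite G] (g : G) : ∑ χ : IrrCharacter G, ‖(χ : G → ℂ) g‖ ^ 2 = Nat.card (Subgroup.centralizer ({g} : Set G)) := by
  have h := sum_irr_mul_conj_of_isConj (IsConj.refl g)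
  have h1 : ∀ χ : IrrCharacter G, (χ : G → ℂ) g * conj ((χ : G → ℂ) g) = ((‖(χ : G → ℂ) g‖ ^ 2 : ℝ) : ℂ) := by
    intro χ
    rw [Complex.mul_conj, Complex.normSq_eq_norm_sq]
  rw [Finset.sum_congr rfl (fun χ _ => h1 χ)] at h
  exact_mod_cast h

end CfsgLib.CharAvg
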