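import Cfsg.Agent.Lib.ChevCe1
import Cfsg.Agent.Lib.ChevCD
set_option autoImplicit false
set_option linter.style.haveILetI false
set_option linter.unusedSectionVars false

/-! Centralizers of root elements: finite checks. -/

namespace CfsgLib.Chev
open Cfsg.Lie Matrix

/-- the finite check -/
def ceChk (D : ChevalleyDatum) (m : ℤ) (r i0 : ℕ) : Bool :=
  decide (r < D.nroots) && decide (D.nroots / 2 ≤ r) && decide (i0 < D.rank) && decide (D.cartan i0 r = 1) &&
  ((List.range D.nroots).all fun s => !(decide (D.nroots / 2 ≤ s)) || (s == r) || evC D m r s) &&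
  ((List.range D.rank).all fun i => (i == i0) || (decide (D.cartan i r = 0) && evC D m r (D.neg (D.simple i)) && !(D.simple i == r)))

theorem cent_chk {D : ChevalleyDatum} {F : Type*} [Field F] (M : CG D F) {m : ℤ} (hm : (m : F) = 0) {r i0 : ℕ} (h : ceChk D m r i0 = true) :
    D.group F ⊓ Subgroup.centralizer {xg D r (1 : F)} =
      D.posUnipotent F ⊔ Subgroup.closure {g | ∃ i < D.rank, i ≠ i0 ∧ ∃ c : F, g = xg D (D.neg (D.simple i)) c} := by
  unfold ceChk at h
  simp only [Bool.and_eq_true, decide_eq_true_eq, List.all_eq_true, List.mem_range] at h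
  obtain ⟨⟨⟨⟨⟨h1, h2⟩, h3⟩, h4⟩, h5⟩, h6⟩ := h
  refine M.cent_root h1 h2 h3 (fun s hs hp t u => ?_) (fun i hi hne t u => ?_) (fun i hi hne => ?_) h4
  · have h7 := h5 s hs
    rw [Bool.or_eq_true, Bool.or_eq_true, Bool.not_eq_true', decide_eq_false_iff_not, beq_iff_eq] at h7
    rcases h7 with (h7 | h7) | h7
    · exact absurd hp h7
    · exact M.comm_of_ev h1 hs (M.a_pos_ne_neg h1 hs h2 hp) hm (Or.inl h7) t u
    · exact M.comm_of_ev h1 hs (M.a_pos_ne_neg h1 hs h2 hp) hm (Or.inr h7) t u
  · have h7 := h6 i hi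
    rw [Bool.or_eq_true, Bool.and_eq_true, Bool.and_eq_true, beq_iff_eq, Bool.not_eq_true', beq_eq_false_iff_ne] at h7
    obtain ⟨⟨h8, h9⟩, h10⟩ := h7.resolve_left hne
    refine M.comm_of_ev h1 (M.N.neg_lt (M.N.simple_lt i hi)) (fun h' => h10 ?_) hm (Or.inr h9) t u
    have := congrArg D.neg h'
    rwa [M.N.neg_neg (M.N.simple_lt i hi), M.N.neg_neg h1] at this
  · have h7 := h6 i hi
    rw [Bool.or_eq_true, Bool.and_eq_true, Bool.and_eq_true, beq_iff_eq, decide_eq_true_eq] at h7
    exact (h7.resolve_left hne).1.1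

/-- the closure of the negative fundamental root subgroups from a list of indices -/
theorem closure_list {D : ChevalleyDatum} {F : Type*} [Field F] (M : CG D F) {i0 : ℕ} {L : List ℕ}
    (hL : ((List.range D.rank).all fun i => (i == i0) || L.contains (D.neg (D.simple i))) = true)
    (hL' : (L.all fun s => (List.range D.rank).any fun i => !(i == i0) && (s == D.neg (D.simple i))) = true) :
    Subgroup.closure {g : GL D.Idx F | ∃ i < D.rank, i ≠ i0 ∧ ∃ c : F, g = xg D (D.neg (D.simple i)) c} =
      Subgroup.closure {g : GL D.Idx F | ∃ s ∈ L, ∃ c : F, (g : Matrix D.Idx D.Idx F) = D.x F s c} := by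
  congr 1
  ext g
  constructor
  · rintro ⟨i, hi, hne, c, rfl⟩
    have h := List.all_eq_true.mp hL i (List.mem_range.mpr hi)
    rw [Bool.or_eq_true, beq_iff_eq, List.contains_iff_mem] at h
    exact ⟨_, h.resolve_left hne, c, M.coe_xg _ _⟩
  · rintro ⟨s, hs, c, he⟩
    have h := List.all_eq_true.mp hL' s hs
    rw [List.any_eq_true] at h
    obtain ⟨i, hi, h⟩ := h
    rw [Bool.and_eq_true, Bool.not_eq_true', beq_eq_false_iff_ne, beq_iff_eq] at h
    refine ⟨i, List.mem_range.mp hi, h.1, c, ?_⟩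
    rw [← h.2]
    exact M.eq_xg.mp he

theorem ceE6 : ceChk chevE6 2 71 1 = true := by decide +kernel
theorem ceE7 : ceChk chevE7 2 125 0 = true := by decide +kernel
theorem ceE8 : ceChk chevE8 2 239 7 = true := by decide +kernel
theorem ceF4a : ceChk chevF4 2 47 3 = true := by decide +kernel
theorem ceF4b : ceChk chevF4 2 44 0 = true := by decide +kernel
theorem ceG2 : ceChk chevG2 2 11 1 = true := by decide +kernel

end CfsgLib.Chev
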