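import Cfsg.Agent.Lib.ChevGr1
import Cfsg.Agent.Lib.ChevCD
set_option autoImplicit false
set_option maxRecDepth 1000000

/-! Graph automorphisms of `D₄` and `E₆` (generated tables). -/

namespace CfsgLib.Chev
open Cfsg.Lie

def rhoD4a : List ℕ := [0, 1, 6, 2, 7, 10, 3, 8, 4, 9, 11, 5, 18, 12, 14, 19, 15, 20, 13, 16, 21, 17, 22, 23]
def epsD4a : List ℤ := [1, 1, -1, 1, -1, 1, -1, 1, -1, 1, 1, 1, 1, 1, 1, -1, 1, -1, 1, -1, 1, -1, 1, 1]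
def rhiD4a : List ℕ := [0, 1, 3, 6, 8, 11, 2, 4, 7, 9, 5, 10, 13, 18, 14, 16, 19, 21, 12, 15, 17, 20, 22, 23]
def epiD4a : List ℤ := [1, 1, 1, -1, -1, 1, -1, -1, 1, 1, 1, 1, 1, 1, 1, 1, -1, -1, 1, -1, -1, 1, 1, 1]
theorem spD4a : spChk 4 24 chevD4 TD4 [2, 1, 3, 0] rhoD4a epsD4a [3, 1, 0, 2] rhiD4a epiD4a = true := by decide +kernel

def rhoD4b : List ℕ := [0, 1, 3, 6, 8, 11, 2, 4, 7, 9, 5, 10, 13, 18, 14, 16, 19, 21, 12, 15, 17, 20, 22, 23]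
def epsD4b : List ℤ := [1, 1, 1, -1, -1, 1, -1, -1, 1, 1, 1, 1, 1, 1, 1, 1, -1, -1, 1, -1, -1, 1, 1, 1]
def rhiD4b : List ℕ := [0, 1, 6, 2, 7, 10, 3, 8, 4, 9, 11, 5, 18, 12, 14, 19, 15, 20, 13, 16, 21, 17, 22, 23]
def epiD4b : List ℤ := [1, 1, -1, 1, -1, 1, -1, 1, -1, 1, 1, 1, 1, 1, 1, -1, 1, -1, 1, -1, 1, -1, 1, 1]
theorem spD4b : spChk 4 24 chevD4 TD4 [3, 1, 0, 2] rhoD4b epsD4b [2, 1, 3, 0] rhiD4b epiD4b = true := by decide +kernel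

def rhoD4c : List ℕ := [0, 1, 2, 6, 7, 10, 3, 4, 8, 9, 5, 11, 12, 18, 14, 15, 19, 20, 13, 16, 17, 21, 22, 23]
def epsD4c : List ℤ := [1, 1, 1, -1, -1, 1, -1, -1, 1, 1, 1, 1, 1, 1, 1, 1, -1, -1, 1, -1, -1, 1, 1, 1]
def rhiD4c : List ℕ := [0, 1, 2, 6, 7, 10, 3, 4, 8, 9, 5, 11, 12, 18, 14, 15, 19, 20, 13, 16, 17, 21, 22, 23]
def epiD4c : List ℤ := [1, 1, 1, -1, -1, 1, -1, -1, 1, 1, 1, 1, 1, 1, 1, 1, -1, -1, 1, -1, -1, 1, 1, 1]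
theorem spD4c : spChk 4 24 chevD4 TD4 [2, 1, 0, 3] rhoD4c epsD4c [2, 1, 0, 3] rhiD4c epiD4c = true := by decide +kernel

def rhoE6a : List ℕ := [0, 1, 2, 5, 16, 3, 6, 17, 8, 19, 22, 11, 26, 30, 33, 35, 4, 7, 18, 9, 20, 23, 10, 21, 24, 25, 12, 27, 31, 34, 13, 28, 32, 14, 29, 15, 56, 42, 57, 39, 43, 58, 37, 40, 44, 59, 46, 47, 50, 61, 48, 51, 62, 53, 64, 67, 36, 38, 41, 45, 60, 49, 52, 63, 54, 65, 68, 55, 66, 69, 70, 71]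
def epsE6a : List ℤ := [1, 1, 1, 1, -1, 1, 1, -1, 1, -1, -1, 1, -1, 1, -1, 1, -1, -1, 1, -1, 1, 1, -1, 1, 1, 1, -1, 1, -1, 1, 1, -1, 1, -1, 1, 1, 1, 1, -1, 1, -1, 1, 1, -1, 1, -1, 1, 1, 1, -1, 1, 1, -1, 1, -1, -1, 1, -1, 1, -1, 1, -1, -1, 1, -1, 1, 1, -1, 1, 1, 1, 1]
def rhiE6a : List ℕ := [0, 1, 2, 5, 16, 3, 6, 17, 8, 19, 22, 11, 26, 30, 33, 35, 4, 7, 18, 9, 20, 23, 10, 21, 24, 25, 12, 27, 31, 34, 13, 28, 32, 14, 29, 15, 56, 42, 57, 39, 43, 58, 37, 40, 44, 59, 46, 47, 50, 61, 48, 51, 62, 53, 64, 67, 36, 38, 41, 45, 60, 49, 52, 63, 54, 65, 68, 55, 66, 69, 70, 71]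
def epiE6a : List ℤ := [1, 1, 1, 1, -1, 1, 1, -1, 1, -1, -1, 1, -1, 1, -1, 1, -1, -1, 1, -1, 1, 1, -1, 1, 1, 1, -1, 1, -1, 1, 1, -1, 1, -1, 1, 1, 1, 1, -1, 1, -1, 1, 1, -1, 1, -1, 1, 1, 1, -1, 1, 1, -1, 1, -1, -1, 1, -1, 1, -1, 1, -1, -1, 1, -1, 1, 1, -1, 1, 1, 1, 1]
theorem spE6a : spChk 6 72 chevE6 TE6 [5, 1, 4, 3, 2, 0] rhoE6a epsE6a [5, 1, 4, 3, 2, 0] rhiE6a epiE6a = true := by decide +kernel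

/-- the graph automorphisms of `D₄` and `E₆` -/
theorem graph_aut {F : Type*} [Field F] (p : ChevalleyDatum × List ℕ) (M : CG p.1 F)
    (hp : p ∈ [(chevE6, [5, 1, 4, 3, 2, 0]), (chevD4, [2, 1, 3, 0]), (chevD4, [3, 1, 0, 2]), (chevD4, [2, 1, 0, 3])]) :
    ∃ α : ↥(p.1.group F) ≃* ↥(p.1.group F), ∀ i < p.1.rank, ∀ t : F,
      α (M.xG (p.1.simple i) t) = M.xG (p.1.simple (p.2.getD i 0)) t ∧
      α (M.xG (p.1.neg (p.1.simple i)) t) = M.xG (p.1.neg (p.1.simple (p.2.getD i 0))) t := by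
  simp only [List.mem_cons, List.not_mem_nil, or_false] at hp
  rcases hp with rfl | rfl | rfl | rfl
  · exact sp_aut M nfE6 spE6a
  · exact sp_aut M nfD4 spD4a
  · exact sp_aut M nfD4 spD4b
  · exact sp_aut M nfD4 spD4c

end CfsgLib.Chev
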