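import Cfsg.Agent.Lib.ChevFi2
import Cfsg.Agent.Lib.BNP6
set_option autoImplicit false
set_option linter.style.haveILetI false
set_option linter.unusedSectionVars false

/-! Involutions of Chevalley groups in characteristic two, I: double cosets of maximal length. -/

namespace CfsgLib.Chev
open Cfsg.Lie Matrix CfsgLib.BNP

namespace CG
variable {D : ChevalleyDatum} {F : Type*} [Field F] (M : CG D F)
include M

theorem rl_congr {l l' : List (Fin D.rank)} (h : wd M.sW l = wd M.sW l') {s : ℕ} (hs : s < D.nroots) :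
    rl D (wv l) s = rl D (wv l') s :=
  M.rl_eq_of_prod_rf ((M.wd_eq_iff _ _).mp h) hs

theorem neg_not {s : ℕ} (hs : s < D.nroots) (h : s ∈ PosS D) : D.neg s ∉ PosS D := by
  intro h1
  exact M.a_pos_ne_neg hs (M.N.neg_lt hs) h h1 rfl

theorem red_of_pos {l : List (Fin D.rank)} {i : Fin D.rank} (hl : Red M.sW l) (h : rl D (wv l) (D.simple i) ∈ PosS D) :
    Red M.sW (l ++ [i]) := by
  by_contra hc
  have h1 : len M.sW (wd M.sW l * M.sW i) < len M.sW (wd M.sW l) := by
    rcases M.exW.lt_or_gt' i (wd M.sW l) with h2 | h2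
    · exfalso
      apply hc
      unfold Red at hl ⊢
      rw [wd_concat, h2, hl]; simp
    · omega
  obtain ⟨l', h3, h4⟩ := M.exW.exists_red_concat h1
  have h5 := M.pos_of_red h3
  have h6 := M.rl_congr h4.symm (M.N.simple_lt i i.2)
  rw [h6, wv_append, rl_append] at h
  change rl D (wv l') (D.reflectRoot i (D.simple i)) ∈ PosS D at h
  rw [M.N.refl_simple i.2, M.rl_neg (Wd_wv D l') (M.N.simple_lt i i.2)] at h
  exact M.neg_not (M.rl_lt (Wd_wv D l') (M.N.simple_lt i i.2)) h5 h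

theorem mul_mem_C_red {l : List (Fin D.rank)} : ∀ {l' : List (Fin D.rank)}, Red M.sW (l ++ l') → ∀ {x y : ↥(D.group F)},
    x ∈ C M.bnp (wd M.sW l) → y ∈ C M.bnp (wd M.sW l') → x * y ∈ C M.bnp (wd M.sW (l ++ l')) := by
  intro l'
  induction l' using List.reverseRecOn with
  | nil =>
    intro _ x y hx hy
    rw [wd_nil, C_one] at hy
    rw [List.append_nil]
    exact mul_right_mem_C hy hx
  | append_singleton l' i ih =>
    intro h x y hx hy
    rw [← List.append_assoc] at h ⊢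
    rw [wd_concat] at hy ⊢
    obtain ⟨y1, hy1, y2, hy2, rfl⟩ := exists_mul_of_mem_C hy
    have h1 := (M.invW.Red_of_append h).1
    rw [← mul_assoc]
    refine mul_mem_C_of_le' (P := M.bnp) (s := M.eS i) ?_ (ih h1 hx hy1) hy2
    have e1 : len M.sW (wd M.sW (l ++ l')) = len (BNP.sg M.bnp) (wd M.sW (l ++ l')) := len_comp _ _ _
    have e2 : len M.sW (wd M.sW (l ++ l') * M.sW i) = len (BNP.sg M.bnp) (wd M.sW (l ++ l') * BNP.sg M.bnp (M.eS i)) := len_comp _ _ _
    rw [← e1, ← e2, ← wd_concat]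
    unfold Red at h h1
    rw [h, h1]; simp

theorem exists_max_conj [Finite F] (t : ↥(D.group F)) : ∃ (g : ↥(D.group F)) (w : Weyl M.bnp), g * t * g⁻¹ ∈ C M.bnp w ∧
    ∀ (g' : ↥(D.group F)) (w' : Weyl M.bnp), g' * t * g'⁻¹ ∈ C M.bnp w' → len M.sW w' ≤ len M.sW w := by
  classical
  have hex : ∀ g : ↥(D.group F), ∃ w : Weyl M.bnp, g * t * g⁻¹ ∈ C M.bnp w := fun g => exists_mem_C _
  choose ω hω using hex
  obtain ⟨g0, hg0⟩ := Finite.exists_max (fun g => len M.sW (ω g))
  refine ⟨g0, ω g0, hω g0, fun g' w' h => ?_⟩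
  rw [← eq_of_mem_C (hω g') h]
  exact hg0 g'

/-- the dichotomy for an involution in a double coset of maximal length -/
theorem max_dich {t : ↥(D.group F)} (ht : t * t = 1) {l : List (Fin D.rank)} (hl : Red M.sW l) (htl : t ∈ C M.bnp (wd M.sW l))
    (hmax : ∀ (g' : ↥(D.group F)) (w' : Weyl M.bnp), g' * t * g'⁻¹ ∈ C M.bnp w' → len M.sW w' ≤ len M.sW (wd M.sW l)) (i : Fin D.rank) :
    rl D (wv l) (D.simple i) ∉ PosS D ∨ rl D (wv l) (D.simple i) = D.simple i := by
  by_cases hp : rl D (wv l) (D.simple i) ∈ PosS D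
  · right
    have h1 := M.red_of_pos hl hp
    have hinv : (wd M.sW l)⁻¹ = wd M.sW l := by
      have h2 : t⁻¹ = t := inv_eq_of_mul_eq_one_left ht
      have h3 := inv_mem_C htl
      rw [h2] at h3
      exact eq_of_mem_C h3 htl
    have hlen1 : len M.sW (wd M.sW l * M.sW i) = len M.sW (wd M.sW l) + 1 := by
      unfold Red at h1 hl
      rw [← wd_concat, h1, hl]; simp
    have hlen2 : len M.sW (M.sW i * wd M.sW l) = len M.sW (wd M.sW l) + 1 := by
      rw [← M.invW.len_inv, _root_.mul_inv_rev, M.invW.inv_σ, hinv, hlen1]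
    have hcomp : ∀ w : Weyl M.bnp, len (BNP.sg M.bnp) w = len M.sW w := fun w => (len_comp _ _ _).symm
    -- `s t s⁻¹`
    set s : ↥(D.group F) := M.niG i with hs
    have hsC : s ∈ C M.bnp (BNP.sg M.bnp (M.eS i)) := self_mem_C (P := M.bnp) (M.toN (ni D F i) (M.ni_mem i.2))
    have h3 : s * t ∈ C M.bnp (BNP.sg M.bnp (M.eS i) * wd M.sW l) := by
      refine mul_mem_C_of_le ?_ hsC htl
      rw [hcomp, hcomp]
      exact hlen2.ge.trans' (by omega)
    have hsC' : s⁻¹ ∈ C M.bnp (BNP.sg M.bnp (M.eS i)) := by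
      have := inv_mem_C hsC
      rwa [sg_inv] at this
    have hsσ : BNP.sg M.bnp (M.eS i) = M.sW i := rfl
    have h5 : M.sW i * wd M.sW l = wd M.sW l * M.sW i := by
      refine M.exW.fold i i _ (by omega) (by omega) ?_
      by_contra hc
      push Not at hc
      have h4 : s * t * s⁻¹ ∈ C M.bnp (M.sW i * wd M.sW l * BNP.sg M.bnp (M.eS i)) := by
        refine mul_mem_C_of_le' ?_ h3 hsC'
        rw [hcomp, hcomp, hsσ]
        omega
      have h6 := hmax s _ h4
      rw [hsσ] at h6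
      omega
    -- read on roots
    have h6 : wd M.sW ([i] ++ l) = wd M.sW (l ++ [i]) := by
      rw [wd_append, wd_append, wd_singleton, h5]
    have h7 := M.rl_congr h6 (M.N.simple_lt i i.2)
    rw [wv_append, wv_append, rl_append, rl_append] at h7
    change D.reflectRoot i (rl D (wv l) (D.simple i)) = rl D (wv l) (D.reflectRoot i (D.simple i)) at h7
    rw [M.N.refl_simple i.2, M.rl_neg (Wd_wv D l) (M.N.simple_lt i i.2)] at h7
    by_contra hne
    have h8 := M.N.refl_pos i.2 (M.rl_lt (Wd_wv D l) (M.N.simple_lt i i.2)) hp hne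
    rw [h7] at h8
    exact M.neg_not (M.rl_lt (Wd_wv D l) (M.N.simple_lt i i.2)) hp h8
  · exact Or.inl hp

/-- positive roots fixed by a word -/
def _root_.CfsgLib.Chev.FixP (D : ChevalleyDatum) (l : List ℕ) : Set ℕ := {s | s ∈ PosS D ∧ rl D l s = s}

theorem fix_of_a {l : List ℕ} (hl : Wd D l) {s : ℕ} (hs : s < D.nroots)
    (h : ∀ m < D.rank, rl D l (D.simple m) ≠ D.simple m → M.a m s = 0) : rl D l s = s := by
  apply M.a_inj (M.rl_lt hl hs) hs
  intro m hm
  rw [M.rl_a hl hs hm]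
  have h1 : ∀ i ∈ Finset.range D.rank, M.a i s * M.a m (rl D l (D.simple i)) = M.a i s * (if m = i then 1 else 0) := by
    intro i hi
    by_cases h2 : rl D l (D.simple i) = D.simple i
    · rw [h2, M.a_simple hm (Finset.mem_range.mp hi)]
    · rw [h i (Finset.mem_range.mp hi) h2, zero_mul, zero_mul]
  rw [Finset.sum_congr rfl h1]
  simp [hm]

theorem a_zero_of_pos {l : List ℕ} (hl : Wd D l) (hd : ∀ i < D.rank, rl D l (D.simple i) ∉ PosS D ∨ rl D l (D.simple i) = D.simple i)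
    {s : ℕ} (hs : s < D.nroots) (hp : s ∈ PosS D) (hp' : rl D l s ∈ PosS D) {m : ℕ} (hm : m < D.rank) (hne : rl D l (D.simple m) ≠ D.simple m) :
    M.a m (rl D l s) = 0 := by
  have h0 : 0 ≤ M.a m (rl D l s) := M.nonneg _ (M.rl_lt hl hs) hp' m hm
  have h1 : M.a m (rl D l s) ≤ 0 := by
    rw [M.rl_a hl hs hm]
    apply Finset.sum_nonpos
    intro i hi
    have hi' := Finset.mem_range.mp hi
    by_cases h2 : rl D l (D.simple i) = D.simple i
    · rw [h2, M.a_simple hm hi', if_neg (by rintro rfl; exact hne h2), mul_zero]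
    · have h3 := (hd i hi').resolve_right h2
      have h4 := M.neg_mem_PosS (M.rl_lt hl (M.N.simple_lt i hi')) (GD.notPos_iff.mp h3)
      have h5 := M.nonneg _ (M.N.neg_lt (M.rl_lt hl (M.N.simple_lt i hi'))) h4 m hm
      rw [M.a_neg hm (M.rl_lt hl (M.N.simple_lt i hi'))] at h5
      exact mul_nonpos_of_nonneg_of_nonpos (M.nonneg s hs hp i hi') (by linarith)
  exact le_antisymm h1 h0

theorem fix_of_pos {l : List ℕ} (hl : Wd D l) (hd : ∀ i < D.rank, rl D l (D.simple i) ∉ PosS D ∨ rl D l (D.simple i) = D.simple i)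
    {s : ℕ} (hs : s < D.nroots) (hp : s ∈ PosS D) (hp' : rl D l s ∈ PosS D) : rl D l s = s := by
  have h1 : rl D l (rl D l s) = rl D l s :=
    M.fix_of_a hl (M.rl_lt hl hs) fun m hm hne => M.a_zero_of_pos hl hd hs hp hp' hm hne
  exact M.rl_inj hl (M.rl_lt hl hs) hs h1

theorem a_zero_of_fix {l : List ℕ} (hl : Wd D l) (hd : ∀ i < D.rank, rl D l (D.simple i) ∉ PosS D ∨ rl D l (D.simple i) = D.simple i)
    {s : ℕ} (hs : s < D.nroots) (hp : s ∈ PosS D) (hf : rl D l s = s) {m : ℕ} (hm : m < D.rank) (hne : rl D l (D.simple m) ≠ D.simple m) :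
    M.a m s = 0 := by
  have := M.a_zero_of_pos hl hd hs hp (by rw [hf]; exact hp) hm hne
  rwa [hf] at this

/-- `U` is the product of the two parts -/
theorem U_split {l : List ℕ} (hl : Wd D l) (hd : ∀ i < D.rank, rl D l (D.simple i) ∉ PosS D ∨ rl D l (D.simple i) = D.simple i)
    {u : GL D.Idx F} (hu : u ∈ D.posUnipotent F) : ∃ v ∈ XS D F (PhiN D l), ∃ y ∈ XS D F (FixP D l), u = v * y := by
  have hact : ∀ r < D.nroots, r ∈ PosS D → M.Act r (PhiN D l) := by
    intro r hr hrp s hs hs'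
    refine ⟨M.a_pos_ne_neg hr hs' hrp hs.1, fun k hk i j hi hj hc => ?_⟩
    have hi' : (1 : ℤ) ≤ i := by exact_mod_cast hi
    have hj' : (1 : ℤ) ≤ j := by exact_mod_cast hj
    have hkp : k ∈ PosS D := by
      refine M.posS_of_a hk fun m hm => ?_
      rw [hc m hm]
      have h1 := M.nonneg r hr hrp m hm
      have h2 := M.nonneg s hs' hs.1 m hm
      positivity
    refine ⟨hkp, fun hkn => hs.2 ?_⟩
    have hkf := M.fix_of_pos hl hd hk hkp hkn
    rw [M.fix_of_a hl hs' fun m hm hne => ?_]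
    · exact hs.1
    · have h3 := M.a_zero_of_fix hl hd hk hkp hkf hm hne
      rw [hc m hm] at h3
      have h1 := M.nonneg r hr hrp m hm
      have h2 := M.nonneg s hs' hs.1 m hm
      nlinarith
  have hnorm : XS D F (FixP D l) ≤ Subgroup.normalizer (XS D F (PhiN D l) : Set (GL D.Idx F)) := by
    unfold XS
    rw [Subgroup.closure_le]
    rintro g ⟨r, t, hr, hr', rfl⟩
    exact M.xg_norm hr' (hact r hr' hr.1) t
  have hle : D.posUnipotent F ≤ XS D F (PhiN D l) ⊔ XS D F (FixP D l) := by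
    rw [M.U_eq]
    refine (Subgroup.closure_le _).mpr ?_
    rintro g ⟨r, t, hr, hr', rfl⟩
    by_cases h : rl D l r ∈ PosS D
    · exact Subgroup.mem_sup_right (xg_mem_XS D (S := FixP D l) ⟨hr, M.fix_of_pos hl hd hr' hr h⟩ hr' t)
    · exact Subgroup.mem_sup_left (xg_mem_XS D (S := PhiN D l) ⟨hr, h⟩ hr' t)
  have h1 := hle hu
  rw [← SetLike.mem_coe, Subgroup.coe_mul_of_right_le_normalizer_left _ _ hnorm, Set.mem_mul] at h1
  obtain ⟨v, hv, y, hy, rfl⟩ := h1
  exact ⟨v, hv, y, hy, rfl⟩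

end CG
end CfsgLib.Chev
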