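import Cfsg.Agent.Lib.ChevIn1
set_option autoImplicit false
set_option linter.style.haveILetI false
set_option linter.unusedSectionVars false

/-! Involutions of Chevalley groups in characteristic two, II: every involution is conjugate into `N`. -/

namespace CfsgLib.Chev
open Cfsg.Lie Matrix CfsgLib.BNP

namespace CG
variable {D : ChevalleyDatum} {F : Type*} [Field F] (M : CG D F)
include M

theorem a_word {l : List ℕ} (hl : Wd D l) {m : ℕ} (hm : m < D.rank) (hml : m ∉ l) {s : ℕ} (hs : s < D.nroots) :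
    M.a m (rl D l s) = M.a m s := by
  induction l with
  | nil => rfl
  | cons i l ih =>
    have hl' : Wd D l := fun j hj => hl j (by simp [hj])
    rw [rl_cons, M.a_refl (hl i (by simp)) hm (M.rl_lt hl' hs), if_neg (by rintro rfl; simp at hml), sub_zero]
    exact ih hl' (by intro h; exact hml (by simp [h]))

/-- the longest element of a parabolic subgroup -/
theorem exists_wJ [Finite F] (J : Set (Fin D.rank)) : ∃ lD : List (Fin D.rank), (∀ i ∈ lD, i ∈ J) ∧
    ∀ i ∈ J, rl D (wv lD) (D.simple i) ∉ PosS D := by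
  classical
  haveI : Finite (Weyl M.bnp) := by
    haveI : Finite M.bnp.N := inferInstance
    exact Finite.of_surjective _ (cls_surj (P := M.bnp))
  obtain ⟨⟨v0, hv0⟩, hmax⟩ := Finite.exists_max (fun v : ↥(par M.sW J) => len M.sW (v : Weyl M.bnp))
  obtain ⟨lD, h1, h2, h3⟩ := (M.exW.mem_par_iff (J := J)).mp hv0
  refine ⟨lD, h1, fun i hi hp => ?_⟩
  have h4 := M.red_of_pos h2 hp
  have h5 := hmax ⟨v0 * M.sW i, mul_mem hv0 (σ_mem_par hi)⟩
  simp only at h5
  rw [← h3, ← wd_concat] at h5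
  unfold Red at h2 h4
  rw [h4, h2] at h5
  simp at h5

theorem step_J {J : Set (Fin D.rank)} (a : List (Fin D.rank)) (ha : ∀ i ∈ a, i ∈ J) : ∀ {z : ↥(D.group F)} {v : Weyl M.bnp},
    v ∈ par M.sW J → z ∈ C M.bnp v → ∃ v' ∈ par M.sW J, (⟨nl D F (wv a), M.N_le_G (M.nl_mem (Wd_wv D a))⟩ : ↥(D.group F)) * z ∈ C M.bnp v' := by
  induction a with
  | nil =>
    intro z v hv hz
    refine ⟨v, hv, ?_⟩
    have : (⟨nl D F (wv []), M.N_le_G (M.nl_mem (Wd_wv D []))⟩ : ↥(D.group F)) = 1 := rfl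
    rw [this, one_mul]; exact hz
  | cons i a ih =>
    intro z v hv hz
    obtain ⟨v', hv', h1⟩ := ih (fun j hj => ha j (by simp [hj])) hv hz
    have hsC : M.niG i ∈ C M.bnp (BNP.sg M.bnp (M.eS i)) := self_mem_C (P := M.bnp) (M.toN (ni D F i) (M.ni_mem i.2))
    have e : (⟨nl D F (wv (i :: a)), M.N_le_G (M.nl_mem (Wd_wv D (i :: a)))⟩ : ↥(D.group F)) * z =
        M.niG i * ((⟨nl D F (wv a), M.N_le_G (M.nl_mem (Wd_wv D a))⟩ : ↥(D.group F)) * z) := by
      rw [← mul_assoc]; rfl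
    rw [e]
    rcases step hsC h1 with h2 | h2
    · exact ⟨_, mul_mem (σ_mem_par (σ := M.sW) (ha i (by simp))) hv', h2⟩
    · exact ⟨v', hv', h2⟩

theorem neg_eq_char2 [CharP F 2] (t : F) : -t = t := CharTwo.neg_eq t

theorem sq_one_char2 [CharP F 2] {c : F} (h : c * c = 1) : c = 1 := by
  have h2 : (2 : F) = 0 := CharTwo.two_eq_zero
  have : (c - 1) * (c - 1) = 0 := by linear_combination h + (1 - c) * h2
  rcases mul_eq_zero.mp this with h3 | h3 <;> linear_combination h3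

theorem nl_xg2 [CharP F 2] {l : List ℕ} (hl : Wd D l) {s : ℕ} (hs : s < D.nroots) (t : F) :
    nl D F l * xg D s t * (nl D F l)⁻¹ = xg D (rl D l s) t := by
  rcases M.nl_xg (F := F) l hl hs with h | h
  · exact h t
  · rw [h t, M.neg_eq_char2]

/-- an involution of `N` centralises the root subgroups it normalises -/
theorem tau_comm [CharP F 2] {l : List ℕ} (hl : Wd D l) {h : GL D.Idx F} (hh : h ∈ D.diagonalSubgroup F)
    (hτ : (nl D F l * h) * (nl D F l * h) = 1) {s : ℕ} (hs : s < D.nroots) (hf : rl D l s = s) (c : F) :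
    (nl D F l * h) * xg D s c * (nl D F l * h)⁻¹ = xg D s c := by
  obtain ⟨ω, hω, rfl⟩ := M.exists_wt hh
  have h1 : ∀ c : F, (nl D F l * dgg D ω) * xg D s c * (nl D F l * dgg D ω)⁻¹ = xg D s ((ω s : F) * c) := by
    intro c
    have e : (nl D F l * dgg D ω) * xg D s c * (nl D F l * dgg D ω)⁻¹ = nl D F l * (dgg D ω * xg D s c * (dgg D ω)⁻¹) * (nl D F l)⁻¹ := by group
    rw [e, M.dgg_xg hω hs, M.nl_xg2 hl hs, hf]
  have h2 : xg D s (1 : F) = xg D s ((ω s : F) * ((ω s : F) * 1)) := by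
    rw [← h1, ← h1]
    calc xg D s (1 : F) = ((nl D F l * dgg D ω) * (nl D F l * dgg D ω)) * xg D s 1 * ((nl D F l * dgg D ω) * (nl D F l * dgg D ω))⁻¹ := by
          rw [hτ]; group
      _ = _ := by group
  have h3 := M.xg_inj hs h2
  rw [mul_one] at h3
  have h4 := M.sq_one_char2 h3.symm
  rw [h1, h4, one_mul]

/-- every involution is conjugate to an element of `N` (finite field of characteristic two) -/
theorem inv_to_N [Finite F] [CharP F 2] {t : ↥(D.group F)} (ht : t * t = 1) :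
    ∃ g : ↥(D.group F), ∃ l, Wd D l ∧ ∃ h ∈ D.diagonalSubgroup F, (nl D F l * h) * (nl D F l * h) = 1 ∧
      ((g * t * g⁻¹ : ↥(D.group F)) : GL D.Idx F) = nl D F l * h := by
  obtain ⟨g0, w, hC, hmax⟩ := M.exists_max_conj t
  obtain ⟨l, hl, rfl⟩ := M.invW.exists_Red w
  set t1 := g0 * t * g0⁻¹ with ht1
  have ht1sq : t1 * t1 = 1 := by
    rw [ht1]
    calc g0 * t * g0⁻¹ * (g0 * t * g0⁻¹) = g0 * (t * t) * g0⁻¹ := by group
      _ = 1 := by rw [ht]; group
  have hmax1 : ∀ (g' : ↥(D.group F)) (w' : Weyl M.bnp), g' * t1 * g'⁻¹ ∈ C M.bnp w' → len M.sW w' ≤ len M.sW (wd M.sW l) := by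
    intro g' w' h
    refine hmax (g' * g0) w' ?_
    have e : g' * g0 * t * (g' * g0)⁻¹ = g' * t1 * g'⁻¹ := by rw [ht1]; group
    rw [e]; exact h
  have hd' := M.max_dich ht1sq hl hC hmax1
  set L := wv l with hL
  have hWL : Wd D L := Wd_wv D l
  have hd : ∀ i < D.rank, rl D L (D.simple i) ∉ PosS D ∨ rl D L (D.simple i) = D.simple i := fun i hi => hd' ⟨i, hi⟩
  obtain ⟨b, hb, u, hu, he⟩ := M.canon_aux l hl hC
  set n := nl D F L with hn
  have hphU : XS D F (PhiN D L) ≤ D.posUnipotent F := by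
    rw [M.U_eq]; exact XS_mono D F fun s hs _ => hs.1
  have hfixU : XS D F (FixP D L) ≤ D.posUnipotent F := by
    rw [M.U_eq]; exact XS_mono D F fun s hs _ => hs.1
  set b2 := u * b with hb2
  have hb2B : b2 ∈ D.borelSubgroup F := mul_mem (GD.U_le_B (hphU hu)) hb
  set b' : ↥(D.group F) := ⟨b, M.B_le_G hb⟩ with hb'
  have ht2 : ((b'⁻¹ * t1 * b' : ↥(D.group F)) : GL D.Idx F) = n * b2 := by
    change b⁻¹ * (t1 : GL D.Idx F) * b = _
    rw [he, hb2]; group
  have hsq2 : (n * b2) * (n * b2) = 1 := by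
    rw [← ht2, ← Subgroup.coe_mul]
    have : b'⁻¹ * t1 * b' * (b'⁻¹ * t1 * b') = 1 := by
      calc b'⁻¹ * t1 * b' * (b'⁻¹ * t1 * b') = b'⁻¹ * (t1 * t1) * b' := by group
        _ = 1 := by rw [ht1sq]; group
    rw [this]; rfl
  have hinv : (wd M.sW l)⁻¹ = wd M.sW l := by
    have h2 : t1⁻¹ = t1 := inv_eq_of_mul_eq_one_left ht1sq
    have h3 := inv_mem_C hC
    rw [h2] at h3
    exact eq_of_mem_C h3 hC
  have hLL : ∀ s < D.nroots, rl D (L ++ L) s = s := by
    have h1 : wd M.sW (l ++ l) = 1 := by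
      rw [wd_append]
      nth_rewrite 1 [← hinv]
      exact inv_mul_cancel _
    have := (M.wd_eq_one_iff (l ++ l)).mp h1
    rwa [wv_append] at this
  have hnn : n * n ∈ D.diagonalSubgroup F := by
    have h1 := (M.nl_mem_H (F := F) (L ++ L).length (L ++ L) le_rfl (by
      intro j hj
      rcases List.mem_append.mp hj with h | h <;> exact hWL j h) (fun s hs hp => by rw [hLL s hs]; exact hp)).1
    rwa [nl_append] at h1
  have hnb : n * b2 * n⁻¹ ∈ D.borelSubgroup F := by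
    have e : n * b2 * n⁻¹ = b2⁻¹ * (n * n)⁻¹ := by
      have h1 : n * b2 = b2⁻¹ * n⁻¹ := by
        have h2 := eq_inv_of_mul_eq_one_left hsq2
        rw [h2]; group
      rw [h1]; group
    rw [e]
    exact mul_mem (inv_mem hb2B) (GD.H_le_B (inv_mem hnn))
  obtain ⟨u2, hu2, h2, hh2, he2⟩ := M.mem_B.mp hb2B
  obtain ⟨v, hv, y, hy, hvy⟩ := M.U_split hWL hd hu2
  have hnv : n * v * n⁻¹ ∈ D.negUnipotent F := by
    rw [M.V_eq]
    exact M.nl_conj_XS hWL (fun s hs _ => GD.notPos_iff.mp hs.2) hv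
  have hny : n * y * n⁻¹ ∈ XS D F (FixP D L) := by
    refine M.nl_conj_XS hWL (fun s hs _ => ?_) hy
    rw [hs.2]; exact hs
  have hnh : n * h2 * n⁻¹ ∈ D.diagonalSubgroup F := M.nl_norm_H hWL hh2
  have hv1 : v = 1 := by
    have e : n * v * n⁻¹ = (n * b2 * n⁻¹) * ((n * y * n⁻¹) * (n * h2 * n⁻¹))⁻¹ := by
      rw [he2, hvy]; group
    have h3 : n * v * n⁻¹ ∈ D.borelSubgroup F := by
      rw [e]
      exact mul_mem hnb (inv_mem (mul_mem (GD.U_le_B (hfixU hny)) (GD.H_le_B hnh)))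
    have h4 : n * v * n⁻¹ ∈ D.borelSubgroup F ⊓ D.negUnipotent F := ⟨h3, hnv⟩
    rw [M.B_inf_V, Subgroup.mem_bot] at h4
    have : v = n⁻¹ * (n * v * n⁻¹) * n := by group
    rw [this, h4]; group
  rw [hv1, one_mul] at hvy
  -- `t2 = τ y'`
  set τ := n * h2 with hτ
  set y' := h2⁻¹ * y * h2 with hy'
  have hy'F : y' ∈ XS D F (FixP D L) := by
    have := (Subgroup.mem_normalizer_iff.mp (M.diag_norm (F := F) (FixP D L) (inv_mem hh2)) y).mp hy
    rwa [inv_inv] at this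
  have ht2' : n * b2 = τ * y' := by rw [he2, hvy, hτ, hy']; group
  have hτy : τ⁻¹ * y' * τ ∈ D.posUnipotent F := by
    have h1 : n⁻¹ * y' * n ∈ XS D F (FixP D L) := by
      refine M.nl_conj_XS' hWL (fun s hs hs' => ?_) hy'F
      have h3 := M.rl_inj hWL (M.rl_lt hWL hs) hs hs'.2
      exact ⟨by rw [← h3]; exact hs'.1, h3⟩
    have h2' := (Subgroup.mem_normalizer_iff.mp (M.diag_norm (F := F) (FixP D L) (inv_mem hh2)) _).mp h1
    rw [inv_inv] at h2'
    apply hfixU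
    have e : τ⁻¹ * y' * τ = h2⁻¹ * (n⁻¹ * y' * n) * h2 := by rw [hτ]; group
    rw [e]; exact h2'
  have hττH : τ * τ ∈ D.diagonalSubgroup F := by
    have e : τ * τ = (n * h2 * n⁻¹) * (n * n) * h2 := by rw [hτ]; group
    rw [e]
    exact mul_mem (mul_mem hnh hnn) hh2
  have hττ : τ * τ = 1 := by
    have h1 : τ * τ * ((τ⁻¹ * y' * τ) * y') = 1 := by
      rw [ht2'] at hsq2
      rw [← hsq2]; group
    have h3 : τ * τ ∈ D.posUnipotent F := by
      rw [eq_inv_of_mul_eq_one_left h1]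
      exact inv_mem (mul_mem hτy (hfixU hy'F))
    have h4 : τ * τ ∈ D.posUnipotent F ⊓ D.diagonalSubgroup F := ⟨h3, hττH⟩
    rwa [M.U_inf_H, Subgroup.mem_bot] at h4
  -- the longest element of the parabolic of the fixed simple roots
  let J : Set (Fin D.rank) := {i | rl D L (D.simple i) = D.simple i}
  obtain ⟨lD, hlD, hlDn⟩ := M.exists_wJ J
  set nD := nl D F (wv lD) with hnD
  have hWD : Wd D (wv lD) := Wd_wv D lD
  have hmJ : ∀ {m : ℕ} {a : List (Fin D.rank)}, (∀ i ∈ a, i ∈ J) → m < D.rank → rl D L (D.simple m) ≠ D.simple m → m ∉ wv a := by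
    intro m a ha hm hne hma
    unfold wv at hma
    rw [List.mem_map] at hma
    obtain ⟨i, hi, rfl⟩ := hma
    exact hne (ha i hi)
  -- `τ` commutes with `nl` of words in `J`
  have hcomm : ∀ a : List (Fin D.rank), (∀ i ∈ a, i ∈ J) → τ * nl D F (wv a) * τ⁻¹ = nl D F (wv a) := by
    intro a
    induction a with
    | nil => intro _; change τ * 1 * τ⁻¹ = 1; group
    | cons i a ih =>
      intro ha
      have hi : rl D L (D.simple i) = D.simple i := ha i (by simp)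
      have hi' : rl D L (D.neg (D.simple i)) = D.neg (D.simple i) := by
        rw [M.rl_neg hWL (M.N.simple_lt i i.2), hi]
      have h1 : τ * ni D F i * τ⁻¹ = ni D F i := by
        unfold ni
        rw [M.ng_eq]
        have c1 := M.tau_comm hWL hh2 hττ (M.N.simple_lt i i.2) hi (1 : F)
        have c2 := M.tau_comm hWL hh2 hττ (M.N.neg_lt (M.N.simple_lt i i.2)) hi' (-(1 : F)⁻¹)
        calc τ * (xg D (D.simple i) 1 * xg D (D.neg (D.simple i)) (-1⁻¹) * xg D (D.simple i) 1) * τ⁻¹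
            = (τ * xg D (D.simple i) 1 * τ⁻¹) * (τ * xg D (D.neg (D.simple i)) (-1⁻¹) * τ⁻¹) * (τ * xg D (D.simple i) 1 * τ⁻¹) := by group
          _ = _ := by rw [c1, c2]
      have h2 := ih fun j hj => ha j (by simp [hj])
      change τ * (ni D F i * nl D F (wv a)) * τ⁻¹ = ni D F i * nl D F (wv a)
      calc τ * (ni D F i * nl D F (wv a)) * τ⁻¹ = (τ * ni D F i * τ⁻¹) * (τ * nl D F (wv a) * τ⁻¹) := by group
        _ = _ := by rw [h1, h2]
  -- `y'' = n_D y' n_D⁻¹` lies in `V`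
  have hy''V : nD * y' * nD⁻¹ ∈ D.negUnipotent F := by
    rw [M.V_eq]
    refine M.nl_conj_XS hWD (fun s hs hs' => ?_) hy'F
    by_contra hcon
    have hp : rl D (wv lD) s ∈ PosS D := by
      by_contra h
      exact hcon (GD.notPos_iff.mp h)
    apply M.a_ne_zero (M.rl_lt hWD hs')
    intro m hm
    refine le_antisymm ?_ (M.nonneg _ (M.rl_lt hWD hs') hp m hm)
    rw [M.rl_a hWD hs' hm]
    apply Finset.sum_nonpos
    intro i hi
    have hi' := Finset.mem_range.mp hi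
    by_cases h2 : rl D L (D.simple i) = D.simple i
    · have h3 := hlDn ⟨i, hi'⟩ h2
      have h4 := M.neg_mem_PosS (M.rl_lt hWD (M.N.simple_lt i hi')) (GD.notPos_iff.mp h3)
      have h5 := M.nonneg _ (M.N.neg_lt (M.rl_lt hWD (M.N.simple_lt i hi'))) h4 m hm
      rw [M.a_neg hm (M.rl_lt hWD (M.N.simple_lt i hi'))] at h5
      exact mul_nonpos_of_nonneg_of_nonpos (M.nonneg s hs' hs.1 i hi') (by linarith)
    · rw [M.a_zero_of_fix hWL hd hs' hs.1 hs.2 hi' h2, zero_mul]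
  -- `y''` lies in a double coset of the parabolic
  have hyG : ∀ {x : GL D.Idx F}, x ∈ D.posUnipotent F → x ∈ D.group F := fun hx => M.U_le_G hx
  set yG : ↥(D.group F) := ⟨y', hyG (hfixU hy'F)⟩ with hyGdef
  set nG : ↥(D.group F) := ⟨nD, M.N_le_G (M.nl_mem hWD)⟩ with hnGdef
  obtain ⟨v, hvJ, hvC⟩ : ∃ v ∈ par M.sW J, nG * yG * nG⁻¹ ∈ C M.bnp v := by
    have h1 : nG ∈ C M.bnp (wd M.sW lD) := by
      rw [M.wd_sW]
      exact self_mem_C (P := M.bnp) (M.toN nD (M.nl_mem' lD))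
    have h2 : nG⁻¹ ∈ C M.bnp (wd M.sW lD)⁻¹ := inv_mem_C h1
    have h3 : yG * nG⁻¹ ∈ C M.bnp (wd M.sW lD)⁻¹ := mul_left_mem_C (b := yG) (GD.U_le_B (hfixU hy'F)) h2
    obtain ⟨v, hv, h4⟩ := M.step_J lD hlD (inv_mem (wd_mem_par hlD)) h3
    exact ⟨v, hv, by rw [mul_assoc]; exact h4⟩
  obtain ⟨c, hc1, hc2, rfl⟩ := (M.exW.mem_par_iff (J := J)).mp hvJ
  have hred : Red M.sW (l ++ c) := by
    clear hvC hvJ
    induction c using List.reverseRecOn with
    | nil => rw [List.append_nil]; exact hl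
    | append_singleton c i ih =>
      rw [← List.append_assoc]
      have hc1' : ∀ j ∈ c, j ∈ J := fun j hj => hc1 j (by simp [hj])
      refine M.red_of_pos (ih hc1' (M.invW.Red_of_append hc2).1) ?_
      rw [wv_append, rl_append]
      have hp := M.pos_of_red hc2
      have hlt := M.rl_lt (Wd_wv D c) (M.N.simple_lt i i.2)
      rw [← hL, M.fix_of_a hWL hlt]
      · exact hp
      · intro m hm hne
        rw [M.a_word (Wd_wv D c) hm (hmJ hc1' hm hne) (M.N.simple_lt i i.2), M.a_simple hm i.2]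
        rw [if_neg]
        rintro rfl
        exact hne (hc1 i (by simp))
  -- contradiction with maximality unless `c = []`
  set τG : ↥(D.group F) := ⟨τ, M.N_le_G (mul_mem (M.nl_mem hWL) (GD.diag_le_mono hh2))⟩ with hτG
  have hτC : τG ∈ C M.bnp (wd M.sW l) := by
    rw [M.wd_sW]
    have h1 := self_mem_C (P := M.bnp) (M.toN n (M.nl_mem' l))
    exact mul_right_mem_C (b := (⟨h2, M.H_le_G hh2⟩ : ↥(D.group F))) (GD.H_le_B hh2) h1
  have hprod := M.mul_mem_C_red hred hτC hvC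
  have hconj : τG * (nG * yG * nG⁻¹) = (nG * b'⁻¹) * t1 * (nG * b'⁻¹)⁻¹ := by
    apply Subtype.ext
    have e1 : (nG * b'⁻¹) * t1 * (nG * b'⁻¹)⁻¹ = nG * (b'⁻¹ * t1 * b') * nG⁻¹ := by group
    have e2 : ((nG * (b'⁻¹ * t1 * b') * nG⁻¹ : ↥(D.group F)) : GL D.Idx F) = nD * ((b'⁻¹ * t1 * b' : ↥(D.group F)) : GL D.Idx F) * nD⁻¹ := rfl
    rw [e1, e2, ht2, ht2']
    change τ * (nD * y' * nD⁻¹) = nD * (τ * y') * nD⁻¹
    have h3 := hcomm lD hlD
    have h4 : τ * nD = nD * τ := by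
      rw [hnD, ← mul_inv_eq_iff_eq_mul]; exact h3
    calc τ * (nD * y' * nD⁻¹) = (τ * nD) * y' * nD⁻¹ := by group
      _ = _ := by rw [h4]; group
  rw [hconj] at hprod
  have hlen := hmax1 _ _ hprod
  have hc0 : c = [] := by
    unfold Red at hred hl
    rw [hred, hl] at hlen
    simp at hlen
    exact hlen
  rw [hc0, wd_nil, C_one] at hvC
  have hy1 : y' = 1 := by
    have h3 : nD * y' * nD⁻¹ ∈ D.borelSubgroup F ⊓ D.negUnipotent F := ⟨hvC, hy''V⟩
    rw [M.B_inf_V, Subgroup.mem_bot] at h3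
    have : y' = nD⁻¹ * (nD * y' * nD⁻¹) * nD := by group
    rw [this, h3]; group
  refine ⟨b'⁻¹ * g0, L, hWL, h2, hh2, hττ, ?_⟩
  have e1 : b'⁻¹ * g0 * t * (b'⁻¹ * g0)⁻¹ = b'⁻¹ * t1 * b' := by rw [ht1]; group
  rw [e1, ht2, ht2', hy1, mul_one]

end CG
end CfsgLib.Chev
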