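import Cfsg.Agent.Lib.ChevIn2
set_option autoImplicit false
set_option linter.style.haveILetI false
set_option linter.unusedSectionVars false

/-! Involutions of Chevalley groups in characteristic two, III: involutions are products of commuting root elements. -/

namespace CfsgLib.Chev
open Cfsg.Lie Matrix CfsgLib.BNP

namespace CG
variable {D : ChevalleyDatum} {F : Type*} [Field F] (M : CG D F)
include M

/-- an involution of the Weyl group negates some root -/
theorem exists_neg_root_aux : ∀ (k : ℕ) (l : List (Fin D.rank)), len M.sW (wd M.sW l) ≤ k → wd M.sW l * wd M.sW l = 1 → wd M.sW l ≠ 1 →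
    ∃ r < D.nroots, rl D (wv l) r = D.neg r := by
  intro k
  induction k with
  | zero =>
    intro l hk _ hne
    exact absurd ((M.invW.len_eq_zero).mp (Nat.le_zero.mp hk)) hne
  | succ k ih =>
    intro l hk hsq hne
    obtain ⟨i, hi⟩ := M.invW.exists_left hne
    have hinv : (wd M.sW l)⁻¹ = wd M.sW l := inv_eq_of_mul_eq_one_left hsq
    set w := wd M.sW l with hw
    have hlen1 : len M.sW (w * M.sW i) + 1 = len M.sW w := by
      rw [← M.invW.len_inv, _root_.mul_inv_rev, M.invW.inv_σ, hinv, hi]
    have hWl := Wd_wv D l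
    have hsl := M.N.simple_lt i i.2
    by_cases hn : len M.sW (M.sW i * w) < len M.sW (M.sW i * w * M.sW i)
    · -- `σ w = w σ`
      have e1 : M.sW i * (M.sW i * w) = w := M.invW.σ_mul_σ_mul i w
      have h2 : M.sW i * (M.sW i * w) = (M.sW i * w) * M.sW i := by
        refine M.exW.fold i i (M.sW i * w) (by rw [e1]; omega) hn ?_
        rw [e1]; omega
      rw [e1] at h2
      have h3 : M.sW i * w = w * M.sW i := by
        calc M.sW i * w = M.sW i * w * M.sW i * M.sW i := by rw [mul_assoc (M.sW i * w), M.invW.sq, mul_one]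
          _ = w * M.sW i := by rw [← h2]
      have h4 : wd M.sW ([i] ++ l) = wd M.sW (l ++ [i]) := by
        rw [wd_append, wd_append, wd_singleton, ← hw, h3]
      have h5 := M.rl_congr h4 hsl
      rw [wv_append, wv_append, rl_append, rl_append] at h5
      change D.reflectRoot i (rl D (wv l) (D.simple i)) = rl D (wv l) (D.reflectRoot i (D.simple i)) at h5
      rw [M.N.refl_simple i.2, M.rl_neg hWl hsl] at h5
      refine ⟨D.simple i, hsl, ?_⟩
      have hnp : rl D (wv l) (D.simple i) ∉ PosS D := by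
        obtain ⟨l', hl', he'⟩ := M.invW.exists_Red w
        intro hp
        rw [M.rl_congr (l' := l') (by rw [he', hw]) hsl] at hp
        have h6 := M.red_of_pos hl' hp
        unfold Red at hl' h6
        rw [wd_concat, he'] at h6
        rw [he'] at hl'
        simp at h6
        omega
      set s := rl D (wv l) (D.simple i) with hs
      have hslt : s < D.nroots := M.rl_lt hWl hsl
      have hp : D.neg s ∈ PosS D := M.neg_mem_PosS hslt (GD.notPos_iff.mp hnp)
      by_contra hcon
      have hne' : D.neg s ≠ D.simple i := by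
        intro h
        apply hcon
        rw [← M.N.neg_neg hslt, h]
      have h7 := M.N.refl_pos i.2 (M.N.neg_lt hslt) hp hne'
      rw [M.N.refl_neg i.2 hslt, h5, M.N.neg_neg hslt] at h7
      exact hnp h7
    · have hlt : len M.sW (M.sW i * w * M.sW i) < len M.sW w := by omega
      have hwd : wd M.sW ([i] ++ l ++ [i]) = M.sW i * w * M.sW i := by
        rw [wd_append, wd_append, wd_singleton, hw]
      obtain ⟨r, hr, hr'⟩ := ih ([i] ++ l ++ [i]) (by rw [hwd]; omega) (by
        rw [hwd]
        calc M.sW i * w * M.sW i * (M.sW i * w * M.sW i) = M.sW i * w * (M.sW i * M.sW i) * w * M.sW i := by group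
          _ = 1 := by rw [M.invW.sq, mul_one, mul_assoc (M.sW i) w w, hsq, mul_one, M.invW.sq]) (by
        rw [hwd]
        intro h
        apply hne
        calc w = M.sW i * (M.sW i * w * M.sW i) * M.sW i := by
              rw [← mul_assoc, ← mul_assoc, M.invW.sq, one_mul, mul_assoc, M.invW.sq, mul_one]
          _ = 1 := by rw [h, mul_one, M.invW.sq])
      refine ⟨D.reflectRoot i r, M.N.refl_lt i.2 hr, ?_⟩
      rw [wv_append, wv_append, rl_append, rl_append] at hr'
      change D.reflectRoot i (rl D (wv l) (D.reflectRoot i r)) = D.neg r at hr'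
      rw [← M.N.refl_neg i.2 hr, ← hr', M.N.refl_refl i.2 (M.rl_lt hWl (M.N.refl_lt i.2 hr))]

/-- words with natural number letters -/
theorem exists_wv {l : List ℕ} (hl : Wd D l) : ∃ l' : List (Fin D.rank), l = wv l' := by
  have h1' : ∀ a ∈ l, a < D.rank := hl
  refine ⟨l.pmap (fun k hk => ⟨k, hk⟩) h1', ?_⟩
  unfold wv
  rw [List.map_pmap]
  simp

theorem exists_neg_root {l : List ℕ} (hl : Wd D l) (hsq : ∀ s < D.nroots, rl D l (rl D l s) = s) (hne : ∃ s < D.nroots, rl D l s ≠ s) :
    ∃ r < D.nroots, rl D l r = D.neg r := by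
  obtain ⟨l', rfl⟩ := M.exists_wv hl
  refine M.exists_neg_root_aux _ l' le_rfl ?_ ?_
  · rw [← wd_append, M.wd_eq_one_iff, wv_append]
    intro s hs
    rw [rl_append]; exact hsq s hs
  · intro h
    obtain ⟨s, hs, h1⟩ := hne
    exact h1 ((M.wd_eq_one_iff l').mp h s hs)

/-- the group generated by the root subgroups of `±R` -/
def _root_.CfsgLib.Chev.KR (D : ChevalleyDatum) (F : Type*) [Field F] (R : List ℕ) : Subgroup (GL D.Idx F) :=
  XS D F {s | ∃ r ∈ R, s = r ∨ s = D.neg r}

/-- orthogonal root subgroups commute -/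
def _root_.CfsgLib.Chev.OC (D : ChevalleyDatum) (F : Type*) [Field F] : Prop :=
  ∀ r < D.nroots, ∀ s < D.nroots, D.pairing r s = 0 → ∀ t u : F, xg D s u * xg D r t = xg D r t * xg D s u

theorem xg_eq' {r s : ℕ} (hr : r < D.nroots) (hs : s < D.nroots) {t u : F} (ht : t ≠ 0) (h : xg D r t = xg D s u) : r = s := by
  by_cases hp : r ∈ PosS D
  · exact M.xg_eq hr hs hp ht h
  · have hu : u ≠ 0 := by
      rintro rfl
      rw [M.xg_zero, ← M.xg_zero r] at h
      exact ht (M.xg_inj hr h)
    by_cases hp' : s ∈ PosS D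
    · exact (M.xg_eq hs hr hp' hu h.symm).symm
    · -- both negative: conjugate by `n₀`
      obtain ⟨l, hl, h0⟩ := M.exists_w0'
      have h1 : nl D F l * xg D r t * (nl D F l)⁻¹ = nl D F l * xg D s u * (nl D F l)⁻¹ := by rw [h]
      have h2 : rl D l r ∈ PosS D := (h0 r hr).mpr hp
      have h3 : rl D l s ∈ PosS D := (h0 s hs).mpr hp'
      have h4 : rl D l r = rl D l s := by
        rcases M.nl_xg (F := F) l hl hr with a | a <;> rcases M.nl_xg (F := F) l hl hs with b | b <;> rw [a, b] at h1
        · exact M.xg_eq (M.rl_lt hl hr) (M.rl_lt hl hs) h2 ht h1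
        · exact M.xg_eq (M.rl_lt hl hr) (M.rl_lt hl hs) h2 ht h1
        · exact M.xg_eq (M.rl_lt hl hr) (M.rl_lt hl hs) h2 (neg_ne_zero.mpr ht) h1
        · exact M.xg_eq (M.rl_lt hl hr) (M.rl_lt hl hs) h2 (neg_ne_zero.mpr ht) h1
      exact M.rl_inj hl hr hs h4

theorem nl_h_xg [CharP F 2] {l : List ℕ} (hl : Wd D l) {ω : ℕ → Fˣ} (hω : IsWt D M.T ω) {s : ℕ} (hs : s < D.nroots) (c : F) :
    (nl D F l * dgg D ω) * xg D s c * (nl D F l * dgg D ω)⁻¹ = xg D (rl D l s) ((ω s : F) * c) := by
  have e : (nl D F l * dgg D ω) * xg D s c * (nl D F l * dgg D ω)⁻¹ = nl D F l * (dgg D ω * xg D s c * (dgg D ω)⁻¹) * (nl D F l)⁻¹ := by group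
  rw [e, M.dgg_xg hω hs, M.nl_xg2 hl hs]

theorem exists_sqrt [Finite F] [CharP F 2] (a : F) : ∃ b : F, b ^ 2 = a := by
  haveI : Fact (Nat.Prime 2) := ⟨Nat.prime_two⟩
  haveI : ExpChar F 2 := ExpChar.prime Nat.prime_two
  have h := (Finite.injective_iff_surjective.mp (frobenius_inj F 2)) a
  exact h

theorem isWt_neg {ω : ℕ → Fˣ} (hω : IsWt D M.T ω) {s : ℕ} (hs : s < D.nroots) : ω (D.neg s) = (ω s)⁻¹ := hω.neg s hs

theorem pairing_neg_left {r : ℕ} (hr : r < D.nroots) : ∀ {s : ℕ}, s < D.nroots → D.pairing (D.neg r) s = - D.pairing r s := by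
  refine M.root_ind (P := fun r => ∀ {s : ℕ}, s < D.nroots → D.pairing (D.neg r) s = - D.pairing r s) ?_ ?_ r hr
  · intro i hi s hs
    have h1 := M.pairing_refl_refl hi (M.N.simple_lt i hi) (M.N.refl_lt hi hs)
    rw [M.N.refl_simple hi, M.N.refl_refl hi hs] at h1
    rw [h1, M.pairing_simple hi (M.N.refl_lt hi hs), M.cartan_refl hi hi hs, M.cartan_self hi, M.pairing_simple hi hs]
    ring
  · intro i hi r hr ih s hs
    have h1 := M.pairing_refl_refl hi (M.N.neg_lt hr) (M.N.refl_lt hi hs)
    have h2 := M.pairing_refl_refl hi hr (M.N.refl_lt hi hs)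
    rw [M.N.refl_refl hi hs] at h1 h2
    rw [← M.N.refl_neg hi hr, h1, ih (M.N.refl_lt hi hs), h2]

/-- in characteristic two every involution of `N` is conjugate to a product of commuting root elements -/
theorem split_N [Finite F] [CharP F 2] (hO : OC D F) (k : ℕ) : ∀ (l : List ℕ) (h : GL D.Idx F), Wd D l → h ∈ D.diagonalSubgroup F →
    (nl D F l * h) * (nl D F l * h) = 1 → ((Finset.range D.nroots).filter fun s => rl D l s ≠ s).card ≤ k →
    ∃ R : List ℕ, R.Pairwise (fun r s => D.pairing r s = 0) ∧ (∀ r ∈ R, r < D.nroots ∧ rl D l r = D.neg r) ∧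
      ∃ g ∈ KR D F R, g * (nl D F l * h) * g⁻¹ = wg D (R.map fun r => (r, (1 : F))) := by
  classical
  induction k with
  | zero =>
    intro l h hl hh hsq hk
    have hall : ∀ s < D.nroots, rl D l s = s := by
      intro s hs
      by_contra hne
      have h1 : s ∈ (Finset.range D.nroots).filter fun s => rl D l s ≠ s := by
        rw [Finset.mem_filter, Finset.mem_range]; exact ⟨hs, hne⟩
      rw [Finset.card_eq_zero.mp (Nat.le_zero.mp hk)] at h1
      exact absurd h1 (Finset.notMem_empty s)
    have hn : nl D F l ∈ D.diagonalSubgroup F := (M.nl_mem_H (F := F) l.length l le_rfl hl (fun s hs hp => by rw [hall s hs]; exact hp)).1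
    obtain ⟨ω, hω, he⟩ := M.exists_wt (mul_mem hn hh)
    refine ⟨[], List.Pairwise.nil, fun r hr => absurd hr (by simp), 1, one_mem _, ?_⟩
    rw [he] at hsq ⊢
    have h1 : dgg D ω = 1 := by
      apply GD.eq_one_of_X_trivial
      intro r hr
      rw [← map_mul, ← map_one (dgg D)] at hsq
      have h2 := dgg_inj D hsq r hr
      apply Units.ext
      exact M.sq_one_char2 (by
        have := congrArg Units.val h2
        exact this)
    rw [h1]
    simp [wg_nil]
  | succ k ih =>
    intro l h hl hh hsq hk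
    by_cases hall : ∀ s < D.nroots, rl D l s = s
    · refine ih l h hl hh hsq ?_
      have : (Finset.range D.nroots).filter (fun s => rl D l s ≠ s) = ∅ := by
        apply Finset.filter_eq_empty_iff.mpr
        intro s hs
        rw [not_not]
        exact hall s (Finset.mem_range.mp hs)
      rw [this]; simp
    · push Not at hall
      obtain ⟨ω, hω, rfl⟩ := M.exists_wt hh
      set τ := nl D F l * dgg D ω with hτ
      have hτx : ∀ s < D.nroots, ∀ c : F, τ * xg D s c * τ⁻¹ = xg D (rl D l s) ((ω s : F) * c) := fun s hs c => M.nl_h_xg hl hω hs c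
      have hinv : ∀ s < D.nroots, rl D l (rl D l s) = s := by
        intro s hs
        have h1 : xg D s (1 : F) = xg D (rl D l (rl D l s)) ((ω (rl D l s) : F) * ((ω s : F) * 1)) := by
          rw [← hτx _ (M.rl_lt hl hs), ← hτx s hs]
          calc xg D s (1 : F) = (τ * τ) * xg D s 1 * (τ * τ)⁻¹ := by rw [hsq]; group
            _ = _ := by group
        exact (M.xg_eq' hs (M.rl_lt hl (M.rl_lt hl hs)) one_ne_zero h1).symm
      obtain ⟨r, hr, hrn⟩ := M.exists_neg_root hl hinv hall
      have hr' := M.N.neg_lt hr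
      -- choose `c`
      obtain ⟨d, hd⟩ := M.exists_sqrt (ω r : F)
      have hd0 : d ≠ 0 := by
        rintro rfl
        exact (ω r).ne_zero (by rw [← hd]; ring)
      set c := d⁻¹ with hc
      have hc0 : c ≠ 0 := inv_ne_zero hd0
      set m := ng D r c with hm
      have hmm : m * m = 1 := by
        have h1 := M.ng_neg r c
        rw [M.neg_eq_char2] at h1
        rw [← hm] at h1
        nth_rewrite 1 [h1]
        exact inv_mul_cancel m
      have hminv : m⁻¹ = m := inv_eq_of_mul_eq_one_left hmm
      have hmx : ∀ u : F, m * xg D r u * m⁻¹ = xg D (D.neg r) ((ω r : F) * u) := by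
        intro u
        rw [hm, M.ng_xg hr c u hc0, M.neg_eq_char2, hc, inv_inv, hd]
      have hmx' : ∀ u : F, m * xg D (D.neg r) u * m⁻¹ = xg D r ((ω r : F)⁻¹ * u) := by
        intro u
        have h1 := hmx ((ω r : F)⁻¹ * u)
        rw [mul_inv_cancel_left₀ (ω r).ne_zero] at h1
        rw [← h1]
        calc m * (m * xg D r ((ω r : F)⁻¹ * u) * m⁻¹) * m⁻¹ = (m * m) * xg D r ((ω r : F)⁻¹ * u) * (m * m)⁻¹ := by group
          _ = _ := by rw [hmm]; group
      have hmN : m ∈ D.monomialSubgroup F := by
        rw [hm]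
        have h1 := M.ng_mul_ng hr (Units.mk0 c hc0)
        rw [Units.val_mk0] at h1
        rw [h1]
        refine mul_mem (GD.diag_le_mono (M.h_mem hr _)) ?_
        unfold ChevalleyDatum.monomialSubgroup
        exact Subgroup.mem_sup_right (Subgroup.subset_closure ⟨r, hr, M.coe_ng _ _⟩)
      set τ' := m * τ with hτ'
      have hτN : τ ∈ D.monomialSubgroup F := mul_mem (M.nl_mem hl) (GD.diag_le_mono hh)
      have hτ'r : ∀ u : F, τ' * xg D r u * τ'⁻¹ = xg D r u := by
        intro u
        have e : τ' * xg D r u * τ'⁻¹ = m * (τ * xg D r u * τ⁻¹) * m⁻¹ := by rw [hτ']; group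
        rw [e, hτx r hr, hrn, hmx', inv_mul_cancel_left₀ (ω r).ne_zero]
      have hτ'n : ∀ u : F, τ' * xg D (D.neg r) u * τ'⁻¹ = xg D (D.neg r) u := by
        intro u
        have e : τ' * xg D (D.neg r) u * τ'⁻¹ = m * (τ * xg D (D.neg r) u * τ⁻¹) * m⁻¹ := by rw [hτ']; group
        rw [e, hτx _ hr', M.rl_neg hl hr, hrn, M.N.neg_neg hr, hmx, hω.neg r hr]
        rw [Units.val_inv_eq_inv_val, mul_inv_cancel_left₀ (ω r).ne_zero]
      have hτm : τ' * m * τ'⁻¹ = m := by
        rw [hm, M.ng_eq]
        calc τ' * (xg D r c * xg D (D.neg r) (-c⁻¹) * xg D r c) * τ'⁻¹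
            = (τ' * xg D r c * τ'⁻¹) * (τ' * xg D (D.neg r) (-c⁻¹) * τ'⁻¹) * (τ' * xg D r c * τ'⁻¹) := by group
          _ = _ := by rw [hτ'r, hτ'n]
      have hτm' : τ' * m = m * τ' := mul_inv_eq_iff_eq_mul.mp hτm
      have hττ : τ = m * τ' := by
        rw [hτ', ← mul_assoc, hmm, one_mul]
      have hsq' : τ' * τ' = 1 := by
        have h1 : m * τ' * (m * τ') = 1 := by rw [← hττ]; exact hsq
        calc τ' * τ' = (m * m) * (τ' * τ') := by rw [hmm, one_mul]
          _ = m * (m * τ') * τ' := by group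
          _ = m * (τ' * m) * τ' := by rw [hτm']
          _ = m * τ' * (m * τ') := by group
          _ = 1 := h1
      obtain ⟨h1, hh1, l', hl', he'⟩ := M.mem_N (mul_mem hmN hτN)
      -- move the diagonal part to the right
      set h2 := (nl D F l')⁻¹ * h1 * nl D F l' with hh2def
      have hh2 : h2 ∈ D.diagonalSubgroup F := by
        have h7 := Subgroup.mem_normalizer_iff.mp (M.mono_le_norm (inv_mem (M.nl_mem (F := F) hl'))) h1
        have h8 := h7.mp hh1
        rw [inv_inv] at h8
        exact h8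
      have he : τ' = nl D F l' * h2 := by
        rw [hτ', he', hh2def]; group
      obtain ⟨ω', hω', hd'⟩ := M.exists_wt hh2
      have hτ'x : ∀ s < D.nroots, ∀ c : F, τ' * xg D s c * τ'⁻¹ = xg D (rl D l' s) ((ω' s : F) * c) := fun s hs c => by
        rw [he, hd']; exact M.nl_h_xg hl' hω' hs c
      have hfix_of : ∀ s < D.nroots, τ' * xg D s 1 * τ'⁻¹ = xg D s 1 → rl D l' s = s := by
        intro s hs h3
        rw [hτ'x s hs] at h3
        exact (M.xg_eq' hs (M.rl_lt hl' hs) one_ne_zero h3.symm).symm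
      have hr1 : rl D l' r = r := hfix_of r hr (hτ'r 1)
      -- roots fixed by `l` are fixed by `l'`
      have hfix : ∀ s < D.nroots, rl D l s = s → rl D l' s = s := by
        intro s hs hf
        have hp : D.pairing s r = 0 := by
          have h3 := M.pairing_rl hl hs hr
          rw [hf, hrn, M.pairing_neg hr] at h3
          omega
        have hp' : D.pairing s (D.neg r) = 0 := by rw [M.pairing_neg hr, hp, neg_zero]
        have c1 := hO s hs r hr hp
        have c2 := hO s hs _ hr' hp'
        apply hfix_of s hs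
        have h4 : m * xg D s 1 = xg D s 1 * m := by
          rw [hm, M.ng_eq]
          calc xg D r c * xg D (D.neg r) (-c⁻¹) * xg D r c * xg D s 1 = xg D r c * xg D (D.neg r) (-c⁻¹) * (xg D r c * xg D s 1) := by group
            _ = xg D r c * (xg D (D.neg r) (-c⁻¹) * xg D s 1) * xg D r c := by rw [c1]; group
            _ = (xg D r c * xg D s 1) * xg D (D.neg r) (-c⁻¹) * xg D r c := by rw [c2]; group
            _ = _ := by rw [c1]; group
        have h5 := M.tau_comm hl hh hsq hs hf (1 : F)
        have e : τ' * xg D s 1 * τ'⁻¹ = m * (τ * xg D s 1 * τ⁻¹) * m⁻¹ := by rw [hτ']; group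
        rw [e]
        change m * ((nl D F l * dgg D ω) * xg D s 1 * (nl D F l * dgg D ω)⁻¹) * m⁻¹ = _
        rw [h5, h4]; group
      have hcard : ((Finset.range D.nroots).filter fun s => rl D l' s ≠ s).card ≤ k := by
        have hsub : ((Finset.range D.nroots).filter fun s => rl D l' s ≠ s) ⊆ ((Finset.range D.nroots).filter fun s => rl D l s ≠ s).erase r := by
          intro s hs
          rw [Finset.mem_filter, Finset.mem_range] at hs
          rw [Finset.mem_erase, Finset.mem_filter, Finset.mem_range]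
          refine ⟨?_, hs.1, fun h => hs.2 (hfix s hs.1 h)⟩
          rintro rfl
          exact hs.2 hr1
        have hrm : r ∈ (Finset.range D.nroots).filter fun s => rl D l s ≠ s := by
          rw [Finset.mem_filter, Finset.mem_range]
          refine ⟨hr, ?_⟩
          rw [hrn]
          intro h3
          have h4 := M.a_ne_zero hr
          apply h4
          intro i hi
          have h5 := M.a_neg hi hr
          rw [h3] at h5
          omega
        have h3 := Finset.card_le_card hsub
        rw [Finset.card_erase_of_mem hrm] at h3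
        omega
      obtain ⟨R, hR1, hR2, g', hg', hgc⟩ := ih l' h2 hl' hh2 (by rw [← he]; exact hsq') hcard
      rw [← he] at hgc
      have horth : ∀ s ∈ R, D.pairing r s = 0 := by
        intro s hs
        obtain ⟨hs1, hs2⟩ := hR2 s hs
        have h3 := M.pairing_rl hl' hr hs1
        rw [hr1, hs2, M.pairing_neg hs1] at h3
        omega
      -- the subgroup `KR` commutes with `X_{±r}`
      have hcomm : ∀ x ∈ KR D F R, ∀ u : F, x * xg D r u = xg D r u * x ∧ x * xg D (D.neg r) u = xg D (D.neg r) u * x := by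
        intro x hx
        unfold KR XS at hx
        induction hx using Subgroup.closure_induction with
        | mem x hx =>
          obtain ⟨s, t, ⟨r', hr1', hs⟩, hslt, rfl⟩ := hx
          intro u
          have hps : D.pairing r s = 0 := by
            rcases hs with rfl | rfl
            · exact horth _ hr1'
            · rw [M.pairing_neg (hR2 r' hr1').1, horth _ hr1', neg_zero]
          refine ⟨hO r hr s hslt hps u t, hO _ hr' s hslt ?_ u t⟩
          rw [M.pairing_neg_left hr hslt, hps, neg_zero]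
        | one => intro u; simp
        | mul a b _ _ ha hb =>
          intro u
          refine ⟨?_, ?_⟩
          · rw [mul_assoc, (hb u).1, ← mul_assoc, (ha u).1, mul_assoc]
          · rw [mul_assoc, (hb u).2, ← mul_assoc, (ha u).2, mul_assoc]
        | inv a _ ha =>
          intro u
          refine ⟨?_, ?_⟩
          · rw [inv_mul_eq_iff_eq_mul, ← mul_assoc, (ha u).1, mul_assoc, mul_inv_cancel, mul_one]
          · rw [inv_mul_eq_iff_eq_mul, ← mul_assoc, (ha u).2, mul_assoc, mul_inv_cancel, mul_one]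
      -- the element of `⟨X_r, X_{-r}⟩`
      obtain ⟨e, he1⟩ := M.exists_sqrt (c : F)
      have he0 : e ≠ 0 := by
        rintro rfl
        exact hc0 (by rw [← he1]; ring)
      set gr := ng D r e * (xg D r c)⁻¹ with hgr
      have hgm : gr * m * gr⁻¹ = xg D r (1 : F) := by
        have h3 : (xg D r c)⁻¹ * m * xg D r c = xg D (D.neg r) c⁻¹ := by
          rw [hm, M.ng_eq]
          have h4 : xg D r c * xg D r c = 1 := by
            rw [M.xg_add, CharTwo.add_self_eq_zero, M.xg_zero]
          calc (xg D r c)⁻¹ * (xg D r c * xg D (D.neg r) (-c⁻¹) * xg D r c) * xg D r c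
              = xg D (D.neg r) (-c⁻¹) * (xg D r c * xg D r c) := by group
            _ = _ := by rw [h4, mul_one, M.neg_eq_char2]
        have h5 : gr * m * gr⁻¹ = ng D r e * ((xg D r c)⁻¹ * m * xg D r c) * (ng D r e)⁻¹ := by rw [hgr]; group
        rw [h5, h3]
        -- `n_r(e) x_{-r}(u) n_r(e)⁻¹ = x_r(e² u)`
        have h6 := M.ng_xg hr e (c) he0
        have h7 : ng D r e * ng D r e = 1 := by
          have h1 := M.ng_neg r e
          rw [M.neg_eq_char2] at h1
          nth_rewrite 1 [h1]
          exact inv_mul_cancel _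
        have h8 := M.ng_xg hr e (1 : F) he0
        rw [M.neg_eq_char2, mul_one, inv_pow, he1] at h8
        rw [← h8]
        calc ng D r e * (ng D r e * xg D r 1 * (ng D r e)⁻¹) * (ng D r e)⁻¹ = (ng D r e * ng D r e) * xg D r 1 * (ng D r e * ng D r e)⁻¹ := by group
          _ = _ := by rw [h7]; group
      have hgrmem : gr ∈ KR D F (r :: R) := by
        have hx : ∀ u : F, xg D r u ∈ KR D F (r :: R) := fun u => xg_mem_XS D (S := {s | ∃ r' ∈ r :: R, s = r' ∨ s = D.neg r'}) ⟨r, by simp, Or.inl rfl⟩ hr u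
        have hx' : ∀ u : F, xg D (D.neg r) u ∈ KR D F (r :: R) := fun u => xg_mem_XS D (S := {s | ∃ r' ∈ r :: R, s = r' ∨ s = D.neg r'}) ⟨r, by simp, Or.inr rfl⟩ hr' u
        rw [hgr, M.ng_eq]
        exact mul_mem (mul_mem (mul_mem (hx _) (hx' _)) (hx _)) (inv_mem (hx _))
      have hcg : ∀ x : GL D.Idx F, (∀ u : F, x * xg D r u = xg D r u * x) → (∀ u : F, x * xg D (D.neg r) u = xg D (D.neg r) u * x) → x * gr = gr * x := by
        intro x h3 h4
        have h5 : x * ng D r e = ng D r e * x := by
          rw [M.ng_eq]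
          calc x * (xg D r e * xg D (D.neg r) (-e⁻¹) * xg D r e) = (x * xg D r e) * xg D (D.neg r) (-e⁻¹) * xg D r e := by group
            _ = xg D r e * (x * xg D (D.neg r) (-e⁻¹)) * xg D r e := by rw [h3]; group
            _ = xg D r e * xg D (D.neg r) (-e⁻¹) * (x * xg D r e) := by rw [h4]; group
            _ = _ := by rw [h3]; group
        have h6 : x * (xg D r c)⁻¹ = (xg D r c)⁻¹ * x := by
          rw [← M.xg_neg]; exact h3 _
        rw [hgr, ← mul_assoc, h5, mul_assoc, h6, mul_assoc]
      have hτg : τ' * gr = gr * τ' := hcg τ' (fun u => mul_inv_eq_iff_eq_mul.mp (hτ'r u)) (fun u => mul_inv_eq_iff_eq_mul.mp (hτ'n u))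
      have hKmono : KR D F R ≤ KR D F (r :: R) := by
        refine XS_mono D F ?_
        rintro s ⟨r', h1, h2⟩ _
        exact ⟨r', by simp [h1], h2⟩
      have hg'x := (hcomm g' hg' 1).1
      refine ⟨r :: R, List.pairwise_cons.mpr ⟨horth, hR1⟩, ?_, g' * gr, mul_mem (hKmono hg') hgrmem, ?_⟩
      · intro s hs
        rcases List.mem_cons.mp hs with rfl | hs
        · exact ⟨hr, hrn⟩
        · refine ⟨(hR2 s hs).1, ?_⟩
          -- `τ = m τ'`, `m` centralises `X_s`
          have hslt := (hR2 s hs).1
          have hps := horth s hs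
          have c1 := hO r hr s hslt hps
          have c2 := hO _ hr' s hslt (by rw [M.pairing_neg_left hr hslt, hps, neg_zero])
          have hn1 : D.neg s < D.nroots := M.N.neg_lt hslt
          have c3 := hO r hr _ hn1 (by rw [M.pairing_neg hslt, hps, neg_zero])
          have c4 := hO _ hr' _ hn1 (by rw [M.pairing_neg hslt, M.pairing_neg_left hr hslt, hps, neg_zero, neg_zero])
          have h4 : ∀ v : F, m * xg D (D.neg s) v = xg D (D.neg s) v * m := by
            intro v
            rw [hm, M.ng_eq]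
            calc xg D r c * xg D (D.neg r) (-c⁻¹) * xg D r c * xg D (D.neg s) v = xg D r c * xg D (D.neg r) (-c⁻¹) * (xg D r c * xg D (D.neg s) v) := by group
              _ = xg D r c * (xg D (D.neg r) (-c⁻¹) * xg D (D.neg s) v) * xg D r c := by rw [← c3]; group
              _ = (xg D r c * xg D (D.neg s) v) * xg D (D.neg r) (-c⁻¹) * xg D r c := by rw [← c4]; group
              _ = _ := by rw [← c3]; group
          have h5 := hτx s hslt 1
          have e5 : τ * xg D s 1 * τ⁻¹ = m * (τ' * xg D s 1 * τ'⁻¹) * m⁻¹ := by rw [hττ]; group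
          rw [e5, hτ'x s hslt, (hR2 s hs).2, h4, mul_inv_cancel_right] at h5
          exact (M.xg_eq' hn1 (M.rl_lt hl hslt) (by simp) h5).symm
      · rw [List.map_cons, wg_cons, ← hgc]
        calc g' * gr * τ * (g' * gr)⁻¹ = g' * gr * (m * τ') * (g' * gr)⁻¹ := by rw [hττ]
          _ = g' * (gr * m * gr⁻¹) * (gr * τ' * gr⁻¹) * g'⁻¹ := by group
          _ = g' * xg D r 1 * (gr * τ' * gr⁻¹) * g'⁻¹ := by rw [hgm]
          _ = g' * xg D r 1 * (τ' * gr * gr⁻¹) * g'⁻¹ := by rw [hτg]
          _ = (g' * xg D r 1) * τ' * g'⁻¹ := by group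
          _ = _ := by rw [hg'x]; group

/-- **Involutions in characteristic two** are products of commuting root elements -/
theorem inv_orth [Finite F] [CharP F 2] (hO : OC D F) {t : ↥(D.group F)} (ht : t * t = 1) :
    ∃ R : List ℕ, R.Pairwise (fun r s => D.pairing r s = 0) ∧ (∀ r ∈ R, r < D.nroots) ∧
      ∃ g ∈ D.group F, g * (t : GL D.Idx F) * g⁻¹ = wg D (R.map fun r => (r, (1 : F))) := by
  classical
  obtain ⟨g0, l, hl, h, hh, hsq, he⟩ := M.inv_to_N ht
  obtain ⟨R, h1, h2, g, hg, h3⟩ := M.split_N hO _ l h hl hh hsq le_rfl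
  refine ⟨R, h1, fun r hr => (h2 r hr).1, g * g0, mul_mem ?_ g0.2, ?_⟩
  · rw [M.G_eq]
    exact XS_mono D F (fun s _ _ => trivial) hg
  · rw [← h3, ← he]
    change g * (g0 : GL D.Idx F) * t * (g * g0)⁻¹ = g * ((g0 : GL D.Idx F) * t * (g0 : GL D.Idx F)⁻¹) * g⁻¹
    group

end CG
end CfsgLib.Chev
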