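import Cfsg.Agent.Lib.ChevIn3
import Cfsg.Agent.Lib.ChevCe2
set_option autoImplicit false
set_option linter.style.haveILetI false
set_option linter.unusedSectionVars false
set_option linter.unusedSimpArgs false

/-! Involutions of Chevalley groups in characteristic two, IV: normal forms of products of orthogonal root elements. -/

namespace CfsgLib.Chev
open Cfsg.Lie Matrix CfsgLib.BNP

theorem merge_grp {G : Type*} [Group G] {a b c z v1 v2 v3 v12 v13 v23 v123 : G}
    (z_v1 : v1 * z = z * v1)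
    (z_v2 : v2 * z = z * v2)
    (z_v3 : v3 * z = z * v3)
    (z_v12 : v12 * z = z * v12)
    (z_v13 : v13 * z = z * v13)
    (z_v23 : v23 * z = z * v23)
    (z_v123 : v123 * z = z * v123)
    (z_a : a * z = z * a)
    (z_b : b * z = z * b)
    (z_c : c * z = z * c)
    (c_v2_v1 : v2 * v1 = v1 * v2)
    (c_v3_v1 : v3 * v1 = v1 * v3)
    (c_v12_v1 : v12 * v1 = v1 * v12)
    (c_v13_v1 : v13 * v1 = v1 * v13)
    (c_v23_v1 : v23 * v1 = v1 * (v23 * z))
    (c_v123_v1 : v123 * v1 = v1 * v123)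
    (c_v3_v2 : v3 * v2 = v2 * v3)
    (c_v12_v2 : v12 * v2 = v2 * v12)
    (c_v13_v2 : v13 * v2 = v2 * (v13 * z))
    (c_v23_v2 : v23 * v2 = v2 * v23)
    (c_v123_v2 : v123 * v2 = v2 * v123)
    (c_v12_v3 : v12 * v3 = v3 * (v12 * z))
    (c_v13_v3 : v13 * v3 = v3 * v13)
    (c_v23_v3 : v23 * v3 = v3 * v23)
    (c_v123_v3 : v123 * v3 = v3 * v123)
    (c_v13_v12 : v13 * v12 = v12 * v13)
    (c_v23_v12 : v23 * v12 = v12 * v23)
    (c_v123_v12 : v123 * v12 = v12 * v123)
    (c_v23_v13 : v23 * v13 = v13 * v23)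
    (c_v123_v13 : v123 * v13 = v13 * v123)
    (c_v123_v23 : v123 * v23 = v23 * v123)
    (c_a_v1 : a * v1 = v1 * a)
    (c_a_v2 : a * v2 = v2 * (a * v12))
    (c_a_v3 : a * v3 = v3 * (a * v13))
    (c_a_v12 : a * v12 = v12 * a)
    (c_a_v13 : a * v13 = v13 * a)
    (c_a_v23 : a * v23 = v23 * (a * v123))
    (c_a_v123 : a * v123 = v123 * a)
    (c_b_v1 : b * v1 = v1 * (b * v12))
    (c_b_v2 : b * v2 = v2 * b)
    (c_b_v3 : b * v3 = v3 * (b * v23))
    (c_b_v12 : b * v12 = v12 * b)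
    (c_b_v13 : b * v13 = v13 * (b * v123))
    (c_b_v23 : b * v23 = v23 * b)
    (c_b_v123 : b * v123 = v123 * b)
    (c_c_v1 : c * v1 = v1 * (c * v13))
    (c_c_v2 : c * v2 = v2 * (c * v23))
    (c_c_v3 : c * v3 = v3 * c)
    (c_c_v12 : c * v12 = v12 * (c * v123))
    (c_c_v13 : c * v13 = v13 * c)
    (c_c_v23 : c * v23 = v23 * c)
    (c_c_v123 : c * v123 = v123 * c)
    (s_z : z * z = 1)
    (s_v1 : v1 * v1 = 1)
    (s_v2 : v2 * v2 = 1)
    (s_v3 : v3 * v3 = 1)
    (s_v12 : v12 * v12 = 1)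
    (s_v13 : v13 * v13 = 1)
    (s_v23 : v23 * v23 = 1)
    (s_v123 : v123 * v123 = 1)
    : a * (b * (c * (v1 * (v2 * (v3 * (v12 * (v13 * (v23 * v123)))))))) = z * (v1 * (v2 * (v3 * (v12 * (v13 * (v23 * (v123 * (a * (b * c))))))))) := by
  have r_z_v1 : ∀ w, v1 * (z * w) = z * (v1 * w) := fun w => by rw [← mul_assoc, z_v1]; simp only [mul_assoc]
  have r_z_v2 : ∀ w, v2 * (z * w) = z * (v2 * w) := fun w => by rw [← mul_assoc, z_v2]; simp only [mul_assoc]
  have r_z_v3 : ∀ w, v3 * (z * w) = z * (v3 * w) := fun w => by rw [← mul_assoc, z_v3]; simp only [mul_assoc]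
  have r_z_v12 : ∀ w, v12 * (z * w) = z * (v12 * w) := fun w => by rw [← mul_assoc, z_v12]; simp only [mul_assoc]
  have r_z_v13 : ∀ w, v13 * (z * w) = z * (v13 * w) := fun w => by rw [← mul_assoc, z_v13]; simp only [mul_assoc]
  have r_z_v23 : ∀ w, v23 * (z * w) = z * (v23 * w) := fun w => by rw [← mul_assoc, z_v23]; simp only [mul_assoc]
  have r_z_v123 : ∀ w, v123 * (z * w) = z * (v123 * w) := fun w => by rw [← mul_assoc, z_v123]; simp only [mul_assoc]
  have r_z_a : ∀ w, a * (z * w) = z * (a * w) := fun w => by rw [← mul_assoc, z_a]; simp only [mul_assoc]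
  have r_z_b : ∀ w, b * (z * w) = z * (b * w) := fun w => by rw [← mul_assoc, z_b]; simp only [mul_assoc]
  have r_z_c : ∀ w, c * (z * w) = z * (c * w) := fun w => by rw [← mul_assoc, z_c]; simp only [mul_assoc]
  have r_c_v2_v1 : ∀ w, v2 * (v1 * w) = v1 * (v2 * w) := fun w => by rw [← mul_assoc, c_v2_v1]; simp only [mul_assoc]
  have r_c_v3_v1 : ∀ w, v3 * (v1 * w) = v1 * (v3 * w) := fun w => by rw [← mul_assoc, c_v3_v1]; simp only [mul_assoc]
  have r_c_v12_v1 : ∀ w, v12 * (v1 * w) = v1 * (v12 * w) := fun w => by rw [← mul_assoc, c_v12_v1]; simp only [mul_assoc]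
  have r_c_v13_v1 : ∀ w, v13 * (v1 * w) = v1 * (v13 * w) := fun w => by rw [← mul_assoc, c_v13_v1]; simp only [mul_assoc]
  have r_c_v23_v1 : ∀ w, v23 * (v1 * w) = v1 * (v23 * (z * w)) := fun w => by rw [← mul_assoc, c_v23_v1]; simp only [mul_assoc]
  have r_c_v123_v1 : ∀ w, v123 * (v1 * w) = v1 * (v123 * w) := fun w => by rw [← mul_assoc, c_v123_v1]; simp only [mul_assoc]
  have r_c_v3_v2 : ∀ w, v3 * (v2 * w) = v2 * (v3 * w) := fun w => by rw [← mul_assoc, c_v3_v2]; simp only [mul_assoc]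
  have r_c_v12_v2 : ∀ w, v12 * (v2 * w) = v2 * (v12 * w) := fun w => by rw [← mul_assoc, c_v12_v2]; simp only [mul_assoc]
  have r_c_v13_v2 : ∀ w, v13 * (v2 * w) = v2 * (v13 * (z * w)) := fun w => by rw [← mul_assoc, c_v13_v2]; simp only [mul_assoc]
  have r_c_v23_v2 : ∀ w, v23 * (v2 * w) = v2 * (v23 * w) := fun w => by rw [← mul_assoc, c_v23_v2]; simp only [mul_assoc]
  have r_c_v123_v2 : ∀ w, v123 * (v2 * w) = v2 * (v123 * w) := fun w => by rw [← mul_assoc, c_v123_v2]; simp only [mul_assoc]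
  have r_c_v12_v3 : ∀ w, v12 * (v3 * w) = v3 * (v12 * (z * w)) := fun w => by rw [← mul_assoc, c_v12_v3]; simp only [mul_assoc]
  have r_c_v13_v3 : ∀ w, v13 * (v3 * w) = v3 * (v13 * w) := fun w => by rw [← mul_assoc, c_v13_v3]; simp only [mul_assoc]
  have r_c_v23_v3 : ∀ w, v23 * (v3 * w) = v3 * (v23 * w) := fun w => by rw [← mul_assoc, c_v23_v3]; simp only [mul_assoc]
  have r_c_v123_v3 : ∀ w, v123 * (v3 * w) = v3 * (v123 * w) := fun w => by rw [← mul_assoc, c_v123_v3]; simp only [mul_assoc]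
  have r_c_v13_v12 : ∀ w, v13 * (v12 * w) = v12 * (v13 * w) := fun w => by rw [← mul_assoc, c_v13_v12]; simp only [mul_assoc]
  have r_c_v23_v12 : ∀ w, v23 * (v12 * w) = v12 * (v23 * w) := fun w => by rw [← mul_assoc, c_v23_v12]; simp only [mul_assoc]
  have r_c_v123_v12 : ∀ w, v123 * (v12 * w) = v12 * (v123 * w) := fun w => by rw [← mul_assoc, c_v123_v12]; simp only [mul_assoc]
  have r_c_v23_v13 : ∀ w, v23 * (v13 * w) = v13 * (v23 * w) := fun w => by rw [← mul_assoc, c_v23_v13]; simp only [mul_assoc]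
  have r_c_v123_v13 : ∀ w, v123 * (v13 * w) = v13 * (v123 * w) := fun w => by rw [← mul_assoc, c_v123_v13]; simp only [mul_assoc]
  have r_c_v123_v23 : ∀ w, v123 * (v23 * w) = v23 * (v123 * w) := fun w => by rw [← mul_assoc, c_v123_v23]; simp only [mul_assoc]
  have r_c_a_v1 : ∀ w, a * (v1 * w) = v1 * (a * w) := fun w => by rw [← mul_assoc, c_a_v1]; simp only [mul_assoc]
  have r_c_a_v2 : ∀ w, a * (v2 * w) = v2 * (a * (v12 * w)) := fun w => by rw [← mul_assoc, c_a_v2]; simp only [mul_assoc]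
  have r_c_a_v3 : ∀ w, a * (v3 * w) = v3 * (a * (v13 * w)) := fun w => by rw [← mul_assoc, c_a_v3]; simp only [mul_assoc]
  have r_c_a_v12 : ∀ w, a * (v12 * w) = v12 * (a * w) := fun w => by rw [← mul_assoc, c_a_v12]; simp only [mul_assoc]
  have r_c_a_v13 : ∀ w, a * (v13 * w) = v13 * (a * w) := fun w => by rw [← mul_assoc, c_a_v13]; simp only [mul_assoc]
  have r_c_a_v23 : ∀ w, a * (v23 * w) = v23 * (a * (v123 * w)) := fun w => by rw [← mul_assoc, c_a_v23]; simp only [mul_assoc]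
  have r_c_a_v123 : ∀ w, a * (v123 * w) = v123 * (a * w) := fun w => by rw [← mul_assoc, c_a_v123]; simp only [mul_assoc]
  have r_c_b_v1 : ∀ w, b * (v1 * w) = v1 * (b * (v12 * w)) := fun w => by rw [← mul_assoc, c_b_v1]; simp only [mul_assoc]
  have r_c_b_v2 : ∀ w, b * (v2 * w) = v2 * (b * w) := fun w => by rw [← mul_assoc, c_b_v2]; simp only [mul_assoc]
  have r_c_b_v3 : ∀ w, b * (v3 * w) = v3 * (b * (v23 * w)) := fun w => by rw [← mul_assoc, c_b_v3]; simp only [mul_assoc]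
  have r_c_b_v12 : ∀ w, b * (v12 * w) = v12 * (b * w) := fun w => by rw [← mul_assoc, c_b_v12]; simp only [mul_assoc]
  have r_c_b_v13 : ∀ w, b * (v13 * w) = v13 * (b * (v123 * w)) := fun w => by rw [← mul_assoc, c_b_v13]; simp only [mul_assoc]
  have r_c_b_v23 : ∀ w, b * (v23 * w) = v23 * (b * w) := fun w => by rw [← mul_assoc, c_b_v23]; simp only [mul_assoc]
  have r_c_b_v123 : ∀ w, b * (v123 * w) = v123 * (b * w) := fun w => by rw [← mul_assoc, c_b_v123]; simp only [mul_assoc]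
  have r_c_c_v1 : ∀ w, c * (v1 * w) = v1 * (c * (v13 * w)) := fun w => by rw [← mul_assoc, c_c_v1]; simp only [mul_assoc]
  have r_c_c_v2 : ∀ w, c * (v2 * w) = v2 * (c * (v23 * w)) := fun w => by rw [← mul_assoc, c_c_v2]; simp only [mul_assoc]
  have r_c_c_v3 : ∀ w, c * (v3 * w) = v3 * (c * w) := fun w => by rw [← mul_assoc, c_c_v3]; simp only [mul_assoc]
  have r_c_c_v12 : ∀ w, c * (v12 * w) = v12 * (c * (v123 * w)) := fun w => by rw [← mul_assoc, c_c_v12]; simp only [mul_assoc]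
  have r_c_c_v13 : ∀ w, c * (v13 * w) = v13 * (c * w) := fun w => by rw [← mul_assoc, c_c_v13]; simp only [mul_assoc]
  have r_c_c_v23 : ∀ w, c * (v23 * w) = v23 * (c * w) := fun w => by rw [← mul_assoc, c_c_v23]; simp only [mul_assoc]
  have r_c_c_v123 : ∀ w, c * (v123 * w) = v123 * (c * w) := fun w => by rw [← mul_assoc, c_c_v123]; simp only [mul_assoc]
  have r_s_z : ∀ w, z * (z * w) = w := fun w => by rw [← mul_assoc, s_z, one_mul]
  have r_s_v1 : ∀ w, v1 * (v1 * w) = w := fun w => by rw [← mul_assoc, s_v1, one_mul]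
  have r_s_v2 : ∀ w, v2 * (v2 * w) = w := fun w => by rw [← mul_assoc, s_v2, one_mul]
  have r_s_v3 : ∀ w, v3 * (v3 * w) = w := fun w => by rw [← mul_assoc, s_v3, one_mul]
  have r_s_v12 : ∀ w, v12 * (v12 * w) = w := fun w => by rw [← mul_assoc, s_v12, one_mul]
  have r_s_v13 : ∀ w, v13 * (v13 * w) = w := fun w => by rw [← mul_assoc, s_v13, one_mul]
  have r_s_v23 : ∀ w, v23 * (v23 * w) = w := fun w => by rw [← mul_assoc, s_v23, one_mul]
  have r_s_v123 : ∀ w, v123 * (v123 * w) = w := fun w => by rw [← mul_assoc, s_v123, one_mul]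
  simp only [mul_assoc, z_v1, z_v2, z_v3, z_v12, z_v13, z_v23, z_v123, z_a, z_b, z_c, c_v2_v1, c_v3_v1, c_v12_v1, c_v13_v1, c_v23_v1, c_v123_v1, c_v3_v2, c_v12_v2, c_v13_v2, c_v23_v2, c_v123_v2, c_v12_v3, c_v13_v3, c_v23_v3, c_v123_v3, c_v13_v12, c_v23_v12, c_v123_v12, c_v23_v13, c_v123_v13, c_v123_v23, c_a_v1, c_a_v2, c_a_v3, c_a_v12, c_a_v13, c_a_v23, c_a_v123, c_b_v1, c_b_v2, c_b_v3, c_b_v12, c_b_v13, c_b_v23, c_b_v123, c_c_v1, c_c_v2, c_c_v3, c_c_v12, c_c_v13, c_c_v23, c_c_v123, r_z_v1, r_z_v2, r_z_v3, r_z_v12, r_z_v13, r_z_v23, r_z_v123, r_z_a, r_z_b, r_z_c, r_c_v2_v1, r_c_v3_v1, r_c_v12_v1, r_c_v13_v1, r_c_v23_v1, r_c_v123_v1, r_c_v3_v2, r_c_v12_v2, r_c_v13_v2, r_c_v23_v2, r_c_v123_v2, r_c_v12_v3, r_c_v13_v3, r_c_v23_v3, r_c_v123_v3, r_c_v13_v12, r_c_v23_v12, r_c_v123_v12, r_c_v23_v13, r_c_v123_v13, r_c_v123_v23, r_c_a_v1, r_c_a_v2, r_c_a_v3, r_c_a_v12, r_c_a_v13, r_c_a_v23, r_c_a_v123, r_c_b_v1, r_c_b_v2, r_c_b_v3, r_c_b_v12, r_c_b_v13,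 r_c_b_v23, r_c_b_v123, r_c_c_v1, r_c_c_v2, r_c_c_v3, r_c_c_v12, r_c_c_v13, r_c_c_v23, r_c_c_v123, s_z, s_v1, s_v2, s_v3, s_v12, s_v13, s_v23, s_v123, r_s_z, r_s_v1, r_s_v2, r_s_v3, r_s_v12, r_s_v13, r_s_v23, r_s_v123, mul_one]


/-- check that orthogonal root subgroups commute and that orthogonality is symmetric -/
def ocChk (D : ChevalleyDatum) : Bool :=
  (List.range D.rank).all fun i => (List.range D.nroots).all fun s =>
    (!(D.cartan i s == 0) || (evC D 2 (D.simple i) s && D.pairing s (D.simple i) == 0)) &&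
    (!(D.pairing s (D.simple i) == 0) || D.cartan i s == 0)

/-- check of one commutator relation modulo two -/
def rc (D : ChevalleyDatum) (s r : ℕ) (k : Option ℕ) : Bool :=
  decide (r < D.nroots) && decide (s < D.nroots) && !(s == D.neg r) &&
  match k with
  | none => s == r || evC D 2 r s
  | some k => !(s == r) && match D.commTerms r s with
    | [(k', c, i, j)] => k' == k && c % 2 == 1 && i == 1 && j == 1
    | _ => false

def mergeChk (D : ChevalleyDatum) (z v1 v2 v3 v12 v13 v23 v123 a b c : ℕ) : Bool :=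
  rc D v1 z none &&
  rc D v2 z none &&
  rc D v3 z none &&
  rc D v12 z none &&
  rc D v13 z none &&
  rc D v23 z none &&
  rc D v123 z none &&
  rc D a z none &&
  rc D b z none &&
  rc D c z none &&
  rc D v2 v1 none &&
  rc D v3 v1 none &&
  rc D v12 v1 none &&
  rc D v13 v1 none &&
  rc D v23 v1 (some z) &&
  rc D v123 v1 none &&
  rc D v3 v2 none &&
  rc D v12 v2 none &&
  rc D v13 v2 (some z) &&
  rc D v23 v2 none &&
  rc D v123 v2 none &&
  rc D v12 v3 (some z) &&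
  rc D v13 v3 none &&
  rc D v23 v3 none &&
  rc D v123 v3 none &&
  rc D v13 v12 none &&
  rc D v23 v12 none &&
  rc D v123 v12 none &&
  rc D v23 v13 none &&
  rc D v123 v13 none &&
  rc D v123 v23 none &&
  rc D a v1 none &&
  rc D a v2 (some v12) &&
  rc D a v3 (some v13) &&
  rc D a v12 none &&
  rc D a v13 none &&
  rc D a v23 (some v123) &&
  rc D a v123 none &&
  rc D b v1 (some v12) &&
  rc D b v2 none &&
  rc D b v3 (some v23) &&
  rc D b v12 none &&
  rc D b v13 (some v123) &&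
  rc D b v23 none &&
  rc D b v123 none &&
  rc D c v1 (some v13) &&
  rc D c v2 (some v23) &&
  rc D c v3 none &&
  rc D c v12 (some v123) &&
  rc D c v13 none &&
  rc D c v23 none &&
  rc D c v123 none

/-- product of the root elements with parameter one -/
noncomputable def W1 (D : ChevalleyDatum) (F : Type*) [Field F] (R : List ℕ) : GL D.Idx F := (R.map fun r => xg D r (1 : F)).prod

theorem W1_nil (D : ChevalleyDatum) (F : Type*) [Field F] : W1 D F [] = 1 := rfl
theorem W1_cons (D : ChevalleyDatum) (F : Type*) [Field F] (r : ℕ) (R : List ℕ) : W1 D F (r :: R) = xg D r (1 : F) * W1 D F R := by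
  unfold W1; rw [List.map_cons, List.prod_cons]
theorem W1_append (D : ChevalleyDatum) (F : Type*) [Field F] (R R' : List ℕ) : W1 D F (R ++ R') = W1 D F R * W1 D F R' := by
  unfold W1; rw [List.map_append, List.prod_append]

/-- conjugacy of products of root elements -/
def Cj (D : ChevalleyDatum) (F : Type*) [Field F] (R R' : List ℕ) : Prop := ∃ g ∈ D.group F, g * W1 D F R * g⁻¹ = W1 D F R'

theorem Cj.refl {D : ChevalleyDatum} {F : Type*} [Field F] (R : List ℕ) : Cj D F R R := ⟨1, one_mem _, by group⟩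
theorem Cj.symm {D : ChevalleyDatum} {F : Type*} [Field F] {R R' : List ℕ} (h : Cj D F R R') : Cj D F R' R := by
  obtain ⟨g, hg, h⟩ := h
  exact ⟨g⁻¹, inv_mem hg, by rw [← h]; group⟩
theorem Cj.trans {D : ChevalleyDatum} {F : Type*} [Field F] {R R' R'' : List ℕ} (h : Cj D F R R') (h' : Cj D F R' R'') : Cj D F R R'' := by
  obtain ⟨g, hg, h⟩ := h
  obtain ⟨g', hg', h'⟩ := h'
  exact ⟨g' * g, mul_mem hg' hg, by rw [← h', ← h]; group⟩

/-- the state check -/
def stChk (D : ChevalleyDatum) (B J cands : List ℕ) : Bool :=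
  (J.all fun i => decide (i < D.rank) && B.all fun b => D.reflectRoot i b == b) && (B.all fun b => decide (b < D.nroots)) &&
  (List.range D.nroots).all fun r => (B.any fun b => !(D.pairing b r == 0)) || (J.any fun i => decide (D.cartan i r < 0)) || cands.contains r

namespace CG
variable {D : ChevalleyDatum} {F : Type*} [Field F] (M : CG D F)
include M

theorem oc_of_chk [CharP F 2] (h : ocChk D = true) : OC D F := by
  unfold ocChk at h
  simp only [List.all_eq_true, List.mem_range] at h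
  intro r hr
  refine M.root_ind (P := fun r => ∀ s < D.nroots, D.pairing r s = 0 → ∀ t u : F, xg D s u * xg D r t = xg D r t * xg D s u) ?_ ?_ r hr
  · intro i hi s hs hp t u
    have h1 := h i hi s hs
    rw [M.pairing_simple hi hs] at hp
    rw [Bool.and_eq_true, Bool.or_eq_true, Bool.not_eq_true', beq_eq_false_iff_ne, Bool.and_eq_true] at h1
    have h2 := (h1.1.resolve_left (fun h => h hp)).1
    refine M.comm_of_ev (M.N.simple_lt i hi) hs ?_ (m := 2) (by exact_mod_cast CharTwo.two_eq_zero) (Or.inr h2) t u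
    rintro rfl
    rw [M.N.cartan_neg (M.N.simple_lt i hi) hi, M.cartan_self hi] at hp
    norm_num at hp
  · intro i hi r hr ih s hs hp t u
    have h1 := M.pairing_refl_refl hi hr (M.N.refl_lt hi hs)
    rw [M.N.refl_refl hi hs, hp] at h1
    have h2 := ih _ (M.N.refl_lt hi hs) h1.symm t u
    have hW : Wd D [i] := fun j hj => by rw [List.mem_singleton] at hj; rw [hj]; exact hi
    have h3 := M.nl_xg2 hW hr t
    have h4 := M.nl_xg2 hW (M.N.refl_lt hi hs) u
    rw [rl_cons, rl_nil] at h3 h4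
    rw [M.N.refl_refl hi hs] at h4
    rw [← h3, ← h4]
    calc nl D F [i] * xg D (D.reflectRoot i s) u * (nl D F [i])⁻¹ * (nl D F [i] * xg D r t * (nl D F [i])⁻¹)
        = nl D F [i] * (xg D (D.reflectRoot i s) u * xg D r t) * (nl D F [i])⁻¹ := by group
      _ = _ := by rw [h2]; group

theorem pz_symm (h : ocChk D = true) {r s : ℕ} (hr : r < D.nroots) (hs : s < D.nroots) (hp : D.pairing r s = 0) : D.pairing s r = 0 := by
  unfold ocChk at h
  simp only [List.all_eq_true, List.mem_range] at h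
  revert s
  refine M.root_ind (P := fun r => ∀ {s : ℕ}, s < D.nroots → D.pairing r s = 0 → D.pairing s r = 0) ?_ ?_ r hr
  · intro i hi s hs hp
    have h1 := h i hi s hs
    rw [M.pairing_simple hi hs] at hp
    rw [Bool.and_eq_true, Bool.or_eq_true, Bool.not_eq_true', beq_eq_false_iff_ne, Bool.and_eq_true, beq_iff_eq] at h1
    exact (h1.1.resolve_left (fun h => h hp)).2
  · intro i hi r hr ih s hs hp
    have h1 := M.pairing_refl_refl hi hr (M.N.refl_lt hi hs)
    rw [M.N.refl_refl hi hs, hp] at h1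
    have h2 := ih (M.N.refl_lt hi hs) h1.symm
    have h3 := M.pairing_refl_refl hi (M.N.refl_lt hi hs) hr
    rwa [M.N.refl_refl hi hs, h2] at h3

theorem xg_sq2 [CharP F 2] (r : ℕ) : xg D r (1 : F) * xg D r 1 = 1 := by
  rw [M.xg_add, CharTwo.add_self_eq_zero, M.xg_zero]

theorem rc_none [CharP F 2] {s r : ℕ} (h : rc D s r none = true) : xg D s (1 : F) * xg D r 1 = xg D r 1 * xg D s 1 := by
  unfold rc at h
  simp only [Bool.and_eq_true, decide_eq_true_eq, Bool.not_eq_true', beq_eq_false_iff_ne, Bool.or_eq_true, beq_iff_eq] at h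
  obtain ⟨⟨⟨h1, h2⟩, h3⟩, h4⟩ := h
  exact M.comm_of_ev h1 h2 h3 (m := 2) (by exact_mod_cast CharTwo.two_eq_zero) h4 1 1

theorem rc_some [CharP F 2] {s r k : ℕ} (h : rc D s r (some k) = true) : xg D s (1 : F) * xg D r 1 = xg D r 1 * (xg D s 1 * xg D k 1) := by
  unfold rc at h
  simp only [Bool.and_eq_true, decide_eq_true_eq, Bool.not_eq_true', beq_eq_false_iff_ne] at h
  obtain ⟨⟨⟨h1, h2⟩, h3⟩, h4, h5⟩ := h
  have h6 := M.comm_xg h1 h2 h4 h3 (1 : F) 1
  rw [h6, mul_assoc]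
  congr 2
  unfold ChevalleyDatum.commWord
  split at h5
  · rename_i k' c i j hL
    simp only [Bool.and_eq_true, beq_iff_eq] at h5
    obtain ⟨⟨⟨h7, h8⟩, h9⟩, h10⟩ := h5
    rw [hL, h7, h9, h10]
    simp only [List.map_cons, List.map_nil]
    rw [wg_cons, wg_nil, mul_one]
    simp only
    congr 1
    have hc : ((c : ℤ) : F) = 1 := by
      obtain ⟨d, hd⟩ : ∃ d, c = 2 * d + 1 := ⟨c / 2, by omega⟩
      rw [hd]; push_cast
      rw [CharTwo.two_eq_zero]; ring
    rw [hc, M.neg_eq_char2]; ring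
  · exact absurd h5 (by simp)

theorem merge_app [CharP F 2] {z v1 v2 v3 v12 v13 v23 v123 a b c : ℕ} (h : mergeChk D z v1 v2 v3 v12 v13 v23 v123 a b c = true) :
    let x : ℕ → GL D.Idx F := fun r => xg D r 1
    x a * (x b * (x c * (x v1 * (x v2 * (x v3 * (x v12 * (x v13 * (x v23 * x v123)))))))) =
      x z * (x v1 * (x v2 * (x v3 * (x v12 * (x v13 * (x v23 * (x v123 * (x a * (x b * x c))))))))) := by
  intro x
  unfold mergeChk at h
  simp only [Bool.and_eq_true] at h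
  obtain ⟨⟨⟨⟨⟨⟨⟨⟨⟨⟨⟨⟨⟨⟨⟨⟨⟨⟨⟨⟨⟨⟨⟨⟨⟨⟨⟨⟨⟨⟨⟨⟨⟨⟨⟨⟨⟨⟨⟨⟨⟨⟨⟨⟨⟨⟨⟨⟨⟨⟨⟨q_z_v1, q_z_v2⟩, q_z_v3⟩, q_z_v12⟩, q_z_v13⟩, q_z_v23⟩, q_z_v123⟩, q_z_a⟩, q_z_b⟩, q_z_c⟩, q_c_v2_v1⟩, q_c_v3_v1⟩, q_c_v12_v1⟩, q_c_v13_v1⟩, q_c_v23_v1⟩, q_c_v123_v1⟩, q_c_v3_v2⟩, q_c_v12_v2⟩, q_c_v13_v2⟩, q_c_v23_v2⟩, q_c_v123_v2⟩, q_c_v12_v3⟩, q_c_v13_v3⟩, q_c_v23_v3⟩, q_c_v123_v3⟩, q_c_v13_v12⟩, q_c_v23_v12⟩, q_c_v123_v12⟩, q_c_v23_v13⟩, q_c_v123_v13⟩, q_c_v123_v23⟩, q_c_a_v1⟩, q_c_a_v2⟩, q_c_a_v3⟩, q_c_a_v12⟩, q_c_a_v13⟩, q_c_a_v23⟩, q_c_a_v123⟩, q_c_b_v1⟩, q_c_b_v2⟩, q_c_b_v3⟩, q_c_b_v12⟩, q_c_b_v13⟩, q_c_b_v23⟩, q_c_b_v123⟩, q_c_c_v1⟩, q_c_c_v2⟩, q_c_c_v3⟩, q_c_c_v12⟩, q_c_c_v13⟩, q_c_c_v23⟩, q_c_c_v123⟩ := h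
  exact merge_grp (M.rc_none q_z_v1) (M.rc_none q_z_v2) (M.rc_none q_z_v3) (M.rc_none q_z_v12) (M.rc_none q_z_v13) (M.rc_none q_z_v23) (M.rc_none q_z_v123) (M.rc_none q_z_a) (M.rc_none q_z_b) (M.rc_none q_z_c) (M.rc_none q_c_v2_v1) (M.rc_none q_c_v3_v1) (M.rc_none q_c_v12_v1) (M.rc_none q_c_v13_v1) (M.rc_some q_c_v23_v1) (M.rc_none q_c_v123_v1) (M.rc_none q_c_v3_v2) (M.rc_none q_c_v12_v2) (M.rc_some q_c_v13_v2) (M.rc_none q_c_v23_v2) (M.rc_none q_c_v123_v2) (M.rc_some q_c_v12_v3) (M.rc_none q_c_v13_v3) (M.rc_none q_c_v23_v3) (M.rc_none q_c_v123_v3) (M.rc_none q_c_v13_v12) (M.rc_none q_c_v23_v12) (M.rc_none q_c_v123_v12) (M.rc_none q_c_v23_v13) (M.rc_none q_c_v123_v13) (M.rc_none q_c_v123_v23) (M.rc_none q_c_a_v1) (M.rc_some q_c_a_v2) (M.rc_some q_c_a_v3) (M.rc_none q_c_a_v12) (M.rc_none q_c_a_v13) (M.rc_some q_c_a_v23) (M.rc_none q_c_a_v123) (M.rc_some q_c_b_v1) (M.rc_none q_c_b_v2) (M.rc_some q_c_b_v3) (M.rc_none q_c_b_v12) (M.rc_some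 q_c_b_v13) (M.rc_none q_c_b_v23) (M.rc_none q_c_b_v123) (M.rc_some q_c_c_v1) (M.rc_some q_c_c_v2) (M.rc_none q_c_c_v3) (M.rc_some q_c_c_v12) (M.rc_none q_c_c_v13) (M.rc_none q_c_c_v23) (M.rc_none q_c_c_v123)
    (M.xg_sq2 _) (M.xg_sq2 _) (M.xg_sq2 _) (M.xg_sq2 _) (M.xg_sq2 _) (M.xg_sq2 _) (M.xg_sq2 _) (M.xg_sq2 _)

theorem cj_rl [CharP F 2] {l : List ℕ} (hl : Wd D l) {R : List ℕ} (hR : ∀ r ∈ R, r < D.nroots) : Cj D F R (R.map (rl D l)) := by
  refine ⟨nl D F l, M.N_le_G (M.nl_mem hl), ?_⟩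
  induction R with
  | nil => rw [List.map_nil, W1_nil]; group
  | cons r R ih =>
    rw [List.map_cons, W1_cons, W1_cons, ← ih fun s hs => hR s (by simp [hs]), ← M.nl_xg2 hl (hR r (by simp))]
    group

/-- moving a root into the dominant chamber of a parabolic subgroup -/
theorem exists_dom {J : List ℕ} (hJ : ∀ i ∈ J, i < D.rank) : ∀ (k r : ℕ), r < D.nroots → D.nroots - r ≤ k →
    ∃ l, Wd D l ∧ (∀ i ∈ l, i ∈ J) ∧ ∀ i ∈ J, 0 ≤ D.cartan i (rl D l r) := by
  intro k
  induction k with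
  | zero => intro r hr hk; omega
  | succ k ih =>
    intro r hr hk
    by_cases h : ∀ i ∈ J, 0 ≤ D.cartan i r
    · exact ⟨[], fun i hi => by simp at hi, fun i hi => by simp at hi, h⟩
    · push Not at h
      obtain ⟨i, hi, hneg⟩ := h
      have hi' := hJ i hi
      have h1 : M.L r < M.L (D.reflectRoot i r) := by
        rw [M.L_refl hi' hr]
        have h2 := M.L_pos' (M.N.simple_lt i hi') (M.N.simple_pos hi')
        nlinarith
      have h3 := M.lt_of_L hr h1
      have h4 := M.N.refl_lt hi' hr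
      obtain ⟨l, hl, hlJ, hd⟩ := ih (D.reflectRoot i r) h4 (by omega)
      refine ⟨l ++ [i], ?_, ?_, ?_⟩
      · intro j hj
        rcases List.mem_append.mp hj with h | h
        · exact hl j h
        · rw [List.mem_singleton] at h; rw [h]; exact hi'
      · intro j hj
        rcases List.mem_append.mp hj with h | h
        · exact hlJ j h
        · rw [List.mem_singleton] at h; rw [h]; exact hi
      · intro j hj
        rw [rl_append]; exact hd j hj

/-- the new root can be dropped -/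
def _root_.CfsgLib.Chev.Absorb (D : ChevalleyDatum) (F : Type*) [Field F] (B : List ℕ) (c : ℕ) : Prop :=
  ∃ q ∈ D.group F, q * W1 D F B * q⁻¹ = W1 D F (B ++ [c]) ∧
    ∀ s < D.nroots, (∀ b ∈ B, D.pairing b s = 0) → D.pairing c s = 0 → q * xg D s (1 : F) = xg D s 1 * q

/-- the machine -/
theorem mach [CharP F 2] (Sts : List (List ℕ)) (hG : ∀ B ∈ Sts, ∃ J cands, stChk D B J cands = true ∧ ∀ c ∈ cands, Absorb D F B c ∨ B ++ [c] ∈ Sts) :
    ∀ (n : ℕ) (R : List ℕ), R.length ≤ n → ∀ B ∈ Sts, (∀ s ∈ R, s < D.nroots) → (∀ b ∈ B, ∀ s ∈ R, D.pairing b s = 0) →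
      R.Pairwise (fun r s => D.pairing r s = 0) → ∃ S ∈ Sts, Cj D F (B ++ R) S := by
  intro n
  induction n with
  | zero =>
    intro R hR B hB _ _ _
    have : R = [] := List.length_eq_zero_iff.mp (Nat.le_zero.mp hR)
    rw [this, List.append_nil]
    exact ⟨B, hB, Cj.refl B⟩
  | succ n ih =>
    intro R hR B hB hlt horth hpw
    match R, hR, hlt, horth, hpw with
    | [], _, _, _, _ => rw [List.append_nil]; exact ⟨B, hB, Cj.refl B⟩
    | r :: R, hR, hlt, horth, hpw =>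
      obtain ⟨J, cands, hst, htr⟩ := hG B hB
      unfold stChk at hst
      simp only [Bool.and_eq_true, List.all_eq_true, decide_eq_true_eq, beq_iff_eq, List.mem_range, Bool.or_eq_true, List.any_eq_true,
        Bool.not_eq_true', beq_eq_false_iff_ne, List.contains_iff_mem] at hst
      obtain ⟨⟨h1, h2⟩, h3⟩ := hst
      have hr := hlt r (by simp)
      obtain ⟨l, hl, hlJ, hd⟩ := M.exists_dom (J := J) (fun i hi => (h1 i hi).1) _ r hr le_rfl
      have hfixB : ∀ b ∈ B, rl D l b = b := by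
        intro b hb
        clear hd hl
        induction l with
        | nil => rfl
        | cons i l ih =>
          rw [rl_cons, ih fun j hj => hlJ j (by simp [hj])]
          exact (h1 i (hlJ i (by simp))).2 b hb
      have hr' := M.rl_lt hl hr
      have hc : rl D l r ∈ cands := by
        rcases h3 (rl D l r) hr' with (h4 | h4) | h4
        · exfalso
          obtain ⟨b, hb, h5⟩ := h4
          apply h5
          have h6 := M.pairing_rl hl (h2 b hb) hr
          rw [hfixB b hb] at h6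
          rw [h6]; exact horth b hb r (by simp)
        · exfalso
          obtain ⟨i, hi, h5⟩ := h4
          exact absurd (hd i hi) (not_le.mpr h5)
        · exact h4
      have hRlt : ∀ s ∈ R, s < D.nroots := fun s hs => hlt s (by simp [hs])
      have hcj : Cj D F (B ++ r :: R) (B ++ rl D l r :: R.map (rl D l)) := by
        have h5 := M.cj_rl (F := F) hl (R := B ++ r :: R) (fun s hs => by
          rcases List.mem_append.mp hs with h | h
          · exact h2 s h
          · exact hlt s h)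
        rw [List.map_append, List.map_cons] at h5
        have h6 : B.map (rl D l) = B := by
          conv_rhs => rw [← List.map_id B]
          exact List.map_congr_left fun b hb => hfixB b hb
        rwa [h6] at h5
      have hlt3 : ∀ s ∈ R.map (rl D l), s < D.nroots := by
        intro s hs
        obtain ⟨s', hs', rfl⟩ := List.mem_map.mp hs
        exact M.rl_lt hl (hRlt s' hs')
      have horth3 : ∀ b ∈ B, ∀ s ∈ R.map (rl D l), D.pairing b s = 0 := by
        intro b hb s hs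
        obtain ⟨s', hs', rfl⟩ := List.mem_map.mp hs
        have h6 := M.pairing_rl hl (h2 b hb) (hRlt s' hs')
        rw [hfixB b hb] at h6
        rw [h6]; exact horth b hb s' (by simp [hs'])
      have horthc : ∀ s ∈ R.map (rl D l), D.pairing (rl D l r) s = 0 := by
        intro s hs
        obtain ⟨s', hs', rfl⟩ := List.mem_map.mp hs
        rw [M.pairing_rl hl hr (hRlt s' hs')]
        exact (List.pairwise_cons.mp hpw).1 s' hs'
      have hpw3 : (R.map (rl D l)).Pairwise (fun r s => D.pairing r s = 0) := by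
        rw [List.pairwise_map]
        refine List.Pairwise.imp_of_mem ?_ (List.pairwise_cons.mp hpw).2
        intro a b ha hb hab
        rw [M.pairing_rl hl (hRlt a ha) (hRlt b hb)]; exact hab
      have hlen : (R.map (rl D l)).length ≤ n := by
        rw [List.length_map]
        simpa using hR
      rcases htr _ hc with habs | hgo
      · obtain ⟨q, hq, hqB, hqs⟩ := habs
        have hcj2 : Cj D F (B ++ rl D l r :: R.map (rl D l)) (B ++ R.map (rl D l)) := by
          apply Cj.symm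
          refine ⟨q, hq, ?_⟩
          have hcomm : ∀ R' : List ℕ, (∀ s ∈ R', s ∈ R.map (rl D l)) → q * W1 D F R' = W1 D F R' * q := by
            intro R'
            induction R' with
            | nil => intro _; rw [W1_nil]; group
            | cons s R' ih' =>
              intro h
              have hs := h s (by simp)
              rw [W1_cons, ← mul_assoc, hqs s (hlt3 s hs) (fun b hb => horth3 b hb s hs) (horthc s hs), mul_assoc,
                ih' fun s' hs' => h s' (by simp [hs']), mul_assoc]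
          rw [W1_append]
          have e : B ++ rl D l r :: R.map (rl D l) = (B ++ [rl D l r]) ++ R.map (rl D l) := by simp
          rw [e, W1_append, ← hqB]
          have h7 := hcomm _ (fun s hs => hs)
          calc q * (W1 D F B * W1 D F (R.map (rl D l))) * q⁻¹ = (q * W1 D F B * q⁻¹) * (q * W1 D F (R.map (rl D l))) * q⁻¹ := by group
            _ = _ := by rw [h7]; group
        obtain ⟨S, hS, hS'⟩ := ih _ hlen B hB hlt3 horth3 hpw3
        exact ⟨S, hS, hcj.trans (hcj2.trans hS')⟩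
      · obtain ⟨S, hS, hS'⟩ := ih _ hlen _ hgo hlt3 (by
          intro b hb s hs
          rcases List.mem_append.mp hb with h | h
          · exact horth3 b h s hs
          · rw [List.mem_singleton] at h; rw [h]; exact horthc s hs) hpw3
        refine ⟨S, hS, hcj.trans ?_⟩
        have e : B ++ rl D l r :: R.map (rl D l) = (B ++ [rl D l r]) ++ R.map (rl D l) := by simp
        rw [e]; exact hS'

end CG
end CfsgLib.Chev
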