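import Cfsg.Agent.Lib.ChevIn4
set_option autoImplicit false
set_option linter.style.haveILetI false
set_option linter.unusedSectionVars false

/-! Involutions of Chevalley groups in characteristic two, V: absorbing an orthogonal root. -/

namespace CfsgLib.Chev
open Cfsg.Lie Matrix CfsgLib.BNP

/-- `2 v = z + e₁ a + e₂ b + e₃ c` on the simple coroots -/
def linChk (D : ChevalleyDatum) (z a b c v : ℕ) (e1 e2 e3 : ℤ) : Bool :=
  (List.range D.rank).all fun i => 2 * D.cartan i v == D.cartan i z + e1 * D.cartan i a + e2 * D.cartan i b + e3 * D.cartan i c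

def quadChk (D : ChevalleyDatum) (B rest : List ℕ) (z v1 v2 v3 v12 v13 v23 v123 a b c : ℕ) : Bool :=
  mergeChk D z v1 v2 v3 v12 v13 v23 v123 a b c && linChk D z a b c v1 1 (-1) (-1) && linChk D z a b c v2 (-1) 1 (-1) &&
  linChk D z a b c v3 (-1) (-1) 1 && linChk D z a b c v12 1 1 (-1) && linChk D z a b c v13 1 (-1) 1 && linChk D z a b c v23 (-1) 1 1 &&
  linChk D z a b c v123 1 1 1 && decide (B.Perm ([a, b, c] ++ rest)) &&
  (rest.all fun e => [v1, v2, v3, v12, v13, v23, v123].all fun v => rc D v e none) &&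
  (B.all fun b => decide (b < D.nroots)) && decide (z < D.nroots) && decide ((B ++ [z]).Pairwise fun r s => D.pairing r s = 0) &&
  ([v1, v2, v3, v12, v13, v23, v123].all fun v => decide (v < D.nroots))

namespace CG
variable {D : ChevalleyDatum} {F : Type*} [Field F] (M : CG D F)
include M

theorem lin_spec {z a b c v : ℕ} {e1 e2 e3 : ℤ} (h : linChk D z a b c v e1 e2 e3 = true) {s : ℕ}
    (hz : D.pairing s z = 0) (ha : D.pairing s a = 0) (hb : D.pairing s b = 0) (hc : D.pairing s c = 0) : D.pairing s v = 0 := by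
  unfold linChk at h
  simp only [List.all_eq_true, List.mem_range, beq_iff_eq] at h
  have h2 : 2 * D.pairing s v = D.pairing s z + e1 * D.pairing s a + e2 * D.pairing s b + e3 * D.pairing s c := by
    unfold ChevalleyDatum.pairing
    rw [sum_range_list, sum_range_list, sum_range_list, sum_range_list, sum_range_list, Finset.mul_sum, Finset.mul_sum, Finset.mul_sum,
      Finset.mul_sum, ← Finset.sum_add_distrib, ← Finset.sum_add_distrib, ← Finset.sum_add_distrib]
    refine Finset.sum_congr rfl fun i hi => ?_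
    have h3 := h i (Finset.mem_range.mp hi)
    linear_combination ((D.coroot.getD s #[]).getD i 0) * h3
  rw [hz, ha, hb, hc] at h2
  omega

theorem W1_perm (hO : OC D F) {R R' : List ℕ} (h : R.Perm R') (hlt : ∀ r ∈ R, r < D.nroots) (hpw : R.Pairwise fun r s => D.pairing r s = 0) :
    W1 D F R = W1 D F R' := by
  unfold W1
  apply List.Perm.prod_eq' (h.map _)
  rw [List.pairwise_map]
  refine List.Pairwise.imp_of_mem ?_ hpw
  intro a b ha hb hab
  exact (hO a (hlt a ha) b (hlt b hb) hab 1 1).symm

theorem W1_mem_G (R : List ℕ) : W1 D F R ∈ D.group F := by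
  induction R with
  | nil => exact one_mem _
  | cons r R ih => rw [W1_cons]; exact mul_mem (M.xg_mem_G r 1) ih

theorem absorb_of_quad [CharP F 2] (hoc : ocChk D = true) {B rest : List ℕ} {z v1 v2 v3 v12 v13 v23 v123 a b c : ℕ}
    (h : quadChk D B rest z v1 v2 v3 v12 v13 v23 v123 a b c = true) : Absorb D F B z := by
  have hO : OC D F := M.oc_of_chk hoc
  unfold quadChk at h
  simp only [Bool.and_eq_true, decide_eq_true_eq] at h
  obtain ⟨⟨⟨⟨⟨⟨⟨⟨⟨⟨⟨⟨⟨hm, l1⟩, l2⟩, l3⟩, l12⟩, l13⟩, l23⟩, l123⟩, hperm⟩, hrest⟩, hB⟩, hz⟩, hpw⟩, hv⟩ := h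
  simp only [List.all_eq_true, decide_eq_true_eq] at hrest hB hv
  have hmer := M.merge_app hm
  simp only at hmer
  set q := W1 D F [v1, v2, v3, v12, v13, v23, v123] with hq
  have hqe : q = xg D v1 1 * (xg D v2 1 * (xg D v3 1 * (xg D v12 1 * (xg D v13 1 * (xg D v23 1 * xg D v123 1))))) := by
    rw [hq]
    simp only [W1_cons, W1_nil, mul_one]
  have hmer2 : (xg D a (1 : F) * xg D b 1 * xg D c 1) * q = xg D z 1 * q * (xg D a 1 * xg D b 1 * xg D c 1) := by
    rw [hqe]
    simp only [mul_assoc]
    exact hmer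
  have hpwB : B.Pairwise fun r s => D.pairing r s = 0 := (List.pairwise_append.mp hpw).1
  have hzB : ∀ b ∈ B, D.pairing b z = 0 := fun b hb => (List.pairwise_append.mp hpw).2.2 b hb z (by simp)
  have hWB : W1 D F B = (xg D a (1 : F) * xg D b 1 * xg D c 1) * W1 D F rest := by
    rw [M.W1_perm hO hperm hB hpwB]
    change W1 D F (a :: b :: c :: rest) = _
    rw [W1_cons, W1_cons, W1_cons]; group
  have hqr : ∀ R' : List ℕ, (∀ s ∈ R', ∀ v ∈ [v1, v2, v3, v12, v13, v23, v123], xg D v (1 : F) * xg D s 1 = xg D s 1 * xg D v 1) →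
      q * W1 D F R' = W1 D F R' * q := by
    intro R'
    induction R' with
    | nil => intro _; rw [W1_nil]; group
    | cons s R' ih =>
      intro h
      have h1 : q * xg D s (1 : F) = xg D s 1 * q := by
        rw [hq]
        have : ∀ L : List ℕ, (∀ v ∈ L, xg D v (1 : F) * xg D s 1 = xg D s 1 * xg D v 1) → W1 D F L * xg D s (1 : F) = xg D s 1 * W1 D F L := by
          intro L
          induction L with
          | nil => intro _; rw [W1_nil]; group
          | cons v L ihL =>
            intro hL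
            rw [W1_cons, mul_assoc, ihL fun v' hv' => hL v' (by simp [hv']), ← mul_assoc, hL v (by simp), mul_assoc]
        exact this _ (h s (by simp))
      rw [W1_cons, ← mul_assoc, h1, mul_assoc, ih fun s' hs' => h s' (by simp [hs']), mul_assoc]
  refine ⟨q, M.W1_mem_G _, ?_, ?_⟩
  · have h1 : q * W1 D F rest = W1 D F rest * q := hqr rest fun s hs v hv' => M.rc_none (hrest s hs v hv')
    have h2 : xg D z (1 : F) * xg D z 1 = 1 := M.xg_sq2 z
    have h3 : q * (xg D a (1 : F) * xg D b 1 * xg D c 1) * q⁻¹ = xg D z 1 * (xg D a 1 * xg D b 1 * xg D c 1) := by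
      have h4 : q * (xg D a (1 : F) * xg D b 1 * xg D c 1) = xg D z 1 * ((xg D a 1 * xg D b 1 * xg D c 1) * q) := by
        rw [hmer2]
        calc q * (xg D a 1 * xg D b 1 * xg D c 1) = (xg D z 1 * xg D z 1) * q * (xg D a 1 * xg D b 1 * xg D c 1) := by rw [h2, one_mul]
          _ = _ := by group
      rw [h4]; group
    have h5 : (B ++ [z]).Perm (z :: ([a, b, c] ++ rest)) := by
      refine (List.perm_append_comm).trans ?_
      exact hperm.cons z
    rw [M.W1_perm hO h5 (fun r hr => by
      rcases List.mem_append.mp hr with h | h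
      · exact hB r h
      · rw [List.mem_singleton] at h; rw [h]; exact hz) hpw]
    change _ = W1 D F (z :: a :: b :: c :: rest)
    rw [W1_cons, W1_cons, W1_cons, W1_cons, hWB]
    calc q * (xg D a 1 * xg D b 1 * xg D c 1 * W1 D F rest) * q⁻¹ = (q * (xg D a 1 * xg D b 1 * xg D c 1) * q⁻¹) * (q * W1 D F rest * q⁻¹) := by group
      _ = _ := by rw [h3, h1]; group
  · intro s hs hBs hzs
    have hsa : ∀ b ∈ B, D.pairing s b = 0 := fun b hb => M.pz_symm hoc (hB b hb) hs (hBs b hb)
    have hsz : D.pairing s z = 0 := M.pz_symm hoc hz hs hzs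
    have ha : D.pairing s a = 0 := hsa a (hperm.mem_iff.mpr (by simp))
    have hb : D.pairing s b = 0 := hsa b (hperm.mem_iff.mpr (by simp))
    have hc : D.pairing s c = 0 := hsa c (hperm.mem_iff.mpr (by simp))
    have h1 := hqr [s] (by
      intro s' hs' v hv'
      rw [List.mem_singleton] at hs'
      subst hs'
      have hvlt := hv v hv'
      have hp : D.pairing s' v = 0 := by
        simp only [List.mem_cons, List.not_mem_nil, or_false] at hv'
        rcases hv' with rfl | rfl | rfl | rfl | rfl | rfl | rfl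
        · exact M.lin_spec l1 hsz ha hb hc
        · exact M.lin_spec l2 hsz ha hb hc
        · exact M.lin_spec l3 hsz ha hb hc
        · exact M.lin_spec l12 hsz ha hb hc
        · exact M.lin_spec l13 hsz ha hb hc
        · exact M.lin_spec l23 hsz ha hb hc
        · exact M.lin_spec l123 hsz ha hb hc
      exact hO s' hs v hvlt hp 1 1)
    rw [W1_cons, W1_nil, mul_one] at h1
    exact h1

end CG
end CfsgLib.Chev
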