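import Cfsg.Agent.Lib.ChevRk2
set_option autoImplicit false
set_option linter.style.haveILetI false
set_option linter.unusedSectionVars false

/-! Involution classes of Chevalley groups in characteristic two: the final statement. -/

namespace CfsgLib.Chev
open Cfsg.Lie Matrix CfsgLib.BNP

namespace CG
variable {D : ChevalleyDatum} {F : Type*} [Field F] (M : CG D F)
include M

theorem wg_eq_W1 (R : List ℕ) : wg D (R.map fun r => (r, (1 : F))) = W1 D F R := by
  induction R with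
  | nil => rfl
  | cons r R ih => rw [List.map_cons, wg_cons, ih, W1_cons]

theorem W1_sq [CharP F 2] (hO : OC D F) {R : List ℕ} (hlt : ∀ r ∈ R, r < D.nroots) (hpw : R.Pairwise fun r s => D.pairing r s = 0) :
    W1 D F R * W1 D F R = 1 := by
  induction R with
  | nil => rw [W1_nil, one_mul]
  | cons r R ih =>
    have h1 := ih (fun s hs => hlt s (by simp [hs])) (List.pairwise_cons.mp hpw).2
    have h2 : ∀ R' : List ℕ, (∀ s ∈ R', s ∈ R) → W1 D F R' * xg D r (1 : F) = xg D r 1 * W1 D F R' := by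
      intro R'
      induction R' with
      | nil => intro _; rw [W1_nil]; group
      | cons s R' ihR =>
        intro h
        have hs := h s (by simp)
        rw [W1_cons, mul_assoc, ihR fun s' hs' => h s' (by simp [hs']), ← mul_assoc,
          hO r (hlt r (by simp)) s (hlt s (by simp [hs])) ((List.pairwise_cons.mp hpw).1 s hs) 1 1, mul_assoc]
    rw [W1_cons]
    calc xg D r (1 : F) * W1 D F R * (xg D r 1 * W1 D F R) = xg D r 1 * (W1 D F R * xg D r 1) * W1 D F R := by group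
      _ = (xg D r 1 * xg D r 1) * (W1 D F R * W1 D F R) := by rw [h2 R fun s hs => hs]; group
      _ = 1 := by rw [M.xg_sq2, h1, one_mul]

/-- **the involution classes** -/
theorem classes_of [Finite F] [CharP F 2] (hoc : ocChk D = true) (Sts : List (List ℕ)) (hnil : [] ∈ Sts)
    (hG : ∀ B ∈ Sts, ∃ J cands, stChk D B J cands = true ∧ ∀ c ∈ cands, Absorb D F B c ∨ B ++ [c] ∈ Sts)
    (Y : List (List ℕ)) (hlt : ∀ R ∈ Y, ∀ r ∈ R, r < D.nroots) (hpw : ∀ R ∈ Y, R.Pairwise fun r s => D.pairing r s = 0)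
    (hS : ∀ S ∈ Sts, S = [] ∨ ∃ R ∈ Y, Cj D F S R) (rk : List ℕ → ℕ)
    (hrk : ∀ R ∈ Y, Matrix.rank (((W1 D F R : GL D.Idx F) : Matrix D.Idx D.Idx F) - 1) = rk R) (hpos : ∀ R ∈ Y, rk R ≠ 0)
    (hinj : ∀ R ∈ Y, ∀ R' ∈ Y, rk R = rk R' → R = R') :
    (∀ R ∈ Y, W1 D F R ∈ D.group F ∧ orderOf (W1 D F R) = 2) ∧
    (∀ g ∈ D.group F, orderOf g = 2 → ∃ R ∈ Y, ∃ h ∈ D.group F, h * g * h⁻¹ = W1 D F R) ∧
    (∀ R ∈ Y, ∀ R' ∈ Y, (∃ h ∈ D.group F, h * W1 D F R * h⁻¹ = W1 D F R') → R = R') := by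
  have hO : OC D F := M.oc_of_chk hoc
  refine ⟨fun R hR => ⟨M.W1_mem_G R, ?_⟩, fun g hg h2 => ?_, fun R hR R' hR' ⟨h, _, he⟩ => ?_⟩
  · refine orderOf_eq_prime ?_ ?_
    · rw [pow_two]; exact M.W1_sq hO (hlt R hR) (hpw R hR)
    · intro h1
      have h2 := hrk R hR
      rw [h1, Units.val_one, sub_self, Matrix.rank_zero] at h2
      exact hpos R hR h2.symm
  · have hgg : (⟨g, hg⟩ : ↥(D.group F)) * ⟨g, hg⟩ = 1 := by
      apply Subtype.ext
      change g * g = 1
      rw [← pow_two, ← h2]; exact pow_orderOf_eq_one g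
    obtain ⟨R, h3, h4, k, hk, hk'⟩ := M.inv_orth hO hgg
    rw [M.wg_eq_W1] at hk'
    obtain ⟨S, hSm, k2, hk2, hk2'⟩ := M.mach Sts hG R.length R le_rfl [] hnil h4 (by simp) h3
    rw [List.nil_append] at hk2'
    rcases hS S hSm with rfl | ⟨R', hR', k3, hk3, hk3'⟩
    · exfalso
      have h5 : g = 1 := by
        have e : g = (k2 * k)⁻¹ * (k2 * (k * g * k⁻¹) * k2⁻¹) * (k2 * k) := by group
        change k * g * k⁻¹ = _ at hk'
        rw [e, hk', hk2', W1_nil]; group
      rw [h5, orderOf_one] at h2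
      exact absurd h2 (by norm_num)
    · refine ⟨R', hR', k3 * k2 * k, mul_mem (mul_mem hk3 hk2) hk, ?_⟩
      rw [← hk3', ← hk2', ← hk']
      change k3 * k2 * k * g * (k3 * k2 * k)⁻¹ = k3 * (k2 * (k * g * k⁻¹) * k2⁻¹) * k3⁻¹
      group
  · apply hinj R hR R' hR'
    rw [← hrk R hR, ← hrk R' hR']
    exact rank_conj he

end CG

/-- a word mapping one list of roots to another -/
def wdChk (D : ChevalleyDatum) (l R R' : List ℕ) : Bool :=
  (l.all fun i => decide (i < D.rank)) && (R.all fun r => decide (r < D.nroots)) && decide (R.map (rl D l) = R')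

theorem cj_of_wd {D : ChevalleyDatum} {F : Type*} [Field F] (M : CG D F) [CharP F 2] {l R R' : List ℕ} (h : wdChk D l R R' = true) : Cj D F R R' := by
  unfold wdChk at h
  simp only [Bool.and_eq_true, List.all_eq_true, decide_eq_true_eq] at h
  obtain ⟨⟨h1, h2⟩, h3⟩ := h
  rw [← h3]
  exact M.cj_rl (fun i hi => h1 i hi) h2

end CfsgLib.Chev
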