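import Cfsg.Agent.Lib.ChevIn6
set_option autoImplicit false
set_option linter.style.haveILetI false
set_option linter.unusedSectionVars false

/-! Involutions of Chevalley groups in characteristic two, VII: fast kernel checks for the simply laced types. -/

namespace CfsgLib.Chev
open Cfsg.Lie Matrix CfsgLib.BNP

def mergeG (Rn : ℕ → ℕ → Bool) (Rs : ℕ → ℕ → ℕ → Bool) (z v1 v2 v3 v12 v13 v23 v123 a b c : ℕ) : Bool :=
  Rn v1 z &&
  Rn v2 z &&
  Rn v3 z &&
  Rn v12 z &&
  Rn v13 z &&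
  Rn v23 z &&
  Rn v123 z &&
  Rn a z &&
  Rn b z &&
  Rn c z &&
  Rn v2 v1 &&
  Rn v3 v1 &&
  Rn v12 v1 &&
  Rn v13 v1 &&
  Rs v23 v1 z &&
  Rn v123 v1 &&
  Rn v3 v2 &&
  Rn v12 v2 &&
  Rs v13 v2 z &&
  Rn v23 v2 &&
  Rn v123 v2 &&
  Rs v12 v3 z &&
  Rn v13 v3 &&
  Rn v23 v3 &&
  Rn v123 v3 &&
  Rn v13 v12 &&
  Rn v23 v12 &&
  Rn v123 v12 &&
  Rn v23 v13 &&
  Rn v123 v13 &&
  Rn v123 v23 &&
  Rn a v1 &&
  Rs a v2 v12 &&
  Rs a v3 v13 &&
  Rn a v12 &&
  Rn a v13 &&
  Rs a v23 v123 &&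
  Rn a v123 &&
  Rs b v1 v12 &&
  Rn b v2 &&
  Rs b v3 v23 &&
  Rn b v12 &&
  Rs b v13 v123 &&
  Rn b v23 &&
  Rn b v123 &&
  Rs c v1 v13 &&
  Rs c v2 v23 &&
  Rn c v3 &&
  Rs c v12 v123 &&
  Rn c v13 &&
  Rn c v23 &&
  Rn c v123

theorem mergeChk_eq (D : ChevalleyDatum) (z v1 v2 v3 v12 v13 v23 v123 a b c : ℕ) :
    mergeChk D z v1 v2 v3 v12 v13 v23 v123 a b c = mergeG (fun s r => rc D s r none) (fun s r k => rc D s r (some k)) z v1 v2 v3 v12 v13 v23 v123 a b c := rfl

theorem mergeG_mono {Rn Rn' : ℕ → ℕ → Bool} {Rs Rs' : ℕ → ℕ → ℕ → Bool} {z v1 v2 v3 v12 v13 v23 v123 a b c : ℕ}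
    (hn : ∀ s r, Rn s r = true → Rn' s r = true) (hs : ∀ s r k, Rs s r k = true → Rs' s r k = true)
    (h : mergeG Rn Rs z v1 v2 v3 v12 v13 v23 v123 a b c = true) : mergeG Rn' Rs' z v1 v2 v3 v12 v13 v23 v123 a b c = true := by
  unfold mergeG at h ⊢
  simp only [Bool.and_eq_true] at h ⊢
  obtain ⟨⟨⟨⟨⟨⟨⟨⟨⟨⟨⟨⟨⟨⟨⟨⟨⟨⟨⟨⟨⟨⟨⟨⟨⟨⟨⟨⟨⟨⟨⟨⟨⟨⟨⟨⟨⟨⟨⟨⟨⟨⟨⟨⟨⟨⟨⟨⟨⟨⟨⟨q0, q1⟩, q2⟩, q3⟩, q4⟩, q5⟩, q6⟩, q7⟩, q8⟩, q9⟩, q10⟩, q11⟩, q12⟩, q13⟩, q14⟩, q15⟩, q16⟩, q17⟩, q18⟩, q19⟩, q20⟩, q21⟩, q22⟩, q23⟩, q24⟩, q25⟩, q26⟩, q27⟩, q28⟩, q29⟩, q30⟩, q31⟩, q32⟩, q33⟩, q34⟩, q35⟩, q36⟩, q37⟩, q38⟩, q39⟩, q40⟩, q41⟩, q42⟩, q43⟩, q44⟩, q45⟩, q46⟩, q47⟩, q48⟩, q49⟩, q50⟩, q51⟩ := h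
  exact ⟨⟨⟨⟨⟨⟨⟨⟨⟨⟨⟨⟨⟨⟨⟨⟨⟨⟨⟨⟨⟨⟨⟨⟨⟨⟨⟨⟨⟨⟨⟨⟨⟨⟨⟨⟨⟨⟨⟨⟨⟨⟨⟨⟨⟨⟨⟨⟨⟨⟨⟨hn v1 z q0, hn v2 z q1⟩, hn v3 z q2⟩, hn v12 z q3⟩, hn v13 z q4⟩, hn v23 z q5⟩, hn v123 z q6⟩, hn a z q7⟩, hn b z q8⟩, hn c z q9⟩, hn v2 v1 q10⟩, hn v3 v1 q11⟩, hn v12 v1 q12⟩, hn v13 v1 q13⟩, hs v23 v1 z q14⟩, hn v123 v1 q15⟩, hn v3 v2 q16⟩, hn v12 v2 q17⟩, hs v13 v2 z q18⟩, hn v23 v2 q19⟩, hn v123 v2 q20⟩, hs v12 v3 z q21⟩, hn v13 v3 q22⟩, hn v23 v3 q23⟩, hn v123 v3 q24⟩, hn v13 v12 q25⟩, hn v23 v12 q26⟩, hn v123 v12 q27⟩, hn v23 v13 q28⟩, hn v123 v13 q29⟩, hn v123 v23 q30⟩, hn a v1 q31⟩, hs a v2 v12 q32⟩, hs a v3 v13 q33⟩, hn a v12 q34⟩, hn a v13 q35⟩, hs a v23 v123 q36⟩, hn a v123 q37⟩, hs b v1 v12 q38⟩, hn b v2 q39⟩, hs b v3 v23 q40⟩, hn b v12 q41⟩, hs b v13 v123 q42⟩, hn b v23 q43⟩, hn b v123 q44⟩, hs c v1 v13 q45⟩, hs c v2 v23 q46⟩, hn c v3 q47⟩, hs c v12 v123 q48⟩, hn c v13 q49⟩, hn c v23 q50⟩, hn c v123 q51⟩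

/-- comparisons for the kernel -/
noncomputable def eq0Z (z : ℤ) : Bool := Int.rec (motive := fun _ => Bool) (fun n => Nat.beq n 0) (fun _ => false) z
noncomputable def negZ (z : ℤ) : Bool := Int.rec (motive := fun _ => Bool) (fun _ => false) (fun _ => true) z
noncomputable def le1Z (z : ℤ) : Bool := Int.rec (motive := fun _ => Bool) (fun n => Nat.ble n 1) (fun _ => true) z

theorem eq0Z_iff {z : ℤ} : eq0Z z = true ↔ z = 0 := by
  cases z with
  | ofNat n =>
    change Nat.beq n 0 = true ↔ _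
    rw [Nat.beq_eq]
    constructor
    · rintro rfl; rfl
    · intro h; exact Int.ofNat.inj h
  | negSucc n =>
    change false = true ↔ _
    constructor
    · intro h; cases h
    · intro h; exact absurd h (Int.negSucc_ne_zero n)

theorem negZ_iff {z : ℤ} : negZ z = true ↔ z < 0 := by
  cases z with
  | ofNat n =>
    change false = true ↔ _
    constructor
    · intro h; cases h
    · intro h; exact absurd h (not_lt.mpr (Int.natCast_nonneg n))
  | negSucc n =>
    change true = true ↔ _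
    exact ⟨fun _ => Int.negSucc_lt_zero n, fun _ => rfl⟩

theorem le1Z_iff {z : ℤ} : le1Z z = true ↔ z ≤ 1 := by
  cases z with
  | ofNat n =>
    change Nat.ble n 1 = true ↔ _
    rw [Nat.ble_eq]
    change n ≤ 1 ↔ (n : ℤ) ≤ 1
    omega
  | negSucc n =>
    change true = true ↔ _
    exact ⟨fun _ => by have := Int.negSucc_lt_zero n; omega, fun _ => rfl⟩

/-- coordinate codes of a simply laced datum -/
structure Cd {D : ChevalleyDatum} (M : GD D) (code : ℕ → ℕ) (CL : List (List ℤ)) : Prop where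
  ha : ∀ i s, M.a i s = dig (code s) i
  hCL : CL = (List.range D.rank).map fun j => (List.range D.rank).map fun i => D.cartan j (D.simple i)
  sym : ∀ i < D.rank, ∀ j < D.rank, D.cartan i (D.simple j) = D.cartan j (D.simple i)

/-- the row of a root -/
noncomputable def rowF (code : ℕ → ℕ) (CL : List (List ℤ)) (r : ℕ) : List ℤ := force (code r) fun c => CL.map fun C => dot C c

/-- the pairing of two roots -/
noncomputable def pF (code : ℕ → ℕ) (CL : List (List ℤ)) (r s : ℕ) : ℤ := force (code s) fun c => dot (rowF code CL r) c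

theorem GD.pairing_Cmb2 {D : ChevalleyDatum} (M : GD D) {g r s k : ℕ} (hr : r < D.nroots) (hs : s < D.nroots) (hk : k < D.nroots) {i j : ℤ} (h : M.Cmb r s k i j) :
    D.pairing g k = i * D.pairing g r + j * D.pairing g s := by
  have hc : ∀ m < D.rank, D.cartan m k = i * D.cartan m r + j * D.cartan m s := by
    intro m hm
    rw [M.hC m hm _ hk, M.hC m hm _ hr, M.hC m hm _ hs, Finset.mul_sum, Finset.mul_sum, ← Finset.sum_add_distrib]
    refine Finset.sum_congr rfl fun p hp => ?_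
    rw [h p (Finset.mem_range.mp hp)]; ring
  unfold ChevalleyDatum.pairing
  rw [sum_range_list, sum_range_list, sum_range_list, Finset.mul_sum, Finset.mul_sum, ← Finset.sum_add_distrib]
  refine Finset.sum_congr rfl fun m hm => ?_
  rw [hc m (Finset.mem_range.mp hm)]; ring

namespace Cd
variable {D : ChevalleyDatum} {M : GD D} {code : ℕ → ℕ} {CL : List (List ℤ)} (H : Cd M code CL)
include H

theorem getD {j : ℕ} (hj : j < D.rank) : CL.getD j [] = (List.range D.rank).map fun i => D.cartan j (D.simple i) := by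
  rw [H.hCL]
  simp [List.getD_eq_getElem?_getD, hj]

theorem cart {j s : ℕ} (hj : j < D.rank) (hs : s < D.nroots) : D.cartan j s = dot (CL.getD j []) (code s) := by
  rw [dot_eq, H.getD hj, List.length_map, List.length_range, M.hC j hj s hs]
  refine Finset.sum_congr rfl fun i hi => ?_
  have hi' := Finset.mem_range.mp hi
  rw [H.ha]
  simp [List.getD_eq_getElem?_getD, hi']

theorem cor {r : ℕ} (hr : r < D.nroots) : ∀ m < D.rank, (D.coroot.getD r #[]).getD m 0 = M.a m r := by
  refine M.root_ind (P := fun r => ∀ m < D.rank, (D.coroot.getD r #[]).getD m 0 = M.a m r) ?_ ?_ r hr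
  · intro i hi m hm
    rw [M.corS i hi m hm, M.a_simple hm hi]
    by_cases h : i = m
    · rw [if_pos h, if_pos h.symm]
    · rw [if_neg h, if_neg (fun h' => h h'.symm)]
  · intro i hi r hr ih m hm
    rw [M.coroot_refl hi hr hm, M.a_refl hi hm hr, ih m hm]
    by_cases hmi : m = i
    · subst hmi
      rw [if_pos rfl, if_pos rfl]
      have h1 : D.pairing r (D.simple m) = D.cartan m r := by
        unfold ChevalleyDatum.pairing
        rw [sum_range_list, M.hC m hm r hr]
        refine Finset.sum_congr rfl fun j hj => ?_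
        have hj := Finset.mem_range.mp hj
        rw [ih j hj, H.sym j hj m hm]; ring
      rw [h1]
    · rw [if_neg hmi, if_neg hmi]

theorem pair_sum {r s : ℕ} (hr : r < D.nroots) (hs : s < D.nroots) : D.pairing r s =
    ∑ j ∈ Finset.range D.rank, ∑ i ∈ Finset.range D.rank, M.a j r * D.cartan j (D.simple i) * M.a i s := by
  unfold ChevalleyDatum.pairing
  rw [sum_range_list]
  refine Finset.sum_congr rfl fun j hj => ?_
  have hj := Finset.mem_range.mp hj
  rw [H.cor hr j hj, M.hC j hj s hs, Finset.mul_sum]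
  refine Finset.sum_congr rfl fun i hi => by ring

theorem symm {r s : ℕ} (hr : r < D.nroots) (hs : s < D.nroots) : D.pairing r s = D.pairing s r := by
  rw [H.pair_sum hr hs, H.pair_sum hs hr, Finset.sum_comm]
  refine Finset.sum_congr rfl fun j hj => Finset.sum_congr rfl fun i hi => ?_
  rw [H.sym i (Finset.mem_range.mp hi) j (Finset.mem_range.mp hj)]; ring

theorem row {r : ℕ} (hr : r < D.nroots) : rowF code CL r = (List.range D.rank).map fun i => D.cartan i r := by
  unfold rowF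
  rw [force_eq]
  apply List.ext_getElem
  · rw [H.hCL]; simp
  · intro i h1 h2
    simp only [List.length_map, List.length_range] at h2
    simp only [List.getElem_map, List.getElem_range]
    rw [H.cart h2 hr]
    congr 1
    rw [List.getD_eq_getElem?_getD, List.getElem?_eq_getElem (by simpa using h1), Option.getD_some]

theorem dot_row {r s : ℕ} (hr : r < D.nroots) (hs : s < D.nroots) : dot (rowF code CL r) (code s) = D.pairing r s := by
  rw [dot_eq, H.row hr, H.pair_sum hr hs, List.length_map, List.length_range, Finset.sum_comm]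
  refine Finset.sum_congr rfl fun i hi => ?_
  have hi' := Finset.mem_range.mp hi
  rw [← H.ha]
  have : ((List.range D.rank).map fun i => D.cartan i r).getD i 0 = D.cartan i r := by
    simp [List.getD_eq_getElem?_getD, hi']
  rw [this, M.hC i hi' r hr, Finset.sum_mul]
  refine Finset.sum_congr rfl fun j hj => ?_
  rw [H.sym i hi' j (Finset.mem_range.mp hj)]; ring

theorem pF_eq {r s : ℕ} (hr : r < D.nroots) (hs : s < D.nroots) : pF code CL r s = D.pairing r s := by
  unfold pF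
  rw [force_eq, H.dot_row hr hs]

end Cd

theorem Cd.of_rvc {D : ChevalleyDatum} {M : GD D} {code : ℕ → ℕ} {CL : List (List ℤ)} (ha : ∀ i s, M.a i s = dig (code s) i)
    (h : rvChk D.rank D.nroots D code CL = true)
    (hs : ((List.range D.rank).all fun i => (List.range D.rank).all fun j => decide ((CL.getD i []).getD j 0 = (CL.getD j []).getD i 0)) = true) :
    Cd M code CL := by
  have hCL : CL = (List.range D.rank).map fun j => (List.range D.rank).map fun i => D.cartan j (D.simple i) := by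
    unfold rvChk at h
    simp only [Bool.and_eq_true] at h
    exact (of_decide_eq_true h.1.1.1.1.1.1).symm
  refine ⟨ha, hCL, fun i hi j hj => ?_⟩
  simp only [List.all_eq_true, List.mem_range, decide_eq_true_eq] at hs
  have h1 := hs i hi j hj
  rw [hCL] at h1
  simpa [List.getD_eq_getElem?_getD, hi, hj] using h1

/-- fast version of the state check -/
noncomputable def stF (l n : ℕ) (code : ℕ → ℕ) (CL : List (List ℤ)) (B J cands : List ℕ) (CB CJ : List (List ℤ)) : Bool :=
  decide (B.map (rowF code CL) = CB) && decide (J.map (fun i => CL.getD i []) = CJ) && (J.all fun i => Nat.ble (i + 1) l) &&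
  (B.all fun b => Nat.ble (b + 1) n) && (B.all fun b => force (code b) fun c => CJ.all fun C => eq0Z (dot C c)) &&
  ball n fun r => force (code r) fun c => (CB.any fun C => !(eq0Z (dot C c))) || (CJ.any fun C => negZ (dot C c)) || cands.contains r

/-- the highest root bounds the pairings -/
noncomputable def leF (n : ℕ) (code : ℕ → ℕ) (CL : List (List ℤ)) (r0 : ℕ) (row0 : List ℤ) : Bool :=
  decide (rowF code CL r0 = row0) && Nat.ble (r0 + 1) n && ball n fun s => Nat.beq s r0 || force (code s) fun c => le1Z (dot row0 c)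

/-- `2 v = z + e₁ a + e₂ b + e₃ c` -/
noncomputable def linF (l : ℕ) (code : ℕ → ℕ) (z a b c v : ℕ) (e1 e2 e3 : ℤ) : Bool :=
  force (code z) fun z => force (code a) fun a => force (code b) fun b => force (code c) fun c => force (code v) fun v =>
  ball l fun i => eq0Z (2 * dig v i - (dig z i + e1 * dig a i + e2 * dig b i + e3 * dig c i))

/-- commutation by nonnegative pairing -/
noncomputable def rcF (n : ℕ) (code : ℕ → ℕ) (CL : List (List ℤ)) (s r : ℕ) : Bool :=
  Nat.ble (s + 1) n && Nat.ble (r + 1) n && !(negZ (pF code CL r s))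

noncomputable def quadF (D : ChevalleyDatum) (l n : ℕ) (code : ℕ → ℕ) (CL : List (List ℤ)) (B rest : List ℕ) (z v1 v2 v3 v12 v13 v23 v123 a b c : ℕ) : Bool :=
  mergeG (rcF n code CL) (fun s r k => rc D s r (some k)) z v1 v2 v3 v12 v13 v23 v123 a b c &&
  linF l code z a b c v1 1 (-1) (-1) && linF l code z a b c v2 (-1) 1 (-1) &&
  linF l code z a b c v3 (-1) (-1) 1 && linF l code z a b c v12 1 1 (-1) && linF l code z a b c v13 1 (-1) 1 && linF l code z a b c v23 (-1) 1 1 &&
  linF l code z a b c v123 1 1 1 && decide (B.Perm ([a, b, c] ++ rest)) &&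
  (rest.all fun e => [v1, v2, v3, v12, v13, v23, v123].all fun v => rcF n code CL v e) &&
  (B.all fun b => Nat.ble (b + 1) n) && Nat.ble (z + 1) n && decide ((B ++ [z]).Pairwise fun r s => eq0Z (pF code CL r s) = true) &&
  ([v1, v2, v3, v12, v13, v23, v123, a, b, c].all fun v => Nat.ble (v + 1) n)

/-- one reflection applied to a list -/
noncomputable def spF (l n : ℕ) (code : ℕ → ℕ) (CL : List (List ℤ)) (i : ℕ) : List ℕ → List ℕ → Bool
  | [], [] => true
  | r :: R, s :: S => Nat.ble (r + 1) n && Nat.ble (s + 1) n && Nat.ble (i + 1) l &&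
      (force (code r) fun c => force (code s) fun d => ball l fun m =>
        eq0Z (dig d m - (dig c m - Bool.rec (motive := fun _ => ℤ) 0 (dot (CL.getD i []) c) (Nat.beq m i)))) && spF l n code CL i R S
  | _, _ => false

noncomputable def wdF (l n : ℕ) (code : ℕ → ℕ) (CL : List (List ℤ)) : List (ℕ × List ℕ) → List ℕ → List ℕ → Bool
  | [], R, R' => decide (R = R')
  | p :: W, R, R' => spF l n code CL p.1 R p.2 && wdF l n code CL W p.2 R'

/-- CPS tabulation -/
noncomputable def fmapC {α : Type} (g : ℕ → ℕ) (n : ℕ) : List ℕ → (List ℕ → α) → α :=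
  Nat.rec (motive := fun _ => List ℕ → (List ℕ → α) → α) (fun acc k => k acc) (fun x ih acc k => force (g x) fun m => ih (m :: acc) k) n

theorem fmapC_eq {α : Type} (g : ℕ → ℕ) (n : ℕ) : ∀ (acc : List ℕ) (k : List ℕ → α), fmapC g n acc k = k ((List.range n).map g ++ acc) := by
  induction n with
  | zero => intro acc k; rfl
  | succ n ih =>
    intro acc k
    change force (g n) (fun m => fmapC g n (m :: acc) k) = _
    rw [force_eq, ih, List.range_succ, List.map_append, List.append_assoc]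
    rfl

noncomputable def rkF (D : ChevalleyDatum) (T : Tab) (R : List ℕ) (n : ℕ) : Bool :=
  colF D T R fun f => fmapC (fun x => Nat.xor (maskOf (f x)) (Nat.shiftLeft 1 x)) (dim D) [] fun L => Nat.beq (echC L []).length n

theorem rkChk_of_F {D : ChevalleyDatum} {T : Tab} {R : List ℕ} {n : ℕ} (h : rkF D T R n = true) : rkChk D T R n = true := by
  unfold rkF at h
  unfold rkChk
  rw [colF_eq] at h ⊢
  rw [fmapC_eq, List.append_nil] at h
  exact h

namespace Cd
variable {D : ChevalleyDatum} {F : Type*} [Field F] {M : CG D F} {code : ℕ → ℕ} {CL : List (List ℤ)} (H : Cd M.toGD code CL)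
include H

theorem stChk_of_F {B J cands : List ℕ} {CB CJ : List (List ℤ)} (h : stF D.rank D.nroots code CL B J cands CB CJ = true) :
    stChk D B J cands = true := by
  unfold stF at h
  simp only [Bool.and_eq_true, decide_eq_true_eq, List.all_eq_true, force_eq] at h
  obtain ⟨⟨⟨⟨⟨h1, h2⟩, h3⟩, h4⟩, h5⟩, h6⟩ := h
  have hJ : ∀ i ∈ J, i < D.rank := fun i hi => Nat.le_of_ble_eq_true (h3 i hi)
  have hB : ∀ b ∈ B, b < D.nroots := fun b hb => Nat.le_of_ble_eq_true (h4 b hb)
  have h5' : ∀ b ∈ B, ∀ i ∈ J, D.cartan i b = 0 := by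
    intro b hb i hi
    have h7 := h5 b hb (CL.getD i []) (by rw [← h2]; exact List.mem_map.mpr ⟨i, hi, rfl⟩)
    rw [H.cart (hJ i hi) (hB b hb)]
    exact eq0Z_iff.mp h7
  unfold stChk
  simp only [Bool.and_eq_true, List.all_eq_true, decide_eq_true_eq, beq_iff_eq, List.mem_range, Bool.or_eq_true, List.any_eq_true,
        Bool.not_eq_true', beq_eq_false_iff_ne, List.contains_iff_mem]
  refine ⟨⟨fun i hi => ⟨hJ i hi, fun b hb => ?_⟩, hB⟩, fun r hr => ?_⟩
  · apply M.a_inj (M.N.refl_lt (hJ i hi) (hB b hb)) (hB b hb)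
    intro m hm
    rw [M.a_refl (hJ i hi) hm (hB b hb), h5' b hb i hi]
    split_ifs <;> ring
  · have h7 := ball_spec h6 r hr
    simp only [Bool.or_eq_true, List.any_eq_true, Bool.not_eq_true', List.contains_iff_mem] at h7
    rcases h7 with (h7 | h7) | h7
    · left; left
      obtain ⟨C, hC, h8⟩ := h7
      rw [← h1] at hC
      obtain ⟨b, hb, rfl⟩ := List.mem_map.mp hC
      refine ⟨b, hb, fun h9 => ?_⟩
      rw [H.dot_row (hB b hb) hr] at h8
      rw [eq0Z_iff.mpr h9] at h8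
      cases h8
    · left; right
      obtain ⟨C, hC, h8⟩ := h7
      rw [← h2] at hC
      obtain ⟨i, hi, rfl⟩ := List.mem_map.mp hC
      refine ⟨i, hi, ?_⟩
      rw [H.cart (hJ i hi) hr]
      exact negZ_iff.mp h8
    · exact Or.inr h7

/-- all pairings of distinct roots are at most one -/
theorem le1 {r0 : ℕ} {row0 : List ℤ} {J : List ℕ} (hst : stChk D [] J [r0] = true) (hle : leF D.nroots code CL r0 row0 = true) :
    ∀ r < D.nroots, ∀ s < D.nroots, s ≠ r → D.pairing r s ≤ 1 := by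
  unfold leF at hle
  simp only [Bool.and_eq_true, decide_eq_true_eq, force_eq] at hle
  obtain ⟨⟨h1, h2⟩, h3⟩ := hle
  have h2 : r0 < D.nroots := Nat.le_of_ble_eq_true h2
  unfold stChk at hst
  simp only [Bool.and_eq_true, List.all_eq_true, decide_eq_true_eq, beq_iff_eq, List.mem_range, Bool.or_eq_true, List.any_eq_true,
        Bool.not_eq_true', beq_eq_false_iff_ne, List.contains_iff_mem, List.mem_singleton] at hst
  obtain ⟨⟨k1, -⟩, k3⟩ := hst
  intro r hr s hs hne
  obtain ⟨w, hw, hwJ, hd⟩ := M.exists_dom (J := J) (fun i hi => (k1 i hi).1) _ r hr le_rfl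
  have h4 : rl D w r = r0 := by
    rcases k3 _ (M.rl_lt hw hr) with (h | h) | h
    · obtain ⟨b, hb, -⟩ := h; simp at hb
    · obtain ⟨i, hi, h⟩ := h
      exact absurd (hd i hi) (not_le.mpr h)
    · exact h
  have h5 := M.pairing_rl hw hr hs
  rw [h4] at h5
  rw [← h5]
  have h6 := ball_spec h3 _ (M.rl_lt hw hs)
  rw [Bool.or_eq_true, Nat.beq_eq] at h6
  rcases h6 with h6 | h6
  · exfalso
    apply hne
    exact M.rl_inj hw hs hr (by rw [h6, h4])
  · rw [← h1, H.dot_row h2 (M.rl_lt hw hs)] at h6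
    exact le1Z_iff.mp h6

section
variable (hle : ∀ r < D.nroots, ∀ s < D.nroots, s ≠ r → D.pairing r s ≤ 1)
include hle

theorem terms_nil {r s : ℕ} (hr : r < D.nroots) (hs : s < D.nroots) (hne : s ≠ r) (hp : 0 ≤ D.pairing r s) : D.commTerms r s = [] := by
  have hneg : s ≠ D.neg r := by
    rintro rfl
    rw [M.pairing_neg hr, M.pairing_self hr] at hp
    norm_num at hp
  by_contra hc
  obtain ⟨⟨k, c, i, j⟩, L, hL⟩ := List.exists_cons_of_ne_nil hc
  obtain ⟨hk, hi, hj, hC⟩ := M.terms hr hs hne hneg (k := k) (c := c) (i := i) (j := j) (by rw [hL]; simp)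
  have hi' : (1 : ℤ) ≤ i := by exact_mod_cast hi
  have hj' : (1 : ℤ) ≤ j := by exact_mod_cast hj
  have h1 := M.pairing_Cmb2 (g := r) hr hs hk hC
  have h2 := M.pairing_Cmb2 (g := s) hr hs hk hC
  rw [M.pairing_self hr] at h1
  rw [M.pairing_self hs, H.symm hs hr] at h2
  have h3 : k = r := by
    by_contra h
    have := hle r hr k hk h
    nlinarith
  have h4 : k = s := by
    by_contra h
    have := hle s hs k hk h
    nlinarith
  exact hne (by rw [← h4, h3])

theorem rc_of {r s : ℕ} (h : rcF D.nroots code CL s r = true) : rc D s r none = true := by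
  unfold rcF at h
  rw [Bool.and_eq_true, Bool.and_eq_true, Bool.not_eq_true'] at h
  have hs : s < D.nroots := Nat.le_of_ble_eq_true h.1.1
  have hr : r < D.nroots := Nat.le_of_ble_eq_true h.1.2
  have hp : 0 ≤ D.pairing r s := by
    have h1 := h.2
    rw [H.pF_eq hr hs] at h1
    by_contra hc
    rw [negZ_iff.mpr (not_le.mp hc)] at h1
    cases h1
  unfold rc
  simp only [Bool.and_eq_true, decide_eq_true_eq, Bool.not_eq_true', beq_eq_false_iff_ne, Bool.or_eq_true, beq_iff_eq]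
  refine ⟨⟨⟨hr, hs⟩, ?_⟩, ?_⟩
  · rintro rfl
    rw [M.pairing_neg hr, M.pairing_self hr] at hp
    norm_num at hp
  · by_cases hne : s = r
    · exact Or.inl hne
    · right
      unfold evC
      rw [H.terms_nil hle hr hs hne hp]; rfl

theorem ocChk_of : ocChk D = true := by
  unfold ocChk
  simp only [List.all_eq_true, List.mem_range, Bool.and_eq_true, Bool.or_eq_true, Bool.not_eq_true', beq_eq_false_iff_ne, beq_iff_eq]
  intro i hi s hs
  have hp := M.N.simple_lt i hi
  have e := M.pairing_simple hi hs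
  have e' := H.symm hs hp
  refine ⟨?_, ?_⟩
  · by_cases h0 : D.cartan i s = 0
    · right
      refine ⟨?_, by rw [e', e, h0]⟩
      unfold evC
      rw [H.terms_nil hle hp hs ?_ (by rw [e, h0])]
      · rfl
      · rintro rfl
        rw [M.cartan_self hi] at h0
        norm_num at h0
    · exact Or.inl h0
  · by_cases h0 : D.pairing s (D.simple i) = 0
    · right
      rw [← e, ← e', h0]
    · exact Or.inl h0

theorem lin_of {z a b c v : ℕ} {e1 e2 e3 : ℤ} (hz : z < D.nroots) (ha : a < D.nroots) (hb : b < D.nroots) (hc : c < D.nroots) (hv : v < D.nroots)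
    (h : linF D.rank code z a b c v e1 e2 e3 = true) : linChk D z a b c v e1 e2 e3 = true := by
  unfold linF at h
  simp only [force_eq] at h
  unfold linChk
  simp only [List.all_eq_true, List.mem_range, beq_iff_eq]
  intro i hi
  rw [M.hC i hi v hv, M.hC i hi z hz, M.hC i hi a ha, M.hC i hi b hb, M.hC i hi c hc, Finset.mul_sum, Finset.mul_sum, Finset.mul_sum,
      Finset.mul_sum, ← Finset.sum_add_distrib, ← Finset.sum_add_distrib, ← Finset.sum_add_distrib]
  refine Finset.sum_congr rfl fun m hm => ?_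
  have h3 := eq0Z_iff.mp (ball_spec h m (Finset.mem_range.mp hm))
  rw [H.ha, H.ha, H.ha, H.ha, H.ha]
  linear_combination (D.cartan i (D.simple m)) * h3

theorem quadChk_of {B rest : List ℕ} {z v1 v2 v3 v12 v13 v23 v123 a b c : ℕ}
    (h : quadF D D.rank D.nroots code CL B rest z v1 v2 v3 v12 v13 v23 v123 a b c = true) :
    quadChk D B rest z v1 v2 v3 v12 v13 v23 v123 a b c = true := by
  unfold quadF at h
  simp only [Bool.and_eq_true, decide_eq_true_eq] at h
  obtain ⟨⟨⟨⟨⟨⟨⟨⟨⟨⟨⟨⟨⟨hm, l1⟩, l2⟩, l3⟩, l12⟩, l13⟩, l23⟩, l123⟩, hperm⟩, hrest⟩, hB⟩, hz⟩, hpw⟩, hv⟩ := h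
  simp only [List.all_eq_true] at hrest hB hv
  have hz : z < D.nroots := Nat.le_of_ble_eq_true hz
  have hv : ∀ v ∈ [v1, v2, v3, v12, v13, v23, v123, a, b, c], v < D.nroots := fun v h => Nat.le_of_ble_eq_true (hv v h)
  have hB : ∀ b ∈ B, b < D.nroots := fun v h => Nat.le_of_ble_eq_true (hB v h)
  have ha := hv a (by simp)
  have hb := hv b (by simp)
  have hc := hv c (by simp)
  unfold quadChk
  simp only [Bool.and_eq_true, decide_eq_true_eq]
  refine ⟨⟨⟨⟨⟨⟨⟨⟨⟨⟨⟨⟨⟨?_, H.lin_of hle hz ha hb hc (hv _ (by simp)) l1⟩, H.lin_of hle hz ha hb hc (hv _ (by simp)) l2⟩,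
    H.lin_of hle hz ha hb hc (hv _ (by simp)) l3⟩, H.lin_of hle hz ha hb hc (hv _ (by simp)) l12⟩, H.lin_of hle hz ha hb hc (hv _ (by simp)) l13⟩,
    H.lin_of hle hz ha hb hc (hv _ (by simp)) l23⟩, H.lin_of hle hz ha hb hc (hv _ (by simp)) l123⟩, hperm⟩, ?_⟩, ?_⟩, hz⟩, ?_⟩, ?_⟩
  · rw [mergeChk_eq]
    exact mergeG_mono (fun s r h => H.rc_of hle h) (fun _ _ _ h => h) hm
  · simp only [List.all_eq_true]
    exact fun e he v hv' => H.rc_of hle (hrest e he v hv')
  · simp only [List.all_eq_true, decide_eq_true_eq]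
    exact hB
  · refine List.Pairwise.imp_of_mem ?_ hpw
    intro x y hx hy hxy
    have hlt : ∀ x ∈ B ++ [z], x < D.nroots := by
      intro x hx
      rcases List.mem_append.mp hx with h | h
      · exact hB x h
      · rw [List.mem_singleton] at h; rw [h]; exact hz
    rw [H.pF_eq (hlt x hx) (hlt y hy)] at hxy
    exact eq0Z_iff.mp hxy
  · simp only [List.all_eq_true, decide_eq_true_eq]
    intro v h
    apply hv
    simp only [List.mem_cons, List.not_mem_nil, or_false] at h ⊢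
    tauto

end

theorem sp_spec {i : ℕ} : ∀ {R S : List ℕ}, spF D.rank D.nroots code CL i R S = true →
    (R = [] ∨ i < D.rank) ∧ (∀ r ∈ R, r < D.nroots) ∧ R.map (D.reflectRoot i) = S := by
  intro R
  induction R with
  | nil =>
    intro S h
    cases S with
    | nil => exact ⟨Or.inl rfl, by simp, rfl⟩
    | cons s S => simp [spF] at h
  | cons r R ih =>
    intro S h
    cases S with
    | nil => simp [spF] at h
    | cons s S =>
      simp only [spF, Bool.and_eq_true, force_eq] at h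
      obtain ⟨⟨⟨⟨h1, h2⟩, h3⟩, h4⟩, h5⟩ := h
      obtain ⟨-, h7, h8⟩ := ih h5
      have hr : r < D.nroots := Nat.le_of_ble_eq_true h1
      have hs : s < D.nroots := Nat.le_of_ble_eq_true h2
      have hi : i < D.rank := Nat.le_of_ble_eq_true h3
      refine ⟨Or.inr hi, ?_, ?_⟩
      · intro r' hr'
        rcases List.mem_cons.mp hr' with rfl | h
        · exact hr
        · exact h7 _ h
      · rw [List.map_cons, h8]
        congr 1
        apply M.a_inj (M.N.refl_lt hi hr) hs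
        intro m hm
        rw [M.a_refl hi hm hr, H.ha, H.ha]
        have h9 := eq0Z_iff.mp (ball_spec h4 m hm)
        have e : Bool.rec (motive := fun _ => ℤ) 0 (dot (CL.getD i []) (code r)) (Nat.beq m i) = if m = i then D.cartan i r else 0 := by
          rw [← H.cart hi hr]
          by_cases h : m = i
          · rw [if_pos h, Nat.beq_eq.mpr h]
          · rw [if_neg h]
            have : Nat.beq m i = false := by
              rw [← Bool.not_eq_true, Nat.beq_eq]; exact h
            rw [this]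
        rw [e] at h9
        linear_combination -h9

theorem cj_of_F [CharP F 2] : ∀ {W : List (ℕ × List ℕ)} {R R' : List ℕ}, wdF D.rank D.nroots code CL W R R' = true → Cj D F R R' := by
  intro W
  induction W with
  | nil =>
    intro R R' h
    have : R = R' := by simpa [wdF] using h
    rw [this]; exact Cj.refl _
  | cons p W ih =>
    intro R R' h
    simp only [wdF, Bool.and_eq_true] at h
    obtain ⟨h1, h2⟩ := h
    obtain ⟨h3, h4, h5⟩ := H.sp_spec h1
    rcases h3 with rfl | h3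
    · have : p.2 = [] := by rw [← h5]; rfl
      rw [this] at h2
      exact ih h2
    · have h6 := M.cj_rl (F := F) (l := [p.1]) (fun i hi => by rw [List.mem_singleton] at hi; rw [hi]; exact h3) h4
      have e : R.map (rl D [p.1]) = p.2 := by rw [← h5]; rfl
      rw [e] at h6
      exact h6.trans (ih h2)

end Cd
end CfsgLib.Chev
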