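import Cfsg.Agent.Lib.ChevRk2
set_option autoImplicit false
set_option linter.style.haveILetI false
set_option linter.unusedSectionVars false

/-! Rank of `y - 1` by elimination in blocks with disjoint supports. -/

namespace CfsgLib.Chev
open Cfsg.Lie Matrix

/-- bitwise inclusion -/
def SubB (m s : ℕ) : Prop := ∀ t, m.testBit t = true → s.testBit t = true

theorem SubB.xor {a b s : ℕ} (ha : SubB a s) (hb : SubB b s) : SubB (a ^^^ b) s := by
  intro t ht
  rw [Nat.testBit_xor] at ht
  by_cases h : a.testBit t = true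
  · exact ha t h
  · rw [Bool.not_eq_true] at h
    rw [h, Bool.false_xor] at ht
    exact hb t ht

theorem SubB.red {B : List (ℕ × ℕ)} {m s : ℕ} (hB : ∀ p ∈ B, SubB p.2 s) (hm : SubB m s) : SubB (red B m) s := by
  induction B with
  | nil => exact hm
  | cons p B ih =>
    rw [red_cons]
    have h1 := ih fun q hq => hB q (by simp [hq])
    split_ifs
    · exact h1.xor (hB p (by simp))
    · exact h1

theorem low_spec : ∀ x : ℕ, x ≠ 0 → ∃ h, x ^^^ (x &&& (x - 1)) = 2 ^ h ∧ x.testBit h = true := by
  intro x
  induction x using Nat.strong_induction_on with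
  | _ x ih =>
    intro hx
    rcases Nat.even_or_odd' x with ⟨k, hk | hk⟩
    · have hk0 : k ≠ 0 := by rintro rfl; exact hx (by omega)
      obtain ⟨h, h1, h2⟩ := ih k (by omega) hk0
      refine ⟨h + 1, ?_, ?_⟩
      · have e : x ^^^ (x &&& (x - 1)) = 2 * (k ^^^ (k &&& (k - 1))) := by
          apply Nat.eq_of_testBit_eq
          intro i
          cases i with
          | zero =>
            rw [Nat.testBit_xor, Nat.testBit_and]
            have e1 : x.testBit 0 = false := by rw [hk]; simp
            have e2 : (2 * (k ^^^ (k &&& (k - 1)))).testBit 0 = false := by simp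
            rw [e1, e2]; rfl
          | succ i =>
            rw [Nat.testBit_xor, Nat.testBit_and, Nat.testBit_add_one, Nat.testBit_add_one, Nat.testBit_add_one]
            have e1 : x / 2 = k := by omega
            have e2 : (x - 1) / 2 = k - 1 := by omega
            have e3 : 2 * (k ^^^ (k &&& (k - 1))) / 2 = k ^^^ (k &&& (k - 1)) := by omega
            rw [e1, e2, e3, Nat.testBit_xor, Nat.testBit_and]
        rw [e, h1, pow_succ]; ring
      · rw [Nat.testBit_add_one]
        have e1 : x / 2 = k := by omega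
        rw [e1]; exact h2
    · refine ⟨0, ?_, by rw [hk]; simp⟩
      apply Nat.eq_of_testBit_eq
      intro i
      cases i with
      | zero =>
        rw [Nat.testBit_xor, Nat.testBit_and]
        have e1 : x.testBit 0 = true := by rw [hk]; simp
        have e2 : (x - 1).testBit 0 = false := by rw [hk]; simp
        rw [e1, e2]; rfl
      | succ i =>
        rw [Nat.testBit_xor, Nat.testBit_and, Nat.testBit_add_one, Nat.testBit_add_one]
        have e2 : (x - 1) / 2 = x / 2 := by omega
        rw [e2, Bool.and_self, Bool.xor_self, pow_zero, Nat.testBit_add_one]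
        simp

open Classical in
/-- the index of the lowest bit -/
noncomputable def piv (x : ℕ) : ℕ := if h : x ≠ 0 then (low_spec x h).choose else 0

theorem piv_spec {x : ℕ} (h : x ≠ 0) : x ^^^ (x &&& (x - 1)) = 2 ^ piv x ∧ x.testBit (piv x) = true := by
  unfold piv
  rw [dif_pos h]
  exact (low_spec x h).choose_spec

theorem piv_lt {x d : ℕ} (h : x ≠ 0) (hx : x < 2 ^ d) : piv x < d := by
  by_contra hc
  have h1 := (piv_spec h).2
  rw [Nat.testBit_lt_two_pow (lt_of_lt_of_le hx (Nat.pow_le_pow_right (by norm_num) (not_lt.mp hc)))] at h1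
  cases h1

/-- elimination with pivots at the lowest bit -/
noncomputable def echP : List ℕ → List (ℕ × ℕ) → List (ℕ × ℕ)
  | [], B => B
  | m :: L, B => if red B m = 0 then echP L B else echP L ((piv (red B m), red B m) :: B)

noncomputable def red2 (B : List (ℕ × ℕ)) (m : ℕ) : ℕ :=
  List.rec (motive := fun _ => ℕ) m (fun p _ ih => force ih fun x => Bool.rec (motive := fun _ => ℕ) (Nat.xor x p.2) x (Nat.beq (Nat.land x p.1) 0)) B

noncomputable def ech2 (L : List ℕ) : List (ℕ × ℕ) → List (ℕ × ℕ) :=
  List.rec (motive := fun _ => List (ℕ × ℕ) → List (ℕ × ℕ)) (fun B => B)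
    (fun m _ ih B => force (red2 B m) fun x => Nat.rec (motive := fun _ => List (ℕ × ℕ)) (ih B)
      (fun _ _ => force (Nat.xor x (Nat.land x (Nat.sub x 1))) fun h => ih ((h, x) :: B)) x) L

def trB (B : List (ℕ × ℕ)) : List (ℕ × ℕ) := B.map fun p => (2 ^ p.1, p.2)

theorem land_pow_beq (x h : ℕ) : Nat.beq (Nat.land x (2 ^ h)) 0 = !(x.testBit h) := by
  by_cases hb : x.testBit h = true
  · rw [hb]
    rw [Bool.not_true, ← Bool.not_eq_true, Nat.beq_eq]
    intro h0
    have : (x &&& 2 ^ h).testBit h = true := by rw [Nat.testBit_and, hb, Nat.testBit_two_pow_self]; rfl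
    change (Nat.land x (2 ^ h)).testBit h = true at this
    rw [h0, Nat.zero_testBit] at this
    cases this
  · rw [Bool.not_eq_true] at hb
    rw [hb, Bool.not_false, Nat.beq_eq]
    apply Nat.eq_of_testBit_eq
    intro i
    change (x &&& 2 ^ h).testBit i = _
    rw [Nat.testBit_and, Nat.testBit_two_pow, Nat.zero_testBit]
    by_cases hi : h = i
    · rw [← hi, hb]; rfl
    · simp [hi]

theorem red2_eq (B : List (ℕ × ℕ)) (m : ℕ) : red2 (trB B) m = red B m := by
  induction B with
  | nil => rfl
  | cons p B ih =>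
    rw [red_cons, ← ih]
    change force (red2 (trB B) m) (fun x => Bool.rec (motive := fun _ => ℕ) (Nat.xor x p.2) x (Nat.beq (Nat.land x (2 ^ p.1)) 0)) = _
    rw [force_eq, land_pow_beq]
    cases (red2 (trB B) m).testBit p.1 <;> rfl

theorem ech2_eq (L : List ℕ) : ∀ B : List (ℕ × ℕ), ech2 L (trB B) = trB (echP L B) := by
  induction L with
  | nil => intro B; rfl
  | cons m L ih =>
    intro B
    change force (red2 (trB B) m) (fun x => Nat.rec (motive := fun _ => List (ℕ × ℕ)) (ech2 L (trB B))
      (fun _ _ => force (Nat.xor x (Nat.land x (Nat.sub x 1))) fun h => ech2 L ((h, x) :: trB B)) x) = trB (if red B m = 0 then echP L B else echP L ((piv (red B m), red B m) :: B))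
    rw [force_eq, red2_eq]
    generalize red B m = x
    cases x with
    | zero => rw [if_pos rfl]; exact ih B
    | succ n =>
      rw [if_neg (Nat.succ_ne_zero n)]
      change force (Nat.xor (n + 1) (Nat.land (n + 1) (Nat.sub (n + 1) 1))) (fun h => ech2 L ((h, n + 1) :: trB B)) = _
      rw [force_eq]
      have h1 := (piv_spec (Nat.succ_ne_zero n)).1
      have h2 : Nat.xor (n + 1) (Nat.land (n + 1) (Nat.sub (n + 1) 1)) = 2 ^ piv (n + 1) := h1
      rw [h2]
      exact ih ((piv (n + 1), n + 1) :: B)

theorem ech2_length (L : List ℕ) : (ech2 L []).length = (echP L []).length := by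
  have h := ech2_eq L []
  change ech2 L [] = _ at h
  rw [h]
  unfold trB
  rw [List.length_map]

theorem echP_spec {ι : Type*} (e : ι → ℕ) (F : Type*) [Field F] [CharP F 2] {d : ℕ} (he : ∀ k < d, ∃ i : ι, e i = k) (L : List ℕ) :
    ∀ B : List (ℕ × ℕ), (∀ m ∈ L, m < 2 ^ d) → Tri B → (∀ p ∈ B, p.1 < d ∧ p.2 < 2 ^ d) →
    Tri (echP L B) ∧ (∀ p ∈ echP L B, p.1 < d ∧ p.2 < 2 ^ d) ∧ spn e F (echP L B) = spn e F B ⊔ Submodule.span F {v | ∃ m ∈ L, v = bv e F m} := by
  induction L with
  | nil =>
    intro B _ h2 h3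
    rw [echP]
    refine ⟨h2, h3, ?_⟩
    simp
  | cons m L ih =>
    intro B h1 h2 h3
    have hredlt : red B m < 2 ^ d := by
      clear h2
      induction B with
      | nil => exact h1 m (by simp)
      | cons p B ihB =>
        rw [red_cons]
        have h4 := ihB fun q hq => h3 q (by simp [hq])
        split_ifs
        · exact Nat.xor_lt_two_pow h4 (h3 p (by simp)).2
        · exact h4
    have hset : {v | ∃ m' ∈ m :: L, v = bv e F m'} = {bv e F m} ∪ {v | ∃ m ∈ L, v = bv e F m} := by
      ext v
      simp only [List.mem_cons, Set.mem_ofPred_eq, Set.mem_union, Set.mem_singleton_iff]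
      constructor
      · rintro ⟨q, rfl | h, rfl⟩
        · exact Or.inl rfl
        · exact Or.inr ⟨q, h, rfl⟩
      · rintro (rfl | ⟨q, h, rfl⟩)
        · exact ⟨m, Or.inl rfl, rfl⟩
        · exact ⟨q, Or.inr h, rfl⟩
    have hmem := red_mem e F B m
    rw [echP]
    split_ifs with h0
    · obtain ⟨a, b, c⟩ := ih B (fun m hm => h1 m (by simp [hm])) h2 h3
      refine ⟨a, b, ?_⟩
      rw [c, hset, Submodule.span_union, ← sup_assoc]
      congr 1
      rw [eq_comm, sup_eq_left, Submodule.span_singleton_le_iff_mem]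
      rw [h0, bv_zero, zero_sub] at hmem
      simpa using neg_mem hmem
    · obtain ⟨a, b, c⟩ := ih ((piv (red B m), red B m) :: B) (fun m hm => h1 m (by simp [hm]))
        ⟨(piv_spec h0).2, red_pivot h2 m, h2⟩ (by
          intro p hp
          rcases List.mem_cons.mp hp with rfl | hp
          · exact ⟨piv_lt h0 hredlt, hredlt⟩
          · exact h3 p hp)
      refine ⟨a, b, ?_⟩
      rw [c, hset, Submodule.span_union, ← sup_assoc]
      congr 1
      rw [spn_cons]
      apply le_antisymm
      · refine sup_le ?_ le_sup_left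
        rw [Submodule.span_singleton_le_iff_mem]
        have e1 : bv e F (red B m) = (bv e F (red B m) - bv e F m) + bv e F m := by abel
        change bv e F (red B m) ∈ _
        rw [e1]
        exact add_mem (Submodule.mem_sup_left hmem) (Submodule.mem_sup_right (Submodule.mem_span_singleton_self _))
      · refine sup_le le_sup_right ?_
        rw [Submodule.span_singleton_le_iff_mem]
        have e1 : bv e F m = bv e F (red B m) - (bv e F (red B m) - bv e F m) := by abel
        rw [e1]
        exact sub_mem (Submodule.mem_sup_left (Submodule.mem_span_singleton_self _)) (Submodule.mem_sup_right hmem)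

theorem subB_ech {s : ℕ} (L : List ℕ) : ∀ B : List (ℕ × ℕ), (∀ p ∈ B, SubB p.2 s) → (∀ m ∈ L, SubB m s) → ∀ p ∈ echP L B, SubB p.2 s := by
  induction L with
  | nil => intro B hB _; rw [echP]; exact hB
  | cons m L ih =>
    intro B hB hL
    rw [echP]
    have hL' : ∀ m ∈ L, SubB m s := fun m hm => hL m (by simp [hm])
    split_ifs
    · exact ih B hB hL'
    · refine ih _ ?_ hL'
      intro p hp
      rcases List.mem_cons.mp hp with rfl | hp
      · exact SubB.red hB (hL m (by simp))
      · exact hB p hp

theorem Tri.append {A B : List (ℕ × ℕ)} (hA : Tri A) (hB : Tri B) (h : ∀ p ∈ A, ∀ q ∈ B, p.2.testBit q.1 = false) : Tri (A ++ B) := by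
  induction A with
  | nil => exact hB
  | cons p A ih =>
    obtain ⟨h1, h2, h3⟩ := hA
    refine ⟨h1, ?_, ih h3 fun p hp => h p (by simp [hp])⟩
    intro q hq
    rcases List.mem_append.mp hq with hq | hq
    · exact h2 q hq
    · exact h p (by simp) q hq

theorem Tri.pivot {A : List (ℕ × ℕ)} (hA : Tri A) : ∀ p ∈ A, p.2.testBit p.1 = true := by
  induction A with
  | nil => intro p hp; simp at hp
  | cons a A ih =>
    intro p hp
    rcases List.mem_cons.mp hp with rfl | hp
    · exact hA.1
    · exact ih hA.2.2 p hp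

/-- forced list of values -/
noncomputable def fmapL {α : Type} (g : ℕ → ℕ) (C : List ℕ) : (List ℕ → α) → α :=
  List.rec (motive := fun _ => (List ℕ → α) → α) (fun k => k []) (fun x _ ih k => force (g x) fun m => ih fun L => k (m :: L)) C

theorem fmapL_eq {α : Type} (g : ℕ → ℕ) (C : List ℕ) : ∀ k : List ℕ → α, fmapL g C k = k (C.map g) := by
  induction C with
  | nil => intro k; rfl
  | cons x C ih =>
    intro k
    change force (g x) (fun m => fmapL g C fun L => k (m :: L)) = _
    rw [force_eq, ih]; rfl

noncomputable def lorL (L : List ℕ) : ℕ := List.rec (motive := fun _ => ℕ) 0 (fun m _ ih => Nat.lor m ih) L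
noncomputable def idxL (U : ℕ) (C : List ℕ) : ℕ := List.rec (motive := fun _ => ℕ) U (fun x _ ih => Nat.lor (Nat.shiftLeft 1 x) ih) C

theorem subB_lorL {L : List ℕ} : ∀ m ∈ L, SubB m (lorL L) := by
  induction L with
  | nil => intro m hm; simp at hm
  | cons a L ih =>
    intro m hm t ht
    change (a ||| lorL L).testBit t = true
    rw [Nat.testBit_or, Bool.or_eq_true]
    rcases List.mem_cons.mp hm with rfl | hm
    · exact Or.inl ht
    · exact Or.inr (ih m hm t ht)

theorem idxL_bit {U : ℕ} {C : List ℕ} {t : ℕ} (h : (idxL U C).testBit t = true) : U.testBit t = true ∨ t ∈ C := by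
  induction C with
  | nil => exact Or.inl h
  | cons a C ih =>
    change ((1 <<< a) ||| idxL U C).testBit t = true at h
    rw [Nat.testBit_or, Bool.or_eq_true] at h
    rcases h with h | h
    · right
      rw [Nat.one_shiftLeft, Nat.testBit_two_pow] at h
      simp only [decide_eq_true_eq] at h
      rw [h]; simp
    · rcases ih h with h | h
      · exact Or.inl h
      · exact Or.inr (by simp [h])

/-- elimination in blocks -/
noncomputable def blk (g : ℕ → ℕ) (d n : ℕ) : List (List ℕ) → ℕ → ℕ → ℕ → Bool
  | [], _, U, k => Nat.beq U (2 ^ d - 1) && Nat.beq k n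
  | C :: Cs, S, U, k => (C.all fun x => Nat.ble (x + 1) d) && fmapL g C fun L => force (lorL L) fun s => Nat.beq (Nat.land s S) 0 &&
      force (Nat.lor s S) fun S' => force (idxL U C) fun U' => force ((ech2 L []).length + k) fun k' => blk g d n Cs S' U' k'

theorem blk_spec {ι : Type*} (e : ι → ℕ) (F : Type*) [Field F] [CharP F 2] {d n : ℕ} (he : ∀ k < d, ∃ i : ι, e i = k) {g : ℕ → ℕ}
    (hg : ∀ x < d, g x < 2 ^ d) : ∀ (Cs : List (List ℕ)) (S U k : ℕ) (B : List (ℕ × ℕ)), blk g d n Cs S U k = true →
      Tri B → (∀ p ∈ B, p.1 < d ∧ SubB p.2 S) → B.length = k →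
      ∃ B', Tri B' ∧ (∀ p ∈ B', p.1 < d) ∧ B'.length = n ∧ (∀ x ∈ Cs.flatten, x < d) ∧ (∀ t < d, U.testBit t = true ∨ t ∈ Cs.flatten) ∧
        spn e F B' = spn e F B ⊔ Submodule.span F {v | ∃ x ∈ Cs.flatten, v = bv e F (g x)} := by
  intro Cs
  induction Cs with
  | nil =>
    intro S U k B h h1 h2 h3
    simp only [blk, Bool.and_eq_true, Nat.beq_eq] at h
    refine ⟨B, h1, fun p hp => (h2 p hp).1, by rw [h3, h.2], by simp, ?_, by simp⟩
    intro t ht
    left
    rw [h.1, Nat.testBit_two_pow_sub_one]
    simpa using ht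
  | cons C Cs ih =>
    intro S U k B h h1 h2 h3
    simp only [blk, Bool.and_eq_true, fmapL_eq, force_eq, List.all_eq_true] at h
    obtain ⟨hC, hS, h⟩ := h
    rw [ech2_length] at h
    have hC : ∀ x ∈ C, x < d := fun x hx => Nat.le_of_ble_eq_true (hC x hx)
    have hS : Nat.land (lorL (C.map g)) S = 0 := Nat.eq_of_beq_eq_true hS
    set L := C.map g with hL
    have hLlt : ∀ m ∈ L, m < 2 ^ d := by
      intro m hm
      obtain ⟨x, hx, rfl⟩ := List.mem_map.mp hm
      exact hg x (hC x hx)
    obtain ⟨k1, k2, k3⟩ := echP_spec e F he L [] hLlt trivial (by simp)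
    have k4 := subB_ech (s := lorL L) L [] (by simp) subB_lorL
    have hnil : spn e F [] = (⊥ : Submodule F (ι → F)) := by unfold spn; simp
    rw [hnil, bot_sup_eq] at k3
    have hdis : ∀ t, (lorL L).testBit t = true → S.testBit t = true → False := by
      intro t ha hb
      have : (lorL L &&& S).testBit t = true := by rw [Nat.testBit_and, ha, hb]; rfl
      change (Nat.land (lorL L) S).testBit t = true at this
      rw [hS, Nat.zero_testBit] at this
      cases this
    have hT : Tri (echP L [] ++ B) := by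
      refine k1.append h1 fun p hp q hq => ?_
      by_contra hc
      rw [Bool.not_eq_false] at hc
      exact hdis _ (k4 p hp _ hc) ((h2 q hq).2 _ (h1.pivot q hq))
    obtain ⟨B', b1, b2, b3, b4, b5, b6⟩ := ih (Nat.lor (lorL L) S) (idxL U C) ((echP L []).length + k) (echP L [] ++ B) h hT
      (by
        intro p hp
        rcases List.mem_append.mp hp with hp | hp
        · refine ⟨(k2 p hp).1, fun t ht => ?_⟩
          change (lorL L ||| S).testBit t = true
          rw [Nat.testBit_or, k4 p hp t ht]; rfl
        · refine ⟨(h2 p hp).1, fun t ht => ?_⟩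
          change (lorL L ||| S).testBit t = true
          rw [Nat.testBit_or, (h2 p hp).2 t ht, Bool.or_true])
      (by rw [List.length_append, h3])
    refine ⟨B', b1, b2, b3, ?_, ?_, ?_⟩
    · intro x hx
      rw [List.flatten_cons, List.mem_append] at hx
      rcases hx with hx | hx
      · exact hC x hx
      · exact b4 x hx
    · intro t ht
      rw [List.flatten_cons, List.mem_append]
      rcases b5 t ht with h | h
      · rcases idxL_bit h with h | h
        · exact Or.inl h
        · exact Or.inr (Or.inl h)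
      · exact Or.inr (Or.inr h)
    · rw [b6]
      have e1 : spn e F (echP L [] ++ B) = spn e F (echP L []) ⊔ spn e F B := by
        unfold spn
        rw [← Submodule.span_union]
        congr 1
        ext v
        simp only [List.mem_append, Set.mem_ofPred_eq, Set.mem_union]
        constructor
        · rintro ⟨q, h | h, rfl⟩
          · exact Or.inl ⟨q, h, rfl⟩
          · exact Or.inr ⟨q, h, rfl⟩
        · rintro (⟨q, h, rfl⟩ | ⟨q, h, rfl⟩)
          · exact ⟨q, Or.inl h, rfl⟩
          · exact ⟨q, Or.inr h, rfl⟩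
      have e2 : Submodule.span F {v | ∃ x ∈ (C :: Cs).flatten, v = bv e F (g x)} =
          Submodule.span F {v | ∃ m ∈ L, v = bv e F m} ⊔ Submodule.span F {v | ∃ x ∈ Cs.flatten, v = bv e F (g x)} := by
        rw [← Submodule.span_union]
        congr 1
        ext v
        simp only [List.flatten_cons, List.mem_append, Set.mem_ofPred_eq, Set.mem_union, hL, List.mem_map]
        constructor
        · rintro ⟨q, h | h, rfl⟩
          · exact Or.inl ⟨_, ⟨q, h, rfl⟩, rfl⟩
          · exact Or.inr ⟨q, h, rfl⟩
        · rintro (⟨_, ⟨q, h, rfl⟩, rfl⟩ | ⟨q, h, rfl⟩)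
          · exact ⟨q, Or.inl h, rfl⟩
          · exact ⟨q, Or.inr h, rfl⟩
      rw [e1, e2, k3, sup_comm (Submodule.span F {v | ∃ m ∈ L, v = bv e F m}) (spn e F B), sup_assoc]

/-- the kernel check of a rank, in blocks -/
noncomputable def rkB (D : ChevalleyDatum) (T : Tab) (R : List ℕ) (Cs : List (List ℕ)) (n : ℕ) : Bool :=
  colF D T R fun f => blk (fun x => Nat.xor (maskOf (f x)) (Nat.shiftLeft 1 x)) (dim D) n Cs 0 0 0

/-- **the rank of `y - 1`** -/
theorem CG.rk_of_B {D : ChevalleyDatum} {F : Type*} [Field F] (M : CG D F) [CharP F 2] {R : List ℕ} {Cs : List (List ℕ)} {n : ℕ}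
    (hR : ∀ r ∈ R, r < D.nroots) (h : rkB D M.T R Cs n = true) :
    Matrix.rank (((W1 D F R : GL D.Idx F) : Matrix D.Idx D.Idx F) - 1) = n := by
  unfold rkB at h
  rw [colF_eq] at h
  set g := fun x => Nat.xor (maskOf (colW D M.T R x)) (Nat.shiftLeft 1 x) with hg
  have hlt : ∀ x < dim D, g x < 2 ^ dim D := by
    intro x hx
    refine Nat.xor_lt_two_pow (maskOf_lt (keys_colW M R hR x hx)) ?_
    change 1 <<< x < _
    rw [Nat.one_shiftLeft]
    exact Nat.pow_lt_pow_right (by norm_num) hx
  obtain ⟨B', b1, b2, b3, b4, b5, b6⟩ := blk_spec (code D) F (fun k hk => exists_code D hk) hlt Cs 0 0 0 [] h trivial (by simp) rfl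
  have hnil : spn (code D) F [] = (⊥ : Submodule F (D.Idx → F)) := by unfold spn; simp
  rw [hnil, bot_sup_eq] at b6
  rw [← b3, ← tri_finrank (code D) F b1 (fun p hp => exists_code D (b2 p hp)), b6, Matrix.rank_eq_finrank_span_cols, W1_val M R hR]
  have key : ∀ j : D.Idx, Matrix.col (φ D F (matOf D (colW D M.T R)) - 1) j = bv (code D) F (g (code D j)) := by
    intro j
    ext i
    change ((matOf D (colW D M.T R) i j : ℤ) : F) - (1 : Matrix D.Idx D.Idx F) i j = bv (code D) F (maskOf (colW D M.T R (code D j)) ^^^ (1 <<< (code D j))) i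
    rw [bv_xor, Pi.add_apply, bv_maskOf, bv_shift, matOf_apply, sub_eq_add_neg, CharTwo.neg_eq, Matrix.one_apply]
    congr 1
    by_cases h : i = j
    · rw [if_pos h, h, if_pos rfl]
    · rw [if_neg h, if_neg]
      intro h'
      exact h (code_inj D h').symm
  have hset : Set.range (Matrix.col (φ D F (matOf D (colW D M.T R)) - 1)) = {v | ∃ x ∈ Cs.flatten, v = bv (code D) F (g x)} := by
   ext v
   constructor
   · rintro ⟨j, rfl⟩
     refine ⟨code D j, ?_, key j⟩
     rcases b5 _ (code_lt D j) with h | h
     · rw [Nat.zero_testBit] at h; cases h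
     · exact h
   · rintro ⟨x, hx, rfl⟩
     obtain ⟨j, rfl⟩ := exists_code D (b4 x hx)
     exact ⟨j, key j⟩
  rw [hset]

end CfsgLib.Chev
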