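import Cfsg.Agent.Lib.ChevInE7a
import Cfsg.Agent.Lib.ChevRk3
set_option autoImplicit false
set_option maxRecDepth 1000000
set_option maxHeartbeats 4000000

/-! Involution classes of the Chevalley group of type E7 in characteristic two: ranks. -/

namespace CfsgLib.Chev
open Cfsg.Lie

def gkE7_0 : List (List ℕ) := [[1, 2, 3, 4, 5, 6, 40, 41, 42, 43, 44, 45, 46, 47, 48, 49, 50, 51, 52, 53, 54, 55, 56, 57, 58, 59, 60, 61, 62, 63, 64, 65, 66, 67, 68, 69, 70, 71, 72, 73, 74, 75, 76, 77, 78, 79, 80, 81, 82, 83, 84, 85, 86, 87, 88, 89, 90, 91, 92, 93, 94, 95, 96, 97, 98, 99, 100, 101, 102, 103, 104, 105, 106, 107, 108, 109, 110, 111, 112, 113, 114, 115, 116, 117, 118, 119, 120, 121, 122, 123, 124, 125, 126, 127, 128, 129, 130, 131, 132], [0, 7], [8], [9], [10], [11], [12], [13], [14], [15], [16], [17], [18], [19], [20], [21], [22], [23], [24], [25], [26], [27], [28], [29], [30], [31], [32], [33], [34], [35], [36], [37], [38], [39]]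
theorem rkE7_0F : rkB chevE7 gdE7.T [125] gkE7_0 34 = true := by decide +kernel
theorem rkE7_0 (F : Type*) [Field F] [CharP F 2] : Matrix.rank (((W1 chevE7 F [125] : GL (ChevalleyDatum.Idx chevE7) F) : Matrix (ChevalleyDatum.Idx chevE7) (ChevalleyDatum.Idx chevE7) F) - 1) = 34 := (mgE7 F).rk_of_B (Cs := gkE7_0) (by decide) rkE7_0F
def gkE7_1 : List (List ℕ) := [[1, 2, 3, 4, 6, 45, 48, 49, 52, 53, 54, 57, 58, 59, 62, 63, 66, 69, 70, 71, 72, 73, 74, 75, 76, 77, 78, 79, 80, 81, 82, 83, 84, 85, 86, 87, 88, 89, 90, 91, 92, 93, 94, 95, 96, 97, 98, 99, 104, 105, 108, 109, 111, 112, 113, 114, 115, 117, 118, 119, 120, 121, 122, 123, 124, 125, 126, 127, 128, 129, 130, 131, 132], [12], [13], [16], [17], [19], [20], [21], [22], [25], [26], [27], [28], [30], [31], [34], [35], [0, 5, 7, 40], [41], [42], [43], [44], [46], [47], [50], [51], [55], [56], [60], [61], [64], [65], [67], [68], [8, 23, 100], [9, 29, 101], [10, 32, 102], [11, 33, 103],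 [14, 36, 106], [15, 37, 107], [18, 38, 110], [24, 39, 116]]
theorem rkE7_1F : rkB chevE7 gdE7.T [125, 92] gkE7_1 52 = true := by decide +kernel
theorem rkE7_1 (F : Type*) [Field F] [CharP F 2] : Matrix.rank (((W1 chevE7 F [125, 92] : GL (ChevalleyDatum.Idx chevE7) F) : Matrix (ChevalleyDatum.Idx chevE7) (ChevalleyDatum.Idx chevE7) F) - 1) = 52 := (mgE7 F).rk_of_B (Cs := gkE7_1) (by decide) rkE7_1F
def gkE7_2 : List (List ℕ) := [[1, 2, 3, 4, 6, 45, 48, 49, 52, 53, 54, 57, 58, 59, 62, 63, 66, 70, 72, 73, 75, 76, 77, 79, 80, 81, 82, 84, 85, 86, 87, 89, 90, 91, 93, 94, 96, 98, 99, 105, 109, 112, 114, 115, 118, 120, 121, 123, 124, 125, 127, 128, 129, 130, 131, 132], [0, 5, 7, 40, 69], [41, 42, 71], [43, 44, 74], [46, 47, 78], [50, 51, 83], [55, 56, 88], [60, 61, 92], [64, 65, 95], [67, 68, 97], [8, 23, 100], [9, 29, 101], [10, 32, 102], [11, 33, 103], [12, 13, 104], [14, 36, 106], [15, 37, 107], [16, 17, 108], [18, 38, 110], [19,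 20, 111], [21, 22, 113], [24, 39, 116], [25, 26, 117], [27, 28, 119], [30, 31, 122], [34, 35, 126]]
theorem rkE7_2F : rkB chevE7 gdE7.T [125, 92, 63] gkE7_2 53 = true := by decide +kernel
theorem rkE7_2 (F : Type*) [Field F] [CharP F 2] : Matrix.rank (((W1 chevE7 F [125, 92, 63] : GL (ChevalleyDatum.Idx chevE7) F) : Matrix (ChevalleyDatum.Idx chevE7) (ChevalleyDatum.Idx chevE7) F) - 1) = 53 := (mgE7 F).rk_of_B (Cs := gkE7_2) (by decide) rkE7_2F
def gkE7_3 : List (List ℕ) := [[1, 2, 4, 6, 54, 59, 66, 69, 70, 73, 76, 77, 78, 79, 80, 81, 82, 83, 84, 85, 86, 87, 88, 89, 90, 91, 92, 93, 94, 95, 96, 97, 98, 99, 111, 112, 113, 114, 117, 118, 119, 120, 122, 123, 124, 125, 126, 127, 128, 129, 130, 131, 132], [19], [20], [21], [22], [25], [26], [27], [28], [0, 3, 5, 7, 40, 45], [46], [47], [48], [49], [50], [51], [52], [53], [55], [56], [57], [58], [60], [61], [62], [63], [41, 64, 71], [42, 65, 72], [43, 67, 74], [44, 68, 75], [10, 32,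 102], [11, 33, 103], [12, 30, 104], [13, 31, 105], [14, 36, 106], [15, 37, 107], [16, 34, 108], [17, 35, 109], [8, 18, 23, 38, 100, 110, 115], [9, 24, 29, 39, 101, 116, 121]]
theorem rkE7_3F : rkB chevE7 gdE7.T [125, 92, 87] gkE7_3 62 = true := by decide +kernel
theorem rkE7_3 (F : Type*) [Field F] [CharP F 2] : Matrix.rank (((W1 chevE7 F [125, 92, 87] : GL (ChevalleyDatum.Idx chevE7) F) : Matrix (ChevalleyDatum.Idx chevE7) (ChevalleyDatum.Idx chevE7) F) - 1) = 62 := (mgE7 F).rk_of_B (Cs := gkE7_3) (by decide) rkE7_3F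
def gkE7_4 : List (List ℕ) := [[1, 2, 4, 6, 54, 59, 66, 70, 73, 76, 77, 79, 80, 81, 82, 84, 85, 86, 87, 89, 90, 91, 93, 94, 96, 98, 99, 112, 114, 118, 120, 123, 124, 125, 127, 128, 129, 130, 131, 132], [48], [49], [52], [53], [57], [58], [62], [63], [0, 3, 5, 7, 40, 45, 69], [46, 47, 78], [50, 51, 83], [55, 56, 88], [60, 61, 92], [41, 42, 64, 65, 71, 72, 95], [43, 44, 67, 68, 74, 75, 97], [10, 32, 102], [11, 33, 103], [14, 36, 106], [15, 37, 107], [19, 20, 111], [21, 22, 113], [8, 18, 23, 38, 100, 110, 115], [25, 26, 117], [27, 28, 119], [9, 24, 29, 39, 101, 116, 121], [12, 13, 30, 31, 104, 105, 122], [16, 17, 34, 35, 108, 109, 126]]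
theorem rkE7_4F : rkB chevE7 gdE7.T [125, 92, 63, 87] gkE7_4 63 = true := by decide +kernel
theorem rkE7_4 (F : Type*) [Field F] [CharP F 2] : Matrix.rank (((W1 chevE7 F [125, 92, 63, 87] : GL (ChevalleyDatum.Idx chevE7) F) : Matrix (ChevalleyDatum.Idx chevE7) (ChevalleyDatum.Idx chevE7) F) - 1) = 63 := (mgE7 F).rk_of_B (Cs := gkE7_4) (by decide) rkE7_4F

end CfsgLib.Chev
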