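import Cfsg.Agent.Lib.ChevIn7
import Cfsg.Agent.Lib.ChevCD
set_option autoImplicit false
set_option maxRecDepth 1000000

/-! Involution classes of the Chevalley group of type E8 in characteristic two: kernel checks. -/

namespace CfsgLib.Chev
open Cfsg.Lie

noncomputable def mgE8 (F : Type*) [Field F] : CG chevE8 F := ⟨⟨gdE8, nzE8⟩, commE8 F⟩
theorem cdE8 (F : Type*) [Field F] : Cd (mgE8 F).toGD rcE8.get CLE8 := Cd.of_rvc (fun _ _ => rfl) rvcE8 (by decide)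

theorem stE8_0F : stF 8 240 rcE8.get CLE8 [] [0, 1, 2, 3, 4, 5, 6, 7] [239] [] [[2, 0, -1, 0, 0, 0, 0, 0], [0, 2, 0, -1, 0, 0, 0, 0], [-1, 0, 2, -1, 0, 0, 0, 0], [0, -1, -1, 2, -1, 0, 0, 0], [0, 0, 0, -1, 2, -1, 0, 0], [0, 0, 0, 0, -1, 2, -1, 0], [0, 0, 0, 0, 0, -1, 2, -1], [0, 0, 0, 0, 0, 0, -1, 2]] = true := by decide +kernel
theorem stE8_0 : stChk chevE8 [] [0, 1, 2, 3, 4, 5, 6, 7] [239] = true := (cdE8 ℚ).stChk_of_F stE8_0F
theorem stE8_1F : stF 8 240 rcE8.get CLE8 [239] [0, 1, 2, 3, 4, 5, 6] [226] [[0, 0, 0, 0, 0, 0, 0, 1]] [[2, 0, -1, 0, 0, 0, 0, 0], [0, 2, 0, -1, 0, 0, 0, 0], [-1, 0, 2, -1, 0, 0, 0, 0], [0, -1, -1, 2, -1, 0, 0, 0], [0, 0, 0, -1, 2, -1, 0, 0], [0, 0, 0, 0, -1, 2, -1, 0], [0, 0, 0, 0, 0, -1, 2, -1]] = true := by decide +kernel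
theorem stE8_1 : stChk chevE8 [239] [0, 1, 2, 3, 4, 5, 6] [226] = true := (cdE8 ℚ).stChk_of_F stE8_1F
theorem stE8_2F : stF 8 240 rcE8.get CLE8 [239, 226] [1, 2, 3, 4, 5, 6] [159] [[0, 0, 0, 0, 0, 0, 0, 1], [1, 0, 0, 0, 0, 0, 0, -1]] [[0, 2, 0, -1, 0, 0, 0, 0], [-1, 0, 2, -1, 0, 0, 0, 0], [0, -1, -1, 2, -1, 0, 0, 0], [0, 0, 0, -1, 2, -1, 0, 0], [0, 0, 0, 0, -1, 2, -1, 0], [0, 0, 0, 0, 0, -1, 2, -1]] = true := by decide +kernel
theorem stE8_2 : stChk chevE8 [239, 226] [1, 2, 3, 4, 5, 6] [159] = true := (cdE8 ℚ).stChk_of_F stE8_2F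
theorem stE8_3F : stF 8 240 rcE8.get CLE8 [239, 226, 159] [1, 2, 3, 4, 6] [121, 152] [[0, 0, 0, 0, 0, 0, 0, 1], [1, 0, 0, 0, 0, 0, 0, -1], [-1, 0, 0, 0, 0, 1, 0, -1]] [[0, 2, 0, -1, 0, 0, 0, 0], [-1, 0, 2, -1, 0, 0, 0, 0], [0, -1, -1, 2, -1, 0, 0, 0], [0, 0, 0, -1, 2, -1, 0, 0], [0, 0, 0, 0, 0, -1, 2, -1]] = true := by decide +kernel
theorem stE8_3 : stChk chevE8 [239, 226, 159] [1, 2, 3, 4, 6] [121, 152] = true := (cdE8 ℚ).stChk_of_F stE8_3F
theorem stE8_4F : stF 8 240 rcE8.get CLE8 [239, 226, 159, 152] [1, 2, 4, 6] [121, 126, 135, 141] [[0, 0, 0, 0, 0, 0, 0, 1], [1, 0, 0, 0, 0, 0, 0, -1], [-1, 0, 0, 0, 0, 1, 0, -1], [-1, 0, 0, 1, 0, -1, 0, 0]] [[0, 2, 0, -1, 0, 0, 0, 0], [-1, 0, 2, -1, 0, 0, 0, 0], [0, 0, 0, -1, 2, -1, 0, 0], [0, 0, 0, 0, 0, -1, 2, -1]] = true := by decide +kernel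
theorem stE8_4 : stChk chevE8 [239, 226, 159, 152] [1, 2, 4, 6] [121, 126, 135, 141] = true := (cdE8 ℚ).stChk_of_F stE8_4F
theorem leE8F : leF 240 rcE8.get CLE8 239 [0, 0, 0, 0, 0, 0, 0, 1] = true := by decide +kernel
theorem leE8 : ∀ r < chevE8.nroots, ∀ s < chevE8.nroots, s ≠ r → chevE8.pairing r s ≤ 1 := (cdE8 ℚ).le1 stE8_0 leE8F
theorem ocE8 : ocChk chevE8 = true := (cdE8 ℚ).ocChk_of leE8
theorem qdE8_0F : quadF chevE8 8 240 rcE8.get CLE8 [239, 226, 159] [] 121 122 79 12 228 161 119 238 239 226 159 = true := by decide +kernel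
theorem qdE8_0 : quadChk chevE8 [239, 226, 159] [] 121 122 79 12 228 161 119 238 239 226 159 = true := (cdE8 ℚ).quadChk_of leE8 qdE8_0F
theorem qdE8_1F : quadF chevE8 8 240 rcE8.get CLE8 [239, 226, 159, 152] [152] 121 122 79 12 228 161 119 238 239 226 159 = true := by decide +kernel
theorem qdE8_1 : quadChk chevE8 [239, 226, 159, 152] [152] 121 122 79 12 228 161 119 238 239 226 159 = true := (cdE8 ℚ).quadChk_of leE8 qdE8_1F
theorem qdE8_2F : quadF chevE8 8 240 rcE8.get CLE8 [239, 226, 159, 152] [159] 126 129 84 10 230 158 114 236 239 226 152 = true := by decide +kernel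
theorem qdE8_2 : quadChk chevE8 [239, 226, 159, 152] [159] 126 129 84 10 230 158 114 236 239 226 152 = true := (cdE8 ℚ).quadChk_of leE8 qdE8_2F
theorem qdE8_3F : quadF chevE8 8 240 rcE8.get CLE8 [239, 226, 159, 152] [239] 135 163 65 58 191 184 77 219 226 159 152 = true := by decide +kernel
theorem qdE8_3 : quadChk chevE8 [239, 226, 159, 152] [239] 135 163 65 58 191 184 77 219 226 159 152 = true := (cdE8 ℚ).quadChk_of leE8 qdE8_3F
theorem qdE8_4F : quadF chevE8 8 240 rcE8.get CLE8 [239, 226, 159, 152] [226] 141 173 43 36 213 206 71 225 239 159 152 = true := by decide +kernel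
theorem qdE8_4 : quadChk chevE8 [239, 226, 159, 152] [226] 141 173 43 36 213 206 71 225 239 159 152 = true := (cdE8 ℚ).quadChk_of leE8 qdE8_4F
def stsE8 : List (List ℕ) := [[], [239], [239, 226], [239, 226, 159], [239, 226, 159, 152]]

theorem mchE8 {F : Type*} [Field F] [CharP F 2] (M : CG chevE8 F) : ∀ B ∈ stsE8, ∃ J cands, stChk chevE8 B J cands = true ∧
    ∀ c ∈ cands, Absorb chevE8 F B c ∨ B ++ [c] ∈ stsE8 := by
  intro B hB
  unfold stsE8 at hB
  simp only [List.mem_cons, List.not_mem_nil, or_false] at hB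
  rcases hB with rfl | rfl | rfl | rfl | rfl
  · refine ⟨[0, 1, 2, 3, 4, 5, 6, 7], [239], stE8_0, fun c hc => ?_⟩
    simp only [List.mem_cons, List.not_mem_nil, or_false] at hc
    subst hc
    · exact Or.inr (by decide)
  · refine ⟨[0, 1, 2, 3, 4, 5, 6], [226], stE8_1, fun c hc => ?_⟩
    simp only [List.mem_cons, List.not_mem_nil, or_false] at hc
    subst hc
    · exact Or.inr (by decide)
  · refine ⟨[1, 2, 3, 4, 5, 6], [159], stE8_2, fun c hc => ?_⟩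
    simp only [List.mem_cons, List.not_mem_nil, or_false] at hc
    subst hc
    · exact Or.inr (by decide)
  · refine ⟨[1, 2, 3, 4, 6], [121, 152], stE8_3, fun c hc => ?_⟩
    simp only [List.mem_cons, List.not_mem_nil, or_false] at hc
    rcases hc with rfl | rfl
    · exact Or.inl (M.absorb_of_quad ocE8 qdE8_0)
    · exact Or.inr (by decide)
  · refine ⟨[1, 2, 4, 6], [121, 126, 135, 141], stE8_4, fun c hc => ?_⟩
    simp only [List.mem_cons, List.not_mem_nil, or_false] at hc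
    rcases hc with rfl | rfl | rfl | rfl
    · exact Or.inl (M.absorb_of_quad ocE8 qdE8_1)
    · exact Or.inl (M.absorb_of_quad ocE8 qdE8_2)
    · exact Or.inl (M.absorb_of_quad ocE8 qdE8_3)
    · exact Or.inl (M.absorb_of_quad ocE8 qdE8_4)
theorem wdE8_0F : wdF 8 240 rcE8.get CLE8 [] [239] [239] = true := by decide +kernel
theorem wdE8_0 {F : Type*} [Field F] [CharP F 2] : Cj chevE8 F [239] [239] := (cdE8 F).cj_of_F wdE8_0F
theorem wdE8_1F : wdF 8 240 rcE8.get CLE8 [(1, [234, 231]), (3, [235, 230]), (4, [236, 229]), (5, [237, 228]), (6, [238, 227]), (7, [239, 226])] [232, 233] [239, 226] = true := by decide +kernel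
theorem wdE8_1 {F : Type*} [Field F] [CharP F 2] : Cj chevE8 F [232, 233] [239, 226] := (cdE8 F).cj_of_F wdE8_1F
theorem wdE8_2F : wdF 8 240 rcE8.get CLE8 [(5, [229, 221, 218]), (4, [230, 221, 217]), (3, [231, 221, 213]), (1, [233, 221, 203]), (2, [234, 216, 203]), (3, [235, 212, 203]), (4, [236, 209, 203]), (5, [237, 209, 202]), (6, [238, 208, 201]), (7, [239, 207, 200]), (4, [239, 210, 197]), (3, [239, 214, 191]), (2, [239, 219, 181]), (0, [239, 226, 159])] [228, 222, 218] [239, 226, 159] = true := by decide +kernel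
theorem wdE8_2 {F : Type*} [Field F] [CharP F 2] : Cj chevE8 F [228, 222, 218] [239, 226, 159] := (cdE8 F).cj_of_F wdE8_2F
theorem wdE8_3F : wdF 8 240 rcE8.get CLE8 [(7, [227, 219, 213, 216]), (6, [228, 219, 213, 215]), (5, [229, 219, 212, 215]), (4, [230, 219, 209, 215]), (3, [231, 219, 209, 211]), (1, [233, 219, 199, 201]), (2, [234, 214, 199, 201]), (3, [235, 210, 193, 201]), (4, [236, 207, 193, 198]), (5, [237, 205, 193, 196]), (6, [238, 204, 192, 196]), (7, [239, 204, 191, 195]), (6, [239, 205, 191, 194]), (5, [239, 207, 189, 194]), (4, [239, 210, 186, 194]), (3, [239, 214, 186, 188]), (2, [239, 219, 176, 178]), (0, [239, 226, 154, 156]), (4, [239, 226, 157, 153]), (5, [239, 226, 159, 152])] [226, 220, 213, 216] [239, 226, 159, 152] = true := by decide +kernel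
theorem wdE8_3 {F : Type*} [Field F] [CharP F 2] : Cj chevE8 F [226, 220, 213, 216] [239, 226, 159, 152] := (cdE8 F).cj_of_F wdE8_3F

end CfsgLib.Chev
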