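import Cfsg.Agent.Lib.ChevInE8a
import Cfsg.Agent.Lib.ChevRk3
set_option autoImplicit false
set_option maxRecDepth 1000000
set_option maxHeartbeats 4000000

/-! Involution classes of the Chevalley group of type E8 in characteristic two: ranks. -/

namespace CfsgLib.Chev
open Cfsg.Lie

def gkE8_0 : List (List ℕ) := [[0, 1, 2, 3, 4, 5, 6, 21, 28, 33, 37, 40, 42, 43, 47, 50, 52, 53, 56, 58, 59, 61, 62, 63, 66, 68, 69, 71, 72, 73, 75, 76, 77, 78, 80, 81, 82, 83, 84, 85, 88, 90, 91, 93, 94, 95, 97, 98, 99, 100, 102, 103, 104, 105, 106, 108, 109, 110, 111, 112, 114, 115, 116, 117, 119, 120, 121, 123, 124, 126, 128, 129, 130, 131, 132, 133, 134, 135, 136, 137, 138, 139, 140, 141, 142, 143, 144, 145, 146, 147, 148, 149, 150, 151, 152, 153, 154, 155, 156, 157, 158, 159, 160, 161, 162, 163, 164, 165, 166, 167, 168, 169, 170, 171, 172, 173, 174, 175, 176, 177, 178, 179, 180, 181, 182, 183, 184, 185, 186, 187, 188, 189, 190, 191, 192, 193, 194, 195, 196, 197, 198, 199, 200, 201, 202, 203, 204, 205, 206,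 207, 208, 209, 210, 211, 212, 213, 214, 215, 216, 217, 218, 219, 220, 221, 222, 223, 224, 225, 226, 227, 228, 229, 230, 231, 232, 233, 234, 235, 236, 237, 238, 239, 240, 241, 242, 243, 244, 245, 246, 247], [7, 8], [9], [10], [11], [12], [13], [14], [15], [16], [17], [18], [19], [20], [22], [23], [24], [25], [26], [27], [29], [30], [31], [32], [34], [35], [36], [38], [39], [41], [44], [45], [46], [48], [49], [51], [54], [55], [57], [60], [64], [65], [67], [70], [74], [79], [86], [87], [89], [92], [96], [101], [107], [113], [118], [122], [125], [127]]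
theorem rkE8_0F : rkB chevE8 gdE8.T [239] gkE8_0 58 = true := by decide +kernel
theorem rkE8_0 (F : Type*) [Field F] [CharP F 2] : Matrix.rank (((W1 chevE8 F [239] : GL (ChevalleyDatum.Idx chevE8) F) : Matrix (ChevalleyDatum.Idx chevE8) (ChevalleyDatum.Idx chevE8) F) - 1) = 58 := (mgE8 F).rk_of_B (Cs := gkE8_0) (by decide) rkE8_0F
def gkE8_1 : List (List ℕ) := [[3, 4, 5, 6, 7, 86, 87, 88, 89, 90, 91, 92, 93, 94, 95, 96, 97, 98, 99, 100, 113, 114, 115, 116, 117, 118, 119, 120, 121, 122, 123, 124, 125, 126, 127, 128, 129, 130, 131, 132, 133, 134, 135, 136, 137, 138, 139, 140, 141, 142, 155, 156, 157, 158, 159, 160, 161, 162, 163, 164, 165, 166, 167, 168, 169, 170, 171, 172, 173, 174, 175, 176, 177, 178, 179, 180, 181, 182, 183, 184, 185, 186, 187, 188, 189, 190, 191, 192, 193, 194, 195, 196, 197, 198, 199, 200, 201, 202, 203, 204, 205, 206, 207, 208, 209, 210, 211, 212, 213, 214, 215, 216, 217, 218, 219, 220, 221, 222, 223, 224, 225, 226, 227, 228, 229, 230, 231, 232, 233, 234, 235, 236, 237,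 238, 239, 240, 241, 242, 243, 244, 245, 246, 247], [0, 1, 2, 14, 15], [22], [23], [24], [25], [26], [27], [28], [29], [30], [31], [32], [33], [34], [35], [36], [37], [38], [39], [40], [41], [42], [43], [44], [45], [46], [47], [48], [49], [50], [51], [52], [53], [54], [55], [56], [57], [58], [59], [60], [61], [62], [63], [64], [65], [66], [67], [68], [69], [70], [71], [72], [73], [74], [75], [76], [77], [78], [79], [80], [81], [82], [83], [84], [85], [8, 101, 107], [9, 102, 108], [10, 103, 109], [11, 104, 110], [12, 105, 111], [13, 106, 112], [16, 143, 149], [17, 144, 150], [18, 145, 151], [19, 146, 152], [20, 147, 153], [21, 148, 154]]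
theorem rkE8_1F : rkB chevE8 gdE8.T [232, 233] gkE8_1 92 = true := by decide +kernel
theorem rkE8_1 (F : Type*) [Field F] [CharP F 2] : Matrix.rank (((W1 chevE8 F [232, 233] : GL (ChevalleyDatum.Idx chevE8) F) : Matrix (ChevalleyDatum.Idx chevE8) (ChevalleyDatum.Idx chevE8) F) - 1) = 92 := (mgE8 F).rk_of_B (Cs := gkE8_1) (by decide) rkE8_1F
def gkE8_2 : List (List ℕ) := [[1, 3, 7, 43, 53, 59, 72, 76, 81, 95, 99, 105, 106, 110, 117, 127, 128, 129, 130, 132, 133, 136, 137, 138, 141, 142, 145, 147, 148, 149, 150, 153, 154, 156, 158, 159, 160, 162, 163, 165, 166, 169, 174, 175, 176, 179, 180, 181, 183, 184, 185, 189, 190, 191, 196, 197, 198, 199, 200, 201, 202, 203, 204, 205, 206, 207, 208, 209, 210, 211, 212, 213, 214, 215, 216, 217, 218, 219, 220, 221, 222, 223, 224, 225, 226, 227, 228, 229, 230, 231, 232, 233, 234, 235, 236, 237, 238, 239, 240, 241, 242, 243, 244, 245, 246, 247], [20], [21], [27], [28], [0, 2, 4, 5, 6, 19, 25, 29], [32], [33], [36], [37], [39], [40], [41], [42], [46], [47],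 [49], [50], [51], [52], [55], [56], [57], [58], [65], [66], [10, 62, 69], [70], [71], [74], [75], [79], [80], [89], [90], [11, 63, 91], [92], [93], [12, 73, 94], [96], [97], [13, 77, 98], [101], [102], [14, 78, 103], [22, 100, 104], [107], [108], [15, 82, 109], [113], [114], [16, 83, 115], [23, 111, 116], [118], [119], [17, 84, 120], [24, 112, 121], [122], [123], [18, 85, 124], [125], [126], [30, 134, 143], [34, 139, 144], [44, 151, 155], [26, 131, 170], [31, 135, 171], [35, 140, 172], [38, 146, 173], [45, 152, 177], [48, 157, 178], [54, 161, 182], [64, 164, 192], [86, 186, 193], [8, 60, 67, 87, 167, 187, 194], [9, 61, 68, 88, 168, 188, 195]]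
theorem rkE8_2F : rkB chevE8 gdE8.T [228, 222, 218] gkE8_2 110 = true := by decide +kernel
theorem rkE8_2 (F : Type*) [Field F] [CharP F 2] : Matrix.rank (((W1 chevE8 F [228, 222, 218] : GL (ChevalleyDatum.Idx chevE8) F) : Matrix (ChevalleyDatum.Idx chevE8) (ChevalleyDatum.Idx chevE8) F) - 1) = 110 := (mgE8 F).rk_of_B (Cs := gkE8_2) (by decide) rkE8_2F
def gkE8_3 : List (List ℕ) := [[4, 79, 108, 115, 121, 134, 140, 147, 149, 150, 151, 152, 155, 156, 158, 161, 162, 164, 165, 167, 176, 177, 178, 181, 183, 185, 186, 188, 190, 194, 195, 197, 198, 201, 205, 206, 207, 208, 209, 210, 211, 212, 213, 214, 215, 216, 217, 218, 219, 220, 221, 222, 223, 224, 225, 226, 227, 228, 229, 230, 231, 232, 233, 234, 235, 236, 237, 238, 239, 240, 241, 242, 243, 244, 245, 246, 247], [0, 2, 1, 3, 5, 6, 7, 21, 27, 31, 34], [44], [45], [46], [47], [48], [49], [50], [54], [57], [58], [60], [61], [65], [67], [69], [70], [72], [74], [77], [78], [88], [90], [91], [93], [94], [97], [99], [100], [103], [104], [105], [106],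 [15, 80, 107], [16, 81, 113], [23, 109, 114], [17, 82, 118], [24, 110, 119], [29, 116, 120], [18, 83, 122], [25, 111, 123], [30, 117, 124], [19, 84, 125], [26, 112, 126], [20, 85, 127], [35, 131, 138], [38, 135, 139], [32, 129, 143], [36, 132, 144], [39, 136, 145], [41, 141, 146], [8, 51, 55, 64, 153, 157, 160], [28, 128, 170], [33, 130, 171], [37, 133, 172], [40, 137, 173], [42, 142, 174], [43, 148, 175], [9, 52, 56, 86, 154, 179, 182], [10, 53, 66, 87, 159, 180, 192], [11, 59, 68, 89, 163, 184, 193], [12, 62, 71, 92, 166, 187, 196], [13, 63, 75, 96, 168, 189, 202], [14, 73, 76, 101, 169, 199, 203], [22, 95, 98, 102, 191, 200, 204]]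
theorem rkE8_3F : rkB chevE8 gdE8.T [226, 220, 213, 216] gkE8_3 120 = true := by decide +kernel
theorem rkE8_3 (F : Type*) [Field F] [CharP F 2] : Matrix.rank (((W1 chevE8 F [226, 220, 213, 216] : GL (ChevalleyDatum.Idx chevE8) F) : Matrix (ChevalleyDatum.Idx chevE8) (ChevalleyDatum.Idx chevE8) F) - 1) = 120 := (mgE8 F).rk_of_B (Cs := gkE8_3) (by decide) rkE8_3F

end CfsgLib.Chev
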