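import Cfsg.Agent.Lib.ChevIn8
import Cfsg.Agent.Lib.ChevCe2
set_option autoImplicit false
set_option maxRecDepth 1000000
set_option maxHeartbeats 4000000

/-! Involution classes of the Chevalley group of type F4 in characteristic two: kernel checks. -/

namespace CfsgLib.Chev
open Cfsg.Lie

noncomputable def mgF4 (F : Type*) [Field F] : CG chevF4 F := ⟨⟨gdF4, nzF4⟩, commF4 F⟩
theorem ocF4 : ocChk chevF4 = true := by decide +kernel
theorem stF4_0 : stChk chevF4 [] [0, 1, 2, 3] [44, 47] = true := by decide +kernel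
theorem stF4_1 : stChk chevF4 [44] [1, 2, 3] [29, 32] = true := by decide +kernel
theorem stF4_2 : stChk chevF4 [47] [0, 1, 2] [37, 41] = true := by decide +kernel
theorem stF4_3 : stChk chevF4 [44, 29] [1, 2] [28, 30] = true := by decide +kernel
theorem stF4_4 : stChk chevF4 [44, 32] [1, 3] [24, 27] = true := by decide +kernel
theorem stF4_5 : stChk chevF4 [47, 37] [0, 2] [25, 33] = true := by decide +kernel
theorem stF4_6 : stChk chevF4 [47, 41] [1, 2] [28, 30] = true := by decide +kernel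
theorem stF4_7 : stChk chevF4 [44, 29, 28] [1] [27] = true := by decide +kernel
theorem stF4_8 : stChk chevF4 [44, 29, 30] [2] [25] = true := by decide +kernel
theorem stF4_9 : stChk chevF4 [44, 32, 24] [1] [27] = true := by decide +kernel
theorem stF4_10 : stChk chevF4 [44, 32, 27] [3] [24] = true := by decide +kernel
theorem stF4_11 : stChk chevF4 [47, 37, 25] [0] [33] = true := by decide +kernel
theorem stF4_12 : stChk chevF4 [47, 37, 33] [2] [25] = true := by decide +kernel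
theorem stF4_13 : stChk chevF4 [47, 41, 28] [1] [27] = true := by decide +kernel
theorem stF4_14 : stChk chevF4 [47, 41, 30] [2] [25] = true := by decide +kernel
theorem stF4_15 : stChk chevF4 [44, 29, 28, 27] [] [] = true := by decide +kernel
theorem stF4_16 : stChk chevF4 [44, 29, 30, 25] [] [] = true := by decide +kernel
theorem stF4_17 : stChk chevF4 [44, 32, 24, 27] [] [] = true := by decide +kernel
theorem stF4_18 : stChk chevF4 [44, 32, 27, 24] [] [] = true := by decide +kernel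
theorem stF4_19 : stChk chevF4 [47, 37, 25, 33] [] [] = true := by decide +kernel
theorem stF4_20 : stChk chevF4 [47, 37, 33, 25] [] [] = true := by decide +kernel
theorem stF4_21 : stChk chevF4 [47, 41, 28, 27] [] [] = true := by decide +kernel
theorem stF4_22 : stChk chevF4 [47, 41, 30, 25] [] [] = true := by decide +kernel
def stsF4 : List (List ℕ) := [[], [44], [47], [44, 29], [44, 32], [47, 37], [47, 41], [44, 29, 28], [44, 29, 30], [44, 32, 24], [44, 32, 27], [47, 37, 25], [47, 37, 33], [47, 41, 28], [47, 41, 30], [44, 29, 28, 27], [44, 29, 30, 25], [44, 32, 24, 27], [44, 32, 27, 24], [47, 37, 25, 33], [47, 37, 33, 25], [47, 41, 28, 27], [47, 41, 30, 25]]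
def jcF4 : List (List ℕ × List ℕ) := [([0, 1, 2, 3], [44, 47]), ([1, 2, 3], [29, 32]), ([0, 1, 2], [37, 41]), ([1, 2], [28, 30]), ([1, 3], [24, 27]), ([0, 2], [25, 33]), ([1, 2], [28, 30]), ([1], [27]), ([2], [25]), ([1], [27]), ([3], [24]), ([0], [33]), ([2], [25]), ([1], [27]), ([2], [25]), ([], []), ([], []), ([], []), ([], []), ([], []), ([], []), ([], []), ([], [])]

theorem mchF4 (F : Type*) [Field F] : ∀ B ∈ stsF4, ∃ J cands, stChk chevF4 B J cands = true ∧
    ∀ c ∈ cands, Absorb chevF4 F B c ∨ B ++ [c] ∈ stsF4 := by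
  have key : ∀ B J cands, stChk chevF4 B J cands = true → (∀ c ∈ cands, B ++ [c] ∈ stsF4) → ∃ J cands, stChk chevF4 B J cands = true ∧
    ∀ c ∈ cands, Absorb chevF4 F B c ∨ B ++ [c] ∈ stsF4 := fun B J cands h1 h2 => ⟨J, cands, h1, fun c hc => Or.inr (h2 c hc)⟩
  intro B hB
  unfold stsF4 at hB
  simp only [List.mem_cons, List.not_mem_nil, or_false] at hB
  rcases hB with rfl | rfl | rfl | rfl | rfl | rfl | rfl | rfl | rfl | rfl | rfl | rfl | rfl | rfl | rfl | rfl | rfl | rfl | rfl | rfl | rfl | rfl | rfl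
  · exact key _ _ _ stF4_0 (by decide)
  · exact key _ _ _ stF4_1 (by decide)
  · exact key _ _ _ stF4_2 (by decide)
  · exact key _ _ _ stF4_3 (by decide)
  · exact key _ _ _ stF4_4 (by decide)
  · exact key _ _ _ stF4_5 (by decide)
  · exact key _ _ _ stF4_6 (by decide)
  · exact key _ _ _ stF4_7 (by decide)
  · exact key _ _ _ stF4_8 (by decide)
  · exact key _ _ _ stF4_9 (by decide)
  · exact key _ _ _ stF4_10 (by decide)
  · exact key _ _ _ stF4_11 (by decide)
  · exact key _ _ _ stF4_12 (by decide)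
  · exact key _ _ _ stF4_13 (by decide)
  · exact key _ _ _ stF4_14 (by decide)
  · exact key _ _ _ stF4_15 (by decide)
  · exact key _ _ _ stF4_16 (by decide)
  · exact key _ _ _ stF4_17 (by decide)
  · exact key _ _ _ stF4_18 (by decide)
  · exact key _ _ _ stF4_19 (by decide)
  · exact key _ _ _ stF4_20 (by decide)
  · exact key _ _ _ stF4_21 (by decide)
  · exact key _ _ _ stF4_22 (by decide)
theorem cjF4_1F : chainB chevF4 gdF4.T [] [44] [44] = true := by decide +kernel
theorem cjF4_1 (F : Type*) [Field F] [CharP F 2] : Cj chevF4 F [44] [44] := (mgF4 F).cj_of_chain cjF4_1F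
theorem cjF4_2F : chainB chevF4 gdF4.T [] [47] [47] = true := by decide +kernel
theorem cjF4_2 (F : Type*) [Field F] [CharP F 2] : Cj chevF4 F [47] [47] := (mgF4 F).cj_of_chain cjF4_2F
theorem cjF4_3F : chainB chevF4 gdF4.T [(true, 6, [44, 47])] [44, 29] [47, 44] = true := by decide +kernel
theorem cjF4_3 (F : Type*) [Field F] [CharP F 2] : Cj chevF4 F [44, 29] [47, 44] := (mgF4 F).cj_of_chain cjF4_3F
theorem cjF4_4F : chainB chevF4 gdF4.T [(false, 0, [40, 43]), (false, 1, [39, 45])] [44, 32] [39, 45] = true := by decide +kernel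
theorem cjF4_4 (F : Type*) [Field F] [CharP F 2] : Cj chevF4 F [44, 32] [39, 45] := (mgF4 F).cj_of_chain cjF4_4F
theorem cjF4_5F : chainB chevF4 gdF4.T [(false, 3, [46, 38]), (false, 2, [45, 39])] [47, 37] [39, 45] = true := by decide +kernel
theorem cjF4_5 (F : Type*) [Field F] [CharP F 2] : Cj chevF4 F [47, 37] [39, 45] := (mgF4 F).cj_of_chain cjF4_5F
theorem cjF4_6F : chainB chevF4 gdF4.T [(true, 18, [44, 47])] [47, 41] [47, 44] = true := by decide +kernel
theorem cjF4_6 (F : Type*) [Field F] [CharP F 2] : Cj chevF4 F [47, 41] [47, 44] := (mgF4 F).cj_of_chain cjF4_6F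
theorem cjF4_7F : chainB chevF4 gdF4.T [(false, 0, [40, 36, 35]), (false, 1, [39, 38, 37]), (true, 23, [38, 39, 45]), (true, 22, [39, 45, 47]), (true, 26, [39, 45])] [44, 29, 28] [39, 45] = true := by decide +kernel
theorem cjF4_7 (F : Type*) [Field F] [CharP F 2] : Cj chevF4 F [44, 29, 28] [39, 45] := (mgF4 F).cj_of_chain cjF4_7F
theorem cjF4_8F : chainB chevF4 gdF4.T [(false, 3, [44, 28, 31]), (false, 2, [44, 27, 32]), (true, 4, [32, 44, 45]), (true, 13, [39, 40, 44, 45]), (true, 14, [39, 44, 45]), (true, 34, [39, 45])] [44, 29, 30] [39, 45] = true := by decide +kernel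
theorem cjF4_8 (F : Type*) [Field F] [CharP F 2] : Cj chevF4 F [44, 29, 30] [39, 45] := (mgF4 F).cj_of_chain cjF4_8F
theorem cjF4_9F : chainB chevF4 gdF4.T [(false, 0, [40, 43, 24]), (false, 1, [39, 45, 24]), (true, 10, [38, 39, 45]), (true, 22, [39, 45, 47]), (true, 26, [39, 45])] [44, 32, 24] [39, 45] = true := by decide +kernel
theorem cjF4_9 (F : Type*) [Field F] [CharP F 2] : Cj chevF4 F [44, 32, 24] [39, 45] := (mgF4 F).cj_of_chain cjF4_9F
theorem cjF4_10F : chainB chevF4 gdF4.T [(true, 4, [32, 44, 45]), (true, 13, [39, 40, 44, 45]), (true, 14, [39, 44, 45]), (true, 34, [39, 45])] [44, 32, 27] [39, 45] = true := by decide +kernel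
theorem cjF4_10 (F : Type*) [Field F] [CharP F 2] : Cj chevF4 F [44, 32, 27] [39, 45] := (mgF4 F).cj_of_chain cjF4_10F
theorem cjF4_11F : chainB chevF4 gdF4.T [(true, 9, [37, 39, 47]), (true, 21, [39, 45, 46, 47]), (true, 23, [39, 45, 47]), (true, 26, [39, 45])] [47, 37, 25] [39, 45] = true := by decide +kernel
theorem cjF4_11 (F : Type*) [Field F] [CharP F 2] : Cj chevF4 F [47, 37, 25] [39, 45] := (mgF4 F).cj_of_chain cjF4_11F
theorem cjF4_12F : chainB chevF4 gdF4.T [(false, 3, [46, 38, 33]), (false, 2, [45, 39, 33]), (true, 15, [39, 43, 45]), (true, 20, [39, 44, 45]), (true, 34, [39, 45])] [47, 37, 33] [39, 45] = true := by decide +kernel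
theorem cjF4_12 (F : Type*) [Field F] [CharP F 2] : Cj chevF4 F [47, 37, 33] [39, 45] := (mgF4 F).cj_of_chain cjF4_12F
theorem cjF4_13F : chainB chevF4 gdF4.T [(false, 0, [47, 30, 35]), (false, 1, [47, 25, 37]), (true, 9, [37, 39, 47]), (true, 21, [39, 45, 46, 47]), (true, 23, [39, 45, 47]), (true, 26, [39, 45])] [47, 41, 28] [39, 45] = true := by decide +kernel
theorem cjF4_13 (F : Type*) [Field F] [CharP F 2] : Cj chevF4 F [47, 41, 28] [39, 45] := (mgF4 F).cj_of_chain cjF4_13F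
theorem cjF4_14F : chainB chevF4 gdF4.T [(false, 3, [46, 42, 31]), (false, 2, [45, 43, 32]), (true, 14, [39, 43, 45]), (true, 20, [39, 44, 45]), (true, 34, [39, 45])] [47, 41, 30] [39, 45] = true := by decide +kernel
theorem cjF4_14 (F : Type*) [Field F] [CharP F 2] : Cj chevF4 F [47, 41, 30] [39, 45] := (mgF4 F).cj_of_chain cjF4_14F
theorem cjF4_15F : chainB chevF4 gdF4.T [(true, 23, [27, 29, 32, 44]), (true, 6, [27, 32, 44, 47]), (true, 42, [27, 32, 44]), (true, 4, [32, 44, 45]), (true, 13, [39, 40, 44, 45]), (true, 14, [39, 44, 45]), (true, 34, [39, 45])] [44, 29, 28, 27] [39, 45] = true := by decide +kernel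
theorem cjF4_15 (F : Type*) [Field F] [CharP F 2] : Cj chevF4 F [44, 29, 28, 27] [39, 45] := (mgF4 F).cj_of_chain cjF4_15F
theorem cjF4_16F : chainB chevF4 gdF4.T [(true, 27, [25, 28, 29, 44]), (true, 23, [25, 29, 32, 44]), (true, 6, [25, 32, 44, 47]), (true, 38, [25, 32, 39, 44]), (true, 16, [32, 39, 44]), (true, 34, [32, 39, 40, 45]), (true, 13, [39, 45])] [44, 29, 30, 25] [39, 45] = true := by decide +kernel
theorem cjF4_16 (F : Type*) [Field F] [CharP F 2] : Cj chevF4 F [44, 29, 30, 25] [39, 45] := (mgF4 F).cj_of_chain cjF4_16F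
theorem cjF4_17F : chainB chevF4 gdF4.T [(true, 19, [27, 29, 32, 44]), (true, 6, [27, 32, 44, 47]), (true, 42, [27, 32, 44]), (true, 4, [32, 44, 45]), (true, 13, [39, 40, 44, 45]), (true, 14, [39, 44, 45]), (true, 34, [39, 45])] [44, 32, 24, 27] [39, 45] = true := by decide +kernel
theorem cjF4_17 (F : Type*) [Field F] [CharP F 2] : Cj chevF4 F [44, 32, 24, 27] [39, 45] := (mgF4 F).cj_of_chain cjF4_17F
theorem cjF4_18F : chainB chevF4 gdF4.T [(true, 19, [27, 29, 32, 44]), (true, 6, [27, 32, 44, 47]), (true, 42, [27, 32, 44]), (true, 4, [32, 44, 45]), (true, 13, [39, 40, 44, 45]), (true, 14, [39, 44, 45]), (true, 34, [39, 45])] [44, 32, 27, 24] [39, 45] = true := by decide +kernel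
theorem cjF4_18 (F : Type*) [Field F] [CharP F 2] : Cj chevF4 F [44, 32, 27, 24] [39, 45] := (mgF4 F).cj_of_chain cjF4_18F
theorem cjF4_19F : chainB chevF4 gdF4.T [(true, 17, [25, 37, 41, 47]), (true, 18, [25, 37, 44, 47]), (true, 36, [25, 37, 47]), (true, 9, [37, 39, 47]), (true, 21, [39, 45, 46, 47]), (true, 23, [39, 45, 47]), (true, 26, [39, 45])] [47, 37, 25, 33] [39, 45] = true := by decide +kernel
theorem cjF4_19 (F : Type*) [Field F] [CharP F 2] : Cj chevF4 F [47, 37, 25, 33] [39, 45] := (mgF4 F).cj_of_chain cjF4_19F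
theorem cjF4_20F : chainB chevF4 gdF4.T [(true, 17, [25, 37, 41, 47]), (true, 18, [25, 37, 44, 47]), (true, 36, [25, 37, 47]), (true, 9, [37, 39, 47]), (true, 21, [39, 45, 46, 47]), (true, 23, [39, 45, 47]), (true, 26, [39, 45])] [47, 37, 33, 25] [39, 45] = true := by decide +kernel
theorem cjF4_20 (F : Type*) [Field F] [CharP F 2] : Cj chevF4 F [47, 37, 33, 25] [39, 45] := (mgF4 F).cj_of_chain cjF4_20F
theorem cjF4_21F : chainB chevF4 gdF4.T [(true, 25, [27, 30, 41, 47]), (true, 14, [27, 37, 41, 47]), (true, 18, [27, 37, 44, 47]), (true, 43, [27, 37, 45, 47]), (true, 12, [37, 45, 47]), (true, 26, [37, 39, 45, 46]), (true, 21, [39, 45])] [47, 41, 28, 27] [39, 45] = true := by decide +kernel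
theorem cjF4_21 (F : Type*) [Field F] [CharP F 2] : Cj chevF4 F [47, 41, 28, 27] [39, 45] := (mgF4 F).cj_of_chain cjF4_21F
theorem cjF4_22F : chainB chevF4 gdF4.T [(true, 14, [25, 37, 41, 47]), (true, 18, [25, 37, 44, 47]), (true, 36, [25, 37, 47]), (true, 9, [37, 39, 47]), (true, 21, [39, 45, 46, 47]), (true, 23, [39, 45, 47]), (true, 26, [39, 45])] [47, 41, 30, 25] [39, 45] = true := by decide +kernel
theorem cjF4_22 (F : Type*) [Field F] [CharP F 2] : Cj chevF4 F [47, 41, 30, 25] [39, 45] := (mgF4 F).cj_of_chain cjF4_22F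

theorem cjsF4 (F : Type*) [Field F] [CharP F 2] : ∀ S ∈ stsF4, S = [] ∨ ∃ R ∈ ([[47], [44], [47, 44], [39, 45]] : List (List ℕ)), Cj chevF4 F S R := by
  have key : ∀ S R, Cj chevF4 F S R → R ∈ ([[47], [44], [47, 44], [39, 45]] : List (List ℕ)) → S = [] ∨ ∃ R ∈ ([[47], [44], [47, 44], [39, 45]] : List (List ℕ)), Cj chevF4 F S R :=
    fun S R h1 h2 => Or.inr ⟨R, h2, h1⟩
  intro B hB
  unfold stsF4 at hB
  simp only [List.mem_cons, List.not_mem_nil, or_false] at hB
  rcases hB with rfl | rfl | rfl | rfl | rfl | rfl | rfl | rfl | rfl | rfl | rfl | rfl | rfl | rfl | rfl | rfl | rfl | rfl | rfl | rfl | rfl | rfl | rfl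
  · exact Or.inl rfl
  · exact key _ _ (cjF4_1 F) (by decide)
  · exact key _ _ (cjF4_2 F) (by decide)
  · exact key _ _ (cjF4_3 F) (by decide)
  · exact key _ _ (cjF4_4 F) (by decide)
  · exact key _ _ (cjF4_5 F) (by decide)
  · exact key _ _ (cjF4_6 F) (by decide)
  · exact key _ _ (cjF4_7 F) (by decide)
  · exact key _ _ (cjF4_8 F) (by decide)
  · exact key _ _ (cjF4_9 F) (by decide)
  · exact key _ _ (cjF4_10 F) (by decide)
  · exact key _ _ (cjF4_11 F) (by decide)
  · exact key _ _ (cjF4_12 F) (by decide)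
  · exact key _ _ (cjF4_13 F) (by decide)
  · exact key _ _ (cjF4_14 F) (by decide)
  · exact key _ _ (cjF4_15 F) (by decide)
  · exact key _ _ (cjF4_16 F) (by decide)
  · exact key _ _ (cjF4_17 F) (by decide)
  · exact key _ _ (cjF4_18 F) (by decide)
  · exact key _ _ (cjF4_19 F) (by decide)
  · exact key _ _ (cjF4_20 F) (by decide)
  · exact key _ _ (cjF4_21 F) (by decide)
  · exact key _ _ (cjF4_22 F) (by decide)
theorem sqF4_0F : eqW chevF4 gdF4.T [47, 47] [] = true := by decide +kernel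
theorem sqF4_0 (F : Type*) [Field F] [CharP F 2] : W1 chevF4 F [47, 47] = 1 := (mgF4 F).W1_eq_of sqF4_0F
def gkF4_0 : List (List ℕ) := [[0, 1, 2, 10, 14, 16, 17, 18, 21, 23, 24, 26, 28, 29, 30, 31, 32, 33, 34, 35, 36, 37, 38, 39, 40, 41, 42, 43, 44, 45, 46, 47, 48, 49, 50, 51], [3, 4], [5], [6], [7], [8], [9], [11], [12], [13], [15], [19], [20], [22], [25], [27]]
theorem rkF4_0F : rkB chevF4 gdF4.T [47] gkF4_0 16 = true := by decide +kernel
theorem rkF4_0 (F : Type*) [Field F] [CharP F 2] : Matrix.rank (((W1 chevF4 F [47] : GL (ChevalleyDatum.Idx chevF4) F) : Matrix (ChevalleyDatum.Idx chevF4) (ChevalleyDatum.Idx chevF4) F) - 1) = 16 := (mgF4 F).rk_of_B (Cs := gkF4_0) (by decide) rkF4_0F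
theorem sqF4_1F : eqW chevF4 gdF4.T [44, 44] [] = true := by decide +kernel
theorem sqF4_1 (F : Type*) [Field F] [CharP F 2] : W1 chevF4 F [44, 44] = 1 := (mgF4 F).W1_eq_of sqF4_1F
def gkF4_1 : List (List ℕ) := [[1, 2, 3, 19, 20, 21, 22, 23, 24, 25, 26, 27, 28, 29, 30, 31, 32, 33, 34, 35, 36, 37, 38, 39, 40, 41, 42, 43, 44, 45, 46, 47, 48, 49, 50, 51], [4], [5], [6], [0, 7], [8], [9], [10], [11], [12], [13], [14], [15], [16], [17], [18]]
theorem rkF4_1F : rkB chevF4 gdF4.T [44] gkF4_1 16 = true := by decide +kernel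
theorem rkF4_1 (F : Type*) [Field F] [CharP F 2] : Matrix.rank (((W1 chevF4 F [44] : GL (ChevalleyDatum.Idx chevF4) F) : Matrix (ChevalleyDatum.Idx chevF4) (ChevalleyDatum.Idx chevF4) F) - 1) = 16 := (mgF4 F).rk_of_B (Cs := gkF4_1) (by decide) rkF4_1F
theorem sqF4_2F : eqW chevF4 gdF4.T [47, 44, 47, 44] [] = true := by decide +kernel
theorem sqF4_2 (F : Type*) [Field F] [CharP F 2] : W1 chevF4 F [47, 44, 47, 44] = 1 := (mgF4 F).W1_eq_of sqF4_2F
def gkF4_2 : List (List ℕ) := [[1, 2, 21, 23, 24, 26, 28, 29, 30, 31, 32, 33, 34, 35, 36, 37, 38, 39, 40, 41, 42, 43, 44, 45, 46, 47, 48, 49, 50, 51], [11, 14], [12, 16], [13, 17], [15, 18], [5, 19], [6, 20], [3, 0, 4, 7, 10, 22], [8, 25], [9, 27]]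
theorem rkF4_2F : rkB chevF4 gdF4.T [47, 44] gkF4_2 21 = true := by decide +kernel
theorem rkF4_2 (F : Type*) [Field F] [CharP F 2] : Matrix.rank (((W1 chevF4 F [47, 44] : GL (ChevalleyDatum.Idx chevF4) F) : Matrix (ChevalleyDatum.Idx chevF4) (ChevalleyDatum.Idx chevF4) F) - 1) = 21 := (mgF4 F).rk_of_B (Cs := gkF4_2) (by decide) rkF4_2F
theorem sqF4_3F : eqW chevF4 gdF4.T [39, 45, 39, 45] [] = true := by decide +kernel
theorem sqF4_3 (F : Type*) [Field F] [CharP F 2] : W1 chevF4 F [39, 45, 39, 45] = 1 := (mgF4 F).W1_eq_of sqF4_3F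
def gkF4_3 : List (List ℕ) := [[0, 3, 18, 27, 28, 32, 33, 34, 35, 36, 37, 39, 40, 41, 42, 43, 44, 45, 46, 47, 48, 49, 50, 51], [8], [9], [10], [1, 2, 6, 12], [15], [16], [19], [20], [21], [22], [23], [4, 13, 25, 29], [5, 14, 26, 30], [7, 17, 31], [11, 24, 38]]
theorem rkF4_3F : rkB chevF4 gdF4.T [39, 45] gkF4_3 24 = true := by decide +kernel
theorem rkF4_3 (F : Type*) [Field F] [CharP F 2] : Matrix.rank (((W1 chevF4 F [39, 45] : GL (ChevalleyDatum.Idx chevF4) F) : Matrix (ChevalleyDatum.Idx chevF4) (ChevalleyDatum.Idx chevF4) F) - 1) = 24 := (mgF4 F).rk_of_B (Cs := gkF4_3) (by decide) rkF4_3F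

end CfsgLib.Chev
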