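import Cfsg.Agent.Lib.ChevRep1
import Cfsg.Agent.Lib.ChevRep2
import Cfsg.Agent.S1054
set_option autoImplicit false
set_option linter.style.haveILetI false
set_option maxRecDepth 1000000

/-! `D₄(F)` and the commutator subgroup of the orthogonal group of plus type in dimension `8`. -/

namespace CfsgLib.Chev.Rep
open Cfsg.Lie Matrix CfsgLib.Chev CfsgLib.Chev.GA CfsgLib.Chev.Em

section gen
variable {D : ChevalleyDatum} {I : ℕ → SV} {F : Type*} [Field F] {κ : Type} [Fintype κ] [DecidableEq κ] {n : ℕ}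
  {e : κ ≃ Fin n}

theorem center_bot (M : CG D F) : Subgroup.center ↥(D.group F) = ⊥ := by
  rw [eq_bot_iff, ← M.core_bnp, Subgroup.normal_le_normalCore]
  intro z hz
  have h1 := BNP.normalizer_parabolic (P := M.bnp) ∅
  rw [BNP.parabolic_empty] at h1
  rw [← h1, Subgroup.mem_normalizer_iff]
  intro h
  rw [Subgroup.mem_center_iff] at hz
  rw [← hz h, mul_inv_cancel_right]

theorem comm_I {g : GL κ F} (H : Rr D I e g 1) {r : ℕ} (hr : r < D.nroots) :
    (g : Matrix κ κ F) * toM e F (I (D.rank + r)) = toM e F (I (D.rank + r)) * (g : Matrix κ κ F) := by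
  have h := H (Pi.single (Sum.inr ⟨r, hr⟩) 1)
  rw [Units.val_one, Matrix.one_mulVec, Lm_single] at h
  exact h

theorem uniq_of_simple (M : CG D F) [IsSimpleGroup ↥(D.group F)]
    (h1 : ∀ (i : Fin D.rank) (t : F), ∃ g : GL κ F, Rr D I e g (xg D (D.simple i) t))
    (h2 : ∀ (i : Fin D.rank) (t : F), ∃ g : GL κ F, Rr D I e g (xg D (D.neg (D.simple i)) t))
    {x : GL D.Idx F} (hx : x ∈ D.group F) (hx1 : ¬ Rr D I e (1 : GL κ F) x) :
    ∀ g' ∈ D.group F, Rr D I e (1 : GL κ F) g' → g' = 1 := by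
  let S : Subgroup (GL D.Idx F) :=
    { carrier := {g' | ∃ g : GL κ F, Rr D I e g g'}
      one_mem' := ⟨1, Rr.one⟩
      mul_mem' := by
        rintro a b ⟨g, h⟩ ⟨g', h'⟩
        exact ⟨g * g', h.mul h'⟩
      inv_mem' := by
        rintro a ⟨g, h⟩
        exact ⟨g⁻¹, h.inv⟩ }
  have hS : D.group F ≤ S := group_le_of_simple M h1 h2
  let N : Subgroup ↥(D.group F) :=
    { carrier := {g' | Rr D I e (1 : GL κ F) (g' : GL D.Idx F)}
      one_mem' := Rr.one
      mul_mem' := by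
        intro a b ha hb
        have := Rr.mul ha hb
        rw [mul_one] at this
        exact this
      inv_mem' := by
        intro a ha
        have := Rr.inv ha
        rw [inv_one] at this
        exact this }
  haveI hN : N.Normal := by
    constructor
    intro a ha b
    obtain ⟨g, hg⟩ := hS b.2
    have := (hg.mul ha).mul hg.inv
    rw [mul_one, mul_inv_cancel] at this
    exact this
  rcases hN.eq_bot_or_eq_top with h | h
  · intro g' hg' hR
    have h3 : (⟨g', hg'⟩ : ↥(D.group F)) ∈ N := hR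
    rw [h, Subgroup.mem_bot] at h3
    exact congrArg Subtype.val h3
  · exfalso
    have h3 : (⟨x, hx⟩ : ↥(D.group F)) ∈ N := by rw [h]; exact Subgroup.mem_top _
    exact hx1 h3

end gen

namespace D4

def It : List SV := [[(0, 1), (9, -1), (36, -1), (45, 1)], [(9, 1), (18, -1), (45, -1), (54, 1)], [(18, 1), (27, -1), (54, -1), (63, 1)], [(18, 1), (27, 1), (54, -1), (63, -1)], [(33, -1), (40, 1)], [(34, -1), (48, 1)], [(24, 1), (39, -1)], [(35, -1), (56, 1)], [(16, -1), (38, 1)], [(8, 1), (37, -1)], [(42, 1), (49, -1)], [(25, -1), (47, 1)], [(43, 1), (57, -1)], [(17, 1), (46, -1)], [(26, 1), (55, -1)], [(51, -1), (58, 1)], [(23, 1), (30, -1)], [(19, 1), (62, -1)], [(10, 1), (53, -1)], [(15, -1), (29, 1)], [(11, -1), (61, 1)], [(14, -1), (21, 1)], [(1, 1), (44, -1)], [(2, -1), (52, 1)], [(7, 1), (28, -1)], [(3, 1), (60, -1)], [(6, 1), (20, -1)], [(5, 1), (12, -1)]]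
def I (c : ℕ) : SV := It.getD c []
def id8 : SV := [(0, 1), (9, 1), (18, 1), (27, 1), (36, 1), (45, 1), (54, 1), (63, 1)]
def rt (i j : ℕ) : ℕ := (([[0, 23, 22, 20, 0, 18, 19, 21], [23, 0, 17, 15, 5, 0, 14, 16], [22, 17, 0, 12, 4, 9, 0, 13], [20, 15, 12, 0, 2, 7, 10, 0], [0, 5, 4, 2, 0, 0, 1, 3], [18, 0, 9, 7, 0, 0, 6, 8], [19, 14, 0, 10, 1, 6, 0, 11], [21, 16, 13, 0, 3, 8, 11, 0]] : List (List ℕ)).getD i []).getD j 0
def sg (i j : ℕ) : ℤ := (([[1, -1, -1, -1, 1, -1, 1, -1], [1, 1, 1, 1, -1, 1, -1, 1], [1, -1, 1, -1, 1, -1, 1, -1], [1, -1, 1, 1, -1, 1, -1, 1], [1, 1, -1, 1, 1, 1, 1, 1], [1, 1, 1, -1, -1, 1, -1, -1], [-1, 1, 1, 1, -1, 1, 1, 1], [1, -1, 1, 1, -1, 1, -1, 1]] : List (List ℤ)).getD i []).getD j 0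
def ec : Fin 4 ⊕ Fin 4 ≃ Fin 8 := finSumFinEquiv

theorem chk : ∀ r : Fin 24, chkR chevD4 I TD4 8 0 [id8, I (chevD4.rank + r)] r = true := by decide +kernel

theorem tabl : ∀ i j : Fin 4 ⊕ Fin 4, j ≠ pt 4 i → j ≠ i → rt (ec i) (ec j) < 24 ∧ sg (ec i) (ec j) * sg (ec i) (ec j) = 1 ∧
    ∀ a b : Fin 4 ⊕ Fin 4, sg (ec i) (ec j) * coef ((ec a : ℕ) * 8 + (ec b : ℕ)) (I (chevD4.rank + rt (ec i) (ec j))) =
      (if a = j ∧ b = pt 4 i then 1 else 0) - (if a = i ∧ b = pt 4 j then 1 else 0) := by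
  decide +kernel

theorem idt : ∀ a b : Fin 4 ⊕ Fin 4, coef ((ec a : ℕ) * 8 + (ec b : ℕ)) id8 = if a = b then 1 else 0 := by decide +kernel

section main
open CfsgLib.Quad Cfsg
variable {F : Type*} [Field F]

/-- root elements as isometries -/
noncomputable def gI (i j : Fin 4 ⊕ Fin 4) (h : j ≠ pt 4 i) (c : F) : ↥(isometryGroup F ⇑(QP 4 F)) :=
  (isometryGroupEquiv (QP 4 F)).symm (eichO (QP_bv i) (polar_bv_smul h c))

theorem ev_entry {i j : Fin 4 ⊕ Fin 4} (h : j ≠ pt 4 i) (hne : j ≠ i) (c : F) (a b : Fin 4 ⊕ Fin 4) :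
    evM ec (((sg (ec i) (ec j) : ℤ) : F) * c) [id8, I (chevD4.rank + rt (ec i) (ec j))] a b =
      (if a = b then 1 else 0) + c * ((if a = j ∧ b = pt 4 i then 1 else 0) - (if a = i ∧ b = pt 4 j then 1 else 0)) := by
  obtain ⟨_, _, h3⟩ := tabl i j h hne
  have h4 := h3 a b
  rw [evM_apply]
  simp only [ev]
  rw [idt, mul_zero, add_zero]
  have h5 : (((sg (ec i) (ec j) : ℤ) : F)) * ((coef ((ec a : ℕ) * 8 + (ec b : ℕ)) (I (chevD4.rank + rt (ec i) (ec j))) : ℤ) : F) =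
      ((if a = j ∧ b = pt 4 i then (1 : F) else 0) - (if a = i ∧ b = pt 4 j then 1 else 0)) := by
    rw [← Int.cast_mul, h4]
    push_cast
    rfl
  push_cast
  linear_combination c * h5

theorem gI_coe {i j : Fin 4 ⊕ Fin 4} (h : j ≠ pt 4 i) (hne : j ≠ i) (c : F) :
    (((gI i j h c : ↥(isometryGroup F ⇑(QP 4 F))) : GL (Fin 4 ⊕ Fin 4) F) : Matrix (Fin 4 ⊕ Fin 4) (Fin 4 ⊕ Fin 4) F) =
      evM ec (((sg (ec i) (ec j) : ℤ) : F) * c) [id8, I (chevD4.rank + rt (ec i) (ec j))] := by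
  apply coe_isometryGroupEquiv_symm
  intro x
  funext a
  have e1 : ((evM ec (((sg (ec i) (ec j) : ℤ) : F) * c) [id8, I (chevD4.rank + rt (ec i) (ec j))]).mulVec x) a =
      x a + c * ((if a = j then x (pt 4 i) else 0) - (if a = i then x (pt 4 j) else 0)) := by
    rw [Matrix.mulVec, dotProduct]
    simp only [ev_entry h hne]
    simp only [add_mul, mul_sub, sub_mul, Finset.sum_add_distrib, Finset.sum_sub_distrib, ite_and]
    congr 1
    · simp
    · congr 1
      · split_ifs with h1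
        · simp
        · simp
      · split_ifs with h1
        · simp
        · simp
  rw [e1, eichO_apply]
  have e2 : QuadraticMap.polarBilin (QP 4 F) (bv F 4 i) x = x (pt 4 i) := polar_bv i x
  have e3 : QuadraticMap.polarBilin (QP 4 F) (c • bv F 4 j) x = c * x (pt 4 j) := by
    rw [_root_.map_smul, LinearMap.smul_apply, polar_bv, smul_eq_mul]
  have e4 : QP 4 F (c • bv F 4 j) = 0 := by
    rw [CfsgLib.Quad.map_smul, QP_bv, mul_zero]
  rw [e2, e3, e4]
  change _ = x a + (x (pt 4 i) • (c • bv F 4 j)) a + ((-(c * x (pt 4 j)) - 0 * x (pt 4 i)) • bv F 4 i) a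
  rw [Pi.smul_apply, Pi.smul_apply, Pi.smul_apply]
  unfold bv
  rw [Pi.single_apply, Pi.single_apply]
  simp only [smul_eq_mul]
  split_ifs <;> ring

/-- the set of root elements -/
def SS (F : Type*) [Field F] : Set (GL (Fin 4 ⊕ Fin 4) F) :=
  {g | ∃ (i j : Fin 4 ⊕ Fin 4) (h : j ≠ pt 4 i) (_ : j ≠ i) (c : F),
    g = ((gI i j h c : ↥(isometryGroup F ⇑(QP 4 F))) : GL (Fin 4 ⊕ Fin 4) F)}

/-- the commutator subgroup in the general linear group -/
noncomputable def G1 (F : Type*) [Field F] : Subgroup (GL (Fin 4 ⊕ Fin 4) F) :=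
  (Omega F ⇑(QP 4 F)).map (isometryGroup F ⇑(QP 4 F)).subtype

theorem G1_eq : G1 F = Subgroup.closure (SS F) := by
  have hC := commutator_eq_eich (F := F) (m := 4) (by norm_num)
  apply le_antisymm
  · let H : Subgroup (O (QP 4 F)) := ((Subgroup.closure (SS F)).comap (isometryGroup F ⇑(QP 4 F)).subtype).comap
      (isometryGroupEquiv (QP 4 F)).symm.toMonoidHom
    have hH : eichG (QP 4 F) ≤ H := by
      apply eichG_le_of_basis
      intro i j h hne c
      exact Subgroup.subset_closure ⟨i, j, h, hne, c, rfl⟩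
    rintro _ ⟨x, hx, rfl⟩
    have h1 : isometryGroupEquiv (QP 4 F) x ∈ commutator (O (QP 4 F)) :=
      (mem_commutator_congr (isometryGroupEquiv (QP 4 F)) x).mpr hx
    rw [hC] at h1
    have h2 := hH h1
    have h3 : (isometryGroupEquiv (QP 4 F)).symm.toMonoidHom (isometryGroupEquiv (QP 4 F) x) = x :=
      (isometryGroupEquiv (QP 4 F)).symm_apply_apply x
    have h4 : (isometryGroup F ⇑(QP 4 F)).subtype ((isometryGroupEquiv (QP 4 F)).symm.toMonoidHom
      (isometryGroupEquiv (QP 4 F) x)) ∈ Subgroup.closure (SS F) := h2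
    rw [h3] at h4
    exact h4
  · rw [Subgroup.closure_le]
    rintro _ ⟨i, j, h, hne, c, rfl⟩
    refine ⟨gI i j h c, ?_, rfl⟩
    apply (mem_commutator_congr (isometryGroupEquiv (QP 4 F)) _).mp
    rw [hC]
    have : isometryGroupEquiv (QP 4 F) (gI i j h c) = eichO (QP_bv i) (polar_bv_smul h c) :=
      (isometryGroupEquiv (QP 4 F)).apply_symm_apply _
    rw [this]
    exact eichO_mem _ _

theorem z0 : ((0 : ℕ) : F) = 0 := Nat.cast_zero

theorem rel {i j : Fin 4 ⊕ Fin 4} (h : j ≠ pt 4 i) (hne : j ≠ i) (c : F) :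
    Rr chevD4 I ec ((gI i j h c : ↥(isometryGroup F ⇑(QP 4 F))) : GL (Fin 4 ⊕ Fin 4) F)
      (xg chevD4 (rt (ec i) (ec j)) (((sg (ec i) (ec j) : ℤ) : F) * c)) :=
  Rr.gen (cgD4 F) z0 (chk ⟨rt (ec i) (ec j), (tabl i j h hne).1⟩) _ (gI_coe h hne c)

theorem rel' {i j : Fin 4 ⊕ Fin 4} (h : j ≠ pt 4 i) (hne : j ≠ i) {r : ℕ} (hr : rt (ec i) (ec j) = r)
    (hs : sg (ec i) (ec j) = 1) (t : F) :
    ∃ g ∈ SS F, Rr chevD4 I ec g (xg chevD4 r t) := by
  refine ⟨_, ⟨i, j, h, hne, t, rfl⟩, ?_⟩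
  have := rel h hne t
  rw [hr, hs, Int.cast_one, one_mul] at this
  exact this

theorem relS (i : Fin chevD4.rank) (t : F) : ∃ g ∈ SS F, Rr chevD4 I ec g (xg chevD4 (chevD4.simple i) t) := by
  change Fin 4 at i
  fin_cases i
  · exact rel' (i := (Sum.inr 1)) (j := (Sum.inl 0)) (by decide) (by decide) (by decide +kernel) (by decide +kernel) t
  · exact rel' (i := (Sum.inr 2)) (j := (Sum.inl 1)) (by decide) (by decide) (by decide +kernel) (by decide +kernel) t
  · exact rel' (i := (Sum.inr 3)) (j := (Sum.inl 2)) (by decide) (by decide) (by decide +kernel) (by decide +kernel) t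
  · exact rel' (i := (Sum.inl 3)) (j := (Sum.inl 2)) (by decide) (by decide) (by decide +kernel) (by decide +kernel) t

theorem relN (i : Fin chevD4.rank) (t : F) : ∃ g ∈ SS F, Rr chevD4 I ec g (xg chevD4 (chevD4.neg (chevD4.simple i)) t) := by
  change Fin 4 at i
  fin_cases i
  · exact rel' (i := (Sum.inr 0)) (j := (Sum.inl 1)) (by decide) (by decide) (by decide +kernel) (by decide +kernel) t
  · exact rel' (i := (Sum.inr 1)) (j := (Sum.inl 2)) (by decide) (by decide) (by decide +kernel) (by decide +kernel) t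
  · exact rel' (i := (Sum.inr 2)) (j := (Sum.inl 3)) (by decide) (by decide) (by decide +kernel) (by decide +kernel) t
  · exact rel' (i := (Sum.inr 2)) (j := (Sum.inr 3)) (by decide) (by decide) (by decide +kernel) (by decide +kernel) t

theorem e1 (t : F) (r : ℕ) : evM ec t [id8, I r] = 1 + t • toM ec F (I r) := by
  have e2 : toM ec F id8 = 1 := by
    ext a b
    change ((coef ((ec a : ℕ) * 8 + (ec b : ℕ)) id8 : ℤ) : F) = _
    rw [idt, Matrix.one_apply]
    push_cast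
    rfl
  simp [evM, e2]

theorem cc : coef 0 (mulS 8 (I 22) (I 9)) * coef 0 (mulS 8 (I 22) (I 9)) = 1 ∧ coef 0 (mulS 8 (I 9) (I 22)) = 0 := by
  decide +kernel

theorem not_rel : ¬ Rr chevD4 I ec (1 : GL (Fin 4 ⊕ Fin 4) F) (xg chevD4 18 1) := by
  intro H
  have h : (Sum.inl 0 : Fin 4 ⊕ Fin 4) ≠ pt 4 (Sum.inr 1) := by decide
  have hne : (Sum.inl 0 : Fin 4 ⊕ Fin 4) ≠ Sum.inr 1 := by decide
  have e18 : rt (ec (Sum.inr 1)) (ec (Sum.inl 0)) = 18 ∧ sg (ec (Sum.inr 1)) (ec (Sum.inl 0)) = 1 := by decide +kernel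
  have hR := rel h hne (1 : F)
  have hC := gI_coe h hne (1 : F)
  rw [e18.1, e18.2, Int.cast_one, one_mul] at hR hC
  have h1 := H.inv.mul hR
  rw [inv_one, one_mul, inv_mul_cancel] at h1
  have h2 := comm_I h1 (r := 5) (by decide +kernel)
  rw [hC, e1, one_smul, Matrix.add_mul, Matrix.mul_add, Matrix.one_mul, Matrix.mul_one] at h2
  have h3 := add_left_cancel h2
  have h4 : toM ec F (mulS 8 (I 22) (I 9)) = toM ec F (mulS 8 (I 9) (I 22)) := by
    rw [toM_mulS, toM_mulS]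
    exact h3
  have h5 := congrFun (congrFun h4 (Sum.inl 0)) (Sum.inl 0)
  have h6 : ((coef 0 (mulS 8 (I 22) (I 9)) : ℤ) : F) = ((coef 0 (mulS 8 (I 9) (I 22)) : ℤ) : F) := h5
  rw [cc.2, Int.cast_zero] at h6
  have h7 : (((coef 0 (mulS 8 (I 22) (I 9)) * coef 0 (mulS 8 (I 22) (I 9)) : ℤ)) : F) = 0 := by
    rw [Int.cast_mul, h6, mul_zero]
  rw [cc.1, Int.cast_one] at h7
  exact one_ne_zero h7

theorem iso : Nonempty (G1 F ⧸ Subgroup.center (G1 F) ≃* ↥(chevD4.group F)) := by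
  haveI := (Cfsg.Agent.S1054.result (F := F) chevD4 (by simp)).1
  refine iso_rep (e := ec) (I := I) (cgD4 F) (center_bot (cgD4 F)) ?_ (G1 F) (SS F) G1_eq ?_ ?_ relS relN
  · exact uniq_of_simple (cgD4 F) (fun i t => (relS i t).imp fun g h => h.2) (fun i t => (relN i t).imp fun g h => h.2)
      ((cgD4 F).xg_mem_G 18 1) not_rel
  · rintro _ ⟨i, j, h, hne, c, rfl⟩
    exact ⟨_, (cgD4 F).xg_mem_G _ _, rel h hne c⟩
  · rintro g hg hR _ ⟨i, j, h, hne, c, rfl⟩
    apply Units.ext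
    rw [Units.val_mul, Units.val_mul, gI_coe h hne]
    have h1 := comm_I hR (tabl i j h hne).1
    rw [e1, Matrix.mul_add, Matrix.add_mul, Matrix.mul_smul, Matrix.smul_mul, h1, Matrix.one_mul, Matrix.mul_one]

end main

end D4

end CfsgLib.Chev.Rep
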