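import Cfsg.Agent.Lib.ChevRep3
import Cfsg.Agent.Lib.ChevRep6
set_option autoImplicit false
set_option linter.style.haveILetI false
set_option maxRecDepth 1000000

/-! `B₂(F)` and the commutator subgroup of the orthogonal group in dimension `5`. -/

namespace CfsgLib.Chev.Rep
open Cfsg.Lie Matrix CfsgLib.Chev CfsgLib.Chev.GA CfsgLib.Chev.Em

namespace B2

def It : List SV := [[(12, 2), (24, -2)], [(6, 1), (12, -1), (18, -1), (24, 1)], [(17, -1), (21, 1)], [(1, -1), (15, 2)], [(2, -1), (20, 2)], [(11, 1), (19, -1)], [(7, 1), (23, -1)], [(4, 1), (10, -2)], [(3, 1), (5, -2)], [(9, 1), (13, -1)]]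
def I (c : ℕ) : SV := It.getD c []
def P2 (r : ℕ) : SV := ([[], [(16, -1)], [(22, -1)], [], [], [(14, -1)], [(8, -1)], []] : List SV).getD r []
def id5 : SV := [(0, 1), (6, 1), (12, 1), (18, 1), (24, 1)]
def rt (i j : ℕ) : ℕ := (([[0, 0, 0, 0, 0], [6, 0, 7, 0, 4], [5, 7, 0, 3, 0], [1, 0, 3, 0, 0], [2, 4, 0, 0, 0]] : List (List ℕ)).getD i []).getD j 0
def sg (i j : ℕ) : ℤ := (([[1, 1, 1, 1, 1], [1, 1, -1, 1, -1], [1, 1, 1, -1, 1], [-1, 1, 1, 1, 1], [-1, 1, 1, -1, 1]] : List (List ℤ)).getD i []).getD j 0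
def p2s (r : ℕ) : ℤ := ([0, 1, -1, 0, 0, -1, 1, 0] : List ℤ).getD r 0
def p2x (r : ℕ) : ℕ := ([0, 0, 0, 0, 0, 3, 4, 0] : List ℕ).getD r 0
def p2y (r : ℕ) : ℕ := ([0, 3, 4, 0, 0, 7, 7, 0] : List ℕ).getD r 0

abbrev K5 := Unit ⊕ (Fin 2 ⊕ Fin 2)

def ec : K5 ≃ Fin 5 where
  toFun := Sum.elim (fun _ => 0) (Sum.elim (fun i => ⟨1 + i, by omega⟩) (fun i => ⟨3 + i, by omega⟩))
  invFun := ![Sum.inl (), Sum.inr (Sum.inl 0), Sum.inr (Sum.inl 1), Sum.inr (Sum.inr 0), Sum.inr (Sum.inr 1)]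
  left_inv := by decide
  right_inv := by decide

def pa : K5 → K5 := Sum.elim Sum.inl (fun j => Sum.inr (pt 2 j))
def cf : K5 → ℤ := Sum.elim (fun _ => 2) (fun _ => 1)
def qf : K5 → ℤ := Sum.elim (fun _ => 1) (fun _ => 0)

theorem chk : ∀ r : Fin 8, chkR chevB2 I TB2 5 0 [id5, I (chevB2.rank + r), P2 r] r = true := by decide +kernel

theorem tabl : ∀ (i : Fin 2 ⊕ Fin 2) (a : K5), a ≠ Sum.inr (pt 2 i) → a ≠ Sum.inr i →
    rt (ec (Sum.inr i)) (ec a) < 8 ∧ sg (ec (Sum.inr i)) (ec a) * sg (ec (Sum.inr i)) (ec a) = 1 ∧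
    (∀ p q : K5, sg (ec (Sum.inr i)) (ec a) * coef ((ec p : ℕ) * 5 + (ec q : ℕ)) (I (chevB2.rank + rt (ec (Sum.inr i)) (ec a))) =
      (if p = a ∧ q = Sum.inr (pt 2 i) then 1 else 0) - (if p = Sum.inr i ∧ q = pa a then cf a else 0)) ∧
    (∀ p q : K5, coef ((ec p : ℕ) * 5 + (ec q : ℕ)) (P2 (rt (ec (Sum.inr i)) (ec a))) =
      - (if p = Sum.inr i ∧ q = Sum.inr (pt 2 i) then qf a else 0)) := by
  decide +kernel

theorem idt : ∀ a b : K5, coef ((ec a : ℕ) * 5 + (ec b : ℕ)) id5 = if a = b then 1 else 0 := by decide +kernel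

theorem p2t : ∀ r : Fin 8, p2x r < 8 ∧ p2y r < 8 ∧ ∀ p q : K5, coef ((ec p : ℕ) * 5 + (ec q : ℕ)) (P2 r) =
    p2s r * coef ((ec p : ℕ) * 5 + (ec q : ℕ)) (mulS 5 (I (chevB2.rank + p2x r)) (I (chevB2.rank + p2y r))) := by
  decide +kernel

section main
open CfsgLib.Quad Cfsg CfsgLib.Chev.Rep.Od
variable {F : Type*} [Field F]

/-- root elements as isometries -/
noncomputable def gI (i : Fin 2 ⊕ Fin 2) (a : K5) (h : a ≠ Sum.inr (pt 2 i)) (c : F) : ↥(isometryGroup F ⇑(QO 2 F)) :=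
  (isometryGroupEquiv (QO 2 F)).symm (eichO (QO_bi i) (polar_smul h c))

theorem ev_entry {i : Fin 2 ⊕ Fin 2} {j : K5} (h : j ≠ Sum.inr (pt 2 i)) (hne : j ≠ Sum.inr i) (c : F) (a b : K5) :
    evM ec (((sg (ec (Sum.inr i)) (ec j) : ℤ) : F) * c) [id5, I (chevB2.rank + rt (ec (Sum.inr i)) (ec j)), P2 (rt (ec (Sum.inr i)) (ec j))] a b =
      (if a = b then 1 else 0) + c * ((if a = j ∧ b = Sum.inr (pt 2 i) then 1 else 0) - (if a = Sum.inr i ∧ b = pa j then ((cf j : ℤ) : F) else 0)) -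
        c ^ 2 * (if a = Sum.inr i ∧ b = Sum.inr (pt 2 i) then ((qf j : ℤ) : F) else 0) := by
  obtain ⟨_, h2, h3, h4⟩ := tabl i j h hne
  have h3' := h3 a b
  have h4' := h4 a b
  rw [evM_apply]
  simp only [ev]
  rw [idt, h4', mul_zero, add_zero]
  have h5 : (((sg (ec (Sum.inr i)) (ec j) : ℤ) : F)) * ((coef ((ec a : ℕ) * 5 + (ec b : ℕ)) (I (chevB2.rank + rt (ec (Sum.inr i)) (ec j))) : ℤ) : F) =
      ((if a = j ∧ b = Sum.inr (pt 2 i) then (1 : F) else 0) - (if a = Sum.inr i ∧ b = pa j then ((cf j : ℤ) : F) else 0)) := by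
    rw [← Int.cast_mul, h3']
    push_cast
    rfl
  have h6 : (((sg (ec (Sum.inr i)) (ec j) : ℤ) : F)) * ((sg (ec (Sum.inr i)) (ec j) : ℤ) : F) = 1 := by
    rw [← Int.cast_mul, h2, Int.cast_one]
  push_cast
  linear_combination c * h5 - c ^ 2 * (if a = Sum.inr i ∧ b = Sum.inr (pt 2 i) then ((qf j : ℤ) : F) else 0) * h6

theorem polar_ba (a : K5) (x : K5 → F) : QuadraticMap.polarBilin (QO 2 F) (ba F 2 a) x = (cf a : F) * x (pa a) := by
  rcases a with ⟨⟩ | a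
  · rw [polar_v0]; simp [cf, pa]
  · rw [polar_bi]; simp [cf, pa]

theorem QO_ba (a : K5) : QO 2 F (ba F 2 a) = (qf a : F) := by
  rcases a with ⟨⟩ | a
  · rw [QO_v0]; simp [qf]
  · rw [QO_bi]; simp [qf]

theorem gI_coe {i : Fin 2 ⊕ Fin 2} {j : K5} (h : j ≠ Sum.inr (pt 2 i)) (hne : j ≠ Sum.inr i) (c : F) :
    (((gI i j h c : ↥(isometryGroup F ⇑(QO 2 F))) : GL K5 F) : Matrix K5 K5 F) =
      evM ec (((sg (ec (Sum.inr i)) (ec j) : ℤ) : F) * c) [id5, I (chevB2.rank + rt (ec (Sum.inr i)) (ec j)), P2 (rt (ec (Sum.inr i)) (ec j))] := by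
  apply coe_isometryGroupEquiv_symm
  intro x
  funext a
  have e1 : ((evM ec (((sg (ec (Sum.inr i)) (ec j) : ℤ) : F) * c) [id5, I (chevB2.rank + rt (ec (Sum.inr i)) (ec j)), P2 (rt (ec (Sum.inr i)) (ec j))]).mulVec x) a =
      x a + c * ((if a = j then x (Sum.inr (pt 2 i)) else 0) - (if a = Sum.inr i then ((cf j : ℤ) : F) * x (pa j) else 0)) -
        c ^ 2 * (if a = Sum.inr i then ((qf j : ℤ) : F) * x (Sum.inr (pt 2 i)) else 0) := by
    rw [Matrix.mulVec, dotProduct]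
    simp only [ev_entry h hne]
    simp only [add_mul, mul_sub, sub_mul, Finset.sum_add_distrib, Finset.sum_sub_distrib, ite_and]
    congr 1
    · congr 1
      · simp
      · congr 1
        · split_ifs with h1
          · simp
          · simp
        · split_ifs with h1
          · simp [mul_assoc]
          · simp
    · split_ifs with h1
      · simp [mul_assoc]
      · simp
  rw [e1, eichO_apply]
  have e2 : QuadraticMap.polarBilin (QO 2 F) (ba F 2 (Sum.inr i)) x = x (Sum.inr (pt 2 i)) := polar_bi i x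
  have e3 : QuadraticMap.polarBilin (QO 2 F) (c • ba F 2 j) x = c * ((cf j : F) * x (pa j)) := by
    rw [_root_.map_smul, LinearMap.smul_apply, polar_ba, smul_eq_mul]
  have e4 : QO 2 F (c • ba F 2 j) = c ^ 2 * (qf j : F) := by
    rw [CfsgLib.Quad.map_smul, QO_ba]
  rw [e2, e3, e4]
  change _ = x a + (x (Sum.inr (pt 2 i)) • (c • ba F 2 j)) a + ((-(c * ((cf j : F) * x (pa j))) - c ^ 2 * (qf j : F) * x (Sum.inr (pt 2 i))) • ba F 2 (Sum.inr i)) a
  rw [Pi.smul_apply, Pi.smul_apply, Pi.smul_apply]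
  unfold ba
  rw [Pi.single_apply, Pi.single_apply]
  simp only [smul_eq_mul]
  split_ifs <;> ring

/-- the set of root elements -/
def SS (F : Type*) [Field F] : Set (GL K5 F) :=
  {g | ∃ (i : Fin 2 ⊕ Fin 2) (j : K5) (h : j ≠ Sum.inr (pt 2 i)) (_ : j ≠ Sum.inr i) (c : F),
    g = ((gI i j h c : ↥(isometryGroup F ⇑(QO 2 F))) : GL K5 F)}

/-- the commutator subgroup in the general linear group -/
noncomputable def G1 (F : Type*) [Field F] : Subgroup (GL K5 F) :=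
  (Omega F ⇑(QO 2 F)).map (isometryGroup F ⇑(QO 2 F)).subtype

theorem G1_eq (hF : ∃ s : F, s ≠ 0 ∧ s ≠ 1) : G1 F = Subgroup.closure (SS F) := by
  have hC := commutator_eq hF
  apply le_antisymm
  · let H : Subgroup (O (QO 2 F)) := ((Subgroup.closure (SS F)).comap (isometryGroup F ⇑(QO 2 F)).subtype).comap
      (isometryGroupEquiv (QO 2 F)).symm.toMonoidHom
    have hH : eichG (QO 2 F) ≤ H := by
      apply Od.eichG_le_of_basis
      intro i j h hne c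
      exact Subgroup.subset_closure ⟨i, j, h, hne, c, rfl⟩
    rintro _ ⟨x, hx, rfl⟩
    have h1 : isometryGroupEquiv (QO 2 F) x ∈ commutator (O (QO 2 F)) :=
      (mem_commutator_congr (isometryGroupEquiv (QO 2 F)) x).mpr hx
    rw [hC] at h1
    have h2 := hH h1
    have h3 : (isometryGroupEquiv (QO 2 F)).symm.toMonoidHom (isometryGroupEquiv (QO 2 F) x) = x :=
      (isometryGroupEquiv (QO 2 F)).symm_apply_apply x
    have h4 : (isometryGroup F ⇑(QO 2 F)).subtype ((isometryGroupEquiv (QO 2 F)).symm.toMonoidHom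
      (isometryGroupEquiv (QO 2 F) x)) ∈ Subgroup.closure (SS F) := h2
    rw [h3] at h4
    exact h4
  · rw [Subgroup.closure_le]
    rintro _ ⟨i, j, h, hne, c, rfl⟩
    refine ⟨gI i j h c, ?_, rfl⟩
    apply (mem_commutator_congr (isometryGroupEquiv (QO 2 F)) _).mp
    rw [hC]
    have : isometryGroupEquiv (QO 2 F) (gI i j h c) = eichO (QO_bi i) (polar_smul h c) :=
      (isometryGroupEquiv (QO 2 F)).apply_symm_apply _
    rw [this]
    exact eichO_mem _ _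

theorem z0 : ((0 : ℕ) : F) = 0 := Nat.cast_zero

theorem rel {i : Fin 2 ⊕ Fin 2} {j : K5} (h : j ≠ Sum.inr (pt 2 i)) (hne : j ≠ Sum.inr i) (c : F) :
    Rr chevB2 I ec ((gI i j h c : ↥(isometryGroup F ⇑(QO 2 F))) : GL K5 F)
      (xg chevB2 (rt (ec (Sum.inr i)) (ec j)) (((sg (ec (Sum.inr i)) (ec j) : ℤ) : F) * c)) :=
  Rr.gen (cgB2 F) z0 (chk ⟨rt (ec (Sum.inr i)) (ec j), (tabl i j h hne).1⟩) _ (gI_coe h hne c)

theorem rel' {i : Fin 2 ⊕ Fin 2} {j : K5} (h : j ≠ Sum.inr (pt 2 i)) (hne : j ≠ Sum.inr i) {r : ℕ}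
    (hr : rt (ec (Sum.inr i)) (ec j) = r) (t : F) :
    ∃ g ∈ SS F, Rr chevB2 I ec g (xg chevB2 r t) := by
  refine ⟨_, ⟨i, j, h, hne, ((sg (ec (Sum.inr i)) (ec j) : ℤ) : F) * t, rfl⟩, ?_⟩
  have := rel h hne (((sg (ec (Sum.inr i)) (ec j) : ℤ) : F) * t)
  rw [← mul_assoc, ← Int.cast_mul, (tabl i j h hne).2.1, Int.cast_one, one_mul, hr] at this
  exact this

theorem relS (i : Fin chevB2.rank) (t : F) : ∃ g ∈ SS F, Rr chevB2 I ec g (xg chevB2 (chevB2.simple i) t) := by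
  change Fin 2 at i
  fin_cases i
  · exact rel' (i := (Sum.inl 1)) (j := (Sum.inl ())) (by decide) (by decide) (by decide +kernel) t
  · exact rel' (i := (Sum.inr 1)) (j := (Sum.inr (Sum.inl 0))) (by decide) (by decide) (by decide +kernel) t

theorem relN (i : Fin chevB2.rank) (t : F) : ∃ g ∈ SS F, Rr chevB2 I ec g (xg chevB2 (chevB2.neg (chevB2.simple i)) t) := by
  change Fin 2 at i
  fin_cases i
  · exact rel' (i := (Sum.inr 1)) (j := (Sum.inl ())) (by decide) (by decide) (by decide +kernel) t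
  · exact rel' (i := (Sum.inr 0)) (j := (Sum.inr (Sum.inl 1))) (by decide) (by decide) (by decide +kernel) t

theorem e1 (t : F) (r s : ℕ) : evM ec t [id5, I r, P2 s] = 1 + t • (toM ec F (I r) + t • toM ec F (P2 s)) := by
  have e2 : toM ec F id5 = 1 := by
    ext a b
    change ((coef ((ec a : ℕ) * 5 + (ec b : ℕ)) id5 : ℤ) : F) = _
    rw [idt, Matrix.one_apply]
    push_cast
    rfl
  simp [evM, e2]

theorem comm_P2 {g : GL K5 F} (H : Rr chevB2 I ec g 1) {r : ℕ} (hr : r < 8) :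
    (g : Matrix K5 K5 F) * toM ec F (P2 r) = toM ec F (P2 r) * (g : Matrix K5 K5 F) := by
  obtain ⟨h1, h2, h3⟩ := p2t ⟨r, hr⟩
  have e : toM ec F (P2 r) = ((p2s r : ℤ) : F) • (toM ec F (I (chevB2.rank + p2x r)) * toM ec F (I (chevB2.rank + p2y r))) := by
    rw [← toM_mulS]
    ext p q
    have := h3 p q
    rw [Matrix.smul_apply, smul_eq_mul]
    change ((coef ((ec p : ℕ) * 5 + (ec q : ℕ)) (P2 r) : ℤ) : F) = _ * ((coef ((ec p : ℕ) * 5 + (ec q : ℕ)) _ : ℤ) : F)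
    rw [this, Int.cast_mul]
  have c1 := comm_I H (r := p2x r) h1
  have c2 := comm_I H (r := p2y r) h2
  rw [e, Matrix.mul_smul, Matrix.smul_mul, ← Matrix.mul_assoc, c1, Matrix.mul_assoc, c2, Matrix.mul_assoc]

theorem cc : coef 6 (mulS 5 (I 6) (I 5)) * coef 6 (mulS 5 (I 6) (I 5)) = 1 ∧ coef 6 (mulS 5 (I 5) (I 6)) = 0 := by
  decide +kernel

theorem not_rel : ¬ Rr chevB2 I ec (1 : GL K5 F) (xg chevB2 4 1) := by
  intro H
  have h : (Sum.inr (Sum.inl 0) : K5) ≠ Sum.inr (pt 2 (Sum.inr 1)) := by decide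
  have hne : (Sum.inr (Sum.inl 0) : K5) ≠ Sum.inr (Sum.inr 1) := by decide
  have e18 : rt (ec (Sum.inr (Sum.inr 1))) (ec (Sum.inr (Sum.inl 0))) = 4 ∧ sg (ec (Sum.inr (Sum.inr 1))) (ec (Sum.inr (Sum.inl 0))) = 1 := by decide +kernel
  have hR := rel h hne (1 : F)
  have hC := gI_coe h hne (1 : F)
  rw [e18.1, e18.2, Int.cast_one, one_mul] at hR hC
  have h1 := H.inv.mul hR
  rw [inv_one, one_mul, inv_mul_cancel] at h1
  have h2 := comm_I h1 (r := 3) (by decide +kernel)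
  have hP : toM ec F (P2 4) = 0 := toM_nil ec
  rw [hC, e1, one_smul, hP, smul_zero, add_zero, Matrix.add_mul, Matrix.mul_add, Matrix.one_mul, Matrix.mul_one] at h2
  have h3 := add_left_cancel h2
  have h4 : toM ec F (mulS 5 (I 6) (I 5)) = toM ec F (mulS 5 (I 5) (I 6)) := by
    rw [toM_mulS, toM_mulS]
    exact h3
  have h5 := congrFun (congrFun h4 (Sum.inr (Sum.inl 0))) (Sum.inr (Sum.inl 0))
  have h6 : ((coef 6 (mulS 5 (I 6) (I 5)) : ℤ) : F) = ((coef 6 (mulS 5 (I 5) (I 6)) : ℤ) : F) := h5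
  rw [cc.2, Int.cast_zero] at h6
  have h7 : (((coef 6 (mulS 5 (I 6) (I 5)) * coef 6 (mulS 5 (I 6) (I 5)) : ℤ)) : F) = 0 := by
    rw [Int.cast_mul, h6, mul_zero]
  rw [cc.1, Int.cast_one] at h7
  exact one_ne_zero h7

theorem iso (hF : ∃ s : F, s ≠ 0 ∧ s ≠ 1) : Nonempty (G1 F ⧸ Subgroup.center (G1 F) ≃* ↥(chevB2.group F)) := by
  haveI := (simple_all (F := F) (D := chevB2) (by simp) (fun _ => hF)).1
  refine iso_rep (e := ec) (I := I) (cgB2 F) (center_bot (cgB2 F)) ?_ (G1 F) (SS F) (G1_eq hF) ?_ ?_ relS relN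
  · exact uniq_of_simple (cgB2 F) (fun i t => (relS i t).imp fun g h => h.2) (fun i t => (relN i t).imp fun g h => h.2)
      ((cgB2 F).xg_mem_G 4 1) not_rel
  · rintro _ ⟨i, j, h, hne, c, rfl⟩
    exact ⟨_, (cgB2 F).xg_mem_G _ _, rel h hne c⟩
  · rintro g hg hR _ ⟨i, j, h, hne, c, rfl⟩
    apply Units.ext
    rw [Units.val_mul, Units.val_mul, gI_coe h hne]
    have h1 := comm_I hR (tabl i j h hne).1
    have h2 := comm_P2 hR (tabl i j h hne).1
    rw [e1, Matrix.mul_add, Matrix.add_mul, Matrix.mul_smul, Matrix.smul_mul, Matrix.mul_add, Matrix.add_mul, Matrix.mul_smul,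
      Matrix.smul_mul, h1, h2, Matrix.one_mul, Matrix.mul_one]

end main

end B2

end CfsgLib.Chev.Rep
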