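import Mathlib
import Cfsg.Agent.Lib.Chev1
set_option autoImplicit false
set_option linter.style.haveILetI false
set_option linter.unusedSectionVars false

/-! Rank of a family of bit vectors over a field of characteristic two, by kernel computation. -/

namespace CfsgLib.Chev

/-- bit test with kernel-accelerated operations -/
def tb (x n : ℕ) : Bool := Nat.beq (Nat.land (Nat.shiftRight x n) 1) 1

theorem tb_eq (x n : ℕ) : tb x n = x.testBit n := by
  unfold tb Nat.testBit
  have h1 : Nat.land (Nat.shiftRight x n) 1 = (x >>> n) % 2 := by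
    change (x >>> n) &&& 1 = _
    exact Nat.and_one_is_mod _
  have h2 : 1 &&& (x >>> n) = (x >>> n) % 2 := by rw [Nat.land_comm]; exact Nat.and_one_is_mod _
  rw [h1, h2]
  rcases Nat.mod_two_eq_zero_or_one (x >>> n) with h | h <;> rw [h] <;> rfl

/-- reduction modulo a triangular family -/
noncomputable def red (B : List (ℕ × ℕ)) (m : ℕ) : ℕ :=
  List.rec (motive := fun _ => ℕ) m (fun p _ ih => force ih fun x => Bool.rec (motive := fun _ => ℕ) x (Nat.xor x p.2) (tb x p.1)) B

theorem red_nil (m : ℕ) : red [] m = m := rfl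
theorem red_cons (p : ℕ × ℕ) (B : List (ℕ × ℕ)) (m : ℕ) :
    red (p :: B) m = if (red B m).testBit p.1 then red B m ^^^ p.2 else red B m := by
  change force (red B m) (fun x => Bool.rec (motive := fun _ => ℕ) x (Nat.xor x p.2) (tb x p.1)) = _
  rw [force_eq, tb_eq]
  cases (red B m).testBit p.1 <;> rfl

/-- elimination -/
noncomputable def echC (L : List ℕ) : List (ℕ × ℕ) → List (ℕ × ℕ) :=
  List.rec (motive := fun _ => List (ℕ × ℕ) → List (ℕ × ℕ)) (fun B => B)
    (fun m _ ih B => force (red B m) fun x => Nat.rec (motive := fun _ => List (ℕ × ℕ)) (ih B)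
      (fun _ _ => force (Nat.log2 x) fun h => ih ((h, x) :: B)) x) L

theorem echC_nil (B : List (ℕ × ℕ)) : echC [] B = B := rfl
theorem echC_cons (m : ℕ) (L : List ℕ) (B : List (ℕ × ℕ)) :
    echC (m :: L) B = if red B m = 0 then echC L B else echC L (((red B m).log2, red B m) :: B) := by
  change force (red B m) (fun x => Nat.rec (motive := fun _ => List (ℕ × ℕ)) (echC L B)
      (fun _ _ => force (Nat.log2 x) fun h => echC L ((h, x) :: B)) x) = _
  rw [force_eq]
  generalize red B m = x
  cases x with
  | zero => rfl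
  | succ n =>
    rw [if_neg (Nat.succ_ne_zero n)]
    change force (Nat.log2 (n + 1)) (fun h => echC L ((h, n + 1) :: B)) = _
    rw [force_eq]

section
variable {ι : Type*} (e : ι → ℕ) (F : Type*) [Field F]

/-- the vector of a bit mask -/
def bv (m : ℕ) : ι → F := fun i => if m.testBit (e i) then 1 else 0

theorem bv_zero : bv e F 0 = 0 := by
  ext i; simp [bv]

theorem bv_xor [CharP F 2] (a b : ℕ) : bv e F (a ^^^ b) = bv e F a + bv e F b := by
  ext i
  unfold bv
  rw [Pi.add_apply, Nat.testBit_xor]
  cases a.testBit (e i) <;> cases b.testBit (e i) <;> simp [CharTwo.add_self_eq_zero]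

/-- triangularity -/
def Tri : List (ℕ × ℕ) → Prop
  | [] => True
  | p :: B => p.2.testBit p.1 = true ∧ (∀ q ∈ B, p.2.testBit q.1 = false) ∧ Tri B

theorem red_pivot {B : List (ℕ × ℕ)} (hB : Tri B) (m : ℕ) : ∀ q ∈ B, (red B m).testBit q.1 = false := by
  induction B with
  | nil => intro q hq; simp at hq
  | cons p B ih =>
    obtain ⟨h1, h2, h3⟩ := hB
    intro q hq
    rw [red_cons]
    rcases List.mem_cons.mp hq with rfl | hq
    · split_ifs with h
      · rw [Nat.testBit_xor, h, h1]; rfl
      · simpa using h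
    · split_ifs with h
      · rw [Nat.testBit_xor, ih h3 q hq, h2 q hq]; rfl
      · exact ih h3 q hq

/-- the span of a triangular family -/
def spn (B : List (ℕ × ℕ)) : Submodule F (ι → F) := Submodule.span F {v | ∃ p ∈ B, v = bv e F p.2}

theorem mem_spn {B : List (ℕ × ℕ)} {p : ℕ × ℕ} (h : p ∈ B) : bv e F p.2 ∈ spn e F B := Submodule.subset_span ⟨p, h, rfl⟩

theorem spn_cons (p : ℕ × ℕ) (B : List (ℕ × ℕ)) : spn e F (p :: B) = Submodule.span F {bv e F p.2} ⊔ spn e F B := by
  unfold spn
  rw [← Submodule.span_union]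
  congr 1
  ext v
  simp only [List.mem_cons, Set.mem_ofPred_eq, Set.mem_union, Set.mem_singleton_iff]
  constructor
  · rintro ⟨q, rfl | h, rfl⟩
    · exact Or.inl rfl
    · exact Or.inr ⟨q, h, rfl⟩
  · rintro (rfl | ⟨q, h, rfl⟩)
    · exact ⟨p, Or.inl rfl, rfl⟩
    · exact ⟨q, Or.inr h, rfl⟩

theorem red_mem [CharP F 2] (B : List (ℕ × ℕ)) (m : ℕ) : bv e F (red B m) - bv e F m ∈ spn e F B := by
  induction B with
  | nil => rw [red_nil, sub_self]; exact zero_mem _
  | cons p B ih =>
    have hle : spn e F B ≤ spn e F (p :: B) := by rw [spn_cons]; exact le_sup_right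
    rw [red_cons]
    split_ifs with h
    · rw [bv_xor]
      have e1 : bv e F (red B m) + bv e F p.2 - bv e F m = (bv e F (red B m) - bv e F m) + bv e F p.2 := by abel
      rw [e1]
      exact add_mem (hle ih) (mem_spn e F (by simp))
    · exact hle ih

/-- vectors of the span vanishing at the pivots are zero -/
theorem tri_zero {B : List (ℕ × ℕ)} (hB : Tri B) (hp : ∀ p ∈ B, ∃ i : ι, e i = p.1) {w : ι → F} (hw : w ∈ spn e F B)
    (h0 : ∀ p ∈ B, ∀ i : ι, e i = p.1 → w i = 0) : w = 0 := by
  induction B generalizing w with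
  | nil =>
    unfold spn at hw
    simp at hw
    exact hw
  | cons p B ih =>
    obtain ⟨h1, h2, h3⟩ := hB
    rw [spn_cons, Submodule.mem_sup] at hw
    obtain ⟨u, hu, w', hw', rfl⟩ := hw
    obtain ⟨c, rfl⟩ := Submodule.mem_span_singleton.mp hu
    have hz : w' = 0 := by
      refine ih h3 (fun q hq => hp q (by simp [hq])) hw' fun q hq i hi => ?_
      have h4 := h0 q (by simp [hq]) i hi
      rw [Pi.add_apply, Pi.smul_apply] at h4
      unfold bv at h4
      rw [hi, h2 q hq] at h4
      simpa using h4
    obtain ⟨i, hi⟩ := hp p (by simp)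
    have h4 := h0 p (by simp) i hi
    rw [hz, Pi.add_apply, Pi.smul_apply] at h4
    unfold bv at h4
    rw [hi, h1] at h4
    have hc : c = 0 := by simpa using h4
    rw [hc, hz, zero_smul, add_zero]

theorem tri_finrank [Finite ι] {B : List (ℕ × ℕ)} (hB : Tri B) (hp : ∀ p ∈ B, ∃ i : ι, e i = p.1) : Module.finrank F (spn e F B) = B.length := by
  induction B with
  | nil =>
    have : spn e F [] = (⊥ : Submodule F (ι → F)) := by
      unfold spn; simp
    rw [this]; simp
  | cons p B ih =>
    have h := hB
    obtain ⟨h1, h2, h3⟩ := hB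
    have ih' := ih h3 fun q hq => hp q (by simp [hq])
    have hne : bv e F p.2 ≠ 0 := by
      intro h0
      obtain ⟨i, hi⟩ := hp p (by simp)
      have := congrFun h0 i
      unfold bv at this
      rw [hi, h1] at this
      simp at this
    have hdisj : Disjoint (Submodule.span F {bv e F p.2}) (spn e F B) := by
      rw [Submodule.disjoint_def]
      intro x hx hx'
      obtain ⟨c, rfl⟩ := Submodule.mem_span_singleton.mp hx
      refine tri_zero e F h3 (fun q hq => hp q (by simp [hq])) hx' fun q hq i hi => ?_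
      rw [Pi.smul_apply]
      unfold bv
      rw [hi, h2 q hq]; simp
    haveI : Module.Finite F (ι → F) := by
      haveI := Fintype.ofFinite ι
      infer_instance
    rw [spn_cons]
    have h4 := Submodule.finrank_sup_add_finrank_inf_eq (Submodule.span F {bv e F p.2}) (spn e F B)
    rw [hdisj.eq_bot, finrank_bot, add_zero, ih', finrank_span_singleton hne] at h4
    rw [h4, List.length_cons, add_comm]

/-- **rank by elimination** -/
theorem ech_spec [CharP F 2] {d : ℕ} (he : ∀ k < d, ∃ i : ι, e i = k) (L : List ℕ) : ∀ B : List (ℕ × ℕ), (∀ m ∈ L, m < 2 ^ d) → Tri B →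
    (∀ p ∈ B, p.1 < d ∧ p.2 < 2 ^ d) →
    Tri (echC L B) ∧ (∀ p ∈ echC L B, p.1 < d ∧ p.2 < 2 ^ d) ∧ spn e F (echC L B) = spn e F B ⊔ Submodule.span F {v | ∃ m ∈ L, v = bv e F m} := by
  induction L with
  | nil =>
    intro B _ h2 h3
    rw [echC_nil]
    refine ⟨h2, h3, ?_⟩
    simp
  | cons m L ih =>
    intro B h1 h2 h3
    have hredlt : red B m < 2 ^ d := by
      clear h2
      induction B with
      | nil => exact h1 m (by simp)
      | cons p B ihB =>
        rw [red_cons]
        have h4 := ihB fun q hq => h3 q (by simp [hq])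
        split_ifs
        · exact Nat.xor_lt_two_pow h4 (h3 p (by simp)).2
        · exact h4
    have hset : {v | ∃ m' ∈ m :: L, v = bv e F m'} = {bv e F m} ∪ {v | ∃ m ∈ L, v = bv e F m} := by
      ext v
      simp only [List.mem_cons, Set.mem_ofPred_eq, Set.mem_union, Set.mem_singleton_iff]
      constructor
      · rintro ⟨q, rfl | h, rfl⟩
        · exact Or.inl rfl
        · exact Or.inr ⟨q, h, rfl⟩
      · rintro (rfl | ⟨q, h, rfl⟩)
        · exact ⟨m, Or.inl rfl, rfl⟩
        · exact ⟨q, Or.inr h, rfl⟩
    have hmem := red_mem e F B m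
    rw [echC_cons]
    split_ifs with h0
    · obtain ⟨a, b, c⟩ := ih B (fun m hm => h1 m (by simp [hm])) h2 h3
      refine ⟨a, b, ?_⟩
      rw [c, hset, Submodule.span_union, ← sup_assoc]
      congr 1
      rw [eq_comm, sup_eq_left, Submodule.span_singleton_le_iff_mem]
      rw [h0, bv_zero, zero_sub] at hmem
      simpa using neg_mem hmem
    · obtain ⟨a, b, c⟩ := ih (((red B m).log2, red B m) :: B) (fun m hm => h1 m (by simp [hm]))
        ⟨Nat.testBit_log2 h0, red_pivot h2 m, h2⟩ (by
          intro p hp
          rcases List.mem_cons.mp hp with rfl | hp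
          · exact ⟨(Nat.log2_lt h0).mpr hredlt, hredlt⟩
          · exact h3 p hp)
      refine ⟨a, b, ?_⟩
      rw [c, hset, Submodule.span_union, ← sup_assoc]
      congr 1
      rw [spn_cons]
      apply le_antisymm
      · refine sup_le ?_ le_sup_left
        rw [Submodule.span_singleton_le_iff_mem]
        have e1 : bv e F (red B m) = (bv e F (red B m) - bv e F m) + bv e F m := by abel
        change bv e F (red B m) ∈ _
        rw [e1]
        exact add_mem (Submodule.mem_sup_left hmem) (Submodule.mem_sup_right (Submodule.mem_span_singleton_self _))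
      · refine sup_le le_sup_right ?_
        rw [Submodule.span_singleton_le_iff_mem]
        have e1 : bv e F m = bv e F (red B m) - (bv e F (red B m) - bv e F m) := by abel
        rw [e1]
        exact sub_mem (Submodule.mem_sup_left (Submodule.mem_span_singleton_self _)) (Submodule.mem_sup_right hmem)

theorem rank_ech [CharP F 2] [Finite ι] {d : ℕ} (he : ∀ k < d, ∃ i : ι, e i = k) (L : List ℕ) (hL : ∀ m ∈ L, m < 2 ^ d) :
    Module.finrank F (Submodule.span F {v | ∃ m ∈ L, v = bv e F m}) = (echC L []).length := by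
  obtain ⟨h1, h2, h3⟩ := ech_spec e F he L [] hL trivial (by simp)
  have : spn e F [] = (⊥ : Submodule F (ι → F)) := by unfold spn; simp
  rw [this, bot_sup_eq] at h3
  rw [← h3]
  exact tri_finrank e F h1 fun p hp => he _ (h2 p hp).1

end
end CfsgLib.Chev
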