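import Cfsg.Agent.Lib.ChevRk1
import Cfsg.Agent.Lib.ChevIn5
set_option autoImplicit false
set_option linter.style.haveILetI false
set_option linter.unusedSectionVars false

/-! Rank of `y - 1` for a product `y` of root elements with parameter one, characteristic two. -/

namespace CfsgLib.Chev
open Cfsg.Lie Matrix

noncomputable def oddZ (z : ℤ) : Bool :=
  Int.rec (motive := fun _ => Bool) (fun n => Nat.beq (Nat.mod n 2) 1) (fun n => Nat.beq (Nat.mod n 2) 0) z

theorem oddZ_spec (F : Type*) [Field F] [CharP F 2] (z : ℤ) : (z : F) = if oddZ z then 1 else 0 := by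
  have h2 : (2 : F) = 0 := CharTwo.two_eq_zero
  cases z with
  | ofNat n =>
    change ((Int.ofNat n : ℤ) : F) = if Nat.beq (n % 2) 1 = true then 1 else 0
    rw [Int.ofNat_eq_natCast, Int.cast_natCast]
    rcases Nat.mod_two_eq_zero_or_one n with h | h
    · rw [h]
      obtain ⟨k, rfl⟩ : ∃ k, n = 2 * k := ⟨n / 2, by omega⟩
      push_cast; rw [h2, zero_mul]
    · rw [h]
      obtain ⟨k, rfl⟩ : ∃ k, n = 2 * k + 1 := ⟨n / 2, by omega⟩
      push_cast; rw [h2, zero_mul, zero_add]
      simp
  | negSucc n =>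
    change ((Int.negSucc n : ℤ) : F) = if Nat.beq (n % 2) 0 = true then 1 else 0
    rw [Int.cast_negSucc]
    rcases Nat.mod_two_eq_zero_or_one n with h | h
    · rw [h]
      obtain ⟨k, rfl⟩ : ∃ k, n = 2 * k := ⟨n / 2, by omega⟩
      push_cast; rw [h2, zero_mul, zero_add]
      change (-1 : F) = 1
      linear_combination -h2
    · rw [h]
      obtain ⟨k, rfl⟩ : ∃ k, n = 2 * k + 1 := ⟨n / 2, by omega⟩
      push_cast
      change -(2 * (k : F) + 1 + 1) = 0
      linear_combination (-(k : F) - 1) * h2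

/-- bit mask of a sparse vector modulo two -/
noncomputable def maskOf (v : SV) : ℕ :=
  List.rec (motive := fun _ => ℕ) 0
    (fun p _ ih => force ih fun a => Bool.rec (motive := fun _ => ℕ) a (Nat.xor a (Nat.shiftLeft 1 p.1)) (oddZ p.2)) v

theorem maskOf_cons (p : ℕ × ℤ) (v : SV) : maskOf (p :: v) = if oddZ p.2 then maskOf v ^^^ (1 <<< p.1) else maskOf v := by
  change force (maskOf v) (fun a => Bool.rec (motive := fun _ => ℕ) a (Nat.xor a (Nat.shiftLeft 1 p.1)) (oddZ p.2)) = _
  rw [force_eq]
  cases oddZ p.2 <;> rfl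

theorem bv_shift {ι : Type*} (e : ι → ℕ) (F : Type*) [Field F] (k : ℕ) (i : ι) : bv e F (1 <<< k) i = if k = e i then 1 else 0 := by
  unfold bv
  rw [Nat.one_shiftLeft, Nat.testBit_two_pow]
  simp only [decide_eq_true_eq]

theorem bv_maskOf {ι : Type*} (e : ι → ℕ) (F : Type*) [Field F] [CharP F 2] (v : SV) (i : ι) :
    bv e F (maskOf v) i = (coef (e i) v : F) := by
  induction v with
  | nil => rw [coef_nil]; change bv e F 0 i = _; rw [bv_zero]; simp
  | cons p v ih =>
    rw [maskOf_cons, coef_cons, Int.cast_add, ← ih]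
    have h1 := oddZ_spec F p.2
    split_ifs with h2 h3 h3
    · rw [bv_xor, Pi.add_apply, bv_shift, if_pos h3, h1, if_pos h2, add_comm]
    · rw [bv_xor, Pi.add_apply, bv_shift, if_neg h3]; simp
    · rw [h1, if_neg h2, zero_add]
    · simp

theorem maskOf_lt {d : ℕ} {v : SV} (h : ∀ p ∈ v, p.1 < d) : maskOf v < 2 ^ d := by
  induction v with
  | nil => change 0 < _; positivity
  | cons p v ih =>
    rw [maskOf_cons]
    have h1 := ih fun q hq => h q (by simp [hq])
    split_ifs
    · refine Nat.xor_lt_two_pow h1 ?_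
      rw [Nat.one_shiftLeft]
      exact Nat.pow_lt_pow_right (by norm_num) (h p (by simp))
    · exact h1

/-- sparse columns of a product of root elements with parameter one -/
noncomputable def colW (D : ChevalleyDatum) (T : Tab) : List ℕ → ℕ → SV
  | [], x => [(x, 1)]
  | r :: R, x => appApp (colX (hlD D) (D.rank + r) (T.row1 (D.rank + r)) (T.row2 (D.rank + r)) (T.row3 (D.rank + r)) 1) 1 (colW D T R x) []

/-- the same with forced tables -/
noncomputable def colF {α : Type} (D : ChevalleyDatum) (T : Tab) : List ℕ → ((ℕ → SV) → α) → α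
  | [], k => k (fun x => [(x, 1)])
  | r :: R, k => colF D T R fun f => force (T.row1 (D.rank + r)) fun R1 => force (T.row2 (D.rank + r)) fun R2 =>
      force (T.row3 (D.rank + r)) fun R3 => k (fun x => appApp (colX (hlD D) (D.rank + r) R1 R2 R3 1) 1 (f x) [])

theorem colF_eq {α : Type} (D : ChevalleyDatum) (T : Tab) (R : List ℕ) : ∀ k : (ℕ → SV) → α, colF D T R k = k (colW D T R) := by
  induction R with
  | nil => intro k; rfl
  | cons r R ih =>
    intro k
    change colF D T R _ = _
    rw [ih]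
    simp only [force_eq]
    rfl

/-- the kernel check of a rank -/
noncomputable def rkChk (D : ChevalleyDatum) (T : Tab) (R : List ℕ) (n : ℕ) : Bool :=
  colF D T R fun f => Nat.beq (echC ((List.range (dim D)).map fun x => Nat.xor (maskOf (f x)) (Nat.shiftLeft 1 x)) []).length n

section
variable {D : ChevalleyDatum} {F : Type*} [Field F] (M : CG D F)
include M

theorem keys_colW (R : List ℕ) (hR : ∀ r ∈ R, r < D.nroots) : ∀ c < dim D, ∀ p ∈ colW D M.T R c, p.1 < dim D := by
  induction R with
  | nil =>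
    intro c hc p hp
    change p ∈ [(c, (1 : ℤ))] at hp
    rw [List.mem_singleton] at hp
    rw [hp]; exact hc
  | cons r R ih =>
    intro c hc
    exact keys_appApp (M.N.keys_colX (hR r (by simp)) 1) 1 (ih (fun r' hr' => hR r' (by simp [hr'])) c hc) (by simp)

theorem matOf_colW (R : List ℕ) (hR : ∀ r ∈ R, r < D.nroots) : matOf D (colW D M.T R) = (R.map fun r => XR D M.T ℤ r 1).prod := by
  induction R with
  | nil =>
    rw [List.map_nil, List.prod_nil]
    ext i j
    rw [matOf_apply]
    change coef (code D i) [(code D j, (1 : ℤ))] = _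
    rw [coef_cons, coef_nil, add_zero, Matrix.one_apply]
    by_cases h : i = j
    · rw [if_pos h, h, if_pos rfl]
    · rw [if_neg h, if_neg]
      intro h'
      exact h (code_inj D h').symm
  | cons r R ih =>
    rw [List.map_cons, List.prod_cons, ← ih fun r' hr' => hR r' (by simp [hr']), XR_int,
      matOf_mul' D _ _ (keys_colW M R fun r' hr' => hR r' (by simp [hr']))]
    rfl

theorem W1_val (R : List ℕ) (hR : ∀ r ∈ R, r < D.nroots) : ((W1 D F R : GL D.Idx F) : Matrix D.Idx D.Idx F) = φ D F (matOf D (colW D M.T R)) := by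
  rw [matOf_colW M R hR]
  induction R with
  | nil => rw [W1_nil, List.map_nil, List.prod_nil, map_one]; rfl
  | cons r R ih =>
    rw [W1_cons, Units.val_mul, ih fun r' hr' => hR r' (by simp [hr']), List.map_cons, List.prod_cons, map_mul, M.coe_xg,
      M.N.x_eq (hR r (by simp))]
    congr 1
    have := XR_cast D M.T F r 1
    rw [Int.cast_one] at this
    exact this

/-- **the rank of `y - 1`** -/
theorem rk_of_chk [CharP F 2] {R : List ℕ} {n : ℕ} (hR : ∀ r ∈ R, r < D.nroots) (h : rkChk D M.T R n = true) :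
    Matrix.rank (((W1 D F R : GL D.Idx F) : Matrix D.Idx D.Idx F) - 1) = n := by
  unfold rkChk at h
  rw [colF_eq] at h
  have h1 := Nat.eq_of_beq_eq_true h
  set L := (List.range (dim D)).map fun x => Nat.xor (maskOf (colW D M.T R x)) (Nat.shiftLeft 1 x) with hL
  have hlt : ∀ m ∈ L, m < 2 ^ dim D := by
    intro m hm
    obtain ⟨x, hx, rfl⟩ := List.mem_map.mp hm
    rw [List.mem_range] at hx
    refine Nat.xor_lt_two_pow (maskOf_lt (keys_colW M R hR x hx)) ?_
    change 1 <<< x < _
    rw [Nat.one_shiftLeft]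
    exact Nat.pow_lt_pow_right (by norm_num) hx
  rw [← h1, ← rank_ech (code D) F (fun k hk => exists_code D hk) L hlt, Matrix.rank_eq_finrank_span_cols]
  rw [W1_val M R hR]
  have key : ∀ j : D.Idx, Matrix.col (φ D F (matOf D (colW D M.T R)) - 1) j =
      bv (code D) F (Nat.xor (maskOf (colW D M.T R (code D j))) (Nat.shiftLeft 1 (code D j))) := by
    intro j
    ext i
    change ((matOf D (colW D M.T R) i j : ℤ) : F) - (1 : Matrix D.Idx D.Idx F) i j = bv (code D) F (maskOf (colW D M.T R (code D j)) ^^^ (1 <<< (code D j))) i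
    rw [bv_xor, Pi.add_apply, bv_maskOf, bv_shift, matOf_apply, sub_eq_add_neg, CharTwo.neg_eq, Matrix.one_apply]
    congr 1
    by_cases h : i = j
    · rw [if_pos h, h, if_pos rfl]
    · rw [if_neg h, if_neg]
      intro h'
      exact h (code_inj D h').symm
  have hset : Set.range (Matrix.col (φ D F (matOf D (colW D M.T R)) - 1)) = {v | ∃ m ∈ L, v = bv (code D) F m} := by
   ext v
   constructor
   · rintro ⟨j, rfl⟩
     refine ⟨_, List.mem_map.mpr ⟨code D j, List.mem_range.mpr (code_lt D j), rfl⟩, key j⟩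
   · rintro ⟨m, hm, rfl⟩
     obtain ⟨x, hx, rfl⟩ := List.mem_map.mp hm
     rw [List.mem_range] at hx
     obtain ⟨j, rfl⟩ := exists_code D hx
     exact ⟨j, key j⟩
  rw [hset]

omit M in
/-- conjugate elements have the same rank -/
theorem rank_conj {g y y' : GL D.Idx F} (h : g * y * g⁻¹ = y') :
    Matrix.rank ((y : Matrix D.Idx D.Idx F) - 1) = Matrix.rank ((y' : Matrix D.Idx D.Idx F) - 1) := by
  have e : (y' : Matrix D.Idx D.Idx F) - 1 = (g : Matrix D.Idx D.Idx F) * ((y : Matrix D.Idx D.Idx F) - 1) * ((g⁻¹ : GL D.Idx F) : Matrix D.Idx D.Idx F) := by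
    rw [← h, Units.val_mul, Units.val_mul, mul_sub, sub_mul, mul_one, Units.mul_inv]
  rw [e, Matrix.rank_mul_eq_left_of_isUnit_det, Matrix.rank_mul_eq_right_of_isUnit_det]
  · exact (Matrix.isUnit_iff_isUnit_det _).mp g.isUnit
  · exact (Matrix.isUnit_iff_isUnit_det _).mp (g⁻¹).isUnit

end
end CfsgLib.Chev
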