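import Cfsg.Agent.Lib.Chev4
import Cfsg.Prelude.Def_ChevD4
set_option autoImplicit false

/-! Structure constant tables of type D4. -/

namespace CfsgLib.Chev

def rowD4_0 : ℕ := 0x3746a8cd18a2f8598ab14626c000000000003a86d0ca1742904b0860ec1980000000000000
def rowD4_1 : ℕ := 0x1ca36c0000018a2ec000ad14a2784988b10a1f43906b0c60002a84b0000001a82b00000000000
def rowD4_2 : ℕ := 0x3746a8cb1860005a8ad14626c4b0000001e83a86d0c616c0004d08a0ec1980000000000000
def rowD4_3 : ℕ := 0x374698cd1860005a8ab14a26c0008e1040003a86b0ca16c0004d0860f41980000000000000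
def rowD4_4 : ℕ := 0x21cc368650b6000268430760d40000000000000000000000000000000000000000000016800
def rowD4_5 : ℕ := 0x1360044187b00016c2a8000000002283d00000016800000000000000000000000006a0d419835
def rowD4_6 : ℕ := 0x14a22c008000f618c000550000002680006a0000002b00000000000000000000000760f40003d
def rowD4_7 : ℕ := 0x15a24c000011061ac000000aa0000004d0000d400000056000000000000000000008a10c00045
def rowD4_8 : ℕ := 0x1660004988b0021cc000000001540000008a0f4000000000b4000000000000000009612c2684d
def rowD4_9 : ℕ := 0x2cc558a313600400000000000000000000002684507a0d4000000000000000000000029856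
def rowD4_10 : ℕ := 0x18a2f400000000000008830f600036865000000000000000001982b000000000000ba1740005b
def rowD4_11 : ℕ := 0x1960005e800000000458010001ec3a8000ba000000000000001d80005a000000000c619432863
def rowD4_12 : ℕ := 0x1a6000000bd0000004980000220c0007500017400000000000218000000b4000000da1ac3686b
def rowD4_13 : ℕ := 0x1ba0000000017a00000093116004000000da1940000000000025800000000158000e61cc3b073
def rowD4_14 : ℕ := 0x334628000000005289d000000008000000003185b0000000003b066000000000001f83d800
def rowD4_15 : ℕ := 0x354000c50000005680013a00000001000000358000b6000000430000cc0000010c00041800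
def rowD4_16 : ℕ := 0x6e80019a000000b5000294000000020000007300018c000000960001d80011400046800
def rowD4_17 : ℕ := 0xdd1aa0000000016a2b400000000004000000e61ac0000000012c218000002484a800
def rowD4_18 : ℕ := 0x3940000000031400000000000558a3000000008850fa000000530000000003313a2744d09d
def rowD4_19 : ℕ := 0x718000003340000000000059800136000468010001f4000000a60000003d146294518a5
def rowD4_20 : ℕ := 0xe300035400000000000000b300026c4a8000022140000000014c0004515a2ac558ad
def rowD4_21 : ℕ := 0x1ca374000000000000000015628c0009511a004000000000002984b1662cc000b5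
def rowD4_22 : ℕ := 0x6d8d319630c0000000000000000000000008750da1942e8000000005e8ba
def rowD4_23 : ℕ := 0x71800000000698cb0000005d8000000004e80110a1f40005d18a314618c3
def rowD4_24 : ℕ := 0xe50000006d800186000000bb0000005288d0020003e863196334000cb
def rowD4_25 : ℕ := 0x1ca000000db00030c00000176000568950000044286b1aa34c000d3
def rowD4_26 : ℕ := 0x38c000001a632c000000002ec5a80012a234008751b636c6e8db
def rowD4_27 : ℕ := 0x6d8d519a30c000b515628c4e80100000071800
def trD4 : Tr := .node (.node (.node (.node (.node (.leaf rowD4_0) (.leaf rowD4_16)) (.node (.leaf rowD4_8) (.leaf rowD4_24))) (.node (.node (.leaf rowD4_4) (.leaf rowD4_20)) (.node (.leaf rowD4_12) (.leaf 0)))) (.node (.node (.node (.leaf rowD4_2) (.leaf rowD4_18)) (.node (.leaf rowD4_10) (.leaf rowD4_26))) (.node (.node (.leaf rowD4_6) (.leaf rowD4_22)) (.node (.leaf rowD4_14) (.leaf 0))))) (.node (.node (.node (.node (.leaf rowD4_1) (.leaf rowD4_17)) (.node (.leaf rowD4_9) (.leaf rowD4_25))) (.node (.node (.leaf rowD4_5) (.leaf rowD4_21)) (.node (.leaf rowD4_13) (.leaf 0)))) (.node (.node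 (.node (.leaf rowD4_3) (.leaf rowD4_19)) (.node (.leaf rowD4_11) (.leaf rowD4_27))) (.node (.node (.leaf rowD4_7) (.leaf rowD4_23)) (.node (.leaf rowD4_15) (.leaf 0)))))
noncomputable def TD4 : Tab := ⟨Tr.get trD4, row2SL 4 24, fun _ => 0⟩
end CfsgLib.Chev
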