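import Mathlib

/-!
A numerical criterion for a point stabilizer to be a maximal subgroup.
-/

set_option autoImplicit false

namespace CfsgLib.CoatomCrit

theorem isCoatom_of_classes {G X : Type*} [Group G] [Finite G] [MulAction G X] (x : X) (O : Set X)
    (hO : ∀ y, y ∈ O ↔ ∃ g : G, g • x = y) (c : X → ℕ) (k : ℕ) (hc : ∀ y ∈ O, c y < k)
    (hc0 : ∀ y ∈ O, c y = 0 → y = x) (hcx : c x = 0)
    (htr : ∀ y ∈ O, ∀ z ∈ O, c y = c z → ∃ g ∈ MulAction.stabilizer G x, g • y = z)
    (n : ℕ → ℕ) (hn : ∀ i < k, {y | y ∈ O ∧ c y = i}.ncard = n i)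
    (hnum : ∀ S ∈ (Finset.range k).powerset, 0 ∈ S → (∑ i ∈ S, n i) ∣ (∑ i ∈ Finset.range k, n i) →
      S = {0} ∨ S = Finset.range k)
    (h1 : ∃ y ∈ O, y ≠ x) : IsCoatom (MulAction.stabilizer G x) := by
  classical
  have hOfin : O.Finite := by
    have : O = Set.range (fun g : G => g • x) := by
      ext y; rw [hO]; rfl
    rw [this]; exact Set.finite_range _
  have hsum : ∀ S ∈ (Finset.range k).powerset, {y | y ∈ O ∧ c y ∈ S}.ncard = ∑ i ∈ S, n i := by
    intro S hS
    rw [Finset.mem_powerset] at hS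
    induction S using Finset.induction_on with
    | empty => simp
    | insert a S ha ih =>
      rw [Finset.sum_insert ha, ← ih (fun i hi => hS (Finset.mem_insert_of_mem hi)),
        ← hn a (Finset.mem_range.mp (hS (Finset.mem_insert_self a S))), ← Set.ncard_union_eq ?_
          (hOfin.subset (fun y hy => hy.1)) (hOfin.subset (fun y hy => hy.1))]
      · congr 1
        ext y
        simp only [Set.mem_setOf_eq, Finset.mem_insert, Set.mem_union]
        tauto
      · rw [Set.disjoint_left]
        rintro y ⟨_, h2⟩ ⟨_, h3⟩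
        rw [h2] at h3; exact ha h3
  have hOc : O.ncard = ∑ i ∈ Finset.range k, n i := by
    rw [← hsum (Finset.range k) (Finset.mem_powerset.mpr subset_rfl)]
    congr 1
    ext y
    simp only [Finset.mem_range, Set.mem_setOf_eq]
    exact ⟨fun h => ⟨h, hc y h⟩, fun h => h.1⟩
  have hxO : x ∈ O := (hO x).mpr ⟨1, one_smul _ _⟩
  have hidx : ∀ H : Subgroup G, MulAction.stabilizer G x ≤ H →
      Nat.card H = {y | ∃ h ∈ H, h • x = y}.ncard * Nat.card (MulAction.stabilizer G x) := by
    intro H hH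
    have e1 : (MulAction.stabilizer H x).index = (MulAction.orbit H x).ncard := MulAction.index_stabilizer H x
    have e2 := Subgroup.index_mul_card (MulAction.stabilizer H x)
    have e3 : MulAction.orbit H x = {y | ∃ h ∈ H, h • x = y} := by
      ext y
      rw [MulAction.mem_orbit_iff]
      constructor
      · rintro ⟨⟨g, hg⟩, h⟩; exact ⟨g, hg, h⟩
      · rintro ⟨g, hg, h⟩; exact ⟨⟨g, hg⟩, h⟩
    have e4 : MulAction.stabilizer H x = (MulAction.stabilizer G x).subgroupOf H := by
      ext ⟨g, hg⟩; rfl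
    rw [e1, e3] at e2
    rw [← e2, e4, Nat.card_congr (Subgroup.subgroupOfEquivOfLe hH).toEquiv]
  have hGc : Nat.card G = O.ncard * Nat.card (MulAction.stabilizer G x) := by
    have h := hidx ⊤ le_top
    rw [Subgroup.card_top] at h
    rw [h]
    congr 2
    ext y
    rw [hO]; simp
  refine ⟨?_, ?_⟩
  · intro htop
    obtain ⟨y, hy, hyx⟩ := h1
    obtain ⟨g, rfl⟩ := (hO y).mp hy
    have : g ∈ MulAction.stabilizer G x := by rw [htop]; exact Subgroup.mem_top g
    exact hyx this
  · intro H hH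
    have hHle := hH.le
    set B : Set X := {y | ∃ h ∈ H, h • x = y} with hB
    have hBO : B ⊆ O := by
      rintro y ⟨h, _, rfl⟩
      exact (hO _).mpr ⟨h, rfl⟩
    set S : Finset ℕ := (Finset.range k).filter (fun i => ∃ y ∈ B, c y = i) with hS
    have hBS : B = {y | y ∈ O ∧ c y ∈ S} := by
      ext y
      constructor
      · intro hy
        exact ⟨hBO hy, by rw [hS, Finset.mem_filter, Finset.mem_range]; exact ⟨hc y (hBO hy), y, hy, rfl⟩⟩
      · rintro ⟨hy, hyS⟩
        rw [hS, Finset.mem_filter] at hyS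
        obtain ⟨z, hz, hzy⟩ := hyS.2
        obtain ⟨g, hg, hgz⟩ := htr z (hBO hz) y hy hzy
        obtain ⟨h, hh, rfl⟩ := hz
        exact ⟨g * h, H.mul_mem (hHle hg) hh, by rw [mul_smul, hgz]⟩
    have hSp : S ∈ (Finset.range k).powerset := Finset.mem_powerset.mpr (Finset.filter_subset _ _)
    have hBc : B.ncard = ∑ i ∈ S, n i := by rw [← hsum S hSp, ← hBS]
    have h0S : 0 ∈ S := by
      rw [hS, Finset.mem_filter, Finset.mem_range]
      exact ⟨lt_of_le_of_lt (Nat.zero_le _) (hc x hxO), x, ⟨1, one_mem _, one_smul _ _⟩, hcx⟩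
    have hdvd : (∑ i ∈ S, n i) ∣ (∑ i ∈ Finset.range k, n i) := by
      rw [← hBc, ← hOc]
      have h2 := hidx H hHle
      have h3 : Nat.card H ∣ Nat.card G := Subgroup.card_subgroup_dvd_card H
      rw [h2, hGc] at h3
      exact Nat.dvd_of_mul_dvd_mul_right Nat.card_pos h3
    rcases hnum S hSp h0S hdvd with h | h
    · exfalso
      apply hH.not_ge
      intro g hg
      have : g • x ∈ B := ⟨g, hg, rfl⟩
      rw [hBS] at this
      have h3 := this.2
      rw [h, Finset.mem_singleton] at h3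
      exact hc0 _ this.1 h3
    · apply Subgroup.eq_top_of_card_eq
      rw [hidx H hHle, hGc]
      congr 1
      rw [hBc, h, hOc]

end CfsgLib.CoatomCrit
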