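import Mathlib
import Cfsg.Prelude.Def_Characters
import Cfsg.Agent.Lib.SZ
import Cfsg.Agent.Lib.Coprime
import Cfsg.Agent.Lib.CharBasic
import Cfsg.Agent.Lib.CharBasic2
import Cfsg.Agent.Lib.CharInd
import Cfsg.Agent.Lib.CharClifford
import Cfsg.Agent.Lib.CharFS

/-!
# Coprime action of a single element

Elements of the coset `H g` (with `g` normalizing `H`, orders coprime) are `H`-conjugate into `C_H(g) g`;
powers realising the `π`-part; fixed conjugacy classes contain fixed points.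
-/

set_option autoImplicit false
set_option linter.style.haveILetI false

open scoped ComplexConjugate Pointwise

namespace CfsgLib.CopElt

universe u v

variable {G : Type u} [Group G]

/-- the coset calculus `(h g)^k ∈ H g^k` -/
theorem mul_pow_mem {H : Subgroup G} {g : G} (hg : g ∈ Subgroup.normalizer (H : Set G)) {y : G} (hy : y * g⁻¹ ∈ H) (k : ℕ) :
    y ^ k * (g ^ k)⁻¹ ∈ H := by
  induction k with
  | zero => simp
  | succ k ih =>
    have e : y ^ (k + 1) * (g ^ (k + 1))⁻¹ = (y ^ k * (g ^ k)⁻¹) * (g ^ k * (y * g⁻¹) * (g ^ k)⁻¹) := by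
      rw [pow_succ, pow_succ]; group
    rw [e]
    exact H.mul_mem ih ((Subgroup.mem_normalizer_iff.mp (Subgroup.pow_mem _ hg k) _).mp hy)

/-- commuting elements of coprime orders: `a` is a power of `a * u` with an exponent that kills elements of order prime to it -/
theorem pow_eq_left {a u : G} (hau : Commute a u) {e : ℕ} (h1 : e ≡ 1 [MOD orderOf a]) (h2 : e ≡ 0 [MOD orderOf u]) :
    (a * u) ^ e = a := by
  rw [hau.mul_pow]
  have e1 : a ^ e = a := by
    conv_rhs => rw [← pow_one a]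
    exact pow_eq_pow_iff_modEq.mpr h1
  have e2 : u ^ e = 1 := by
    rw [← pow_zero u]
    exact pow_eq_pow_iff_modEq.mpr h2
  rw [e1, e2, mul_one]

/-- S1496 -/
theorem exists_conj_mul [Finite G] {H : Subgroup G} {g : G} (hg : g ∈ Subgroup.normalizer (H : Set G))
    (hcop : Nat.Coprime (orderOf g) (Nat.card H)) {h : G} (hh : h ∈ H) :
    ∃ x ∈ H, ∃ c ∈ H, c * g = g * c ∧ x * (h * g) * x⁻¹ = c * g := by
  classical
  set A := Subgroup.zpowers g with hA
  have hcA : Nat.card A = orderOf g := Nat.card_zpowers g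
  have hAn : A ≤ Subgroup.normalizer (H : Set G) := by
    rw [hA, Subgroup.zpowers_le]; exact hg
  have hAsol : Group.IsSolvable A := inferInstance
  have hco : CfsgLib.Coprime.CopAct A H := ⟨hAn, by rw [hcA]; exact hcop, Or.inl hAsol⟩
  obtain ⟨e, he1, he2⟩ := Nat.chineseRemainder hcop 1 0
  set y := h * g with hy
  have hyg : y * g⁻¹ ∈ H := by rw [hy]; simpa using hh
  have hyk := mul_pow_mem hg hyg
  have hn0 : 0 < orderOf g := orderOf_pos g
  -- y ^ n ∈ H
  have hyn : y ^ orderOf g ∈ H := by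
    have := hyk (orderOf g)
    rwa [pow_orderOf_eq_one, inv_one, mul_one] at this
  have hynm : y ^ (orderOf g * Nat.card H) = 1 := by
    rw [pow_mul]
    have := pow_card_eq_one' (x := (⟨y ^ orderOf g, hyn⟩ : H))
    exact congrArg Subtype.val this
  set s := y ^ e with hs
  have hge : g ^ e = g := by
    conv_rhs => rw [← pow_one g]
    exact pow_eq_pow_iff_modEq.mpr he1
  have hsg : s * g⁻¹ ∈ H := by
    have := hyk e
    rwa [hge] at this
  obtain ⟨e', he'⟩ : Nat.card H ∣ e := (Nat.modEq_zero_iff_dvd).mp he2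
  have hsn : s ^ orderOf g = 1 := by
    rw [hs, ← pow_mul, he']
    have : Nat.card H * e' * orderOf g = (orderOf g * Nat.card H) * e' := by ring
    rw [this, pow_mul, hynm, one_pow]
  have hHA : ∀ z ∈ H, z ∈ A → z = 1 := by
    intro z hz hzA
    have := hco.inf_eq_bot
    have h2 : z ∈ A ⊓ H := ⟨hzA, hz⟩
    rw [this] at h2
    exact Subgroup.mem_bot.mp h2
  have hos : orderOf s = orderOf g := by
    apply Nat.dvd_antisymm (orderOf_dvd_of_pow_eq_one hsn)
    apply orderOf_dvd_of_pow_eq_one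
    have h1 := mul_pow_mem hg hsg (orderOf s)
    rw [pow_orderOf_eq_one, one_mul] at h1
    have h2 := H.inv_mem h1
    rw [inv_inv] at h2
    exact hHA _ h2 (Subgroup.pow_mem _ (Subgroup.mem_zpowers g) _)
  have hsHA : s ∈ H ⊔ A := by
    have : s = (s * g⁻¹) * g := by group
    rw [this]
    exact Subgroup.mul_mem_sup hsg (Subgroup.mem_zpowers g)
  obtain ⟨k, hk, hkA⟩ := hco.conj (B := Subgroup.zpowers s) (by rw [Subgroup.zpowers_le]; exact hsHA)
    (by rw [Nat.card_zpowers, hos, hcA])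
  have hs2 : s ∈ MulAut.conj k • A := by rw [hkA]; exact Subgroup.mem_zpowers s
  rw [CfsgLib.SZ.mem_conj_iff] at hs2
  -- k⁻¹ s k = g
  have hks : k⁻¹ * s * k = g := by
    have h1 : k⁻¹ * s * k * g⁻¹ ∈ H := by
      have e1 : k⁻¹ * s * k * g⁻¹ = k⁻¹ * (s * g⁻¹) * (g * k * g⁻¹) := by group
      rw [e1]
      exact H.mul_mem (H.mul_mem (H.inv_mem hk) hsg) ((Subgroup.mem_normalizer_iff.mp hg _).mp hk)
    have h2 := hHA _ h1 (A.mul_mem hs2 (A.inv_mem (Subgroup.mem_zpowers g)))
    exact mul_inv_eq_one.mp h2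
  -- u = y s⁻¹ ∈ H
  have hu : y * s⁻¹ ∈ H := by
    have e1 : y * s⁻¹ = (y * g⁻¹) * (s * g⁻¹)⁻¹ := by group
    rw [e1]
    exact H.mul_mem hyg (H.inv_mem hsg)
  have hys : Commute y s := by rw [hs]; exact (Commute.refl y).pow_right e
  refine ⟨k⁻¹, H.inv_mem hk, k⁻¹ * (y * s⁻¹) * k, H.mul_mem (H.mul_mem (H.inv_mem hk) hu) hk, ?_, ?_⟩
  · rw [← hks]
    have hus : (y * s⁻¹) * s = s * (y * s⁻¹) := by
      have h1 : Commute (y * s⁻¹) s := hys.mul_left ((Commute.refl s).inv_left)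
      exact h1
    calc k⁻¹ * (y * s⁻¹) * k * (k⁻¹ * s * k) = k⁻¹ * ((y * s⁻¹) * s) * k := by group
      _ = k⁻¹ * (s * (y * s⁻¹)) * k := by rw [hus]
      _ = _ := by group
  · rw [← hks]; group

/-- coprime action: a conjugacy class of a normal subgroup fixed by `x` contains a fixed point -/
theorem exists_commute_of_fixed_class [Finite G] {K : Subgroup G} [hK : K.Normal] {x : G} (hcop : Nat.Coprime (orderOf x) (Nat.card K))
    {k : G} (hk : k ∈ K) {c : G} (hc : c ∈ K) (h : x * k * x⁻¹ = c * k * c⁻¹) : ∃ z ∈ K, (z * k * z⁻¹) * x = x * (z * k * z⁻¹) := by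
  have hxn : x ∈ Subgroup.normalizer (K : Set G) := by
    rw [Subgroup.normalizer_eq_top]; trivial
  obtain ⟨z, hz, d, hd, hdx, hconj⟩ := exists_conj_mul hxn hcop (K.inv_mem hc)
  refine ⟨z, hz, ?_⟩
  -- d x commutes with z k z⁻¹
  have h1 : (c⁻¹ * x) * k = k * (c⁻¹ * x) := by
    calc (c⁻¹ * x) * k = c⁻¹ * (x * k * x⁻¹) * x := by group
      _ = c⁻¹ * (c * k * c⁻¹) * x := by rw [h]
      _ = _ := by group
  have h2 : (d * x) * (z * k * z⁻¹) = (z * k * z⁻¹) * (d * x) := by
    rw [← hconj]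
    calc z * (c⁻¹ * x) * z⁻¹ * (z * k * z⁻¹) = z * ((c⁻¹ * x) * k) * z⁻¹ := by group
      _ = z * (k * (c⁻¹ * x)) * z⁻¹ := by rw [h1]
      _ = _ := by group
  -- x is a power of d x
  have hod : orderOf d ∣ Nat.card K := by
    have := orderOf_dvd_natCard (⟨d, hd⟩ : K)
    rwa [← Subgroup.orderOf_coe] at this
  have hcop2 : Nat.Coprime (orderOf x) (orderOf d) := Nat.Coprime.coprime_dvd_right hod hcop
  obtain ⟨e, he1, he2⟩ := Nat.chineseRemainder hcop2 1 0
  have h3 : (x * d) ^ e = x := pow_eq_left (show Commute x d from hdx.symm) he1 he2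
  rw [← hdx] at h3
  have h4 : Commute (d * x) (z * k * z⁻¹) := h2
  have h5 := h4.pow_left e
  rw [h3] at h5
  exact h5.symm

end CfsgLib.CopElt
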