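import Cfsg.Agent.Lib.Quad13
import Cfsg.Agent.Lib.SL2

/-!
# Exceptional isomorphisms I: general lemmas, `PΩ₃ ≅ PSL₂`, `PΩ₄⁺ ≅ PSL₂ × PSL₂`
-/

namespace CfsgLib.Exc

open Module CfsgLib.Quad CfsgLib.IsomDecomp Cfsg
open scoped commutatorElement

set_option linter.unusedSimpArgs false
set_option linter.unusedSectionVars false

/-! ### Group theoretic lemmas -/

section Group

variable {G H : Type*} [Group G] [Group H]

/-- Quotients by centres of homomorphic images. -/
theorem quot_center_of_hom (φ : G →* H) {S : Subgroup H} (hS : φ.range = S)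
    (hZ : ∀ g, (∀ x, φ (g * x) = φ (x * g)) → g ∈ Subgroup.center G) :
    Nonempty ((S ⧸ Subgroup.center S) ≃* (G ⧸ Subgroup.center G)) := by
  subst hS
  let f : G →* (φ.range ⧸ Subgroup.center φ.range) :=
    (QuotientGroup.mk' (Subgroup.center φ.range)).comp φ.rangeRestrict
  have hf : Function.Surjective f :=
    (QuotientGroup.mk'_surjective _).comp φ.rangeRestrict_surjective
  have hk : f.ker = Subgroup.center G := by
    ext g
    rw [MonoidHom.mem_ker]
    change ((φ.rangeRestrict g : φ.range) : φ.range ⧸ Subgroup.center φ.range) = 1 ↔ _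
    rw [QuotientGroup.eq_one_iff, Subgroup.mem_center_iff]
    constructor
    · intro h
      apply hZ
      intro x
      have h1 := congrArg Subtype.val (h (φ.rangeRestrict x))
      change φ x * φ g = φ g * φ x at h1
      rw [map_mul, map_mul, h1]
    · intro h x
      obtain ⟨y, rfl⟩ := φ.rangeRestrict_surjective x
      rw [← map_mul, ← map_mul, Subgroup.mem_center_iff.mp h y]
  exact ⟨((QuotientGroup.quotientMulEquivOfEq hk).symm.trans
    (QuotientGroup.quotientKerEquivOfSurjective f hf)).symm⟩

/-- The Grün argument for perfect groups. -/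
lemma mem_center_of_perfect (hG : commutator G = ⊤) (φ : G →* H)
    (hker : φ.ker ≤ Subgroup.center G) (g : G) (hg : ∀ x, φ (g * x) = φ (x * g)) :
    g ∈ Subgroup.center G := by
  have h1 : ∀ x, g * x * g⁻¹ * x⁻¹ ∈ Subgroup.center G := by
    intro x
    apply hker
    rw [MonoidHom.mem_ker, mul_assoc (g * x), ← mul_inv_rev, map_mul, hg x,
      ← map_mul, mul_inv_cancel, map_one]
  have key : commutator G ≤ Subgroup.centralizer {g} := by
    rw [commutator_eq_closure, Subgroup.closure_le]
    rintro _ ⟨a, b, rfl⟩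
    rw [SetLike.mem_coe, Subgroup.mem_centralizer_singleton_iff]
    set z := g * a * g⁻¹ * a⁻¹ with hz
    set w := g * b * g⁻¹ * b⁻¹ with hw
    have hzc : ∀ x, x * z = z * x := Subgroup.mem_center_iff.mp (h1 a)
    have hwc : ∀ x, x * w = w * x := Subgroup.mem_center_iff.mp (h1 b)
    have ha : g * a * g⁻¹ = z * a := by rw [hz]; group
    have hb : g * b * g⁻¹ = w * b := by rw [hw]; group
    have h2 : g * ⁅a, b⁆ * g⁻¹ = ⁅a, b⁆ := by
      have h3 : g * ⁅a, b⁆ * g⁻¹ = (g * a * g⁻¹) * (g * b * g⁻¹) * ((g * b * g⁻¹) * (g * a * g⁻¹))⁻¹ := by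
        rw [commutatorElement_def]; group
      rw [h3, ha, hb]
      have h4 : z * a * (w * b) = (z * w) * (a * b) := by
        rw [mul_assoc z a, ← mul_assoc a w b, hwc a]
        simp only [mul_assoc]
      have h5 : w * b * (z * a) = (z * w) * (b * a) := by
        rw [mul_assoc w b, ← mul_assoc b z a, hzc b, ← mul_assoc, ← mul_assoc, hzc w]
        simp only [mul_assoc]
      rw [h4, h5, mul_inv_rev, commutatorElement_def]
      have h6 : ∀ x, x * (z * w) = (z * w) * x := by
        intro x
        rw [← mul_assoc, hzc, mul_assoc, hwc, ← mul_assoc]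
      have h7 : z * w * (a * b) * ((b * a)⁻¹ * (z * w)⁻¹) =
          ((z * w) * ((a * b) * (b * a)⁻¹)) * (z * w)⁻¹ := by group
      rw [h7, ← h6, mul_inv_cancel_right]
      group
    exact (mul_inv_eq_iff_eq_mul.mp h2).symm
  rw [Subgroup.mem_center_iff]
  intro x
  have h2 : x ∈ Subgroup.centralizer {g} := key (by rw [hG]; trivial)
  rw [Subgroup.mem_centralizer_singleton_iff] at h2
  exact h2

/-- The same for groups generated by elements of odd order, with central kernel of exponent two. -/
lemma mem_center_of_odd {S : Set G} (hS : Subgroup.closure S = ⊤)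
    (hodd : ∀ x ∈ S, ∃ n, Odd n ∧ x ^ n = 1) (φ : G →* H)
    (hker : φ.ker ≤ Subgroup.center G) (hker2 : ∀ z ∈ φ.ker, z ^ 2 = 1) (g : G)
    (hg : ∀ x, φ (g * x) = φ (x * g)) : g ∈ Subgroup.center G := by
  have h1 : Subgroup.closure S ≤ Subgroup.centralizer {g} := by
    rw [Subgroup.closure_le]
    intro x hx
    rw [SetLike.mem_coe, Subgroup.mem_centralizer_singleton_iff]
    obtain ⟨n, hn, hxn⟩ := hodd x hx
    set z := ⁅g, x⁆ with hz
    have hzk : z ∈ φ.ker := by
      rw [MonoidHom.mem_ker, hz, commutatorElement_def, mul_assoc (g * x), ← mul_inv_rev, map_mul,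
        hg x, ← map_mul, mul_inv_cancel, map_one]
    have hzc := hker hzk
    have hcomm : Commute z x := (Subgroup.mem_center_iff.mp hzc x).symm
    have h2 : g * x * g⁻¹ = z * x := by rw [hz, commutatorElement_def]; group
    have h3 : (g * x * g⁻¹) ^ n = 1 := by rw [conj_pow, hxn]; simp
    rw [h2, hcomm.mul_pow, hxn, mul_one] at h3
    obtain ⟨k, rfl⟩ := hn
    rw [pow_succ, pow_mul, hker2 z hzk, one_pow, one_mul] at h3
    rw [h3, one_mul] at h2
    have h4 : g * x = x * g := mul_inv_eq_iff_eq_mul.mp h2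
    exact h4.symm
  rw [Subgroup.mem_center_iff]
  intro x
  have h2 : x ∈ Subgroup.centralizer {g} := h1 (by rw [hS]; trivial)
  rw [Subgroup.mem_centralizer_singleton_iff] at h2
  exact h2

/-- A subgroup generated by elements of odd order lies in the commutator subgroup of index four. -/
lemma range_le_of_odd {S : Set G} (hS : Subgroup.closure S = ⊤)
    (hodd : ∀ x ∈ S, ∃ n, Odd n ∧ x ^ n = 1) (φ : G →* H) (h4 : (commutator H).index = 4) :
    φ.range ≤ commutator H := by
  rw [MonoidHom.range_eq_map, ← hS, MonoidHom.map_closure, Subgroup.closure_le]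
  rintro _ ⟨x, hx, rfl⟩
  obtain ⟨n, hn, hxn⟩ := hodd x hx
  rw [SetLike.mem_coe, ← QuotientGroup.eq_one_iff]
  have hc : Nat.card (H ⧸ commutator H) = 4 := h4
  have h5 : ((φ x : H) : H ⧸ commutator H) ^ 4 = 1 := by
    rw [← hc]; exact pow_card_eq_one'
  have h6 : ((φ x : H) : H ⧸ commutator H) ^ n = 1 := by
    rw [← QuotientGroup.mk_pow, ← map_pow, hxn, map_one]; rfl
  have h7 : Nat.Coprime n 4 := by
    have := Nat.Coprime.pow_right 2 (Nat.coprime_two_right.mpr hn)
    exact this
  have h8 := orderOf_dvd_of_pow_eq_one h5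
  have h9 := orderOf_dvd_of_pow_eq_one h6
  have h10 : orderOf ((φ x : H) : H ⧸ commutator H) ∣ 1 := by
    rw [← h7.gcd_eq_one]
    exact Nat.dvd_gcd h9 h8
  rw [Nat.dvd_one, orderOf_eq_one_iff] at h10
  exact h10

/-- Images of perfect groups. -/
lemma range_le_of_perfect (hG : commutator G = ⊤) (φ : G →* H) : φ.range ≤ commutator H := by
  rw [MonoidHom.range_eq_map, ← hG]
  exact Subgroup.map_le_iff_le_comap.mpr fun x hx => map_mem_commutator φ x hx

lemma eq_of_le_of_card [Finite H] {A B : Subgroup H} (h : A ≤ B) {a : ℕ} (ha : Nat.card A = a)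
    (hb : Nat.card B = a) : A = B :=
  Subgroup.eq_of_le_of_card_ge h (by rw [ha, hb])

/-- The cardinality of the range. -/
lemma card_range_mul_card_ker (φ : G →* H) :
    Nat.card φ.range * Nat.card φ.ker = Nat.card G := by
  rw [mul_comm, ← Subgroup.card_mul_index φ.ker, Subgroup.index_ker]

/-- Main reduction. -/
theorem commutator_quot_equiv [Finite G] [Finite H] (φ : G →* H)
    (hle : φ.range ≤ commutator H)
    {k : ℕ} (hk : Nat.card φ.ker = k) {i : ℕ} (hi : (commutator H).index = i)
    (hcard : i * Nat.card G = Nat.card H * k)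
    (hZ : ∀ g, (∀ x, φ (g * x) = φ (x * g)) → g ∈ Subgroup.center G) :
    Nonempty ((commutator H ⧸ Subgroup.center (commutator H)) ≃* (G ⧸ Subgroup.center G)) := by
  apply quot_center_of_hom φ _ hZ
  have h1 := card_range_mul_card_ker φ
  have h2 := Subgroup.card_mul_index (commutator H)
  have hH : 0 < Nat.card H := Nat.card_pos
  have hk0 : 0 < k := by rw [← hk]; exact Nat.card_pos
  rw [hk] at h1
  rw [hi] at h2
  have hi0 : 0 < i := by
    rcases Nat.eq_zero_or_pos i with h0 | h0
    · rw [h0, mul_zero] at h2; omega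
    · exact h0
  apply Subgroup.eq_of_le_of_card_ge hle
  rw [← h1, ← h2] at hcard
  have h3 : (Nat.card φ.range) * (i * k) = Nat.card (commutator H) * (i * k) := by
    rw [← mul_assoc, ← mul_assoc, mul_comm _ i, mul_assoc, hcard]
  exact (Nat.eq_of_mul_eq_mul_right (Nat.mul_pos hi0 hk0) h3).ge

end Group

/-! ### Linear representations -/

/-- A homomorphism to linear automorphisms from one to endomorphisms. -/
noncomputable def repHom {G F V : Type*} [Group G] [Field F] [AddCommGroup V] [Module F V]
    (f : G →* Module.End F V) : G →* (V ≃ₗ[F] V) :=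
  (LinearMap.GeneralLinearGroup.generalLinearEquiv F V).toMonoidHom.comp f.toHomUnits

lemma repHom_apply {G F V : Type*} [Group G] [Field F] [AddCommGroup V] [Module F V]
    (f : G →* Module.End F V) (g : G) (v : V) : repHom f g v = f g v := rfl

end CfsgLib.Exc
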