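import Cfsg.Agent.Lib.Exc

/-!
# Exceptional isomorphisms II: `PΩ₃ ≅ PSL₂`, `PΩ₄⁺ ≅ PSL₂ × PSL₂`
-/

namespace CfsgLib.Exc

open Module CfsgLib.Quad CfsgLib.IsomDecomp Cfsg
open Matrix (SpecialLinearGroup ProjectiveSpecialLinearGroup)
open scoped commutatorElement MatrixGroups

set_option linter.unusedSimpArgs false
set_option linter.unusedSectionVars false

variable {F : Type*} [Field F]

/-! ### Generation by elements of odd order -/

lemma transvection_pow {ι : Type*} [Fintype ι] [DecidableEq ι] {i j : ι} (hij : i ≠ j) (c : F)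
    (n : ℕ) : (SpecialLinearGroup.transvection hij c) ^ n =
      SpecialLinearGroup.transvection hij (n * c) := by
  induction n with
  | zero =>
    apply Subtype.ext
    change (1 : Matrix ι ι F) = Matrix.transvection i j (((0 : ℕ) : F) * c)
    rw [Nat.cast_zero, zero_mul, Matrix.transvection_zero]
  | succ n ih =>
    rw [pow_succ, ih]
    apply Subtype.ext
    change Matrix.transvection i j (n * c) * Matrix.transvection i j c =
      Matrix.transvection i j (((n + 1 : ℕ) : F) * c)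
    rw [Matrix.transvection_mul_transvection_same i j hij]
    congr 1
    push_cast
    ring

lemma exists_odd_gen [Finite F] (h2 : (2 : F) ≠ 0) (ι : Type*) [Fintype ι] [DecidableEq ι]
    [Nontrivial ι] : ∃ S : Set (SpecialLinearGroup ι F), Subgroup.closure S = ⊤ ∧
      ∀ x ∈ S, ∃ n, Odd n ∧ x ^ n = 1 := by
  refine ⟨_, CfsgLib.Linear.closure_transvections, ?_⟩
  rintro _ ⟨i, j, hij, c, rfl⟩
  obtain ⟨p, hp⟩ := CharP.exists F
  have := Fintype.ofFinite F
  have hpp : p.Prime := CharP.char_is_prime F p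
  refine ⟨p, hpp.odd_of_ne_two ?_, ?_⟩
  · rintro rfl
    exact h2 (CharP.cast_eq_zero F 2)
  · rw [transvection_pow, CharP.cast_eq_zero, zero_mul]
    apply Subtype.ext
    change Matrix.transvection i j 0 = 1
    rw [Matrix.transvection_zero]

lemma closure_prod {G : Type*} [Group G] {S : Set G} (hS : Subgroup.closure S = ⊤) :
    Subgroup.closure ((fun x : G => ((x, 1) : G × G)) '' S ∪ (fun y : G => ((1, y) : G × G)) '' S)
      = ⊤ := by
  set T := Subgroup.closure ((fun x : G => ((x, 1) : G × G)) '' S ∪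
    (fun y : G => ((1, y) : G × G)) '' S) with hT
  have h1 : Subgroup.closure S ≤ T.comap (MonoidHom.inl G G) := by
    rw [Subgroup.closure_le]
    intro x hx
    exact Subgroup.subset_closure (Or.inl ⟨x, hx, rfl⟩)
  have h2 : Subgroup.closure S ≤ T.comap (MonoidHom.inr G G) := by
    rw [Subgroup.closure_le]
    intro x hx
    exact Subgroup.subset_closure (Or.inr ⟨x, hx, rfl⟩)
  rw [hS] at h1 h2
  rw [eq_top_iff]
  rintro ⟨a, b⟩ _
  have h3 : ((a, b) : G × G) = (a, 1) * (1, b) := by simp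
  rw [h3]
  exact mul_mem (h1 (Subgroup.mem_top a)) (h2 (Subgroup.mem_top b))

lemma commutator_prod_eq_top {G : Type*} [Group G] (hG : commutator G = ⊤) :
    commutator (G × G) = ⊤ := by
  rw [eq_top_iff]
  rintro ⟨a, b⟩ _
  have h3 : ((a, b) : G × G) = MonoidHom.inl G G a * MonoidHom.inr G G b := by simp
  rw [h3]
  exact mul_mem (map_mem_commutator _ a (by rw [hG]; trivial))
    (map_mem_commutator _ b (by rw [hG]; trivial))

/-! ### The determinant form on `2 × 2` matrices -/

/-- The determinant as a quadratic form. -/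
noncomputable def detQ (F : Type*) [Field F] : QuadraticForm F (Matrix (Fin 2) (Fin 2) F) :=
  QuadraticMap.linMulLin
      ((LinearMap.proj 0).comp (LinearMap.proj 0 : (Fin 2 → Fin 2 → F) →ₗ[F] Fin 2 → F))
      ((LinearMap.proj 1).comp (LinearMap.proj 1 : (Fin 2 → Fin 2 → F) →ₗ[F] Fin 2 → F)) -
    QuadraticMap.linMulLin
      ((LinearMap.proj 1).comp (LinearMap.proj 0 : (Fin 2 → Fin 2 → F) →ₗ[F] Fin 2 → F))
      ((LinearMap.proj 0).comp (LinearMap.proj 1 : (Fin 2 → Fin 2 → F) →ₗ[F] Fin 2 → F))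

lemma detQ_apply (X : Matrix (Fin 2) (Fin 2) F) : detQ F X = X.det := by
  rw [Matrix.det_fin_two]
  rfl

/-- Coordinates. -/
noncomputable def eDet (F : Type*) [Field F] :
    (Fin 2 ⊕ Fin 2 → F) ≃ₗ[F] Matrix (Fin 2) (Fin 2) F where
  toFun v := !![v (.inl 0), - v (.inl 1); v (.inr 1), v (.inr 0)]
  map_add' v w := by
    ext i j
    fin_cases i <;> fin_cases j <;> simp <;> ring
  map_smul' c v := by
    ext i j
    fin_cases i <;> fin_cases j <;> simp
  invFun X := Sum.elim ![X 0 0, - X 0 1] ![X 1 1, X 1 0]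
  left_inv v := by
    funext i
    rcases i with i | i <;> fin_cases i <;> simp
  right_inv X := by
    ext i j
    fin_cases i <;> fin_cases j <;> simp

lemma eDet_apply (v : Fin 2 ⊕ Fin 2 → F) : detQ F (eDet F v) = quadFormPlus 2 F v := by
  rw [detQ_apply, Matrix.det_fin_two]
  simp [eDet, quadFormPlus]

/-- The action of `SL₂ × SL₂` on matrices. -/
noncomputable def mulRep (F : Type*) [Field F] :
    SL(2, F) × SL(2, F) →* Module.End F (Matrix (Fin 2) (Fin 2) F) where
  toFun g :=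
    { toFun := fun X => (g.1 : Matrix (Fin 2) (Fin 2) F) * X * ((g.2⁻¹ : SL(2, F)) : Matrix (Fin 2) (Fin 2) F)
      map_add' := fun X Y => by rw [Matrix.mul_add, Matrix.add_mul]
      map_smul' := fun c X => by
        rw [Matrix.mul_smul, Matrix.smul_mul]; rfl }
  map_one' := by
    ext X
    simp
  map_mul' g h := by
    apply LinearMap.ext
    intro X
    change ((g.1 * h.1 : SL(2, F)) : Matrix (Fin 2) (Fin 2) F) * X *
      (((g.2 * h.2)⁻¹ : SL(2, F)) : Matrix (Fin 2) (Fin 2) F) =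
      (g.1 : Matrix (Fin 2) (Fin 2) F) * ((h.1 : Matrix (Fin 2) (Fin 2) F) * X *
      ((h.2⁻¹ : SL(2, F)) : Matrix (Fin 2) (Fin 2) F)) *
      ((g.2⁻¹ : SL(2, F)) : Matrix (Fin 2) (Fin 2) F)
    rw [_root_.mul_inv_rev]
    change ((g.1 : Matrix (Fin 2) (Fin 2) F) * (h.1 : Matrix (Fin 2) (Fin 2) F)) * X *
      (((h.2⁻¹ : SL(2, F)) : Matrix (Fin 2) (Fin 2) F) *
      ((g.2⁻¹ : SL(2, F)) : Matrix (Fin 2) (Fin 2) F)) = _
    simp only [Matrix.mul_assoc]

lemma mulRep_apply (g : SL(2, F) × SL(2, F)) (X : Matrix (Fin 2) (Fin 2) F) :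
    mulRep F g X = (g.1 : Matrix (Fin 2) (Fin 2) F) * X *
      ((g.2⁻¹ : SL(2, F)) : Matrix (Fin 2) (Fin 2) F) := rfl

/-- The homomorphism to the orthogonal group. -/
noncomputable def phi4 (F : Type*) [Field F] : SL(2, F) × SL(2, F) →* O (detQ F) :=
  (repHom (mulRep F)).codRestrict (O (detQ F)) fun g => by
    rw [mem_O]
    intro X
    rw [repHom_apply, detQ_apply, detQ_apply, mulRep_apply, Matrix.det_mul, Matrix.det_mul,
      g.1.2, (g.2⁻¹).2]
    ring

lemma phi4_apply (g : SL(2, F) × SL(2, F)) (X : Matrix (Fin 2) (Fin 2) F) :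
    (phi4 F g).1 X = (g.1 : Matrix (Fin 2) (Fin 2) F) * X *
      ((g.2⁻¹ : SL(2, F)) : Matrix (Fin 2) (Fin 2) F) := rfl

lemma phi4_eq_iff (g h : SL(2, F) × SL(2, F)) : phi4 F g = phi4 F h ↔
    ∀ X : Matrix (Fin 2) (Fin 2) F, (g.1 : Matrix (Fin 2) (Fin 2) F) * X *
      ((g.2⁻¹ : SL(2, F)) : Matrix (Fin 2) (Fin 2) F) = (h.1 : Matrix (Fin 2) (Fin 2) F) * X *
      ((h.2⁻¹ : SL(2, F)) : Matrix (Fin 2) (Fin 2) F) := by
  constructor
  · intro h1 X
    rw [← phi4_apply, h1, phi4_apply]
  · intro h1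
    apply O_ext
    intro X
    rw [phi4_apply, h1, phi4_apply]

lemma mul_inv_coe (A : SL(2, F)) : (A : Matrix (Fin 2) (Fin 2) F) *
    ((A⁻¹ : SL(2, F)) : Matrix (Fin 2) (Fin 2) F) = 1 := by
  exact congrArg Subtype.val (mul_inv_cancel A)

lemma inv_mul_coe (A : SL(2, F)) : ((A⁻¹ : SL(2, F)) : Matrix (Fin 2) (Fin 2) F) *
    (A : Matrix (Fin 2) (Fin 2) F) = 1 := by
  exact congrArg Subtype.val (inv_mul_cancel A)

/-- The kernel. -/
lemma card_ker_phi4 [Fintype F] : Nat.card (phi4 F).ker = Nat.gcd 2 (Fintype.card F - 1) := by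
  have h0 : Nat.card (Subgroup.center SL(2, F)) = Nat.gcd 2 (Fintype.card F - 1) := by
    have := CfsgLib.Linear.card_center_SL (F := F) (ι := Fin 2)
    rwa [Fintype.card_fin] at this
  rw [← h0]
  symm
  apply Nat.card_congr
  refine Equiv.ofBijective (fun A => ⟨(A.1, A.1), ?_⟩) ⟨?_, ?_⟩
  · rw [MonoidHom.mem_ker, ← map_one (phi4 F), phi4_eq_iff]
    intro X
    have hA := A.2
    rw [Matrix.SpecialLinearGroup.mem_center_iff] at hA
    obtain ⟨r, hr, hrA⟩ := hA
    change (A.1 : Matrix (Fin 2) (Fin 2) F) * X * ((A.1⁻¹ : SL(2, F)) : Matrix _ _ F) =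
      ((1 : SL(2, F)) : Matrix (Fin 2) (Fin 2) F) * X * (((1 : SL(2, F))⁻¹ : SL(2, F)) : Matrix _ _ F)
    have h1 : (A.1 : Matrix (Fin 2) (Fin 2) F) * X = X * A.1 := by
      rw [← hrA, (Matrix.scalar_commute r (fun _ => Commute.all _ _) X).eq]
    rw [h1, Matrix.mul_assoc, mul_inv_coe]
    simp
  · intro A A' h
    have := congrArg (fun z : (phi4 F).ker => z.1.1) h
    exact Subtype.ext this
  · rintro ⟨⟨A, B⟩, hAB⟩
    rw [MonoidHom.mem_ker, ← map_one (phi4 F), phi4_eq_iff] at hAB
    have h1 : ∀ X : Matrix (Fin 2) (Fin 2) F, (A : Matrix (Fin 2) (Fin 2) F) * X =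
        X * (B : Matrix (Fin 2) (Fin 2) F) := by
      intro X
      have h2 := hAB X
      change (A : Matrix (Fin 2) (Fin 2) F) * X * ((B⁻¹ : SL(2, F)) : Matrix (Fin 2) (Fin 2) F) =
        ((1 : SL(2, F)) : Matrix (Fin 2) (Fin 2) F) * X * (((1 : SL(2, F))⁻¹ : SL(2, F)) : Matrix _ _ F) at h2
      rw [_root_.inv_one] at h2
      change (A : Matrix (Fin 2) (Fin 2) F) * X * ((B⁻¹ : SL(2, F)) : Matrix (Fin 2) (Fin 2) F) =
        (1 : Matrix (Fin 2) (Fin 2) F) * X * 1 at h2
      rw [Matrix.one_mul, Matrix.mul_one] at h2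
      calc (A : Matrix (Fin 2) (Fin 2) F) * X = (A : Matrix (Fin 2) (Fin 2) F) * X *
            (((B⁻¹ : SL(2, F)) : Matrix (Fin 2) (Fin 2) F) * (B : Matrix (Fin 2) (Fin 2) F)) := by
              rw [inv_mul_coe, Matrix.mul_one]
        _ = X * (B : Matrix (Fin 2) (Fin 2) F) := by rw [← Matrix.mul_assoc, h2]
    have hAB' : A = B := by
      apply Subtype.ext
      have := h1 1
      rwa [Matrix.mul_one, Matrix.one_mul] at this
    refine ⟨⟨A, ?_⟩, ?_⟩
    · rw [Subgroup.mem_center_iff]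
      intro C
      apply Subtype.ext
      change (C : Matrix (Fin 2) (Fin 2) F) * (A : Matrix (Fin 2) (Fin 2) F) =
        (A : Matrix (Fin 2) (Fin 2) F) * (C : Matrix (Fin 2) (Fin 2) F)
      rw [h1, ← hAB']
    · subst hAB'
      rfl


/-- The quotient of a square by its centre. -/
lemma prod_quot_center (G : Type*) [Group G] :
    Nonempty (((G × G) ⧸ Subgroup.center (G × G)) ≃* (G ⧸ Subgroup.center G) ×
      (G ⧸ Subgroup.center G)) := by
  let f : G × G →* (G ⧸ Subgroup.center G) × (G ⧸ Subgroup.center G) :=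
    MonoidHom.prodMap (QuotientGroup.mk' (Subgroup.center G)) (QuotientGroup.mk' (Subgroup.center G))
  have hf : Function.Surjective f := by
    rintro ⟨a, b⟩
    obtain ⟨x, rfl⟩ := QuotientGroup.mk'_surjective _ a
    obtain ⟨y, rfl⟩ := QuotientGroup.mk'_surjective _ b
    exact ⟨(x, y), rfl⟩
  have hk : f.ker = Subgroup.center (G × G) := by
    ext ⟨a, b⟩
    rw [MonoidHom.mem_ker, Prod.ext_iff]
    change ((a : G ⧸ Subgroup.center G) = 1 ∧ (b : G ⧸ Subgroup.center G) = 1) ↔ _
    rw [QuotientGroup.eq_one_iff, QuotientGroup.eq_one_iff, Subgroup.mem_center_iff,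
      Subgroup.mem_center_iff, Subgroup.mem_center_iff]
    constructor
    · rintro ⟨h1, h2⟩ ⟨c, d⟩
      rw [Prod.mk_mul_mk, Prod.mk_mul_mk, h1, h2]
    · intro h
      constructor
      · intro c
        exact congrArg Prod.fst (h (c, 1))
      · intro c
        exact congrArg Prod.snd (h (1, c))
  exact ⟨(QuotientGroup.quotientMulEquivOfEq hk).symm.trans
    (QuotientGroup.quotientKerEquivOfSurjective f hf)⟩

lemma exists_sq_ne_one [Fintype F] (hF : 4 ≤ Fintype.card F) : ∃ a : F, a ≠ 0 ∧ a ^ 2 ≠ 1 := by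
  classical
  by_contra hcon
  push Not at hcon
  have h1 : (Finset.univ : Finset F) ⊆ {0, 1, -1} := by
    intro a _
    simp only [Finset.mem_insert, Finset.mem_singleton]
    by_cases ha : a = 0
    · exact Or.inl ha
    · right
      have h3 : (a - 1) * (a + 1) = 0 := by linear_combination hcon a ha
      rcases mul_eq_zero.mp h3 with h4 | h4
      · exact Or.inl (sub_eq_zero.mp h4)
      · exact Or.inr (eq_neg_of_add_eq_zero_left h4)
  have h2 := Finset.card_le_card h1
  rw [Finset.card_univ] at h2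
  have h3 : ({0, 1, -1} : Finset F).card ≤ 3 := Finset.card_le_three
  omega

/-- `PΩ₄⁺(q) ≅ PSL₂(q) × PSL₂(q)`. -/
theorem POmega_four_plus [Fintype F] (hF : 3 ≤ Fintype.card F) :
    Nonempty (POmega F (quadFormPlus 2 F) ≃*
      ProjectiveSpecialLinearGroup (Fin 2) F × ProjectiveSpecialLinearGroup (Fin 2) F) := by
  have hN : (QuadraticMap.polarBilin (detQ F)).Nondegenerate := by
    have h1 := hypSum_nondegenerate (F := F) 2 (zeroQ_nondegenerate (F := F))
    exact nondegenerate_congr ((ePlus 2 F).symm.trans (eDet F)) (fun u => by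
      rw [LinearEquiv.trans_apply, eDet_apply, ← ePlus_apply, LinearEquiv.apply_symm_apply]) h1
  have hfin : finrank F (Matrix (Fin 2) (Fin 2) F) = 4 := by
    rw [Module.finrank_matrix, Module.finrank_self]; rfl
  have hH : Nat.card (O (detQ F)) = 2 * Nat.card F ^ 2 * (Nat.card F ^ 2 - 1) *
      (Nat.card F ^ 2 - 1) := by
    rw [← Nat.card_congr (isoMat (quadFormPlus 2 F) (detQ F) (eDet F) eDet_apply).toEquiv]
    have := card_O_plus (F := F) 1
    rw [this]
    simp
  rw [Nat.card_eq_fintype_card (α := F)] at hH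
  obtain ⟨r, hr⟩ : ∃ r, Fintype.card F = r + 1 := ⟨Fintype.card F - 1, by omega⟩
  have hsq : Fintype.card F ^ 2 - 1 = r * (r + 2) := by
    rw [hr]
    have : (r + 1) ^ 2 = r * (r + 2) + 1 := by ring
    omega
  have hG : Nat.card (SL(2, F) × SL(2, F)) = ((r + 1) * (r * (r + 2))) ^ 2 := by
    rw [Nat.card_prod, CfsgLib.SL2.card_SL2, hr, Nat.add_sub_cancel]; ring
  rw [hsq, hr] at hH
  have hr0 : 0 < r := by omega
  have : Finite (O (detQ F)) := (Nat.card_pos_iff.mp (by
    rw [hH]
    positivity)).2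
  have hZ : ∀ g, (∀ x, phi4 F (g * x) = phi4 F (x * g)) →
      g ∈ Subgroup.center (SL(2, F) × SL(2, F)) := by
    rintro ⟨A, B⟩ h
    rw [Subgroup.mem_center_iff]
    rintro ⟨C, D⟩
    have h1 := (phi4_eq_iff _ _).mp (h (C, 1)) (B : Matrix (Fin 2) (Fin 2) F)
    have h2 := (phi4_eq_iff _ _).mp (h (1, D)) (D * B : SL(2, F))
    rw [Prod.mk_mul_mk, Prod.mk_mul_mk] at h1 h2
    rw [Prod.mk_mul_mk, Prod.mk_mul_mk]
    simp only [_root_.mul_one, _root_.one_mul] at h1 h2
    rw [_root_.mul_inv_rev, _root_.mul_inv_rev] at h2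
    have h3 : (A * C : SL(2, F)) * B * B⁻¹ = (C * A : SL(2, F)) * B * B⁻¹ := Subtype.ext h1
    have h4 : A * (D * B) * (D⁻¹ * B⁻¹) = A * (D * B) * (B⁻¹ * D⁻¹) := Subtype.ext h2
    rw [mul_inv_cancel_right, mul_inv_cancel_right] at h3
    have h5 := mul_left_cancel h4
    rw [← _root_.mul_inv_rev, ← _root_.mul_inv_rev] at h5
    rw [Prod.mk.injEq]
    exact ⟨h3.symm, inv_injective h5.symm⟩
  have hfinal : Nonempty ((commutator (O (detQ F)) ⧸ Subgroup.center (commutator (O (detQ F)))) ≃*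
      ((SL(2, F) × SL(2, F)) ⧸ Subgroup.center (SL(2, F) × SL(2, F)))) := by
    by_cases h2 : (2 : F) = 0
    · have hc2 : ringChar F = 2 := by
        have h3 := (ringChar.spec F 2).mp (by exact_mod_cast h2)
        rcases (Nat.dvd_prime Nat.prime_two).mp h3 with h4 | h4
        · exact absurd h4 CharP.ringChar_ne_one
        · exact h4
      have hev : Fintype.card F % 2 = 0 := FiniteField.even_card_iff_char_two.mp hc2
      obtain ⟨a, ha, ha2⟩ := exists_sq_ne_one (F := F) (by omega)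
      have hper : commutator (SL(2, F) × SL(2, F)) = ⊤ :=
        commutator_prod_eq_top (Matrix.SL2.commutator_eq_top ha ha2)
      refine commutator_quot_equiv (phi4 F) (range_le_of_perfect hper _) (k := 1) ?_
        (index_commutator_even h2 hN (by rw [hfin]; norm_num) (Or.inl ⟨a, ha, fun h => ha2 (by
          rw [h]; ring)⟩)) ?_ hZ
      · rw [card_ker_phi4]
        have h5 : (Fintype.card F - 1) % 2 = 1 := by omega
        rw [Nat.gcd_comm]
        exact Nat.Coprime.gcd_eq_one (Nat.coprime_two_right.mpr (Nat.odd_iff.mpr h5))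
      · rw [hG, hH]; ring
    · have hodd : Fintype.card F % 2 = 1 := FiniteField.odd_card_of_char_ne_two (fun hc => h2 (by
        have := ringChar.Nat.cast_ringChar (R := F)
        rw [hc] at this
        exact_mod_cast this))
      obtain ⟨S, hS, hS2⟩ := exists_odd_gen h2 (Fin 2)
      refine commutator_quot_equiv (phi4 F) (range_le_of_odd (closure_prod hS) ?_ _
        (index_commutator_odd h2 hN (by rw [hfin]; norm_num))) (k := 2) ?_
        (index_commutator_odd h2 hN (by rw [hfin]; norm_num)) ?_ hZ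
      · rintro _ (⟨x, hx, rfl⟩ | ⟨x, hx, rfl⟩)
        · obtain ⟨n, hn, hxn⟩ := hS2 x hx
          exact ⟨n, hn, by rw [Prod.pow_mk, hxn, one_pow]; rfl⟩
        · obtain ⟨n, hn, hxn⟩ := hS2 x hx
          exact ⟨n, hn, by rw [Prod.pow_mk, hxn, one_pow]; rfl⟩
      · rw [card_ker_phi4]
        have h5 : (Fintype.card F - 1) % 2 = 0 := by omega
        exact Nat.gcd_eq_left (Nat.dvd_of_mod_eq_zero h5)
      · rw [hG, hH]; ring
  obtain ⟨e⟩ := hfinal
  obtain ⟨e2⟩ := prod_quot_center SL(2, F)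
  exact ⟨((POmegaCongr (quadFormPlus 2 F) (detQ F) (eDet F) eDet_apply).trans e).trans e2⟩

/-! ### `PΩ₃ ≅ PSL₂` -/

/-- The underlying space of the form `x² + yz`. -/
abbrev V3 (F : Type*) := Unit ⊕ (Fin 1 ⊕ Fin 1) → F

/-- Traceless matrices. -/
noncomputable def eMat (F : Type*) [Field F] : V3 F →ₗ[F] Matrix (Fin 2) (Fin 2) F where
  toFun v := !![v (.inl ()), v (.inr (.inl 0)); v (.inr (.inr 0)), - v (.inl ())]
  map_add' v w := by
    ext i j
    fin_cases i <;> fin_cases j <;> simp <;> ring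
  map_smul' c v := by
    ext i j
    fin_cases i <;> fin_cases j <;> simp

/-- The coordinates of a traceless matrix. -/
noncomputable def eInv (F : Type*) [Field F] : Matrix (Fin 2) (Fin 2) F →ₗ[F] V3 F where
  toFun X := Sum.elim (fun _ => X 0 0) (Sum.elim (fun _ => X 0 1) (fun _ => X 1 0))
  map_add' v w := by
    funext i
    rcases i with i | i | i <;> simp
  map_smul' c v := by
    funext i
    rcases i with i | i | i <;> simp

lemma eInv_eMat (v : V3 F) : eInv F (eMat F v) = v := by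
  funext i
  rcases i with i | i | i
  · simp [eInv, eMat]
  · have : i = 0 := Subsingleton.elim _ _
    subst this
    simp [eInv, eMat]
  · have : i = 0 := Subsingleton.elim _ _
    subst this
    simp [eInv, eMat]

lemma trace_eMat (v : V3 F) : (eMat F v).trace = 0 := by
  rw [Matrix.trace_fin_two]
  simp [eMat]

lemma eMat_eInv {X : Matrix (Fin 2) (Fin 2) F} (hX : X.trace = 0) : eMat F (eInv F X) = X := by
  rw [Matrix.trace_fin_two] at hX
  ext i j
  fin_cases i <;> fin_cases j
  · simp [eInv, eMat]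
  · simp [eInv, eMat]
  · simp [eInv, eMat]
  · simp only [eInv, eMat]
    simp
    linear_combination -hX

/-- The form. -/
noncomputable def q3 (F : Type*) [Field F] : QuadraticForm F (V3 F) :=
  (hypSum 1 (sqQ F)).comp (eOdd 1 F).toLinearMap

lemma q3_apply (v : V3 F) : q3 F v = quadFormOdd 1 F v := by
  rw [q3, QuadraticMap.comp_apply]
  exact eOdd_apply 1 v

lemma q3_eq_det (v : V3 F) : q3 F v = - (eMat F v).det := by
  rw [q3_apply, Matrix.det_fin_two]
  simp [eMat, quadFormOdd, quadFormPlus]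
  ring

lemma trace_conj (A : SL(2, F)) (X : Matrix (Fin 2) (Fin 2) F) :
    ((A : Matrix (Fin 2) (Fin 2) F) * X * ((A⁻¹ : SL(2, F)) : Matrix (Fin 2) (Fin 2) F)).trace =
      X.trace := by
  rw [Matrix.trace_mul_comm, ← Matrix.mul_assoc, inv_mul_coe, Matrix.one_mul]

/-- The conjugation representation. -/
noncomputable def conjRep (F : Type*) [Field F] : SL(2, F) →* Module.End F (V3 F) where
  toFun A := (eInv F).comp ((mulRep F (A, A)).comp (eMat F))
  map_one' := by
    have h1 : mulRep F ((1 : SL(2, F)), (1 : SL(2, F))) = 1 := map_one (mulRep F)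
    rw [h1]
    apply LinearMap.ext
    intro v
    exact eInv_eMat v
  map_mul' A B := by
    have h1 : mulRep F ((A * B : SL(2, F)), (A * B : SL(2, F))) = mulRep F (A, A) * mulRep F (B, B) :=
      map_mul (mulRep F) (A, A) (B, B)
    rw [h1]
    apply LinearMap.ext
    intro v
    change eInv F (mulRep F (A, A) (mulRep F (B, B) (eMat F v))) =
      eInv F (mulRep F (A, A) (eMat F (eInv F (mulRep F (B, B) (eMat F v)))))
    rw [eMat_eInv (X := mulRep F (B, B) (eMat F v)) (by
      rw [mulRep_apply, trace_conj, trace_eMat])]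

lemma eMat_conjRep (A : SL(2, F)) (v : V3 F) : eMat F (conjRep F A v) =
    (A : Matrix (Fin 2) (Fin 2) F) * eMat F v * ((A⁻¹ : SL(2, F)) : Matrix (Fin 2) (Fin 2) F) := by
  change eMat F (eInv F (mulRep F (A, A) (eMat F v))) = _
  rw [eMat_eInv (X := mulRep F (A, A) (eMat F v)) (by rw [mulRep_apply, trace_conj, trace_eMat]),
    mulRep_apply]

/-- The homomorphism to the orthogonal group. -/
noncomputable def phi3 (F : Type*) [Field F] : SL(2, F) →* O (q3 F) :=
  (repHom (conjRep F)).codRestrict (O (q3 F)) fun g => by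
    rw [mem_O]
    intro X
    rw [repHom_apply, q3_eq_det, q3_eq_det, eMat_conjRep, Matrix.det_mul, Matrix.det_mul,
      g.2, (g⁻¹).2]
    ring

lemma phi3_apply (A : SL(2, F)) (v : V3 F) : (phi3 F A).1 v = conjRep F A v := rfl

lemma commute_of_phi3 (A : SL(2, F)) (h : phi3 F A = 1) (X : Matrix (Fin 2) (Fin 2) F)
    (hX : X.trace = 0) : (A : Matrix (Fin 2) (Fin 2) F) * X = X * A := by
  have h1 : (phi3 F A).1 (eInv F X) = eInv F X := by rw [h]; rfl
  have h2 := congrArg (eMat F) h1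
  rw [phi3_apply, eMat_conjRep, eMat_eInv hX] at h2
  calc (A : Matrix (Fin 2) (Fin 2) F) * X = (A : Matrix (Fin 2) (Fin 2) F) * X *
        (((A⁻¹ : SL(2, F)) : Matrix (Fin 2) (Fin 2) F) * (A : Matrix (Fin 2) (Fin 2) F)) := by
          rw [inv_mul_coe, Matrix.mul_one]
    _ = X * (A : Matrix (Fin 2) (Fin 2) F) := by rw [← Matrix.mul_assoc, h2]

lemma ker_phi3 : (phi3 F).ker = Subgroup.center SL(2, F) := by
  ext A
  rw [MonoidHom.mem_ker]
  constructor
  · intro h
    have h1 := commute_of_phi3 A h !![0, 1; 0, 0] (by simp [Matrix.trace_fin_two])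
    have h2 := commute_of_phi3 A h !![0, 0; 1, 0] (by simp [Matrix.trace_fin_two])
    rw [Matrix.SpecialLinearGroup.mem_center_iff]
    have e00 := congrFun (congrFun h1 0) 1
    have e01 := congrFun (congrFun h1 0) 0
    have e10 := congrFun (congrFun h2 0) 0
    simp [Matrix.mul_apply, Fin.sum_univ_two] at e00 e01 e10
    have hdet := A.2
    rw [Matrix.det_fin_two] at hdet
    refine ⟨(A : Matrix (Fin 2) (Fin 2) F) 0 0, ?_, ?_⟩
    · rw [Fintype.card_fin]
      change (A : Matrix (Fin 2) (Fin 2) F) 0 0 = (A : Matrix (Fin 2) (Fin 2) F) 1 1 at e00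
      rw [e10, ← e00] at hdet
      linear_combination hdet
    · ext i j
      fin_cases i <;> fin_cases j <;> simp [e00, e01, e10]
  · intro h
    apply O_ext
    intro v
    rw [phi3_apply]
    have h1 : eMat F (conjRep F A v) = eMat F v := by
      rw [eMat_conjRep]
      rw [Matrix.SpecialLinearGroup.mem_center_iff] at h
      obtain ⟨r, hr, hrA⟩ := h
      have h1 : (A : Matrix (Fin 2) (Fin 2) F) * eMat F v = eMat F v * A := by
        rw [← hrA, (Matrix.scalar_commute r (fun _ => Commute.all _ _) _).eq]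
      rw [h1, Matrix.mul_assoc, mul_inv_coe, Matrix.mul_one]
    have h2 := congrArg (eInv F) h1
    rwa [eInv_eMat, eInv_eMat] at h2

lemma sq_eq_one_of_mem_center_SL2 {A : SL(2, F)} (h : A ∈ Subgroup.center SL(2, F)) :
    A ^ 2 = 1 := by
  rw [Matrix.SpecialLinearGroup.mem_center_iff, Fintype.card_fin] at h
  obtain ⟨r, hr, hrA⟩ := h
  rw [pow_two]
  apply Subtype.ext
  change (A : Matrix (Fin 2) (Fin 2) F) * (A : Matrix (Fin 2) (Fin 2) F) = 1
  rw [← hrA, ← map_mul, ← pow_two, hr, map_one]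

/-- `PΩ₃(q) ≅ PSL₂(q)`. -/
theorem POmega_three [Fintype F] (hF : Odd (Fintype.card F)) :
    Nonempty (POmega F (quadFormOdd 1 F) ≃* ProjectiveSpecialLinearGroup (Fin 2) F) := by
  have h2 : (2 : F) ≠ 0 := by
    intro h2
    have hc2 : ringChar F = 2 := by
      have h3 := (ringChar.spec F 2).mp (by exact_mod_cast h2)
      rcases (Nat.dvd_prime Nat.prime_two).mp h3 with h4 | h4
      · exact absurd h4 CharP.ringChar_ne_one
      · exact h4
    have hev : Fintype.card F % 2 = 0 := FiniteField.even_card_iff_char_two.mp hc2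
    have := Nat.odd_iff.mp hF
    omega
  have hF1 : 1 < Fintype.card F := Fintype.one_lt_card
  have hN : (QuadraticMap.polarBilin (q3 F)).Nondegenerate := by
    have h1 := hypSum_nondegenerate (F := F) 1 (sqQ_nondegenerate (F := F) h2)
    exact nondegenerate_congr (eOdd 1 F).symm (fun u => by
      rw [q3_apply, ← eOdd_apply, LinearEquiv.apply_symm_apply]) h1
  have hfin : finrank F (V3 F) = 3 := by
    rw [Module.finrank_fintype_fun_eq_card]; rfl
  have hH : Nat.card (O (q3 F)) = 2 * Nat.card F * (Nat.card F ^ 2 - 1) := by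
    rw [← Nat.card_congr (isoMat (quadFormOdd 1 F) (q3 F) (LinearEquiv.refl F _) q3_apply).toEquiv]
    have := card_O_odd (F := F) h2 1
    rw [this]
    simp
  rw [Nat.card_eq_fintype_card (α := F)] at hH
  obtain ⟨r, hr⟩ : ∃ r, Fintype.card F = r + 1 := ⟨Fintype.card F - 1, by omega⟩
  have hsq : Fintype.card F ^ 2 - 1 = r * (r + 2) := by
    rw [hr]
    have : (r + 1) ^ 2 = r * (r + 2) + 1 := by ring
    omega
  have hG : Nat.card SL(2, F) = (r + 1) * (r * (r + 2)) := by
    rw [CfsgLib.SL2.card_SL2, hr, Nat.add_sub_cancel]; ring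
  rw [hsq, hr] at hH
  have hr0 : 0 < r := by omega
  have : Finite (O (q3 F)) := (Nat.card_pos_iff.mp (by
    rw [hH]
    positivity)).2
  obtain ⟨S, hS, hS2⟩ := exists_odd_gen h2 (Fin 2)
  obtain ⟨e⟩ := commutator_quot_equiv (phi3 F) (range_le_of_odd hS hS2 _
      (index_commutator_odd h2 hN (by rw [hfin]; norm_num))) (k := 2) (by
        rw [ker_phi3]
        have := CfsgLib.Linear.card_center_SL (F := F) (ι := Fin 2)
        rw [this, Fintype.card_fin]
        have h5 : (Fintype.card F - 1) % 2 = 0 := by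
          have := Nat.odd_iff.mp hF
          omega
        exact Nat.gcd_eq_left (Nat.dvd_of_mod_eq_zero h5))
      (index_commutator_odd h2 hN (by rw [hfin]; norm_num)) (by rw [hG, hH]; ring)
      (mem_center_of_odd hS hS2 (phi3 F) ker_phi3.le (fun z hz =>
        sq_eq_one_of_mem_center_SL2 (ker_phi3.le hz)))
  exact ⟨(POmegaCongr (quadFormOdd 1 F) (q3 F) (LinearEquiv.refl F _) q3_apply).trans e⟩

end CfsgLib.Exc
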