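import Cfsg.Agent.Lib.Exc2

/-!
# Exceptional isomorphisms III: `PΩ₄⁻ ≅ PSL₂(q²)`
-/

namespace CfsgLib.Exc

open Module CfsgLib.Quad CfsgLib.IsomDecomp Cfsg
open Matrix (SpecialLinearGroup ProjectiveSpecialLinearGroup)
open scoped commutatorElement MatrixGroups

set_option linter.unusedSimpArgs false
set_option linter.unusedSectionVars false

section Group

variable {G H : Type*} [Group G] [Group H]

/-- Main reduction, with an inequality. -/
theorem commutator_quot_equiv_le [Finite G] [Finite H] (φ : G →* H)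
    (hle : φ.range ≤ commutator H)
    {k : ℕ} (hk : Nat.card φ.ker = k) {i : ℕ} (hi0 : 0 < i)
    (hi : i * Nat.card (commutator H) ≤ Nat.card H)
    (hcard : i * Nat.card G = Nat.card H * k)
    (hZ : ∀ g, (∀ x, φ (g * x) = φ (x * g)) → g ∈ Subgroup.center G) :
    Nonempty ((commutator H ⧸ Subgroup.center (commutator H)) ≃* (G ⧸ Subgroup.center G)) := by
  apply quot_center_of_hom φ _ hZ
  have h1 := card_range_mul_card_ker φ
  have hk0 : 0 < k := by rw [← hk]; exact Nat.card_pos
  rw [hk] at h1
  apply Subgroup.eq_of_le_of_card_ge hle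
  rw [← h1, ← mul_assoc] at hcard
  have h3 := Nat.eq_of_mul_eq_mul_right hk0 hcard
  rw [← h3] at hi
  exact Nat.le_of_mul_le_mul_left hi hi0

end Group

variable {F : Type*} [Field F]

lemma two_mul_card_commutator_le [Finite F] {V : Type*} [AddCommGroup V] [Module F V] [FiniteDimensional F V]
    {Q : QuadraticForm F V} (hQ : (QuadraticMap.polarBilin Q).Nondegenerate) (hV : 0 < finrank F V) :
    2 * Nat.card (commutator (O Q)) ≤ Nat.card (O Q) := by
  have : Finite V := Module.finite_of_finite F
  have : Finite (V ≃ₗ[F] V) := Finite.of_injective (fun e => (e : V → V)) DFunLike.coe_injective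
  obtain ⟨w, hw⟩ := exists_ne_zero_of_nondegenerate hQ hV
  have h1 : commutator (O Q) ≤ (dick hQ).ker := Abelianization.commutator_subset_ker _
  have h2 : (dick hQ).ker ≠ ⊤ := by
    intro h
    have h3 : reflO hw ∈ (dick hQ).ker := by rw [h]; trivial
    rw [MonoidHom.mem_ker, dick_reflO] at h3
    exact absurd h3 (by decide)
  have h3 : commutator (O Q) ≠ ⊤ := fun h => h2 (top_le_iff.mp (h ▸ h1))
  have h4 := Subgroup.card_mul_index (commutator (O Q))
  have h5 : (commutator (O Q)).index ≠ 1 := fun h => h3 (Subgroup.index_eq_one.mp h)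
  have h6 : (commutator (O Q)).index ≠ 0 := Subgroup.index_ne_zero_of_finite
  have h7 : 2 ≤ (commutator (O Q)).index := by omega
  calc 2 * Nat.card (commutator (O Q)) = Nat.card (commutator (O Q)) * 2 := mul_comm _ _
    _ ≤ Nat.card (commutator (O Q)) * (commutator (O Q)).index := Nat.mul_le_mul_left _ h7
    _ = _ := h4

/-! ### Hermitian matrices -/

section Herm

variable {a b : F}

/-- The underlying space. -/
abbrev V4 (F : Type*) := (Fin 1 ⊕ Fin 1) ⊕ Fin 2 → F

/-- Hermitian matrices. -/
noncomputable def eHM (a b : F) : V4 F →ₗ[F] Matrix (Fin 2) (Fin 2) (QK a b) where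
  toFun v := !![⟨v (.inl (.inl 0)), 0⟩, ⟨v (.inr 0), v (.inr 1)⟩;
    star ⟨v (.inr 0), v (.inr 1)⟩, ⟨- v (.inl (.inr 0)), 0⟩]
  map_add' v w := by
    ext i j <;> fin_cases i <;> fin_cases j <;> simp <;> ring
  map_smul' c v := by
    ext i j <;> fin_cases i <;> fin_cases j <;> simp <;> ring

/-- The coordinates of a Hermitian matrix. -/
noncomputable def eHI (a b : F) : Matrix (Fin 2) (Fin 2) (QK a b) →ₗ[F] V4 F where
  toFun X := Sum.elim (Sum.elim (fun _ => (X 0 0).re) (fun _ => - (X 1 1).re))
    ![(X 0 1).re, (X 0 1).im]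
  map_add' v w := by
    funext i
    rcases i with (i | i) | i
    · simp
    · simp; ring
    · fin_cases i <;> simp
  map_smul' c v := by
    funext i
    rcases i with (i | i) | i
    · simp
    · simp
    · fin_cases i <;> simp

lemma eHI_eHM (v : V4 F) : eHI a b (eHM a b v) = v := by
  funext i
  rcases i with (i | i) | i
  · have : i = 0 := Subsingleton.elim _ _
    subst this
    simp [eHI, eHM]
  · have : i = 0 := Subsingleton.elim _ _
    subst this
    simp [eHI, eHM]
  · fin_cases i <;> simp [eHI, eHM]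

lemma eHM_conjTranspose (v : V4 F) : (eHM a b v).conjTranspose = eHM a b v := by
  ext i j <;> fin_cases i <;> fin_cases j <;> simp [eHM, Matrix.conjTranspose_apply]

lemma eHM_eHI (hd : a ^ 2 - 4 * b ≠ 0) {X : Matrix (Fin 2) (Fin 2) (QK a b)}
    (hX : X.conjTranspose = X) :
    eHM a b (eHI a b X) = X := by
  have h0 : ∀ z : QK a b, star z = z → z.im = 0 := by
    intro z hz
    have h1 := congrArg QuadraticAlgebra.re hz
    have h2 := congrArg QuadraticAlgebra.im hz
    rw [QuadraticAlgebra.re_star] at h1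
    rw [QuadraticAlgebra.im_star] at h2
    have h3 : 2 * z.im = 0 := by linear_combination -h2
    have h4 : (a ^ 2 - 4 * b) * z.im = 0 := by linear_combination a * h1 - 2 * b * h3
    exact (mul_eq_zero.mp h4).resolve_left hd
  have h00 : (X 0 0).im = 0 := h0 _ (congrFun (congrFun hX 0) 0)
  have h11 : (X 1 1).im = 0 := h0 _ (congrFun (congrFun hX 1) 1)
  have h10 := congrFun (congrFun hX 1) 0
  rw [Matrix.conjTranspose_apply] at h10
  ext i j
  · fin_cases i <;> fin_cases j
    · simp [eHI, eHM]
    · simp [eHI, eHM]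
    · simp only [eHI, eHM]
      simp
      rw [← h10]
      simp
    · simp [eHI, eHM]
  · fin_cases i <;> fin_cases j
    · simp [eHI, eHM, h00]
    · simp [eHI, eHM]
    · simp only [eHI, eHM]
      simp
      rw [← h10]
      simp
    · simp [eHI, eHM, h11]

/-- The form. -/
noncomputable def q4 (a b : F) : QuadraticForm F (V4 F) :=
  (hypSum 1 (binQ a b)).comp (eMinus 1 a b).toLinearMap

lemma q4_apply (v : V4 F) : q4 a b v = quadFormMinus 1 F a b v := by
  rw [q4, QuadraticMap.comp_apply]
  exact eMinus_apply 1 a b v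

lemma q4_eq_det (v : V4 F) : algebraMap F (QK a b) (q4 a b v) = - (eHM a b v).det := by
  rw [q4_apply, Matrix.det_fin_two, QuadraticAlgebra.algebraMap_eq]
  ext
  · simp only [eHM, quadFormMinus]
    simp
    ring
  · simp only [eHM, quadFormMinus]
    simp
    ring

/-- The action of `SL₂(K)` on matrices. -/
noncomputable def mulStar (a b : F) :
    SL(2, QK a b) →* Module.End F (Matrix (Fin 2) (Fin 2) (QK a b)) where
  toFun g :=
    { toFun := fun X => (g : Matrix (Fin 2) (Fin 2) (QK a b)) * X *
        (g : Matrix (Fin 2) (Fin 2) (QK a b)).conjTranspose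
      map_add' := fun X Y => by rw [Matrix.mul_add, Matrix.add_mul]
      map_smul' := fun c X => by
        rw [Matrix.mul_smul, Matrix.smul_mul]; rfl }
  map_one' := by
    apply LinearMap.ext
    intro X
    change (1 : Matrix (Fin 2) (Fin 2) (QK a b)) * X *
      (1 : Matrix (Fin 2) (Fin 2) (QK a b)).conjTranspose = X
    rw [Matrix.conjTranspose_one, Matrix.one_mul, Matrix.mul_one]
  map_mul' g h := by
    apply LinearMap.ext
    intro X
    change ((g : Matrix (Fin 2) (Fin 2) (QK a b)) * (h : Matrix (Fin 2) (Fin 2) (QK a b))) * X *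
      ((g : Matrix (Fin 2) (Fin 2) (QK a b)) * (h : Matrix (Fin 2) (Fin 2) (QK a b))).conjTranspose =
      (g : Matrix (Fin 2) (Fin 2) (QK a b)) * ((h : Matrix (Fin 2) (Fin 2) (QK a b)) * X *
      (h : Matrix (Fin 2) (Fin 2) (QK a b)).conjTranspose) *
      (g : Matrix (Fin 2) (Fin 2) (QK a b)).conjTranspose
    rw [Matrix.conjTranspose_mul]
    simp only [Matrix.mul_assoc]

lemma mulStar_apply (g : SL(2, QK a b)) (X : Matrix (Fin 2) (Fin 2) (QK a b)) :
    mulStar a b g X = (g : Matrix (Fin 2) (Fin 2) (QK a b)) * X *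
        (g : Matrix (Fin 2) (Fin 2) (QK a b)).conjTranspose := rfl

lemma mulStar_conjTranspose (g : SL(2, QK a b)) {X : Matrix (Fin 2) (Fin 2) (QK a b)}
    (hX : X.conjTranspose = X) : (mulStar a b g X).conjTranspose = mulStar a b g X := by
  rw [mulStar_apply, Matrix.conjTranspose_mul, Matrix.conjTranspose_mul,
    Matrix.conjTranspose_conjTranspose, hX, Matrix.mul_assoc]

/-- The representation. -/
noncomputable def hermRep (hd : a ^ 2 - 4 * b ≠ 0) : SL(2, QK a b) →* Module.End F (V4 F) where
  toFun A := (eHI a b).comp ((mulStar a b A).comp (eHM a b))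
  map_one' := by
    rw [map_one (mulStar a b)]
    apply LinearMap.ext
    intro v
    exact eHI_eHM v
  map_mul' A B := by
    rw [map_mul (mulStar a b)]
    apply LinearMap.ext
    intro v
    change eHI a b (mulStar a b A (mulStar a b B (eHM a b v))) =
      eHI a b (mulStar a b A (eHM a b (eHI a b (mulStar a b B (eHM a b v)))))
    rw [eHM_eHI hd (mulStar_conjTranspose B (eHM_conjTranspose v))]

lemma eHM_hermRep (hd : a ^ 2 - 4 * b ≠ 0) (A : SL(2, QK a b)) (v : V4 F) :
    eHM a b (hermRep hd A v) = (A : Matrix (Fin 2) (Fin 2) (QK a b)) * eHM a b v *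
        (A : Matrix (Fin 2) (Fin 2) (QK a b)).conjTranspose := by
  change eHM a b (eHI a b (mulStar a b A (eHM a b v))) = _
  rw [eHM_eHI hd (mulStar_conjTranspose A (eHM_conjTranspose v)), mulStar_apply]

/-- The homomorphism to the orthogonal group. -/
noncomputable def phi4m (hd : a ^ 2 - 4 * b ≠ 0) : SL(2, QK a b) →* O (q4 a b) :=
  (repHom (hermRep hd)).codRestrict (O (q4 a b)) fun g => by
    rw [mem_O]
    intro X
    apply QuadraticAlgebra.algebraMap_injective (a := -b) (b := a)
    rw [repHom_apply]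
    change algebraMap F (QK a b) _ = algebraMap F (QK a b) _
    rw [q4_eq_det, q4_eq_det, eHM_hermRep, Matrix.det_mul, Matrix.det_mul,
      Matrix.det_conjTranspose, g.2, star_one]
    ring

lemma phi4m_apply (hd : a ^ 2 - 4 * b ≠ 0) (A : SL(2, QK a b)) (v : V4 F) :
    (phi4m hd A).1 v = hermRep hd A v := rfl

lemma phi4m_eq_one_iff (hd : a ^ 2 - 4 * b ≠ 0) (A : SL(2, QK a b)) : phi4m hd A = 1 ↔
    ∀ X : Matrix (Fin 2) (Fin 2) (QK a b), X.conjTranspose = X →
      (A : Matrix (Fin 2) (Fin 2) (QK a b)) * X *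
        (A : Matrix (Fin 2) (Fin 2) (QK a b)).conjTranspose = X := by
  constructor
  · intro h X hX
    have h1 : (phi4m hd A).1 (eHI a b X) = eHI a b X := by rw [h]; rfl
    have h2 := congrArg (eHM a b) h1
    rwa [phi4m_apply, eHM_hermRep, eHM_eHI hd hX] at h2
  · intro h
    apply O_ext
    intro v
    rw [phi4m_apply]
    have h1 : eHM a b (hermRep hd A v) = eHM a b v := by
      rw [eHM_hermRep]
      exact h _ (eHM_conjTranspose v)
    have h2 := congrArg (eHI a b) h1
    rwa [eHI_eHM, eHI_eHM] at h2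

lemma ker_phi4m (hd : a ^ 2 - 4 * b ≠ 0) [NoZeroDivisors (QK a b)] :
    (phi4m hd).ker = Subgroup.center SL(2, QK a b) := by
  ext A
  rw [MonoidHom.mem_ker, phi4m_eq_one_iff]
  constructor
  · intro h
    have h0 := h 1 (Matrix.conjTranspose_one)
    rw [Matrix.mul_one] at h0
    have h0' := mul_eq_one_comm.mp h0
    have hc : ∀ X : Matrix (Fin 2) (Fin 2) (QK a b), X.conjTranspose = X →
        (A : Matrix (Fin 2) (Fin 2) (QK a b)) * X = X * A := by
      intro X hX
      have h1 := h X hX
      calc (A : Matrix (Fin 2) (Fin 2) (QK a b)) * X = (A : Matrix (Fin 2) (Fin 2) (QK a b)) * X *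
            ((A : Matrix (Fin 2) (Fin 2) (QK a b)).conjTranspose *
            (A : Matrix (Fin 2) (Fin 2) (QK a b))) := by rw [h0', Matrix.mul_one]
        _ = X * (A : Matrix (Fin 2) (Fin 2) (QK a b)) := by rw [← Matrix.mul_assoc, h1]
    have h1 := hc !![1, 0; 0, 0] (by
      ext i j <;> fin_cases i <;> fin_cases j <;> simp [Matrix.conjTranspose_apply])
    have h2 := hc !![0, 1; 1, 0] (by
      ext i j <;> fin_cases i <;> fin_cases j <;> simp [Matrix.conjTranspose_apply])
    rw [Matrix.SpecialLinearGroup.mem_center_iff]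
    have e01 := congrFun (congrFun h1 0) 1
    have e10 := congrFun (congrFun h1 1) 0
    have e00 := congrFun (congrFun h2 0) 1
    simp [Matrix.mul_apply, Fin.sum_univ_two] at e00 e01 e10
    have hdet := A.2
    rw [Matrix.det_fin_two] at hdet
    change (A : Matrix (Fin 2) (Fin 2) (QK a b)) 0 0 =
      (A : Matrix (Fin 2) (Fin 2) (QK a b)) 1 1 at e00
    refine ⟨(A : Matrix (Fin 2) (Fin 2) (QK a b)) 0 0, ?_, ?_⟩
    · rw [Fintype.card_fin]
      rw [e10, ← e00] at hdet
      linear_combination hdet
    · rw [← Matrix.ext_iff]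
      intro i j
      fin_cases i <;> fin_cases j <;> simp [e00, e01, e10]
  · intro h X _
    rw [Matrix.SpecialLinearGroup.mem_center_iff, Fintype.card_fin] at h
    obtain ⟨r, hr, hrA⟩ := h
    have h3 : (r - 1) * (r + 1) = 0 := by linear_combination hr
    have h4 : star r = r := by
      rcases mul_eq_zero.mp h3 with h4 | h4
      · rw [sub_eq_zero.mp h4, star_one]
      · rw [eq_neg_of_add_eq_zero_left h4, star_neg, star_one]
    have h5 : (A : Matrix (Fin 2) (Fin 2) (QK a b)).conjTranspose =
        (A : Matrix (Fin 2) (Fin 2) (QK a b)) := by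
      rw [← hrA]
      rw [← Matrix.ext_iff]
      intro i j
      fin_cases i <;> fin_cases j <;> simp [Matrix.conjTranspose_apply, h4]
    have h6 : (A : Matrix (Fin 2) (Fin 2) (QK a b)) * X = X * A := by
      rw [← hrA, (Matrix.scalar_commute r (fun _ => Commute.all _ _) _).eq]
    rw [h5, h6, Matrix.mul_assoc, ← hrA, ← map_mul, ← pow_two, hr, map_one, Matrix.mul_one]

end Herm

/-- `SL` of isomorphic rings. -/
noncomputable def SLMapEquiv {R S : Type*} [CommRing R] [CommRing S] (ι : Type*) [Fintype ι] [DecidableEq ι]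
    (f : R ≃+* S) : SpecialLinearGroup ι R ≃* SpecialLinearGroup ι S where
  toFun := Matrix.SpecialLinearGroup.map (f : R →+* S)
  invFun := Matrix.SpecialLinearGroup.map (f.symm : S →+* R)
  left_inv A := by
    apply Subtype.ext
    rw [← Matrix.ext_iff]
    intro i j
    change f.symm (f (A.1 i j)) = A.1 i j
    exact f.symm_apply_apply _
  right_inv A := by
    apply Subtype.ext
    rw [← Matrix.ext_iff]
    intro i j
    change f (f.symm (A.1 i j)) = A.1 i j
    exact f.apply_symm_apply _
  map_mul' A B := map_mul _ A B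

lemma exists_two_eq_zero [Fintype F] (h2 : (2 : F) = 0) : Fintype.card F % 2 = 0 := by
  have hc2 : ringChar F = 2 := by
    have h3 := (ringChar.spec F 2).mp (by exact_mod_cast h2)
    rcases (Nat.dvd_prime Nat.prime_two).mp h3 with h4 | h4
    · exact absurd h4 CharP.ringChar_ne_one
    · exact h4
  exact FiniteField.even_card_iff_char_two.mp hc2

lemma card_odd_of_two_ne [Fintype F] (h2 : (2 : F) ≠ 0) : Fintype.card F % 2 = 1 :=
  FiniteField.odd_card_of_char_ne_two (fun hc => h2 (by
    have := ringChar.Nat.cast_ringChar (R := F)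
    rw [hc] at this
    exact_mod_cast this))

/-- `PΩ₄⁻(q) ≅ PSL₂(q²)`. -/
theorem POmega_four_minus {F K : Type*} [Field F] [Fintype F] [Field K] [Fintype K] {q : ℕ}
    (hF : Fintype.card F = q) (hK : Fintype.card K = q ^ 2) (a b : F)
    (hab : Aniso a b) :
    Nonempty (POmega F (quadFormMinus 1 F a b) ≃* ProjectiveSpecialLinearGroup (Fin 2) K) := by
  classical
  have hfact := hab.fact
  have hd := hab.disc_ne_zero
  have : Finite (QK a b) := Module.finite_of_finite F
  have := Fintype.ofFinite (QK a b)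
  have hcL : Fintype.card (QK a b) = q ^ 2 := by
    rw [← Nat.card_eq_fintype_card, Module.natCard_eq_pow_finrank (K := F),
      QuadraticAlgebra.finrank_eq_two, Nat.card_eq_fintype_card, hF]
  have eK : QK a b ≃+* K := FiniteField.ringEquivOfCardEq (by rw [hcL, hK])
  have hN : (QuadraticMap.polarBilin (q4 a b)).Nondegenerate := by
    have h1 := hypSum_nondegenerate (F := F) 1 (binQ_nondegenerate hab)
    exact nondegenerate_congr (eMinus 1 a b).symm (fun u => by
      rw [q4_apply, ← eMinus_apply, LinearEquiv.apply_symm_apply]) h1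
  have hfin : finrank F (V4 F) = 4 := by
    rw [Module.finrank_fintype_fun_eq_card]; rfl
  have hH : Nat.card (O (q4 a b)) = 2 * Nat.card F ^ 2 * (Nat.card F ^ 2 + 1) *
      (Nat.card F ^ 2 - 1) := by
    rw [← Nat.card_congr (isoMat (quadFormMinus 1 F a b) (q4 a b) (LinearEquiv.refl F _)
      q4_apply).toEquiv]
    have := card_O_minus (F := F) hab 1
    rw [this]
    simp
  have hq : 2 ≤ q := by rw [← hF]; exact Fintype.one_lt_card
  rw [Nat.card_eq_fintype_card (α := F), hF] at hH
  obtain ⟨r, hr⟩ : ∃ r, q ^ 2 = r + 1 := ⟨q ^ 2 - 1, by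
    have : 0 < q ^ 2 := by positivity
    omega⟩
  have hr3 : 3 ≤ r := by nlinarith
  have hG : Nat.card SL(2, QK a b) = (r + 1) * (r * (r + 2)) := by
    rw [CfsgLib.SL2.card_SL2, hcL, hr, Nat.add_sub_cancel]; ring
  rw [hr, Nat.add_sub_cancel] at hH
  have hfinO : Finite (O (q4 a b)) := (Nat.card_pos_iff.mp (by
    rw [hH]
    positivity)).2
  have hker : (phi4m hd).ker = Subgroup.center SL(2, QK a b) := ker_phi4m hd
  have hcker : Nat.card (phi4m hd).ker = Nat.gcd 2 (q ^ 2 - 1) := by
    rw [hker]
    have := CfsgLib.Linear.card_center_SL (F := QK a b) (ι := Fin 2)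
    rwa [Fintype.card_fin, hcL] at this
  have hfinal : Nonempty ((commutator (O (q4 a b)) ⧸ Subgroup.center (commutator (O (q4 a b)))) ≃*
      (SL(2, QK a b) ⧸ Subgroup.center SL(2, QK a b))) := by
    obtain ⟨x, hx, hx2⟩ := exists_sq_ne_one (F := QK a b) (by rw [hcL]; nlinarith)
    have hper : commutator SL(2, QK a b) = ⊤ := Matrix.SL2.commutator_eq_top hx hx2
    by_cases h2 : (2 : F) = 0
    · have hev := exists_two_eq_zero h2
      rw [hF] at hev
      refine commutator_quot_equiv_le (phi4m hd) (range_le_of_perfect hper _) (k := 1) ?_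
        (i := 2) (by norm_num) (two_mul_card_commutator_le hN (by rw [hfin]; norm_num)) ?_
        (mem_center_of_perfect hper _ hker.le)
      · rw [hcker]
        have h5 : q ^ 2 % 2 = 0 := by rw [pow_two, Nat.mul_mod, hev]
        have h6 : (q ^ 2 - 1) % 2 = 1 := by omega
        rw [Nat.gcd_comm]
        exact Nat.Coprime.gcd_eq_one (Nat.coprime_two_right.mpr (Nat.odd_iff.mpr h6))
      · rw [hG, hH]; ring
    · have hodd := card_odd_of_two_ne h2
      rw [hF] at hodd
      refine commutator_quot_equiv (phi4m hd) (range_le_of_perfect hper _) (k := 2) ?_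
        (index_commutator_odd h2 hN (by rw [hfin]; norm_num)) ?_
        (mem_center_of_perfect hper _ hker.le)
      · rw [hcker]
        have h5 : q ^ 2 % 2 = 1 := by rw [pow_two, Nat.mul_mod, hodd]
        have h6 : (q ^ 2 - 1) % 2 = 0 := by omega
        exact Nat.gcd_eq_left (Nat.dvd_of_mod_eq_zero h6)
      · rw [hG, hH]; ring
  obtain ⟨e⟩ := hfinal
  exact ⟨((POmegaCongr (quadFormMinus 1 F a b) (q4 a b) (LinearEquiv.refl F _) q4_apply).trans
    e).trans (CfsgLib.Symp.quotCenterCongr (SLMapEquiv (Fin 2) eK))⟩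

end CfsgLib.Exc
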