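import Cfsg.Agent.Lib.Exc3
import Cfsg.Agent.Lib.LinearGL

/-!
# Exceptional isomorphisms IV: `PΩ₆⁺ ≅ PSL₄`
-/

namespace CfsgLib.Exc

open Module CfsgLib.Quad CfsgLib.IsomDecomp Cfsg
open Matrix (SpecialLinearGroup ProjectiveSpecialLinearGroup vecMul mulVec)
open scoped commutatorElement MatrixGroups

set_option linter.unusedSimpArgs false
set_option linter.unusedSectionVars false

variable {F : Type*} [Field F]

/-! ### Alternating matrices -/

/-- Alternating matrices (as forms). -/
def IsAltM {n : ℕ} (X : Matrix (Fin n) (Fin n) F) : Prop := ∀ v : Fin n → F, v ⬝ᵥ (X.mulVec v) = 0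

lemma IsAltM.conj {n : ℕ} {X : Matrix (Fin n) (Fin n) F} (hX : IsAltM X)
    (A : Matrix (Fin n) (Fin n) F) : IsAltM (A * X * A.transpose) := by
  intro v
  have h1 := hX (A.transpose.mulVec v)
  rw [← Matrix.mulVec_mulVec, ← Matrix.mulVec_mulVec, Matrix.dotProduct_mulVec,
    ← Matrix.mulVec_transpose]
  exact h1

lemma IsAltM.diag {n : ℕ} {X : Matrix (Fin n) (Fin n) F} (hX : IsAltM X) (i : Fin n) :
    X i i = 0 := by
  have h1 := hX (Pi.single i 1)
  rwa [Matrix.mulVec_single_one, single_one_dotProduct, Matrix.col_apply] at h1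

lemma IsAltM.neg {n : ℕ} {X : Matrix (Fin n) (Fin n) F} (hX : IsAltM X) (i j : Fin n) :
    X j i = - X i j := by
  have h1 := hX (Pi.single i 1 + Pi.single j 1)
  rw [Matrix.mulVec_add, Matrix.mulVec_single_one, Matrix.mulVec_single_one, add_dotProduct,
    dotProduct_add, dotProduct_add, single_one_dotProduct, single_one_dotProduct,
    single_one_dotProduct, single_one_dotProduct, Matrix.col_apply, Matrix.col_apply,
    Matrix.col_apply, Matrix.col_apply, hX.diag, hX.diag] at h1
  linear_combination h1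

lemma IsAltM.add {n : ℕ} {X Y : Matrix (Fin n) (Fin n) F} (hX : IsAltM X) (hY : IsAltM Y) :
    IsAltM (X + Y) := by
  intro v
  rw [Matrix.add_mulVec, dotProduct_add, hX, hY, add_zero]

lemma IsAltM.smul {n : ℕ} {X : Matrix (Fin n) (Fin n) F} (hX : IsAltM X) (c : F) :
    IsAltM (c • X) := by
  intro v
  rw [Matrix.smul_mulVec, dotProduct_smul, hX, smul_zero]

/-- The underlying space. -/
abbrev V6 (F : Type*) := Fin 3 ⊕ Fin 3 → F

/-- Alternating matrices. -/
noncomputable def eA (F : Type*) [Field F] : V6 F →ₗ[F] Matrix (Fin 4) (Fin 4) F where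
  toFun v := !![0, v (.inl 0), v (.inl 1), v (.inl 2);
    - v (.inl 0), 0, v (.inr 2), - v (.inr 1);
    - v (.inl 1), - v (.inr 2), 0, v (.inr 0);
    - v (.inl 2), v (.inr 1), - v (.inr 0), 0]
  map_add' v w := by
    ext i j; fin_cases i <;> fin_cases j <;> simp <;> ring
  map_smul' c v := by
    ext i j; fin_cases i <;> fin_cases j <;> simp

/-- The coordinates of an alternating matrix. -/
noncomputable def eAI (F : Type*) [Field F] : Matrix (Fin 4) (Fin 4) F →ₗ[F] V6 F where
  toFun X := Sum.elim ![X 0 1, X 0 2, X 0 3] ![X 2 3, - X 1 3, X 1 2]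
  map_add' v w := by
    funext i
    rcases i with i | i
    · fin_cases i <;> simp
    · fin_cases i <;> simp <;> ring
  map_smul' c v := by
    funext i
    rcases i with i | i
    · fin_cases i <;> simp
    · fin_cases i <;> simp

lemma eAI_eA (v : V6 F) : eAI F (eA F v) = v := by
  funext i
  rcases i with i | i
  · fin_cases i <;> simp [eAI, eA]
  · fin_cases i <;> simp [eAI, eA]

lemma eA_eAI {X : Matrix (Fin 4) (Fin 4) F} (hX : IsAltM X) : eA F (eAI F X) = X := by
  ext i j
  fin_cases i <;> fin_cases j <;> simp [eAI, eA, hX.diag]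
  all_goals exact (hX.neg _ _).symm

lemma isAltM_eA (v : V6 F) : IsAltM (eA F v) := by
  intro w
  simp only [eA, LinearMap.coe_mk, AddHom.coe_mk, dotProduct, Matrix.mulVec, Fin.sum_univ_four]
  simp
  ring

/-- The Pfaffian. -/
def pf (X : Matrix (Fin 4) (Fin 4) F) : F := X 0 1 * X 2 3 - X 0 2 * X 1 3 + X 0 3 * X 1 2

lemma pf_eA (v : V6 F) : pf (eA F v) = quadFormPlus 3 F v := by
  simp [pf, eA, quadFormPlus, Fin.sum_univ_three]

lemma pf_transvection (i j : Fin 4) (hij : i ≠ j) (c : F) {X : Matrix (Fin 4) (Fin 4) F}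
    (hX : IsAltM X) :
    pf (Matrix.transvection i j c * X * (Matrix.transvection i j c).transpose) = pf X := by
  obtain ⟨v, rfl⟩ : ∃ v, X = eA F v := ⟨eAI F X, (eA_eAI hX).symm⟩
  fin_cases i <;> fin_cases j <;> first | exact absurd rfl hij | skip
  all_goals
    simp only [pf, Matrix.mul_apply, Fin.sum_univ_four, Matrix.transvection, Matrix.transpose_apply,
      Matrix.add_apply, Matrix.one_apply, Matrix.single_apply, eA, LinearMap.coe_mk, AddHom.coe_mk]
    simp
  all_goals
    ring

lemma pf_SL (A : SpecialLinearGroup (Fin 4) F) : ∀ X : Matrix (Fin 4) (Fin 4) F, IsAltM X →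
    pf ((A : Matrix (Fin 4) (Fin 4) F) * X * (A : Matrix (Fin 4) (Fin 4) F).transpose) = pf X := by
  induction A using CfsgLib.Linear.transvection_induction with
  | htransvec i j h c => 
    intro X hX
    exact pf_transvection i j h c hX
  | hmul A B hA hB =>
    intro X hX
    change pf (((A : Matrix (Fin 4) (Fin 4) F) * (B : Matrix (Fin 4) (Fin 4) F)) * X *
      ((A : Matrix (Fin 4) (Fin 4) F) * (B : Matrix (Fin 4) (Fin 4) F)).transpose) = _
    rw [Matrix.transpose_mul]
    have h1 : ((A : Matrix (Fin 4) (Fin 4) F) * (B : Matrix (Fin 4) (Fin 4) F)) * X *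
      ((B : Matrix (Fin 4) (Fin 4) F).transpose * (A : Matrix (Fin 4) (Fin 4) F).transpose) =
      (A : Matrix (Fin 4) (Fin 4) F) * ((B : Matrix (Fin 4) (Fin 4) F) * X *
      (B : Matrix (Fin 4) (Fin 4) F).transpose) * (A : Matrix (Fin 4) (Fin 4) F).transpose := by
      simp only [Matrix.mul_assoc]
    rw [h1, hA _ (hX.conj _), hB _ hX]

/-- The action on matrices. -/
noncomputable def mulT (n : ℕ) (F : Type*) [Field F] :
    SpecialLinearGroup (Fin n) F →* Module.End F (Matrix (Fin n) (Fin n) F) where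
  toFun g :=
    { toFun := fun X => (g : Matrix (Fin n) (Fin n) F) * X * (g : Matrix (Fin n) (Fin n) F).transpose
      map_add' := fun X Y => by rw [Matrix.mul_add, Matrix.add_mul]
      map_smul' := fun c X => by
        rw [Matrix.mul_smul, Matrix.smul_mul]; rfl }
  map_one' := by
    apply LinearMap.ext
    intro X
    change (1 : Matrix (Fin n) (Fin n) F) * X * (1 : Matrix (Fin n) (Fin n) F).transpose = X
    rw [Matrix.transpose_one, Matrix.one_mul, Matrix.mul_one]
  map_mul' g h := by
    apply LinearMap.ext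
    intro X
    change ((g : Matrix (Fin n) (Fin n) F) * (h : Matrix (Fin n) (Fin n) F)) * X *
      ((g : Matrix (Fin n) (Fin n) F) * (h : Matrix (Fin n) (Fin n) F)).transpose =
      (g : Matrix (Fin n) (Fin n) F) * ((h : Matrix (Fin n) (Fin n) F) * X *
      (h : Matrix (Fin n) (Fin n) F).transpose) * (g : Matrix (Fin n) (Fin n) F).transpose
    rw [Matrix.transpose_mul]
    simp only [Matrix.mul_assoc]

lemma mulT_apply {n : ℕ} (g : SpecialLinearGroup (Fin n) F) (X : Matrix (Fin n) (Fin n) F) :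
    mulT n F g X = (g : Matrix (Fin n) (Fin n) F) * X * (g : Matrix (Fin n) (Fin n) F).transpose :=
  rfl

/-- The representation. -/
noncomputable def altRep (F : Type*) [Field F] :
    SpecialLinearGroup (Fin 4) F →* Module.End F (V6 F) where
  toFun A := (eAI F).comp ((mulT 4 F A).comp (eA F))
  map_one' := by
    rw [map_one (mulT 4 F)]
    apply LinearMap.ext
    intro v
    exact eAI_eA v
  map_mul' A B := by
    rw [map_mul (mulT 4 F)]
    apply LinearMap.ext
    intro v
    change eAI F (mulT 4 F A (mulT 4 F B (eA F v))) =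
      eAI F (mulT 4 F A (eA F (eAI F (mulT 4 F B (eA F v)))))
    rw [eA_eAI (X := mulT 4 F B (eA F v)) ((isAltM_eA v).conj _)]

lemma eA_altRep (A : SpecialLinearGroup (Fin 4) F) (v : V6 F) :
    eA F (altRep F A v) = (A : Matrix (Fin 4) (Fin 4) F) * eA F v *
        (A : Matrix (Fin 4) (Fin 4) F).transpose := by
  change eA F (eAI F (mulT 4 F A (eA F v))) = _
  rw [eA_eAI (X := mulT 4 F A (eA F v)) ((isAltM_eA v).conj _), mulT_apply]

/-- The form. -/
noncomputable def q6 (F : Type*) [Field F] : QuadraticForm F (V6 F) :=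
  (hypSum 3 (zeroQ F)).comp (ePlus 3 F).toLinearMap

lemma q6_apply (v : V6 F) : q6 F v = quadFormPlus 3 F v := by
  rw [q6, QuadraticMap.comp_apply]
  exact ePlus_apply 3 v

/-- The homomorphism to the orthogonal group. -/
noncomputable def phi6 (F : Type*) [Field F] : SpecialLinearGroup (Fin 4) F →* O (q6 F) :=
  (repHom (altRep F)).codRestrict (O (q6 F)) fun g => by
    rw [mem_O]
    intro X
    rw [repHom_apply, q6_apply, q6_apply, ← pf_eA, ← pf_eA, eA_altRep, pf_SL _ _ (isAltM_eA X)]

lemma phi6_apply (A : SpecialLinearGroup (Fin 4) F) (v : V6 F) :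
    (phi6 F A).1 v = altRep F A v := rfl

lemma phi6_eq_one_iff (A : SpecialLinearGroup (Fin 4) F) : phi6 F A = 1 ↔
    ∀ X : Matrix (Fin 4) (Fin 4) F, IsAltM X →
      (A : Matrix (Fin 4) (Fin 4) F) * X * (A : Matrix (Fin 4) (Fin 4) F).transpose = X := by
  constructor
  · intro h X hX
    have h1 : (phi6 F A).1 (eAI F X) = eAI F X := by rw [h]; rfl
    have h2 := congrArg (eA F) h1
    rwa [phi6_apply, eA_altRep, eA_eAI hX] at h2
  · intro h
    apply O_ext
    intro v
    rw [phi6_apply]
    have h1 : eA F (altRep F A v) = eA F v := by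
      rw [eA_altRep]
      exact h _ (isAltM_eA v)
    have h2 := congrArg (eAI F) h1
    rwa [eAI_eA, eAI_eA] at h2

/-- The elementary alternating matrices. -/
lemma isAltM_single {n : ℕ} (i j : Fin n) :
    IsAltM (Matrix.single i j (1 : F) - Matrix.single j i (1 : F)) := by
  intro v
  rw [Matrix.sub_mulVec, dotProduct_sub, Matrix.single_mulVec, Matrix.single_mulVec]
  change v ⬝ᵥ Pi.single i (1 * v j) - v ⬝ᵥ Pi.single j (1 * v i) = 0
  rw [dotProduct_single, dotProduct_single]
  ring

lemma scalar_of_fix_alt {n : ℕ} (hn : 3 ≤ n) (A : Matrix (Fin n) (Fin n) F)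
    (h : ∀ X : Matrix (Fin n) (Fin n) F, IsAltM X → A * X * A.transpose = X) :
    ∃ r : F, r ^ 2 = 1 ∧ A = Matrix.scalar (Fin n) r := by
  have key : ∀ i j k l : Fin n, A k i * A l j - A k j * A l i =
      Matrix.single i j (1 : F) k l - Matrix.single j i (1 : F) k l := by
    intro i j k l
    have h1 := congrFun (congrFun (h _ (isAltM_single i j)) k) l
    rw [Matrix.mul_sub, Matrix.sub_mul, Matrix.sub_apply, Matrix.sub_apply] at h1
    rw [← h1, Matrix.mul_single_eq_updateCol_zero, Matrix.mul_single_eq_updateCol_zero]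
    simp only [Matrix.mul_apply, Matrix.transpose_apply, Matrix.updateCol_apply, Matrix.zero_apply]
    simp
  have h1 : ∀ i j : Fin n, i ≠ j → A i i * A j j - A i j * A j i = 1 := by
    intro i j hij
    rw [key, Matrix.single_apply, Matrix.single_apply, if_pos ⟨rfl, rfl⟩,
      if_neg (fun h => hij h.1.symm), sub_zero]
  have h2 : ∀ i j k : Fin n, i ≠ j → k ≠ i → k ≠ j → A k i * A j j - A k j * A j i = 0 := by
    intro i j k _ hki hkj
    rw [key, Matrix.single_apply, Matrix.single_apply, if_neg (fun h => hki h.1.symm),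
      if_neg (fun h => hkj h.1.symm), sub_zero]
  have h3 : ∀ i j k : Fin n, i ≠ j → k ≠ i → k ≠ j → A k i * A i j - A k j * A i i = 0 := by
    intro i j k _ hki hkj
    rw [key, Matrix.single_apply, Matrix.single_apply, if_neg (fun h => hki h.1.symm),
      if_neg (fun h => hkj h.1.symm), sub_zero]
  have hex : ∀ i k : Fin n, ∃ j, j ≠ i ∧ j ≠ k := by
    intro i k
    have hc : ({i, k} : Finset (Fin n)).card < Fintype.card (Fin n) := by
      rw [Fintype.card_fin]
      have := Finset.card_le_two (a := i) (b := k)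
      omega
    obtain ⟨j, hj⟩ := Finset.exists_mem_notMem_of_card_lt_card (s := {i, k}) (t := Finset.univ)
      (by rwa [Finset.card_univ])
    have h4 := hj.2
    rw [Finset.mem_insert, Finset.mem_singleton, not_or] at h4
    exact ⟨j, h4⟩
  have hdiag : ∀ k i : Fin n, k ≠ i → A k i = 0 := by
    intro k i hki
    obtain ⟨j, hji, hjk⟩ := hex i k
    linear_combination (-A k i) * h1 i j hji.symm + A i i * h2 i j k hji.symm hki hjk.symm -
      A j i * h3 i j k hji.symm hki hjk.symm
  have hmul : ∀ i j : Fin n, i ≠ j → A i i * A j j = 1 := by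
    intro i j hij
    have := h1 i j hij
    rw [hdiag i j hij, zero_mul, sub_zero] at this
    exact this
  have heq : ∀ i k : Fin n, A i i = A k k := by
    intro i k
    by_cases hik : i = k
    · rw [hik]
    · obtain ⟨j, hji, hjk⟩ := hex i k
      linear_combination (A k k) * hmul i j hji.symm - (A i i) * hmul k j hjk.symm
  have h0 : 0 < n := by omega
  have h01 : (⟨0, h0⟩ : Fin n) ≠ ⟨1, by omega⟩ := by
    intro h
    exact absurd (congrArg Fin.val h) (by norm_num)
  refine ⟨A ⟨0, h0⟩ ⟨0, h0⟩, ?_, ?_⟩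
  · have := hmul _ _ h01
    rw [heq ⟨1, by omega⟩ ⟨0, h0⟩] at this
    rw [pow_two, this]
  · rw [← Matrix.ext_iff]
    intro i j
    rw [Matrix.scalar_apply, Matrix.diagonal_apply]
    split_ifs with h
    · rw [h, heq]
    · exact hdiag i j h

lemma fix_alt_of_scalar {n : ℕ} {r : F} (hr : r ^ 2 = 1) (X : Matrix (Fin n) (Fin n) F) :
    (Matrix.scalar (Fin n) r) * X * (Matrix.scalar (Fin n) r).transpose = X := by
  have h1 : (Matrix.scalar (Fin n) r).transpose = Matrix.scalar (Fin n) r := by
    rw [Matrix.scalar_apply, Matrix.diagonal_transpose]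
  rw [h1, (Matrix.scalar_commute r (fun _ => Commute.all _ _) X).eq, Matrix.mul_assoc, ← map_mul,
    ← pow_two, hr, map_one, Matrix.mul_one]

lemma mem_ker_phi6 (A : SpecialLinearGroup (Fin 4) F) : A ∈ (phi6 F).ker ↔
    ∃ r : F, r ^ 2 = 1 ∧ (A : Matrix (Fin 4) (Fin 4) F) = Matrix.scalar (Fin 4) r := by
  rw [MonoidHom.mem_ker, phi6_eq_one_iff]
  constructor
  · exact scalar_of_fix_alt (by norm_num) _
  · rintro ⟨r, hr, hA⟩ X _
    rw [hA]
    exact fix_alt_of_scalar hr X

lemma card_sq_eq_one [Fintype F] : Nat.card {r : F // r ^ 2 = 1} = Nat.gcd 2 (Fintype.card F - 1) := by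
  rw [← CfsgLib.Linear.card_rootsOfUnity_gcd (F := F) 2]
  apply Nat.card_congr
  exact
    { toFun := fun r => ⟨⟨r.1, r.1, by rw [← pow_two, r.2], by rw [← pow_two, r.2]⟩, by
        rw [mem_rootsOfUnity]
        apply Units.ext
        rw [Units.val_pow_eq_pow_val]
        exact r.2⟩
      invFun := fun z => ⟨z.1, by
        have h := z.2
        rw [mem_rootsOfUnity] at h
        rw [← Units.val_pow_eq_pow_val, h]
        rfl⟩
      left_inv := fun r => rfl
      right_inv := fun z => by
        apply Subtype.ext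
        apply Units.ext
        rfl }

lemma card_ker_phi6 [Fintype F] : Nat.card (phi6 F).ker = Nat.gcd 2 (Fintype.card F - 1) := by
  rw [← card_sq_eq_one]
  symm
  apply Nat.card_congr
  have hdet : ∀ r : F, r ^ 2 = 1 → (Matrix.scalar (Fin 4) r).det = 1 := by
    intro r hr
    rw [Matrix.scalar_apply, Matrix.det_diagonal, Finset.prod_const, Finset.card_univ,
      Fintype.card_fin]
    linear_combination (r ^ 2 + 1) * hr
  refine Equiv.ofBijective (fun r => ⟨(⟨Matrix.scalar (Fin 4) r.1, hdet r.1 r.2⟩ :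
    SpecialLinearGroup (Fin 4) F), (mem_ker_phi6 _).mpr ⟨r.1, r.2, rfl⟩⟩) ⟨?_, ?_⟩
  · intro r s h
    have h1 : Matrix.scalar (Fin 4) r.1 = Matrix.scalar (Fin 4) s.1 :=
      congrArg (fun z : (phi6 F).ker => (z.1 : Matrix (Fin 4) (Fin 4) F)) h
    exact Subtype.ext (Matrix.scalar_inj.mp h1)
  · rintro ⟨A, hA⟩
    obtain ⟨r, hr, hrA⟩ := (mem_ker_phi6 A).mp hA
    exact ⟨⟨r, hr⟩, Subtype.ext (Subtype.ext hrA.symm)⟩

lemma ker_phi6_le : (phi6 F).ker ≤ Subgroup.center (SpecialLinearGroup (Fin 4) F) := by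
  intro A hA
  obtain ⟨r, hr, hrA⟩ := (mem_ker_phi6 A).mp hA
  rw [Matrix.SpecialLinearGroup.mem_center_iff, Fintype.card_fin]
  exact ⟨r, by linear_combination (r ^ 2 + 1) * hr, hrA.symm⟩

lemma card_SL4 [Fintype F] : Nat.card (SpecialLinearGroup (Fin 4) F) =
    Nat.card F ^ 6 * (Nat.card F ^ 3 - 1) * ((Nat.card F ^ 2 - 1) * (Nat.card F ^ 4 - 1)) := by
  classical
  have h1 := CfsgLib.Linear.card_GL_eq_units_mul_card_SL (F := F) (ι := Fin 4)
  rw [Matrix.card_GL_field] at h1
  have h2 := CfsgLib.LinearGL.prod_pow_sub_pow (Fintype.card F) 4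
  have h3 : Nat.card Fˣ = Fintype.card F - 1 := by
    rw [Nat.card_eq_fintype_card, Fintype.card_units]
  have h4 : 0 < Fintype.card F - 1 := by
    have : 1 < Fintype.card F := Fintype.one_lt_card
    omega
  rw [h3, h2] at h1
  apply Nat.eq_of_mul_eq_mul_left h4
  rw [← h1, Finset.prod_range_succ, Finset.prod_range_succ, Finset.prod_range_succ,
    Finset.prod_range_succ, Finset.prod_range_zero, Nat.card_eq_fintype_card]
  norm_num
  ring

/-- `PΩ₆⁺(q) ≅ PSL₄(q)`. -/
theorem POmega_six_plus [Fintype F] :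
    Nonempty (POmega F (quadFormPlus 3 F) ≃* ProjectiveSpecialLinearGroup (Fin 4) F) := by
  have hN : (QuadraticMap.polarBilin (q6 F)).Nondegenerate := by
    have h1 := hypSum_nondegenerate (F := F) 3 (zeroQ_nondegenerate (F := F))
    exact nondegenerate_congr (ePlus 3 F).symm (fun u => by
      rw [q6_apply, ← ePlus_apply, LinearEquiv.apply_symm_apply]) h1
  have hfin : finrank F (V6 F) = 6 := by
    rw [Module.finrank_fintype_fun_eq_card]; rfl
  have hH : Nat.card (O (q6 F)) = 2 * (Nat.card F ^ 6 * (Nat.card F ^ 3 - 1) *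
      ((Nat.card F ^ 2 - 1) * (Nat.card F ^ 4 - 1))) := by
    rw [← Nat.card_congr (isoMat (quadFormPlus 3 F) (q6 F) (LinearEquiv.refl F _) q6_apply).toEquiv]
    have := card_O_plus (F := F) 2
    rw [this, Finset.prod_range_succ, Finset.prod_range_succ, Finset.prod_range_zero, one_mul]
    norm_num
    ring
  have hG := card_SL4 (F := F)
  have : Finite (V6 F ≃ₗ[F] V6 F) :=
    Finite.of_injective (fun e => (e : V6 F → V6 F)) DFunLike.coe_injective
  have hper : commutator (SpecialLinearGroup (Fin 4) F) = ⊤ :=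
    CfsgLib.Linear.commutator_SL_eq_top (by simp)
  have hfinal : Nonempty ((commutator (O (q6 F)) ⧸ Subgroup.center (commutator (O (q6 F)))) ≃*
      (SpecialLinearGroup (Fin 4) F ⧸ Subgroup.center (SpecialLinearGroup (Fin 4) F))) := by
    by_cases h2 : (2 : F) = 0
    · have hev := exists_two_eq_zero h2
      refine commutator_quot_equiv_le (phi6 F) (range_le_of_perfect hper _) (k := 1) ?_
        (i := 2) (by norm_num) (two_mul_card_commutator_le hN (by rw [hfin]; norm_num)) ?_
        (mem_center_of_perfect hper _ ker_phi6_le)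
      · rw [card_ker_phi6, Nat.gcd_comm]
        have h1 : 1 < Fintype.card F := Fintype.one_lt_card
        have h6 : (Fintype.card F - 1) % 2 = 1 := by omega
        exact Nat.Coprime.gcd_eq_one (Nat.coprime_two_right.mpr (Nat.odd_iff.mpr h6))
      · rw [hG, hH]; ring
    · have hodd := card_odd_of_two_ne h2
      refine commutator_quot_equiv (phi6 F) (range_le_of_perfect hper _) (k := 2) ?_
        (index_commutator_odd h2 hN (by rw [hfin]; norm_num)) ?_
        (mem_center_of_perfect hper _ ker_phi6_le)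
      · rw [card_ker_phi6]
        have h6 : (Fintype.card F - 1) % 2 = 0 := by omega
        exact Nat.gcd_eq_left (Nat.dvd_of_mod_eq_zero h6)
      · rw [hG, hH]; ring
  obtain ⟨e⟩ := hfinal
  exact ⟨(POmegaCongr (quadFormPlus 3 F) (q6 F) (LinearEquiv.refl F _) q6_apply).trans e⟩

end CfsgLib.Exc
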