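import Cfsg.Agent.Lib.AltForm4
import Cfsg.Agent.Lib.Symp

/-!
# The symplectic group of Mathlib: order, centre, perfectness, simplicity; normal form of
alternating forms; the group `spGL`.
-/

namespace CfsgLib.Symp

open Module Matrix Cfsg CfsgLib.AltForm CfsgLib.IsomDecomp
open scoped LinearAlgebra.Projectivization

set_option linter.unusedSimpArgs false
set_option linter.unusedSectionVars false

variable {F : Type*} [Field F] {m : ℕ}

lemma finrank_symp (m : ℕ) : finrank F (Fin m ⊕ Fin m → F) = 2 * m := by
  simp; ring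

theorem card_symplecticGroup [Finite F] (m : ℕ) : Nat.card (Matrix.symplecticGroup (Fin m) F) =
    Nat.card F ^ (m ^ 2) * ∏ i ∈ Finset.range m, (Nat.card F ^ (2 * (i + 1)) - 1) := by
  rw [Nat.card_congr (toIsom m F).toEquiv]
  exact card_isom m _ _ sympB_nondegenerate sympB_isAlt (finrank_symp m)

lemma exists_ne_zero_sq_ne_one [Fintype F] (h : 4 ≤ Fintype.card F) : ∃ a : F, a ≠ 0 ∧ a ^ 2 ≠ 1 := by
  classical
  by_contra hcon
  push Not at hcon
  have h1 : (Finset.univ : Finset F) ⊆ {0, 1, -1} := by
    intro a _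
    by_cases ha : a = 0
    · simp [ha]
    · have := hcon a ha
      have h2 : (a - 1) * (a + 1) = 0 := by linear_combination this
      rcases mul_eq_zero.mp h2 with h3 | h3
      · simp [sub_eq_zero.mp h3]
      · simp [eq_neg_of_add_eq_zero_left h3]
  have h2 := Finset.card_le_card h1
  have h3 := Finset.card_le_three (a := (0 : F)) (b := 1) (c := -1)
  rw [Finset.card_univ] at h2
  omega

lemma exists_ne_zero_ne_one [Fintype F] (h : 3 ≤ Fintype.card F) : ∃ a : F, a ≠ 0 ∧ a ≠ 1 := by
  classical
  by_contra hcon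
  push Not at hcon
  have h1 : (Finset.univ : Finset F) ⊆ {0, 1} := by
    intro a _
    by_cases ha : a = 0
    · simp [ha]
    · simp [hcon a ha]
  have h2 := Finset.card_le_card h1
  have h3 := Finset.card_le_two (a := (0 : F)) (b := 1)
  rw [Finset.card_univ] at h2
  omega

lemma commutator_eq_top_of_mulEquiv {G H : Type*} [Group G] [Group H] (e : G ≃* H)
    (h : commutator G = ⊤) : commutator H = ⊤ := by
  have h1 := Subgroup.map_commutator (⊤ : Subgroup G) ⊤ e.toMonoidHom
  rw [← commutator_def, h] at h1
  have h2 : (⊤ : Subgroup G).map e.toMonoidHom = ⊤ :=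
    Subgroup.map_top_of_surjective _ e.surjective
  rw [h2] at h1
  exact h1.symm

theorem commutator_symplecticGroup [Fintype F] (m : ℕ)
    (h : 3 ≤ m ∨ (m = 2 ∧ 3 ≤ Fintype.card F) ∨ 4 ≤ Fintype.card F) :
    commutator (Matrix.symplecticGroup (Fin m) F) = ⊤ := by
  refine commutator_eq_top_of_mulEquiv (toIsom m F).symm
    (commutator_isom_eq_top sympB_nondegenerate sympB_isAlt ?_)
  rw [finrank_symp]
  rcases h with h | ⟨h, h'⟩ | h
  · right; right; omega
  · right; left; exact ⟨by omega, exists_ne_zero_ne_one h'⟩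
  · left; exact exists_ne_zero_sq_ne_one h

/-- An isomorphism induces an isomorphism of the quotients by the centres. -/
noncomputable def quotCenterCongr {G H : Type*} [Group G] [Group H] (e : G ≃* H) :
    G ⧸ Subgroup.center G ≃* H ⧸ Subgroup.center H :=
  QuotientGroup.congr _ _ e (by
    ext x
    rw [Subgroup.mem_map]
    constructor
    · rintro ⟨z, hz, rfl⟩
      rw [Subgroup.mem_center_iff] at hz ⊢
      intro y
      have := congrArg e (hz (e.symm y))
      simpa using this
    · intro h
      refine ⟨e.symm x, ?_, by simp⟩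
      rw [Subgroup.mem_center_iff] at h ⊢
      intro y
      have := congrArg e.symm (h (e y))
      simpa using this)

theorem isSimpleGroup_PSp [Fintype F] (m : ℕ) (hm : 2 ≤ m) (h : m = 2 → 3 ≤ Fintype.card F) :
    IsSimpleGroup (PSp m F) := by
  have hs := isSimpleGroup_quotient (sympB_nondegenerate (m := m) (F := F)) sympB_isAlt
    (by rw [finrank_symp]; omega) (by
      rw [finrank_symp]
      by_cases h3 : 3 ≤ m
      · right; right; omega
      · right; left
        exact ⟨by omega, exists_ne_zero_ne_one (h (by omega))⟩)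
  have e := quotCenterCongr (toIsom m F)
  exact e.isSimpleGroup

theorem card_center_symplecticGroup [Fintype F] (m : ℕ) (hm : 1 ≤ m) :
    Nat.card (Subgroup.center (Matrix.symplecticGroup (Fin m) F)) =
      Nat.gcd 2 (Fintype.card F - 1) := by
  have h1 : Nontrivial (Fin m ⊕ Fin m → F) := by
    refine nontrivial_of_finrank_pos (R := F) ?_
    rw [finrank_symp]; omega
  rw [Nat.card_congr (Subgroup.centerCongr (toIsom m F)).toEquiv,
    ← Nat.card_congr (centerEquiv (sympB_nondegenerate (m := m) (F := F)) sympB_isAlt).toEquiv,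
    CfsgLib.Linear.card_rootsOfUnity_gcd]

/-- Normal form: a non-degenerate alternating form in dimension `2m` is isometric to `sympB`. -/
theorem exists_equiv_sympB {V : Type*} [AddCommGroup V] [Module F V] [FiniteDimensional F V]
    {B : LinearMap.BilinForm F V} (hB : B.Nondegenerate) (hA : B.IsAlt) (hd : finrank F V = 2 * m) :
    ∃ e : V ≃ₗ[F] (Fin m ⊕ Fin m → F), ∀ u v, sympB m F (e u) (e v) = B u v := by
  obtain ⟨m', k, b, h1, h2, h3, h4⟩ := exists_symplectic_basis B hA
  have hk : k = 0 := by
    by_contra hk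
    have h5 : b (Sum.inr ⟨0, Nat.pos_of_ne_zero hk⟩) = 0 := hB.1 _ fun v => h4 _ v
    exact b.ne_zero _ h5
  subst hk
  have hm : m' = m := by
    have h6 := Module.finrank_eq_card_basis b
    simp only [Fintype.card_sum, Fintype.card_fin] at h6
    omega
  subst hm
  -- the form `sympB` has `B(inl i, inr j) = -δ`, so swap the two halves
  let b' : Module.Basis (Fin m' ⊕ Fin m') F V :=
    (b.reindex (Equiv.sumEmpty (Fin m' ⊕ Fin m') (Fin 0))).reindex (Equiv.sumComm _ _)
  have hb'l : ∀ i, b' (Sum.inl i) = b (Sum.inl (Sum.inr i)) := fun i => by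
    simp [b', Module.Basis.reindex_apply]
  have hb'r : ∀ i, b' (Sum.inr i) = b (Sum.inl (Sum.inl i)) := fun i => by
    simp [b', Module.Basis.reindex_apply]
  refine ⟨b'.equivFun, fun u v => ?_⟩
  have key : (sympB m' F).compl₁₂ (b'.equivFun : V →ₗ[F] _) (b'.equivFun : V →ₗ[F] _) = B := by
    refine b'.ext fun i => b'.ext fun j => ?_
    rw [LinearMap.compl₁₂_apply]
    simp only [LinearEquiv.coe_coe, Module.Basis.equivFun_self]
    have e1 : ∀ i : Fin m' ⊕ Fin m', (fun j => if i = j then (1 : F) else 0) = Pi.single i 1 := by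
      intro i; ext j; simp [Pi.single_apply, eq_comm]
    have key2 : ∀ i j, sympB m' F (b'.equivFun (b' i)) (b'.equivFun (b' j)) =
        B (b' i) (b' j) := by
      intro i j
      have e2 : ∀ i, b'.equivFun (b' i) = Pi.single i 1 := by
        intro i
        ext j
        rw [Module.Basis.equivFun_self, Pi.single_apply]
        simp [eq_comm]
      rw [e2, e2, sympB_apply, sympForm_eq]
      rcases i with i | i <;> rcases j with j | j
      · rw [hb'l, hb'l, h3]; simp
      · rw [hb'l, hb'r, ← hA.neg_eq, h1]
        simp [Pi.single_apply, Finset.sum_ite_eq, eq_comm]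
      · rw [hb'r, hb'l, h1]
        simp [Pi.single_apply, Finset.sum_ite_eq, eq_comm]
      · rw [hb'r, hb'r, h2]; simp
    exact key2 i j
  exact LinearMap.congr_fun₂ key u v

/-- The isometry group of a non-degenerate alternating form in dimension `2m`. -/
theorem exists_isom_equiv {V : Type*} [AddCommGroup V] [Module F V] [FiniteDimensional F V]
    {B : LinearMap.BilinForm F V} (hB : B.Nondegenerate) (hA : B.IsAlt) (hd : finrank F V = 2 * m) :
    Nonempty (isom B ≃* Matrix.symplecticGroup (Fin m) F) := by
  obtain ⟨e, he⟩ := exists_equiv_sympB hB hA hd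
  exact ⟨(isomFCongr (f := fun u v => B u v) (f' := fun u v => sympB m F u v) e he).trans
    (toIsom m F).symm⟩

end CfsgLib.Symp
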