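import Cfsg.Agent.Lib.Exc4
import Cfsg.Agent.Lib.Symp2

/-!
# Exceptional isomorphisms V: `PΩ₅ ≅ PSp₄`
-/

namespace CfsgLib.Exc

open Module CfsgLib.Quad CfsgLib.IsomDecomp Cfsg
open Matrix (SpecialLinearGroup ProjectiveSpecialLinearGroup vecMul mulVec symplecticGroup)
open scoped commutatorElement MatrixGroups

set_option linter.unusedSimpArgs false
set_option linter.unusedSectionVars false

variable {F : Type*} [Field F]

lemma det_symplectic [Fintype F] (m : ℕ) (h : 3 ≤ m ∨ (m = 2 ∧ 3 ≤ Fintype.card F) ∨ 4 ≤ Fintype.card F)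
    (A : symplecticGroup (Fin m) F) :
    (A : Matrix (Fin m ⊕ Fin m) (Fin m ⊕ Fin m) F).det = 1 := by
  let f : symplecticGroup (Fin m) F →* Fˣ :=
    ((Matrix.detMonoidHom : Matrix (Fin m ⊕ Fin m) (Fin m ⊕ Fin m) F →* F).comp
      (Submonoid.subtype (symplecticGroup (Fin m) F))).toHomUnits
  have h1 : commutator (symplecticGroup (Fin m) F) ≤ f.ker := Abelianization.commutator_subset_ker f
  rw [CfsgLib.Symp.commutator_symplecticGroup m h] at h1
  have h2 : A ∈ f.ker := h1 trivial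
  rw [MonoidHom.mem_ker] at h2
  exact congrArg Units.val h2

/-- `Sp₄ → SL₄`. -/
noncomputable def spSL (hdet : ∀ A : symplecticGroup (Fin 2) F,
    (A : Matrix (Fin 2 ⊕ Fin 2) (Fin 2 ⊕ Fin 2) F).det = 1) :
    symplecticGroup (Fin 2) F →* SpecialLinearGroup (Fin 4) F where
  toFun A := ⟨Matrix.reindexAlgEquiv F F finSumFinEquiv A.1, by
    rw [Matrix.det_reindexAlgEquiv, hdet]⟩
  map_one' := by
    apply Subtype.ext
    exact map_one (Matrix.reindexAlgEquiv F F finSumFinEquiv)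
  map_mul' A B := by
    apply Subtype.ext
    exact map_mul (Matrix.reindexAlgEquiv F F finSumFinEquiv) A.1 B.1

lemma spSL_coe (hdet : ∀ A : symplecticGroup (Fin 2) F,
    (A : Matrix (Fin 2 ⊕ Fin 2) (Fin 2 ⊕ Fin 2) F).det = 1) (A : symplecticGroup (Fin 2) F) :
    (spSL hdet A : Matrix (Fin 4) (Fin 4) F) = Matrix.reindexAlgEquiv F F finSumFinEquiv A.1 := rfl

/-- The symplectic form on `F⁴`. -/
def J4 (F : Type*) [Field F] : Matrix (Fin 4) (Fin 4) F :=
  !![0, 0, -1, 0; 0, 0, 0, -1; 1, 0, 0, 0; 0, 1, 0, 0]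

lemma reindex_J : Matrix.reindexAlgEquiv F F finSumFinEquiv (Matrix.J (Fin 2) F) = J4 F := by
  rw [← Matrix.ext_iff]
  intro i j
  fin_cases i <;> fin_cases j <;> simp [J4, Matrix.J, Matrix.reindexAlgEquiv_apply, finSumFinEquiv,
    Fin.addCases, Matrix.fromBlocks, Matrix.one_apply]

lemma spSL_J (hdet : ∀ A : symplecticGroup (Fin 2) F,
    (A : Matrix (Fin 2 ⊕ Fin 2) (Fin 2 ⊕ Fin 2) F).det = 1) (A : symplecticGroup (Fin 2) F) :
    (spSL hdet A : Matrix (Fin 4) (Fin 4) F) * J4 F * (spSL hdet A : Matrix (Fin 4) (Fin 4) F).transpose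
      = J4 F := by
  have h1 : A.1 * Matrix.J (Fin 2) F * A.1.transpose = Matrix.J (Fin 2) F :=
    SymplecticGroup.mem_iff.mp A.2
  have h2 := congrArg (Matrix.reindexAlgEquiv F F finSumFinEquiv) h1
  rw [map_mul, map_mul, reindex_J] at h2
  exact h2

lemma isAltM_J4 : IsAltM (J4 F) := by
  intro w
  simp only [J4, dotProduct, Matrix.mulVec, Fin.sum_univ_four]
  simp
  ring

/-- The underlying space. -/
abbrev V5 (F : Type*) := Unit ⊕ (Fin 2 ⊕ Fin 2) → F

/-- The embedding of five-space in six-space. -/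
def i5 (F : Type*) [Field F] : V5 F →ₗ[F] V6 F where
  toFun v := Sum.elim ![v (.inr (.inl 0)), v (.inl ()), v (.inr (.inl 1))]
    ![v (.inr (.inr 0)), v (.inl ()), v (.inr (.inr 1))]
  map_add' v w := by
    funext i
    rcases i with i | i
    · fin_cases i <;> simp
    · fin_cases i <;> simp
  map_smul' c v := by
    funext i
    rcases i with i | i
    · fin_cases i <;> simp
    · fin_cases i <;> simp

/-- The projection of six-space to five-space. -/
def p5 (F : Type*) [Field F] : V6 F →ₗ[F] V5 F where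
  toFun w := Sum.elim (fun _ => w (.inl 1)) (Sum.elim ![w (.inl 0), w (.inl 2)] ![w (.inr 0), w (.inr 2)])
  map_add' v w := by
    funext i
    rcases i with i | i | i
    · simp
    · fin_cases i <;> simp
    · fin_cases i <;> simp
  map_smul' c v := by
    funext i
    rcases i with i | i | i
    · simp
    · fin_cases i <;> simp
    · fin_cases i <;> simp

lemma p5_i5 (v : V5 F) : p5 F (i5 F v) = v := by
  funext i
  rcases i with i | i | i
  · simp [p5, i5]
  · fin_cases i <;> simp [p5, i5]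
  · fin_cases i <;> simp [p5, i5]

lemma i5_p5 {w : V6 F} (hw : w (.inl 1) = w (.inr 1)) : i5 F (p5 F w) = w := by
  funext i
  rcases i with i | i
  · fin_cases i <;> simp [p5, i5]
  · fin_cases i <;> simp [p5, i5, hw]

/-- The form. -/
noncomputable def q5 (F : Type*) [Field F] : QuadraticForm F (V5 F) :=
  (hypSum 2 (sqQ F)).comp (eOdd 2 F).toLinearMap

lemma q5_apply (v : V5 F) : q5 F v = quadFormOdd 2 F v := by
  rw [q5, QuadraticMap.comp_apply]
  exact eOdd_apply 2 v

lemma q6_i5 (v : V5 F) : q6 F (i5 F v) = q5 F v := by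
  rw [q6_apply, q5_apply]
  simp [quadFormPlus, quadFormOdd, i5, Fin.sum_univ_three, Fin.sum_univ_two]
  ring

/-- The vector of the symplectic form. -/
noncomputable def wJ (F : Type*) [Field F] : V6 F := eAI F (J4 F)

lemma polar_wJ (w : V6 F) : QuadraticMap.polarBilin (q6 F) w (wJ F) = w (.inl 1) - w (.inr 1) := by
  rw [QuadraticMap.polarBilin_apply_apply, QuadraticMap.polar, q6_apply, q6_apply, q6_apply]
  simp [quadFormPlus, wJ, eAI, J4, Fin.sum_univ_three]
  ring

section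

variable (hdet : ∀ A : symplecticGroup (Fin 2) F,
    (A : Matrix (Fin 2 ⊕ Fin 2) (Fin 2 ⊕ Fin 2) F).det = 1)

lemma phi6_wJ (A : symplecticGroup (Fin 2) F) : (phi6 F (spSL hdet A)).1 (wJ F) = wJ F := by
  have h1 : eA F ((phi6 F (spSL hdet A)).1 (wJ F)) = eA F (wJ F) := by
    rw [phi6_apply, eA_altRep, wJ, eA_eAI isAltM_J4, spSL_J]
  have h2 := congrArg (eAI F) h1
  rwa [eAI_eA, eAI_eA] at h2

lemma phi6_inv (A : symplecticGroup (Fin 2) F) {w : V6 F} (hw : w (.inl 1) = w (.inr 1)) :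
    (altRep F (spSL hdet A) w) (.inl 1) = (altRep F (spSL hdet A) w) (.inr 1) := by
  have h1 := polar_coe (q6 F) (phi6 F (spSL hdet A)) w (wJ F)
  rw [phi6_wJ, polar_wJ, polar_wJ, hw, sub_self] at h1
  exact sub_eq_zero.mp h1

/-- The five dimensional representation. -/
noncomputable def spRep : symplecticGroup (Fin 2) F →* Module.End F (V5 F) where
  toFun A := (p5 F).comp ((altRep F (spSL hdet A)).comp (i5 F))
  map_one' := by
    rw [map_one, map_one]
    apply LinearMap.ext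
    intro v
    exact p5_i5 v
  map_mul' A B := by
    rw [map_mul, map_mul]
    apply LinearMap.ext
    intro v
    change p5 F (altRep F (spSL hdet A) (altRep F (spSL hdet B) (i5 F v))) =
      p5 F (altRep F (spSL hdet A) (i5 F (p5 F (altRep F (spSL hdet B) (i5 F v)))))
    rw [i5_p5 (w := altRep F (spSL hdet B) (i5 F v)) (phi6_inv hdet B (by simp [i5]))]

lemma i5_spRep (A : symplecticGroup (Fin 2) F) (v : V5 F) :
    i5 F (spRep hdet A v) = altRep F (spSL hdet A) (i5 F v) := by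
  change i5 F (p5 F (altRep F (spSL hdet A) (i5 F v))) = _
  rw [i5_p5 (w := altRep F (spSL hdet A) (i5 F v)) (phi6_inv hdet A (by simp [i5]))]

/-- The homomorphism to the orthogonal group. -/
noncomputable def phi5 : symplecticGroup (Fin 2) F →* O (q5 F) :=
  (repHom (spRep hdet)).codRestrict (O (q5 F)) fun g => by
    rw [mem_O]
    intro v
    rw [repHom_apply, ← q6_i5, ← q6_i5, i5_spRep]
    exact map_coe (q6 F) (phi6 F (spSL hdet g)) (i5 F v)

lemma phi5_apply (A : symplecticGroup (Fin 2) F) (v : V5 F) :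
    (phi5 hdet A).1 v = spRep hdet A v := rfl

lemma phi5_eq_one_iff (h2 : (2 : F) ≠ 0) (A : symplecticGroup (Fin 2) F) : phi5 hdet A = 1 ↔
    phi6 F (spSL hdet A) = 1 := by
  constructor
  · intro h
    apply O_ext
    intro w
    have h3 : ∀ v : V5 F, (phi6 F (spSL hdet A)).1 (i5 F v) = i5 F v := by
      intro v
      rw [phi6_apply, ← i5_spRep, ← phi5_apply, h]
      rfl
    have h4 : w = i5 F (p5 F (w - ((w (.inr 1) - w (.inl 1)) / 2) • wJ F)) +
        ((w (.inr 1) - w (.inl 1)) / 2) • wJ F := by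
      rw [i5_p5, sub_add_cancel]
      simp [wJ, eAI, J4]
      field_simp
      ring
    rw [h4, _root_.map_add, _root_.map_smul, h3, phi6_wJ]
    rfl
  · intro h
    apply O_ext
    intro v
    have h1 : i5 F ((phi5 hdet A).1 v) = i5 F v := by
      rw [phi5_apply, i5_spRep, ← phi6_apply, h]
      rfl
    have h5 := congrArg (p5 F) h1
    rwa [p5_i5, p5_i5] at h5

lemma mem_ker_phi5 (h2 : (2 : F) ≠ 0) (A : symplecticGroup (Fin 2) F) : A ∈ (phi5 hdet).ker ↔
    ∃ r : F, r ^ 2 = 1 ∧ (A : Matrix (Fin 2 ⊕ Fin 2) (Fin 2 ⊕ Fin 2) F) =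
      Matrix.scalar (Fin 2 ⊕ Fin 2) r := by
  rw [MonoidHom.mem_ker, phi5_eq_one_iff hdet h2, ← MonoidHom.mem_ker, mem_ker_phi6]
  have h1 : ∀ r : F, Matrix.reindexAlgEquiv F F finSumFinEquiv (Matrix.scalar (Fin 2 ⊕ Fin 2) r) =
      Matrix.scalar (Fin 4) r := by
    intro r
    rw [Matrix.scalar_apply, Matrix.scalar_apply]
    exact Matrix.submatrix_diagonal_equiv (fun _ => r) (finSumFinEquiv (m := 2) (n := 2)).symm
  constructor
  · rintro ⟨r, hr, hrA⟩
    refine ⟨r, hr, ?_⟩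
    apply (Matrix.reindexAlgEquiv F F finSumFinEquiv).injective
    rw [h1, ← hrA]
    rfl
  · rintro ⟨r, hr, hrA⟩
    refine ⟨r, hr, ?_⟩
    rw [spSL_coe, hrA, h1]

lemma scalar_mem_symplectic {m : ℕ} {r : F} (hr : r ^ 2 = 1) :
    Matrix.scalar (Fin m ⊕ Fin m) r ∈ symplecticGroup (Fin m) F := by
  rw [SymplecticGroup.mem_iff]
  have h1 : (Matrix.scalar (Fin m ⊕ Fin m) r).transpose = Matrix.scalar (Fin m ⊕ Fin m) r := by
    rw [Matrix.scalar_apply, Matrix.diagonal_transpose]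
  rw [h1, (Matrix.scalar_commute r (fun _ => Commute.all _ _) _).eq, Matrix.mul_assoc, ← map_mul,
    ← pow_two, hr, map_one, Matrix.mul_one]

lemma card_ker_phi5 [Fintype F] (h2 : (2 : F) ≠ 0) :
    Nat.card (phi5 hdet).ker = Nat.gcd 2 (Fintype.card F - 1) := by
  rw [← card_sq_eq_one]
  symm
  apply Nat.card_congr
  refine Equiv.ofBijective (fun r => ⟨(⟨Matrix.scalar (Fin 2 ⊕ Fin 2) r.1,
    scalar_mem_symplectic r.2⟩ : symplecticGroup (Fin 2) F),
    (mem_ker_phi5 hdet h2 _).mpr ⟨r.1, r.2, rfl⟩⟩) ⟨?_, ?_⟩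
  · intro r s h
    have h1 : Matrix.scalar (Fin 2 ⊕ Fin 2) r.1 = Matrix.scalar (Fin 2 ⊕ Fin 2) s.1 :=
      congrArg (fun z : (phi5 hdet).ker => (z.1 : Matrix (Fin 2 ⊕ Fin 2) (Fin 2 ⊕ Fin 2) F)) h
    exact Subtype.ext (Matrix.scalar_inj.mp h1)
  · rintro ⟨A, hA⟩
    obtain ⟨r, hr, hrA⟩ := (mem_ker_phi5 hdet h2 A).mp hA
    exact ⟨⟨r, hr⟩, Subtype.ext (Subtype.ext hrA.symm)⟩

lemma ker_phi5_le (h2 : (2 : F) ≠ 0) :
    (phi5 hdet).ker ≤ Subgroup.center (symplecticGroup (Fin 2) F) := by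
  intro A hA
  obtain ⟨r, hr, hrA⟩ := (mem_ker_phi5 hdet h2 A).mp hA
  rw [Subgroup.mem_center_iff]
  intro B
  apply Subtype.ext
  change B.1 * A.1 = A.1 * B.1
  rw [hrA, (Matrix.scalar_commute r (fun _ => Commute.all _ _) _).eq]

end

/-- `PΩ₅(q) ≅ PSp₄(q)`. -/
theorem POmega_five [Fintype F] (hF : Odd (Fintype.card F)) :
    Nonempty (POmega F (quadFormOdd 2 F) ≃* PSp 2 F) := by
  have h2 : (2 : F) ≠ 0 := by
    intro h2
    have := exists_two_eq_zero h2
    have := Nat.odd_iff.mp hF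
    omega
  have hodd := Nat.odd_iff.mp hF
  have h1 : 1 < Fintype.card F := Fintype.one_lt_card
  have hperh : 3 ≤ 2 ∨ (2 = 2 ∧ 3 ≤ Fintype.card F) ∨ 4 ≤ Fintype.card F :=
    Or.inr (Or.inl ⟨rfl, by omega⟩)
  have hdet := det_symplectic (F := F) 2 hperh
  have hper := CfsgLib.Symp.commutator_symplecticGroup (F := F) 2 hperh
  have hN : (QuadraticMap.polarBilin (q5 F)).Nondegenerate := by
    have h1 := hypSum_nondegenerate (F := F) 2 (sqQ_nondegenerate (F := F) h2)
    exact nondegenerate_congr (eOdd 2 F).symm (fun u => by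
      rw [q5_apply, ← eOdd_apply, LinearEquiv.apply_symm_apply]) h1
  have hfin : finrank F (V5 F) = 5 := by
    rw [Module.finrank_fintype_fun_eq_card]; rfl
  have hH : Nat.card (O (q5 F)) = 2 * (Nat.card F ^ 4 *
      ((Nat.card F ^ 2 - 1) * (Nat.card F ^ 4 - 1))) := by
    rw [← Nat.card_congr (isoMat (quadFormOdd 2 F) (q5 F) (LinearEquiv.refl F _) q5_apply).toEquiv]
    have := card_O_odd (F := F) h2 2
    rw [this, Finset.prod_range_succ, Finset.prod_range_succ, Finset.prod_range_zero, one_mul]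
    norm_num
    ring
  have hG : Nat.card (symplecticGroup (Fin 2) F) = Nat.card F ^ 4 *
      ((Nat.card F ^ 2 - 1) * (Nat.card F ^ 4 - 1)) := by
    rw [CfsgLib.Symp.card_symplecticGroup, Finset.prod_range_succ, Finset.prod_range_succ,
      Finset.prod_range_zero, one_mul]
    norm_num
  have : Finite (V5 F ≃ₗ[F] V5 F) :=
    Finite.of_injective (fun e => (e : V5 F → V5 F)) DFunLike.coe_injective
  obtain ⟨e⟩ := commutator_quot_equiv (phi5 hdet) (range_le_of_perfect hper _) (k := 2) (by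
      rw [card_ker_phi5 hdet h2]
      have h6 : (Fintype.card F - 1) % 2 = 0 := by omega
      exact Nat.gcd_eq_left (Nat.dvd_of_mod_eq_zero h6))
    (index_commutator_odd h2 hN (by rw [hfin]; norm_num)) (by rw [hG, hH]; ring)
    (mem_center_of_perfect hper _ (ker_phi5_le hdet h2))
  exact ⟨(POmegaCongr (quadFormOdd 2 F) (q5 F) (LinearEquiv.refl F _) q5_apply).trans e⟩

end CfsgLib.Exc
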