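import Cfsg.Agent.Lib.Herm8

/-!
# Hermitian forms over finite fields IX: the two-dimensional special unitary group
-/

namespace CfsgLib.Herm

open Module CfsgLib.IsomDecomp Cfsg

set_option linter.unusedSimpArgs false
set_option linter.unusedSectionVars false

variable {F : Type*} [Field F] {σ : F →+* F} {q : ℕ}

/-- The fixed subfield. -/
def fixF (σ : F →+* F) : Subfield F := RingHom.eqLocusField σ (RingHom.id F)

lemma mem_fixF {a : F} : a ∈ fixF σ ↔ σ a = a := Iff.rfl

/-- The subfield with `q` elements. -/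
lemma exists_embedding {K : Type*} [Field K] [Finite K] (hq : QConj σ q) (hK : Nat.card K = q) :
    ∃ ι : K →+* F, ∀ a, σ a = a ↔ ∃ k, ι k = a := by
  have := hq.finite
  have := Fintype.ofFinite K
  have : Finite (fixF σ) := Subtype.finite
  have := Fintype.ofFinite (fixF σ)
  have h1 : Fintype.card K = Fintype.card (fixF σ) := by
    rw [← Nat.card_eq_fintype_card, ← Nat.card_eq_fintype_card, hK]
    exact hq.card_fixed.symm
  let ρ : K ≃+* fixF σ := FiniteField.ringEquivOfCardEq h1
  refine ⟨(fixF σ).subtype.comp ρ.toRingHom, fun a => ⟨fun ha => ?_, ?_⟩⟩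
  · refine ⟨ρ.symm ⟨a, ha⟩, ?_⟩
    change ((ρ (ρ.symm ⟨a, ha⟩) : fixF σ) : F) = a
    rw [RingEquiv.apply_symm_apply]
  · rintro ⟨k, rfl⟩
    exact (ρ k).2

/-- The skew form `ε (σ(x₀) y₁ - σ(x₁) y₀)`. -/
noncomputable def skewH (σ : F →+* F) (ε : F) : (Fin 2 → F) →ₛₗ[σ] (Fin 2 → F) →ₗ[F] F where
  toFun x := (ε * σ (x 0)) • LinearMap.proj 1 - (ε * σ (x 1)) • LinearMap.proj 0
  map_add' x y := by
    ext i
    simp only [Pi.add_apply, map_add, LinearMap.comp_apply, LinearMap.add_apply,
      LinearMap.sub_apply, LinearMap.smul_apply, smul_eq_mul]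
    ring
  map_smul' a x := by
    ext i
    simp only [Pi.smul_apply, smul_eq_mul, map_mul, LinearMap.comp_apply, LinearMap.smul_apply,
      LinearMap.sub_apply]
    ring

lemma skewH_apply (ε : F) (x y : Fin 2 → F) :
    skewH σ ε x y = ε * (σ (x 0) * y 1 - σ (x 1) * y 0) := by
  change (ε * σ (x 0)) * y 1 - (ε * σ (x 1)) * y 0 = _
  ring

lemma skewH_hform (hq : QConj σ q) {ε : F} (hε0 : ε ≠ 0) (hε : ε + σ ε = 0) :
    HForm (skewH σ ε) := by
  have hε' : σ ε = -ε := by linear_combination hε
  constructor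
  · intro x y
    rw [skewH_apply, skewH_apply, map_mul, map_sub, map_mul, map_mul, hq.invol, hq.invol, hε']
    ring
  · intro x hx
    have h0 := hx (Pi.single 0 1)
    have h1 := hx (Pi.single 1 1)
    rw [skewH_apply] at h0 h1
    simp at h0 h1
    have hx1 : x 1 = 0 := h0.resolve_left hε0
    have hx0 : x 0 = 0 := h1.resolve_left hε0
    funext i
    fin_cases i
    · exact hx0
    · exact hx1

/-- `SU₂(q) ≅ SL₂(q)`. -/
theorem SU_two_equiv {K : Type*} [Field K] [Finite K] (hq : QConj σ q) (hK : Nat.card K = q) :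
    Nonempty (SU 2 F q ≃* Matrix.SpecialLinearGroup (Fin 2) K) := by
  obtain ⟨ι, hι⟩ := exists_embedding hq hK
  obtain ⟨ε, hε0, hε⟩ := hq.exists_trace_ne_zero (map_zero σ)
  have hS := skewH_hform hq hε0 hε
  obtain ⟨θ, hθ⟩ := exists_isometry hq (stdH_hform hq 2) hS rfl
  let E₁ : SU 2 F q ≃* SUL (skewH σ ε) := (SUEquiv hq 2).trans (SULCongr θ hθ)
  let Φ : Matrix.SpecialLinearGroup (Fin 2) K →* ((Fin 2 → F) ≃ₗ[F] (Fin 2 → F)) :=
    (slHom 2 F).comp (Matrix.SpecialLinearGroup.map ι)
  have hΦ : Function.Injective Φ := by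
    intro A A' hAA
    have h1 : Matrix.SpecialLinearGroup.map ι A = Matrix.SpecialLinearGroup.map ι A' :=
      slHom_injective 2 hAA
    apply Matrix.SpecialLinearGroup.ext
    intro i j
    have h2 := congrArg (fun M : Matrix.SpecialLinearGroup (Fin 2) F => (M : Matrix _ _ F) i j) h1
    simp only [Matrix.SpecialLinearGroup.map_apply_coe, RingHom.mapMatrix_apply,
      Matrix.map_apply] at h2
    exact ι.injective h2
  have hrange : Φ.range = SUL (skewH σ ε) := by
    ext g
    constructor
    · rintro ⟨A, rfl⟩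
      have hdet : (Matrix.SpecialLinearGroup.map ι A : Matrix (Fin 2) (Fin 2) F).det = 1 :=
        (Matrix.SpecialLinearGroup.map ι A).2
      rw [mem_SUL]
      refine ⟨?_, ?_⟩
      · rw [mem_U]
        intro x y
        change skewH σ ε (slHom 2 F (Matrix.SpecialLinearGroup.map ι A) x)
          (slHom 2 F (Matrix.SpecialLinearGroup.map ι A) y) = _
        rw [slHom_apply, slHom_apply, skewH_apply, skewH_apply]
        have hfix : ∀ i j, σ ((Matrix.SpecialLinearGroup.map ι A : Matrix (Fin 2) (Fin 2) F) i j) =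
            (Matrix.SpecialLinearGroup.map ι A : Matrix (Fin 2) (Fin 2) F) i j :=
          fun i j => (hι _).mpr ⟨A i j, rfl⟩
        rw [Matrix.det_fin_two] at hdet
        simp only [Matrix.mulVec, dotProduct, Fin.sum_univ_two, map_add, map_mul, hfix]
        linear_combination (ε * (σ (x 0) * y 1 - σ (x 1) * y 0)) * hdet
      · have h1 := det_glEquiv (Matrix.SpecialLinearGroup.toGL (Matrix.SpecialLinearGroup.map ι A))
        change LinearMap.det ((CfsgLib.Quad.glEquiv (Fin 2) F
          (Matrix.SpecialLinearGroup.toGL (Matrix.SpecialLinearGroup.map ι A)) :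
          (Fin 2 → F) ≃ₗ[F] (Fin 2 → F)) : (Fin 2 → F) →ₗ[F] (Fin 2 → F)) = 1
        rw [h1]
        exact hdet
    · intro hg
      obtain ⟨hgU, hdet⟩ := mem_SUL.mp hg
      obtain ⟨A, rfl⟩ := (CfsgLib.Quad.glEquiv (Fin 2) F).surjective g
      rw [det_glEquiv, Matrix.det_fin_two] at hdet
      have hU := mem_U.mp hgU
      simp only [CfsgLib.Quad.glEquiv_apply, skewH_apply] at hU
      set M : Matrix (Fin 2) (Fin 2) F := (A : Matrix (Fin 2) (Fin 2) F) with hM
      have c0 := hU (Pi.single 0 1) (Pi.single 0 1)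
      have c1 := hU (Pi.single 0 1) (Pi.single 1 1)
      have c2 := hU (Pi.single 1 1) (Pi.single 0 1)
      have c3 := hU (Pi.single 1 1) (Pi.single 1 1)
      simp [Matrix.mulVec, dotProduct, Fin.sum_univ_two, hε0] at c0 c1 c2 c3
      -- the entries are fixed
      have d0 : σ (M 0 0) * M 1 0 - σ (M 1 0) * M 0 0 = 0 := c0
      have d1 : σ (M 0 0) * M 1 1 - σ (M 1 0) * M 0 1 = 1 := c1
      have d2 : σ (M 0 1) * M 1 0 - σ (M 1 1) * M 0 0 = -1 := by
        apply mul_left_cancel₀ hε0
        rw [c2]; ring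
      have d3 : σ (M 0 1) * M 1 1 - σ (M 1 1) * M 0 1 = 0 := c3
      have f00 : σ (M 0 0) = M 0 0 := by
        linear_combination (- (σ (M 0 0))) * hdet + M 0 0 * d1 - M 0 1 * d0
      have f10 : σ (M 1 0) = M 1 0 := by
        linear_combination (- (σ (M 1 0))) * hdet + M 1 0 * d1 - M 1 1 * d0
      have f01 : σ (M 0 1) = M 0 1 := by
        linear_combination (- (σ (M 0 1))) * hdet - M 0 1 * d2 + M 0 0 * d3
      have f11 : σ (M 1 1) = M 1 1 := by
        linear_combination (- (σ (M 1 1))) * hdet - M 1 1 * d2 + M 1 0 * d3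
      have hfix : ∀ i j, ∃ k, ι k = M i j := by
        intro i j
        rw [← hι]
        fin_cases i <;> fin_cases j
        · exact f00
        · exact f01
        · exact f10
        · exact f11
      choose N hN using hfix
      have hNdet : (Matrix.of N).det = 1 := by
        apply ι.injective
        rw [Matrix.det_fin_two, map_sub, map_mul, map_mul, map_one]
        simp only [Matrix.of_apply, hN]
        exact hdet
      refine ⟨⟨Matrix.of N, hNdet⟩, ?_⟩
      change CfsgLib.Quad.glEquiv (Fin 2) F (Matrix.SpecialLinearGroup.toGL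
        (Matrix.SpecialLinearGroup.map ι ⟨Matrix.of N, hNdet⟩)) = _
      congr 1
      apply Units.ext
      ext i j
      exact hN i j
  exact ⟨E₁.trans ((MonoidHom.ofInjective hΦ).trans (MulEquiv.subgroupCongr hrange)).symm⟩

end CfsgLib.Herm
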