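import Cfsg.Agent.Lib.Exc5
import Cfsg.Agent.Lib.Herm9

/-!
# Exceptional isomorphisms VI: `PΩ₆⁻ ≅ PSU₄`
-/

namespace CfsgLib.Exc

open Module CfsgLib.Quad CfsgLib.IsomDecomp Cfsg
open Matrix (SpecialLinearGroup ProjectiveSpecialLinearGroup vecMul mulVec symplecticGroup)
open scoped commutatorElement MatrixGroups

set_option linter.unusedSimpArgs false
set_option linter.unusedSectionVars false

variable {F : Type*} [Field F]

/-! ### The duality on alternating matrices -/

/-- The dual of an alternating matrix. -/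
noncomputable def hatM (X : Matrix (Fin 4) (Fin 4) F) : Matrix (Fin 4) (Fin 4) F :=
  eA F (fun i => eAI F X i.swap)

lemma hatM_eA (v : V6 F) : hatM (eA F v) = eA F (fun i => v i.swap) := by
  rw [hatM, eAI_eA]

lemma hatM_mul_self (v : V6 F) : hatM (eA F v) * eA F v = (- q6 F v) • (1 : Matrix (Fin 4) (Fin 4) F) := by
  rw [hatM_eA, q6_apply]
  rw [← Matrix.ext_iff]
  intro k l
  fin_cases k <;> fin_cases l
  all_goals
    simp only [Matrix.mul_apply, Fin.sum_univ_four, Matrix.smul_apply, Matrix.one_apply, eA,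
      LinearMap.coe_mk, AddHom.coe_mk, quadFormPlus, Fin.sum_univ_three]
    simp
  all_goals ring

lemma SL4_inv_mul (A : SpecialLinearGroup (Fin 4) F) :
    ((A⁻¹ : SpecialLinearGroup (Fin 4) F) : Matrix (Fin 4) (Fin 4) F) *
      (A : Matrix (Fin 4) (Fin 4) F) = 1 := congrArg Subtype.val (inv_mul_cancel A)

lemma SL4_mul_inv (A : SpecialLinearGroup (Fin 4) F) : (A : Matrix (Fin 4) (Fin 4) F) *
    ((A⁻¹ : SpecialLinearGroup (Fin 4) F) : Matrix (Fin 4) (Fin 4) F) = 1 :=
  congrArg Subtype.val (mul_inv_cancel A)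

lemma hatM_SL_of_ne (A : SpecialLinearGroup (Fin 4) F) (v : V6 F) (hv : q6 F v ≠ 0) :
    hatM ((A : Matrix (Fin 4) (Fin 4) F) * eA F v * (A : Matrix (Fin 4) (Fin 4) F).transpose) =
      ((A⁻¹ : SpecialLinearGroup (Fin 4) F) : Matrix (Fin 4) (Fin 4) F).transpose *
        hatM (eA F v) * ((A⁻¹ : SpecialLinearGroup (Fin 4) F) : Matrix (Fin 4) (Fin 4) F) := by
  set p := q6 F v with hp
  have h1 : q6 F (altRep F A v) = p := map_coe (q6 F) (phi6 F A) v
  set M := (A : Matrix (Fin 4) (Fin 4) F) * eA F v * (A : Matrix (Fin 4) (Fin 4) F).transpose with hM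
  have h2 : M = eA F (altRep F A v) := (eA_altRep A v).symm
  have h3 : hatM M * M = (-p) • (1 : Matrix (Fin 4) (Fin 4) F) := by
    rw [h2, hatM_mul_self, h1]
  have h4 : (((A⁻¹ : SpecialLinearGroup (Fin 4) F) : Matrix (Fin 4) (Fin 4) F).transpose *
        hatM (eA F v) * ((A⁻¹ : SpecialLinearGroup (Fin 4) F) : Matrix (Fin 4) (Fin 4) F)) * M =
      (-p) • (1 : Matrix (Fin 4) (Fin 4) F) := by
    have h5 : (((A⁻¹ : SpecialLinearGroup (Fin 4) F) : Matrix (Fin 4) (Fin 4) F).transpose *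
        hatM (eA F v) * ((A⁻¹ : SpecialLinearGroup (Fin 4) F) : Matrix (Fin 4) (Fin 4) F)) * M =
        ((A⁻¹ : SpecialLinearGroup (Fin 4) F) : Matrix (Fin 4) (Fin 4) F).transpose *
        (hatM (eA F v) * ((((A⁻¹ : SpecialLinearGroup (Fin 4) F) : Matrix (Fin 4) (Fin 4) F) *
        (A : Matrix (Fin 4) (Fin 4) F)) * eA F v)) * (A : Matrix (Fin 4) (Fin 4) F).transpose := by
      rw [hM]
      simp only [Matrix.mul_assoc]
    rw [h5, SL4_inv_mul, Matrix.one_mul, hatM_mul_self, ← hp, Matrix.mul_smul, Matrix.mul_one,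
      Matrix.smul_mul, ← Matrix.transpose_mul, SL4_mul_inv, Matrix.transpose_one]
  have h6 : (-p⁻¹) • hatM M * M = 1 := by
    rw [Matrix.smul_mul, h3, smul_smul, neg_mul_neg, inv_mul_cancel₀ hv, one_smul]
  have h7 : M * ((-p⁻¹) • hatM M) = 1 := mul_eq_one_comm.mp h6
  calc hatM M = hatM M * (M * ((-p⁻¹) • hatM M)) := by rw [h7, Matrix.mul_one]
    _ = (hatM M * M) * ((-p⁻¹) • hatM M) := (Matrix.mul_assoc _ _ _).symm
    _ = ((((A⁻¹ : SpecialLinearGroup (Fin 4) F) : Matrix (Fin 4) (Fin 4) F).transpose *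
        hatM (eA F v) * ((A⁻¹ : SpecialLinearGroup (Fin 4) F) : Matrix (Fin 4) (Fin 4) F)) * M) *
        ((-p⁻¹) • hatM M) := by rw [h3, h4]
    _ = _ := by rw [Matrix.mul_assoc, h7, Matrix.mul_one]

/-- `hatM` as a linear map on coordinates. -/
noncomputable def hatL (F : Type*) [Field F] : Matrix (Fin 4) (Fin 4) F →ₗ[F] Matrix (Fin 4) (Fin 4) F :=
  (eA F).comp ((LinearMap.funLeft F F Sum.swap).comp (eAI F))

lemma hatL_apply (X : Matrix (Fin 4) (Fin 4) F) : hatL F X = hatM X := rfl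

lemma hatM_SL (A : SpecialLinearGroup (Fin 4) F) {X : Matrix (Fin 4) (Fin 4) F} (hX : IsAltM X) :
    hatM ((A : Matrix (Fin 4) (Fin 4) F) * X * (A : Matrix (Fin 4) (Fin 4) F).transpose) =
      ((A⁻¹ : SpecialLinearGroup (Fin 4) F) : Matrix (Fin 4) (Fin 4) F).transpose *
        hatM X * ((A⁻¹ : SpecialLinearGroup (Fin 4) F) : Matrix (Fin 4) (Fin 4) F) := by
  obtain ⟨v, rfl⟩ : ∃ v, X = eA F v := ⟨eAI F X, (eA_eAI hX).symm⟩
  let f : V6 F →ₗ[F] Matrix (Fin 4) (Fin 4) F := (hatL F).comp ((mulT 4 F A).comp (eA F))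
  let g : V6 F →ₗ[F] Matrix (Fin 4) (Fin 4) F :=
    ((LinearMap.mulRight F ((A⁻¹ : SpecialLinearGroup (Fin 4) F) : Matrix (Fin 4) (Fin 4) F)).comp
      (LinearMap.mulLeft F
        ((A⁻¹ : SpecialLinearGroup (Fin 4) F) : Matrix (Fin 4) (Fin 4) F).transpose)).comp
      ((hatL F).comp (eA F))
  have key : ∀ v, q6 F v ≠ 0 → f v = g v := fun v hv => hatM_SL_of_ne A v hv
  have hfg : f = g := by
    have h2 : ∀ u v, q6 F u ≠ 0 → q6 F (u + v) ≠ 0 → f v = g v := by
      intro u v hu huv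
      have h3 := key _ huv
      rw [_root_.map_add, _root_.map_add, key _ hu] at h3
      exact add_left_cancel h3
    apply LinearMap.pi_ext
    intro i x
    let u : Fin 3 → V6 F := fun j => Sum.elim (Pi.single j 1) (Pi.single j 1)
    have hu : ∀ j, q6 F (u j) = 1 := by
      intro j
      rw [q6_apply, quadFormPlus]
      simp only [u, Sum.elim_inl, Sum.elim_inr]
      rw [Finset.sum_eq_single j]
      · simp
      · intro k _ hk
        rw [Pi.single_eq_of_ne hk, zero_mul]
      · intro h; exact absurd (Finset.mem_univ j) h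
    have hui : ∀ (j k : Fin 3), j ≠ k → ∀ x : F, q6 F (u j + Pi.single (Sum.inl k) x) = 1 ∧
        q6 F (u j + Pi.single (Sum.inr k) x) = 1 := by
      intro j k hjk x
      rw [q6_apply, q6_apply, quadFormPlus, quadFormPlus]
      constructor
      · rw [Finset.sum_eq_single j]
        · simp [u, Pi.add_apply, hjk]
        · intro l _ hl
          simp [u, Pi.add_apply, hl]
        · intro h; exact absurd (Finset.mem_univ j) h
      · rw [Finset.sum_eq_single j]
        · simp [u, Pi.add_apply, hjk]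
        · intro l _ hl
          simp [u, Pi.add_apply, hl]
        · intro h; exact absurd (Finset.mem_univ j) h
    obtain ⟨j, hj⟩ : ∃ j : Fin 3, j ≠ (Sum.elim id id i : Fin 3) := by
      generalize (Sum.elim id id i : Fin 3) = k
      fin_cases k
      · exact ⟨1, by decide⟩
      · exact ⟨0, by decide⟩
      · exact ⟨0, by decide⟩
    apply h2 (u j)
    · rw [hu]; exact one_ne_zero
    · rcases i with k | k
      · rw [(hui j k hj x).1]; exact one_ne_zero
      · rw [(hui j k hj x).2]; exact one_ne_zero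
  exact LinearMap.congr_fun hfg v

/-! ### Unitary matrices -/

lemma hatM_map {K : Type*} [Field K] (c : F →+* K) (X : Matrix (Fin 4) (Fin 4) F) :
    (hatM X).map c = hatM (X.map c) := by
  rw [← Matrix.ext_iff]
  intro k l
  fin_cases k <;> fin_cases l <;> simp [hatM, eA, eAI]

lemma eA_map {K : Type*} [Field K] (c : F →+* K) (v : V6 F) :
    (eA F v).map c = eA K (fun i => c (v i)) := by
  rw [← Matrix.ext_iff]
  intro k l
  fin_cases k <;> fin_cases l <;> simp [eA]

section Unitary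

variable {K : Type*} [Field K] {σ : K →+* K}

/-- Vectors which are self-dual for the semilinear duality. -/
def IsSD (σ : K →+* K) (w : V6 K) : Prop := ∀ i : Fin 3, w (.inr i) = σ (w (.inl i))

lemma isSD_iff (hσ : ∀ a, σ (σ a) = a) (w : V6 K) :
    IsSD σ w ↔ hatM (eA K w) = (eA K w).map σ := by
  rw [hatM_eA, eA_map]
  constructor
  · intro h
    congr 1
    funext i
    rcases i with i | i
    · exact h i
    · rw [h i, hσ]; rfl
  · intro h i
    have h1 := congrArg (eAI K) h
    rw [eAI_eA, eAI_eA] at h1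
    exact congrFun h1 (.inl i)

lemma isSD_altRep (hσ : ∀ a, σ (σ a) = a) {A : SpecialLinearGroup (Fin 4) K}
    (hA : ((A⁻¹ : SpecialLinearGroup (Fin 4) K) : Matrix (Fin 4) (Fin 4) K) =
      ((A : Matrix (Fin 4) (Fin 4) K).map σ).transpose) {w : V6 K} (hw : IsSD σ w) :
    IsSD σ (altRep K A w) := by
  rw [isSD_iff hσ] at hw ⊢
  rw [eA_altRep, hatM_SL A (isAltM_eA w), hA, hw, Matrix.transpose_transpose, Matrix.map_mul,
    Matrix.map_mul, Matrix.transpose_map]

end Unitary

end CfsgLib.Exc
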