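import Cfsg.Agent.Lib.Exc6

/-!
# Exceptional isomorphisms VII: `PΩ₆⁻ ≅ PSU₄`
-/

namespace CfsgLib.Exc

open Module CfsgLib.Quad CfsgLib.IsomDecomp Cfsg CfsgLib.Herm
open Matrix (SpecialLinearGroup ProjectiveSpecialLinearGroup vecMul mulVec symplecticGroup)
open scoped commutatorElement MatrixGroups

set_option linter.unusedSimpArgs false
set_option linter.unusedSectionVars false

lemma su_inv {K : Type*} [Field K] {σ : K →+* K} {q : ℕ} (hq : QConj σ q) {n : ℕ} (A : SU n K q) :
    ((A.1⁻¹ : SpecialLinearGroup (Fin n) K) : Matrix (Fin n) (Fin n) K) =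
      ((A.1 : Matrix (Fin n) (Fin n) K).map σ).transpose := by
  have h1 : (A.1 : Matrix (Fin n) (Fin n) K).transpose * (A.1 : Matrix (Fin n) (Fin n) K).map σ =
      1 := by
    rw [← Matrix.ext_iff]
    intro i j
    have h2 : hermForm n K q ((A.1 : Matrix (Fin n) (Fin n) K).mulVec (Pi.single i 1))
        ((A.1 : Matrix (Fin n) (Fin n) K).mulVec (Pi.single j 1)) =
        hermForm n K q (Pi.single i 1) (Pi.single j 1) := A.2 _ _
    rw [hermForm_eq hq, hermForm_eq hq, stdH_single, stdH_apply, Matrix.mulVec_single_one,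
      Matrix.mulVec_single_one] at h2
    rw [Matrix.mul_apply, Matrix.one_apply]
    have h3 : (if i = j then (1 : K) else 0) = if j = i then 1 else 0 := by
      by_cases h : i = j
      · rw [if_pos h, if_pos h.symm]
      · rw [if_neg h, if_neg (fun h' => h h'.symm)]
    rw [h3, ← h2]
    apply Finset.sum_congr rfl
    intro k _
    rw [mul_comm]
    rfl
  have h2 : (A.1 : Matrix (Fin n) (Fin n) K).map σ * (A.1 : Matrix (Fin n) (Fin n) K).transpose = 1 :=
    mul_eq_one_comm.mp h1
  have h3 : (A.1 : Matrix (Fin n) (Fin n) K) * ((A.1 : Matrix (Fin n) (Fin n) K).map σ).transpose =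
      1 := by
    have := congrArg Matrix.transpose h2
    rwa [Matrix.transpose_mul, Matrix.transpose_transpose, Matrix.transpose_one] at this
  have h4 : ((A.1⁻¹ : SpecialLinearGroup (Fin n) K) : Matrix (Fin n) (Fin n) K) *
      (A.1 : Matrix (Fin n) (Fin n) K) = 1 := congrArg Subtype.val (inv_mul_cancel A.1)
  calc ((A.1⁻¹ : SpecialLinearGroup (Fin n) K) : Matrix (Fin n) (Fin n) K) =
      ((A.1⁻¹ : SpecialLinearGroup (Fin n) K) : Matrix (Fin n) (Fin n) K) *
        ((A.1 : Matrix (Fin n) (Fin n) K) * ((A.1 : Matrix (Fin n) (Fin n) K).map σ).transpose) := by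
          rw [h3, Matrix.mul_one]
    _ = _ := by rw [← Matrix.mul_assoc, h4, Matrix.one_mul]

variable {F : Type*} [Field F] {a b : F}

/-- The sum of three norm forms. -/
noncomputable def n3 (a b : F) : QuadraticForm F (Fin 3 → QK a b) :=
  ∑ i : Fin 3, (binQ a b).comp (LinearMap.proj i)

lemma n3_apply (z : Fin 3 → QK a b) : n3 a b z = ∑ i, (z i).norm := by
  rw [n3, _root_.sum_apply]
  apply Finset.sum_congr rfl
  intro i _
  rw [QuadraticMap.comp_apply, binQ_apply]
  rfl

/-- The `σ`-ring homomorphism of the quadratic algebra. -/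
noncomputable def sg (a b : F) : QK a b →+* QK a b := starRingEnd (QK a b)

lemma sg_apply (z : QK a b) : sg a b z = star z := rfl

lemma sg_sg (z : QK a b) : sg a b (sg a b z) = z := star_star z

section fact

variable [hf : Fact (∀ r : F, r ^ 2 ≠ -b + a * r)]

lemma sg_ne_id (hab : Aniso a b) [Finite F] : sg a b ≠ RingHom.id (QK a b) := by
  intro h
  have h1 : star (⟨0, 1⟩ : QK a b) = ⟨0, 1⟩ := RingHom.congr_fun h _
  have h2 := congrArg QuadraticAlgebra.re h1
  have h3 := congrArg QuadraticAlgebra.im h1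
  rw [QuadraticAlgebra.re_star] at h2
  rw [QuadraticAlgebra.im_star] at h3
  simp only [zero_add, mul_one] at h2 h3
  have hd := hab.disc_ne_zero
  apply hd
  have h4 : (2 : F) = 0 := by linear_combination -h3
  have h5 : (4 : F) = 2 * 2 := by norm_num
  rw [h5, h4, h2]
  ring

lemma card_QK (hab : Aniso a b) [Finite F] : Nat.card (QK a b) = Nat.card F ^ 2 := by
  rw [Module.natCard_eq_pow_finrank (K := F), QuadraticAlgebra.finrank_eq_two]

lemma sg_qconj (hab : Aniso a b) [Finite F] : QConj (sg a b) (Nat.card F) := by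
  have : Finite (QK a b) := Module.finite_of_finite F
  obtain ⟨q, hq⟩ := exists_qconj (sg_ne_id hab) sg_sg
  have h1 := hq.card
  rw [card_QK hab] at h1
  have h2 : Nat.card F = q := by
    have := Nat.pow_left_injective (n := 2) (by norm_num) h1
    exact this
  rw [h2]
  exact hq

end fact

/-- The embedding of self-dual vectors. -/
noncomputable def jL (a b : F) : (Fin 3 → QK a b) →ₗ[F] V6 (QK a b) where
  toFun z := Sum.elim z (fun i => star (z i))
  map_add' z w := by
    funext i
    rcases i with i | i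
    · rfl
    · exact star_add _ _
  map_smul' c z := by
    funext i
    rcases i with i | i
    · rfl
    · change star (c • z i) = c • star (z i)
      rw [QuadraticAlgebra.ext_iff]
      simp
      ring

/-- The projection. -/
noncomputable def pL (a b : F) : V6 (QK a b) →ₗ[F] (Fin 3 → QK a b) where
  toFun w := fun i => w (.inl i)
  map_add' z w := rfl
  map_smul' c z := rfl

lemma pL_jL (z : Fin 3 → QK a b) : pL a b (jL a b z) = z := rfl

section rep

variable [hf : Fact (∀ r : F, r ^ 2 ≠ -b + a * r)] {q : ℕ}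

lemma isSD_jL (z : Fin 3 → QK a b) : IsSD (sg a b) (jL a b z) := fun i => rfl

lemma jL_pL {w : V6 (QK a b)} (hw : IsSD (sg a b) w) : jL a b (pL a b w) = w := by
  funext i
  rcases i with i | i
  · rfl
  · exact (hw i).symm

/-- The representation of the unitary group. -/
noncomputable def suRep (hq : QConj (sg a b) q) :
    SU 4 (QK a b) q →* Module.End F (Fin 3 → QK a b) where
  toFun A := (pL a b).comp (((altRep (QK a b) A.1).restrictScalars F).comp (jL a b))
  map_one' := by
    rw [Subgroup.coe_one, map_one]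
    rfl
  map_mul' A B := by
    rw [Subgroup.coe_mul, map_mul]
    apply LinearMap.ext
    intro v
    change pL a b (altRep (QK a b) A.1 (altRep (QK a b) B.1 (jL a b v))) =
      pL a b (altRep (QK a b) A.1 (jL a b (pL a b (altRep (QK a b) B.1 (jL a b v)))))
    rw [jL_pL (w := altRep (QK a b) B.1 (jL a b v))
      (isSD_altRep sg_sg (su_inv hq B) (isSD_jL v))]

lemma jL_suRep (hq : QConj (sg a b) q) (A : SU 4 (QK a b) q) (z : Fin 3 → QK a b) :
    jL a b (suRep hq A z) = altRep (QK a b) A.1 (jL a b z) := by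
  change jL a b (pL a b (altRep (QK a b) A.1 (jL a b z))) = _
  rw [jL_pL (w := altRep (QK a b) A.1 (jL a b z)) (isSD_altRep sg_sg (su_inv hq A) (isSD_jL z))]

lemma q6_jL (z : Fin 3 → QK a b) : q6 (QK a b) (jL a b z) = algebraMap F (QK a b) (n3 a b z) := by
  rw [q6_apply, n3_apply, map_sum, quadFormPlus]
  apply Finset.sum_congr rfl
  intro i _
  rw [QuadraticAlgebra.algebraMap_norm_eq_mul_star]
  rfl

/-- The homomorphism to the orthogonal group. -/
noncomputable def phiU (hq : QConj (sg a b) q) : SU 4 (QK a b) q →* O (n3 a b) :=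
  (repHom (suRep hq)).codRestrict (O (n3 a b)) fun g => by
    rw [mem_O]
    intro z
    apply QuadraticAlgebra.algebraMap_injective (a := -b) (b := a)
    rw [repHom_apply]
    change algebraMap F (QK a b) _ = algebraMap F (QK a b) _
    rw [← q6_jL, ← q6_jL, jL_suRep]
    exact map_coe (q6 (QK a b)) (phi6 (QK a b) g.1) (jL a b z)

lemma phiU_apply (hq : QConj (sg a b) q) (A : SU 4 (QK a b) q) (z : Fin 3 → QK a b) :
    (phiU hq A).1 z = suRep hq A z := rfl

lemma phiU_eq_one_iff (hq : QConj (sg a b) q) (hs : sg a b ≠ RingHom.id (QK a b))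
    (A : SU 4 (QK a b) q) : phiU hq A = 1 ↔ phi6 (QK a b) A.1 = 1 := by
  constructor
  · intro h
    obtain ⟨ω, hω⟩ : ∃ ω : QK a b, star ω ≠ ω := by
      by_contra hcon
      push Not at hcon
      exact hs (RingHom.ext hcon)
    have hω' : ω - star ω ≠ 0 := fun h => hω (sub_eq_zero.mp h).symm
    have h1 : ∀ z, altRep (QK a b) A.1 (jL a b z) = jL a b z := by
      intro z
      rw [← jL_suRep hq, ← phiU_apply, h]
      rfl
    have h2 : altRep (QK a b) A.1 = LinearMap.id := by
      apply LinearMap.pi_ext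
      intro k x
      have hs1 : ∀ i : Fin 3, jL a b (Pi.single i ω) - star ω • jL a b (Pi.single i 1) =
          Pi.single (Sum.inl i) (ω - star ω) := by
        intro i
        funext l
        rcases l with l | l
        · by_cases hl : l = i
          · subst hl; simp [jL]
          · simp [jL, hl]
        · by_cases hl : l = i
          · subst hl; simp [jL]
          · simp [jL, hl]
      have hs2 : ∀ i : Fin 3, jL a b (Pi.single i ω) - ω • jL a b (Pi.single i 1) =
          Pi.single (Sum.inr i) (star ω - ω) := by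
        intro i
        funext l
        rcases l with l | l
        · by_cases hl : l = i
          · subst hl; simp [jL]
          · simp [jL, hl]
        · by_cases hl : l = i
          · subst hl; simp [jL]
          · simp [jL, hl]
      rw [LinearMap.id_apply]
      rcases k with i | i
      · have h3 : (Pi.single (Sum.inl i) x : V6 (QK a b)) = (x / (ω - star ω)) •
            (jL a b (Pi.single i ω) - star ω • jL a b (Pi.single i 1)) := by
          rw [hs1, ← Pi.single_smul, smul_eq_mul, div_mul_cancel₀ _ hω']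
        rw [h3, _root_.map_smul, _root_.map_sub, _root_.map_smul, h1, h1]
      · have hω'' : star ω - ω ≠ 0 := fun h => hω (sub_eq_zero.mp h)
        have h3 : (Pi.single (Sum.inr i) x : V6 (QK a b)) = (x / (star ω - ω)) •
            (jL a b (Pi.single i ω) - ω • jL a b (Pi.single i 1)) := by
          rw [hs2, ← Pi.single_smul, smul_eq_mul, div_mul_cancel₀ _ hω'']
        rw [h3, _root_.map_smul, _root_.map_sub, _root_.map_smul, h1, h1]
    apply O_ext
    intro w
    rw [phi6_apply, h2]
    rfl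
  · intro h
    apply O_ext
    intro z
    have h1 : jL a b ((phiU hq A).1 z) = jL a b z := by
      rw [phiU_apply, jL_suRep, ← phi6_apply, h]
      rfl
    have h2 := congrArg (pL a b) h1
    exact h2

lemma mem_ker_phiU (hq : QConj (sg a b) q) (hs : sg a b ≠ RingHom.id (QK a b))
    (A : SU 4 (QK a b) q) : A ∈ (phiU hq).ker ↔
    ∃ r : QK a b, r ^ 2 = 1 ∧ (A.1 : Matrix (Fin 4) (Fin 4) (QK a b)) = Matrix.scalar (Fin 4) r := by
  rw [MonoidHom.mem_ker, phiU_eq_one_iff hq hs, ← MonoidHom.mem_ker, mem_ker_phi6]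

lemma mul_sg_of_sq {r : QK a b} (hr : r ^ 2 = 1) : r * sg a b r = 1 := by
  have h3 : (r - 1) * (r + 1) = 0 := by linear_combination hr
  have h4 : star r = r := by
    rcases mul_eq_zero.mp h3 with h4 | h4
    · rw [sub_eq_zero.mp h4, star_one]
    · rw [eq_neg_of_add_eq_zero_left h4, star_neg, star_one]
  rw [sg_apply, h4, ← pow_two, hr]

lemma det_scalar4 {K : Type*} [Field K] {r : K} (hr : r ^ 2 = 1) :
    (Matrix.scalar (Fin 4) r).det = 1 := by
  rw [Matrix.scalar_apply, Matrix.det_diagonal, Finset.prod_const, Finset.card_univ,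
    Fintype.card_fin]
  linear_combination (r ^ 2 + 1) * hr

lemma scalar_mem_SU (hq : QConj (sg a b) q) {r : QK a b} (hr : r ^ 2 = 1) :
    (⟨Matrix.scalar (Fin 4) r, det_scalar4 hr⟩ : SpecialLinearGroup (Fin 4) (QK a b)) ∈
      SU 4 (QK a b) q := by
  intro u v
  change hermForm 4 (QK a b) q ((Matrix.scalar (Fin 4) r).mulVec u)
    ((Matrix.scalar (Fin 4) r).mulVec v) = _
  have h1 : ∀ w : Fin 4 → QK a b, (Matrix.scalar (Fin 4) r).mulVec w = r • w := by
    intro w
    funext i
    rw [Matrix.scalar_apply, Matrix.mulVec_diagonal]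
    rfl
  rw [h1, h1, hermForm_eq hq, hermForm_eq hq, map_smul_left, map_smul_right, ← mul_assoc,
    mul_comm (sg a b r), mul_sg_of_sq hr, one_mul]

lemma card_ker_phiU [Fintype (QK a b)] (hq : QConj (sg a b) q) (hs : sg a b ≠ RingHom.id (QK a b)) :
    Nat.card (phiU hq).ker = Nat.gcd 2 (Fintype.card (QK a b) - 1) := by
  rw [← card_sq_eq_one]
  symm
  apply Nat.card_congr
  refine Equiv.ofBijective (fun r => ⟨(⟨(⟨Matrix.scalar (Fin 4) r.1, det_scalar4 r.2⟩ :
    SpecialLinearGroup (Fin 4) (QK a b)), scalar_mem_SU hq r.2⟩ : SU 4 (QK a b) q),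
    (mem_ker_phiU hq hs _).mpr ⟨r.1, r.2, rfl⟩⟩) ⟨?_, ?_⟩
  · intro r s h
    have h1 : Matrix.scalar (Fin 4) r.1 = Matrix.scalar (Fin 4) s.1 :=
      congrArg (fun z : (phiU hq).ker => (z.1.1 : Matrix (Fin 4) (Fin 4) (QK a b))) h
    exact Subtype.ext (Matrix.scalar_inj.mp h1)
  · rintro ⟨A, hA⟩
    obtain ⟨r, hr, hrA⟩ := (mem_ker_phiU hq hs A).mp hA
    exact ⟨⟨r, hr⟩, Subtype.ext (Subtype.ext (Subtype.ext hrA.symm))⟩

lemma ker_phiU_le (hq : QConj (sg a b) q) (hs : sg a b ≠ RingHom.id (QK a b)) :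
    (phiU hq).ker ≤ Subgroup.center (SU 4 (QK a b) q) := by
  intro A hA
  obtain ⟨r, hr, hrA⟩ := (mem_ker_phiU hq hs A).mp hA
  rw [Subgroup.mem_center_iff]
  intro B
  apply Subtype.ext
  apply Subtype.ext
  change (B.1 : Matrix (Fin 4) (Fin 4) (QK a b)) * A.1 = A.1 * (B.1 : Matrix (Fin 4) (Fin 4) (QK a b))
  rw [hrA, (Matrix.scalar_commute r (fun _ => Commute.all _ _) _).eq]

end rep

/-! ### The isometry with the standard form -/

section iso

variable [Finite F]

lemma norm_eq (z : QK a b) : z.norm = z.re ^ 2 + a * z.re * z.im + b * z.im ^ 2 := by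
  rw [QuadraticAlgebra.norm_def]; ring

lemma exists_n3_iso (hab : Aniso a b) : ∃ e : ((Fin 2 ⊕ Fin 2) ⊕ Fin 2 → F) ≃ₗ[F] (Fin 3 → QK a b),
    ∀ v, n3 a b (e v) = quadFormMinus 2 F a b v := by
  have hf := hab.fact
  have : Finite (QK a b) := Module.finite_of_finite F
  have hq := sg_qconj hab
  obtain ⟨c, d, hcd, hc, hd⟩ : ∃ c d : QK a b, c ≠ d ∧ c.norm = -1 ∧ d.norm = -1 := by
    have h1 := hq.card_norm (c := -1) (by rw [_root_.map_neg, _root_.map_one]) (by simp)
    have h2 : 1 < Nat.card {x : QK a b // x * sg a b x = -1} := by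
      rw [h1]
      have := hq.two_le
      omega
    have : Finite {x : QK a b // x * sg a b x = -1} := inferInstance
    rw [Finite.one_lt_card_iff_nontrivial] at h2
    obtain ⟨⟨c, hc⟩, ⟨d, hd⟩, hcd⟩ := h2
    have h3 : ∀ x : QK a b, x * sg a b x = -1 → x.norm = -1 := by
      intro x hx
      have h4 : algebraMap F (QK a b) x.norm = algebraMap F (QK a b) (-1) := by
        rw [QuadraticAlgebra.algebraMap_norm_eq_mul_star, _root_.map_neg, _root_.map_one]
        exact hx
      exact QuadraticAlgebra.algebraMap_injective (a := -b) (b := a) h4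
    exact ⟨c, d, fun h => hcd (Subtype.ext h), h3 c hc, h3 d hd⟩
  set S : QK a b := 1 + c * star d with hS
  have hS0 : S ≠ 0 := by
    intro h
    apply hcd
    have h1 : d * star d = -1 := by
      rw [← QuadraticAlgebra.algebraMap_norm_eq_mul_star, hd, _root_.map_neg, _root_.map_one]
    have h2 : S * d = 0 := by rw [h, zero_mul]
    rw [hS] at h2
    linear_combination (-1 : QK a b) * h2 + c * h1
  let W : QK a b := ⟨0, 1⟩
  let ψ₀ : QK a b →ₗ[F] (Fin 2 → F) := LinearMap.pi
    ![QuadraticMap.polarBilin (binQ a b) S, QuadraticMap.polarBilin (binQ a b) (W * S)]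
  have hψ0 : ∀ v, ψ₀ v 0 = QuadraticMap.polarBilin (binQ a b) S v := fun v => rfl
  have hψ1 : ∀ v, ψ₀ v 1 = QuadraticMap.polarBilin (binQ a b) (W * S) v := fun v => rfl
  have hψinj : Function.Injective ψ₀ := by
    rw [← LinearMap.ker_eq_bot, LinearMap.ker_eq_bot']
    intro v hv
    have h0 : QuadraticMap.polarBilin (binQ a b) S v = 0 := by rw [← hψ0, hv]; rfl
    have h1 : QuadraticMap.polarBilin (binQ a b) (W * S) v = 0 := by rw [← hψ1, hv]; rfl
    apply (binQ_nondegenerate hab).2
    intro y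
    have h2 : y = (y * S⁻¹).re • S + (y * S⁻¹).im • (W * S) := by
      have h30 : ∀ t : QK a b, t = t.re • (1 : QK a b) + t.im • W := by
        intro t
        apply QuadraticAlgebra.ext
        · simp [W, QuadraticAlgebra.re_one]
        · simp [W, QuadraticAlgebra.im_one]
      have h3 := h30 (y * S⁻¹)
      calc y = (y * S⁻¹) * S := by rw [mul_assoc, inv_mul_cancel₀ hS0, mul_one]
        _ = ((y * S⁻¹).re • (1 : QK a b) + (y * S⁻¹).im • W) * S := by rw [← h3]
        _ = _ := by rw [add_mul, smul_mul_assoc, smul_mul_assoc, one_mul]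
    rw [h2, LinearMap.map_add₂, LinearMap.map_smul₂, LinearMap.map_smul₂, h0, h1]
    simp
  let ψ : QK a b ≃ₗ[F] (Fin 2 → F) := LinearMap.linearEquivOfInjective ψ₀ hψinj (by
    rw [QuadraticAlgebra.finrank_eq_two, Module.finrank_fintype_fun_eq_card, Fintype.card_fin])
  have hψ : ∀ v, ψ v = ψ₀ v := fun v => rfl
  let U : ((Fin 2 ⊕ Fin 2) ⊕ Fin 2 → F) →ₗ[F] QK a b :=
    { toFun := fun v => ⟨v (.inl (.inl 0)), v (.inl (.inl 1))⟩
      map_add' := fun x y => rfl
      map_smul' := fun c x => rfl }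
  let Y₀ : ((Fin 2 ⊕ Fin 2) ⊕ Fin 2 → F) →ₗ[F] (Fin 2 → F) :=
    { toFun := fun v i => v (.inl (.inr i))
      map_add' := fun x y => rfl
      map_smul' := fun c x => rfl }
  let Z : ((Fin 2 ⊕ Fin 2) ⊕ Fin 2 → F) →ₗ[F] QK a b :=
    { toFun := fun v => ⟨v (.inr 0), v (.inr 1)⟩
      map_add' := fun x y => rfl
      map_smul' := fun c x => rfl }
  let Y : ((Fin 2 ⊕ Fin 2) ⊕ Fin 2 → F) →ₗ[F] QK a b := ψ.symm.toLinearMap.comp Y₀
  let e₀ : ((Fin 2 ⊕ Fin 2) ⊕ Fin 2 → F) →ₗ[F] (Fin 3 → QK a b) := LinearMap.pi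
    ![U + Y, (LinearMap.mulLeft F c).comp U + (LinearMap.mulLeft F d).comp Y, Z]
  have he0 : ∀ v, n3 a b (e₀ v) = quadFormMinus 2 F a b v := by
    intro v
    have hy0 : ψ₀ (Y v) 0 = v (.inl (.inr 0)) := by
      rw [← hψ]
      change ψ (ψ.symm (Y₀ v)) 0 = _
      rw [LinearEquiv.apply_symm_apply]
      rfl
    have hy1 : ψ₀ (Y v) 1 = v (.inl (.inr 1)) := by
      rw [← hψ]
      change ψ (ψ.symm (Y₀ v)) 1 = _
      rw [LinearEquiv.apply_symm_apply]
      rfl
    rw [hψ0, binQ_polar] at hy0
    rw [hψ1, binQ_polar] at hy1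
    rw [n3_apply, quadFormMinus, Fin.sum_univ_three, Fin.sum_univ_two, ← hy0, ← hy1]
    change (U v + Y v).norm + (c * U v + d * Y v).norm + (Z v).norm = _
    rw [norm_eq] at hc hd
    have hZ : (Z v).norm = v (.inr 0) ^ 2 + a * v (.inr 0) * v (.inr 1) + b * v (.inr 1) ^ 2 :=
      norm_eq _
    rw [hZ]
    congr 1
    have hu0 : v (.inl (.inl 0)) = (U v).re := rfl
    have hu1 : v (.inl (.inl 1)) = (U v).im := rfl
    rw [hu0, hu1]
    generalize U v = x
    generalize Y v = y
    rw [norm_eq, norm_eq, hS]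
    simp only [QuadraticAlgebra.re_add, QuadraticAlgebra.im_add, QuadraticAlgebra.re_mul,
      QuadraticAlgebra.im_mul, QuadraticAlgebra.re_star, QuadraticAlgebra.im_star,
      QuadraticAlgebra.re_one, QuadraticAlgebra.im_one, W]
    linear_combination (x.re ^ 2 + a * x.re * x.im + b * x.im ^ 2) * hc +
      (y.re ^ 2 + a * y.re * y.im + b * y.im ^ 2) * hd
  have hinj : Function.Injective e₀ := by
    rw [← LinearMap.ker_eq_bot, LinearMap.ker_eq_bot']
    intro v hv
    have hN : (QuadraticMap.polarBilin ((hypSum 2 (binQ a b)).comp (eMinus 2 a b).toLinearMap)).Nondegenerate := by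
      have h1 := hypSum_nondegenerate (F := F) 2 (binQ_nondegenerate hab)
      exact nondegenerate_congr (eMinus 2 a b).symm (fun u => by
        rw [QuadraticMap.comp_apply]
        change hypSum 2 (binQ a b) (eMinus 2 a b ((eMinus 2 a b).symm u)) = _
        rw [LinearEquiv.apply_symm_apply]) h1
    have hQ : ∀ w, ((hypSum 2 (binQ a b)).comp (eMinus 2 a b).toLinearMap) w = n3 a b (e₀ w) := by
      intro w
      rw [he0, QuadraticMap.comp_apply]
      exact eMinus_apply 2 a b w
    apply hN.2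
    intro y
    rw [QuadraticMap.polarBilin_apply_apply, QuadraticMap.polar, hQ, hQ, hQ, _root_.map_add, hv,
      add_zero, QuadraticMap.map_zero]
    ring
  refine ⟨LinearMap.linearEquivOfInjective e₀ hinj ?_, fun v => he0 v⟩
  rw [Module.finrank_fintype_fun_eq_card, Module.finrank_pi_fintype]
  simp [QuadraticAlgebra.finrank_eq_two]

end iso

end CfsgLib.Exc
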