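import Cfsg.Agent.Lib.Exc7

/-!
# Exceptional isomorphisms VIII: `PΩ₆⁻ ≅ PSU₄`
-/

namespace CfsgLib.Exc

open Module CfsgLib.Quad CfsgLib.IsomDecomp Cfsg CfsgLib.Herm
open Matrix (SpecialLinearGroup ProjectiveSpecialLinearGroup vecMul mulVec symplecticGroup)
open scoped commutatorElement MatrixGroups

set_option linter.unusedSimpArgs false
set_option linter.unusedSectionVars false

section map

variable {K L : Type*} [Field K] [Field L]

lemma hermForm_map (f : L ≃+* K) (n q : ℕ) (u v : Fin n → L) :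
    hermForm n K q (fun i => f (u i)) (fun i => f (v i)) = f (hermForm n L q u v) := by
  rw [hermForm, hermForm, map_sum]
  apply Finset.sum_congr rfl
  intro i _
  rw [_root_.map_mul, _root_.map_pow]

lemma SLMapEquiv_mulVec (f : L ≃+* K) (n : ℕ) (A : SpecialLinearGroup (Fin n) L) (u : Fin n → L) :
    (SLMapEquiv (Fin n) f A : Matrix (Fin n) (Fin n) K).mulVec (fun i => f (u i)) =
      fun i => f ((A : Matrix (Fin n) (Fin n) L).mulVec u i) := by
  funext i
  exact (RingHom.map_mulVec (f : L →+* K) (A : Matrix (Fin n) (Fin n) L) u i).symm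

lemma mem_SU_map_iff (f : L ≃+* K) (n q : ℕ) (A : SpecialLinearGroup (Fin n) L) :
    SLMapEquiv (Fin n) f A ∈ SU n K q ↔ A ∈ SU n L q := by
  constructor
  · intro h u v
    have h1 : hermForm n K q
        ((SLMapEquiv (Fin n) f A : Matrix (Fin n) (Fin n) K).mulVec (fun i => f (u i)))
        ((SLMapEquiv (Fin n) f A : Matrix (Fin n) (Fin n) K).mulVec (fun i => f (v i))) =
        hermForm n K q (fun i => f (u i)) (fun i => f (v i)) := h _ _
    rw [SLMapEquiv_mulVec, SLMapEquiv_mulVec, hermForm_map, hermForm_map] at h1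
    exact f.injective h1
  · intro h u v
    obtain ⟨u, rfl⟩ : ∃ u', u = fun i => f (u' i) := ⟨fun i => f.symm (u i), by funext i; simp⟩
    obtain ⟨v, rfl⟩ : ∃ v', v = fun i => f (v' i) := ⟨fun i => f.symm (v i), by funext i; simp⟩
    change hermForm n K q
        ((SLMapEquiv (Fin n) f A : Matrix (Fin n) (Fin n) K).mulVec (fun i => f (u i)))
        ((SLMapEquiv (Fin n) f A : Matrix (Fin n) (Fin n) K).mulVec (fun i => f (v i))) =
        hermForm n K q (fun i => f (u i)) (fun i => f (v i))
    rw [SLMapEquiv_mulVec, SLMapEquiv_mulVec, hermForm_map, hermForm_map]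
    congr 1
    exact h u v

/-- `SU` over isomorphic fields. -/
noncomputable def SUMapEquiv (f : L ≃+* K) (n q : ℕ) : SU n L q ≃* SU n K q :=
  ((SLMapEquiv (Fin n) f).subgroupMap (SU n L q)).trans (MulEquiv.subgroupCongr (by
    ext A
    rw [Subgroup.mem_map]
    constructor
    · rintro ⟨B, hB, rfl⟩
      exact (mem_SU_map_iff f n q B).mpr hB
    · intro hA
      refine ⟨(SLMapEquiv (Fin n) f).symm A, ?_, (SLMapEquiv (Fin n) f).apply_symm_apply A⟩
      rw [← mem_SU_map_iff f n q]
      rwa [MulEquiv.apply_symm_apply]))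

end map

/-- `PΩ₆⁻(q) ≅ PSU₄(q)`. -/
theorem POmega_six_minus {F K : Type*} [Field F] [Fintype F] [Field K] [Fintype K] {q : ℕ}
    (hF : Fintype.card F = q) (hK : Fintype.card K = q ^ 2) (a b : F)
    (hab : Aniso a b) : Nonempty (POmega F (quadFormMinus 2 F a b) ≃* PSU 4 K q) := by
  classical
  have hfact := hab.fact
  have : Finite (QK a b) := Module.finite_of_finite F
  have := Fintype.ofFinite (QK a b)
  have hcL : Fintype.card (QK a b) = q ^ 2 := by
    rw [← Nat.card_eq_fintype_card, card_QK hab, Nat.card_eq_fintype_card, hF]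
  have eK : QK a b ≃+* K := FiniteField.ringEquivOfCardEq (by rw [hcL, hK])
  have hq : QConj (sg a b) q := by
    have := sg_qconj hab
    rwa [Nat.card_eq_fintype_card, hF] at this
  have hs := sg_ne_id hab
  obtain ⟨e, he⟩ := exists_n3_iso hab
  have hN : (QuadraticMap.polarBilin (n3 a b)).Nondegenerate := by
    have h1 := hypSum_nondegenerate (F := F) 2 (binQ_nondegenerate hab)
    exact nondegenerate_congr ((eMinus 2 a b).symm.trans e) (fun u => by
      rw [LinearEquiv.trans_apply, he, ← eMinus_apply, LinearEquiv.apply_symm_apply]) h1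
  have hfin : finrank F (Fin 3 → QK a b) = 6 := by
    rw [← e.finrank_eq, Module.finrank_fintype_fun_eq_card]; rfl
  have hH : Nat.card (O (n3 a b)) = 2 * (q ^ 6 * (q ^ 3 + 1) * ((q ^ 2 - 1) * (q ^ 4 - 1))) := by
    rw [← Nat.card_congr (isoMat (quadFormMinus 2 F a b) (n3 a b) e he).toEquiv]
    have := card_O_minus (F := F) hab 2
    rw [this, Finset.prod_range_succ, Finset.prod_range_succ, Finset.prod_range_zero, one_mul,
      Nat.card_eq_fintype_card, hF]
    norm_num
    ring
  have h2q : 2 ≤ q := hq.two_le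
  have hB := stdH_hform hq 4
  have hfr : finrank (QK a b) (Fin 4 → QK a b) = 4 := by
    rw [Module.finrank_fintype_fun_eq_card, Fintype.card_fin]
  have hG : Nat.card (SU 4 (QK a b) q) = q ^ 6 * (q ^ 3 + 1) * ((q ^ 2 - 1) * (q ^ 4 - 1)) := by
    rw [Nat.card_congr (SUEquiv hq 4).toEquiv]
    have h1 := card_SUL hq hB
    rw [card_U hq 4 _ _ hB hfr, Finset.prod_range_succ, Finset.prod_range_succ,
      Finset.prod_range_succ, Finset.prod_range_succ, Finset.prod_range_zero] at h1
    apply Nat.eq_of_mul_eq_mul_left (show 0 < q + 1 by omega)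
    rw [h1]
    have hev0 : Even 0 := ⟨0, rfl⟩
    have hev1 : ¬ Even 1 := by decide
    have hev2 : Even 2 := ⟨1, rfl⟩
    have hev3 : ¬ Even 3 := by decide
    rw [if_pos hev0, if_neg hev1, if_pos hev2, if_neg hev3]
    norm_num
    ring
  have : Finite ((Fin 3 → QK a b) ≃ₗ[F] (Fin 3 → QK a b)) :=
    Finite.of_injective (fun e => (e : (Fin 3 → QK a b) → (Fin 3 → QK a b))) DFunLike.coe_injective
  have hper : commutator (SU 4 (QK a b) q) = ⊤ :=
    CfsgLib.Symp.commutator_eq_top_of_mulEquiv (SUEquiv hq 4).symm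
      (commutator_SUL_eq_top hq hB (Or.inr hfr.ge))
  have hker := card_ker_phiU hq hs
  rw [hcL] at hker
  have hfinal : Nonempty ((commutator (O (n3 a b)) ⧸ Subgroup.center (commutator (O (n3 a b)))) ≃*
      (SU 4 (QK a b) q ⧸ Subgroup.center (SU 4 (QK a b) q))) := by
    by_cases h2 : (2 : F) = 0
    · have hev := exists_two_eq_zero h2
      rw [hF] at hev
      refine commutator_quot_equiv_le (phiU hq) (range_le_of_perfect hper _) (k := 1) ?_
        (i := 2) (by norm_num) (two_mul_card_commutator_le hN (by rw [hfin]; norm_num)) ?_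
        (mem_center_of_perfect hper _ (ker_phiU_le hq hs))
      · rw [hker]
        have h5 : q ^ 2 % 2 = 0 := by rw [pow_two, Nat.mul_mod, hev]
        have h4 : 0 < q ^ 2 := by positivity
        have h6 : (q ^ 2 - 1) % 2 = 1 := by omega
        rw [Nat.gcd_comm]
        exact Nat.Coprime.gcd_eq_one (Nat.coprime_two_right.mpr (Nat.odd_iff.mpr h6))
      · rw [hG, hH]; ring
    · have hodd := card_odd_of_two_ne h2
      rw [hF] at hodd
      refine commutator_quot_equiv (phiU hq) (range_le_of_perfect hper _) (k := 2) ?_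
        (index_commutator_odd h2 hN (by rw [hfin]; norm_num)) ?_
        (mem_center_of_perfect hper _ (ker_phiU_le hq hs))
      · rw [hker]
        have h5 : q ^ 2 % 2 = 1 := by rw [pow_two, Nat.mul_mod, hodd]
        have h6 : (q ^ 2 - 1) % 2 = 0 := by omega
        exact Nat.gcd_eq_left (Nat.dvd_of_mod_eq_zero h6)
      · rw [hG, hH]; ring
  obtain ⟨e'⟩ := hfinal
  exact ⟨((POmegaCongr (quadFormMinus 2 F a b) (n3 a b) e he).trans e').trans
    (CfsgLib.Symp.quotCenterCongr (SUMapEquiv eK 4 q))⟩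

end CfsgLib.Exc
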