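import Mathlib
import Cfsg.Prelude.Def_Solvable

namespace CfsgLib.FrobC

open Subgroup

/-- fixed-point-free action gives a Frobenius complement in the semidirect product -/
theorem frob_inr {V : Type*} {H : Type*} [Group V] [Group H] [Nontrivial V] [Nontrivial H] (φ : H →* MulAut V)
    (hf : ∀ h : H, h ≠ 1 → ∀ v : V, φ h v = v → v = 1) :
    Cfsg.IsFrobeniusComplement ((SemidirectProduct.inr (φ := φ)).range) := by
  refine ⟨?_, ?_, ?_⟩
  · intro h
    obtain ⟨k, hk⟩ := exists_ne (1 : H)
    have h1 : (SemidirectProduct.inr k : V ⋊[φ] H) ∈ (SemidirectProduct.inr (φ := φ)).range := ⟨k, rfl⟩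
    rw [h, mem_bot] at h1
    exact hk (SemidirectProduct.inr_injective (by rw [h1, map_one]))
  · intro h
    obtain ⟨v, hv⟩ := exists_ne (1 : V)
    have h1 : (SemidirectProduct.inl v : V ⋊[φ] H) ∈ (SemidirectProduct.inr (φ := φ)).range := by rw [h]; trivial
    obtain ⟨k, hk⟩ := h1
    have := congrArg SemidirectProduct.left hk
    simp only [SemidirectProduct.left_inr, SemidirectProduct.left_inl] at this
    exact hv this.symm
  · intro g hg
    have hg1 : g.left ≠ 1 := by
      intro h
      apply hg
      refine ⟨g.right, ?_⟩
      ext <;> simp [h]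
    rw [eq_bot_iff]
    rintro x ⟨⟨k, rfl⟩, y, ⟨k', rfl⟩, hy⟩
    have hy' : g * SemidirectProduct.inr k' * g⁻¹ = SemidirectProduct.inr k := hy
    have h1 : g * SemidirectProduct.inr k' = SemidirectProduct.inr k * g := by rw [← hy']; group
    have h2 := congrArg SemidirectProduct.left h1
    simp only [SemidirectProduct.mul_left, SemidirectProduct.left_inr, SemidirectProduct.right_inr, map_one, mul_one, one_mul] at h2
    rw [mem_bot]
    by_contra hne
    have hk : k ≠ 1 := by
      rintro rfl
      exact hne (map_one _)
    exact hg1 (hf k hk _ h2.symm)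

theorem range_equiv {V : Type*} {H : Type*} [Group V] [Group H] (φ : H →* MulAut V) :
    Nonempty ((SemidirectProduct.inr (φ := φ)).range ≃* H) :=
  ⟨(MonoidHom.ofInjective (f := (SemidirectProduct.inr (φ := φ))) SemidirectProduct.inr_injective).symm⟩

theorem finite_semi {V : Type*} {H : Type*} [Group V] [Group H] [Finite V] [Finite H] (φ : H →* MulAut V) :
    Finite (V ⋊[φ] H) :=
  Finite.of_injective (fun x => (x.left, x.right)) (fun x y h => by
    simp only [Prod.mk.injEq] at h
    exact SemidirectProduct.ext h.1 h.2)

theorem frob_of_action {V H : Type} [AddCommGroup V] [Group H] [Finite V] [Finite H] [Nontrivial V] [Nontrivial H]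
    (act : H → V → V) (h1 : ∀ v, act 1 v = v) (hm : ∀ g h v, act (g * h) v = act g (act h v))
    (ha : ∀ g v w, act g (v + w) = act g v + act g w) (hf : ∀ g : H, g ≠ 1 → ∀ v : V, act g v = v → v = 0) :
    ∃ (L : Type) (_ : Group L) (_ : Finite L) (K : Subgroup L), Cfsg.IsFrobeniusComplement K ∧ Nonempty (K ≃* H) := by
  let φ : H →* MulAut (Multiplicative V) :=
    { toFun := fun g =>
        { toFun := fun v => Multiplicative.ofAdd (act g v.toAdd)
          invFun := fun v => Multiplicative.ofAdd (act g⁻¹ v.toAdd)
          left_inv := fun v => by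
            apply Multiplicative.toAdd.injective
            change act g⁻¹ (act g v.toAdd) = v.toAdd
            rw [← hm, inv_mul_cancel, h1]
          right_inv := fun v => by
            apply Multiplicative.toAdd.injective
            change act g (act g⁻¹ v.toAdd) = v.toAdd
            rw [← hm, mul_inv_cancel, h1]
          map_mul' := fun v w => by
            apply Multiplicative.toAdd.injective
            exact ha g v.toAdd w.toAdd }
      map_one' := by
        ext v
        apply Multiplicative.toAdd.injective
        exact h1 v.toAdd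
      map_mul' := fun g h => by
        ext v
        apply Multiplicative.toAdd.injective
        exact hm g h v.toAdd }
  haveI : Nontrivial (Multiplicative V) := inferInstance
  refine ⟨Multiplicative V ⋊[φ] H, inferInstance, finite_semi φ, _, frob_inr φ ?_, range_equiv φ⟩
  intro g hg v hv
  apply Multiplicative.toAdd.injective
  exact hf g hg v.toAdd (congrArg Multiplicative.toAdd hv)

end CfsgLib.FrobC
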