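import Mathlib
import Cfsg.Prelude.Def_Characters
import Cfsg.Prelude.Def_Solvable
import Cfsg.Agent.Lib.CharBasic
import Cfsg.Agent.Lib.CharBasic2
import Cfsg.Agent.Lib.CharInd
import Cfsg.Agent.Lib.CharClifford
import Cfsg.Agent.Lib.CharTI
import Cfsg.Agent.Lib.CharCoh8
import Cfsg.Agent.S0034

/-!
# Frobenius' theorem
-/

set_option autoImplicit false
set_option linter.style.haveILetI false

open scoped ComplexConjugate Pointwise

namespace CfsgLib.FrobThm

open Cfsg CfsgLib.CharBasic CfsgLib.CharInd CfsgLib.CharClifford CfsgLib.CharTI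

universe u

variable {G : Type u} [Group G]

theorem mem_conj_iff {H : Subgroup G} {g x : G} : x ∈ MulAut.conj g • H ↔ g⁻¹ * x * g ∈ H := by
  rw [Subgroup.mem_pointwise_smul_iff_inv_smul_mem]
  simp [MulAut.smul_def, ← map_inv]

theorem mem_of_conj {H : Subgroup G} (hH : IsFrobeniusComplement H) {x g : G} (hx : x ∈ H) (hx1 : x ≠ 1) (hg : g⁻¹ * x * g ∈ H) : g ∈ H := by
  by_contra hno
  have h1 := hH.2.2 g hno
  have h2 : x ∈ H ⊓ (MulAut.conj g • H) := Subgroup.mem_inf.mpr ⟨hx, mem_conj_iff.mpr hg⟩
  rw [h1, Subgroup.mem_bot] at h2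
  exact hx1 h2

theorem exists_extension [Fintype G] {H : Subgroup G} (hH : IsFrobeniusComplement H) {θ : H → ℂ} (hθ : IsIrrCharacter H θ) :
    ∃ χ : IrrCharacter G, (∀ h : H, (χ : G → ℂ) h = θ h) ∧ ∀ g ∈ frobeniusKernel H, (χ : G → ℂ) g = (χ : G → ℂ) 1 := by
  classical
  haveI : Fintype H := Fintype.ofFinite H
  by_cases hθ1 : θ = 1
  · refine ⟨irrOne G, fun h => ?_, fun g _ => by rw [irrOne_apply, irrOne_apply]⟩
    rw [irrOne_apply, hθ1]; rfl
  obtain ⟨n, hn, hn'⟩ := IsIrrCharacter.exists_pos hθ
  obtain ⟨α, hα⟩ : ∃ α : H → ℂ, α = θ - (n : ℂ) • (1 : H → ℂ) := ⟨_, rfl⟩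
  have hone : IsIrrCharacter H (1 : H → ℂ) := isIrr_one
  have hαgen : IsGeneralizedCharacter H α := by
    rw [hα]
    have := IsGeneralizedCharacter.zsmul (IsIrrCharacter.isGeneralized hone) (n : ℤ)
    exact IsGeneralizedCharacter.sub (IsIrrCharacter.isGeneralized hθ) (by simpa using this)
  have hαcl := IsGeneralizedCharacter.isClassFunction hαgen
  have hα1 : α 1 = 0 := by rw [hα]; simp [hn']
  have hres : ∀ h : H, indFun H α h = α h := by
    intro h
    by_cases hh : h = 1
    · rw [hh, Subgroup.coe_one, indFun_one, hα1, mul_zero]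
    · apply indFun_apply_of_fusion hαcl
      intro g hg _
      exact mem_of_conj hH h.2 (fun h' => hh (Subtype.ext h')) hg
  have hindcl := isClassFunction_indFun H α
  have hindgen := isGeneralized_indFun H hαgen
  have hθone : classInner θ (1 : H → ℂ) = 0 := IsIrrCharacter.inner_eq_zero hθ hone hθ1
  have honeθ : classInner (1 : H → ℂ) θ = 0 := IsIrrCharacter.inner_eq_zero hone hθ (Ne.symm hθ1)
  have hres' : (fun h : H => indFun H α (h : G)) = α := by funext h; exact hres h
  have h1 : classInner (indFun H α) (indFun H α) = 1 + (n : ℂ) ^ 2 := by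
    rw [frobenius H α hindcl, hres', hα, classInner_sub_left, classInner_sub_right, classInner_sub_right, classInner_smul_left, classInner_smul_right,
      classInner_smul_left, classInner_smul_right, hθone, honeθ, IsIrrCharacter.inner_self hθ, IsIrrCharacter.inner_self hone]
    simp only [map_natCast]; ring
  have hGone : IsIrrCharacter G (1 : G → ℂ) := isIrr_one
  have h2 : classInner (indFun H α) (1 : G → ℂ) = -(n : ℂ) := by
    rw [frobenius H α (IsCharacter.isClassFunction (IsIrrCharacter.isCharacter hGone))]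
    have : (fun h : H => (1 : G → ℂ) (h : G)) = (1 : H → ℂ) := rfl
    rw [this, hα, classInner_sub_left, classInner_smul_left, hθone, IsIrrCharacter.inner_self hone]; ring
  have h3 : classInner (1 : G → ℂ) (indFun H α) = -(n : ℂ) := by
    rw [← classInner_conj_symm, h2]; simp
  obtain ⟨χ, hχ⟩ : ∃ χ : G → ℂ, χ = indFun H α + (n : ℂ) • (1 : G → ℂ) := ⟨_, rfl⟩
  have hχgen : IsGeneralizedCharacter G χ := by
    rw [hχ]
    have := IsGeneralizedCharacter.zsmul (IsIrrCharacter.isGeneralized hGone) (n : ℤ)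
    exact IsGeneralizedCharacter.add hindgen (by simpa using this)
  have hχn : classInner χ χ = 1 := by
    rw [hχ, classInner_add_left, classInner_add_right, classInner_add_right, classInner_smul_left, classInner_smul_right, classInner_smul_left, classInner_smul_right,
      h1, h2, h3, IsIrrCharacter.inner_self hGone]
    simp only [map_natCast]; ring
  have hχ1 : χ 1 = n := by
    rw [hχ, Pi.add_apply, indFun_one, hα1]; simp
  have hχirr := IsGeneralizedCharacter.irr_of_pos hχgen hχn (by rw [hχ1, Complex.natCast_re]; exact_mod_cast hn)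
  refine ⟨⟨χ, hχirr⟩, fun h => ?_, fun g hg => ?_⟩
  · show χ h = θ h
    rw [hχ, Pi.add_apply, hres h, hα]; simp
  · show χ g = χ 1
    rcases hg with rfl | hg
    · rfl
    · rw [hχ1, hχ, Pi.add_apply, indFun_eq_zero]
      · simp
      · intro x hx
        exact hg x (mem_conj_iff.mpr hx)

/-- **Frobenius' theorem** -/
theorem frobenius_theorem [Finite G] (H : Subgroup G) (hH : IsFrobeniusComplement H) :
    ∃ N : Subgroup G, (N : Set G) = frobeniusKernel H ∧ N.Normal ∧ Subgroup.IsComplement' N H := by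
  classical
  haveI : Fintype G := Fintype.ofFinite G
  -- intersection of the kernels of the extensions
  have hex : ∀ θ : IrrCharacter H, ∃ χ : IrrCharacter G, (∀ h : H, (χ : G → ℂ) h = (θ : H → ℂ) h) ∧ ∀ g ∈ frobeniusKernel H, (χ : G → ℂ) g = (χ : G → ℂ) 1 :=
    fun θ => exists_extension hH θ.2
  choose ext hext1 hext2 using hex
  obtain ⟨N, hN⟩ : ∃ N : Subgroup G, N = ⨅ θ : IrrCharacter H, charKer (irr_isCharacter (ext θ)) := ⟨_, rfl⟩
  have hmem : ∀ g : G, g ∈ N ↔ ∀ θ : IrrCharacter H, (ext θ : G → ℂ) g = (ext θ : G → ℂ) 1 := by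
    intro g
    rw [hN, Subgroup.mem_iInf]
    exact forall_congr' fun θ => mem_charKer _
  have hNn : N.Normal := by
    rw [hN]
    exact Subgroup.normal_iInf_normal fun θ => charKer_normal _
  have hsub : frobeniusKernel H ⊆ N := fun g hg => (hmem g).mpr fun θ => hext2 θ g hg
  have hNH : N ⊓ H = ⊥ := by
    rw [eq_bot_iff]
    intro h hh
    obtain ⟨h1, h2⟩ := Subgroup.mem_inf.mp hh
    rw [Subgroup.mem_bot]
    have h3 := (isConj_iff_forall_irr (⟨h, h2⟩ : H) 1).mpr fun θ => by
      have h4 := (hmem h).mp h1 θ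
      have h5 := hext1 θ ⟨h, h2⟩
      have h6 := hext1 θ 1
      rw [Subgroup.coe_one] at h6
      rw [← h5, ← h6]
      exact h4
    have h4 := isConj_one_left.mp h3
    exact congrArg Subtype.val h4
  have hcard := (Cfsg.Agent.S0034.result H hH).1
  -- comparing orders
  have hle1 : H.index ≤ Nat.card N := by
    rw [← hcard]
    exact Nat.card_mono (Set.toFinite _) hsub
  have hprod : Nat.card N * Nat.card H ≤ Nat.card G := by
    have hinj : Function.Injective (fun p : N × H => (p.1 : G) * (p.2 : G)) := Subgroup.mul_injective_of_disjoint (disjoint_iff.mpr hNH)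
    rw [← Nat.card_prod]
    exact Nat.card_le_card_of_injective _ hinj
  have hHpos : 0 < Nat.card H := Nat.card_pos
  have hle2 : Nat.card N ≤ H.index := by
    have h1 := Subgroup.card_mul_index H
    rw [← h1, mul_comm] at hprod
    exact Nat.le_of_mul_le_mul_left hprod hHpos
  have heq : Nat.card N = H.index := le_antisymm hle2 hle1
  refine ⟨N, ?_, hNn, ?_⟩
  · symm
    apply Set.eq_of_subset_of_ncard_le hsub _ (Set.toFinite _)
    rw [← Nat.card_coe_set_eq, ← Nat.card_coe_set_eq, hcard]
    exact hle2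
  · apply Subgroup.isComplement'_of_card_mul_and_disjoint
    · rw [heq, mul_comm]; exact Subgroup.card_mul_index H
    · exact disjoint_iff.mpr hNH

end CfsgLib.FrobThm
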