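import Mathlib
import Cfsg.Agent.Lib.H7Basic

/-!
# Frobenius–Wielandt transfer for abelian quotients

`M ≤ G`, `φ : M →* A` with `A` commutative; if `M ∩ M^g` is killed by `φ` for all `g ∉ M`, then the transfer of `φ`
extends `φ`.  Namespace `CfsgLib.FrobWie`.
-/

set_option autoImplicit false
set_option linter.unusedSectionVars false

namespace CfsgLib.FrobWie

open MulAction

variable {G : Type*} [Group G] [Finite G]

theorem transfer_eq {A : Type*} [CommGroup A] (M : Subgroup G) (φ : M →* A)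
    (h : ∀ g : G, g ∉ M → ∀ x : M, (x : G) ∈ M.map (MulAut.conj g).toMonoidHom → φ x = 1) (m : M) :
    MonoidHom.transfer φ (m : G) = φ m := by
  classical
  haveI : Fintype (Quotient (orbitRel (Subgroup.zpowers (m : G)) (G ⧸ M))) := Fintype.ofFinite _
  rw [MonoidHom.transfer_eq_prod_quotient_orbitRel_zpowers_quot]
  set q₀ : Quotient (orbitRel (Subgroup.zpowers (m : G)) (G ⧸ M)) := Quotient.mk'' (QuotientGroup.mk 1) with hq₀
  have hfix : (m : G) • (QuotientGroup.mk 1 : G ⧸ M) = QuotientGroup.mk 1 := by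
    show (QuotientGroup.mk ((m : G) * 1) : G ⧸ M) = QuotientGroup.mk 1
    rw [QuotientGroup.eq]; simp
  have hfixz : ∀ z : Subgroup.zpowers (m : G), z • (QuotientGroup.mk 1 : G ⧸ M) = QuotientGroup.mk 1 := by
    rintro ⟨z, n, rfl⟩
    show (QuotientGroup.mk ((m : G) ^ n * 1) : G ⧸ M) = QuotientGroup.mk 1
    rw [QuotientGroup.eq]
    simp only [mul_one]
    exact M.inv_mem (M.zpow_mem m.2 n)
  have hout : q₀.out = QuotientGroup.mk 1 := by
    have h1 : (Quotient.mk'' q₀.out : Quotient (orbitRel (Subgroup.zpowers (m : G)) (G ⧸ M))) = Quotient.mk'' (QuotientGroup.mk 1) := by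
      rw [← hq₀]; exact Quotient.out_eq' q₀
    rw [Quotient.eq''] at h1
    obtain ⟨z, hz⟩ := h1
    rw [← hz]; exact hfixz z
  rw [Finset.prod_eq_single q₀]
  · -- the fixed coset
    have hperiod : Function.minimalPeriod ((m : G) • ·) q₀.out = 1 := by
      rw [Function.minimalPeriod_eq_one_iff_isFixedPt]
      rw [hout]; exact hfix
    have ht : q₀.out.out ∈ M := by
      have h1 : (QuotientGroup.mk q₀.out.out : G ⧸ M) = QuotientGroup.mk 1 := by
        rw [QuotientGroup.out_eq', hout]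
      have h2 := QuotientGroup.eq.mp h1
      simpa using h2
    have e : (⟨q₀.out.out⁻¹ * (m : G) ^ Function.minimalPeriod ((m : G) • ·) q₀.out * q₀.out.out,
        QuotientGroup.out_conj_pow_minimalPeriod_mem M (m : G) q₀.out⟩ : M) = (⟨q₀.out.out, ht⟩ : M)⁻¹ * m * ⟨q₀.out.out, ht⟩ := by
      apply Subtype.ext
      simp [hperiod]
    rw [e, map_mul, map_mul, map_inv, mul_comm, ← mul_assoc, mul_inv_cancel, one_mul]
  · intro q _ hq
    have ht : q.out.out ∉ M := by
      intro ht
      apply hq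
      have h1 : (QuotientGroup.mk q.out.out : G ⧸ M) = QuotientGroup.mk 1 := by
        rw [QuotientGroup.eq]; simpa using ht
      rw [QuotientGroup.out_eq'] at h1
      rw [← Quotient.out_eq' q, h1]
    apply h (q.out.out⁻¹) (fun hh => ht (by simpa using M.inv_mem hh))
    -- m^k ∈ M
    refine ⟨(m : G) ^ Function.minimalPeriod ((m : G) • ·) q.out, M.pow_mem m.2 _, ?_⟩
    simp
  · intro h; exact absurd (Finset.mem_univ _) h

/-- if `H ⊴ M`, `M/H` of prime order, and `M ∩ M^g ≤ H` for `g ∉ M` then `G` has a normal subgroup `K` with `K ∩ M = H`, `K M = G`. -/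
theorem exists_normal {H M : Subgroup G} (hHM : H ≤ M) (hn : M ≤ Subgroup.normalizer (H : Set G))
    (hprime : (H.relIndex M).Prime) (h : ∀ g : G, g ∉ M → M ⊓ M.map (MulAut.conj g).toMonoidHom ≤ H) :
    ∃ K : Subgroup G, K.Normal ∧ K ⊓ M = H ∧ K.index = H.relIndex M := by
  haveI hN : (H.subgroupOf M).Normal := (Subgroup.normal_subgroupOf_iff_le_normalizer hHM).mpr hn
  have hcard : Nat.card (M ⧸ H.subgroupOf M) = H.relIndex M := rfl
  haveI hf : Fact (H.relIndex M).Prime := ⟨hprime⟩
  haveI hcyc : IsCyclic (M ⧸ H.subgroupOf M) := isCyclic_of_prime_card hcard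
  letI : CommGroup (M ⧸ H.subgroupOf M) := IsCyclic.commGroup
  let φ : M →* M ⧸ H.subgroupOf M := QuotientGroup.mk' (H.subgroupOf M)
  have hφ : ∀ x : M, φ x = 1 ↔ (x : G) ∈ H := by
    intro x
    rw [QuotientGroup.mk'_apply, QuotientGroup.eq_one_iff, Subgroup.mem_subgroupOf]
  have key := transfer_eq M φ (by
    intro g hg x hx
    rw [hφ]
    exact h g hg (Subgroup.mem_inf.mpr ⟨x.2, hx⟩))
  refine ⟨(MonoidHom.transfer φ).ker, inferInstance, ?_, ?_⟩
  · ext x
    rw [Subgroup.mem_inf, MonoidHom.mem_ker]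
    constructor
    · rintro ⟨h1, h2⟩
      have := key ⟨x, h2⟩
      rw [h1] at this
      exact (hφ ⟨x, h2⟩).mp this.symm
    · intro hx
      refine ⟨?_, hHM hx⟩
      have := key ⟨x, hHM hx⟩
      rw [this]; exact (hφ _).mpr hx
  · have hs : Function.Surjective (MonoidHom.transfer φ) := by
      intro y
      obtain ⟨m, hm⟩ := QuotientGroup.mk'_surjective (H.subgroupOf M) y
      exact ⟨m, by rw [key]; exact hm⟩
    rw [Subgroup.index_ker, MonoidHom.range_eq_top.mpr hs, Subgroup.card_top, hcard]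

end CfsgLib.FrobWie
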