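import Cfsg.Agent.Lib.FusionStab
import Cfsg.Agent.Lib.FusionAb
import Cfsg.Agent.Lib.FusionNil

/-!
Systems with `Aut_F(S) = Inn(S)`.
-/
set_option autoImplicit false
set_option maxHeartbeats 400000

namespace CfsgLib.Fusion

open Cfsg Cfsg.FusionSystem CfsgLib.SylowIn CfsgLib.StronglyEmb

variable {Ω : Type*} [Group Ω] {S : Subgroup Ω}

theorem isPGroup_of_coprime {p : ℕ} [hp : Fact p.Prime] {X : Type*} [Group X] [Finite X]
    (h : ∀ x : X, (orderOf x).Coprime p → x = 1) : IsPGroup p X := by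
  intro x
  obtain ⟨m, hm1, hm2⟩ := Nat.exists_eq_pow_mul_and_not_dvd (orderOf_pos x).ne' p hp.out.ne_one
  obtain ⟨hm2, hm3⟩ := hm2
  refine ⟨m, h _ ?_⟩
  rw [orderOf_pow_of_dvd (pow_ne_zero _ hp.out.ne_zero) ⟨hm1, hm3⟩, hm3,
    Nat.mul_div_cancel_left _ (pow_pos hp.out.pos _)]
  exact ((Nat.Prime.coprime_iff_not_dvd hp.out).2 hm2).symm

theorem autGroup_top_eq_inn {F : FusionSystem S} [Finite S] {p : ℕ} [hp : Fact p.Prime] (hS : IsPGroup p S)
    (hF : F.IsSaturated p) (h : ∀ α ∈ F.autGroup S, (orderOf α).Coprime p → α = 1) :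
    F.autGroup S = Inn S := by
  have h1 : IsPGroup p (F.autGroup S) := by
    apply isPGroup_of_coprime
    rintro ⟨α, hα⟩ ho
    apply Subtype.ext
    apply h α hα
    rwa [Subgroup.orderOf_mk] at ho
  apply le_antisymm _ (inn_le_autGroup F le_rfl)
  have hfn : F.IsFullyNormalized S := ⟨le_rfl, fun Q hQ => by
    have hNS : normalizerIn S S = S := inf_eq_left.2 Subgroup.le_normalizer
    rw [hNS]; exact card_le_of_le inf_le_left⟩
  have h2 := autS_sylowIn (Saturated.of_fullyNormalized hS hF hfn).1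
  have h3 := Subgroup.eq_of_le_of_card_ge h2.1 (h2.2.2 _ le_rfl h1)
  rw [← h3]
  intro α hα
  obtain ⟨g, hg, hgx⟩ := mem_autInducedBy_iff.1 hα
  refine ⟨⟨g, hg⟩, ?_⟩
  ext x
  rw [hgx]; rfl


/-! ### abelian groups with distinct invariants -/

theorem zmod_two_torsion {b : ℕ} (z : ZMod (2 ^ (b + 1))) (h : 2 * z = 0) : z = 0 ∨ z = 2 ^ b := by
  have : NeZero (2 ^ (b + 1)) := ⟨by positivity⟩
  have h1 : ((2 * z.val : ℕ) : ZMod (2 ^ (b + 1))) = 0 := by
    rw [Nat.cast_mul, ZMod.natCast_zmod_val]; exact_mod_cast h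
  rw [ZMod.natCast_eq_zero_iff] at h1
  have h2 : 2 ^ b ∣ z.val := by
    have h1' : 2 * 2 ^ b ∣ 2 * z.val := by
      have e : 2 * 2 ^ b = 2 ^ (b + 1) := by rw [pow_succ, mul_comm]
      rw [e]; exact h1
    exact (Nat.mul_dvd_mul_iff_left (by norm_num)).1 h1'
  obtain ⟨k, hk⟩ := h2
  have h3 := z.val_lt
  have h4 : k < 2 := by
    rw [hk, pow_succ] at h3
    exact Nat.lt_of_mul_lt_mul_left h3
  have h5 : z = ((2 ^ b * k : ℕ) : ZMod (2 ^ (b + 1))) := by
    rw [← hk, ZMod.natCast_zmod_val]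
  interval_cases k
  · left; rw [h5]; simp
  · right; rw [h5]; simp

theorem aut_abelian_distinct {X : Type*} [Group X] [Finite X] {n : ℕ} {a : Fin n → ℕ} (ha : Function.Injective a)
    (ha1 : ∀ i, 1 ≤ a i) (e : X ≃* Multiplicative ((i : Fin n) → ZMod (2 ^ a i)))
    (α : MulAut X) (ho : (orderOf α).Coprime 2) : α = 1 := by
  have hp2 : Fact (Nat.Prime 2) := ⟨Nat.prime_two⟩
  let c : X → (i : Fin n) → ZMod (2 ^ a i) := fun x => Multiplicative.toAdd (e x)
  have cmul : ∀ x y i, c (x * y) i = c x i + c y i := fun x y i => by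
    show Multiplicative.toAdd (e (x * y)) i = _
    rw [map_mul]; rfl
  have cinv : ∀ x i, c x⁻¹ i = - c x i := fun x i => by
    show Multiplicative.toAdd (e x⁻¹) i = _
    rw [map_inv]; rfl
  have cone : ∀ i, c 1 i = 0 := fun i => by
    show Multiplicative.toAdd (e 1) i = _
    rw [map_one]; rfl
  have cpow : ∀ x (k : ℕ) i, c (x ^ k) i = k * c x i := fun x k i => by
    show Multiplicative.toAdd (e (x ^ k)) i = _
    rw [map_pow, toAdd_pow, Pi.smul_apply, nsmul_eq_mul]
  have cinj : ∀ x y, (∀ i, c x i = c y i) → x = y := fun x y h => by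
    apply e.injective
    exact congrArg Multiplicative.ofAdd (funext h)
  have csurj : ∀ v : (i : Fin n) → ZMod (2 ^ a i), ∃ x, c x = v := fun v =>
    ⟨e.symm (Multiplicative.ofAdd v), by show Multiplicative.toAdd (e (e.symm _)) = _; simp⟩
  have hcomm : ∀ x y : X, x * y = y * x := fun x y => cinj _ _ fun i => by
    rw [cmul, cmul, add_comm]
  -- the 2-torsion and the power subgroups
  let V : ℕ → Subgroup X := fun j =>
    { carrier := {x | x ^ 2 = 1 ∧ ∃ y : X, y ^ 2 ^ j = x}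
      mul_mem' := by
        rintro x y ⟨hx, u, hu⟩ ⟨hy, v, hv⟩
        have hc : Commute x y := hcomm x y
        have hc' : Commute u v := hcomm u v
        exact ⟨by rw [hc.mul_pow, hx, hy, one_mul], u * v, by rw [hc'.mul_pow, hu, hv]⟩
      one_mem' := ⟨one_pow _, 1, one_pow _⟩
      inv_mem' := by
        rintro x ⟨hx, u, hu⟩
        exact ⟨by rw [inv_pow, hx, inv_one], u⁻¹, by rw [inv_pow, hu]⟩ }
  have hV : ∀ j x, x ∈ V j ↔ x ^ 2 = 1 ∧ ∃ y : X, y ^ 2 ^ j = x := fun j x => Iff.rfl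
  have hVα : ∀ j x, x ∈ V j → α x ∈ V j := by
    intro j x hx
    obtain ⟨h1, y, hy⟩ := (hV j x).1 hx
    exact ⟨by rw [← map_pow, h1, map_one], α y, by rw [← map_pow, hy]⟩
  -- coordinates of elements of `V j`
  have hVc : ∀ j x, x ∈ V j → ∀ i, a i ≤ j → c x i = 0 := by
    intro j x hx i hi
    obtain ⟨h1, y, hy⟩ := (hV j x).1 hx
    rw [← hy, cpow]
    have : ((2 ^ j : ℕ) : ZMod (2 ^ a i)) = 0 := by
      rw [ZMod.natCast_eq_zero_iff]; exact pow_dvd_pow 2 hi
    rw [this, zero_mul]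
  have hc2 : ∀ x : X, x ^ 2 = 1 → ∀ i, ∀ b, a i = b + 1 → c x i = 0 ∨ c x i = 2 ^ b := by
    intro x hx i b hb
    have h1 : 2 * c x i = 0 := by
      have := cpow x 2 i
      rw [hx, cone] at this
      exact_mod_cast this.symm
    revert h1
    generalize c x i = z
    revert z
    rw [hb]
    intro z h1
    exact zmod_two_torsion z h1
  have hVs : ∀ j x, x ^ 2 = 1 → (∀ i, a i ≤ j → c x i = 0) → x ∈ V j := by
    intro j x hx h
    refine ⟨hx, ?_⟩
    obtain ⟨y, hy⟩ := csurj (fun i => if a i ≤ j then 0 else if c x i = 0 then 0 else 2 ^ (a i - 1 - j))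
    refine ⟨y, cinj _ _ fun i => ?_⟩
    rw [cpow, hy]
    by_cases hi : a i ≤ j
    · simp only [hi, if_true]
      rw [mul_zero, h i hi]
    · simp only [hi, if_false]
      by_cases h0 : c x i = 0
      · rw [if_pos h0, mul_zero, h0]
      · rw [if_neg h0]
        obtain ⟨b, hb⟩ : ∃ b, a i = b + 1 := ⟨a i - 1, by have := ha1 i; omega⟩
        rcases hc2 x hx i b hb with h1 | h1
        · exact absurd h1 h0
        · rw [h1, Nat.cast_pow, Nat.cast_ofNat, ← pow_add]
          congr 1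
          omega
  have hfac : ∀ j x y, x ∈ V j → y ∈ V j → x ∉ V (j + 1) → y ∉ V (j + 1) → x⁻¹ * y ∈ V (j + 1) := by
    intro j x y hx hy hx' hy'
    have hx2 := ((hV j x).1 hx).1
    have hy2 := ((hV j y).1 hy).1
    have hxy : x⁻¹ * y ∈ V j := (V j).mul_mem ((V j).inv_mem hx) hy
    apply hVs _ _ ((hV j _).1 hxy).1
    intro i hi
    rcases Nat.lt_or_ge j (a i) with h1 | h1
    · have h2 : a i = j + 1 := by omega
      have key : ∀ z, z ∈ V j → z ∉ V (j + 1) → c z i = 2 ^ j := by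
        intro z hz hz'
        rcases hc2 z ((hV j z).1 hz).1 i j h2 with h3 | h3
        · exfalso
          apply hz'
          apply hVs _ _ ((hV j z).1 hz).1
          intro i' hi'
          rcases Nat.lt_or_ge j (a i') with h4 | h4
          · have h5 : i' = i := ha (by omega)
            rw [h5, h3]
          · exact hVc j z hz i' h4
        · exact h3
      rw [cmul, cinv, key x hx hx', key y hy hy', neg_add_cancel]
    · exact hVc j _ hxy i h1
  -- `α` fixes the 2-torsion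
  obtain ⟨N, hN⟩ : ∃ N, ∀ i, a i ≤ N := by
    obtain ⟨N, hN⟩ := (Set.finite_range a).bddAbove
    exact ⟨N, fun i => hN ⟨i, rfl⟩⟩
  have hX : IsPGroup 2 X := by
    intro x
    refine ⟨N, cinj _ _ fun i => ?_⟩
    rw [cpow, cone]
    have : ((2 ^ N : ℕ) : ZMod (2 ^ a i)) = 0 := by
      rw [ZMod.natCast_eq_zero_iff]; exact pow_dvd_pow 2 (hN i)
    rw [this, zero_mul]
  have hfix : ∀ x : X, x ^ 2 = 1 → α x = x := by
    have h1 := fix_of_stab hX ho (pow_orderOf_eq_one α) N (fun i => V (N - i)) (by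
      rw [eq_bot_iff]
      intro x hx
      rw [Subgroup.mem_bot]
      exact cinj _ _ fun i => by rw [cone]; exact hVc (N - 0) x hx i (hN i)) (by
      intro i hi x hx
      have e : N - i = (N - (i + 1)) + 1 := by omega
      show x⁻¹ * α x ∈ V (N - i)
      rw [e]
      have hx : x ∈ V (N - (i + 1)) := hx
      by_cases h2 : x ∈ V (N - (i + 1) + 1)
      · exact (V _).mul_mem ((V _).inv_mem h2) (hVα _ _ h2)
      · refine hfac _ _ _ hx (hVα _ _ hx) h2 fun h3 => h2 ?_
        -- the powers of `α`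
        have h4 : ∀ k : ℕ, (α ^ (k + 1)) x ∈ V (N - (i + 1) + 1) := by
          intro k
          induction k with
          | zero => simpa using h3
          | succ k ih => rw [pow_succ']; exact hVα _ _ ih
        have h5 := h4 (orderOf α - 1)
        rw [Nat.sub_add_cancel (orderOf_pos α), pow_orderOf_eq_one] at h5
        exact h5)
    intro x hx
    refine h1 N le_rfl x ?_
    show x ∈ V (N - N)
    exact ⟨hx, x, by rw [Nat.sub_self, pow_zero, pow_one]⟩
  -- induction on the exponent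
  have hall : ∀ k : ℕ, ∀ x : X, x ^ 2 ^ k = 1 → α x = x := by
    intro k
    induction k with
    | zero => intro x hx; rw [pow_zero, pow_one] at hx; rw [hx, map_one]
    | succ k ih =>
      intro x hx
      let T : ℕ → Subgroup X := fun k =>
        { carrier := {x | x ^ 2 ^ k = 1}
          mul_mem' := by
            intro x y hx hy
            have hc : Commute x y := hcomm x y
            show (x * y) ^ _ = 1
            rw [hc.mul_pow, show x ^ 2 ^ k = 1 from hx, show y ^ 2 ^ k = 1 from hy, one_mul]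
          one_mem' := one_pow _
          inv_mem' := by
            intro x hx
            show x⁻¹ ^ _ = 1
            rw [inv_pow, show x ^ 2 ^ k = 1 from hx, inv_one] }
      have h1 := fix_of_stab hX ho (pow_orderOf_eq_one α) 2
        (fun i => if i = 0 then ⊥ else if i = 1 then T 1 else T (k + 1)) (by simp) (by
          intro i hi x hx
          interval_cases i
          · simp only [zero_add, if_true, one_ne_zero, if_false] at hx ⊢
            rw [Subgroup.mem_bot, hfix x (by simpa using show x ^ 2 ^ 1 = 1 from hx)]; group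
          · simp only [one_ne_zero, if_false, if_true] at hx ⊢
            have hx' : x ^ 2 ^ (k + 1) = 1 := hx
            show (x⁻¹ * α x) ^ 2 ^ 1 = 1
            have h2 := ih (x ^ 2) (by rw [← pow_mul, ← pow_succ', hx'])
            have hc : Commute x⁻¹ (α x) := hcomm _ _
            rw [pow_one, hc.mul_pow, inv_pow, ← map_pow, h2, inv_mul_cancel])
      refine h1 2 le_rfl x ?_
      show x ∈ T (k + 1)
      exact hx
  ext x
  obtain ⟨k, hk⟩ := hX x
  exact hall k x hk

/-- `2`-groups with a big cyclic subgroup of index two have no automorphisms of odd order. -/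
theorem aut_cyclic_index_two {X : Type*} [Group X] [Finite X] (hX : IsPGroup 2 X) (r : X) (h8 : 4 < orderOf r)
    (hidx : ∀ x y, x ∉ Subgroup.zpowers r → y ∉ Subgroup.zpowers r → x⁻¹ * y ∈ Subgroup.zpowers r)
    (h4 : ∀ x, x ∉ Subgroup.zpowers r → x ^ 4 = 1) (α : MulAut X) (ho : (orderOf α).Coprime 2) : α = 1 := by
  have hp2 : Fact (Nat.Prime 2) := ⟨Nat.prime_two⟩
  have hr : α r ∈ Subgroup.zpowers r := by
    by_contra hc
    have h1 := h4 _ hc
    rw [← map_pow, map_eq_one_iff α α.injective] at h1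
    have := Nat.le_of_dvd (by norm_num) (orderOf_dvd_of_pow_eq_one h1)
    omega
  obtain ⟨k, hk⟩ := (isOfFinOrder_of_finite r).mem_powers_iff_mem_zpowers.2 hr
  have hk : r ^ k = α r := hk
  have hodd : ¬ 2 ∣ k := by
    rintro ⟨m, rfl⟩
    obtain ⟨n, hn⟩ := hX r
    obtain ⟨n', hn'⟩ := (Nat.dvd_prime_pow Nat.prime_two).1 (orderOf_dvd_of_pow_eq_one hn)
    obtain ⟨-, hn'⟩ := hn'
    have hn0 : n' ≠ 0 := by
      rintro rfl
      rw [pow_zero] at hn'
      omega
    obtain ⟨j, rfl⟩ : ∃ j, n' = j + 1 := ⟨n' - 1, by omega⟩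
    have h1 : (α r) ^ 2 ^ j = 1 := by
      rw [← hk, ← pow_mul, show 2 * m * 2 ^ j = orderOf r * m by rw [hn']; ring, pow_mul, pow_orderOf_eq_one, one_pow]
    rw [← map_pow, map_eq_one_iff α α.injective] at h1
    have h2 := Nat.le_of_dvd (by positivity) (orderOf_dvd_of_pow_eq_one h1)
    rw [hn'] at h2
    have h3 : 2 ^ j < 2 ^ (j + 1) := Nat.pow_lt_pow_right (by norm_num) (by omega)
    omega
  have hαz : ∀ x ∈ Subgroup.zpowers r, α x = x ^ k := by
    intro x hx
    obtain ⟨m, rfl⟩ := (isOfFinOrder_of_finite r).mem_powers_iff_mem_zpowers.2 hx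
    show α (r ^ m) = (r ^ m) ^ k
    rw [map_pow, ← hk, ← pow_mul, ← pow_mul, mul_comm]
  have hcomm : ∀ x ∈ Subgroup.zpowers r, ∀ y ∈ Subgroup.zpowers r, Commute x y := by
    rintro _ ⟨i, rfl⟩ _ ⟨j, rfl⟩
    exact (Commute.refl r).zpow_zpow i j
  let T : ℕ → Subgroup X := fun n =>
    { carrier := {x | x ∈ Subgroup.zpowers r ∧ x ^ 2 ^ n = 1}
      mul_mem' := by
        rintro x y ⟨hx, hx'⟩ ⟨hy, hy'⟩
        exact ⟨Subgroup.mul_mem _ hx hy, by rw [(hcomm x hx y hy).mul_pow, hx', hy', one_mul]⟩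
      one_mem' := ⟨Subgroup.one_mem _, one_pow _⟩
      inv_mem' := by
        rintro x ⟨hx, hx'⟩
        exact ⟨Subgroup.inv_mem _ hx, by rw [inv_pow, hx', inv_one]⟩ }
  have hfixC : ∀ x ∈ Subgroup.zpowers r, α x = x := by
    intro x hx
    obtain ⟨n, hn⟩ := hX x
    refine fix_of_stab hX ho (pow_orderOf_eq_one α) n T ?_ ?_ n le_rfl x ⟨hx, hn⟩
    · rw [eq_bot_iff]
      rintro x ⟨-, hx⟩
      rw [Subgroup.mem_bot]; simpa using hx
    · rintro i - x ⟨hx, hx'⟩
      refine ⟨Subgroup.mul_mem _ (Subgroup.inv_mem _ hx) (by rw [hαz x hx]; exact Subgroup.pow_mem _ hx k), ?_⟩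
      obtain ⟨m, hm⟩ : ∃ m, k = 2 * m + 1 := ⟨k / 2, by omega⟩
      rw [hαz x hx, hm, pow_succ', ← mul_assoc, inv_mul_cancel, one_mul, ← pow_mul,
        show 2 * m * 2 ^ i = 2 ^ (i + 1) * m by ring, pow_mul, hx', one_pow]
  have hall := fix_of_stab hX ho (pow_orderOf_eq_one α) 2
    (fun i => if i = 0 then ⊥ else if i = 1 then Subgroup.zpowers r else ⊤) (by simp) (by
      intro i hi x hx
      interval_cases i
      · simp only [zero_add, if_true, one_ne_zero, if_false] at hx ⊢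
        rw [Subgroup.mem_bot, hfixC x hx, inv_mul_cancel]
      · simp only [one_ne_zero, if_false, if_true] at hx ⊢
        by_cases h1 : x ∈ Subgroup.zpowers r
        · rw [hfixC x h1, inv_mul_cancel]; exact Subgroup.one_mem _
        · refine hidx _ _ h1 fun h2 => h1 ?_
          have h3 := hfixC _ h2
          have h4 := α.injective h3
          rwa [h4] at h2)
  ext x
  exact hall 2 le_rfl x (by simp)

theorem aut_dihedral {m : ℕ} (hm : 3 ≤ m) {X : Type*} [Group X] [Finite X] (e : X ≃* DihedralGroup (2 ^ m)) :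
    IsPGroup 2 X ∧ ∀ α : MulAut X, (orderOf α).Coprime 2 → α = 1 := by
  have : NeZero (2 ^ m) := ⟨by positivity⟩
  have hX : IsPGroup 2 X := by
    apply IsPGroup.of_card (n := m + 1)
    rw [Nat.card_congr e.toEquiv, DihedralGroup.nat_card]; ring
  have hr : ∀ x, x ∈ Subgroup.zpowers (e.symm (DihedralGroup.r 1)) ↔ ∃ i, e x = DihedralGroup.r i := by
    intro x
    constructor
    · rintro ⟨i, rfl⟩
      refine ⟨i, ?_⟩
      show e (e.symm (DihedralGroup.r 1) ^ i) = _
      rw [map_zpow, MulEquiv.apply_symm_apply]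
      simp
    · rintro ⟨i, hi⟩
      refine ⟨i.val, ?_⟩
      apply e.injective
      show e (e.symm (DihedralGroup.r 1) ^ (i.val : ℤ)) = _
      rw [map_zpow, MulEquiv.apply_symm_apply, hi]
      simp
  have h8 : 8 ≤ 2 ^ m := by
    calc 8 = 2 ^ 3 := by norm_num
      _ ≤ 2 ^ m := Nat.pow_le_pow_right (by norm_num) hm
  have hs : ∀ x, x ∉ Subgroup.zpowers (e.symm (DihedralGroup.r 1)) → ∃ i, e x = DihedralGroup.sr i := by
    intro x hx
    rw [hr] at hx
    rcases h : e x with i | i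
    · exact absurd ⟨i, h⟩ hx
    · exact ⟨i, rfl⟩
  refine ⟨hX, fun α ho => aut_cyclic_index_two hX (e.symm (DihedralGroup.r 1)) ?_ ?_ ?_ α ho⟩
  · rw [MulEquiv.orderOf_eq, DihedralGroup.orderOf_r_one]; omega
  · intro x y hx hy
    obtain ⟨i, hi⟩ := hs x hx
    obtain ⟨j, hj⟩ := hs y hy
    rw [hr]
    exact ⟨_, by rw [map_mul, map_inv, hi, hj, DihedralGroup.inv_sr, DihedralGroup.sr_mul_sr]⟩
  · intro x hx
    obtain ⟨i, hi⟩ := hs x hx
    apply e.injective
    rw [map_pow, map_one, hi, show 4 = 2 * 2 by norm_num, pow_mul, pow_two (DihedralGroup.sr i), DihedralGroup.sr_mul_self,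
      one_pow]

theorem aut_quaternion {m : ℕ} (hm : 2 ≤ m) {X : Type*} [Group X] [Finite X] (e : X ≃* QuaternionGroup (2 ^ m)) :
    IsPGroup 2 X ∧ ∀ α : MulAut X, (orderOf α).Coprime 2 → α = 1 := by
  have : NeZero (2 ^ m) := ⟨by positivity⟩
  have : NeZero (2 * 2 ^ m) := ⟨by positivity⟩
  have hX : IsPGroup 2 X := by
    apply IsPGroup.of_card (n := m + 2)
    rw [Nat.card_congr e.toEquiv, Nat.card_eq_fintype_card, QuaternionGroup.card]; ring
  have hr : ∀ x, x ∈ Subgroup.zpowers (e.symm (QuaternionGroup.a 1)) ↔ ∃ i, e x = QuaternionGroup.a i := by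
    intro x
    constructor
    · intro hx
      obtain ⟨i, rfl⟩ := (isOfFinOrder_of_finite _).mem_powers_iff_mem_zpowers.2 hx
      refine ⟨i, ?_⟩
      show e (e.symm (QuaternionGroup.a 1) ^ i) = _
      rw [map_pow, MulEquiv.apply_symm_apply]
      simp
    · rintro ⟨i, hi⟩
      refine ⟨i.val, ?_⟩
      apply e.injective
      show e (e.symm (QuaternionGroup.a 1) ^ (i.val : ℤ)) = _
      rw [map_zpow, MulEquiv.apply_symm_apply, hi, zpow_natCast]
      simp
  have h8 : 4 ≤ 2 ^ m := by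
    calc 4 = 2 ^ 2 := by norm_num
      _ ≤ 2 ^ m := Nat.pow_le_pow_right (by norm_num) hm
  have hs : ∀ x, x ∉ Subgroup.zpowers (e.symm (QuaternionGroup.a 1)) → ∃ i, e x = QuaternionGroup.xa i := by
    intro x hx
    rw [hr] at hx
    rcases h : e x with i | i
    · exact absurd ⟨i, h⟩ hx
    · exact ⟨i, rfl⟩
  refine ⟨hX, fun α ho => aut_cyclic_index_two hX (e.symm (QuaternionGroup.a 1)) ?_ ?_ ?_ α ho⟩
  · rw [MulEquiv.orderOf_eq, QuaternionGroup.orderOf_a_one]; omega
  · intro x y hx hy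
    obtain ⟨i, hi⟩ := hs x hx
    obtain ⟨j, hj⟩ := hs y hy
    rw [hr]
    refine ⟨j - i, ?_⟩
    rw [map_mul, map_inv, hi, hj, inv_mul_eq_iff_eq_mul]
    simp
  · intro x hx
    obtain ⟨i, hi⟩ := hs x hx
    apply e.injective
    rw [map_pow, map_one, hi, ← QuaternionGroup.orderOf_xa (n := 2 ^ m) i, pow_orderOf_eq_one]

end CfsgLib.Fusion
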