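import Cfsg.Agent.Lib.FusionNil7
/-!
Restriction of fusion systems, generation through quotients.
-/
set_option autoImplicit false
set_option maxHeartbeats 400000

namespace CfsgLib.Fusion

open Cfsg Cfsg.FusionSystem CfsgLib.SylowIn CfsgLib.StronglyEmb

universe u

section
variable {Ω : Type*} [Group Ω] {S : Subgroup Ω}

/-- data of the intersection -/
def infData {T : Subgroup Ω} (F : FusionSystem T) (E : FusionSystem S) (h : T ≤ S) :
    FSData T where
  M P f := FMap F P f ∧ FMap E P f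
  congr h1 h2 := ⟨h1.1.congr h2, h1.2.congr h2⟩
  le h := ⟨h.1.le, fun x hx => h.1.mapsTo hx⟩
  hom h x hx y hy := h.1.map_mul hx hy
  inj h x hx y hy := h.1.inj hx hy
  conj hP hg := ⟨FMap.conj hP hg, FMap.conj (hP.trans h) (h hg)⟩
  comp h1 h2 h3 := ⟨h1.1.comp h2.1 h3, h1.2.comp h2.2 h3⟩
  inv := by
    intro P f h
    obtain ⟨g, hg, hg1, hg2⟩ := h.1.exists_inv
    obtain ⟨k, hk, hk1, hk2⟩ := h.2.exists_inv
    refine ⟨g, ⟨hg, hk.congr fun y hy => ?_⟩, hg1⟩
    have h3 := hg2 y hy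
    have h4 := hk2 y hy
    exact h.1.inj h4.1 h3.1 (h4.2.trans h3.2.symm)

/-- the maps of `F` which are maps of `E`. -/
noncomputable def infSys {T : Subgroup Ω} (F : FusionSystem T) (E : FusionSystem S) (h : T ≤ S) :
    FusionSystem T := (infData F E h).toFS

theorem FMap_infSys {T : Subgroup Ω} {F : FusionSystem T} {E : FusionSystem S} {h : T ≤ S}
    {P : Subgroup Ω} {f : Ω → Ω} : FMap (infSys F E h) P f ↔ FMap F P f ∧ FMap E P f := FMap_toFS _

theorem infSys_le {T : Subgroup Ω} {F : FusionSystem T} {E : FusionSystem S} {h : T ≤ S} :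
    infSys F E h ≤ F := by
  rw [le_iff_FMap]
  exact fun P f hf => (FMap_infSys.1 hf).1

theorem normal_le_autInducedBy {F : FusionSystem S} {p : ℕ} [Fact p.Prime] {P : Subgroup Ω} [Finite P]
    (hP : F.IsFullyAutomized p P) {D : Subgroup (MulAut P)} (hD : D ≤ F.autGroup P)
    (hDp : IsPGroup p D) (hn : ∀ α ∈ F.autGroup P, ∀ β ∈ D, α * β * α⁻¹ ∈ D) :
    D ≤ autInducedBy S P := by
  obtain ⟨hPS, R, hR⟩ := hP
  intro β hβ
  have h1 : D.subgroupOf (F.autGroup P) ≤ pCore p (F.autGroup P) := by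
    apply le_pCore
    · exact ⟨fun x hx g => hn g g.2 x hx⟩
    · exact isPGroup_subgroupOf hDp
  have h2 : (⟨β, hD hβ⟩ : F.autGroup P) ∈ (R : Subgroup (F.autGroup P)) :=
    pCore_le_sylow R (h1 hβ)
  rw [hR] at h2
  exact h2

/-- automorphisms of an overgroup trivial modulo a normal subgroup -/
theorem isPGroup_ker {F : FusionSystem S} [Finite S] {p : ℕ} [Fact p.Prime]
    (hS : IsPGroup p S) {Q : Subgroup Ω} (hQ : F.IsNormal Q)
    (hQp : IsPGroup p (F.autGroup Q)) {P : Subgroup Ω} (hPS : P ≤ S) (hQP : Q ≤ P)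
    {D : Subgroup (MulAut P)}
    (hD : ∀ α ∈ D, α ∈ F.autGroup P ∧ ∀ x : P, (x : Ω)⁻¹ * (α x : P) ∈ Q) : IsPGroup p D := by
  have hPf : Finite P := finite_of_le hPS
  have : Finite D := Finite.of_injective (fun a : D => (a : MulAut P)) Subtype.val_injective
  apply isPGroup_of_forall
  rintro ⟨α, hαD⟩ q hq hqp hαq
  obtain ⟨hα, hαm⟩ := hD α hαD
  have hαq' : α ^ q = 1 := congrArg Subtype.val hαq
  apply Subtype.ext
  show α = 1
  -- trivial on `Q`
  have hαF := (mem_autGroup_iff' hPS α).1 hα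
  have hQfix : ∀ u (hu : u ∈ Q), ((α ⟨u, hQP hu⟩ : P) : Ω) = u := by
    have hαQ := hαF.restrict hQP
    have hQf : Finite Q := finite_of_le hQ.1
    have hαQm : ∀ u ∈ Q, aext α u ∈ Q := fun u hu =>
      StronglyClosed.map_mem (IsNormal.stronglyClosed hQ) hαF (hQP hu) hu
    obtain ⟨γ, hγ, hγα⟩ := hαQ.exists_aut_of_mapsTo hαQm
    have hit : ∀ (k : ℕ) (u : Q), (((γ ^ k) u : Q) : Ω) = ((α ^ k) ⟨u, hQP u.2⟩ : P) := by
      intro k
      induction k with
      | zero => intro u; simp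
      | succ k ih =>
        intro u
        rw [pow_succ', pow_succ', MulAut.mul_apply, MulAut.mul_apply, hγα, ih, aext_apply]
    have hγq : γ ^ q = 1 := by
      ext u
      rw [hit, hαq']; simp
    obtain ⟨j, hj⟩ := hQp ⟨γ, hγ⟩
    have hj' : γ ^ p ^ j = 1 := congrArg Subtype.val hj
    have hcop3 : Nat.Coprime (p ^ j) q :=
      Nat.Coprime.pow_left j ((Nat.coprime_primes (Fact.out) hq).2 (Ne.symm hqp))
    have hγ1 : γ = 1 := by
      have h1 : orderOf γ ∣ 1 := by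
        rw [← hcop3]
        exact Nat.dvd_gcd (orderOf_dvd_of_pow_eq_one hj') (orderOf_dvd_of_pow_eq_one hγq)
      exact orderOf_eq_one_iff.1 (Nat.dvd_one.1 h1)
    intro u hu
    have h1 := hγα ⟨u, hu⟩
    rw [hγ1] at h1
    rw [MulAut.one_apply] at h1
    rw [← aext_of_mem α (hQP hu), ← h1]
  ext x
  rw [MulAut.one_apply]
  -- α x = x * u
  have hu := hαm x
  set u := (x : Ω)⁻¹ * (α x : P) with hu_def
  have hxu : (α x : Ω) = x * u := by rw [hu_def]; group
  have hαu := hQfix u hu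
  have hpowx : ∀ k : ℕ, ((α ^ k) x : Ω) = x * u ^ k := by
    intro k
    induction k with
    | zero => simp
    | succ k ih =>
      have e : (α ^ k) x = x * ⟨u, hQP hu⟩ ^ k := Subtype.ext (by rw [ih]; rfl)
      rw [pow_succ', MulAut.mul_apply, e, map_mul, map_pow]
      show (α x : Ω) * ((α ⟨u, hQP hu⟩ : P) : Ω) ^ k = _
      rw [hαu, hxu, pow_succ', mul_assoc]
  have h1 := hpowx q
  rw [hαq', MulAut.one_apply] at h1
  have huq : u ^ q = 1 := by
    have : (x : Ω) * 1 = x * u ^ q := by rw [mul_one]; exact h1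
    exact (mul_left_cancel this).symm
  obtain ⟨j, hj⟩ := hS ⟨u, hQ.1 hu⟩
  have hj' : u ^ p ^ j = 1 := congrArg Subtype.val hj
  have hcop3 : Nat.Coprime (p ^ j) q :=
    Nat.Coprime.pow_left j ((Nat.coprime_primes (Fact.out) hq).2 (Ne.symm hqp))
  have hu1 : u = 1 := by
    have h1 : orderOf u ∣ 1 := by
      rw [← hcop3]
      exact Nat.dvd_gcd (orderOf_dvd_of_pow_eq_one hj') (orderOf_dvd_of_pow_eq_one huq)
    exact orderOf_eq_one_iff.1 (Nat.dvd_one.1 h1)
  rw [hxu, hu1, mul_one]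

/-- generation lifts from the quotient by a normal subgroup with `p`-group of automorphisms. -/
theorem le_of_quot {F E : FusionSystem S} [Finite S] {p : ℕ} [Fact p.Prime]
    (hS : IsPGroup p S) (hF : F.IsSaturated p) {Q : Subgroup Ω} (hQ : F.IsNormal Q)
    (hQp : IsPGroup p (F.autGroup Q)) {Ω' : Type*} [Group Ω'] {S' : Subgroup Ω'} {θ : S →* Ω'}
    {F' : FusionSystem S'} (hfac : Fac F Q θ F')
    (h : ∀ P' f', FMap F' P' f' → ∃ e, FMap F (preimageAlong θ P') e ∧
      FMap E (preimageAlong θ P') e ∧ Ind θ (preimageAlong θ P') e P' f') : F ≤ E := by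
  have hQS := hQ.1
  have hQf : Finite Q := finite_of_le hQS
  have hsc := IsNormal.stronglyClosed hQ
  refine alperin hS hF E fun P hP α hα => ?_
  have hPS : P ≤ S := by
    rcases hP with rfl | hP
    · exact le_rfl
    · exact hP.1.1
  have hPf : Finite P := finite_of_le hPS
  have hQP : Q ≤ P := by
    rcases hP with rfl | hP
    · exact hQS
    · exact IsNormal.le_of_centric_radical hS hQ hP.1 (essential_isRadical hS hP)
  have hPn : F.IsFullyNormalized P := by
    rcases hP with rfl | hP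
    · refine ⟨le_rfl, fun R hR => ?_⟩
      have h1 : normalizerIn P P = P := le_antisymm inf_le_left (le_inf le_rfl Subgroup.le_normalizer)
      rw [h1]
      exact card_le_of_le inf_le_left
    · exact hP.2.1
  have hPa := (Saturated.of_fullyNormalized hS hF hPn).1
  have hαF := (mem_autGroup_iff' hPS α).1 hα
  obtain ⟨f', hf', hind⟩ := hfac.push hαF
  obtain ⟨e, he, heE, hei⟩ := h _ _ hf'
  rw [hfac.pre_image hQP hPS] at he heE hei
  -- `e` is an automorphism of `P`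
  have hmod : ∀ x ∈ P, (aext α x)⁻¹ * e x ∈ Q := by
    intro x hx
    rw [← tx_eq_iff hfac.ker (hαF.mapsTo hx) (he.mapsTo hx), ← (hind x hx).2, ← (hei x hx).2]
  have heP : ∀ x ∈ P, e x ∈ P := by
    intro x hx
    have h1 := P.mul_mem (aext_mem α hx) (hQP (hmod x hx))
    rwa [mul_inv_cancel_left] at h1
  obtain ⟨β, hβE, hβe⟩ := heE.exists_aut_of_mapsTo heP
  have hβ : β ∈ F.autGroup P := mem_autGroup_of_FMap β he hβe
  -- the kernel
  let D : Subgroup (MulAut P) :=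
    { carrier := {γ | γ ∈ F.autGroup P ∧ ∀ x : P, (x : Ω)⁻¹ * (γ x : P) ∈ Q}
      mul_mem' := by
        rintro γ δ ⟨hγ, h1⟩ ⟨hδ, h2⟩
        refine ⟨mul_mem hγ hδ, fun x => ?_⟩
        rw [MulAut.mul_apply]
        have := Q.mul_mem (h2 x) (h1 (δ x))
        have e : (x : Ω)⁻¹ * (δ x : P) * (((δ x : P) : Ω)⁻¹ * (γ (δ x) : P)) =
          (x : Ω)⁻¹ * (γ (δ x) : P) := by group
        rwa [e] at this
      one_mem' := ⟨one_mem _, fun x => by simp⟩
      inv_mem' := by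
        rintro γ ⟨hγ, h1⟩
        refine ⟨inv_mem hγ, fun x => ?_⟩
        have h2 := h1 (γ⁻¹ x)
        rw [MulAut.apply_inv_self] at h2
        have := Q.inv_mem h2
        rw [mul_inv_rev, inv_inv] at this
        exact this }
  have hDle : D ≤ F.autGroup P := fun γ hγ => hγ.1
  have hDn : ∀ α ∈ F.autGroup P, ∀ β ∈ D, α * β * α⁻¹ ∈ D := by
    rintro γ hγ δ ⟨hδ, h1⟩
    refine ⟨mul_mem (mul_mem hγ hδ) (inv_mem hγ), fun x => ?_⟩
    have h2 := h1 (γ⁻¹ x)
    have hγF := (mem_autGroup_iff' hPS γ).1 hγ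
    have h3 := StronglyClosed.map_mem hsc hγF (P.mul_mem (P.inv_mem (γ⁻¹ x).2) (δ (γ⁻¹ x)).2) h2
    rw [MulAut.mul_apply, MulAut.mul_apply]
    have e : aext γ (((γ⁻¹ x : P) : Ω)⁻¹ * (δ (γ⁻¹ x) : P)) = (x : Ω)⁻¹ * (γ (δ (γ⁻¹ x)) : P) := by
      have : (((γ⁻¹ x : P) : Ω)⁻¹ * (δ (γ⁻¹ x) : P)) = (((γ⁻¹ x)⁻¹ * δ (γ⁻¹ x) : P) : Ω) := rfl
      rw [this, aext_apply, map_mul, map_inv, MulAut.apply_inv_self]; rfl
    rwa [e] at h3
  have hDp : IsPGroup p D := isPGroup_ker hS hQ hQp hPS hQP fun γ hγ => hγ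
  have hDI := normal_le_autInducedBy hPa hDle hDp hDn
  have hmem : α * β⁻¹ ∈ D := by
    refine ⟨mul_mem hα (inv_mem hβ), fun x => ?_⟩
    rw [MulAut.mul_apply]
    have h1 := hmod (β⁻¹ x : P) (β⁻¹ x).2
    rw [aext_apply, ← hβe, MulAut.apply_inv_self] at h1
    have := Q.inv_mem h1
    rwa [mul_inv_rev, inv_inv] at this
  have h2 := autInducedBy_le_autGroup E hPS (hDI hmem)
  have h3 := mul_mem h2 hβE
  rwa [inv_mul_cancel_right] at h3

end

end CfsgLib.Fusion
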