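import Cfsg.Agent.Lib.WC2Main
/-!
`X = ⟨C_X(℧¹(Z(S))), N_X(J(S))⟩` for groups of characteristic `p`.
-/
set_option autoImplicit false
set_option maxHeartbeats 400000

open scoped Pointwise commutatorElement
open CfsgLib.CF CfsgLib.Coprime CfsgLib.SylBridge CfsgLib.JA CfsgLib.WCFus

universe u

namespace CfsgLib.H9GenJ

variable {G : Type u} [Group G] [Finite G] {p : ℕ} [hp : Fact p.Prime]

omit [Finite G] hp in
theorem pCoreOf_le (H : Subgroup G) : Cfsg.pCoreOf p H ≤ H := Subgroup.map_subtype_le _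

theorem pCoreOf_isPGroup (H : Subgroup G) : IsPGroup p (Cfsg.pCoreOf p H) :=
  (CfsgLib.Core.pCore_isPGroup p H).map _

theorem le_pCoreOf {K H : Subgroup G} (hKH : K ≤ H) (hn : H ≤ Subgroup.normalizer (K : Set G))
    (hK : IsPGroup p K) : K ≤ Cfsg.pCoreOf p H := by
  have h1 : (K.subgroupOf H).Normal := by
    refine ⟨fun x hx g => ?_⟩
    exact (Subgroup.mem_normalizer_iff.1 (hn g.2) x).1 hx
  have h2 : IsPGroup p (K.subgroupOf H) := hK.comap_of_injective H.subtype H.subtype_injective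
  have h3 := CfsgLib.Core.le_pCore h1 h2
  have h4 := Subgroup.map_mono (f := H.subtype) h3
  rwa [Subgroup.map_subgroupOf_eq_of_le hKH] at h4

theorem le_normalizer_pCoreOf (H : Subgroup G) :
    H ≤ Subgroup.normalizer (Cfsg.pCoreOf p H : Set G) := by
  have hn := CfsgLib.Core.pCore_normal p H
  intro h hh
  apply CfsgLib.H7Basic.mem_normalizer_of_conj_mem
  rintro _ ⟨y, hy, rfl⟩
  exact ⟨⟨h, hh⟩ * y * ⟨h, hh⟩⁻¹, hn.conj_mem y hy _, rfl⟩

omit [Finite G] hp in
/-- powers of a quadratically acting element -/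
theorem quad_pow' {V : Subgroup G} (hVc : ∀ a ∈ V, ∀ b ∈ V, a * b = b * a) {u : G}
    (hVle : ⁅V, Subgroup.zpowers u⁆ ≤ V)
    (hq : ⁅⁅V, Subgroup.zpowers u⁆, Subgroup.zpowers u⁆ = ⊥) {t : G} (ht : t ∈ Subgroup.zpowers u) {n : ℕ}
    (htn : ∀ v ∈ V, t ^ n * v = v * t ^ n) {v : G} (hv : v ∈ V) : t * v ^ n = v ^ n * t := by
  set w := t * v * t⁻¹ * v⁻¹ with hw
  have hwm : w ∈ ⁅V, Subgroup.zpowers u⁆ := by
    rw [Subgroup.commutator_comm]
    have := Subgroup.commutator_mem_commutator (H₁ := Subgroup.zpowers u) (H₂ := V) ht hv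
    rwa [commutatorElement_def] at this
  have hwt : t * w = w * t := by
    have h1 : ⁅w, t⁆ ∈ (⊥ : Subgroup G) := by
      rw [← hq]; exact Subgroup.commutator_mem_commutator hwm ht
    rw [Subgroup.mem_bot, commutatorElement_eq_one_iff_mul_comm] at h1
    exact h1.symm
  have hwV := hVle hwm
  have h1 : ∀ m : ℕ, t ^ m * v * (t ^ m)⁻¹ = w ^ m * v := by
    intro m
    induction m with
    | zero => simp
    | succ m ih =>
      have hc : t * w ^ m = w ^ m * t := (Commute.pow_right (show Commute t w from hwt) m).eq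
      calc t ^ (m + 1) * v * (t ^ (m + 1))⁻¹ = t * (t ^ m * v * (t ^ m)⁻¹) * t⁻¹ := by rw [pow_succ']; group
        _ = (t * w ^ m) * v * t⁻¹ := by rw [ih]; group
        _ = w ^ m * (t * v * t⁻¹ * v⁻¹) * v := by rw [hc]; group
        _ = w ^ (m + 1) * v := by rw [← hw, pow_succ]
  have h2 : w ^ n = 1 := by
    have h3 := h1 n
    rw [htn v hv] at h3
    have h4 : v = w ^ n * v := by rw [← h3]; group
    have h5 : 1 * v = w ^ n * v := by rw [one_mul]; exact h4
    exact (mul_right_cancel h5).symm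
  have h3 : t * v ^ n * t⁻¹ = v ^ n := by
    have e : t * v ^ n * t⁻¹ = (t * v * t⁻¹) ^ n := by rw [conj_pow]
    have e2 : t * v * t⁻¹ = w * v := by rw [hw]; group
    rw [e, e2, (show Commute w v from hVc w hwV v hv).mul_pow, h2, one_mul]
  calc t * v ^ n = t * v ^ n * t⁻¹ * t := by group
    _ = _ := by rw [h3]

theorem gen_JA (S : Subgroup G) (Good : Subgroup G → Prop)
    (hmono : ∀ K L : Subgroup G, Good K → S ≤ L → L ≤ K → Good L)
    (hfrat : ∀ H C : Subgroup G, IsSyl p S H → C ≤ H → H ≤ Subgroup.normalizer (C : Set G) →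
      Good (S ⊔ C) → Good (H ⊓ Subgroup.normalizer ((S ⊓ C : Subgroup G) : Set G)) → Good H) :
    ∀ (n : ℕ) (H : Subgroup G), Nat.card H ≤ n →
    IsSyl p S H → H ⊓ Subgroup.centralizer (Cfsg.pCoreOf p H : Set G) ≤ Cfsg.pCoreOf p H →
    Good (H ⊓ Subgroup.centralizer (ZP p S)) →
    Good (H ⊓ Subgroup.normalizer ((JA S : Subgroup G) : Set G)) → Good H := by
  intro n
  induction n with
  | zero =>
    intro H hn
    have := Nat.card_pos (α := H)
    omega
  | succ n ih =>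
  intro H hn hS hC hV hJ
  by_contra hM
  have hSH := hS.1
  have hSp := hS.isPGroup
  set Q := Cfsg.pCoreOf p H with hQdef
  have hQH : Q ≤ H := pCoreOf_le H
  have hQp : IsPGroup p Q := pCoreOf_isPGroup H
  have hQn : H ≤ Subgroup.normalizer (Q : Set G) := le_normalizer_pCoreOf H
  have hQS : Q ≤ S := by
    have h1 := core_le_syl (isSyl_sub hS)
    have h2 := Subgroup.map_mono (f := H.subtype) h1
    rwa [Subgroup.map_subgroupOf_eq_of_le hSH] at h2
  have hSZ : S ≤ Subgroup.centralizer (ZP p S) := by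
    intro s hs
    refine Subgroup.mem_centralizer_iff.2 ?_
    rintro _ ⟨z, hz, rfl⟩
    exact (Commute.pow_left (show Commute z s from (Subgroup.mem_centralizer_iff.1 hz.2 s hs).symm) p).eq
  have hSJ : S ≤ Subgroup.normalizer ((JA S : Subgroup G) : Set G) :=
    le_normalizer_functor (p := p) CfsgLib.WC2.JA_conj hSp
  have hmax : ∀ L : Subgroup G, L ≤ H → L ≠ H → S ≤ L → Good L := by
    intro L hLH hne hSL
    have hlt : L < H := lt_of_le_of_ne hLH hne
    have hc : Nat.card L < Nat.card H := by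
      rcases lt_or_ge (Nat.card L) (Nat.card H) with h | h
      · exact h
      · exact absurd (Subgroup.eq_of_le_of_card_ge hLH h) hne
    have hQL : Q ≤ Cfsg.pCoreOf p L := le_pCoreOf (hQS.trans hSL) (hLH.trans hQn) hQp
    refine ih L (by omega) (IsSyl.of_le' hS hSL hLH) ?_
      (hmono _ _ hV (le_inf hSL hSZ) (inf_le_inf_right _ hLH))
      (hmono _ _ hJ (le_inf hSL hSJ) (inf_le_inf_right _ hLH))
    exact ((inf_le_inf hLH (Subgroup.centralizer_le hQL)).trans hC).trans hQL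
  -- general Frattini step
  have frat : ∀ C : Subgroup G, C ≤ H → H ≤ Subgroup.normalizer (C : Set G) → Good (S ⊔ C) →
      S ⊓ C ≤ Q := by
    intro C hCH hCn hCM
    have h3 : S ≤ Subgroup.normalizer ((S ⊓ C : Subgroup G) : Set G) := by
      intro s hs
      apply CfsgLib.H7Basic.mem_normalizer_of_conj_mem
      rintro x ⟨hx1, hx2⟩
      exact ⟨S.mul_mem (S.mul_mem hs hx1) (S.inv_mem hs),
        (Subgroup.mem_normalizer_iff.1 (hCn (hSH hs)) x).1 hx2⟩
    by_cases h4 : H ⊓ Subgroup.normalizer ((S ⊓ C : Subgroup G) : Set G) = H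
    · exact le_pCoreOf (inf_le_left.trans hSH) (inf_eq_left.1 h4) (hSp.to_le inf_le_left)
    · exfalso
      apply hM
      exact hfrat H C hS hCH hCn hCM (hmax _ inf_le_left h4 (le_inf hSH h3))
  -- the centre of `S` is contained in `Q`
  set V := Q ⊓ Subgroup.centralizer ((Q : Subgroup G) : Set G) with hVdef
  have hVn : H ≤ Subgroup.normalizer (V : Set G) := by
    intro h hh
    apply CfsgLib.H7Basic.mem_normalizer_of_conj_mem
    rintro v ⟨hv1, hv2⟩
    refine ⟨(Subgroup.mem_normalizer_iff.1 (hQn hh) v).1 hv1, ?_⟩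
    refine Subgroup.mem_centralizer_iff.2 ?_
    intro q hq
    have h1 : h⁻¹ * q * h ∈ Q := by
      have := (Subgroup.mem_normalizer_iff.1 (inv_mem (hQn hh)) q).1 hq
      rwa [inv_inv] at this
    have h2 := Subgroup.mem_centralizer_iff.1 hv2 _ h1
    calc q * (h * v * h⁻¹) = h * (h⁻¹ * q * h * v) * h⁻¹ := by group
      _ = h * (v * (h⁻¹ * q * h)) * h⁻¹ := by rw [h2]
      _ = h * v * h⁻¹ * q := by group
  have hVc : ∀ x ∈ V, ∀ y ∈ V, x * y = y * x := by
    rintro a ⟨ha, -⟩ b ⟨-, hb⟩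
    exact Subgroup.mem_centralizer_iff.1 hb a ha
  have hA2 : ∀ a ∈ ZP p S, ∃ v ∈ V, v ^ p = a := by
    rintro _ ⟨z, hz, rfl⟩
    have hzC : z ∈ Subgroup.centralizer (Q : Set G) := Subgroup.centralizer_le hQS hz.2
    exact ⟨z, ⟨hC ⟨hSH hz.1, hzC⟩, hzC⟩, rfl⟩
  -- the centralizer of the `p`-th powers
  set B : Set G := {b | ∃ v ∈ V, v ^ p = b} with hB
  set E := H ⊓ Subgroup.centralizer B with hE
  have hEn : H ≤ Subgroup.normalizer (E : Set G) := by
    intro g hg
    apply CfsgLib.H7Basic.mem_normalizer_of_conj_mem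
    rintro e ⟨heH, he⟩
    refine ⟨H.mul_mem (H.mul_mem hg heH) (H.inv_mem hg), ?_⟩
    refine Subgroup.mem_centralizer_iff.2 ?_
    rintro _ ⟨v, hv, rfl⟩
    have h1v : g⁻¹ * v * g ∈ V := by
      have := (Subgroup.mem_normalizer_iff.1 (inv_mem (hVn hg)) v).1 hv
      rwa [inv_inv] at this
    have h1 := Subgroup.mem_centralizer_iff.1 he ((g⁻¹ * v * g) ^ p) ⟨g⁻¹ * v * g, h1v, rfl⟩
    have e1 : (g⁻¹ * v * g) ^ p = g⁻¹ * v ^ p * g := by
      have := conj_pow (a := g⁻¹) (b := v) (i := p)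
      rwa [inv_inv] at this
    rw [e1] at h1
    calc v ^ p * (g * e * g⁻¹) = g * (g⁻¹ * v ^ p * g * e) * g⁻¹ := by group
      _ = g * (e * (g⁻¹ * v ^ p * g)) * g⁻¹ := by rw [h1]
      _ = g * e * g⁻¹ * v ^ p := by group
  have hEM : Good (S ⊔ E) := hmono _ _ hV le_sup_left (sup_le (le_inf hSH hSZ)
    (inf_le_inf_left _ (Subgroup.centralizer_le (fun a ha => hA2 a ha))))
  have h5 := frat E inf_le_left hEn hEM
  -- a quadratic element
  have hJn : ¬ H ≤ Subgroup.normalizer ((JA S : Subgroup G) : Set G) := fun h =>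
    hM (by rwa [inf_eq_left.2 h] at hJ)
  obtain ⟨u, huS, huQ, huq⟩ := CfsgLib.WC2.JA_loc H S hSH hSp (isSyl_iff.1 hS).2.2 hJn
  have hVle : ⁅V, Subgroup.zpowers u⁆ ≤ V := by
    rw [Subgroup.commutator_le]
    rintro v hv z hz
    have hzH : z ∈ H := (Subgroup.zpowers_le.2 (hSH huS)) hz
    rw [commutatorElement_def]
    have h1 := (Subgroup.mem_normalizer_iff.1 (hVn hzH) v⁻¹).1 (V.inv_mem hv)
    have h2 := V.mul_mem hv h1
    have e : v * (z * v⁻¹ * z⁻¹) = v * z * v⁻¹ * z⁻¹ := by group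
    rw [e] at h2
    exact h2
  obtain ⟨n', hn'⟩ : ∃ n : ℕ, ∀ v ∈ V, u ^ p ^ n * v = v * u ^ p ^ n := by
    obtain ⟨n, hn⟩ := hSp ⟨u, huS⟩
    refine ⟨n, fun v _ => ?_⟩
    have : u ^ p ^ n = 1 := congrArg (fun x : S => (x : G)) hn
    rw [this]; simp
  classical
  have hex : ∃ n : ℕ, ∀ v ∈ V, u ^ p ^ n * v = v * u ^ p ^ n := ⟨n', hn'⟩
  have hmin := Nat.find_spec hex
  have hlt := fun m (hm : m < Nat.find hex) => Nat.find_min hex hm
  set m := Nat.find hex with hm
  rcases Nat.eq_zero_or_pos m with h0 | hpos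
  · rw [h0, pow_zero, pow_one] at hmin
    apply huQ
    apply h5
    refine ⟨huS, hSH huS, ?_⟩
    refine Subgroup.mem_centralizer_iff.2 ?_
    rintro _ ⟨v, hv, rfl⟩
    exact (Commute.pow_right (show Commute u v from hmin v hv) p).eq.symm
  · have h6 := hlt (m - 1) (by omega)
    set t := u ^ p ^ (m - 1) with ht
    have h7 : t ^ p = u ^ p ^ m := by
      rw [ht, ← pow_mul, ← pow_succ]
      congr 2; omega
    apply h6
    intro v hv
    have htE : t ∈ E := by
      refine ⟨H.pow_mem (hSH huS) _, Subgroup.mem_centralizer_iff.2 ?_⟩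
      rintro _ ⟨v, hv, rfl⟩
      exact (quad_pow' hVc hVle huq (Subgroup.npow_mem_zpowers u _) (by
        intro v hv
        rw [h7]; exact hmin v hv) hv).symm
    have h8 := h5 ⟨S.pow_mem huS _, htE⟩
    exact Subgroup.mem_centralizer_iff.1 hv.2 t h8

end CfsgLib.H9GenJ
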