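import Cfsg.Agent.Lib.FusionGen1
import Cfsg.Agent.Lib.H9GenJ
/-!
Generation of constrained fusion systems by `C_F(℧¹(Z(S)))` and `N_F(J(S))`.
-/
set_option autoImplicit false
set_option maxHeartbeats 400000

open scoped Pointwise

universe u

namespace CfsgLib.H9GenJ

open CfsgLib.CF CfsgLib.Coprime CfsgLib.SylBridge CfsgLib.JA CfsgLib.WCFus

variable {G : Type u} [Group G] [Finite G] {p : ℕ} [hp : Fact p.Prime]

/-- all conjugation maps between subgroups of `S` given by elements of `H` are in `𝓔` -/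
def GoodIn (S : Subgroup G) (𝓔 : Subgroup G → G → Prop) (H : Subgroup G) : Prop :=
  ∀ P : Subgroup G, P ≤ S → ∀ g ∈ H, MulAut.conj g • P ≤ S → 𝓔 P g

theorem good_frat {S : Subgroup G} {𝓔 : Subgroup G → G → Prop}
    (hcomp : ∀ (P : Subgroup G) (g h : G), P ≤ S → MulAut.conj g • P ≤ S →
      MulAut.conj (h * g) • P ≤ S → 𝓔 P g → 𝓔 (MulAut.conj g • P) h → 𝓔 P (h * g))
    {H C : Subgroup G} (hS : IsSyl p S H) (hCH : C ≤ H)
    (hCn : H ≤ Subgroup.normalizer (C : Set G)) (h1 : GoodIn S 𝓔 (S ⊔ C))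
    (h2 : GoodIn S 𝓔 (H ⊓ Subgroup.normalizer ((S ⊓ C : Subgroup G) : Set G))) :
    GoodIn S 𝓔 H := by
  intro P hP g hg hgP
  have hSH := hS.1
  have hfr := IsSyl.frattini (IsSyl.inf_normal hS hCH hCn) hCH hCn
  have hN : S ≤ Subgroup.normalizer ((S ⊓ C : Subgroup G) : Set G) := by
    intro s hs
    apply CfsgLib.H7Basic.mem_normalizer_of_conj_mem
    rintro x ⟨hx1, hx2⟩
    exact ⟨S.mul_mem (S.mul_mem hs hx1) (S.inv_mem hs),
      (Subgroup.mem_normalizer_iff.1 (hCn (hSH hs)) x).1 hx2⟩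
  set N₀ := H ⊓ Subgroup.normalizer ((S ⊓ C : Subgroup G) : Set G) with hN₀
  have hSN : S ≤ N₀ := le_inf hSH hN
  -- `g = n c`
  have hgi := hfr (H.inv_mem hg)
  rw [← SetLike.mem_coe, Subgroup.coe_mul_of_right_le_normalizer_left _ _ (inf_le_left.trans hCn)] at hgi
  obtain ⟨c', hc', n', hn', hcn⟩ := hgi
  have hgcn : g = n'⁻¹ * c'⁻¹ := by
    have : g = (g⁻¹)⁻¹ := (inv_inv g).symm
    rw [this, ← hcn, mul_inv_rev]
  set c := c'⁻¹ with hc
  set n := n'⁻¹ with hn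
  have hcC : c ∈ C := C.inv_mem hc'
  have hnN : n ∈ N₀ := N₀.inv_mem hn'
  -- the conjugate by `c`
  have hcP1 : MulAut.conj c • P ≤ S ⊔ C := by
    rw [smul_le_iff]
    intro x hx
    exact mul_mem (mul_mem (Subgroup.mem_sup_right hcC) (Subgroup.mem_sup_left (hP hx)))
      (inv_mem (Subgroup.mem_sup_right hcC))
  have hcP2 : MulAut.conj c • P ≤ N₀ := by
    rw [smul_le_iff]
    intro x hx
    have h3 : g * x * g⁻¹ ∈ N₀ := hSN (hgP (conj_mem_smul hx))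
    have e : c * x * c⁻¹ = n⁻¹ * (g * x * g⁻¹) * n := by rw [hgcn]; group
    rw [e]
    exact N₀.mul_mem (N₀.mul_mem (N₀.inv_mem hnN) h3) hnN
  have hK : (S ⊔ C) ⊓ N₀ ≤ H := inf_le_right.trans inf_le_left
  have hSK : IsSyl p S ((S ⊔ C) ⊓ N₀) := IsSyl.of_le' hS (le_inf le_sup_left hSN) hK
  obtain ⟨m, hm, hmP⟩ := exists_conj_le hSK (isPGroup_smul (g := c) (hS.isPGroup.to_le hP))
    (le_inf hcP1 hcP2)
  rw [← smul_mul] at hmP
  have e1 : g = (n * m⁻¹) * (m * c) := by rw [hgcn]; group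
  rw [e1]
  refine hcomp P (m * c) (n * m⁻¹) hP hmP (by rw [← e1]; exact hgP) ?_ ?_
  · exact h1 P hP _ (mul_mem hm.1 (Subgroup.mem_sup_right hcC)) hmP
  · refine h2 _ hmP _ (N₀.mul_mem hnN (N₀.inv_mem hm.2)) ?_
    rw [← smul_mul, ← e1]
    exact hgP

theorem good_mono {S : Subgroup G} {𝓔 : Subgroup G → G → Prop} {K L : Subgroup G}
    (h : GoodIn S 𝓔 K) (hLK : L ≤ K) : GoodIn S 𝓔 L := fun P hP g hg hgP => h P hP g (hLK hg) hgP

theorem good_top {S : Subgroup G} {𝓔 : Subgroup G → G → Prop} (hS : IsSyl p S (⊤ : Subgroup G))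
    (hcomp : ∀ (P : Subgroup G) (g h : G), P ≤ S → MulAut.conj g • P ≤ S →
      MulAut.conj (h * g) • P ≤ S → 𝓔 P g → 𝓔 (MulAut.conj g • P) h → 𝓔 P (h * g))
    (hC : Subgroup.centralizer ((Cfsg.pCore p G : Subgroup G) : Set G) ≤ Cfsg.pCore p G)
    (h1 : GoodIn S 𝓔 (Subgroup.centralizer (ZP p S)))
    (h2 : GoodIn S 𝓔 (Subgroup.normalizer ((JA S : Subgroup G) : Set G))) : GoodIn S 𝓔 ⊤ := by
  have hcore : Cfsg.pCore p G ≤ Cfsg.pCoreOf p (⊤ : Subgroup G) :=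
    le_pCoreOf le_top (by
      have := CfsgLib.Core.pCore_normal p G
      rw [Subgroup.normalizer_eq_top]) (CfsgLib.Core.pCore_isPGroup p G)
  refine gen_JA (p := p) S (GoodIn S 𝓔) (fun K L h _ hLK => good_mono h hLK)
    (fun H C hS hCH hCn ha hb => good_frat hcomp hS hCH hCn ha hb) _ ⊤ le_rfl hS ?_
    (good_mono h1 inf_le_right) (good_mono h2 inf_le_right)
  exact ((inf_le_right.trans (Subgroup.centralizer_le hcore)).trans hC).trans hcore

end CfsgLib.H9GenJ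

namespace CfsgLib.Fusion

open Cfsg Cfsg.FusionSystem CfsgLib.SylowIn CfsgLib.StronglyEmb

variable {p : ℕ} [Fact p.Prime]

theorem realized_le {Ω : Type u} [Group Ω] {N S : Subgroup Ω} [Finite N] (hNp : IsPGroup p N)
    (hNS : N ≤ S) {FN : FusionSystem N} {L : Type u} [Group L] [Finite L] {κ : N →* L}
    (hreal : FN.IsRealizedBy κ) {T : Sylow p L} (hT : (T : Subgroup L) = κ.range)
    (hLC : Subgroup.centralizer ((Cfsg.pCore p L : Subgroup L) : Set L) ≤ Cfsg.pCore p L)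
    (E : FusionSystem S)
    (hC : ∀ P f, FMap FN P f → (∀ z ∈ N, (∀ s ∈ N, z * s = s * z) → z ^ p ∈ P ∧ f (z ^ p) = z ^ p) →
      FMap E P f)
    (hJ : ∀ P f, FMap FN P f → wS CfsgLib.JA.WJ N ≤ P →
      img (wS CfsgLib.JA.WJ N) f = wS CfsgLib.JA.WJ N → FMap E P f) :
    ∀ P f, FMap FN P f → FMap E P f := by
  have hinj := hreal.1
  let 𝓔 : Subgroup L → L → Prop := fun P' g =>
    ∀ (P : Subgroup Ω) (hP : P ≤ N) (f : Ω → Ω) (hf : ∀ x ∈ P, f x ∈ N),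
      (∀ x (hx : x ∈ P), κ ⟨x, hP hx⟩ ∈ P') →
      (∀ x (hx : x ∈ P), κ ⟨f x, hf x hx⟩ = g * κ ⟨x, hP hx⟩ * g⁻¹) → FMap E P f
  have hcomp : ∀ (P : Subgroup L) (g h : L), P ≤ (T : Subgroup L) → MulAut.conj g • P ≤ (T : Subgroup L) →
      MulAut.conj (h * g) • P ≤ (T : Subgroup L) → 𝓔 P g → 𝓔 (MulAut.conj g • P) h → 𝓔 P (h * g) := by
    intro P' g h hP' hgP' hhg h1 h2 P hP f hf hκ hκf
    obtain ⟨f₁, hf₁, hf₁κ⟩ := IsRealizedBy.exists_FMap hreal hP g (by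
      intro x hx
      have h3 : g * κ ⟨x, hP hx⟩ * g⁻¹ ∈ (T : Subgroup L) := hgP' (CfsgLib.CF.conj_mem_smul (hκ x hx))
      rw [hT] at h3
      obtain ⟨y, hy⟩ := h3
      exact ⟨y, y.2, hy.symm⟩)
    have hfE := h1 P hP f₁ (fun x hx => hf₁.mapsTo hx) hκ fun x hx => hf₁κ x hx _
    obtain ⟨k, hk, hk1, hk2⟩ := hf₁.exists_inv
    have h3 := h2 (img P f₁) hf₁.img_le (fun y => f (k y)) (fun y hy => hf _ (hk2 y hy).1) (by
      intro y hy
      obtain ⟨x, hx, rfl⟩ := hf₁.mem_img.1 hy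
      rw [hf₁κ x hx]
      exact CfsgLib.CF.conj_mem_smul (hκ x hx)) (by
      intro y hy
      obtain ⟨x, hx, rfl⟩ := hf₁.mem_img.1 hy
      rw [hf₁κ x hx]
      have e : (⟨f (k (f₁ x)), hf _ (hk2 _ hy).1⟩ : N) = ⟨f x, hf x hx⟩ := by
        apply Subtype.ext; show f (k (f₁ x)) = f x; rw [hk1 x hx]
      rw [e, hκf x hx]; group)
    exact (hfE.comp h3 fun x hx => apply_mem_img hx).congr fun x hx => by
      show f (k (f₁ x)) = f x; rw [hk1 x hx]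
  have hTs : CfsgLib.Coprime.IsSyl p (T : Subgroup L) ⊤ := CfsgLib.SylBridge.isSyl_top_iff.2 ⟨T, rfl⟩
  -- extension of realized maps
  have hext : ∀ (V : Subgroup Ω) (hV : V ≤ N) (g : L),
      (∀ x (hx : x ∈ V), g * κ ⟨x, hV hx⟩ * g⁻¹ ∈ (T : Subgroup L)) →
      ∀ (P : Subgroup Ω) (hP : P ≤ N) (f : Ω → Ω) (hf : ∀ x ∈ P, f x ∈ N),
      (∀ x (hx : x ∈ P), κ ⟨f x, hf x hx⟩ = g * κ ⟨x, hP hx⟩ * g⁻¹) →
      ∃ f₁, FMap FN (P ⊔ V) f₁ ∧ (∀ x ∈ P, f₁ x = f x) ∧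
        ∀ x (hx : x ∈ V) (hx' : f₁ x ∈ N), κ ⟨f₁ x, hx'⟩ = g * κ ⟨x, hV hx⟩ * g⁻¹ := by
    intro V hV g hVg P hP f hf hκf
    have hPV : P ⊔ V ≤ N := sup_le hP hV
    have hle : P ⊔ V ≤ ((MulAut.conj g⁻¹ • (T : Subgroup L) : Subgroup L).comap κ).map N.subtype := by
      apply sup_le
      · intro x hx
        refine ⟨⟨x, hP hx⟩, ?_, rfl⟩
        show κ _ ∈ (MulAut.conj g⁻¹ • (T : Subgroup L) : Subgroup L)
        rw [CfsgLib.CF.mem_smul, inv_inv, ← hκf x hx, hT]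
        exact ⟨_, rfl⟩
      · intro x hx
        refine ⟨⟨x, hV hx⟩, ?_, rfl⟩
        show κ _ ∈ (MulAut.conj g⁻¹ • (T : Subgroup L) : Subgroup L)
        rw [CfsgLib.CF.mem_smul, inv_inv]
        exact hVg x hx
    obtain ⟨f₁, hf₁, hf₁κ⟩ := IsRealizedBy.exists_FMap hreal hPV g (by
      intro x hx
      obtain ⟨x', hx', hxx⟩ := hle hx
      have h3 : κ x' ∈ (MulAut.conj g⁻¹ • (T : Subgroup L) : Subgroup L) := hx'
      rw [CfsgLib.CF.mem_smul, inv_inv, hT] at h3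
      obtain ⟨y, hy⟩ := h3
      refine ⟨y, y.2, ?_⟩
      have e : (⟨x, hPV hx⟩ : N) = x' := Subtype.ext hxx.symm
      rw [e, ← hy])
    refine ⟨f₁, hf₁, fun x hx => ?_, fun x hx hx' => hf₁κ x (le_sup_right (a := P) hx) hx'⟩
    have hx2 := le_sup_left (b := V) hx
    have h3 := hf₁κ x hx2 (hf₁.mapsTo hx2)
    rw [← hκf x hx] at h3
    exact congrArg Subtype.val (hinj h3)
  have hgood := CfsgLib.H9GenJ.good_top (p := p) hTs hcomp hLC ?_ ?_
  · intro P f hf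
    obtain ⟨g, hg⟩ := ((isRealizedBy_iff.1 hreal).2 P hf.le f (fun x hx => hf.mapsTo hx)).1 hf
    refine hgood ((P.subgroupOf N).map κ) ?_ g trivial ?_ P hf.le f (fun x hx => hf.mapsTo hx) ?_ hg
    · rintro _ ⟨x, hx, rfl⟩
      rw [hT]; exact ⟨x, rfl⟩
    · rw [CfsgLib.CF.smul_le_iff]
      rintro _ ⟨x, hx, rfl⟩
      have := hg x hx
      rw [hT]
      exact ⟨_, this⟩
    · intro x hx
      exact ⟨⟨x, hf.le hx⟩, hx, rfl⟩
  · -- the centralizer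
    intro P' hP' g hg hgP' P hP f hf hκ hκf
    have hVN : (Cfsg.powerClosure p 1 (N ⊓ Subgroup.centralizer (N : Set Ω))) ≤ N := by
      unfold Cfsg.powerClosure
      rw [Subgroup.closure_le]
      rintro _ ⟨z, hz, rfl⟩
      exact N.pow_mem hz.1 _
    have hVg : ∀ x (hx : x ∈ Cfsg.powerClosure p 1 (N ⊓ Subgroup.centralizer (N : Set Ω))),
        g * κ ⟨x, hVN hx⟩ * g⁻¹ = κ ⟨x, hVN hx⟩ := by
      have key : Cfsg.powerClosure p 1 (N ⊓ Subgroup.centralizer (N : Set Ω)) ≤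
          ((Subgroup.centralizer {g}).comap κ).map N.subtype := by
        unfold Cfsg.powerClosure
        rw [Subgroup.closure_le]
        rintro _ ⟨z, hz, rfl⟩
        refine ⟨⟨z, hz.1⟩ ^ p ^ 1, ?_, rfl⟩
        show κ _ ∈ Subgroup.centralizer {g}
        rw [Subgroup.mem_centralizer_singleton_iff, map_pow, pow_one]
        refine (Subgroup.mem_centralizer_iff.1 hg _ ⟨κ ⟨z, hz.1⟩, ⟨?_, ?_⟩, rfl⟩)
        · rw [hT]; exact ⟨_, rfl⟩
        · rw [hT]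
          refine Subgroup.mem_centralizer_iff.2 ?_
          rintro _ ⟨y, rfl⟩
          rw [← map_mul, ← map_mul]
          congr 1
          exact Subtype.ext (Subgroup.mem_centralizer_iff.1 hz.2 y y.2)
      intro x hx
      obtain ⟨x', hx', hxx⟩ := key hx
      have h3 : κ x' ∈ Subgroup.centralizer {g} := hx'
      rw [Subgroup.mem_centralizer_singleton_iff] at h3
      have e : (⟨x, hVN hx⟩ : N) = x' := Subtype.ext hxx.symm
      rw [e, ← h3]; group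
    obtain ⟨f₁, hf₁, hf₁f, hf₁κ⟩ := hext _ hVN g (fun x hx => by
      rw [hVg x hx, hT]; exact ⟨_, rfl⟩) P hP f hf hκf
    have h4 := hC _ f₁ hf₁ (by
      intro z hz hzc
      have hz1 : z ^ p ∈ Cfsg.powerClosure p 1 (N ⊓ Subgroup.centralizer (N : Set Ω)) := by
        refine Subgroup.subset_closure ⟨z, ⟨hz, Subgroup.mem_centralizer_iff.2 fun s hs => ?_⟩, by rw [pow_one]⟩
        exact (hzc s hs).symm
      have hz2 := le_sup_right (a := P) hz1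
      refine ⟨hz2, ?_⟩
      have h5 := hf₁κ _ hz1 (hf₁.mapsTo hz2)
      rw [hVg _ hz1] at h5
      exact congrArg Subtype.val (hinj h5))
    exact (h4.restrict le_sup_left).congr hf₁f
  · -- the normalizer
    intro P' hP' g hg hgP' P hP f hf hκ hκf
    have hJN : wS CfsgLib.JA.WJ N ≤ N := wS_le _ N
    have hJf : Finite (wS CfsgLib.JA.WJ N) := finite_of_le hJN
    have hJT : CfsgLib.JA.JA (T : Subgroup L) = (CfsgLib.JA.WJ N).map κ := by
      rw [← CfsgLib.JA.map_eq]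
      exact wS_hom WJ2 hNp hinj hT
    rw [hJT] at hg
    have hmem : ∀ x (hx : x ∈ wS CfsgLib.JA.WJ N), κ ⟨x, hJN hx⟩ ∈ (CfsgLib.JA.WJ N).map κ := by
      intro x hx
      refine ⟨⟨x, hJN hx⟩, ?_, rfl⟩
      rw [← wS_subgroupOf CfsgLib.JA.WJ]
      exact hx
    have hconj : ∀ x (hx : x ∈ wS CfsgLib.JA.WJ N), ∃ y, ∃ hy : y ∈ wS CfsgLib.JA.WJ N,
        g * κ ⟨x, hJN hx⟩ * g⁻¹ = κ ⟨y, hJN hy⟩ := by
      intro x hx
      obtain ⟨y, hy, hyx⟩ := (Subgroup.mem_normalizer_iff.1 hg _).1 (hmem x hx)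
      exact ⟨y, ⟨y, hy, rfl⟩, hyx.symm⟩
    obtain ⟨f₁, hf₁, hf₁f, hf₁κ⟩ := hext _ hJN g (fun x hx => by
      obtain ⟨y, hy, hyx⟩ := hconj x hx
      rw [hyx, hT]; exact ⟨_, rfl⟩) P hP f hf hκf
    have h4 := hJ _ f₁ hf₁ le_sup_right (by
      apply (hf₁.restrict le_sup_right).img_eq_of_mapsTo
      intro x hx
      obtain ⟨y, hy, hyx⟩ := hconj x hx
      have h5 := hf₁κ x hx (hf₁.mapsTo (le_sup_right (a := P) hx))
      rw [hyx] at h5
      have h6 : f₁ x = y := congrArg Subtype.val (hinj h5)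
      rw [h6]; exact hy)
    exact (h4.restrict le_sup_left).congr hf₁f

end CfsgLib.Fusion
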