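import Cfsg.Agent.Lib.FusionGen2
/-!
`F = ⟨C_F(℧¹(Z(S))), N_F(J(S))⟩`.
-/
set_option autoImplicit false
set_option maxHeartbeats 400000

universe u

namespace CfsgLib.Fusion

open Cfsg Cfsg.FusionSystem CfsgLib.SylowIn CfsgLib.StronglyEmb

variable {p : ℕ} [Fact p.Prime]

theorem gen_top : ∀ (n : ℕ) {Ω : Type u} [Group Ω] (S : Subgroup Ω) [Finite S], IsPGroup p S →
    ∀ F : FusionSystem S, F.IsSaturated p → ∀ E : FusionSystem S, E ≤ F → Nat.card S = n →
    (∀ P f, FMap F P f → (∀ z ∈ S, (∀ s ∈ S, z * s = s * z) → z ^ p ∈ P ∧ f (z ^ p) = z ^ p) →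
      FMap E P f) →
    (∀ P f, FMap F P f → wS CfsgLib.JA.WJ S ≤ P →
      img (wS CfsgLib.JA.WJ S) f = wS CfsgLib.JA.WJ S → FMap E P f) → F ≤ E := by
  intro n
  induction n using Nat.strong_induction_on with
  | _ n ih =>
  intro Ω _ S _ hS F hF E hEF hn hC hJ
  have hJ1 : ∀ (Q : Type u) [Group Q] [Finite Q], IsPGroup p Q → Nontrivial Q →
    CfsgLib.JA.WJ Q ≠ ⊥ := fun Q _ _ hQ hQn => (CfsgLib.JA.isCharPFunctor p).1 Q hQ hQn
  have hJS : wS CfsgLib.JA.WJ S ≤ S := wS_le _ S
  have hJSf : Finite (wS CfsgLib.JA.WJ S) := finite_of_le hJS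
  have hbase : ∀ (m : ℕ) (Q : Subgroup Ω) (hQ : Q ≤ S), Nat.card S ≤ Nat.card Q + m → Q ≠ ⊥ →
      normalizerIn S Q = S → ∀ P f, FMap (normSys F Q hQ) P f → FMap E P f := by
    intro m
    induction m using Nat.strong_induction_on with
    | _ m ihm =>
    intro Q hQ hm hQ0 hN
    have hQf : Finite Q := finite_of_le hQ
    have hQn : F.IsFullyNormalized Q := by
      refine ⟨hQ, fun R _ => ?_⟩
      rw [hN]
      exact card_le_of_le inf_le_left
    have hNf : Finite (normalizerIn S Q) := finite_of_le inf_le_left
    have hNp : IsPGroup p (normalizerIn S Q) := hS.to_le inf_le_left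
    by_cases hCQ : centralizerIn S Q ≤ Q
    · -- the centric case
      have hQc : F.IsCentric Q := Saturated.isCentric_of hS hF
        (Saturated.fullyCentralized_of_fullyNormalized hS hF hQn) hCQ
      obtain ⟨L, _, κ, hL, -⟩ := exists_model (F := normSys F Q hQ) hNp
        (normSys_saturated hS hF hQn) (isNormal_normSys hQ) (isCentric_normSys hQc)
      obtain ⟨hLf, hreal, ⟨T, hT⟩, hLC⟩ := id hL
      refine realized_le hNp inf_le_left hreal hT hLC E ?_ ?_
      · intro P f hf h
        refine hC P f (FMap_normSys.1 hf).1 fun z hz hzc => h z (by rw [hN]; exact hz) ?_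
        intro s hs
        rw [hN] at hs
        exact hzc s hs
      · intro P f hf h1 h2
        rw [hN] at h1 h2
        exact hJ P f (FMap_normSys.1 hf).1 h1 h2
    · -- the noncentric case
      have hRS : Q ⊔ centralizerIn S Q ≤ S := sup_le hQ inf_le_left
      have hRf : Finite ↥(Q ⊔ centralizerIn S Q) := finite_of_le hRS
      have hQR : Q < Q ⊔ centralizerIn S Q :=
        lt_of_le_of_ne le_sup_left fun h => hCQ (le_of_le_of_eq le_sup_right h.symm)
      have hcR := card_lt_of_lt hQR
      have hNR : normalizerIn S (Q ⊔ centralizerIn S Q) = S := by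
        apply le_antisymm inf_le_left
        have := normalizerIn_le_sup_centralizer F hQ (S := S)
        rwa [hN] at this
      have hR0 : Q ⊔ centralizerIn S Q ≠ ⊥ := fun h =>
        hQ0 (eq_bot_iff.2 (le_of_le_of_eq le_sup_left h))
      have hQS : Q < S := lt_of_lt_of_le hQR hRS
      have hcS := card_lt_of_lt hQS
      have hV : ∀ V (hV : V ≤ S), Q < V → normalizerIn S V = S →
          ∀ P f, FMap (normSys F V hV) P f → FMap E P f := by
        intro V hV hQV hVN
        have hVf : Finite V := finite_of_le hV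
        have := card_lt_of_lt hQV
        have hV0 : V ≠ ⊥ := fun h => by
          rw [h] at hQV; exact not_lt_bot hQV
        exact ihm (m - 1) (by omega) V hV (by omega) hV0 hVN
      refine normSys_le_of_decomp hS hF hQ hN E (hV _ hRS hQR hNR) ?_
      -- the inner system
      have hF₁ := innSys_saturated hS hF hQ hN
      have hQ₁ : (innSys F Q hQ hN).IsNormal Q := isNormal_innSys
      have hQ₁p : IsPGroup p ((innSys F Q hQ hN).autGroup Q) := isPGroup_autGroup_innSys hS
      by_cases hVQ : ∀ z ∈ S, (∀ s ∈ S, z * s = s * z) → z ^ p ∈ Q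
      · -- the `p`-th powers are in `Q`
        rw [le_iff_FMap]
        intro P f hf
        obtain ⟨h1, g, h2, h3, s, hs, h4⟩ := FMap_innSys.1 hf
        have h5 : FMap E (P ⊔ Q) g := by
          refine hC _ g h2 fun z hz hzc => ⟨le_sup_right (a := P) (hVQ z hz hzc), ?_⟩
          rw [h4 _ (hVQ z hz hzc)]
          have h6 : s * z ^ p = z ^ p * s := ((show Commute z s from hzc s hs).pow_left p).eq.symm
          rw [h6, mul_inv_cancel_right]
        exact (h5.restrict le_sup_left).congr h3
      -- the quotient
      have hQSn : (Q.subgroupOf S).Normal := by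
        refine ⟨fun x hx s => ?_⟩
        have hx' : (x : Ω) ∈ Q := hx
        exact conj_mem_of_normalizerIn hN s.2 hx'
      let θ : S →* (S ⧸ (Q.subgroupOf S)) := QuotientGroup.mk' (Q.subgroupOf S)
      have hker : ∀ s ∈ S, tx θ s = 1 ↔ s ∈ Q := by
        intro s hs
        rw [tx_of_mem hs]
        exact QuotientGroup.eq_one_iff _
      have hsc := IsNormal.stronglyClosed hQ₁
      have hspec := quotSys_spec hsc θ hker
      have hfac := Fac.of hS hF₁ hsc hspec
      have hF₂ := surjectiveMorphism_saturated hS hF₁ (factorSystem_surjective hS hF₁ hsc hspec)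
      have hfin₂ := hfac.finite
      have hp₂ := hfac.isPGroup hS
      have hcard₂ := hfac.card_pre (le_refl θ.range)
      rw [hfac.pre_top] at hcard₂
      have hQ2 : 1 < Nat.card Q := by
        rw [← not_le]
        intro h
        exact hQ0 (Subgroup.card_eq_one.1 (le_antisymm h Nat.card_pos))
      have hlt₂ : Nat.card θ.range < n := by
        rw [← hn, hcard₂]
        exact lt_mul_of_one_lt_right Nat.card_pos hQ2
      have hrng : θ.range ≠ ⊥ := by
        intro h
        rw [h, Subgroup.card_bot, one_mul] at hcard₂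
        omega
      -- the subsystem
      set E₁ : FusionSystem S := infSys (innSys F Q hQ hN) E le_rfl with hE₁
      have hE₁m : ∀ {P f}, FMap E₁ P f ↔ FMap (innSys F Q hQ hN) P f ∧ FMap E P f := FMap_infSys
      have hsc₁ : E₁.StronglyClosed Q := by
        refine ⟨hsc.1, fun R hR φ hφ x => hsc.2 R hR φ ?_ x⟩
        exact infSys_le R hφ
      have hspec₁ := quotSys_spec hsc₁ θ hker
      obtain ⟨-, -, -, hq₁⟩ := isFactorSystem_iff.1 hspec₁
      obtain ⟨-, -, -, hq⟩ := isFactorSystem_iff.1 hspec
      -- maps normalizing a larger subgroup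
      have hbig : ∀ (V' : Subgroup (S ⧸ (Q.subgroupOf S))), V' ≤ θ.range → V' ≠ ⊥ →
          (normalizerIn θ.range V' = θ.range) → ∀ P' f', V' ≤ P' →
          FMap (quotSys (innSys F Q hQ hN) Q hsc θ hker) P' f' → img V' f' = V' →
          FMap (quotSys E₁ Q hsc₁ θ hker) P' f' := by
        intro V' hV' hV'0 hV'N P' f' hVP' hf' hfV'
        rw [hq₁]
        obtain ⟨hP'le, g, hg, hgi⟩ := (hq P' f').1 hf'
        refine ⟨hP'le, g, hE₁m.2 ⟨hg, ?_⟩, hgi⟩
        obtain ⟨V, hVeq⟩ : ∃ V, V = preimageAlong θ V' := ⟨_, rfl⟩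
        have hVS : V ≤ S := by rw [hVeq]; exact preimageAlong_le
        have hVf : Finite V := finite_of_le hVS
        have hQV : Q < V := by
          have h1 : Q ≤ V := by rw [hVeq]; exact hfac.le_pre _
          refine lt_of_le_of_ne h1 fun h => ?_
          have h2 : Nat.card V = Nat.card V' * Nat.card Q := by
            rw [hVeq, hfac.card_pre hV']
          rw [← h] at h2
          have h3 : Nat.card V' = 1 := by
            have h4 := Nat.card_pos (α := Q)
            exact (Nat.mul_eq_right h4.ne').1 h2.symm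
          exact hV'0 (Subgroup.card_eq_one.1 h3)
        have hVN : normalizerIn S V = S := by
          have h1 := hfac.pre_normalizer hV'
          rw [hV'N, hfac.pre_top] at h1
          rw [hVeq]; exact h1.symm
        have hVle : V ≤ preimageAlong θ P' := by
          rw [hVeq]; exact hfac.pre_mono hVP'
        have hgV : img V g = V := by
          have h1 := hg.restrict hVle
          have h2 := hf'.restrict hVP'
          subst hVeq
          have h3 := hfac.img_lift h1 h2 (by
            intro x hx
            obtain ⟨-, h4⟩ := hgi x (hVle hx)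
            exact ⟨(mem_preimageAlong.1 hx).2, h4⟩)
          rw [h3, hfV']
        have hgF := (FMap_innSys.1 hg).1
        exact hV V hVS hQV hVN _ _
          (FMap_normSys_of_le (hQ := hVS) hgF hVle (by rw [hVN]; exact hgF.le) hgV)
      have hle₂ : quotSys (innSys F Q hQ hN) Q hsc θ hker ≤ quotSys E₁ Q hsc₁ θ hker := by
        refine ih _ hlt₂ θ.range hp₂ _ hF₂ _ ?_ rfl ?_ ?_
        · rw [le_iff_FMap]
          intro P' f' hf'
          obtain ⟨hP'le, g, hg, hgi⟩ := (hq₁ P' f').1 hf'
          rw [hq]
          exact ⟨hP'le, g, (hE₁m.1 hg).1, hgi⟩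
        · -- the centralizer
          intro P' f' hf' hz'
          obtain ⟨V', hV'⟩ : ∃ V', V' = Subgroup.closure {y | ∃ z ∈ θ.range,
            (∀ s ∈ θ.range, z * s = s * z) ∧ z ^ p = y} := ⟨_, rfl⟩
          have hgen : ∀ y ∈ {y | ∃ z ∈ θ.range, (∀ s ∈ θ.range, z * s = s * z) ∧ z ^ p = y},
              y ∈ P' ∧ f' y = y := by
            rintro _ ⟨z, hz, hzc, rfl⟩
            exact hz' z hz hzc
          have hV'P : V' ≤ P' := by
            rw [hV', Subgroup.closure_le]
            exact fun y hy => (hgen y hy).1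
          have hfix : ∀ y ∈ V', f' y = y := by
            intro y hy
            have : y ∈ P' ∧ f' y = y := by
              rw [hV'] at hy
              refine Subgroup.closure_induction (p := fun y _ => y ∈ P' ∧ f' y = y) hgen ?_ ?_ ?_ hy
              · exact ⟨P'.one_mem, hf'.map_one⟩
              · rintro a b _ _ ⟨ha, ha'⟩ ⟨hb, hb'⟩
                exact ⟨P'.mul_mem ha hb, by rw [hf'.map_mul ha hb, ha', hb']⟩
              · rintro a _ ⟨ha, ha'⟩
                exact ⟨P'.inv_mem ha, by rw [hf'.map_inv ha, ha']⟩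
            exact this.2
          have hV'f : Finite V' := finite_of_le (hV'P.trans hf'.le)
          refine hbig V' (hV'P.trans hf'.le) ?_ ?_ P' f' hV'P hf' ?_
          · intro h0
            apply hVQ
            intro z hz hzc
            rw [← hker _ (S.pow_mem hz p)]
            have h1 : tx θ (z ^ p) = (tx θ z) ^ p := by
              have e : tx θ z = θ ⟨z, hz⟩ := tx_of_mem hz
              have e2 : tx θ (z ^ p) = θ ⟨z ^ p, S.pow_mem hz p⟩ := tx_of_mem _
              rw [e, e2, ← map_pow]; rfl
            have h2 : (tx θ z) ^ p ∈ V' := by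
              rw [hV']
              refine Subgroup.subset_closure ⟨tx θ z, tx_mem_range hz, ?_, rfl⟩
              rintro _ ⟨s, rfl⟩
              have e : tx θ z = θ ⟨z, hz⟩ := tx_of_mem hz
              rw [e, ← map_mul, ← map_mul]
              congr 1
              exact Subtype.ext (hzc s s.2)
            rw [h0, Subgroup.mem_bot] at h2
            rw [h1, h2]
          · apply le_antisymm inf_le_left
            intro s hs
            refine ⟨hs, mem_normalizer_of_conj_mem fun y hy => ?_⟩
            have hcen : ∀ y ∈ V', s * y = y * s := by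
              intro y hy
              have hle : V' ≤ Subgroup.centralizer {s} := by
                rw [hV', Subgroup.closure_le]
                rintro _ ⟨z, hz, hzc, rfl⟩
                show z ^ p ∈ Subgroup.centralizer {s}
                rw [Subgroup.mem_centralizer_singleton_iff]
                exact ((show Commute z s from hzc s hs).pow_left p).eq
              have := hle hy
              rw [Subgroup.mem_centralizer_singleton_iff] at this
              exact this.symm
            rw [hcen y hy, mul_inv_cancel_right]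
            exact hy
          · apply (hf'.restrict hV'P).img_eq_of_mapsTo
            intro y hy
            rw [hfix y hy]; exact hy
        · -- the normalizer
          intro P' f' hf' hJP' hfJ'
          exact hbig _ (wS_le _ _) (wS_ne_bot hJ1 hp₂ hrng)
            (normalizerIn_wS WJ2 hp₂ (quotSys (innSys F Q hQ hN) Q hsc θ hker)) P' f' hJP' hf' hfJ'
      have := le_of_quot (E := E) hS hF₁ hQ₁ hQ₁p hfac (by
        intro P' f' hf'
        have h1 := le_iff_FMap.1 hle₂ P' f' hf'
        obtain ⟨-, g, hg, hgi⟩ := (hq₁ P' f').1 h1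
        exact ⟨g, (hE₁m.1 hg).1, (hE₁m.1 hg).2, hgi⟩)
      exact this
  refine alperin_gorenstein' hS hF E hEF ?_ ?_ ?_
  · intro f hf
    refine hJ S f hf hJS ?_
    have h1 := wS_img WJ2 hS hf
    have h2 : img S f = S := hf.img_eq_of_mapsTo fun x hx => hf.mapsTo hx
    rwa [h2] at h1
  · intro Q hQ hQ0 hQn hlt hA
    have hNf : Finite (normalizerIn S Q) := finite_of_le inf_le_left
    have hNp : IsPGroup p (normalizerIn S Q) := hS.to_le inf_le_left
    have hlt' := card_lt_of_lt hlt
    have hNS : normalizerIn S Q ≤ S := inf_le_left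
    have hE₁m : ∀ {P f}, FMap (infSys (normSys F Q hQ) E hNS) P f ↔
      FMap (normSys F Q hQ) P f ∧ FMap E P f := FMap_infSys
    have hle := ih _ (by rw [← hn]; exact hlt') (normalizerIn S Q) hNp (normSys F Q hQ)
      (normSys_saturated hS hF hQn) (infSys (normSys F Q hQ) E hNS) infSys_le rfl ?_ ?_
    · intro P f hf
      exact (hE₁m.1 (le_iff_FMap.1 hle P f hf)).2
    · intro P f hf h
      refine hE₁m.2 ⟨hf, hC P f (FMap_normSys.1 hf).1 fun z hz hzc => h z ?_ fun s hs => hzc s hs.1⟩
      exact centralizerIn_le_normalizerIn (mem_centralizerIn.2 ⟨hz, fun y hy => hzc y (hQ hy)⟩)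
    · intro P f hf h1 h2
      refine hE₁m.2 ⟨hf, ?_⟩
      have hWle : wS CfsgLib.JA.WJ (normalizerIn S Q) ≤ normalizerIn S Q := wS_le _ _
      have hN0 : normalizerIn S Q ≠ ⊥ := fun h => hQ0 (eq_bot_iff.2 (by
        have := le_normalizerIn hQ
        rwa [h] at this))
      have hchain : normalizerIn S (normalizerIn S Q) ≤
        normalizerIn S (wS CfsgLib.JA.WJ (normalizerIn S Q)) := normalizerIn_le_wS WJ2 hS F hNS
      refine hA _ (hWle.trans hNS) hWle (wS_ne_bot hJ1 hNp hN0) hchain P f ?_
      refine FMap_normSys_of_le (FMap_normSys.1 hf).1 h1 ?_ h2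
      exact hf.le.trans ((le_normalizerIn hNS).trans hchain)
  · intro Q hQ hQ0 hN P f hf
    exact hbase (Nat.card S) Q hQ (by omega) hQ0 hN P f hf

end CfsgLib.Fusion
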