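import Cfsg.Agent.Lib.FusionGen1
/-!
Models of normalizer systems in fusion systems of finite groups.
-/
set_option autoImplicit false
set_option maxHeartbeats 400000

universe u

namespace CfsgLib.Fusion

open Cfsg Cfsg.FusionSystem CfsgLib.SylowIn CfsgLib.StronglyEmb

variable {p : ℕ} [hp : Fact p.Prime]

/-- lifting conjugations from the quotient by a normal `p'`-subgroup. -/
theorem lift_conj {G : Type*} [Group G] [Finite G] {O : Subgroup G} [hOn : O.Normal]
    (hO : (Nat.card O).Coprime p) {S P : Subgroup G} (hS : IsPGroup p S) (hP : IsPGroup p P)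
    (γ : G ⧸ O) (h : ∀ x ∈ P, γ * QuotientGroup.mk x * γ⁻¹ ∈ S.map (QuotientGroup.mk' O)) :
    ∃ g : G, (QuotientGroup.mk g : G ⧸ O) = γ ∧ ∀ x ∈ P, g * x * g⁻¹ ∈ S := by
  obtain ⟨g₀, rfl⟩ := QuotientGroup.mk_surjective γ
  have hcop : ∀ T : Subgroup G, IsPGroup p T → ∀ x ∈ T, x ∈ O → x = 1 := by
    intro T hT x hx hxO
    obtain ⟨k, hk⟩ := hT ⟨x, hx⟩
    have h1 : orderOf x ∣ p ^ k := orderOf_dvd_of_pow_eq_one (congrArg Subtype.val hk)
    have h2 : orderOf x ∣ Nat.card O := by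
      have := orderOf_dvd_natCard (⟨x, hxO⟩ : O)
      rwa [Subgroup.orderOf_mk] at this
    have h3 : orderOf x ∣ 1 := by
      rw [← (Nat.Coprime.pow_right k hO)]
      exact Nat.dvd_gcd h2 h1
    exact orderOf_eq_one_iff.1 (Nat.dvd_one.1 h3)
  have hS1 : IsSylowIn p S (S ⊔ O) := by
    refine ⟨le_sup_left, hS, fun T hT hTp => ?_⟩
    have h1 : ∀ U : Subgroup G, IsPGroup p U → Nat.card (U.map (QuotientGroup.mk' O)) = Nat.card U := by
      intro U hU
      refine (Nat.card_congr (Equiv.ofBijective ((QuotientGroup.mk' O).subgroupMap U) ⟨?_,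
        (QuotientGroup.mk' O).subgroupMap_surjective U⟩)).symm
      rw [injective_iff_map_eq_one]
      rintro ⟨x, hx⟩ hx1
      have h2 : (QuotientGroup.mk' O) x = 1 := congrArg Subtype.val hx1
      exact Subtype.ext (hcop U hU x hx ((QuotientGroup.eq_one_iff x).1 h2))
    rw [← h1 T hTp, ← h1 S hS]
    apply Subgroup.card_le_of_le
    refine (Subgroup.map_mono hT).trans ?_
    rw [Subgroup.map_sup, QuotientGroup.map_mk'_self, sup_bot_eq]
  have hP1 : SylowIn.cj g₀ P ≤ S ⊔ O := by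
    rw [cj_le_iff]
    intro x hx
    obtain ⟨s, hs, hsx⟩ := h x hx
    have h1 : (QuotientGroup.mk s : G ⧸ O) = QuotientGroup.mk (g₀ * x * g₀⁻¹) := hsx
    rw [QuotientGroup.eq] at h1
    have h2 : g₀ * x * g₀⁻¹ = s * (s⁻¹ * (g₀ * x * g₀⁻¹)) := by group
    rw [h2]
    exact Subgroup.mul_mem_sup hs h1
  obtain ⟨m, hm, hmx⟩ := hS1.exists_conj hP1 (hP.map _)
  have hm' : m ∈ S ⊔ O := hm
  rw [← SetLike.mem_coe, Subgroup.coe_mul_of_left_le_normalizer_right _ _ (by
    rw [Subgroup.normalizer_eq_top]; exact le_top)] at hm'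
  obtain ⟨s, hs, o, ho, rfl⟩ := hm'
  refine ⟨o * g₀, ?_, fun x hx => ?_⟩
  · rw [QuotientGroup.mk_mul, (QuotientGroup.eq_one_iff o).2 ho, one_mul]
  · have h1 := hmx _ (conj_mem_cj (g := g₀) hx)
    have h2 := S.mul_mem (S.mul_mem (S.inv_mem hs) h1) hs
    have e : s⁻¹ * (s * o * (g₀ * x * g₀⁻¹) * (s * o)⁻¹) * s = o * g₀ * x * (o * g₀)⁻¹ := by group
    have h3 : s⁻¹ * ((fun x1 x2 => x1 * x2) s o * (g₀ * x * g₀⁻¹) * ((fun x1 x2 => x1 * x2) s o)⁻¹) * s =
      s⁻¹ * (s * o * (g₀ * x * g₀⁻¹) * (s * o)⁻¹) * s := rfl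
    rw [h3, e] at h2
    exact h2

/-- the `p'`-elements of the centralizer of a `p`-centric subgroup -/
theorem exists_pprime {G : Type*} [Group G] [Finite G] {Q : Subgroup G} (hQ : IsPGroup p Q)
    (hc : ∀ x ∈ Subgroup.centralizer (Q : Set G), (∃ k, x ^ p ^ k = 1) → x ∈ Q) :
    ∃ O : Subgroup G, (∀ x, x ∈ O ↔ x ∈ Subgroup.centralizer (Q : Set G) ∧ ¬ p ∣ orderOf x) ∧
      (∀ x ∈ Subgroup.centralizer (Q : Set G), ∃ z ∈ Q, ∃ o ∈ O, x = z * o) ∧
      (Nat.card O).Coprime p := by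
  classical
  set C := Subgroup.centralizer (Q : Set G) with hC
  have hZp : IsPGroup p (Q.subgroupOf C) := isPGroup_subgroupOf hQ
  -- it is a Sylow subgroup
  obtain ⟨T, hT⟩ := hZp.exists_le_sylow
  have hTQ : ∀ t ∈ T, ((t : C) : G) ∈ Q := by
    intro t ht
    obtain ⟨k, hk⟩ := T.isPGroup' ⟨t, ht⟩
    refine hc t t.2 ⟨k, ?_⟩
    have h1 : t ^ p ^ k = 1 := congrArg Subtype.val hk
    exact congrArg Subtype.val h1
  have hcen : ∀ t ∈ T, ∀ c : C, t * c = c * t := by
    intro t ht c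
    exact Subtype.ext (Subgroup.mem_centralizer_iff.1 c.2 _ (hTQ t ht))
  have hTn : Subgroup.normalizer ((T : Subgroup C) : Set C) ≤ Subgroup.centralizer ((T : Subgroup C) : Set C) := by
    intro c _
    rw [Subgroup.mem_centralizer_iff]
    intro t ht
    exact hcen t ht c
  have hcomp := MonoidHom.ker_transferSylow_isComplement' T hTn
  set K := (MonoidHom.transferSylow T hTn).ker with hK
  have hcop : (Nat.card K).Coprime p := by
    have h1 := hcomp.card_mul
    have h2 : Nat.card C = Nat.card T * (T : Subgroup C).index := ((T : Subgroup C).card_mul_index).symm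
    have h3 : Nat.card K = (T : Subgroup C).index := by
      rw [h2, mul_comm] at h1
      exact mul_left_cancel₀ (Nat.card_pos (α := T)).ne' h1
    rw [h3, Nat.coprime_comm]
    exact (Nat.Prime.coprime_iff_not_dvd hp.out).2 T.not_dvd_index
  have hmemK : ∀ x : C, ¬ p ∣ orderOf x → x ∈ K := by
    intro x hx
    rw [hK, MonoidHom.mem_ker]
    obtain ⟨k, hk⟩ := T.isPGroup' (MonoidHom.transferSylow T hTn x)
    have h1 : orderOf (MonoidHom.transferSylow T hTn x) ∣ p ^ k := orderOf_dvd_of_pow_eq_one hk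
    have h2 : orderOf (MonoidHom.transferSylow T hTn x) ∣ orderOf x := orderOf_map_dvd _ _
    have h3 : (orderOf x).Coprime (p ^ k) := Nat.Coprime.pow_right k
      ((Nat.Prime.coprime_iff_not_dvd hp.out).2 hx).symm
    have h4 : orderOf (MonoidHom.transferSylow T hTn x) ∣ 1 := by
      rw [← h3]; exact Nat.dvd_gcd h2 h1
    exact orderOf_eq_one_iff.1 (Nat.dvd_one.1 h4)
  have hO : ∀ x, x ∈ K.map C.subtype ↔ x ∈ C ∧ ¬ p ∣ orderOf x := by
    intro x
    constructor
    · rintro ⟨y, hy, rfl⟩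
      refine ⟨y.2, fun hd => ?_⟩
      have h1 : orderOf y ∣ Nat.card K := by
        have := orderOf_dvd_natCard (⟨y, hy⟩ : K)
        rwa [Subgroup.orderOf_mk] at this
      have h2 : orderOf (C.subtype y) = orderOf y := orderOf_injective C.subtype C.subtype_injective y
      rw [h2] at hd
      exact (Nat.Prime.coprime_iff_not_dvd hp.out).1 hcop.symm (hd.trans h1)
    · rintro ⟨hx, hd⟩
      refine ⟨⟨x, hx⟩, hmemK ⟨x, hx⟩ ?_, rfl⟩
      rwa [Subgroup.orderOf_mk]
  refine ⟨K.map C.subtype, hO, ?_, ?_⟩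
  · intro x hx
    obtain ⟨i, j, hij, ⟨k, hk⟩, hj⟩ := CfsgLib.Core.exists_ppart x p
    refine ⟨x ^ i, hc _ (C.pow_mem hx i) ⟨k, by rw [← hk, pow_orderOf_eq_one]⟩, x ^ j,
      (hO _).2 ⟨C.pow_mem hx j, hj⟩, hij⟩
  · rw [Subgroup.card_map_of_injective C.subtype_injective]
    exact hcop

/-- The model of the normalizer system of a centric subgroup in a finite group. -/
theorem group_qmodel {G : Type u} [Group G] [Finite G] (S : Sylow p G) {Q : Subgroup G}
    (hQS : Q ≤ S)
    (hN : IsSylowIn p ((S : Subgroup G) ⊓ Subgroup.normalizer (Q : Set G)) (Subgroup.normalizer (Q : Set G)))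
    (hc : ∀ x ∈ Subgroup.centralizer (Q : Set G), (∃ k, x ^ p ^ k = 1) → x ∈ Q) :
    ∃ (L : Type u) (_ : Group L) (π : Subgroup.normalizer (Q : Set G) →* L)
      (κ : normalizerIn (S : Subgroup G) Q →* L), Function.Surjective π ∧
      (∀ x, π x = 1 → (x : G) ∈ Subgroup.centralizer (Q : Set G) ∧ ¬ p ∣ orderOf (x : G)) ∧
      (∀ x, κ x = π ⟨x, x.2.2⟩) ∧
      QModel (normSys (groupFusionSystem (S : Subgroup G)) Q hQS) p Q L κ := by
  have hQp : IsPGroup p Q := S.isPGroup'.to_le hQS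
  obtain ⟨O, hO, hOC, hOcop⟩ := exists_pprime hQp hc
  set N := Subgroup.normalizer (Q : Set G) with hNdef
  have hOC' : O ≤ Subgroup.centralizer (Q : Set G) := fun x hx => ((hO x).1 hx).1
  have hON : O ≤ N := hOC'.trans (Subgroup.centralizer_le_normalizer _)
  have hOn : (O.subgroupOf N).Normal := by
    refine ⟨fun x hx g => ?_⟩
    show (g : G) * x * (g : G)⁻¹ ∈ O
    have hx' : (x : G) ∈ O := hx
    rw [hO] at hx' ⊢
    refine ⟨?_, ?_⟩
    · rw [Subgroup.mem_centralizer_iff]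
      intro y hy
      have h1 : (g : G)⁻¹ * y * g ∈ Q := by
        have := (Subgroup.mem_normalizer_iff.1 (N.inv_mem g.2) y).1 hy
        rwa [inv_inv] at this
      have h2 := Subgroup.mem_centralizer_iff.1 hx'.1 _ h1
      calc y * (g * x * (g : G)⁻¹) = g * (((g : G)⁻¹ * y * g) * x) * (g : G)⁻¹ := by group
        _ = g * (x * ((g : G)⁻¹ * y * g)) * (g : G)⁻¹ := by rw [h2]
        _ = g * x * (g : G)⁻¹ * y := by group
    · have e : orderOf ((g : G) * x * (g : G)⁻¹) = orderOf (x : G) :=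
        orderOf_injective (MulAut.conj (g : G)).toMonoidHom (MulAut.conj (g : G)).injective (x : G)
      rw [e]; exact hx'.2
  have hOcard : (Nat.card (O.subgroupOf N)).Coprime p := by
    have : Nat.card (O.subgroupOf N) = Nat.card O :=
      Nat.card_congr (Subgroup.subgroupOfEquivOfLe hON).toEquiv
    rw [this]; exact hOcop
  let π : N →* N ⧸ (O.subgroupOf N) := QuotientGroup.mk' _
  let κ : normalizerIn (S : Subgroup G) Q →* N ⧸ (O.subgroupOf N) :=
    π.comp (Subgroup.inclusion inf_le_right)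
  have hπ : Function.Surjective π := QuotientGroup.mk'_surjective _
  have hπ1 : ∀ x : N, π x = 1 ↔ (x : G) ∈ O := fun x => QuotientGroup.eq_one_iff x
  have hκ : ∀ x, κ x = π ⟨x, x.2.2⟩ := fun x => rfl
  have hpO : ∀ x ∈ (S : Subgroup G), x ∈ O → x = 1 := by
    intro x hx hxO
    obtain ⟨k, hk⟩ := S.isPGroup' ⟨x, hx⟩
    have h1 : orderOf x ∣ p ^ k := orderOf_dvd_of_pow_eq_one (congrArg Subtype.val hk)
    have h2 : ¬ p ∣ orderOf x := ((hO x).1 hxO).2
    have h3 : orderOf x ∣ 1 := by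
      rw [← (Nat.Coprime.pow_right k ((Nat.Prime.coprime_iff_not_dvd hp.out).2 h2).symm)]
      exact Nat.dvd_gcd dvd_rfl h1
    exact orderOf_eq_one_iff.1 (Nat.dvd_one.1 h3)
  have hκi : Function.Injective κ := by
    rw [injective_iff_map_eq_one]
    intro x hx
    rw [hκ, hπ1] at hx
    exact Subtype.ext (hpO x x.2.1 hx)
  refine ⟨N ⧸ (O.subgroupOf N), inferInstance, π, κ, hπ, ?_, hκ, ?_⟩
  · intro x hx
    exact (hO _).1 ((hπ1 x).1 hx)
  have hQN : Q ≤ N := Subgroup.le_normalizer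
  have hQNS : Q ≤ normalizerIn (S : Subgroup G) Q := le_inf hQS hQN
  refine ⟨inferInstance, ?_, ?_, hQNS, ?_, ?_⟩
  · -- realization
    rw [isRealizedBy_iff]
    refine ⟨hκi, fun R hR f hf => ?_⟩
    constructor
    · intro h
      obtain ⟨h1, h2, h3, g, hg, hgR, hgQ⟩ := FMap_normSys.1 h
      obtain ⟨-, -, n, hn⟩ := FMap_group_iff.1 hg
      have hnN : n ∈ N := by
        apply mem_normalizer_of_conj_mem
        intro x hx
        rw [← hn x (le_sup_right (a := R) hx), ← hgQ]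
        exact apply_mem_img hx
      refine ⟨π ⟨n, hnN⟩, fun x hx => ?_⟩
      rw [hκ, hκ, ← map_mul, ← map_inv, ← map_mul]
      congr 1
      apply Subtype.ext
      show f x = n * x * n⁻¹
      rw [← hgR x hx, hn x (le_sup_left (b := Q) hx)]
    · rintro ⟨γ, hγ⟩
      obtain ⟨n₀, hn₀⟩ := hπ γ
      have hRQ : R ⊔ Q ≤ normalizerIn (S : Subgroup G) Q := sup_le hR hQNS
      have hRQN : R ⊔ Q ≤ N := hRQ.trans inf_le_right
      have hlift : ∀ x ∈ (R ⊔ Q).subgroupOf N, γ * QuotientGroup.mk x * γ⁻¹ ∈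
          (((normalizerIn (S : Subgroup G) Q).subgroupOf N).map (QuotientGroup.mk' (O.subgroupOf N))) := by
        have hle : R ⊔ Q ≤ (((((normalizerIn (S : Subgroup G) Q).subgroupOf N).map
            (QuotientGroup.mk' (O.subgroupOf N))).comap
            ((MulAut.conj γ).toMonoidHom.comp (QuotientGroup.mk' (O.subgroupOf N)))).map N.subtype) := by
          apply sup_le
          · intro x hx
            refine ⟨⟨x, (hR hx).2⟩, ?_, rfl⟩
            show γ * π ⟨x, (hR hx).2⟩ * γ⁻¹ ∈ ((normalizerIn (S : Subgroup G) Q).subgroupOf N).map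
              (QuotientGroup.mk' (O.subgroupOf N))
            have h1 := hγ x hx
            rw [hκ, hκ] at h1
            rw [← h1]
            exact ⟨⟨f x, (hf x hx).2⟩, hf x hx, rfl⟩
          · intro x hx
            refine ⟨⟨x, hQN hx⟩, ?_, rfl⟩
            show γ * π ⟨x, hQN hx⟩ * γ⁻¹ ∈ ((normalizerIn (S : Subgroup G) Q).subgroupOf N).map
              (QuotientGroup.mk' (O.subgroupOf N))
            rw [← hn₀, ← map_mul, ← map_inv, ← map_mul]
            exact ⟨_, hQNS ((Subgroup.mem_normalizer_iff.1 n₀.2 x).1 hx), rfl⟩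
        intro x hx
        obtain ⟨y, hy, hyx⟩ := hle hx
        have : y = x := Subtype.ext hyx
        rw [← this]
        exact hy
      obtain ⟨n, hnγ, hn⟩ := lift_conj hOcard
        (isPGroup_subgroupOf (S.isPGroup'.to_le inf_le_left)) (isPGroup_subgroupOf
          (S.isPGroup'.to_le (hRQ.trans inf_le_left))) γ hlift
      have hfn : ∀ x ∈ R, f x = n * x * (n : G)⁻¹ := by
        intro x hx
        have hxN : x ∈ N := (hR hx).2
        have h1 : (n : G) * x * (n : G)⁻¹ ∈ normalizerIn (S : Subgroup G) Q :=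
          hn ⟨x, hxN⟩ (le_sup_left (b := Q) hx)
        have h2 : κ ⟨f x, hf x hx⟩ = κ ⟨_, h1⟩ := by
          rw [hγ x hx, hκ, hκ, ← hnγ]
          show π n * π ⟨x, _⟩ * (π n)⁻¹ = _
          rw [← map_mul, ← map_inv, ← map_mul]
          rfl
        exact congrArg Subtype.val (hκi h2)
      rw [FMap_normSys]
      refine ⟨FMap_group_iff.2 ⟨hR.trans inf_le_left, fun x hx => (hf x hx).1, n, hfn⟩, hR, hf,
        fun x => n * x * (n : G)⁻¹, FMap_group_iff.2 ⟨hRQ.trans inf_le_left, fun x hx => ?_, n,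
          fun _ _ => rfl⟩, fun x hx => (hfn x hx).symm, ?_⟩
      · exact (hn ⟨x, hRQN hx⟩ hx).1
      · apply le_antisymm
        · rw [img_le_iff]
          intro x hx
          exact (Subgroup.mem_normalizer_iff.1 n.2 x).1 hx
        · intro x hx
          have h1 : (n : G)⁻¹ * x * n ∈ Q := by
            have := (Subgroup.mem_normalizer_iff.1 (N.inv_mem n.2) x).1 hx
            rwa [inv_inv] at this
          have h2 := apply_mem_img (f := fun x => (n : G) * x * (n : G)⁻¹) h1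
          have e : (n : G) * ((n : G)⁻¹ * x * n) * (n : G)⁻¹ = x := by group
          simp only [e] at h2
          exact h2
  · -- the index
    have hrange : κ.range = ((normalizerIn (S : Subgroup G) Q).subgroupOf N).map π := by
      ext y
      constructor
      · rintro ⟨x, rfl⟩
        exact ⟨⟨x, x.2.2⟩, x.2, rfl⟩
      · rintro ⟨x, hx, rfl⟩
        exact ⟨⟨x, hx⟩, rfl⟩
    rw [hrange]
    obtain ⟨T, hT⟩ := hN.exists_sylow
    intro hd
    have h1 := Subgroup.index_map_dvd ((normalizerIn (S : Subgroup G) Q).subgroupOf N) hπ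
    have h2 := T.not_dvd_index
    rw [hT] at h2
    exact h2 (hd.trans h1)
  · -- normality
    refine ⟨?_⟩
    rintro _ ⟨u, hu, rfl⟩ γ
    obtain ⟨n, rfl⟩ := hπ γ
    have h1 : (n : G) * u * (n : G)⁻¹ ∈ Q := (Subgroup.mem_normalizer_iff.1 n.2 _).1 hu
    refine ⟨⟨_, hQNS h1⟩, h1, ?_⟩
    rw [hκ, hκ, ← map_mul, ← map_inv, ← map_mul]
    rfl
  · -- centralizer
    intro γ hγ
    obtain ⟨n, rfl⟩ := hπ γ
    have hnC : (n : G) ∈ Subgroup.centralizer (Q : Set G) := by
      rw [Subgroup.mem_centralizer_iff]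
      intro u hu
      have h1 := hγ u hu
      rw [hκ, ← map_mul, ← map_mul] at h1
      have h2 : π ((n * ⟨u, hQN hu⟩) * (⟨u, hQN hu⟩ * n)⁻¹) = 1 := by
        rw [map_mul, map_inv]
        have h1' : π (n * ⟨u, hQN hu⟩) = π (⟨u, hQN hu⟩ * n) := h1
        rw [h1', mul_inv_cancel]
      rw [hπ1] at h2
      have h3 : (((n * ⟨u, hQN hu⟩) * (⟨u, hQN hu⟩ * n)⁻¹ : N) : G) = ((n : G) * u * (n : G)⁻¹) * u⁻¹ := by
        show (n : G) * u * (u * n)⁻¹ = _
        group
      rw [h3] at h2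
      have h4 : ((n : G) * u * (n : G)⁻¹) * u⁻¹ ∈ Q :=
        Q.mul_mem ((Subgroup.mem_normalizer_iff.1 n.2 u).1 hu) (Q.inv_mem hu)
      have h5 := hpO _ (hQS h4) h2
      rw [mul_inv_eq_one] at h5
      calc u * n = ((n : G) * u * (n : G)⁻¹) * n := by rw [h5]
        _ = n * u := by group
    obtain ⟨z, hz, o, ho, hzo⟩ := hOC _ hnC
    refine ⟨z, hz, ?_⟩
    rw [hκ]
    have e : n = ⟨z, hQN hz⟩ * ⟨o, hON ho⟩ := Subtype.ext hzo
    rw [e, map_mul]
    have h1 : π ⟨o, hON ho⟩ = 1 := (hπ1 _).2 ho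
    rw [h1, mul_one]

end CfsgLib.Fusion
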