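import Cfsg.Agent.Lib.FusionHyp2
import Cfsg.Agent.Lib.FusionInn
/-!
Hyperfocal subgroups: action on strongly closed subgroups, Grün's lemma.
-/
set_option autoImplicit false
set_option maxHeartbeats 400000

namespace CfsgLib.Fusion

open Cfsg Cfsg.FusionSystem CfsgLib.SylowIn
open scoped commutatorElement

variable {Ω : Type*} [Group Ω] {S : Subgroup Ω}

/-- coprime action on a chain of length two. -/
theorem fix_of_stable {F : FusionSystem S} {p : ℕ} [Fact p.Prime] (hS : IsPGroup p S)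
    {P : Subgroup Ω} {f : Ω → Ω} (hf : FMap F P f) {y : Ω} (hy : y ∈ P)
    (hz : y⁻¹ * f y ∈ P) (hfz : f (y⁻¹ * f y) = y⁻¹ * f y) {n : ℕ} (hn : n.Coprime p)
    (hfn : f^[n] y = y) : f y = y := by
  set z := y⁻¹ * f y with hzdef
  have hfy : f y = y * z := by rw [hzdef]; group
  have hpow : ∀ k : ℕ, f^[k] y = y * z ^ k := by
    intro k
    induction k with
    | zero => simp
    | succ k ih =>
      rw [Function.iterate_succ_apply', ih, hf.map_mul hy (P.pow_mem hz k), hf.map_pow hz, hfz, hfy,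
        pow_succ', mul_assoc]
  have h1 := hpow n
  rw [hfn] at h1
  have hzn : z ^ n = 1 := by
    have : y * 1 = y * z ^ n := by rw [mul_one]; exact h1
    exact (mul_left_cancel this).symm
  obtain ⟨j, hj⟩ := hS ⟨z, hf.le hz⟩
  have hj' : z ^ p ^ j = 1 := congrArg Subtype.val hj
  have hcop : Nat.Coprime (p ^ j) n := Nat.Coprime.pow_left j hn.symm
  have hz1 : z = 1 := by
    have h1 : orderOf z ∣ 1 := by
      rw [← hcop]
      exact Nat.dvd_gcd (orderOf_dvd_of_pow_eq_one hj') (orderOf_dvd_of_pow_eq_one hzn)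
    exact orderOf_eq_one_iff.1 (Nat.dvd_one.1 h1)
  rw [hfy, hz1, mul_one]

/-- replacing an automorphism by a power of order prime to `p`. -/
theorem exists_prime_to_p {F : FusionSystem S} {p : ℕ} [Fact p.Prime] {R : Subgroup Ω} [Finite R]
    {g : Ω → Ω} (hg : FMap F R g) (hgR : ∀ x ∈ R, g x ∈ R) (n : ℕ) (hn : n.Coprime p) :
    ∃ k t m : ℕ, m.Coprime p ∧ k = 1 + n * t ∧ ∀ x ∈ R, (g^[k])^[m] x = x := by
  obtain ⟨α, hα, hαf⟩ := hg.exists_aut_of_mapsTo hgR
  have hpow : ∀ (k : ℕ) (x : R), ((α ^ k) x : Ω) = g^[k] x := by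
    intro k
    induction k with
    | zero => intro x; simp
    | succ k ih => intro x; rw [pow_succ, MulAut.mul_apply, ih, hαf, Function.iterate_succ_apply]
  have hN : orderOf α ≠ 0 := (isOfFinOrder_of_finite α).orderOf_pos.ne'
  obtain ⟨a, m, hm, hNm⟩ := Nat.exists_eq_pow_mul_and_not_dvd hN p (Fact.out : p.Prime).ne_one
  obtain ⟨k, t, hk, hkt⟩ := exists_crt a n hn
  refine ⟨k, t, m, ((Nat.Prime.coprime_iff_not_dvd Fact.out).2 hm).symm, hkt, fun x hx => ?_⟩
  rw [← Function.iterate_mul]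
  have h3 : α ^ (k * m) = 1 := by
    rw [← orderOf_dvd_iff_pow_eq_one, hNm]
    exact Nat.mul_dvd_mul_right hk m
  rw [← hpow (k * m) ⟨x, hx⟩, h3]; rfl

theorem iterate_eq_of_fix {f g : Ω → Ω} {P : Ω → Prop} (hf : ∀ x, P x → P (f x))
    (h : ∀ x, P x → g x = f x) (k : ℕ) : ∀ x, P x → g^[k] x = f^[k] x := by
  induction k with
  | zero => intro x _; rfl
  | succ k ih =>
    intro x hx
    rw [Function.iterate_succ_apply, Function.iterate_succ_apply, h x hx, ih _ (hf x hx)]

/-- the maps on `S` or essential subgroups: enough for being central -/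
theorem isCentral_of_ess {F : FusionSystem S} [Finite S] {p : ℕ} [Fact p.Prime]
    (hS : IsPGroup p S) (hF : F.IsSaturated p)
    {Z : Subgroup Ω} (hZS : Z ≤ S) (hZc : ∀ z ∈ Z, ∀ s ∈ S, z * s = s * z)
    (h : ∀ Q : Subgroup Ω, F.IsCentric Q → F.IsFullyNormalized Q → ∀ f, FMap F Q f →
      (∀ x ∈ Q, f x ∈ Q) → ∀ n : ℕ, n.Coprime p → (∀ x ∈ Q, f^[n] x = x) → ∀ z ∈ Z, f z = z) :
    F.IsCentral Z := by
  have hpre : pre S Z ⊥ = S := by
    rw [pre_bot]
    apply le_antisymm inf_le_left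
    intro x hx
    exact mem_centralizerIn.2 ⟨hx, fun y hy => (hZc y hy x hx).symm⟩
  let E : FusionSystem S := castFS hpre (NK F Z hZS ⊥)
  have hE : ∀ P f, FMap E P f ↔ FMap F P f ∧ ∃ g, FMap F (P ⊔ Z) g ∧ (∀ x ∈ P, g x = f x) ∧
      ∀ x ∈ Z, g x = x := by
    intro P f
    rw [FMap_castFS, FMap_NK, NKMap_bot_iff]
    have hC : centralizerIn S Z = S := by rw [← pre_bot, hpre]
    constructor
    · rintro ⟨h1, -, -, h2⟩; exact ⟨h1, h2⟩
    · rintro ⟨h1, h2⟩
      refine ⟨h1, by rw [hC]; exact h1.le, by rw [hC]; exact fun x hx => h1.mapsTo hx, h2⟩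
  have hle : F ≤ E := by
    apply alperin hS hF E
    intro Q hQ
    have hPc : F.IsCentric Q := by
      rcases hQ with rfl | hP
      · exact isCentric_self F
      · exact hP.1
    have hQS := hPc.1
    have hQn : F.IsFullyNormalized Q := by
      rcases hQ with rfl | hQ
      · refine ⟨le_rfl, fun R hR => ?_⟩
        have : normalizerIn Q Q = Q := le_antisymm inf_le_left (le_normalizerIn le_rfl)
        rw [this]
        exact card_le_of_le inf_le_left
      · exact hQ.2.1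
    have hQf : Finite Q := finite_of_le hQS
    have := finite_autGroup F Q
    have hZP : Z ≤ Q := fun z hz => IsCentric.mem_of_comm hPc (hZS hz) (hZc z hz)
    obtain ⟨-, R, hR⟩ := (Saturated.of_fullyNormalized hS hF hQn).1
    have htop := CfsgLib.Transfer.sup_pResidual R
    -- the subgroup of automorphisms fixing `Z`
    let K : Subgroup (F.autGroup Q) :=
      { carrier := {α | ∀ z (hz : z ∈ Z), (((α : MulAut Q) ⟨z, hZP hz⟩ : Q) : Ω) = z}
        mul_mem' := by
          intro a b ha hb z hz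
          have h1 : (b : MulAut Q) ⟨z, hZP hz⟩ = ⟨z, hZP hz⟩ := Subtype.ext (hb z hz)
          show (((a : MulAut Q) ((b : MulAut Q) ⟨z, hZP hz⟩) : Q) : Ω) = z
          rw [h1]; exact ha z hz
        one_mem' := fun z hz => rfl
        inv_mem' := by
          intro a ha z hz
          have h1 : (a : MulAut Q) ⟨z, hZP hz⟩ = ⟨z, hZP hz⟩ := Subtype.ext (ha z hz)
          show (((a : MulAut Q)⁻¹ ⟨z, hZP hz⟩ : Q) : Ω) = z
          conv_lhs => rw [← h1]
          rw [← MulAut.mul_apply, inv_mul_cancel]; rfl }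
    have hK : K = ⊤ := by
      rw [eq_top_iff, ← htop]
      apply sup_le
      · intro r hr z hz
        rw [hR] at hr
        obtain ⟨s, hs, hsr⟩ := mem_autInducedBy_iff.1 hr
        have h1 := hsr ⟨z, hZP hz⟩
        have h2 : s * z * s⁻¹ = z := by rw [← hZc z hz s hs, mul_inv_cancel_right]
        exact h1.trans h2
      · unfold pResidual
        rw [Subgroup.closure_le]
        intro α hα z hz
        have hα' : Nat.Coprime (orderOf α) p := hα
        have hf := (mem_autGroup_iff' hQS _).1 α.2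
        have := h Q hPc hQn _ hf (fun x hx => aext_mem _ hx) (orderOf α) hα' (fun x hx => by
          rw [← aext_pow _ _ hx]
          have h1 : (α : MulAut Q) ^ orderOf α = 1 := by
            rw [← SubmonoidClass.coe_pow, pow_orderOf_eq_one]; rfl
          rw [h1, aext_of_mem _ hx]; rfl) z hz
        rwa [aext_of_mem _ (hZP hz)] at this
    intro α hα
    have hf := (mem_autGroup_iff' hQS α).1 hα
    rw [mem_autGroup_iff' hQS, hE]
    refine ⟨hf, aext α, ?_, fun _ _ => rfl, fun z hz => ?_⟩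
    · rw [sup_eq_left.2 hZP]
      exact hf
    · have : (⟨α, hα⟩ : F.autGroup Q) ∈ K := by rw [hK]; trivial
      rw [aext_of_mem _ (hZP hz)]
      exact this z hz
  rw [isCentral_iff]
  refine ⟨hZS, fun P f hf => ?_⟩
  exact ((hE P f).1 ((le_iff_FMap.1 hle) P f hf)).2

theorem center_comm' {F : FusionSystem S} {Z : Subgroup Ω}
    (hZ : F.IsCentral Z) {z : Ω} (hz : z ∈ Z) {s : Ω} (hs : s ∈ S) : z * s = s * z := by
  have hc : FMap F S (fun y => s * y * s⁻¹) := FMap.conj le_rfl hs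
  have : s * z * s⁻¹ = z := IsCentral.fix hZ hc hz (hZ.1 hz)
  rw [mul_inv_eq_iff_eq_mul] at this
  exact this.symm

/-- Grün's lemma: `Y/Z` central in the factor system by a central subgroup. -/
theorem grun {F : FusionSystem S} [Finite S] {p : ℕ} [Fact p.Prime]
    (hS : IsPGroup p S) (hF : F.IsSaturated p) (hperf : F.hyperfocalSubgroup p = S)
    {Z : Subgroup Ω} (hZ : F.IsCentral Z)
    {Ω' : Type*} [Group Ω'] {S' : Subgroup Ω'} {θ : S →* Ω'} {E : FusionSystem S'}
    (hfac : Fac F Z θ E) {Y' : Subgroup Ω'} (hY' : E.IsCentral Y') :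
    F.IsCentral (preimageAlong θ Y') := by
  have hZn := IsCentral.isNormal hZ
  have hZp : IsPGroup p (F.autGroup Z) := by
    have : F.autGroup Z = ⊥ := by
      rw [eq_bot_iff]
      intro α hα
      rw [Subgroup.mem_bot]
      ext x
      have hf := (mem_autGroup_iff' hZ.1 α).1 hα
      have := IsCentral.fix hZ hf x.2 x.2
      rwa [aext_apply] at this
    rw [this]
    exact IsPGroup.of_bot
  have hYn := isNormal_pre hS hF hZn hZp hfac (IsCentral.isNormal hY')
  have hZY := hfac.le_pre Y'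
  set Y := preimageAlong θ Y' with hY
  have hYS : Y ≤ S := hYn.1
  -- maps act trivially modulo `Z`
  have hmod : ∀ P f, FMap F P f → ∀ y ∈ P, y ∈ Y → y⁻¹ * f y ∈ Z := by
    intro P f hf y hyP hyY
    obtain ⟨f', hf', hi⟩ := hfac.push hf
    have h1 := hi y hyP
    have h2 := IsCentral.fix hY' hf' (mem_preimageAlong.1 hyY).2 h1.1
    rw [h2] at h1
    exact (tx_eq_iff hfac.ker (hf.le hyP) (hf.mapsTo hyP)).1 h1.2
  -- `p'`-automorphisms act trivially
  have htriv : ∀ P f, FMap F P f → Y ≤ P → (∀ x ∈ P, f x ∈ P) → ∀ n : ℕ, n.Coprime p →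
      (∀ x ∈ P, f^[n] x = x) → ∀ y ∈ Y, f y = y := by
    intro P f hf hYP hfP n hn hfn y hy
    have h1 := hmod P f hf y (hYP hy) hy
    exact fix_of_stable hS hf (hYP hy) (hYP (hZY h1)) (IsCentral.fix hZ hf h1 (hYP (hZY h1))) hn
      (hfn y (hYP hy))
  -- `Y ≤ Z(S)`
  have hcomm : ∀ y ∈ Y, ∀ s ∈ S, ⁅y, s⁆ ∈ Z := by
    intro y hy s hs
    have hc : FMap F S (fun x => s * x * s⁻¹) := FMap.conj le_rfl hs
    have h1 := hmod S _ hc y⁻¹ (inv_mem (hYS hy)) (inv_mem hy)
    have h2 : y⁻¹⁻¹ * (s * y⁻¹ * s⁻¹) = ⁅y, s⁆ := by rw [commutatorElement_def]; group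
    rwa [h2] at h1
  have hZcen : ∀ z ∈ Z, ∀ s ∈ S, z * s = s * z := fun z hz s hs => center_comm' hZ hz hs
  have hYc : ∀ y ∈ Y, ∀ s ∈ S, y * s = s * y := by
    intro y hy
    -- the kernel of `s ↦ [y,s]`
    have hle : F.hyperfocalSubgroup p ≤ centralizerIn S (Subgroup.zpowers y) := by
      rw [hyp_le_iff]
      intro P f hf hfP n hn hfn x hx
      have hPS := hf.le
      obtain ⟨g, hg, hgP, hgY⟩ := (isNormal_iff.1 hYn).2 P f hf
      have hRf : Finite ↥(P ⊔ Y) := finite_of_le hg.le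
      have hfPimg : img P f ≤ P := img_le_iff.2 hfP
      have hgR : ∀ x ∈ P ⊔ Y, g x ∈ P ⊔ Y := by
        intro x hx
        have h1 : img (P ⊔ Y) g ≤ P ⊔ Y := by
          rw [hg.img_sup, hgY, img_congr hgP]
          exact sup_le_sup_right hfPimg _
        exact h1 (apply_mem_img hx)
      obtain ⟨k, t, m, hm, hkt, hkm⟩ := exists_prime_to_p hg hgR n hn
      have hgk := hg.iterate hgR k
      have hfix := htriv _ _ hgk.1 le_sup_right hgk.2 m hm hkm y hy
      have hx' := le_sup_left (b := Y) hx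
      have hyR := le_sup_right (a := P) hy
      have h1 : g^[k] x = f x := by
        rw [iterate_eq_of_fix (P := fun x => x ∈ P) hfP hgP k x hx, hkt,
          Function.iterate_add_apply, iterate_fix (hfn x hx)]; rfl
      have h2 : g^[k] ⁅y, x⁆ = ⁅y, x⁆ := IsCentral.fix hZ hgk.1 (hcomm y hy x (hPS hx))
        (le_sup_right (a := P) (hZY (hcomm y hy x (hPS hx))))
      have h3 : g^[k] ⁅y, x⁆ = ⁅y, f x⁆ := by
        rw [commutatorElement_def, commutatorElement_def,
          hgk.1.map_mul (mul_mem (mul_mem hyR hx') (inv_mem hyR)) (inv_mem hx'),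
          hgk.1.map_mul (mul_mem hyR hx') (inv_mem hyR), hgk.1.map_mul hyR hx',
          hgk.1.map_inv hyR, hgk.1.map_inv hx', hfix, h1]
      have h4 : ⁅y, f x⁆ = ⁅y, x⁆ := h3.symm.trans h2
      have hcz := hZcen _ (hcomm y hy x (hPS hx))
      -- conclude
      rw [mem_centralizerIn]
      refine ⟨mul_mem (inv_mem (hPS hx)) (hf.mapsTo hx), ?_⟩
      have h5 : Commute (x⁻¹ * f x) y := by
        have e1 : y * x = ⁅y, x⁆ * (x * y) := by rw [commutatorElement_def]; group
        have e2 : y * f x = ⁅y, x⁆ * (f x * y) := by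
          rw [← h4, commutatorElement_def]; group
        have e3 : x⁻¹ * y = y * x⁻¹ * ⁅y, x⁆ := by
          have h7 := hcz x⁻¹ (inv_mem (hPS hx))
          have h8 := hcz (y * x⁻¹) (mul_mem (hYS hy) (inv_mem (hPS hx)))
          calc x⁻¹ * y = x⁻¹ * (y * x) * x⁻¹ := by group
            _ = (x⁻¹ * ⁅y, x⁆) * (x * y) * x⁻¹ := by rw [e1]; group
            _ = (⁅y, x⁆ * x⁻¹) * (x * y) * x⁻¹ := by rw [h7]
            _ = ⁅y, x⁆ * (y * x⁻¹) := by group
            _ = _ := h8
        show x⁻¹ * f x * y = y * (x⁻¹ * f x)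
        have e4 : f x * y = ⁅y, x⁆⁻¹ * (y * f x) := by rw [e2]; group
        calc x⁻¹ * f x * y = x⁻¹ * (f x * y) := by group
          _ = x⁻¹ * ⁅y, x⁆⁻¹ * y * f x := by rw [e4]; group
          _ = ⁅y, x⁆⁻¹ * (x⁻¹ * y) * f x := by
            have : x⁻¹ * ⁅y, x⁆⁻¹ = ⁅y, x⁆⁻¹ * x⁻¹ := by
              have := hcz x (hPS hx)
              rw [← mul_inv_rev, ← mul_inv_rev, this]
            rw [this]; group
          _ = ⁅y, x⁆⁻¹ * (y * x⁻¹ * ⁅y, x⁆) * f x := by rw [e3]
          _ = y * (x⁻¹ * f x) := by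
            have h6 : ⁅y, x⁆⁻¹ * (y * x⁻¹ * ⁅y, x⁆) = y * x⁻¹ := by
              have := hcz (y * x⁻¹) (mul_mem (hYS hy) (inv_mem (hPS hx)))
              rw [← this]; group
            rw [h6]; group
      intro z hz
      obtain ⟨k, rfl⟩ := Subgroup.mem_zpowers_iff.1 hz
      exact h5.zpow_right k
    intro s hs
    rw [← hperf] at hs
    exact ((mem_centralizerIn.1 (hle hs)).2 y (Subgroup.mem_zpowers y)).symm
  refine isCentral_of_ess hS hF hYS hYc fun Q hQ hQn f hf hfQ n hn hfn z hz => ?_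
  exact htriv Q f hf (fun y hy => IsCentric.mem_of_comm hQ (hYS hy) (hYc y hy)) hfQ n hn hfn z hz

theorem mem_autInduced_of_eq {P : Subgroup Ω} {α : MulAut P} {g : Ω}
    (hg : g ∈ Subgroup.normalizer (P : Set Ω)) (h : ∀ x : P, ((α x : P) : Ω) = g * x * g⁻¹) :
    conjAut P g hg = α := by
  ext x
  rw [conjAut_apply, h]

/-- (S5198) -/
theorem hyp_acts {F : FusionSystem S} [Finite S] {p : ℕ} [Fact p.Prime]
    (hS : IsPGroup p S) (hF : F.IsSaturated p) {T : Subgroup Ω} (hT : F.StronglyClosed T) :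
    F.hyperfocalSubgroup p ≤
      pre S T ((pResidual p (F.autGroup T)).map (F.autGroup T).subtype ⊔ Inn T) := by
  have hTS := hT.1
  have hTf : Finite T := finite_of_le hTS
  have hn := CfsgLib.Transfer.pResidual_normal (G := F.autGroup T) p
  have hTn : ∀ s ∈ S, s ∈ Subgroup.normalizer (T : Set Ω) := fun s hs =>
    mem_normalizer_of_conj_mem fun y hy => StronglyClosed.conj_mem hT hs hy
  set K := (pResidual p (F.autGroup T)).map (F.autGroup T).subtype ⊔ Inn T with hK
  rw [hyp_le_iff]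
  intro P f hf hfP n hn' hfn y hy
  have hPS := hf.le
  obtain ⟨g, hg, hgf⟩ := exists_lift_mod hS hF hT P f hf
  have hRS := hg.le
  have hRf : Finite ↥(P ⊔ T) := finite_of_le hRS
  have hPT : P ≤ Subgroup.normalizer (T : Set Ω) := fun s hs => hTn s (hPS hs)
  have hgR : ∀ x ∈ P ⊔ T, g x ∈ P ⊔ T := by
    have : img (P ⊔ T) g ≤ P ⊔ T := by
      rw [hg.img_sup, StronglyClosed.img_eq hT hg le_sup_right]
      apply sup_le _ le_sup_right
      rw [img_le_iff]
      intro x hx
      have h1 : g x = f x * ((g x)⁻¹ * f x)⁻¹ := by group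
      rw [h1]
      exact Subgroup.mul_mem_sup (hfP x hx) (T.inv_mem (hgf x hx))
    exact fun x hx => this (apply_mem_img hx)
  obtain ⟨k, t, m, hm, hkt, hkm⟩ := exists_prime_to_p hg hgR n hn'
  have hgk := hg.iterate hgR k
  -- `g^k` and `f` agree modulo `T`
  have hmodj : ∀ (j : ℕ) x, x ∈ P → (g^[j] x)⁻¹ * f^[j] x ∈ T := by
    intro j
    induction j with
    | zero => intro x _; simp
    | succ j ih =>
      intro x hx
      have h1 := ih x hx
      have h2 : g^[j] x ∈ P ⊔ T := (hg.iterate hgR j).2 x (le_sup_left (b := T) hx)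
      have h3 : f^[j] x ∈ P := iterate_mem (P := fun x => x ∈ P) hfP j hx
      have h4 : f^[j] x ∈ P ⊔ T := le_sup_left (b := T) h3
      have h5 : g ((g^[j] x)⁻¹ * f^[j] x) ∈ T :=
        StronglyClosed.map_mem hT hg (mul_mem (inv_mem h2) h4) h1
      rw [hg.map_mul (inv_mem h2) h4, hg.map_inv h2] at h5
      have h6 := hgf _ h3
      rw [Function.iterate_succ_apply', Function.iterate_succ_apply']
      have : (g (g^[j] x))⁻¹ * f (f^[j] x) =
          ((g (g^[j] x))⁻¹ * g (f^[j] x)) * ((g (f^[j] x))⁻¹ * f (f^[j] x)) := by group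
      rw [this]
      exact T.mul_mem h5 h6
  have hmod : (g^[k] y)⁻¹ * f y ∈ T := by
    have h1 := hmodj k y hy
    have h2 : f^[k] y = f y := by
      rw [hkt, Function.iterate_add_apply, iterate_fix (hfn y hy)]; rfl
    rwa [h2] at h1
  have hyR := le_sup_left (b := T) hy
  have hyS := hPS hy
  -- the automorphism of `T`
  have hgT := hgk.1.restrict (le_sup_right : T ≤ P ⊔ T)
  have hgTm : ∀ x ∈ T, g^[k] x ∈ T := fun x hx => StronglyClosed.map_mem hT hgT hx hx
  obtain ⟨β, hβ, hβg⟩ := hgT.exists_aut_of_mapsTo hgTm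
  have hβres : (⟨β, hβ⟩ : F.autGroup T) ∈ pResidual p (F.autGroup T) := by
    apply Subgroup.subset_closure
    show Nat.Coprime (orderOf (⟨β, hβ⟩ : F.autGroup T)) p
    rw [← Subgroup.orderOf_coe]
    have hpow : ∀ (j : ℕ) (x : T), ((β ^ j) x : Ω) = (g^[k])^[j] x := by
      intro j
      induction j with
      | zero => intro x; simp
      | succ j ih => intro x; rw [pow_succ, MulAut.mul_apply, ih, hβg, Function.iterate_succ_apply]
    have hβm : β ^ m = 1 := by
      ext x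
      rw [hpow, hkm x (le_sup_right (a := P) x.2)]; rfl
    exact Nat.Coprime.coprime_dvd_left (orderOf_dvd_of_pow_eq_one hβm) hm
  -- `y⁻¹ g^k(y)`
  have hz1 : y⁻¹ * g^[k] y ∈ pre S T K := by
    have hgyS := hgk.1.mapsTo hyR
    have hmem : y⁻¹ * g^[k] y ∈ S := mul_mem (inv_mem hyS) hgyS
    rw [mem_pre]
    refine ⟨hmem, hTn _ hmem, ?_⟩
    let c : F.autGroup T := ⟨conjAut T y (hTn y hyS),
      autInducedBy_le_autGroup F hTS (conjAut_mem_autInducedBy hyS (hTn y hyS))⟩
    have h1 : c⁻¹ * ⟨β, hβ⟩ * c⁻¹⁻¹ * (⟨β, hβ⟩ : F.autGroup T)⁻¹ ∈ pResidual p (F.autGroup T) :=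
      mul_mem (hn.conj_mem _ hβres _) (inv_mem hβres)
    have h2 : conjAut T (y⁻¹ * g^[k] y) (hTn _ hmem) =
        ((c⁻¹ * ⟨β, hβ⟩ * c⁻¹⁻¹ * (⟨β, hβ⟩ : F.autGroup T)⁻¹ : F.autGroup T) : MulAut T) := by
      apply mem_autInduced_of_eq
      intro x
      obtain ⟨x', rfl⟩ := β.surjective x
      have e0 : (β⁻¹ : MulAut T) (β x') = x' := by
        rw [← MulAut.mul_apply, inv_mul_cancel]; rfl
      show (((conjAut T y (hTn y hyS))⁻¹ (β ((conjAut T y (hTn y hyS))⁻¹⁻¹ (β⁻¹ (β x')))) : T) : Ω) = _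
      rw [e0, inv_inv]
      have e1 : (((conjAut T y (hTn y hyS))⁻¹ : MulAut T) (β ((conjAut T y (hTn y hyS)) x')) : Ω) =
          y⁻¹ * (β ((conjAut T y (hTn y hyS)) x') : T) * y := by
        have e2 := conjAut_apply T y (hTn y hyS)
          (((conjAut T y (hTn y hyS))⁻¹ : MulAut T) (β ((conjAut T y (hTn y hyS)) x')))
        rw [← MulAut.mul_apply, mul_inv_cancel, MulAut.one_apply] at e2
        rw [e2]; group
      rw [e1, hβg, conjAut_apply, hβg, hgk.1.map_mul (mul_mem hyR (le_sup_right (a := P) x'.2))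
        (inv_mem hyR), hgk.1.map_mul hyR (le_sup_right (a := P) x'.2), hgk.1.map_inv hyR]
      group
    rw [h2]
    exact Subgroup.mem_sup_left ⟨_, h1, rfl⟩
  have hz2 : (g^[k] y)⁻¹ * f y ∈ pre S T K := by
    rw [mem_pre]
    refine ⟨hTS hmod, hTn _ (hTS hmod), Subgroup.mem_sup_right ⟨⟨_, hmod⟩, ?_⟩⟩
    ext x
    rfl
  have h9 : y⁻¹ * f y = (y⁻¹ * g^[k] y) * ((g^[k] y)⁻¹ * f y) := by group
  rw [h9]
  exact mul_mem hz1 hz2

end CfsgLib.Fusion
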