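import Cfsg.Agent.Lib.FusionNS4
/-!
Strong invariance (S5119), continued.
-/
set_option autoImplicit false
set_option maxHeartbeats 400000

namespace CfsgLib.Fusion

open Cfsg Cfsg.FusionSystem CfsgLib.SylowIn

variable {Ω : Type*} [Group Ω] {S : Subgroup Ω} {F : FusionSystem S} {T : Subgroup Ω}
  {E : FusionSystem T}

def SInv {T : Subgroup Ω} (E : FusionSystem T) (F : FusionSystem S) : Prop :=
  ∀ (P Q : Subgroup Ω) (f g b : Ω → Ω), P ≤ Q → Q ≤ T → FMap E P f → (∀ x ∈ P, f x ∈ Q) →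
    FMap F Q g → (∀ x ∈ P, b (g x) = g (f x)) → FMap E (img P g) b

theorem sinv_iff : SInv E F ↔ ∀ (P Q : Subgroup Ω) (hPQ : P ≤ Q) (_ : Q ≤ T) (φ : P →* Ω)
    (_ : φ ∈ E.Hom P) (hφQ : ∀ x : P, φ x ∈ Q) (ψ : Q →* Ω) (_ : ψ ∈ F.Hom Q),
    ∃ χ ∈ E.Hom ((P.subgroupOf Q).map ψ), ∀ (x : P)
      (hx : ψ (Subgroup.inclusion hPQ x) ∈ (P.subgroupOf Q).map ψ),
        χ ⟨ψ (Subgroup.inclusion hPQ x), hx⟩ = ψ ⟨φ x, hφQ x⟩ := by
  have himg : ∀ (P Q : Subgroup Ω) (hPQ : P ≤ Q) (ψ : Q →* Ω) (g : Ω → Ω), (∀ x : Q, ψ x = g x) →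
      (P.subgroupOf Q).map ψ = img P g := by
    intro P Q hPQ ψ g hg
    apply le_antisymm
    · rintro _ ⟨x, hx, rfl⟩
      rw [hg]
      exact apply_mem_img hx
    · rw [img_le_iff]
      intro x hx
      exact ⟨⟨x, hPQ hx⟩, hx, hg _⟩
  constructor
  · intro h P Q hPQ hQT φ hφ hφQ ψ hψ
    obtain ⟨g', hg', hgi, -⟩ := (FMap.of_mem hψ).exists_inv
    have h1 := h P Q (ext φ) (ext ψ) (fun y => ext ψ (ext φ (g' y))) hPQ hQT (FMap.of_mem hφ)
      (fun x hx => by rw [ext_of_mem φ hx]; exact hφQ _) (FMap.of_mem hψ) (by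
        intro x hx
        show ext ψ (ext φ (g' (ext ψ x))) = _
        rw [hgi x (hPQ hx)])
    rw [← himg P Q hPQ ψ (ext ψ) fun x => (ext_apply ψ x).symm] at h1
    obtain ⟨χ, hχ, hχf⟩ := h1
    refine ⟨χ, hχ, fun x hx => ?_⟩
    rw [hχf]
    show ext ψ (ext φ (g' (ψ (Subgroup.inclusion hPQ x)))) = _
    have h2 : ψ (Subgroup.inclusion hPQ x) = ext ψ (x : Ω) := by
      rw [ext_of_mem ψ (hPQ x.2)]; rfl
    rw [h2, hgi _ (hPQ x.2), ext_apply φ x, ext_of_mem ψ (hφQ x)]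
  · intro h P Q f g b hPQ hQT hf hfQ hg hb
    obtain ⟨φ, hφ, hφf⟩ := hf
    obtain ⟨ψ, hψ, hψg⟩ := hg
    obtain ⟨χ, hχ, hχx⟩ := h P Q hPQ hQT φ hφ (fun x => by rw [hφf]; exact hfQ x x.2) ψ hψ
    have h1 := FMap.of_mem hχ
    have h2 : FMap E ((P.subgroupOf Q).map ψ) b := by
      refine h1.congr ?_
      rintro _ ⟨⟨x, hxQ⟩, hx, rfl⟩
      have hm : ψ ⟨x, hxQ⟩ ∈ (P.subgroupOf Q).map ψ := Subgroup.mem_map_of_mem _ hx
      rw [ext_of_mem χ hm]
      have h3 := hχx ⟨x, hx⟩ hm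
      refine h3.trans ?_
      rw [hψg, hψg]
      show g (φ ⟨x, hx⟩) = b (g x)
      rw [hφf, hb x hx]
    rwa [himg P Q hPQ ψ g hψg] at h2

/-- (S5119) -/
theorem invariant_iff_sinv [Finite S] {p : ℕ} [Fact p.Prime]
    (hS : IsPGroup p S) (hF : F.IsSaturated p) (hE : E.IsSubsystemOf F) (hT : F.StronglyClosed T) :
    E.IsInvariantIn F ↔ SInv E F := by
  have hTS := hT.1
  have hTf : Finite T := finite_of_le hTS
  constructor
  · intro h P Q f g b hPQ hQT hf hfQ hg hb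
    obtain ⟨h1, h2, h3, h4⟩ := isInvariantIn_iff.1 h
    obtain ⟨a, g₀, ha, haT, hg₀, hgg⟩ := h4 Q g hQT hg
    obtain ⟨a', ha', ha'T, haa, haa'⟩ := ha.exists_inv_aut haT
    obtain ⟨g₁, hg₁, hg₁i, hg₁x⟩ := hg₀.exists_inv
    -- `g₀ f g₀⁻¹`
    have h5 : FMap E (img P g₀) (fun y => g₀ (f (g₁ y))) := by
      have hle : img P g₀ ≤ img Q g₀ := img_mono hPQ
      have e1 : FMap E (img P g₀) (fun y => f (g₁ y)) := (hg₁.restrict hle).comp hf (by
        intro y hy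
        obtain ⟨x, hx, rfl⟩ := (hg₀.restrict hPQ).mem_img.1 hy
        rw [hg₁i x (hPQ hx)]; exact hx)
      refine e1.comp hg₀ ?_
      intro y hy
      obtain ⟨x, hx, rfl⟩ := (hg₀.restrict hPQ).mem_img.1 hy
      rw [hg₁i x (hPQ hx)]; exact hfQ x hx
    have h6 := h3 _ _ a b h5 ha haT (by
      intro y hy
      obtain ⟨x, hx, rfl⟩ := (hg₀.restrict hPQ).mem_img.1 hy
      show b (a (g₀ x)) = a (g₀ (f (g₁ (g₀ x))))
      rw [hg₁i x (hPQ hx), ← hgg x (hPQ hx), hb x hx, hgg _ (hfQ x hx)])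
    have h7 : img (img P g₀) a = img P g := by
      rw [img_img (hg₀.restrict hPQ)]
      exact img_congr fun x hx => (hgg x (hPQ hx)).symm
    rwa [h7] at h6
  · intro h
    have hA : AInv E F := fun P f a b hf ha haT hb =>
      h P T f a b hf.le le_rfl hf (fun x hx => hf.mapsTo hx) ha hb
    rw [isInvariantIn_iff]
    refine ⟨subsystem_iff.1 hE, hT, hA, ?_⟩
    apply frattini_of_normal_aut hS hF hE hT hA
    intro P hPT χ hχ
    have hPf : Finite P := finite_of_le hPT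
    have hPS := hPT.trans hTS
    have hkey : ∀ χ ∈ F.autGroup P, ∀ β ∈ E.autGroup P, χ * β * χ⁻¹ ∈ E.autGroup P := by
      intro χ hχ β hβ
      rw [mem_autGroup_iff' hPT] at hβ ⊢
      rw [mem_autGroup_iff' hPS] at hχ
      have h1 := h P P (aext β) (aext χ) (aext (χ * β * χ⁻¹)) le_rfl hPT hβ
        (fun x hx => aext_mem β hx) hχ (by
          intro x hx
          rw [aext_of_mem χ hx, aext_apply, aext_of_mem β hx, aext_apply]
          congr 1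
          rw [MulAut.mul_apply, MulAut.mul_apply, MulAut.inv_apply_self])
      rwa [hχ.img_eq_of_mapsTo fun x hx => aext_mem χ hx] at h1
    rw [Subgroup.mem_normalizer_iff]
    intro β
    refine ⟨fun hβ => hkey χ hχ β hβ, fun hβ => ?_⟩
    have h2 := hkey χ⁻¹ (inv_mem hχ) _ hβ
    have e : χ⁻¹ * (χ * β * χ⁻¹) * χ⁻¹⁻¹ = β := by group
    rwa [e] at h2

end CfsgLib.Fusion
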