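import Cfsg.Agent.Lib.FusionNS5
/-!
Normal subsystems over `S`; S5160; simple group systems.
-/
set_option autoImplicit false
set_option maxHeartbeats 400000

namespace CfsgLib.Fusion

open Cfsg Cfsg.FusionSystem CfsgLib.SylowIn

variable {Ω : Type*} [Group Ω] {S : Subgroup Ω} {F : FusionSystem S} {T : Subgroup Ω}
  {E : FusionSystem T}

/-- the automizer in an invariant subsystem is normal in the automizer. -/
theorem aut_le_normalizer_of_invariant [Finite S] {p : ℕ} [Fact p.Prime]
    (hS : IsPGroup p S) (hF : F.IsSaturated p) (hE : E.IsInvariantIn F) {P : Subgroup Ω}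
    (hPT : P ≤ T) : F.autGroup P ≤
      Subgroup.normalizer ((E.autGroup P : Subgroup (MulAut P)) : Set (MulAut P)) := by
  have h := (invariant_iff_sinv hS hF hE.1 hE.2.1).1 hE
  have hTS := hE.2.1.1
  have hTf : Finite T := finite_of_le hTS
  intro χ hχ
  have hPf : Finite P := finite_of_le hPT
  have hPS := hPT.trans hTS
  have hkey : ∀ χ ∈ F.autGroup P, ∀ β ∈ E.autGroup P, χ * β * χ⁻¹ ∈ E.autGroup P := by
    intro χ hχ β hβ
    rw [mem_autGroup_iff' hPT] at hβ ⊢
    rw [mem_autGroup_iff' hPS] at hχ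
    have h1 := h P P (aext β) (aext χ) (aext (χ * β * χ⁻¹)) le_rfl hPT hβ
      (fun x hx => aext_mem β hx) hχ (by
        intro x hx
        rw [aext_of_mem χ hx, aext_apply, aext_of_mem β hx, aext_apply]
        congr 1
        rw [MulAut.mul_apply, MulAut.mul_apply, MulAut.inv_apply_self])
    rwa [hχ.img_eq_of_mapsTo fun x hx => aext_mem χ hx] at h1
  rw [Subgroup.mem_normalizer_iff]
  intro β
  refine ⟨fun hβ => hkey χ hχ β hβ, fun hβ => ?_⟩
  have h2 := hkey χ⁻¹ (inv_mem hχ) _ hβ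
  have e : χ⁻¹ * (χ * β * χ⁻¹) * χ⁻¹⁻¹ = β := by group
  rwa [e] at h2

/-- an element of `p`-power order of `Aut_F(R)` lies in a normal subsystem over `S`. -/
theorem mem_of_pow_aut [Finite S] {p : ℕ} [Fact p.Prime]
    (hS : IsPGroup p S) (hF : F.IsSaturated p) {E : FusionSystem S} (hE : E.IsInvariantIn F)
    {R : Subgroup Ω} (hR : F.IsFullyNormalized R) {α : MulAut R} (hα : α ∈ F.autGroup R)
    {k : ℕ} (hk : α ^ p ^ k = 1) : α ∈ E.autGroup R := by
  have hRS : R ≤ S := hR.1
  have hRf : Finite R := finite_of_le hRS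
  obtain ⟨h1, -⟩ := Saturated.of_fullyNormalized hS hF hR
  have hsyl := autS_sylowIn h1
  have hz : IsPGroup p (Subgroup.zpowers α) := by
    intro x
    obtain ⟨n, hn⟩ := x.2
    refine ⟨k, Subtype.ext ?_⟩
    show (x : MulAut R) ^ p ^ k = 1
    rw [← hn]
    show (α ^ n) ^ p ^ k = 1
    rw [← zpow_natCast, ← zpow_mul, mul_comm, zpow_mul, zpow_natCast, hk, one_zpow]
  obtain ⟨g, hg, hgx⟩ := hsyl.exists_conj (Subgroup.zpowers_le.2 hα) hz
  have h2 := autInducedBy_le_autGroup E hRS (hgx α (Subgroup.mem_zpowers α))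
  have h3 := aut_le_normalizer_of_invariant hS hF hE hRS hg
  exact (Subgroup.mem_normalizer_iff.1 h3 α).2 h2

end CfsgLib.Fusion
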