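import Cfsg.Agent.Lib.FusionNil4
/-!
The strengthened Frobenius criterion for fusion systems.
-/
set_option autoImplicit false
set_option maxHeartbeats 400000

namespace CfsgLib.Fusion

open Cfsg Cfsg.FusionSystem CfsgLib.SylowIn CfsgLib.StronglyEmb

universe u w

theorem autGroup_le_of_isPGroup {Ω : Type*} [Group Ω] {S : Subgroup Ω} {p : ℕ} [Fact p.Prime]
    {F : FusionSystem S} {P : Subgroup Ω} (h : IsPGroup p (F.autGroup P))
    (hP : F.IsFullyAutomized p P) : F.autGroup P ≤ autInducedBy S P := by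
  obtain ⟨hPS, R, hR⟩ := hP
  intro α hα
  have hRtop : (R : Subgroup (F.autGroup P)) = ⊤ :=
    (R.3 (h.of_equiv Subgroup.topEquiv.symm) le_top).symm
  have h1 : (⟨α, hα⟩ : F.autGroup P) ∈ (R : Subgroup (F.autGroup P)) := by rw [hRtop]; trivial
  rw [hR] at h1
  exact h1

theorem wS_char {W : ∀ (Q : Type u) [Group Q], Subgroup Q} {p : ℕ}
    (hW2 : ∀ (Q R : Type u) [Group Q] [Group R] [Finite Q], IsPGroup p Q → ∀ φ : Q ≃* R,
      (W Q).map φ.toMonoidHom = W R) {Ω : Type u} [Group Ω] {S : Subgroup Ω} [Finite S]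
    (hS : IsPGroup p S) : ((wS W S).subgroupOf S).Characteristic := by
  rw [wS_subgroupOf, Subgroup.characteristic_iff_map_eq]
  intro φ
  exact hW2 S S hS φ

theorem center_le_J {S : Type u} [Group S] [Finite S] : Subgroup.center S ≤ CfsgLib.JA.WJ S := by
  intro z hz
  have e : CfsgLib.JA.WJ S = CfsgLib.JA.JA (⊤ : Subgroup S) := CfsgLib.JA.JA_top_eq S
  rw [e]
  obtain ⟨A, hA⟩ := CfsgLib.ZJ3.MA_nonempty 0 (⊤ : Subgroup S)
  exact CfsgLib.JA.le_JA hA (CfsgLib.PSt2.mem_of_MA hA (Subgroup.mem_top z)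
    (fun a _ => (Subgroup.mem_center_iff.1 hz a)) (pow_zero z))

theorem inner_of_char {p : ℕ} [Fact p.Prime] : ∀ (n : ℕ) {Ω : Type u} [Group Ω] (S : Subgroup Ω) [Finite S],
    IsPGroup p S → ∀ F : FusionSystem S, F.IsSaturated p →
    (p ≠ 2 ∨ F.IsSectionFree p (Equiv.Perm (Fin 4))) → Nat.card S = n →
    (∀ Q : Subgroup Ω, Q ≤ S → Q ≠ ⊥ → (Q.subgroupOf S).Characteristic → IsPGroup p (F.autGroup Q)) →
    F ≤ innerFusionSystem S := by
  intro n
  induction n using Nat.strong_induction_on with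
  | _ n ih =>
  intro Ω _ S _ hS F hF hfree hn h
  by_cases hS0 : S = ⊥
  · rw [le_iff_FMap]
    intro P f hf
    exact FMap_bot (le_bot_iff.1 (hf.le.trans hS0.le)) hf
  refine nil_machine (W := WT) WT1 WT2 (WT_hyp (p := p)) _ S hS F hF hfree rfl ?_
  intro i
  obtain ⟨K, hK⟩ : ∃ K, K = wS (WT i) S := ⟨_, rfl⟩
  have hKS : K ≤ S := by rw [hK]; exact wS_le _ _
  have hKf : Finite K := finite_of_le hKS
  have hNK : normalizerIn S K = S := by rw [hK]; exact normalizerIn_wS (WT2 (p := p) i) hS F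
  have hKn : F.IsFullyNormalized K := by
    refine ⟨hKS, fun R _ => ?_⟩
    rw [hNK]
    exact card_le_of_le inf_le_left
  have hKp : IsPGroup p (F.autGroup K) := by
    apply h K hKS
    · rw [hK]; exact wS_ne_bot (WT1 (p := p) i) hS hS0
    · rw [hK]; exact wS_char (WT2 (p := p) i) hS
  have hZS : wS WC S ≤ S := wS_le _ _
  have hZf : Finite (wS WC S) := finite_of_le hZS
  have hZeq : wS WC S = S ⊓ Subgroup.centralizer (S : Set Ω) := map_center_eq S
  have hZK : wS WC S ≤ K := by
    rw [hK]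
    apply Subgroup.map_mono
    cases i
    · exact le_rfl
    · exact center_le_J
  have hZ0 : wS WC S ≠ ⊥ := wS_ne_bot (WT1 (p := p) false) hS hS0
  suffices hmain : ∀ P f, FMap (normSys F K hKS) P f → FMap (innerFusionSystem S) P f by
    subst hK; exact hmain
  -- the normalizer system over `S`
  let N : FusionSystem S := castFS hNK (normSys F K hKS)
  have hN : ∀ P f, FMap N P f ↔ FMap (normSys F K hKS) P f := fun P f => FMap_castFS _ _
  have hNs : N.IsSaturated p := by rw [castFS_saturated]; exact normSys_saturated hS hF hKn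
  have hNF : ∀ P f, FMap N P f → FMap F P f := fun P f hf => (FMap_normSys.1 ((hN P f).1 hf)).1
  have hNfree : p ≠ 2 ∨ N.IsSectionFree p (Equiv.Perm (Fin 4)) := by
    refine hfree.imp id fun hfr => ?_
    have h1 := sectionFree_normSys hS hF hfr hKn
    have h2 : ∀ (T T' : Subgroup Ω) (e : T = T') (E : FusionSystem T),
        E.IsSectionFree p (Equiv.Perm (Fin 4)) → (castFS e E).IsSectionFree p (Equiv.Perm (Fin 4)) := by
      intro T T' e E h; subst e; exact h
    exact h2 _ _ _ _ h1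
  -- `Z` is central in `N`
  have hcen : ∀ P f, FMap N P f → ∃ g, FMap N (P ⊔ wS WC S) g ∧ (∀ x ∈ P, g x = f x) ∧
      ∀ z ∈ wS WC S, g z = z := by
    intro P f hf
    obtain ⟨h1, h2, h3, g, hg, hgP, hgK⟩ := FMap_normSys.1 ((hN P f).1 hf)
    have hgN : FMap (normSys F K hKS) (P ⊔ K) g :=
      FMap_normSys_of_le hg le_sup_right (by rw [hNK]; exact hg.le) hgK
    refine ⟨g, ((hN _ _).2 hgN).restrict (sup_le_sup_left hZK P), hgP, ?_⟩
    obtain ⟨α, hα, hαx⟩ := (hg.restrict (le_sup_right : K ≤ P ⊔ K)).exists_aut hgK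
    have h4 := autGroup_le_of_isPGroup hKp (Saturated.of_fullyNormalized hS hF hKn).1 hα
    obtain ⟨s, hs, hsx⟩ := mem_autInducedBy_iff.1 h4
    intro z hz
    have h5 := hsx ⟨z, hZK hz⟩
    rw [hαx] at h5
    have h6 : z ∈ Subgroup.centralizer (S : Set Ω) := by
      have : z ∈ S ⊓ Subgroup.centralizer (S : Set Ω) := by rw [← hZeq]; exact hz
      exact this.2
    rw [h5]
    show s * z * s⁻¹ = z
    rw [Subgroup.mem_centralizer_iff.1 h6 s hs, mul_inv_cancel_right]
  have hZN : N.IsNormal (wS WC S) := by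
    rw [isNormal_iff]
    refine ⟨hZS, fun P f hf => ?_⟩
    obtain ⟨g, hg, hgP, hgZ⟩ := hcen P f hf
    refine ⟨g, hg, hgP, ?_⟩
    exact (hg.restrict le_sup_right).img_eq_of_mapsTo fun x hx => by rw [hgZ x hx]; exact hx
  have hZaut : IsPGroup p (N.autGroup (wS WC S)) := by
    intro α
    refine ⟨0, ?_⟩
    rw [pow_zero, pow_one]
    apply Subtype.ext
    ext x
    obtain ⟨g, hg, hgP, hgZ⟩ := hcen _ _ ((mem_autGroup_iff' hZS _).1 α.2)
    have h1 := hgP x x.2
    rw [hgZ x x.2, aext_apply] at h1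
    exact h1.symm
  have hle : N ≤ innerFusionSystem S := by
    -- the quotient
    have hQSn : ((wS WC S).subgroupOf S).Normal := by
      rw [wS_subgroupOf]; unfold WC; infer_instance
    let θ : S →* (S ⧸ ((wS WC S).subgroupOf S)) := QuotientGroup.mk' ((wS WC S).subgroupOf S)
    have hker : ∀ s ∈ S, tx θ s = 1 ↔ s ∈ wS WC S := by
      intro s hs
      rw [tx_of_mem hs]
      exact QuotientGroup.eq_one_iff _
    have hsc := IsNormal.stronglyClosed hZN
    have hspec := quotSys_spec hsc θ hker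
    have hfac := Fac.of hS hNs hsc hspec
    have hF₂ := surjectiveMorphism_saturated hS hNs (factorSystem_surjective hS hNs hsc hspec)
    have hfree₂ : p ≠ 2 ∨ (quotSys N (wS WC S) hsc θ hker).IsSectionFree p (Equiv.Perm (Fin 4)) :=
      hNfree.imp id fun h => sectionFree_factor hS hNs hF₂ hfac h
    have hfin₂ := hfac.finite
    have hp₂ := hfac.isPGroup hS
    have hcard₂ := hfac.card_pre (le_refl θ.range)
    rw [hfac.pre_top] at hcard₂
    have hQ2 : 1 < Nat.card (wS WC S) := by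
      rw [← not_le]
      intro h
      exact hZ0 (Subgroup.card_eq_one.1 (le_antisymm h Nat.card_pos))
    have hlt₂ : Nat.card θ.range < n := by
      rw [← hn, hcard₂]
      exact lt_mul_of_one_lt_right Nat.card_pos hQ2
    refine le_inner_of_quot hS hNs hZN hZaut hfac (ih _ hlt₂ θ.range hp₂ _ hF₂ hfree₂ rfl ?_)
    intro Q' hQ' hQ'0 hQ'c
    have hQS : preimageAlong θ Q' ≤ S := preimageAlong_le
    have hQf : Finite (preimageAlong θ Q') := finite_of_le hQS
    have hQp : IsPGroup p (F.autGroup (preimageAlong θ Q')) := by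
      apply h _ hQS
      · intro h0
        have h1 := hfac.le_pre Q'
        rw [h0, le_bot_iff] at h1
        exact hZ0 h1
      · rw [Subgroup.characteristic_iff_le_comap]
        intro φ x hx
        have hx' : (x : Ω) ∈ preimageAlong θ Q' := hx
        rw [mem_preimageAlong] at hx'
        show ((φ x : S) : Ω) ∈ preimageAlong θ Q'
        rw [mem_preimageAlong]
        refine ⟨(φ x).2, ?_⟩
        have hx2 := hx'.2
        rw [tx_of_mem x.2] at hx2
        rw [tx_of_mem (φ x).2]
        have hmapZ : ((wS WC S).subgroupOf S).map φ.toMonoidHom = (wS WC S).subgroupOf S := by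
          have := wS_char (W := WC) (WT2 (p := p) false) hS
          exact (Subgroup.characteristic_iff_map_eq.1 this) φ
        let φb : (S ⧸ ((wS WC S).subgroupOf S)) ≃* (S ⧸ ((wS WC S).subgroupOf S)) :=
          QuotientGroup.congr _ _ φ hmapZ
        have hrt : θ.range = ⊤ := MonoidHom.range_eq_top.2 (QuotientGroup.mk'_surjective _)
        have hrmap : θ.range.map φb.toMonoidHom = θ.range := by
          rw [hrt]; exact Subgroup.map_top_of_surjective _ φb.surjective
        let ψ : θ.range ≃* θ.range := (φb.subgroupMap θ.range).trans (MulEquiv.subgroupCongr hrmap)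
        have h2 := (Subgroup.characteristic_iff_le_comap.1 hQ'c) ψ
        have h3 : (⟨θ x, ⟨x, rfl⟩⟩ : θ.range) ∈ Q'.subgroupOf θ.range := hx2
        exact h2 h3
    intro α'
    obtain ⟨f, hf, hfi, hfx⟩ := hfac.exists_aut_lift α'.2 hQ'
    obtain ⟨β, hβ, hβx⟩ := (hNF _ _ hf).exists_aut hfi
    obtain ⟨k, hk⟩ := hQp ⟨β, hβ⟩
    have hk' : β ^ p ^ k = 1 := congrArg Subtype.val hk
    refine ⟨k, Subtype.ext ?_⟩
    have hpow : ∀ m : ℕ, ∀ x : preimageAlong θ Q', tx θ (((β ^ m) x : preimageAlong θ Q') : Ω) =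
        ((((α' : MulAut Q') ^ m) ⟨tx θ x, (mem_preimageAlong.1 x.2).2⟩ : Q') : _) := by
      intro m
      induction m with
      | zero => intro x; rfl
      | succ m ihm =>
        intro x
        have e1 : (β ^ (m + 1)) x = (β ^ m) (β x) := by rw [pow_succ]; rfl
        have e2 : ((α' : MulAut Q') ^ (m + 1)) ⟨tx θ x, (mem_preimageAlong.1 x.2).2⟩ =
          ((α' : MulAut Q') ^ m) ((α' : MulAut Q') ⟨tx θ x, (mem_preimageAlong.1 x.2).2⟩) := by
          rw [pow_succ]; rfl
        rw [e1, e2, ihm]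
        congr 2
        apply Subtype.ext
        show tx θ ((β x : preimageAlong θ Q') : Ω) = _
        rw [hβx, hfx x x.2, aext_of_mem (α' : MulAut Q') (mem_preimageAlong.1 x.2).2]
    show ((α' : MulAut Q') ^ p ^ k) = 1
    ext y
    obtain ⟨x, hx⟩ : ∃ x : preimageAlong θ Q', tx θ (x : Ω) = (y : _) := by
      have h1 := hfac.image_pre hQ'
      have h2 : y.1 ∈ imageAlong θ (preimageAlong θ Q') := by rw [h1]; exact y.2
      obtain ⟨x, hx, hxy⟩ := (mem_imageAlong preimageAlong_le).1 h2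
      exact ⟨⟨x, hx⟩, hxy⟩
    have h1 := hpow (p ^ k) x
    rw [hk'] at h1
    have h2 : (⟨tx θ x, (mem_preimageAlong.1 x.2).2⟩ : Q') = y := Subtype.ext hx
    rw [h2] at h1
    rw [← h1]
    exact hx
  intro P f hf
  exact le_iff_FMap.1 hle P f ((hN P f).2 hf)

end CfsgLib.Fusion
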