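import Cfsg.Agent.Lib.WC2Loc

/-! Weak closure of elements for `p = 2`, `S₄`-free groups. -/

set_option autoImplicit false

open scoped Pointwise commutatorElement
open CfsgLib.CF CfsgLib.Coprime CfsgLib.SylBridge CfsgLib.JA CfsgLib.ZJ3 CfsgLib.ZJ2 CfsgLib.WCFus

universe u

namespace CfsgLib.WC2

section Local

variable {X : Type u} [Group X] [Finite X]

theorem JA_normal_of_normal {Q : Subgroup X} (h : Q.Normal) : (JA Q).Normal := by
  constructor
  intro x hx g
  have h4 := JA_map (MulAut.conj g).toMonoidHom (MulAut.conj g).injective Q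
  have h5 : Q.map (MulAut.conj g).toMonoidHom = Q := Core.map_conj_eq_iff.2 (by
    rw [Subgroup.normalizer_eq_top]; trivial)
  rw [h5] at h4
  rw [h4]
  exact ⟨x, hx, rfl⟩

theorem loc_two {S : Subgroup X} (hS : IsSyl 2 S ⊤) (hS4 : ¬ Cfsg.Involves (Equiv.Perm (Fin 4)) X)
    (hJ : ¬ (⊤ : Subgroup X) ≤ Subgroup.normalizer (JA S : Set X)) {x : X}
    (hx : x ∈ S ⊓ Subgroup.centralizer (S : Set X))
    (hmax : ∀ L : Subgroup X, L ≠ ⊤ → S ≤ L → L ≤ Subgroup.normalizer ({x} : Set X)) (hxQ : x ∈ Cfsg.pCore 2 X) :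
    Subgroup.normalizer ({x} : Set X) = ⊤ := by
  classical
  haveI h2F : Fact (Nat.Prime 2) := ⟨Nat.prime_two⟩
  by_contra hM
  set Q := Cfsg.pCore 2 X with hQ
  have hQn : Q.Normal := CfsgLib.Core.pCore_normal 2 X
  have hQp : IsPGroup 2 Q := CfsgLib.Core.pCore_isPGroup 2 X
  have hQS : Q ≤ S := core_le_syl hS
  set V : Subgroup X := Q ⊓ Subgroup.centralizer (Q : Set X) with hV
  have hVn : V.Normal := CfsgLib.WCDesc.ZQ_normal
  have hVc : ∀ x ∈ V, ∀ y ∈ V, x * y = y * x := by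
    rintro a ⟨ha, -⟩ b ⟨-, hb⟩
    exact Subgroup.mem_centralizer_iff.1 hb a ha
  set C := Subgroup.centralizer (V : Set X) with hC
  have hCn : C.Normal := inferInstance
  set π := QuotientGroup.mk' C with hπ
  have hVC : V ≤ C := by
    intro v hv
    rw [hC, Subgroup.mem_centralizer_iff]
    intro w hw
    exact hVc w hw v hv
  have hQC : Q ≤ C := by
    intro q hq
    rw [hC, Subgroup.mem_centralizer_iff]
    rintro v ⟨_, hv⟩
    exact (Subgroup.mem_centralizer_iff.1 hv q hq).symm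
  have hxV : x ∈ V := ⟨hxQ, Subgroup.centralizer_le hQS hx.2⟩
  set M := Subgroup.normalizer ({x} : Set X) with hMdef
  have hMc : ∀ g : X, g ∈ M ↔ g * x = x * g := by
    intro g
    constructor
    · intro h
      have h3 := mem_normalizer_conj h (Set.mem_singleton x)
      rw [Set.mem_singleton_iff] at h3
      calc g * x = g * x * g⁻¹ * g := by group
        _ = x * g := by rw [h3]
    · intro h
      refine le_normalizer_of_centralizer ?_
      refine Subgroup.mem_centralizer_iff.2 ?_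
      intro a ha
      rw [Set.mem_singleton_iff] at ha
      rw [ha]; exact h.symm
  have hSM : S ≤ M := by
    intro s hs
    rw [hMc]
    exact Subgroup.mem_centralizer_iff.1 hx.2 s hs
  have hCM : C ≤ M := by
    intro c hc
    rw [hMc]
    exact (Subgroup.mem_centralizer_iff.1 hc x hxV).symm
  have hSnorm : ∀ D : Subgroup X, D.Normal → S ≤ Subgroup.normalizer ((S ⊓ D : Subgroup X) : Set X) := by
    intro D hD s hs
    apply CfsgLib.H7Basic.mem_normalizer_of_conj_mem
    rintro x ⟨hx1, hx2⟩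
    exact ⟨S.mul_mem (S.mul_mem hs hx1) (S.inv_mem hs), hD.conj_mem x hx2 s⟩
  have hfrat : ∀ D : Subgroup X, D.Normal → (⊤ : Subgroup X) ≤ D ⊔ Subgroup.normalizer ((S ⊓ D : Subgroup X) : Set X) := by
    intro D hD
    have h1 : IsSyl 2 (S ⊓ D) D := IsSyl.inf_normal hS le_top (by rw [Subgroup.normalizer_eq_top_iff.2 hD])
    have h2 := IsSyl.frattini h1 le_top (by rw [Subgroup.normalizer_eq_top_iff.2 hD])
    rwa [top_inf_eq] at h2
  -- `S ⊓ C = Q`
  have hSC : S ⊓ C ≤ Q := by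
    by_cases h4 : Subgroup.normalizer ((S ⊓ C : Subgroup X) : Set X) = ⊤
    · exact CfsgLib.Core.le_pCore (Subgroup.normalizer_eq_top_iff.1 h4) (hS.isPGroup.to_le inf_le_left)
    · exfalso
      apply hM
      exact top_le_iff.1 ((hfrat C hCn).trans (sup_le hCM (hmax _ h4 (hSnorm C hCn))))
  -- `O₂(X / C) = 1`
  have hcore : Cfsg.pCore 2 (X ⧸ C) = ⊥ := by
    set D := (Cfsg.pCore 2 (X ⧸ C)).comap π with hD
    have hDn : D.Normal := by
      have := CfsgLib.Core.pCore_normal 2 (X ⧸ C)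
      rw [hD]; infer_instance
    have hCD : C ≤ D := by
      intro c hc
      have : π c = 1 := (QuotientGroup.eq_one_iff c).2 hc
      rw [hD, Subgroup.mem_comap, this]; exact one_mem _
    have hDsup : C ⊔ (S ⊓ D) = D := by
      refine sup_eq_of_ppelements hCD (by rw [Subgroup.normalizer_eq_top_iff.2 hCn]; exact le_top) ?_
        (IsSyl.inf_normal hS le_top (by rw [Subgroup.normalizer_eq_top_iff.2 hDn]))
      intro g hg hgo
      have h1 : π g = 1 := by
        refine CfsgLib.FF2.eq_one_of_mem (CfsgLib.Core.pCore_isPGroup 2 (X ⧸ C)) hg ?_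
        exact Nat.Coprime.coprime_dvd_left (orderOf_map_dvd π g) hgo
      exact (QuotientGroup.eq_one_iff g).1 h1
    have hS0 : Subgroup.normalizer ((S ⊓ D : Subgroup X) : Set X) = ⊤ := by
      by_contra hS0
      have h1 := hmax _ hS0 (hSnorm D hDn)
      apply hM
      rw [eq_top_iff]
      refine (hfrat D hDn).trans (sup_le ?_ h1)
      rw [← hDsup]
      exact sup_le hCM (inf_le_left.trans hSM)
    have h0 : S ⊓ D ≤ Q := CfsgLib.Core.le_pCore (Subgroup.normalizer_eq_top_iff.1 hS0) (hS.isPGroup.to_le inf_le_left)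
    have hDC : D = C := by
      rw [← hDsup]
      exact sup_eq_left.2 (h0.trans hQC)
    rw [← Subgroup.map_comap_eq_self_of_surjective (QuotientGroup.mk'_surjective C) (Cfsg.pCore 2 (X ⧸ C)), ← hπ, ← hD,
      hDC, hπ, QuotientGroup.map_mk'_self]
  -- a member of `MA 0 S` outside `Q`
  have hex : ∃ A ∈ MA 0 S, ¬ A ≤ Q := by
    by_contra hcon
    push Not at hcon
    have h1 : JA S ≤ Q := sSup_le hcon
    have h2 := JA_eq_of_le h1 hQS
    apply hJ
    rw [← h2, Subgroup.normalizer_eq_top_iff.2 (JA_normal_of_normal hQn)]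
  obtain ⟨A₀, ⟨hA₀, hA₀Q⟩, hA₀max⟩ := Set.exists_max_image {A : Subgroup X | A ∈ MA 0 S ∧ ¬ A ≤ Q}
    (fun A => Nat.card (A ⊓ C : Subgroup X)) (Set.toFinite _) (by obtain ⟨U, hU, h1⟩ := hex; exact ⟨U, hU, h1⟩)
  set 𝒰 : Set (Subgroup X) := {B | B ∈ MA 0 S ∧ ¬ B ≤ Q ∧ Nat.card (B ⊓ C : Subgroup X) = Nat.card (A₀ ⊓ C : Subgroup X)} with h𝒰
  have hUmax : ∀ A ∈ 𝒰, ∀ B ∈ MA 0 S, ¬ B ≤ Q → Nat.card (B ⊓ C : Subgroup X) ≤ Nat.card (A ⊓ C : Subgroup X) := by
    intro A hA B hB hBQ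
    rw [hA.2.2]
    exact hA₀max B ⟨hB, hBQ⟩
  have hUab : ∀ A ∈ 𝒰, ∀ a ∈ A, ∀ b ∈ A, a * b = b * a := fun A hA a ha b hb => CfsgLib.PL1.comm_of hA.1.2.1.1 ha hb
  have hUC : ∀ A ∈ 𝒰, ¬ A ≤ C := fun A hA h => hA.2.1 ((le_inf hA.1.1 h).trans hSC)
  -- (e)
  have hno2 : ∀ A ∈ 𝒰, C.relIndex A ≠ 2 := by
    intro A hA h2
    obtain ⟨a, haA, haC⟩ := SetLike.not_le_iff_exists.1 (hUC A hA)
    apply hS4
    have hcardA : Nat.card A = 2 * Nat.card (A ⊓ C : Subgroup X) := by
      have e := Subgroup.card_mul_index (C.subgroupOf A)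
      have e1 : Nat.card (C.subgroupOf A) = Nat.card (A ⊓ C : Subgroup X) := by
        rw [← Subgroup.inf_subgroupOf_left]
        exact Nat.card_congr (Subgroup.subgroupOfEquivOfLe inf_le_left).toEquiv
      have e2 : (C.subgroupOf A).index = 2 := h2
      rw [e1, e2] at e
      omega
    refine S4_of_transvection (X := X) ?_ (a := a) ?_ haC (U := V ⊓ A) inf_le_left ?_ ?_
    · intro C' _ hC'
      subst hC'
      exact hcore
    · have h3 : (C.subgroupOf A).index = 2 := h2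
      exact Subgroup.mul_self_mem_of_index_two h3 (⟨a, haA⟩ : A)
    · have h3 := sup_comm (A := V) (B := A ⊓ C) hVc (fun x hx y hy => hUab A hA x hx.1 y hy.1)
        (fun x hx y hy => Subgroup.mem_centralizer_iff.1 hy.2 x hx)
      have h4 := (mem_MA_zero.1 hA.1).2.2 (V ⊔ (A ⊓ C)) (sup_le ((inf_le_left : V ≤ Q).trans hQS) (inf_le_left.trans hA.1.1))
        ⟨⟨fun x y => Subtype.ext (h3 x x.2 y y.2)⟩⟩
      have h5 := CfsgLib.CD.card_mul_card_le V (A ⊓ C)
      have h6 : Nat.card (V ⊓ (A ⊓ C) : Subgroup X) ≤ Nat.card (V ⊓ A : Subgroup X) :=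
        Nat.card_mono (Set.toFinite _) (fun x hx => ⟨hx.1, hx.2.1⟩)
      have h7 : 0 < Nat.card (A ⊓ C : Subgroup X) := Nat.card_pos
      have h8 : Nat.card V * Nat.card (A ⊓ C : Subgroup X) ≤ (2 * Nat.card (V ⊓ A : Subgroup X)) * Nat.card (A ⊓ C : Subgroup X) := by
        calc Nat.card V * Nat.card (A ⊓ C : Subgroup X) ≤ Nat.card (V ⊔ (A ⊓ C) : Subgroup X) * Nat.card (V ⊓ (A ⊓ C) : Subgroup X) := h5
          _ ≤ Nat.card A * Nat.card (V ⊓ A : Subgroup X) := Nat.mul_le_mul h4 h6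
          _ = _ := by rw [hcardA]; ring
      exact Nat.le_of_mul_le_mul_right h8 h7
    · intro u hu
      exact hUab A hA a haA u hu.2
  -- (f)
  have hUno : ∀ A ∈ 𝒰, ∀ g : X, (MulAut.conj g • M).relIndex A ≠ 2 := by
    intro A hA g h2
    set w := g * x * g⁻¹ with hw
    have hwV : w ∈ V := hVn.conj_mem x hxV g
    have hMw : ∀ y : X, y ∈ MulAut.conj g • M ↔ y * w = w * y := by
      intro y
      rw [mem_smul, hMc, hw]
      constructor
      · intro h
        calc y * (g * x * g⁻¹) = g * (g⁻¹ * y * g * x) * g⁻¹ := by group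
          _ = g * (x * (g⁻¹ * y * g)) * g⁻¹ := by rw [h]
          _ = g * x * g⁻¹ * y := by group
      · intro h
        calc g⁻¹ * y * g * x = g⁻¹ * (y * (g * x * g⁻¹)) * g := by group
          _ = g⁻¹ * (g * x * g⁻¹ * y) * g := by rw [h]
          _ = x * (g⁻¹ * y * g) := by group
    set N := A ⊓ MulAut.conj g • M with hN
    have hcardA : Nat.card A = 2 * Nat.card N := by
      have e := Subgroup.card_mul_index ((MulAut.conj g • M).subgroupOf A)
      have e1 : Nat.card ((MulAut.conj g • M).subgroupOf A) = Nat.card N := by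
        rw [← Subgroup.inf_subgroupOf_left]
        exact Nat.card_congr (Subgroup.subgroupOfEquivOfLe inf_le_left).toEquiv
      have e2 : ((MulAut.conj g • M).subgroupOf A).index = 2 := h2
      rw [e1, e2] at e
      omega
    have hACN : A ⊓ C ≤ N := by
      rintro c ⟨hcA, hcC⟩
      refine ⟨hcA, ?_⟩
      change c ∈ MulAut.conj g • M
      rw [hMw]
      exact (Subgroup.mem_centralizer_iff.1 hcC w hwV).symm
    set D := V ⊓ Subgroup.centralizer (N : Set X) with hD
    have hDA : D ≤ A := by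
      by_contra hDA
      have hNc : ∀ x ∈ N, ∀ y ∈ N, x * y = y * x := fun x hx y hy => hUab A hA x hx.1 y hy.1
      have hDc : ∀ x ∈ D, ∀ y ∈ D, x * y = y * x := fun x hx y hy => hVc x hx.1 y hy.1
      have hND : ∀ x ∈ N, ∀ y ∈ D, x * y = y * x := fun x hx y hy => Subgroup.mem_centralizer_iff.1 hy.2 x hx
      have h3 := sup_comm hNc hDc hND
      have hle : N ⊔ D ≤ S := sup_le (inf_le_left.trans hA.1.1) ((inf_le_left.trans (inf_le_left : V ≤ Q)).trans hQS)
      have h5 := CfsgLib.CD.card_mul_card_le N D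
      have h6 : 2 * Nat.card (N ⊓ D : Subgroup X) ≤ Nat.card D := by
        have hlt : N ⊓ D < D := lt_of_le_of_ne inf_le_right (fun h => hDA (by rw [← h]; exact inf_le_left.trans inf_le_left))
        have e1 := Subgroup.card_dvd_of_le hlt.le
        have e2 := CfsgLib.H7Basic.card_lt_card_of_lt hlt
        obtain ⟨k, hk⟩ := e1
        have e3 : 0 < Nat.card (N ⊓ D : Subgroup X) := Nat.card_pos
        have e4 : 2 ≤ k := by
          by_contra hcon
          push Not at hcon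
          interval_cases k <;> omega
        rw [hk, mul_comm]
        exact Nat.mul_le_mul_left _ e4
      have h7 : Nat.card A ≤ Nat.card (N ⊔ D : Subgroup X) := by
        have e3 : 0 < Nat.card (N ⊓ D : Subgroup X) := Nat.card_pos
        have e4 : Nat.card A * Nat.card (N ⊓ D : Subgroup X) ≤ Nat.card (N ⊔ D : Subgroup X) * Nat.card (N ⊓ D : Subgroup X) := by
          calc Nat.card A * Nat.card (N ⊓ D : Subgroup X) = Nat.card N * (2 * Nat.card (N ⊓ D : Subgroup X)) := by rw [hcardA]; ring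
            _ ≤ Nat.card N * Nat.card D := Nat.mul_le_mul_left _ h6
            _ ≤ _ := h5
        exact Nat.le_of_mul_le_mul_right e4 e3
      have h8 : N ⊔ D ∈ MA 0 S := by
        rw [mem_MA_zero]
        refine ⟨hle, ⟨⟨fun x y => Subtype.ext (h3 x x.2 y y.2)⟩⟩, fun B hB hB' => ?_⟩
        exact ((mem_MA_zero.1 hA.1).2.2 B hB hB').trans h7
      have h9 : ¬ N ⊔ D ≤ Q := by
        intro h
        have h10 : N ≤ A ⊓ C := le_inf inf_le_left (le_sup_left.trans (h.trans hQC))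
        apply hno2 A hA
        have h11 : N = A ⊓ C := le_antisymm h10 hACN
        have e1 : C.relIndex A = (A ⊓ C).relIndex A := by rw [inf_comm, Subgroup.inf_relIndex_right]
        have e2 : (MulAut.conj g • M).relIndex A = N.relIndex A := by rw [hN, inf_comm, Subgroup.inf_relIndex_right]
        rw [e1, ← h11, ← e2]; exact h2
      have h10 := hUmax A hA _ h8 h9
      apply hDA
      have h11 : A ⊓ C ≤ (N ⊔ D) ⊓ C := le_inf (hACN.trans le_sup_left) inf_le_right
      have h12 : A ⊓ C = (N ⊔ D) ⊓ C := Subgroup.eq_of_le_of_card_ge h11 h10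
      have h13 : D ≤ (N ⊔ D) ⊓ C := le_inf le_sup_right (inf_le_left.trans hVC)
      rw [← h12] at h13
      exact h13.trans inf_le_left
    have hwD : w ∈ D := by
      refine ⟨hwV, ?_⟩
      refine Subgroup.mem_centralizer_iff.2 ?_
      intro n hn
      exact (hMw n).1 hn.2
    have h3 : A ≤ MulAut.conj g • M := by
      intro a ha
      rw [hMw]
      exact hUab A hA a ha w (hDA hwD)
    rw [Subgroup.relIndex_eq_one.2 h3] at h2
    omega
  have hq : ∀ A ∈ 𝒰, ∀ a ∈ A, ∀ b ∈ A, ∀ v ∈ V, b * (a * v * a⁻¹ * v⁻¹) = (a * v * a⁻¹ * v⁻¹) * b := by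
    intro A hA a ha b hb v hv
    have h1 : V ≤ Subgroup.normalizer (A : Set X) := by
      refine quadratic_of_max (p := 2) (S := S) (Q := Q) (V := V) (C := C) hS.isPGroup ((inf_le_left : V ≤ Q).trans hQS) hVc
        (fun x hx y hy => (Subgroup.mem_centralizer_iff.1 hx.2 y hy).symm) (by
          rw [Subgroup.normalizer_eq_top_iff.2 hVn]; exact le_top) hVC
        (fun c hc v hv => (Subgroup.mem_centralizer_iff.1 hc v hv).symm) hA.1 hA.2.1 (hUmax A hA)
    exact quadratic_of_le hA.1.2.1.1 h1 ha hb hv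
  have hconj : ∀ A ∈ 𝒰, ∀ g : X, MulAut.conj g • A ≤ S → MulAut.conj g • A ∈ 𝒰 := by
    rintro A ⟨hA1, hA2, hA3⟩ g hg
    refine ⟨?_, ?_, ?_⟩
    · rw [mem_MA_zero] at hA1 ⊢
      refine ⟨hg, ?_, ?_⟩
      · refine ⟨⟨fun x y => Subtype.ext ?_⟩⟩
        have hx := mem_smul.1 x.2
        have hy := mem_smul.1 y.2
        have h1 := CfsgLib.PL1.comm_of hA1.2.1 hx hy
        calc (x : X) * y = g * ((g⁻¹ * x * g) * (g⁻¹ * y * g)) * g⁻¹ := by group
          _ = g * ((g⁻¹ * y * g) * (g⁻¹ * x * g)) * g⁻¹ := by rw [h1]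
          _ = y * x := by group
      · intro B hB hB'
        rw [CfsgLib.CD.card_smul]
        exact hA1.2.2 B hB hB'
    · intro h
      apply hA2
      rw [smul_le_iff] at h
      intro a ha
      have h1 := hQn.conj_mem _ (h a ha) g⁻¹
      have e : g⁻¹ * (g * a * g⁻¹) * g⁻¹⁻¹ = a := by group
      rwa [e] at h1
    · rw [← hA3, ← CfsgLib.CD.card_smul g (A ⊓ C)]
      congr 2
      ext y
      simp only [Subgroup.mem_inf, mem_smul]
      constructor
      · rintro ⟨h1, h2⟩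
        refine ⟨h1, ?_⟩
        have := hCn.conj_mem y h2 g⁻¹
        rwa [inv_inv] at this
      · rintro ⟨h1, h2⟩
        refine ⟨h1, ?_⟩
        have := hCn.conj_mem _ h2 g
        have e : g * (g⁻¹ * y * g) * g⁻¹ = y := by group
        rwa [e] at this
  have hdesc := desc hS hSM hmax 𝒰 (fun A hA => hA.1.1) hconj ⟨A₀, ⟨hA₀, hA₀Q, rfl⟩, hA₀Q⟩ hUab hq hUno
  have hcen : x ∈ Subgroup.center X := by
    refine hdesc ⟨hxV, ?_⟩
    refine Subgroup.mem_centralizer_iff.2 ?_
    intro m hm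
    exact (hMc m).1 hm
  apply hM
  rw [eq_top_iff]
  intro g _
  rw [hMc]
  exact Subgroup.mem_center_iff.1 hcen g

end Local

section Global

variable {G : Type u} [Group G] [Finite G]

theorem JA_center {p : ℕ} (P : Subgroup G) (_ : IsPGroup p ↥P) :
    P ⊓ Subgroup.centralizer ((P : Subgroup G) : Set G) ≤ JA P := by
  obtain ⟨A, hA⟩ := MA_nonempty 0 P
  refine le_trans ?_ (le_JA hA)
  refine le_of_centralizes hA inf_le_left ?_ ?_
  · intro x hx y hy
    exact Subgroup.mem_centralizer_iff.1 hy.2 x hx.1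
  · intro x hx y hy
    exact Subgroup.mem_centralizer_iff.1 hy.2 x (hA.1 hx)

theorem JA_conj {p : ℕ} : Cfsg.IsConjugacyFunctor p (JA (G := G)) := by
  have h1 := induced_isConjugacyFunctor (isCharPFunctor.{u} p) (X := G)
  have h2 : Cfsg.inducedFunctor (G := G) WJ = JA := funext fun P => induced_eq P
  rwa [h2] at h1

theorem wca_two (hS4 : ¬ Cfsg.Involves (Equiv.Perm (Fin 4)) G) {x : G} {H T : Subgroup G} (hT : IsSyl 2 T H) :
    WCA JA 1 ({x} : Set G) H T := by
  haveI h2F : Fact (Nat.Prime 2) := ⟨Nat.prime_two⟩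
  refine wca_all (p := 2) JA_conj JA_center (k := 1) (A := ({x} : Set G)) ?_ _ H le_rfl T hT
  intro H T hT hn hA hmax hAQ
  by_cases hxH : x ∈ H
  · have hset : (H.subtype ⁻¹' {x} : Set H) = {⟨x, hxH⟩} := by
      ext y
      simp only [Set.mem_preimage, Set.mem_singleton_iff, Subgroup.coe_subtype]
      constructor
      · intro h; exact Subtype.ext h
      · intro h; rw [h]
    rw [hset] at hmax hA hAQ ⊢
    have hxS := hA (Set.mem_singleton _)
    rw [ZP_one] at hxS
    refine loc_two (isSyl_sub hT) (fun h => hS4 (CfsgLib.Inv.of_subgroup h)) ?_ hxS hmax (hAQ (Set.mem_singleton _))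
    intro hle
    apply hn
    have h1 : JA T = (JA (T.subgroupOf H)).map H.subtype := by
      rw [← JA_map _ H.subtype_injective, Subgroup.map_subgroupOf_eq_of_le hT.1]
    rw [h1]
    intro h hh
    apply CfsgLib.H7Basic.mem_normalizer_of_conj_mem
    rintro _ ⟨y, hy, rfl⟩
    have h2 := hle (Subgroup.mem_top (⟨h, hh⟩ : H))
    exact ⟨⟨h, hh⟩ * y * ⟨h, hh⟩⁻¹, (Subgroup.mem_normalizer_iff.1 h2 y).1 hy, rfl⟩
  · have hset : (H.subtype ⁻¹' {x} : Set H) = ∅ := by
      ext y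
      simp only [Set.mem_preimage, Set.mem_singleton_iff, Subgroup.coe_subtype, Set.mem_empty_iff_false, iff_false]
      intro h; apply hxH; rw [← h]; exact y.2
    rw [hset, eq_top_iff]
    intro y _ z
    simp

/-- the quadratic local element -/
theorem JA_loc {p : ℕ} [hp : Fact p.Prime] (H T : Subgroup G) (hTH : T ≤ H) (hTp : IsPGroup p ↥T) (hTi : ¬ p ∣ (T).relIndex (H))
    (hn : ¬ H ≤ Subgroup.normalizer ((JA T : Subgroup G) : Set G)) :
      ∃ g : G, g ∈ T ∧ g ∉ Cfsg.pCoreOf p H ∧ ⁅⁅Cfsg.pCoreOf p H ⊓ Subgroup.centralizer ((Cfsg.pCoreOf p H : Subgroup G) : Set G), Subgroup.zpowers g⁆, Subgroup.zpowers g⁆ = ⊥ := by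
  have hT : IsSyl p T H := isSyl_iff.2 ⟨hTH, hTp, hTi⟩
  set Q := Cfsg.pCoreOf p H with hQ
  have hQ' : Q = (Cfsg.pCore p H).map H.subtype := rfl
  have hQS : Q ≤ T := by
    rw [hQ']
    have h1 := core_le_syl (isSyl_sub hT)
    have h2 := Subgroup.map_mono (f := H.subtype) h1
    rwa [Subgroup.map_subgroupOf_eq_of_le hTH] at h2
  have hQn : H ≤ Subgroup.normalizer (Q : Set G) := by
    have hn := CfsgLib.Core.pCore_normal p H
    intro h hh
    apply CfsgLib.H7Basic.mem_normalizer_of_conj_mem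
    rw [hQ']
    rintro _ ⟨y, hy, rfl⟩
    exact ⟨⟨h, hh⟩ * y * ⟨h, hh⟩⁻¹, hn.conj_mem y hy _, rfl⟩
  set V := Q ⊓ Subgroup.centralizer ((Q : Subgroup G) : Set G) with hV
  have hVn : H ≤ Subgroup.normalizer (V : Set G) := by
    intro h hh
    apply CfsgLib.H7Basic.mem_normalizer_of_conj_mem
    rintro v ⟨hv1, hv2⟩
    refine ⟨(Subgroup.mem_normalizer_iff.1 (hQn hh) v).1 hv1, ?_⟩
    refine Subgroup.mem_centralizer_iff.2 ?_
    intro q hq
    have h1 : h⁻¹ * q * h ∈ Q := by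
      have := (Subgroup.mem_normalizer_iff.1 (inv_mem (hQn hh)) q).1 hq
      rwa [inv_inv] at this
    have h2 := Subgroup.mem_centralizer_iff.1 hv2 _ h1
    calc q * (h * v * h⁻¹) = h * (h⁻¹ * q * h * v) * h⁻¹ := by group
      _ = h * (v * (h⁻¹ * q * h)) * h⁻¹ := by rw [h2]
      _ = h * v * h⁻¹ * q := by group
  have hVc : ∀ x ∈ V, ∀ y ∈ V, x * y = y * x := by
    rintro a ⟨ha, -⟩ b ⟨-, hb⟩
    exact Subgroup.mem_centralizer_iff.1 hb a ha
  have hex : ∃ A ∈ MA 0 T, ¬ A ≤ Q := by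
    by_contra hcon
    push Not at hcon
    have h1 : JA T ≤ Q := sSup_le hcon
    have h2 := JA_eq_of_le h1 hQS
    apply hn
    rw [← h2]
    intro h hh
    have h3 : Q.map (MulAut.conj h).toMonoidHom = Q := Core.map_conj_eq_iff.2 (hQn hh)
    have h4 := JA_map (MulAut.conj h).toMonoidHom (MulAut.conj h).injective Q
    rw [h3] at h4
    exact Core.map_conj_eq_iff.1 h4.symm
  obtain ⟨A, hA, hAQ, hVA⟩ := exists_quadratic (p := p) (S := T) (Q := Q) (V := V) hTp ((inf_le_left : V ≤ Q).trans hQS) hVc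
    (fun x hx y hy => (Subgroup.mem_centralizer_iff.1 hx.2 y hy).symm) (hTH.trans hVn) hex
  obtain ⟨g, hgA, hgQ⟩ := SetLike.not_le_iff_exists.1 hAQ
  refine ⟨g, hA.1 hgA, hgQ, ?_⟩
  have hle : ⁅V, Subgroup.zpowers g⁆ ≤ V ⊓ A := by
    rw [Subgroup.commutator_le]
    rintro v hv z hz
    have hzA : z ∈ A := (Subgroup.zpowers_le.2 hgA) hz
    rw [commutatorElement_def]
    refine ⟨?_, ?_⟩
    · have h1 := (Subgroup.mem_normalizer_iff.1 (hVn (hTH (hA.1 hzA))) v⁻¹).1 (V.inv_mem hv)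
      have h2 := V.mul_mem hv h1
      have e : v * (z * v⁻¹ * z⁻¹) = v * z * v⁻¹ * z⁻¹ := by group
      rw [e] at h2
      exact h2
    · exact A.mul_mem ((Subgroup.mem_normalizer_iff.1 (hVA hv) z).1 hzA) (A.inv_mem hzA)
  rw [eq_bot_iff, Subgroup.commutator_le]
  intro v hv z hz
  rw [Subgroup.mem_bot, commutatorElement_eq_one_iff_mul_comm]
  exact CfsgLib.PL1.comm_of hA.2.1.1 (hle hv).2 ((Subgroup.zpowers_le.2 hgA) hz)

theorem JA_loc' {p : ℕ} [hp : Fact p.Prime] (hp2 : p ≠ 2) (H T : Subgroup G) (hTH : T ≤ H) (hTp : IsPGroup p ↥T) (hTi : ¬ p ∣ (T).relIndex (H))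
    (hn : ¬ H ≤ Subgroup.normalizer ((JA T : Subgroup G) : Set G)) :
      ∃ g : G, g ∈ T ∧ g ∉ Cfsg.pCoreOf p H ∧ ∀ U V : Subgroup ↥H, Cfsg.IsChiefFactor U V →
        U.map H.subtype ≤ Cfsg.pCoreOf p H ⊓ Subgroup.centralizer ((Cfsg.pCoreOf p H : Subgroup G) : Set G) →
        Cfsg.iterCommutator (U.map H.subtype) (Subgroup.zpowers g) (p - 1) ≤ V.map H.subtype := by
  obtain ⟨g, h1, h2, h3⟩ := JA_loc H T hTH hTp hTi hn
  refine ⟨g, h1, h2, fun U V hUV hU => ?_⟩
  have hgH := hTH h1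
  have h4 : Cfsg.iterCommutator (U.map H.subtype) (Subgroup.zpowers g) 2 ≤ ⊥ := by
    rw [← h3]
    exact Subgroup.commutator_mono (Subgroup.commutator_mono hU le_rfl) le_rfl
  have h5 : Subgroup.zpowers g ≤ Subgroup.normalizer ((U.map H.subtype : Subgroup G) : Set G) := by
    rw [Subgroup.zpowers_le]
    apply CfsgLib.H7Basic.mem_normalizer_of_conj_mem
    rintro _ ⟨y, hy, rfl⟩
    exact ⟨⟨g, hgH⟩ * y * ⟨g, hgH⟩⁻¹, hUV.2.1.conj_mem y hy _, rfl⟩
  have h6 : 2 ≤ p - 1 := by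
    have := hp.out.two_le
    omega
  exact ((CfsgLib.ChiefP.iter_anti h5 h6).trans h4).trans bot_le

/-- a `WCA` statement gives weak closure of an element -/
theorem elem_of_wca {W : Subgroup G → Subgroup G} {p k : ℕ} {S : Subgroup G} {x : G} (hx : x ∈ ZP k S)
    (hxN : Subgroup.normalizer ((W S : Subgroup G) : Set G) ≤ Subgroup.normalizer ({x} : Set G))
    (h : WCA W k ({x} : Set G) ⊤ S) : ∀ g : G, g * x * g⁻¹ ∈ S → g * x * g⁻¹ = x := by
  intro g hg
  have key := h (by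
    intro a ha
    rw [Set.mem_singleton_iff] at ha
    rw [ha]; exact hx) (inf_le_right.trans hxN) g trivial (by
      intro a ha
      rw [Set.mem_singleton_iff] at ha
      subst ha
      exact hg)
  have := mem_normalizer_conj key (Set.mem_singleton x)
  simpa using this

/-- S2799 -/
theorem s2799 {p : ℕ} [hp : Fact p.Prime] (S : Sylow p G) (x : G) (hxS : x ∈ (S : Subgroup G))
    (hxZ : x ∈ (Subgroup.center ↥(Subgroup.normalizer ((JA (S : Subgroup G)) : Set G))).map (Subgroup.normalizer ((JA (S : Subgroup G)) : Set G)).subtype)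
    (h : p ≠ 2 ∨ (∃ z ∈ (S : Subgroup G) ⊓ Subgroup.centralizer ((S : Subgroup G) : Set G), z ^ p = x) ∨ ¬ Cfsg.Involves (Equiv.Perm (Fin 4)) G) :
    ∀ g : G, g * x * g⁻¹ ∈ (S : Subgroup G) → g * x * g⁻¹ = x := by
  obtain ⟨⟨x', hx'⟩, hxc, rfl⟩ := hxZ
  simp only [Subgroup.coe_subtype] at hxS h ⊢
  have hxN : ∀ n ∈ Subgroup.normalizer ((JA (S : Subgroup G)) : Set G), n * x' = x' * n := by
    intro n hn
    exact congrArg Subtype.val (Subgroup.mem_center_iff.1 hxc ⟨n, hn⟩)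
  have hSN : (S : Subgroup G) ≤ Subgroup.normalizer ((JA (S : Subgroup G)) : Set G) :=
    le_normalizer_functor (p := p) JA_conj S.isPGroup'
  have hxN' : Subgroup.normalizer ((JA (S : Subgroup G)) : Set G) ≤ Subgroup.normalizer ({x'} : Set G) := by
    refine le_trans ?_ le_normalizer_of_centralizer
    intro n hn
    refine Subgroup.mem_centralizer_iff.2 ?_
    intro a ha
    rw [Set.mem_singleton_iff] at ha
    subst ha
    exact (hxN n hn).symm
  have hxZS : x' ∈ (S : Subgroup G) ⊓ Subgroup.centralizer ((S : Subgroup G) : Set G) := by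
    refine ⟨hxS, ?_⟩
    refine Subgroup.mem_centralizer_iff.2 ?_
    intro s hs
    exact hxN s (hSN hs)
  have hSs : IsSyl p (S : Subgroup G) ⊤ := isSyl_top_iff.2 ⟨S, rfl⟩
  by_cases hp2 : p = 2
  · rcases h with h | h | h
    · exact absurd hp2 h
    · obtain ⟨z, hz, hzx⟩ := h
      refine elem_of_wca (W := JA) (p := p) (k := p) ⟨z, hz, hzx⟩ hxN' ?_
      exact wcp JA_conj JA_center JA_loc hSs
    · subst hp2
      refine elem_of_wca (W := JA) (p := 2) (k := 1) (by rw [ZP_one]; exact hxZS) hxN' ?_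
      exact wca_two h hSs
  · have h1 := wce (p := p) JA_conj JA_center (JA_loc' hp2) (⊤ : Subgroup G)
    obtain ⟨-, T, hT1, hT2, hT3, hT4⟩ := h1
    have hT : IsSyl p T ⊤ := isSyl_iff.2 ⟨hT1, hT2, hT3⟩
    obtain ⟨T', hT'⟩ := isSyl_top_iff.1 hT
    obtain ⟨k, hk⟩ := MulAction.exists_smul_eq G S T'
    have hTS : T = MulAut.conj k • (S : Subgroup G) := by
      rw [← hT', ← hk]; rfl
    -- transport to `T`
    intro g hg
    have hJT : JA T = MulAut.conj k • JA (S : Subgroup G) := by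
      rw [hTS]; exact (JA_map (MulAut.conj k).toMonoidHom (MulAut.conj k).injective _)
    have h2 := hT4 (k * x' * k⁻¹) ⟨by rw [hTS]; exact conj_mem_smul hxS, ?_⟩ (k * g * k⁻¹) trivial (by
      rw [hTS]
      have := conj_mem_smul (g := k) hg
      convert this using 1
      group)
    · have h3 : k * (g * x' * g⁻¹) * k⁻¹ = k * x' * k⁻¹ := by
        calc k * (g * x' * g⁻¹) * k⁻¹ = k * g * k⁻¹ * (k * x' * k⁻¹) * (k * g * k⁻¹)⁻¹ := by group
          _ = k * x' * k⁻¹ := h2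
      calc g * x' * g⁻¹ = k⁻¹ * (k * (g * x' * g⁻¹) * k⁻¹) * k := by group
        _ = k⁻¹ * (k * x' * k⁻¹) * k := by rw [h3]
        _ = x' := by group
    · refine Subgroup.mem_centralizer_iff.2 ?_
      rintro n ⟨-, hn⟩
      have h3 : k⁻¹ * n * k ∈ Subgroup.normalizer ((JA (S : Subgroup G)) : Set G) := by
        have hn' : n ∈ Subgroup.normalizer ((MulAut.conj k • JA (S : Subgroup G) : Subgroup G) : Set G) := by
          rw [← hJT]; exact hn
        rw [← smul_normalizer] at hn'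
        exact mem_smul.1 hn'
      have h4 := hxN _ h3
      calc n * (k * x' * k⁻¹) = k * ((k⁻¹ * n * k) * x') * k⁻¹ := by group
        _ = k * (x' * (k⁻¹ * n * k)) * k⁻¹ := by rw [h4]
        _ = k * x' * k⁻¹ * n := by group

end Global

end CfsgLib.WC2
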