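import Cfsg.Agent.Lib.FusionNil6
import Cfsg.Agent.Lib.WC2Main
/-!
Control of centers, section-free version.
-/
set_option autoImplicit false
set_option maxHeartbeats 400000

namespace CfsgLib.Fusion

open Cfsg Cfsg.FusionSystem CfsgLib.SylowIn CfsgLib.StronglyEmb

universe u

variable {p : ℕ} [Fact p.Prime]

/-- Control of centers. -/
theorem control_center' (m : ℕ) {c : Prop} {H : Type*} [Group H] {W : ∀ (Q : Type u) [Group Q], Subgroup Q}
    (hW2 : ∀ (Q R : Type u) [Group Q] [Group R] [Finite Q], IsPGroup p Q → ∀ φ : Q ≃* R,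
      (W Q).map φ.toMonoidHom = W R)
    (hWZ : ∀ (Q : Type u) [Group Q] [Finite Q], IsPGroup p Q → Subgroup.center Q ≤ W Q)
    (hcon : ∀ (G : Type u) [Group G] [Finite G] (P : Sylow p G), (c ∨ ¬ Cfsg.Involves H G) →
      Subgroup.centralizer ((pCore p G : Subgroup G) : Set G) ≤ pCore p G →
      ∀ z₀ : G, z₀ ∈ (P : Subgroup G) → (∀ g ∈ (P : Subgroup G), z₀ * g = g * z₀) →
      (∀ g ∈ Subgroup.normalizer (((W ↥(P : Subgroup G)).map (P : Subgroup G).subtype :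
        Subgroup G) : Set G), g * z₀ ^ m = z₀ ^ m * g) → ∀ g, g * z₀ ^ m = z₀ ^ m * g)
    {Ω : Type u} [Group Ω] {S : Subgroup Ω} [Finite S] (hS : IsPGroup p S) {F : FusionSystem S}
    (hF : F.IsSaturated p) (hfree : c ∨ F.IsSectionFree p H) {Z : Subgroup Ω} (hZS : Z ≤ S)
    (hZ : ∀ z ∈ Z, ∃ z₀ ∈ S, (∀ s ∈ S, z₀ * s = s * z₀) ∧ z = z₀ ^ m)
    (hwS : ∀ f, FMap F (wS W S) f → img (wS W S) f = wS W S → ∀ z ∈ Z, f z = z) :
    F.IsCentral Z := by
  have hpP : ∀ P : Subgroup Ω, P ≤ S → IsPGroup p P := fun P hP => hS.to_le hP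
  have hZc : ∀ z ∈ Z, ∀ s ∈ S, z * s = s * z := by
    intro z hz s hs
    obtain ⟨z₀, -, h2, rfl⟩ := hZ z hz
    have : Commute z₀ s := h2 s hs
    exact (this.pow_left m)
  refine center_machine hS hF hZS hZc (wS W) (fun P _ => wS_le W P) ?_ ?_ hwS ?_
  · intro P hP z hz
    obtain ⟨z₀, h1, h2, rfl⟩ := hZ z hz
    have hz₀P : z₀ ∈ P := IsCentric.mem_of_comm hP h1 h2
    have hfP : Finite P := finite_of_le hP.1
    apply Subgroup.pow_mem
    refine ⟨⟨z₀, hz₀P⟩, hWZ ↥P (hpP P hP.1) ?_, rfl⟩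
    rw [Subgroup.mem_center_iff]
    intro g
    exact Subtype.ext (h2 g (hP.1 g.2)).symm
  · intro P hP f hf
    have hfP : Finite P := finite_of_le hP.1
    exact wS_img hW2 (hpP P hP.1) hf
  · intro Q hQ hQn h f hf hfQ z hz
    have hNS : normalizerIn S Q ≤ S := inf_le_left
    have hNf : Finite (normalizerIn S Q) := finite_of_le hNS
    have hNp := hpP _ hNS
    obtain ⟨L, _, ι, hL, -⟩ := exists_model (F := normSys F Q hQ.1) hNp
      (normSys_saturated hS hF hQn) (isNormal_normSys hQ.1) (isCentric_normSys hQ)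
    obtain ⟨hLf, hreal, ⟨T, hT⟩, hLC⟩ := id hL
    obtain ⟨z₀, hz1, hz2, rfl⟩ := hZ z hz
    have hz₀N : z₀ ∈ normalizerIn S Q := by
      apply centralizerIn_le_normalizerIn
      exact mem_centralizerIn.2 ⟨hz1, fun y hy => hz2 y (hQ.1 hy)⟩
    have hz₀Q : z₀ ∈ Q := IsCentric.mem_of_comm hQ hz1 hz2
    have hW := wS_hom hW2 hNp hreal.1 hT
    have hcomm := hcon L T (hfree.imp id fun h => (sectionFree_iff.1 h) Q hQn hQ L ι hL) hLC (ι ⟨z₀, hz₀N⟩) (by rw [hT]; exact ⟨_, rfl⟩) (by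
      intro g hg
      rw [hT] at hg
      obtain ⟨s, rfl⟩ := hg
      rw [← map_mul, ← map_mul]
      congr 1
      exact Subtype.ext (hz2 s (hNS s.2))) (by
      intro g hg
      rw [hW] at hg
      have hwN : wS W (normalizerIn S Q) ≤ normalizerIn S Q := wS_le W _
      have hg' : ∀ x (hx : x ∈ wS W (normalizerIn S Q)), ∃ y, ∃ hy : y ∈ wS W (normalizerIn S Q),
          g * ι ⟨x, hwN hx⟩ * g⁻¹ = ι ⟨y, hwN hy⟩ := by
        intro x hx
        have h1 : ι ⟨x, hwN hx⟩ ∈ (W ↥(normalizerIn S Q)).map ι := by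
          refine ⟨⟨x, hwN hx⟩, ?_, rfl⟩
          rw [← wS_subgroupOf W]
          exact hx
        obtain ⟨y, hy, hyx⟩ := (Subgroup.mem_normalizer_iff.1 hg _).1 h1
        refine ⟨y, ⟨y, hy, rfl⟩, hyx.symm⟩
      obtain ⟨k, hk, hkι⟩ := IsRealizedBy.exists_FMap hreal hwN g fun x hx => by
        obtain ⟨y, hy, hxy⟩ := hg' x hx
        exact ⟨y, hwN hy, hxy⟩
      have hkF := (FMap_normSys.1 hk).1
      have hwf : Finite (wS W (normalizerIn S Q)) := finite_of_le hwN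
      have hkw : img (wS W (normalizerIn S Q)) k = wS W (normalizerIn S Q) := by
        apply hk.img_eq_of_mapsTo
        intro x hx
        obtain ⟨y, hy, hxy⟩ := hg' x hx
        have h1 := hkι x hx (hk.mapsTo hx)
        rw [hxy] at h1
        have h2 : k x = y := congrArg Subtype.val (hreal.1 h1)
        rw [h2]; exact hy
      have h3 := h k hkF hkw _ hz
      have hzw : z₀ ^ m ∈ wS W (normalizerIn S Q) := by
        apply Subgroup.pow_mem
        refine ⟨⟨z₀, hz₀N⟩, hWZ _ hNp ?_, rfl⟩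
        rw [Subgroup.mem_center_iff]
        intro g
        exact Subtype.ext (hz2 g (hNS g.2)).symm
      have h4 := hkι _ hzw (hk.mapsTo hzw)
      have h5 : (⟨k (z₀ ^ m), hk.mapsTo hzw⟩ : normalizerIn S Q) = (⟨z₀, hz₀N⟩ : normalizerIn S Q) ^ m :=
        Subtype.ext h3
      have h6 : (⟨z₀ ^ m, hwN hzw⟩ : normalizerIn S Q) = (⟨z₀, hz₀N⟩ : normalizerIn S Q) ^ m := rfl
      rw [h5, h6, map_pow] at h4
      rw [eq_mul_inv_iff_mul_eq] at h4
      exact h4.symm)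
    have hfN := FMap_normSys_of_le (hQ := hQ.1) hf le_rfl (le_normalizerIn hQ.1) hfQ
    obtain ⟨g, hg⟩ := ((isRealizedBy_iff.1 hreal).2 Q (le_normalizerIn hQ.1) f
      (fun x hx => hfN.mapsTo hx)).1 hfN
    have hzQ : z₀ ^ m ∈ Q := Q.pow_mem hz₀Q m
    have h1 := hg _ hzQ
    have h2 : (⟨z₀ ^ m, le_normalizerIn hQ.1 hzQ⟩ : normalizerIn S Q) =
      (⟨z₀, hz₀N⟩ : normalizerIn S Q) ^ m := rfl
    have h3 : g * (ι ⟨z₀, hz₀N⟩) ^ m * g⁻¹ = (ι ⟨z₀, hz₀N⟩) ^ m := by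
      rw [hcomm g]; group
    rw [h2, map_pow, h3, ← map_pow, ← h2] at h1
    exact congrArg Subtype.val (hreal.1 h1)


theorem WJ2 : ∀ (Q R : Type u) [Group Q] [Group R] [Finite Q], IsPGroup p Q → ∀ φ : Q ≃* R,
    (CfsgLib.JA.WJ Q).map φ.toMonoidHom = CfsgLib.JA.WJ R := by
  intro Q R _ _ _ hQ φ
  exact (CfsgLib.JA.isCharPFunctor p).2 Q R hQ φ

theorem weak_to_central {G : Type u} [Group G] [Finite G] (P : Sylow p G)
    (hG : Subgroup.centralizer ((pCore p G : Subgroup G) : Set G) ≤ pCore p G) {z₀ : G}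
    (hz₀c : ∀ g ∈ (P : Subgroup G), z₀ * g = g * z₀) {m : ℕ}
    (hz₀N : ∀ g ∈ Subgroup.normalizer (((CfsgLib.JA.WJ ↥(P : Subgroup G)).map
      (P : Subgroup G).subtype : Subgroup G) : Set G), g * z₀ ^ m = z₀ ^ m * g)
    (h : p ≠ 2 ∨ (∃ z ∈ (P : Subgroup G) ⊓ Subgroup.centralizer ((P : Subgroup G) : Set G),
      z ^ p = z₀ ^ m) ∨ ¬ Cfsg.Involves (Equiv.Perm (Fin 4)) G) :
    ∀ g, g * z₀ ^ m = z₀ ^ m * g := by
  have h1 : z₀ ∈ pCore p G := by
    apply hG
    rw [Subgroup.mem_centralizer_iff]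
    intro x hx
    exact (hz₀c x (StronglyEmb.pCore_le_sylow P hx)).symm
  have h1m : z₀ ^ m ∈ pCore p G := Subgroup.pow_mem _ h1 m
  have hc : ∀ g ∈ (P : Subgroup G), z₀ ^ m * g = g * z₀ ^ m := fun g hg =>
    (show Commute z₀ g from hz₀c g hg).pow_left m
  have hN : z₀ ^ m ∈ Subgroup.normalizer ((CfsgLib.JA.JA (P : Subgroup G) : Subgroup G) : Set G) := by
    rw [Subgroup.mem_normalizer_iff]
    intro x
    constructor
    · intro hx
      have h2 := hc x (CfsgLib.JA.JA_le _ hx)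
      rw [h2, mul_inv_cancel_right]; exact hx
    · intro hx
      have h2 := hc _ (CfsgLib.JA.JA_le _ hx)
      have h3 : z₀ ^ m * x * (z₀ ^ m)⁻¹ = x := by
        have : z₀ ^ m * (z₀ ^ m * x * (z₀ ^ m)⁻¹) = z₀ ^ m * x := by rw [h2]; group
        exact mul_left_cancel this
      rwa [h3] at hx
  have hJ : (CfsgLib.JA.WJ ↥(P : Subgroup G)).map (P : Subgroup G).subtype =
    CfsgLib.JA.JA (P : Subgroup G) := CfsgLib.JA.map_eq _
  rw [hJ] at hz₀N
  have hw := CfsgLib.WC2.s2799 P (z₀ ^ m) (StronglyEmb.pCore_le_sylow P h1m)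
    ⟨⟨z₀ ^ m, hN⟩, by
      rw [SetLike.mem_coe, Subgroup.mem_center_iff]
      intro g
      exact Subtype.ext (hz₀N g g.2), rfl⟩ h
  intro g
  have hn : (pCore p G : Subgroup G).Normal := CfsgLib.Core.pCore_normal p G
  have h2 := hw g (StronglyEmb.pCore_le_sylow P (hn.conj_mem _ h1m g))
  rw [mul_inv_eq_iff_eq_mul] at h2
  exact h2

/-- Glauberman's theorem, first part -/
theorem pow_center_J {Ω : Type u} [Group Ω] {S : Subgroup Ω} [Finite S] (hS : IsPGroup p S)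
    (F : FusionSystem S) (hF : F.IsSaturated p) (m : ℕ) (hm : m = p ∨ (p ≠ 2 ∨ F.IsSectionFree p (Equiv.Perm (Fin 4))))
    {z : Ω} (hz : z ∈ S) (hzc : ∀ s ∈ S, z * s = s * z)
    (hzN : z ^ m ∈ (normSys F (wS CfsgLib.JA.WJ S) (wS_le _ S)).center) : z ^ m ∈ F.center := by
  have hNf : Finite (normalizerIn S (wS CfsgLib.JA.WJ S)) := finite_of_le inf_le_left
  have hZ := isCentral_center (normSys F (wS CfsgLib.JA.WJ S) (wS_le _ S))
  have hZS : Subgroup.zpowers (z ^ m) ≤ S := by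
    rw [Subgroup.zpowers_le]; exact S.pow_mem hz m
  have key : F.IsCentral (Subgroup.zpowers (z ^ m)) := by
    refine control_center' (c := m = p ∨ p ≠ 2) (H := Equiv.Perm (Fin 4)) m WJ2
      (fun Q _ _ _ => center_le_J) ?_ hS hF (by tauto) hZS ?_ ?_
    · intro G _ _ P hfr hG z₀ hz₀ hz₀c hz₀N
      refine weak_to_central P hG hz₀c hz₀N ?_
      rcases hfr with (h | h) | h
      · right; left
        refine ⟨z₀, ⟨hz₀, Subgroup.mem_centralizer_iff.2 fun x hx => (hz₀c x hx).symm⟩, ?_⟩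
        rw [h]
      · exact Or.inl h
      · exact Or.inr (Or.inr h)
    · rintro _ ⟨k, rfl⟩
      refine ⟨z ^ k, S.zpow_mem hz k, fun s hs => ?_, ?_⟩
      · exact (show Commute z s from hzc s hs).zpow_left k
      · show (z ^ m) ^ k = (z ^ k) ^ m
        rw [← zpow_natCast, ← zpow_natCast, ← zpow_mul, ← zpow_mul, mul_comm]
    · intro f hf hfw z' hz'
      have hfN := FMap_normSys_of_le (hQ := wS_le CfsgLib.JA.WJ S) hf le_rfl
        (le_normalizerIn (wS_le _ S)) hfw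
      have hz2 : z' ∈ (normSys F (wS CfsgLib.JA.WJ S) (wS_le _ S)).center :=
        (Subgroup.zpowers_le.2 hzN) hz'
      refine IsCentral.fix hZ hfN hz2 ?_
      obtain ⟨k, rfl⟩ := hz'
      refine ⟨⟨(z ^ m) ^ k, S.zpow_mem (S.pow_mem hz m) k⟩, center_le_J ?_, rfl⟩
      rw [Subgroup.mem_center_iff]
      intro g
      refine Subtype.ext ?_
      exact (((show Commute z g from hzc g g.2).pow_left m).zpow_left k).symm
  exact (show Subgroup.zpowers (z ^ m) ≤ F.center from le_sSup key) (Subgroup.mem_zpowers _)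

end CfsgLib.Fusion
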