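import Cfsg.Agent.Lib.FusionCrit
import Cfsg.Agent.Lib.FusionInn
import Cfsg.Agent.Lib.FusionNil3
import Cfsg.Agent.Lib.FusionExt2
import Cfsg.Agent.Lib.FusionMach

/-!
Generation by `p`-prime automorphisms; passing to centralizers.
-/
set_option autoImplicit false
set_option maxHeartbeats 400000

namespace CfsgLib.Fusion

open Cfsg Cfsg.FusionSystem CfsgLib.SylowIn

section
variable {Ω : Type*} [Group Ω] {S : Subgroup Ω}

/-- working form of radicality. -/
def RadW (F : FusionSystem S) (p : ℕ) (P : Subgroup Ω) : Prop :=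
  ∀ D : Subgroup (MulAut P), D ≤ F.autGroup P → IsPGroup p D →
    (∀ α ∈ F.autGroup P, ∀ β ∈ D, α * β * α⁻¹ ∈ D) → D ≤ Inn P

theorem radW_of {F : FusionSystem S} {p : ℕ} {P : Subgroup Ω} (h : F.IsRadical p P) : RadW F p P :=
  fun _ h1 h2 h3 => le_inn_of_radical h h1 h2 h3

theorem RadW.img {F : FusionSystem S} {p : ℕ} {P : Subgroup Ω} (h : RadW F p P) {f : Ω → Ω}
    (hf : FMap F P f) : RadW F p (img P f) := by
  obtain ⟨e, he⟩ := hf.exists_equiv rfl
  have hmap := map_autGroup hf e he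
  intro D hD hDp hDn
  let c : MulAut P ≃* MulAut ↥(CfsgLib.Fusion.img P f) := MulAut.congr e
  have hcA : ∀ α, α ∈ F.autGroup P ↔ c α ∈ F.autGroup (CfsgLib.Fusion.img P f) := by
    intro α
    rw [← hmap]
    constructor
    · intro hα; exact ⟨α, hα, rfl⟩
    · rintro ⟨β, hβ, hβα⟩
      have : β = α := c.injective hβα
      rwa [← this]
  have hle := h (D.comap c.toMonoidHom) (fun α hα => (hcA α).2 (hD hα))
    (hDp.comap_of_injective c.toMonoidHom c.injective) (fun α hα β hβ => by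
      show c (α * β * α⁻¹) ∈ D
      rw [map_mul, map_mul, map_inv]
      exact hDn _ ((hcA α).1 hα) _ hβ)
  intro β hβ
  have h1 : c.symm β ∈ D.comap c.toMonoidHom := by
    show c (c.symm β) ∈ D
    rw [MulEquiv.apply_symm_apply]; exact hβ
  obtain ⟨z, hz⟩ := hle h1
  refine ⟨e z, ?_⟩
  have h2 : β = c (c.symm β) := (MulEquiv.apply_symm_apply c β).symm
  rw [h2, ← hz]
  ext x
  simp [c, MulAut.congr]

theorem mem_of_stab' {F : FusionSystem S} [Finite S] {p : ℕ} [Fact p.Prime] (hS : IsPGroup p S)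
    {P : Subgroup Ω} (hPc : F.IsCentric P) (hPr : RadW F p P) (n : ℕ) (B : ℕ → Subgroup Ω)
    (h0 : B 0 = ⊥) (hn : P ≤ B n)
    (hB : ∀ i ≤ n, ∀ α ∈ F.autGroup P, ∀ x : P, (x : Ω) ∈ B i → (α x : Ω) ∈ B i) {b : Ω}
    (hb : b ∈ normalizerIn S P)
    (hbB : ∀ i < n, ∀ x ∈ P, x ∈ B (i + 1) → x⁻¹ * (b * x * b⁻¹) ∈ B i) : b ∈ P := by
  have hPS := hPc.1
  have hCP : centralizerIn S P ≤ P := hPc.2 P (isConj_refl hPS)
  have hle := hPr (stabD F P n B hB) (fun α hα => (mem_stabD.1 hα).1) (stabD_isPGroup hS hPc.1 h0 hn)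
    stabD_normal
  have hmem : conjAut P b hb.2 ∈ stabD F P n B hB :=
    ⟨autInducedBy_le_autGroup F hPc.1 (conjAut_mem_autInducedBy hb.1 hb.2),
      fun i hi x hx => hbB i hi x x.2 hx⟩
  obtain ⟨z, hz⟩ := hle hmem
  have h2 : (z : Ω)⁻¹ * b ∈ centralizerIn S P := by
    rw [mem_centralizerIn]
    refine ⟨S.mul_mem (S.inv_mem (hPS z.2)) hb.1, fun y hy => ?_⟩
    have h3 : ((MulAut.conj z : MulAut P) ⟨y, hy⟩ : Ω) = (conjAut P b hb.2 ⟨y, hy⟩ : P) := by
      rw [hz]
    have h4 : (z : Ω) * y * (z : Ω)⁻¹ = b * y * b⁻¹ := h3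
    calc (z : Ω)⁻¹ * b * y = (z : Ω)⁻¹ * (b * y * b⁻¹) * b := by group
      _ = (z : Ω)⁻¹ * ((z : Ω) * y * (z : Ω)⁻¹) * b := by rw [h4]
      _ = y * ((z : Ω)⁻¹ * b) := by group
  have := P.mul_mem z.2 (hCP h2)
  rwa [mul_inv_cancel_left] at this

theorem exists_mem_normalizer' {p : ℕ} [Fact p.Prime] [Finite S] (hS : IsPGroup p S) {P R : Subgroup Ω}
    (hPS : P ≤ S) (hRS : R ≤ S) (hR : ∀ s ∈ P, ∀ x ∈ R, s * x * s⁻¹ ∈ R) (h : ¬ R ≤ P) :
    ∃ b ∈ R, b ∈ normalizerIn S P ∧ b ∉ P := by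
  have : Finite P := finite_of_le hPS
  have hlt : P < P ⊔ R := left_lt_sup.2 h
  have hPQS : P ⊔ R ≤ S := sup_le hPS hRS
  have hPN : P < (P ⊔ R) ⊓ normalizerIn S P := lt_inf_normalizerIn hS hlt hPQS
  have hnorm : P ≤ Subgroup.normalizer (R : Set Ω) := by
    have : Finite R := finite_of_le hRS
    intro y hy
    exact mem_normalizer_of_conj_mem fun z hz => hR y hy z hz
  obtain ⟨g, hg, hgP⟩ := SetLike.exists_of_lt hPN
  have hx' : g ∈ ((P ⊔ R : Subgroup Ω) : Set Ω) := hg.1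
  rw [Subgroup.coe_mul_of_left_le_normalizer_right _ _ hnorm] at hx'
  obtain ⟨a, ha, b, hb, hab⟩ := hx'
  refine ⟨b, hb, ?_, fun hbP => hgP ?_⟩
  · have h1 : b = a⁻¹ * g := by rw [← hab]; simp
    rw [h1]
    exact (normalizerIn S P).mul_mem ((normalizerIn S P).inv_mem (le_normalizerIn hPS ha)) hg.2
  · rw [← hab]; exact P.mul_mem ha hbP

/-- generation by the maps of `p`-prime order on `S` and the essential subgroups. -/
theorem alperin_pprime {F : FusionSystem S} [Finite S] {p : ℕ} [Fact p.Prime]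
    (hS : IsPGroup p S) (hF : F.IsSaturated p) (E : FusionSystem S)
    (hE : ∀ P : Subgroup Ω, (P = S ∨ F.IsEssential p P) → ∀ α ∈ F.autGroup P,
      (orderOf α).Coprime p → FMap E P (aext α)) : F ≤ E := by
  apply alperin hS hF
  intro Q hQ
  have hQS : Q ≤ S := by
    rcases hQ with rfl | hQ
    · exact le_rfl
    · exact hQ.1.1
  have hQn : F.IsFullyNormalized Q := by
    rcases hQ with rfl | hQ
    · refine ⟨le_rfl, fun R hR => ?_⟩
      have : normalizerIn Q Q = Q := le_antisymm inf_le_left (le_normalizerIn le_rfl)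
      rw [this]
      exact card_le_of_le inf_le_left
    · exact hQ.2.1
  have hQf : Finite Q := finite_of_le hQS
  have := finite_autGroup F Q
  obtain ⟨-, R, hR⟩ := (Saturated.of_fullyNormalized hS hF hQn).1
  have htop := CfsgLib.Transfer.sup_pResidual R
  have h1 : (R : Subgroup (F.autGroup Q)) ≤ (E.autGroup Q).subgroupOf (F.autGroup Q) := by
    rw [hR]
    intro α hα
    exact autInducedBy_le_autGroup E hQS hα
  have h2 : pResidual p (F.autGroup Q) ≤ (E.autGroup Q).subgroupOf (F.autGroup Q) := by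
    unfold pResidual
    rw [Subgroup.closure_le]
    intro α hα
    have hα' : (orderOf α).Coprime p := hα
    rw [← Subgroup.orderOf_coe] at hα'
    exact (mem_autGroup_iff' hQS _).2 (hE Q hQ α α.2 hα')
  have h3 : (⊤ : Subgroup (F.autGroup Q)) ≤ (E.autGroup Q).subgroupOf (F.autGroup Q) := by
    rw [← htop]; exact sup_le h1 h2
  intro α hα
  exact h3 (Subgroup.mem_top (⟨α, hα⟩ : F.autGroup Q))

/-- centralizers of a normal abelian subgroup in centric radical subgroups are centric. -/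
theorem centric_centralizer {F : FusionSystem S} [Finite S] {p : ℕ} [Fact p.Prime]
    (hS : IsPGroup p S) (hF : F.IsSaturated p) {B : Subgroup Ω} (hB : F.IsNormal B)
    (hBab : ∀ x ∈ B, ∀ y ∈ B, x * y = y * x) {Q : Subgroup Ω} (hQc : F.IsCentric Q)
    (hQr : RadW F p Q) (hBQ : B ≤ Q) : F.IsCentric (Q ⊓ centralizerIn S B) := by
  have hQS := hQc.1
  have hBS := hB.1
  set Q₀ := Q ⊓ centralizerIn S B with hQ₀
  have hQ₀S : Q₀ ≤ S := inf_le_left.trans hQS
  have hBsc := IsNormal.stronglyClosed hB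
  have hCn : ∀ s ∈ S, ∀ x ∈ centralizerIn S B, s * x * s⁻¹ ∈ centralizerIn S B := by
    intro s hs x hx
    rw [mem_centralizerIn] at hx ⊢
    refine ⟨S.mul_mem (S.mul_mem hs hx.1) (S.inv_mem hs), fun y hy => ?_⟩
    have h1 : s⁻¹ * y * s⁻¹⁻¹ ∈ B := StronglyClosed.conj_mem hBsc (S.inv_mem hs) hy
    have h2 := hx.2 _ h1
    calc s * x * s⁻¹ * y = s * (x * (s⁻¹ * y * s⁻¹⁻¹)) * s⁻¹ := by group
      _ = s * ((s⁻¹ * y * s⁻¹⁻¹) * x) * s⁻¹ := by rw [h2]
      _ = y * (s * x * s⁻¹) := by group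
  have hQn : Q ≤ normalizerIn S Q₀ := by
    have : Finite Q₀ := finite_of_le hQ₀S
    intro g hg
    refine ⟨hQS hg, mem_normalizer_of_conj_mem fun x hx => ⟨Q.mul_mem (Q.mul_mem hg hx.1) (Q.inv_mem hg),
      hCn g (hQS hg) x hx.2⟩⟩
  obtain ⟨R, hR1, hR2⟩ := exists_fullyNormalized F hQ₀S
  obtain ⟨hRa, hRr⟩ := Saturated.of_fullyNormalized hS hF hR2
  obtain ⟨f, hf, hfR, -⟩ := exists_map_normalizer hS hRa hRr hR1
  have hfQ := hf.restrict hQn
  have hQ'c := IsCentric.img hQc hfQ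
  have hQ'r := RadW.img hQr hfQ
  set Q' := img Q f with hQ'
  have hQ'S : Q' ≤ S := hQ'c.1
  have hBf : img B f = B := StronglyClosed.img_eq hBsc hfQ hBQ
  have hReq : R = Q' ⊓ centralizerIn S B := by
    rw [← hfR]
    apply le_antisymm
    · rw [img_le_iff]
      intro x hx
      refine ⟨apply_mem_img hx.1, ?_⟩
      have := hfQ.map_centralizer hBQ hx.1 hx.2
      rwa [hBf] at this
    · rintro y ⟨hy, hyC⟩
      obtain ⟨x, hx, rfl⟩ := hfQ.mem_img.1 hy
      apply apply_mem_img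
      refine ⟨hx, ?_⟩
      replace hyC := mem_centralizerIn.1 hyC
      refine mem_centralizerIn.2 ⟨hQS hx, fun b hb => ?_⟩
      apply hfQ.injOn (Q.mul_mem hx (hBQ hb)) (Q.mul_mem (hBQ hb) hx)
      rw [hfQ.map_mul hx (hBQ hb), hfQ.map_mul (hBQ hb) hx]
      exact hyC.2 _ (StronglyClosed.map_mem hBsc hfQ (hBQ hb) hb)
  have hBR : B ≤ R := by
    rw [hReq]
    refine le_inf (by rw [← hBf]; exact img_mono hBQ) fun x hx => ?_
    rw [mem_centralizerIn]
    exact ⟨hBS hx, fun y hy => hBab x hx y hy⟩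
  have hRS : R ≤ S := hR2.1
  have hCRB : centralizerIn S R ≤ centralizerIn S B := by
    intro x hx
    rw [mem_centralizerIn] at hx ⊢
    exact ⟨hx.1, fun y hy => hx.2 y (hBR hy)⟩
  have hRn : ∀ s ∈ Q', ∀ x ∈ R, s * x * s⁻¹ ∈ R := by
    intro s hs x hx
    rw [hReq] at hx ⊢
    exact ⟨Q'.mul_mem (Q'.mul_mem hs hx.1) (Q'.inv_mem hs), hCn s (hQ'S hs) x hx.2⟩
  have hCQ' : centralizerIn S R ≤ Q' := by
    by_contra hcon
    obtain ⟨b, hb, hbN, hbQ⟩ := exists_mem_normalizer' hS hQ'S (inf_le_left : centralizerIn S R ≤ S) (by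
      intro s hs x hx
      replace hx := mem_centralizerIn.1 hx
      refine mem_centralizerIn.2 ⟨S.mul_mem (S.mul_mem (hQ'S hs) hx.1) (S.inv_mem (hQ'S hs)), fun y hy => ?_⟩
      have h1 : s⁻¹ * y * s⁻¹⁻¹ ∈ R := hRn _ (Q'.inv_mem hs) _ hy
      have h2 := hx.2 _ h1
      calc s * x * s⁻¹ * y = s * (x * (s⁻¹ * y * s⁻¹⁻¹)) * s⁻¹ := by group
        _ = s * ((s⁻¹ * y * s⁻¹⁻¹) * x) * s⁻¹ := by rw [h2]
        _ = y * (s * x * s⁻¹) := by group) hcon
    apply hbQ
    have hQ'f : Finite Q' := finite_of_le hQ'S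
    refine mem_of_stab' hS hQ'c hQ'r 2 (fun i => if i = 0 then ⊥ else if i = 1 then R else ⊤) (by simp) (by simp)
      ?_ hbN ?_
    · intro i hi α hα x hx
      have hi' : i = 0 ∨ i = 1 ∨ i = 2 := by omega
      have hαF := (mem_autGroup_iff' hQ'S α).1 hα
      rcases hi' with rfl | rfl | rfl
      · simp only [if_true, Subgroup.mem_bot] at hx ⊢
        have : x = 1 := Subtype.ext hx
        rw [this, map_one]; rfl
      · simp only [one_ne_zero, if_false, if_true] at hx ⊢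
        rw [hReq] at hx ⊢
        refine ⟨(α x).2, ?_⟩
        have h3 := hαF.map_centralizer (by rw [← hBf]; exact img_mono hBQ : B ≤ Q') x.2 hx.2
        rw [StronglyClosed.img_eq hBsc hαF (by rw [← hBf]; exact img_mono hBQ), aext_apply] at h3
        exact h3
      · simp
    · intro i hi x hx hxB
      have hi' : i = 0 ∨ i = 1 := by omega
      rcases hi' with rfl | rfl
      · simp only [zero_add, one_ne_zero, if_false, if_true] at hxB
        simp only [if_true, Subgroup.mem_bot]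
        rw [(mem_centralizerIn.1 hb).2 x hxB]
        group
      · simp only [one_ne_zero, if_false, if_true]
        rw [hReq]
        refine ⟨Q'.mul_mem (Q'.inv_mem hx) (conj_mem_of_mem_normalizer hbN.2 hx), ?_⟩
        have e : x⁻¹ * (b * x * b⁻¹) = (x⁻¹ * b * x⁻¹⁻¹) * b⁻¹ := by group
        rw [e]
        exact Subgroup.mul_mem _ (hCn _ (S.inv_mem (hQ'S hx)) b (hCRB hb)) (Subgroup.inv_mem _ (hCRB hb))
  have hCR : centralizerIn S R ≤ R := by
    intro x hx
    rw [hReq]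
    exact ⟨hCQ' hx, hCRB hx⟩
  have hRc : F.IsCentric R := Saturated.isCentric_of hS hF (Saturated.fullyCentralized_of_fullyNormalized hS hF hR2) hCR
  exact IsCentric.conj hRc (isConj_symm hR1)

end

end CfsgLib.Fusion
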