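import Cfsg.Agent.Lib.FusionPP
import Cfsg.Agent.Lib.FusionLocal

/-!
Detecting equality of saturated subsystems on normal abelian subgroups.
-/
set_option autoImplicit false
set_option maxHeartbeats 400000

namespace CfsgLib.Fusion

open Cfsg Cfsg.FusionSystem CfsgLib.SylowIn

section
variable {Ω : Type*} [Group Ω] {S : Subgroup Ω}

theorem innSys_le_of_cent {F E : FusionSystem S} [Finite S] {p : ℕ} [hp : Fact p.Prime]
    (hS : IsPGroup p S) (hF : F.IsSaturated p) (hE : E.IsSaturated p) (hEF : E ≤ F) {B : Subgroup Ω}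
    (hB : B ≤ S) (hN : normalizerIn S B = S) (hBab : ∀ x ∈ B, ∀ y ∈ B, x * y = y * x)
    (hC : ∀ P f, FMap (centSys F B hB) P f → FMap E P f) :
    innSys F B hB hN ≤ innSys E B hB hN := by
  have hF₁ := innSys_saturated hS hF hB hN
  have hE₁ := innSys_saturated hS hE hB hN
  have hle : innSys E B hB hN ≤ innSys F B hB hN := by
    rw [le_iff_FMap]
    intro P f hf
    rw [FMap_innSys] at hf ⊢
    obtain ⟨h1, g, h2, h3, h4⟩ := hf
    exact ⟨le_iff_FMap.1 hEF _ _ h1, g, le_iff_FMap.1 hEF _ _ h2, h3, h4⟩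
  have hBn : (innSys F B hB hN).IsNormal B := isNormal_innSys
  have hBf : Finite B := finite_of_le hB
  apply alperin_pprime hS hF₁
  intro Q hQ α hα hco
  have hQS : Q ≤ S := by
    rcases hQ with rfl | hQ
    · exact le_rfl
    · exact hQ.1.1
  have hQf : Finite Q := finite_of_le hQS
  have hQc : (innSys F B hB hN).IsCentric Q := by
    rcases hQ with rfl | hQ
    · exact isCentric_self _
    · exact hQ.1
  have hBQ : B ≤ Q := by
    rcases hQ with rfl | hQ
    · exact hB
    · exact IsNormal.le_of_centric_radical hS hBn hQ.1 (essential_isRadical hS hQ)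
  have hQ₀c : (innSys F B hB hN).IsCentric (Q ⊓ centralizerIn S B) := by
    rcases hQ with rfl | hQ
    · -- `C_S(B)`
      have hCle : Q ⊓ centralizerIn Q B = centralizerIn Q B := inf_eq_right.2 inf_le_left
      rw [hCle]
      refine Saturated.isCentric_of hS hF₁ ?_ ?_
      · refine ⟨inf_le_left, fun R hR => ?_⟩
        -- `C_S(B)` is normal (invariant) in the system, so its conjugates are itself
        have hRe : R = centralizerIn Q B := by
          obtain ⟨f, hf, rfl⟩ := FMap.isConj_iff.1 hR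
          have hfin : Finite (centralizerIn Q B) := finite_of_le inf_le_left
          apply hf.img_eq_of_mapsTo
          intro x hx
          obtain ⟨h1, g, h2, h3, s, hs, h4⟩ := FMap_innSys.1 hf
          have h5 := h2.map_centralizer (le_sup_right : B ≤ _) (le_sup_left (b := B) hx) hx
          have h6 : img B g = B := by
            apply (h2.restrict le_sup_right).img_eq_of_mapsTo
            intro y hy
            rw [h4 y hy]
            exact conj_mem_of_normalizerIn hN hs hy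
          rw [h6, h3 x hx] at h5
          exact h5
        rw [hRe]
      · intro x hx
        refine mem_centralizerIn.2 ⟨(mem_centralizerIn.1 hx).1, fun y hy => (mem_centralizerIn.1 hx).2 y ?_⟩
        exact mem_centralizerIn.2 ⟨hB hy, fun z hz => hBab y hy z hz⟩
    · exact centric_centralizer hS hF₁ hBn hBab hQc (radW_of (essential_isRadical hS hQ)) hBQ
  have hαF := (mem_autGroup_iff' hQS α).1 hα
  -- `α` fixes `B`
  have hαB : ∀ x ∈ B, aext α x = x := by
    obtain ⟨h1, g, h2, h3, s, hs, h4⟩ := FMap_innSys.1 hαF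
    have hαs : ∀ x ∈ B, aext α x = s * x * s⁻¹ := fun x hx => by rw [← h3 x (hBQ hx), h4 x hx]
    have hit : ∀ k : ℕ, ∀ x ∈ B, aext (α ^ k) x = s ^ k * x * (s ^ k)⁻¹ := by
      intro k
      induction k with
      | zero =>
        intro x hx
        rw [aext_of_mem _ (hBQ hx)]
        simp
      | succ k ih =>
        intro x hx
        have h5 : s * x * s⁻¹ ∈ B := conj_mem_of_normalizerIn hN hs hx
        have h6 : aext (α ^ (k + 1)) x = aext (α ^ k) (aext α x) := by
          rw [aext_of_mem _ (hBQ hx), aext_of_mem _ (hBQ hx), aext_apply, pow_succ]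
          rfl
        rw [h6, hαs x hx, ih _ h5, pow_succ]
        group
    obtain ⟨k, hk⟩ := (IsPGroup.iff_card.1 hS)
    have hco2 : (orderOf α).Coprime (Nat.card S) := by rw [hk]; exact hco.pow_right k
    obtain ⟨m, hm⟩ : ∃ m : ℕ, orderOf α * m ≡ 1 [MOD Nat.card S] := by
      refine ⟨(orderOf α : ZMod (Nat.card S))⁻¹.val, ?_⟩
      rw [← ZMod.natCast_eq_natCast_iff]
      have : NeZero (Nat.card S) := ⟨Nat.card_pos.ne'⟩
      rw [Nat.cast_mul, ZMod.natCast_zmod_val, Nat.cast_one]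
      exact ZMod.coe_mul_inv_eq_one _ hco2
    intro x hx
    have h7 := hit (orderOf α * m) x hx
    rw [pow_mul, pow_orderOf_eq_one, one_pow] at h7
    have h8 : s ^ (orderOf α * m) = s := by
      have h9 : (⟨s, hs⟩ : S) ^ (orderOf α * m) = (⟨s, hs⟩ : S) ^ 1 :=
        (pow_eq_pow_iff_modEq).2 (hm.of_dvd (orderOf_dvd_natCard _))
      have := congrArg Subtype.val h9
      simpa using this
    rw [h8, ← hαs x hx, aext_of_mem _ (hBQ hx)] at h7
    rw [← h7]; rfl
  -- the restriction to the centralizer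
  have hBQ₀ : B ≤ Q ⊓ centralizerIn S B := le_inf hBQ fun x hx =>
    mem_centralizerIn.2 ⟨hB hx, fun y hy => hBab x hx y hy⟩
  have hαFF := (FMap_innSys.1 hαF).1
  have hcen : FMap (centSys F B hB) (Q ⊓ centralizerIn S B) (aext α) := by
    rw [FMap_centSys]
    have hr := hαFF.restrict (inf_le_left : Q ⊓ centralizerIn S B ≤ Q)
    refine ⟨hr, inf_le_right, fun x hx => ?_, aext α, by rwa [sup_eq_left.2 hBQ₀], fun _ _ => rfl, hαB⟩
    have h5 := hr.map_centralizer hBQ₀ hx hx.2
    have h6 : img B (aext α) = B := by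
      apply (hr.restrict hBQ₀).img_eq_of_mapsTo
      intro y hy
      rw [hαB y hy]; exact hy
    rwa [h6] at h5
  have hE2 := hC _ _ hcen
  have hE3 : FMap (innSys E B hB hN) (Q ⊓ centralizerIn S B) (aext α) := by
    rw [FMap_innSys]
    refine ⟨hE2, aext α, by rwa [sup_eq_left.2 hBQ₀], fun _ _ => rfl, 1, S.one_mem, fun x hx => ?_⟩
    rw [hαB x hx]; simp
  exact mem_of_centric hS hF₁ hE₁ hle hαF inf_le_left hQ₀c hE3

/-- maps preserving a conjugate of an abelian normal subgroup of the source. -/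
theorem mem_of_abelian_normal {F E : FusionSystem S} [Finite S] {p : ℕ} [hp : Fact p.Prime]
    (hS : IsPGroup p S) (hF : F.IsSaturated p) (hE : E.IsSaturated p) (hEF : E ≤ F) {B P : Subgroup Ω}
    (hBP : B ≤ P) (hBn : P ≤ normalizerIn S B) (hBab : ∀ x ∈ B, ∀ y ∈ B, x * y = y * x)
    (ha : ∀ B', F.IsConj B B' → ∀ f, FMap F B' f → FMap E B' f)
    (hb : ∀ B' (hB' : B' ≤ S), F.IsConj B B' → F.IsFullyNormalized B' → ∀ P f, FMap (centSys F B' hB') P f → FMap E P f)
    {f : Ω → Ω} (hf : FMap F P f) : FMap E P f := by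
  have hPS := hf.le
  have hBS : B ≤ S := hBP.trans hPS
  obtain ⟨B', hBB', hB'n⟩ := exists_fullyNormalized F hBS
  have hB'S := hB'n.1
  have hBf : Finite B := finite_of_le hBS
  have hB'f : Finite B' := finite_of_le hB'S
  -- `B'` is fully normalized in `E`
  have hconj : ∀ C, F.IsConj B C → E.IsConj C B' := by
    intro C hC
    obtain ⟨g, hg, hgC⟩ := FMap.isConj_iff.1 (isConj_trans (isConj_symm hC) hBB')
    exact FMap.isConj_iff.2 ⟨g, ha C hC g hg, hgC⟩
  have hB'nE : E.IsFullyNormalized B' := by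
    refine ⟨hB'S, fun R hR => hB'n.2 R ?_⟩
    obtain ⟨g, hg, hgR⟩ := FMap.isConj_iff.1 hR
    exact FMap.isConj_iff.2 ⟨g, le_iff_FMap.1 hEF _ _ hg, hgR⟩
  obtain ⟨hEa, hEr⟩ := Saturated.of_fullyNormalized hS hE hB'nE
  have hBφ : F.IsConj B (img B f) := FMap.isConj_iff.2 ⟨f, hf.restrict hBP, rfl⟩
  obtain ⟨γ, hγ, hγB, hγN⟩ := exists_map_normalizer hS hEa hEr (hconj B (isConj_refl hBS))
  obtain ⟨γ', hγ', hγB', hγN'⟩ := exists_map_normalizer hS hEa hEr (hconj _ hBφ)
  have hγF := le_iff_FMap.1 hEF _ _ hγ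
  have hγF' := le_iff_FMap.1 hEF _ _ hγ'
  have hfN : ∀ x ∈ P, f x ∈ normalizerIn S (img B f) := fun x hx => hf.map_normalizer hBP hBn hx
  -- inverse of `γ` on `P₁ = γ(P)`
  have hγP := hγ.restrict hBn
  obtain ⟨c, hc, hcγ, hcx⟩ := hγP.exists_inv
  have hcF := le_iff_FMap.1 hEF _ _ hc
  set P₁ := img P γ with hP₁
  have hδ : FMap F P₁ (fun x => γ' (f (c x))) :=
    (hcF.comp hf (fun x hx => (hcx x hx).1)).comp hγF' (fun x hx => hfN _ (hcx x hx).1)
  set δ : Ω → Ω := fun x => γ' (f (c x)) with hδd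
  have hB'P₁ : B' ≤ P₁ := by rw [← hγB]; exact img_mono hBP
  have hcB : ∀ x ∈ B', c x ∈ B := by
    intro x hx
    rw [← hγB] at hx
    obtain ⟨y, hy, rfl⟩ := (hγP.restrict hBP).mem_img.1 hx
    rw [hcγ y (hBP hy)]; exact hy
  have hδB : ∀ x ∈ B', δ x ∈ B' := by
    intro x hx
    have h1 : f (c x) ∈ img B f := apply_mem_img (hcB x hx)
    have h2 := apply_mem_img (f := γ') h1
    rwa [hγB'] at h2
  have hP₁N : P₁ ≤ normalizerIn S B' := by
    rw [hP₁, img_le_iff]
    intro x hx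
    exact hγN x (hBn hx)
  have hδE : FMap E B' δ := ha B' hBB' δ (hδ.restrict hB'P₁)
  have hδimg : img B' δ = B' := hδE.img_eq_of_mapsTo hδB
  obtain ⟨ε, hε, hεδ⟩ := receptive_extend hEr hδE hδimg (N := P₁) (by
    intro g hg
    refine ⟨(hP₁N hg).1, fun x hx => conj_mem_of_mem_normalizer (hP₁N hg).2 hx, δ g, hδ.mapsTo hg, fun x hx => ?_⟩
    have hx1 := hB'P₁ hx
    rw [hδ.map_mul (P₁.mul_mem hg hx1) (P₁.inv_mem hg), hδ.map_mul hg hx1, hδ.map_inv hg])
  have hεF := le_iff_FMap.1 hEF _ _ hε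
  obtain ⟨ε', hε', hε'ε, hεε'⟩ := hε.exists_inv
  have hε'F := le_iff_FMap.1 hEF _ _ hε'
  set P₃ := img P₁ ε with hP₃
  have hχ : FMap F P₃ (fun x => δ (ε' x)) := hε'F.comp hδ (fun x hx => (hεε' x hx).1)
  have hεB : img B' ε = B' := by rw [img_congr hεδ, hδimg]
  have hB'P₃ : B' ≤ P₃ := by rw [← hεB]; exact img_mono hB'P₁
  have hχB : ∀ x ∈ B', δ (ε' x) = x := by
    intro x hx
    rw [← hεB] at hx
    obtain ⟨y, hy, rfl⟩ := (hε.restrict hB'P₁).mem_img.1 hx
    rw [hε'ε y (hB'P₁ hy), hεδ y hy]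
  have hP₃N : P₃ ≤ normalizerIn S B' := by
    rw [hP₃, img_le_iff]
    intro x hx
    have := hε.map_normalizer hB'P₁ hP₁N hx
    rwa [hεB] at this
  -- work in the normalizer systems
  have hS₂f : Finite (normalizerIn S B') := finite_of_le inf_le_left
  have hS₂ : IsPGroup p (normalizerIn S B') := hS.to_le inf_le_left
  have hF₂ := normSys_saturated hS hF hB'n
  have hE₂ := normSys_saturated hS hE hB'nE
  have hB'S₂ : B' ≤ normalizerIn S B' := le_normalizerIn hB'S
  have hN₂ : normalizerIn (normalizerIn S B') B' = normalizerIn S B' :=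
    le_antisymm inf_le_left (fun x hx => ⟨hx, hx.2⟩)
  have hle₂ : normSys E B' hB'S ≤ normSys F B' hB'S := by
    rw [le_iff_FMap]
    intro P f hf
    rw [FMap_normSys] at hf ⊢
    obtain ⟨h1, h2, h3, g, h4, h5, h6⟩ := hf
    exact ⟨le_iff_FMap.1 hEF _ _ h1, h2, h3, g, le_iff_FMap.1 hEF _ _ h4, h5, h6⟩
  have hBab' : ∀ x ∈ B', ∀ y ∈ B', x * y = y * x := by
    intro x hx y hy
    have hxc := hcB x hx
    have hyc := hcB y hy
    rw [← hγB] at hx hy
    obtain ⟨u, hu, rfl⟩ := (hγP.restrict hBP).mem_img.1 hx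
    obtain ⟨v, hv, rfl⟩ := (hγP.restrict hBP).mem_img.1 hy
    rw [← hγP.map_mul (hBP hu) (hBP hv), ← hγP.map_mul (hBP hv) (hBP hu), hBab u hu v hv]
  have hmain := innSys_le_of_cent hS₂ hF₂ hE₂ hle₂ hB'S₂ hN₂ hBab' (by
    intro P g hg
    obtain ⟨h1, h2, h3, k, hk, hkg, hkB⟩ := FMap_centSys.1 hg
    obtain ⟨h4, -⟩ := FMap_normSys.1 hk
    have hPC : P ≤ centralizerIn S B' := fun x hx =>
      mem_centralizerIn.2 ⟨(mem_centralizerIn.1 (h2 hx)).1.1, (mem_centralizerIn.1 (h2 hx)).2⟩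
    have hBC : B' ≤ centralizerIn S B' := fun x hx =>
      mem_centralizerIn.2 ⟨hB'S hx, fun y hy => hBab' x hx y hy⟩
    have hsupC : P ⊔ B' ≤ centralizerIn S B' := sup_le hPC hBC
    have hkimg : img B' k = B' := by
      apply (h4.restrict le_sup_right).img_eq_of_mapsTo
      intro y hy
      rw [hkB y hy]; exact hy
    have h5 : FMap (centSys F B' hB'S) (P ⊔ B') k := by
      rw [FMap_centSys]
      refine ⟨h4, hsupC, fun x hx => ?_, k, by rwa [sup_assoc, sup_idem], fun _ _ => rfl, hkB⟩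
      have := h4.map_centralizer le_sup_right hx (hsupC hx)
      rwa [hkimg] at this
    have h6 := hb B' hB'S hBB' hB'n _ _ h5
    exact ((FMap_normSys_of_le h6 le_sup_right (sup_le (hPC.trans centralizerIn_le_normalizerIn)
      hB'S₂) hkimg).restrict le_sup_left).congr hkg)
  have hχ₁ : FMap (innSys (normSys F B' hB'S) B' hB'S₂ hN₂) P₃ (fun x => δ (ε' x)) := by
    rw [FMap_innSys]
    have hχimg : img B' (fun x => δ (ε' x)) = B' := by
      apply (hχ.restrict hB'P₃).img_eq_of_mapsTo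
      intro y hy
      show δ (ε' y) ∈ B'
      rw [hχB y hy]; exact hy
    have h7 := FMap_normSys_of_le (hQ := hB'S) hχ hB'P₃ hP₃N hχimg
    refine ⟨h7, _, by rwa [sup_eq_left.2 hB'P₃], fun _ _ => rfl, 1, Subgroup.one_mem _, fun x hx => ?_⟩
    show δ (ε' x) = _
    rw [hχB x hx]; simp
  have hχE : FMap E P₃ (fun x => δ (ε' x)) :=
    (FMap_normSys.1 (FMap_innSys.1 (le_iff_FMap.1 hmain _ _ hχ₁)).1).1
  -- assemble
  have hδE' : FMap E P₁ δ := (hε.comp hχE (fun x hx => apply_mem_img hx)).congr fun x hx => by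
    show δ (ε' (ε x)) = δ x
    rw [hε'ε x hx]
  have h8 : FMap E P (fun x => γ' (f x)) := (hγP.comp hδE' (fun x hx => apply_mem_img hx)).congr fun x hx => by
    show γ' (f (c (γ x))) = _
    rw [hcγ x hx]
  obtain ⟨d, hd, hdγ, hdx⟩ := hγ'.exists_inv
  refine (h8.comp hd (fun x hx => apply_mem_img (hfN x hx))).congr fun x hx => ?_
  show d (γ' (f x)) = f x
  exact hdγ _ (hfN x hx)

end

end CfsgLib.Fusion
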