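import Cfsg.Agent.Lib.FusionPP2
import Cfsg.Agent.Lib.FusionHyp3

/-!
Small exponent abelian subgroups of the hyperfocal subgroup control fusion.
-/
set_option autoImplicit false
set_option maxHeartbeats 400000

universe u

namespace CfsgLib.Fusion

open Cfsg Cfsg.FusionSystem CfsgLib.SylowIn

variable {Ω : Type u} [Group Ω]

/-- abelian of exponent `p` (or dividing `4`). -/
def SmallAb (p : ℕ) (A : Subgroup Ω) : Prop :=
  (∀ x ∈ A, ∀ y ∈ A, x * y = y * x) ∧ ∀ x ∈ A, x ^ (if p = 2 then 4 else p) = 1

theorem SmallAb.mono {p : ℕ} {A B : Subgroup Ω} (h : SmallAb p A) (hBA : B ≤ A) : SmallAb p B :=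
  ⟨fun x hx y hy => h.1 x (hBA hx) y (hBA hy), fun x hx => h.2 x (hBA hx)⟩

theorem SmallAb.sup {p : ℕ} {A B : Subgroup Ω} (hA : SmallAb p A) (hB : SmallAb p B)
    (h : ∀ x ∈ A, ∀ y ∈ B, x * y = y * x) : SmallAb p (A ⊔ B) := by
  have hmem : ∀ x ∈ A ⊔ B, ∃ a ∈ A, ∃ b ∈ B, x = a * b := by
    intro x hx
    apply mem_sup_prod _ hx
    intro a ha
    rw [Subgroup.mem_normalizer_iff]
    intro y
    constructor
    · intro hy
      rw [h a ha y hy, mul_inv_cancel_right]; exact hy
    · intro hy
      have h1 := h a ha _ hy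
      have h2 : y = a * y * a⁻¹ := by
        have h3 : a * (a * y * a⁻¹) * a⁻¹ = a * y * a⁻¹ := by rw [h1]; group
        have h4 : a * y * a⁻¹ = y := by
          have := congrArg (fun z => a⁻¹ * z * a) h3
          simpa [mul_assoc] using this
        exact h4.symm
      rw [h2]; exact hy
  constructor
  · intro x hx y hy
    obtain ⟨a, ha, b, hb, rfl⟩ := hmem x hx
    obtain ⟨c, hc, d, hd, rfl⟩ := hmem y hy
    calc a * b * (c * d) = a * (b * c) * d := by group
      _ = a * (c * b) * d := by rw [h c hc b hb]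
      _ = (a * c) * (b * d) := by group
      _ = (c * a) * (d * b) := by rw [hA.1 a ha c hc, hB.1 b hb d hd]
      _ = c * (a * d) * b := by group
      _ = c * (d * a) * b := by rw [h a ha d hd]
      _ = c * d * (a * b) := by group
  · intro x hx
    obtain ⟨a, ha, b, hb, rfl⟩ := hmem x hx
    have hc : Commute a b := h a ha b hb
    rw [hc.mul_pow, hA.2 a ha, hB.2 b hb, one_mul]

theorem SmallAb.img {p : ℕ} {S : Subgroup Ω} {F : FusionSystem S} {A : Subgroup Ω} (hA : SmallAb p A)
    {f : Ω → Ω} (hf : FMap F A f) : SmallAb p (img A f) := by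
  constructor
  · intro x hx y hy
    obtain ⟨a, ha, rfl⟩ := hf.mem_img.1 hx
    obtain ⟨b, hb, rfl⟩ := hf.mem_img.1 hy
    rw [← hf.map_mul ha hb, ← hf.map_mul hb ha, hA.1 a ha b hb]
  · intro x hx
    obtain ⟨a, ha, rfl⟩ := hf.mem_img.1 hx
    rw [← hf.map_pow ha, hA.2 a ha, hf.map_one]

theorem hyp_sub_le {p : ℕ} [Fact p.Prime] {S T : Subgroup Ω} [Finite S] [Finite T] {F : FusionSystem S}
    {E : FusionSystem T} (h : ∀ P f, FMap E P f → FMap F P f) :
    E.hyperfocalSubgroup p ≤ F.hyperfocalSubgroup p := by
  rw [hyp_le_iff]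
  intro P f hf hfP n hn hfn x hx
  exact (hyp_le_iff (D := F.hyperfocalSubgroup p)).1 le_rfl P f (h P f hf) hfP n hn hfn x hx

theorem small_control {p : ℕ} [hp : Fact p.Prime] : ∀ (n : ℕ) (S : Subgroup Ω) [Finite S],
    IsPGroup p S → ∀ E F : FusionSystem S, E.IsSaturated p → F.IsSaturated p → E ≤ F →
    (allMaps F).ncard = n →
    (∀ A : Subgroup Ω, A ≤ F.hyperfocalSubgroup p → SmallAb p A → ∀ f, FMap F A f → FMap E A f) →
    F ≤ E := by
  intro n
  induction n using Nat.strong_induction_on with
  | _ n ih =>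
    intro S _ hS E F hE hF hEF hn hag
    apply alperin hS hF
    intro P hP
    have hPS : P ≤ S := by
      rcases hP with rfl | hP
      · exact le_rfl
      · exact hP.1.1
    have hPn : F.IsFullyNormalized P := by
      rcases hP with rfl | hP
      · refine ⟨le_rfl, fun R hR => ?_⟩
        have : normalizerIn P P = P := le_antisymm inf_le_left (le_normalizerIn le_rfl)
        rw [this]
        exact card_le_of_le inf_le_left
      · exact hP.2.1
    have hPf : Finite P := finite_of_le hPS
    have hPp : IsPGroup p P := hS.to_le hPS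
    obtain ⟨D, hDP, hDh, hDe, hDinv, hDf⟩ := exists_small (F := F) hS hPS
    have hDe' : ∀ x ∈ D, x ^ (if p = 2 then 4 else p) = 1 := by
      intro x hx
      rcases hDe x hx with h | ⟨h2, h4⟩
      · split_ifs with h2
        · rw [h2] at h
          rw [show (4 : ℕ) = 2 * 2 from rfl, pow_mul, h, one_pow]
        · exact h
      · rw [if_pos h2]; exact h4
    have hZc := isCentral_center F
    by_cases hDZ : D ≤ F.center
    · -- `Aut_F(P)` is a `p`-group
      have hpg : IsPGroup p (F.autGroup P) := by
        have := finite_autGroup F P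
        apply isPGroup_of_forall
        rintro ⟨α, hα⟩ q hq hqp hαq
        have hαq' : α ^ q = 1 := congrArg Subtype.val hαq
        apply Subtype.ext
        show α = 1
        have hco : q.Coprime p := (Nat.coprime_primes hq (Fact.out)).2 hqp
        apply hDf α hα (Nat.Coprime.coprime_dvd_left (orderOf_dvd_of_pow_eq_one hαq') hco)
        intro x hx
        apply Subtype.ext
        rw [← aext_apply]
        exact IsCentral.fix hZc ((mem_autGroup_iff' hPS α).1 hα) (hDZ hx) x.2
      obtain ⟨-, R, hR⟩ := (Saturated.of_fullyNormalized hS hF hPn).1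
      intro α hα
      have hRtop : (R : Subgroup (F.autGroup P)) = ⊤ :=
        (R.3 (hpg.of_equiv Subgroup.topEquiv.symm) le_top).symm
      have h1 : (⟨α, hα⟩ : F.autGroup P) ∈ (R : Subgroup (F.autGroup P)) := by rw [hRtop]; trivial
      rw [hR] at h1
      exact autInducedBy_le_autGroup E hPS h1
    · -- choose a normal abelian subgroup
      classical
      set Z := D ⊓ F.center with hZ
      have hZS : Z ≤ S := inf_le_right.trans (center_le F)
      have hZcomm : ∀ z ∈ Z, ∀ s ∈ S, z * s = s * z := fun z hz s hs => center_comm' hZc hz.2 hs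
      obtain ⟨m, hm⟩ := exists_ucs_eq (Q := P) hPp.isNilpotent
      obtain ⟨x₀, hx₀D, hx₀Z⟩ := SetLike.not_le_iff_exists.1 hDZ
      have hex : ∃ i, ∃ x ∈ D, x ∉ F.center ∧ x ∈ ucs P i := ⟨m, x₀, hx₀D, hx₀Z, by rw [hm]; exact hDP hx₀D⟩
      obtain ⟨x, hxD, hxZ, hxi⟩ := Nat.find_spec hex
      have hi0 : Nat.find hex ≠ 0 := by
        intro h0
        rw [h0, ucs_zero, Subgroup.mem_bot] at hxi
        exact hxZ (by rw [hxi]; exact Subgroup.one_mem _)
      obtain ⟨j, hj⟩ := Nat.exists_eq_succ_of_ne_zero hi0
      rw [hj] at hxi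
      have hDconj : ∀ g ∈ P, ∀ y ∈ D, g * y * g⁻¹ ∈ D := by
        intro g hg y hy
        have h1 := hDinv _ (autInducedBy_le_autGroup F hPS (conjAut_mem_autInducedBy (P := P) (hPS hg)
          (Subgroup.le_normalizer hg))) ⟨y, hDP hy⟩ hy
        exact h1
      have hcomm : ∀ g ∈ P, x⁻¹ * (g * x * g⁻¹) ∈ Z := by
        intro g hg
        have h1 : x⁻¹ * (g * x * g⁻¹) ∈ D := D.mul_mem (D.inv_mem hxD) (hDconj g hg x hxD)
        refine ⟨h1, ?_⟩
        by_contra h2
        exact Nat.find_min hex (by omega : j < Nat.find hex) ⟨_, h1, h2, ucs_comm P j hg hxi⟩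
      set B := Subgroup.zpowers x ⊔ Z with hB
      have hxB : x ∈ B := Subgroup.mem_sup_left (Subgroup.mem_zpowers x)
      have hBD : B ≤ D := sup_le (by rw [Subgroup.zpowers_le]; exact hxD) inf_le_left
      have hBP : B ≤ P := hBD.trans hDP
      have hBS : B ≤ S := hBP.trans hPS
      have hBf : Finite B := finite_of_le hBS
      have hxS : x ∈ S := hPS (hDP hxD)
      have hBsm : SmallAb p B := by
        refine ⟨?_, fun y hy => hDe' y (hBD hy)⟩
        have h1 : ∀ y ∈ B, x * y = y * x := by
          have h2 : B ≤ Subgroup.centralizer {x} := by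
            apply sup_le
            · rw [Subgroup.zpowers_le, Subgroup.mem_centralizer_iff]
              rintro _ rfl; rfl
            · intro z hz
              rw [Subgroup.mem_centralizer_iff]
              rintro _ rfl
              exact (hZcomm z hz _ hxS).symm
          intro y hy
          exact Subgroup.mem_centralizer_iff.1 (h2 hy) x rfl
        intro y hy z hz
        have h2 : B ≤ Subgroup.centralizer (B : Set Ω) := by
          apply sup_le
          · rw [Subgroup.zpowers_le, Subgroup.mem_centralizer_iff]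
            intro w hw
            exact (h1 w hw).symm
          · intro w hw
            rw [Subgroup.mem_centralizer_iff]
            intro v hv
            exact (hZcomm w hw v (hBS hv)).symm
        exact (Subgroup.mem_centralizer_iff.1 (h2 hz) y hy)
      have hBn : P ≤ normalizerIn S B := by
        intro g hg
        refine ⟨hPS hg, mem_normalizer_of_conj_mem fun y hy => ?_⟩
        have h2 : B ≤ B.comap (MulAut.conj g).toMonoidHom := by
          apply sup_le
          · rw [Subgroup.zpowers_le]
            show g * x * g⁻¹ ∈ B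
            have e : g * x * g⁻¹ = x * (x⁻¹ * (g * x * g⁻¹)) := by group
            rw [e]
            exact B.mul_mem hxB (Subgroup.mem_sup_right (hcomm g hg))
          · intro z hz
            show g * z * g⁻¹ ∈ B
            rw [← hZcomm z hz g (hPS hg), mul_inv_cancel_right]
            exact Subgroup.mem_sup_right hz
        exact h2 hy
      have hhyp := hyp_stronglyClosed hS hF
      have hconjh : ∀ B', F.IsConj B B' → B' ≤ F.hyperfocalSubgroup p ∧ SmallAb p B' := by
        intro B' hB'
        obtain ⟨f, hf, rfl⟩ := FMap.isConj_iff.1 hB'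
        refine ⟨?_, hBsm.img hf⟩
        rw [img_le_iff]
        intro y hy
        exact StronglyClosed.map_mem hhyp hf hy (hDh (hBD hy))
      intro α hα
      rw [mem_autGroup_iff' hPS] at hα ⊢
      refine mem_of_abelian_normal hS hF hE hEF hBP hBn hBsm.1 ?_ ?_ hα
      · intro B' hB' f hf
        exact hag B' (hconjh B' hB').1 (hconjh B' hB').2 f hf
      · intro B' hB'S hB' hB'n Q g hg
        have hCf : Finite (centralizerIn S B') := finite_of_le inf_le_left
        have hfcF := Saturated.fullyCentralized_of_fullyNormalized hS hF hB'n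
        have hfcE : E.IsFullyCentralized B' := by
          refine ⟨hB'S, fun R hR => hfcF.2 R ?_⟩
          obtain ⟨k, hk, hkR⟩ := FMap.isConj_iff.1 hR
          exact FMap.isConj_iff.2 ⟨k, le_iff_FMap.1 hEF _ _ hk, hkR⟩
        have hCF := centSys_saturated hS hF hfcF
        have hCE := centSys_saturated hS hE hfcE
        have hsub : ∀ P f, FMap (centSys F B' hB'S) P f → FMap F P f := fun P f h => (FMap_centSys.1 h).1
        have hCle : centSys E B' hB'S ≤ centSys F B' hB'S := by
          rw [le_iff_FMap]
          intro P f hf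
          rw [FMap_centSys] at hf ⊢
          obtain ⟨h1, h2, h3, k, h4, h5, h6⟩ := hf
          exact ⟨le_iff_FMap.1 hEF _ _ h1, h2, h3, k, le_iff_FMap.1 hEF _ _ h4, h5, h6⟩
        obtain ⟨hB'h, hB'sm⟩ := hconjh B' hB'
        have hlt : (allMaps (centSys F B' hB'S)).ncard < (allMaps F).ncard := by
          apply Set.ncard_lt_ncard _ (allMaps_finite F)
          refine ⟨fun y hy => (isSubsystem_iff.2 hsub) y.1 hy, fun hcon => ?_⟩
          -- then `B'` is central
          have hall : ∀ P f, FMap F P f → FMap (centSys F B' hB'S) P f := by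
            rintro P f ⟨φ, hφ, hφf⟩
            exact ⟨φ, hcon (show (⟨P, φ⟩ : Σ P : Subgroup Ω, (P →* Ω)) ∈ allMaps F from hφ), hφf⟩
          have hcen : F.IsCentral B' := by
            rw [isCentral_iff]
            refine ⟨hB'S, fun P f hf => ?_⟩
            obtain ⟨-, -, -, k, hk, hkf, hkB⟩ := FMap_centSys.1 (hall P f hf)
            exact ⟨k, hk, hkf, hkB⟩
          obtain ⟨k, hk, hkB⟩ := FMap.isConj_iff.1 (isConj_symm hB')
          apply hxZ
          have h1 : x ∈ img B' k := by rw [hkB]; exact hxB
          obtain ⟨y, hy, hyx⟩ := hk.mem_img.1 h1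
          rw [← hyx, IsCentral.fix hcen hk hy hy]
          exact (isCentral_iff_le.1 hcen) hy
        have hres := ih _ (by rw [← hn]; exact hlt) (centralizerIn S B') (hS.to_le inf_le_left) _ _ hCE hCF hCle rfl (by
          intro A hA hAsm f hf
          obtain ⟨h1, h2, h3, k, h4, h5, h6⟩ := FMap_centSys.1 hf
          have hAh : A ≤ F.hyperfocalSubgroup p := hA.trans (hyp_sub_le hsub)
          have hsup : SmallAb p (A ⊔ B') := hAsm.sup hB'sm (fun a ha b hb => (mem_centralizerIn.1 (h2 ha)).2 b hb)
          have h7 := hag (A ⊔ B') (sup_le hAh hB'h) hsup k h4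
          rw [FMap_centSys]
          exact ⟨(h7.restrict le_sup_left).congr h5, h2, h3, k, h7, h5, h6⟩)
        exact (FMap_centSys.1 (le_iff_FMap.1 hres _ _ hg)).1

end CfsgLib.Fusion
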