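import Cfsg.Agent.Lib.FusionPP

/-!
`p`-stability of fusion systems.
-/
set_option autoImplicit false
set_option maxHeartbeats 400000

namespace CfsgLib.Fusion

open Cfsg Cfsg.FusionSystem CfsgLib.SylowIn CfsgLib.StronglyEmb

variable {Ω : Type*} [Group Ω] {S : Subgroup Ω}

/-- `O_p(Aut_F(Q))` -/
def OpA (F : FusionSystem S) (p : ℕ) (Q : Subgroup Ω) : Subgroup (MulAut Q) :=
  (Cfsg.pCore p ↥(F.autGroup Q)).map (F.autGroup Q).subtype

theorem mem_OpA_of {F : FusionSystem S} {p : ℕ} {Q : Subgroup Ω} {D : Subgroup (MulAut Q)}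
    (h1 : D ≤ F.autGroup Q) (h2 : IsPGroup p D) (h3 : ∀ α ∈ F.autGroup Q, ∀ β ∈ D, α * β * α⁻¹ ∈ D) :
    D ≤ OpA F p Q := by
  intro β hβ
  refine ⟨⟨β, h1 hβ⟩, ?_, rfl⟩
  have : D.subgroupOf (F.autGroup Q) ≤ pCore p (F.autGroup Q) := by
    apply le_pCore
    · exact ⟨fun x hx g => h3 g g.2 x hx⟩
    · exact isPGroup_subgroupOf h2
  exact this hβ

theorem OpA_le {F : FusionSystem S} {p : ℕ} {Q : Subgroup Ω} : OpA F p Q ≤ F.autGroup Q := by
  rintro _ ⟨x, -, rfl⟩; exact x.2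

theorem OpA_isPGroup {F : FusionSystem S} [Finite S] {p : ℕ} {Q : Subgroup Ω} (hQ : Q ≤ S) :
    IsPGroup p (OpA F p Q) := by
  have : Finite Q := finite_of_le hQ
  have := finite_autGroup F Q
  exact (pCore_isPGroup p).map _

theorem OpA_normal {F : FusionSystem S} {p : ℕ} {Q : Subgroup Ω} :
    ∀ α ∈ F.autGroup Q, ∀ β ∈ OpA F p Q, α * β * α⁻¹ ∈ OpA F p Q := by
  rintro α hα _ ⟨β, hβ, rfl⟩
  exact ⟨⟨α, hα⟩ * β * ⟨α, hα⟩⁻¹, (Cfsg.pCore_normal p _).conj_mem β hβ ⟨α, hα⟩, rfl⟩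

/-- transport of `O_p(Aut_F(Q))`. -/
theorem congr_mem_OpA {F : FusionSystem S} [Finite S] {p : ℕ} {P Q : Subgroup Ω} {f : Ω → Ω} (hf : FMap F P f)
    (e : P ≃* Q) (he : ∀ x : P, ((e x : Q) : Ω) = f x) {α : MulAut P} (hα : α ∈ OpA F p P) :
    MulAut.congr e α ∈ OpA F p Q := by
  have hmap := map_autGroup hf e he
  have h1 : (OpA F p P).map (MulAut.congr e).toMonoidHom ≤ OpA F p Q := by
    apply mem_OpA_of
    · rw [← hmap]; exact Subgroup.map_mono OpA_le
    · exact (OpA_isPGroup hf.le).map _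
    · rw [← hmap]
      rintro _ ⟨α, hα, rfl⟩ _ ⟨β, hβ, rfl⟩
      refine ⟨α * β * α⁻¹, OpA_normal α hα β hβ, ?_⟩
      rw [map_mul, map_mul, map_inv]
  exact h1 ⟨α, hα, rfl⟩

/-- quadratic automorphisms -/
def Quad {Q : Type*} [Group Q] (χ : MulAut Q) : Prop := ∀ a : Q, (χ a⁻¹) * a * (χ a⁻¹) * (χ (χ a)) = 1

def PStab (F : FusionSystem S) (p : ℕ) : Prop := ∀ Q : Subgroup Ω, F.IsFullyNormalized Q →
  ∀ χ : MulAut Q, χ ∈ F.autGroup Q → Quad χ → χ ∈ OpA F p Q

theorem Quad.congr {P Q : Type*} [Group P] [Group Q] (e : P ≃* Q) {χ : MulAut P} (h : Quad χ) :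
    Quad (MulAut.congr e χ) := by
  intro a
  have := congrArg e (h (e.symm a))
  simp only [map_mul, map_one] at this
  simp only [MulAut.congr, MulEquiv.coe_mk, Equiv.coe_fn_mk, MulEquiv.trans_apply, map_inv,
    MulEquiv.symm_apply_apply] at this ⊢
  simpa using this

theorem PStab.all {F : FusionSystem S} [Finite S] {p : ℕ} [Fact p.Prime] (h : PStab F p)
    {Q : Subgroup Ω} (hQ : Q ≤ S) {χ : MulAut Q} (hχ : χ ∈ F.autGroup Q) (hq : Quad χ) :
    χ ∈ OpA F p Q := by
  obtain ⟨R, hR, hRn⟩ := exists_fullyNormalized F hQ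
  obtain ⟨f, hf, himg⟩ := FMap.isConj_iff.1 hR
  obtain ⟨e, he⟩ := hf.exists_equiv himg
  have h1 := h R hRn (MulAut.congr e χ) (congr_mem_autGroup hf e he hχ) (hq.congr e)
  obtain ⟨g, hg, hge⟩ := hf.symm_equiv e he
  have h2 := congr_mem_OpA (p := p) hg e.symm hge h1
  have h3 : MulAut.congr e.symm (MulAut.congr e χ) = χ := by
    ext x
    simp [MulAut.congr]
  rwa [h3] at h2

theorem OpA_sub {F : FusionSystem S} [Finite S] {p : ℕ} [Fact p.Prime] {T : Subgroup Ω} {E : FusionSystem T}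
    {Q : Subgroup Ω} (hQ : Q ≤ S) (hle : E.autGroup Q ≤ F.autGroup Q) {χ : MulAut Q} (hχ : χ ∈ E.autGroup Q)
    (h : χ ∈ OpA F p Q) : χ ∈ OpA E p Q := by
  have h1 : OpA F p Q ⊓ E.autGroup Q ≤ OpA E p Q := by
    apply mem_OpA_of inf_le_right ((OpA_isPGroup hQ).to_le inf_le_left)
    intro α hα β hβ
    exact ⟨OpA_normal α (hle hα) β hβ.1, (E.autGroup Q).mul_mem ((E.autGroup Q).mul_mem hα hβ.2) ((E.autGroup Q).inv_mem hα)⟩
  exact h1 ⟨h, hχ⟩

theorem PStab.normSys {F : FusionSystem S} [Finite S] {p : ℕ} [Fact p.Prime] (h : PStab F p)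
    {R : Subgroup Ω} (hR : R ≤ S) : PStab (normSys F R hR) p := by
  intro Q hQ χ hχ hq
  have hQS : Q ≤ S := hQ.1.trans inf_le_left
  have hQf : Finite Q := finite_of_le hQS
  have hle : (CfsgLib.Fusion.normSys F R hR).autGroup Q ≤ F.autGroup Q := by
    intro α hα
    rw [mem_autGroup_iff' hQ.1] at hα
    rw [mem_autGroup_iff' hQS]
    exact (FMap_normSys.1 hα).1
  exact OpA_sub hQS hle hχ (h.all hQS (hle hχ) hq)

/-- quadratic automorphisms of `p`-groups are `p`-elements. -/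
theorem Quad.pow {Q : Type*} [Group Q] {χ : MulAut Q} (h : Quad χ) (a : Q) (n : ℕ) :
    (χ ^ n) a = a * (a⁻¹ * χ a) ^ n := by
  have hc : ∀ a, χ (a⁻¹ * χ a) = a⁻¹ * χ a := by
    intro a
    have h1 := h a
    rw [map_inv] at h1
    rw [map_mul, map_inv]
    have h2 : χ (χ a) = χ a * a⁻¹ * χ a := by
      rw [mul_eq_one_iff_eq_inv'] at h1
      rw [h1]; group
    rw [h2]; group
  induction n with
  | zero => simp
  | succ n ih =>
    rw [pow_succ']
    show χ ((χ ^ n) a) = _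
    rw [ih, map_mul, map_pow, hc]
    rw [pow_succ', ← mul_assoc a, mul_inv_cancel_left]

theorem Quad.exists_pow {p : ℕ} [Fact p.Prime] {Q : Type*} [Group Q] [Finite Q] (hQ : IsPGroup p Q) {χ : MulAut Q}
    (h : Quad χ) : ∃ k : ℕ, χ ^ p ^ k = 1 := by
  obtain ⟨k, hk⟩ := IsPGroup.iff_card.1 hQ
  refine ⟨k, ?_⟩
  ext a
  rw [h.pow a, ← hk, pow_card_eq_one', mul_one]
  rfl

/-- every subgroup is conjugate into a fully normalized centric radical subgroup, automorphisms extending. -/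
theorem exists_radical_ext {F : FusionSystem S} [Finite S] {p : ℕ} [Fact p.Prime] (hS : IsPGroup p S)
    (hF : F.IsSaturated p) : ∀ (n : ℕ) (P : Subgroup Ω), P ≤ S → Nat.card S - Nat.card P = n →
    ∃ f R, FMap F P f ∧ (∀ x ∈ P, f x ∈ R) ∧ F.IsFullyNormalized R ∧ F.IsCentric R ∧ F.IsRadical p R ∧
      ∀ a, FMap F P a → img P a = P → ∃ b, FMap F R b ∧ img R b = R ∧ ∀ x ∈ P, b (f x) = f (a x) := by
  intro n
  induction n using Nat.strong_induction_on with
  | _ n ih =>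
    intro P hPS hn
    obtain ⟨Q, hPQ, hQn⟩ := exists_fullyNormalized F hPS
    obtain ⟨f, hf, himg⟩ := FMap.isConj_iff.1 hPQ
    obtain ⟨c, hc, hcf, hfc⟩ := hf.exists_inv
    rw [himg] at hc hfc
    have hQS := hQn.1
    have hQf : Finite Q := finite_of_le hQS
    have hfQ : ∀ x ∈ P, f x ∈ Q := fun x hx => by rw [← himg]; exact apply_mem_img hx
    obtain ⟨hQa, hQr⟩ := Saturated.of_fullyNormalized hS hF hQn
    -- transport of automorphisms
    have htr : ∀ a, FMap F P a → img P a = P → ∃ a', FMap F Q a' ∧ img Q a' = Q ∧ ∀ x ∈ P, a' (f x) = f (a x) := by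
      intro a ha haP
      have haP' : ∀ x ∈ P, a x ∈ P := fun x hx => by
        have := apply_mem_img (f := a) hx
        rwa [haP] at this
      refine ⟨fun y => f (a (c y)), (hc.comp ha (fun y hy => (hfc y hy).1)).comp hf
        (fun y hy => haP' _ (hfc y hy).1), ?_, fun x hx => by show f (a (c (f x))) = _; rw [hcf x hx]⟩
      apply ((hc.comp ha (fun y hy => (hfc y hy).1)).comp hf
        (fun y hy => haP' _ (hfc y hy).1)).img_eq_of_mapsTo
      intro y hy
      exact hfQ _ (haP' _ (hfc y hy).1)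
    by_cases hgood : F.IsCentric Q ∧ F.IsRadical p Q
    · refine ⟨f, Q, hf, hfQ, hQn, hgood.1, hgood.2, htr⟩
    · -- the preimage of `O_p(Aut_F(Q))`
      let Q₁ : Subgroup Ω :=
        { carrier := {g | ∃ hg : g ∈ normalizerIn S Q, conjAut Q g hg.2 ∈ OpA F p Q}
          mul_mem' := by
            rintro g h ⟨hg, hg'⟩ ⟨hh, hh'⟩
            refine ⟨(normalizerIn S Q).mul_mem hg hh, ?_⟩
            have : conjAut Q (g * h) ((normalizerIn S Q).mul_mem hg hh).2 = conjAut Q g hg.2 * conjAut Q h hh.2 := by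
              ext x
              show g * h * (x : Ω) * (g * h)⁻¹ = g * (h * (x : Ω) * h⁻¹) * g⁻¹
              group
            rw [this]; exact (OpA F p Q).mul_mem hg' hh'
          one_mem' := by
            refine ⟨(normalizerIn S Q).one_mem, ?_⟩
            have : conjAut Q 1 ((normalizerIn S Q).one_mem).2 = 1 := by
              ext x
              show 1 * (x : Ω) * 1⁻¹ = x
              group
            rw [this]; exact (OpA F p Q).one_mem
          inv_mem' := by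
            rintro g ⟨hg, hg'⟩
            refine ⟨(normalizerIn S Q).inv_mem hg, ?_⟩
            have : conjAut Q g⁻¹ ((normalizerIn S Q).inv_mem hg).2 = (conjAut Q g hg.2)⁻¹ := by
              rw [eq_inv_iff_mul_eq_one]
              ext x
              show g⁻¹ * (g * (x : Ω) * g⁻¹) * g⁻¹⁻¹ = x
              group
            rw [this]; exact (OpA F p Q).inv_mem hg' }
      have hQ₁ : ∀ g, g ∈ Q₁ ↔ ∃ hg : g ∈ normalizerIn S Q, conjAut Q g hg.2 ∈ OpA F p Q := fun g => Iff.rfl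
      have hQ₁N : Q₁ ≤ normalizerIn S Q := fun g hg => hg.1
      have hQ₁S : Q₁ ≤ S := hQ₁N.trans inf_le_left
      -- `Inn(Q) ≤ O_p(Aut_F(Q))`
      have hInn : Inn Q ≤ OpA F p Q := by
        apply mem_OpA_of (inn_le_autGroup F hQS)
        · have := isPGroup_inn (hS.to_le hQS)
          exact this
        · rintro α hα _ ⟨x, rfl⟩
          refine ⟨α x, ?_⟩
          ext y
          simp
      have hQQ₁ : Q ≤ Q₁ := by
        intro g hg
        refine ⟨le_normalizerIn hQS hg, hInn ⟨⟨g, hg⟩, ?_⟩⟩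
        ext x
        rfl
      have hCQ₁ : centralizerIn S Q ≤ Q₁ := by
        intro g hg
        refine ⟨centralizerIn_le_normalizerIn hg, ?_⟩
        have : conjAut Q g (centralizerIn_le_normalizerIn hg).2 = 1 := by
          ext x
          show g * (x : Ω) * g⁻¹ = x
          rw [(mem_centralizerIn.1 hg).2 x x.2, mul_inv_cancel_right]
        rw [this]; exact (OpA F p Q).one_mem
      have hOS : OpA F p Q ≤ autInducedBy S Q := by
        have hsyl := autS_sylowIn hQa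
        obtain ⟨g, hg, hgx⟩ := hsyl.exists_conj OpA_le (OpA_isPGroup hQS)
        intro β hβ
        have h1 := OpA_normal g⁻¹ ((F.autGroup Q).inv_mem hg) β hβ
        have h2 := hgx _ h1
        have e : g * (g⁻¹ * β * g⁻¹⁻¹) * g⁻¹ = β := by group
        rwa [e] at h2
      have hlt : Q < Q₁ := by
        refine lt_of_le_of_ne hQQ₁ fun heq => hgood ?_
        have hc : F.IsCentric Q := Saturated.isCentric_of hS hF
          (Saturated.fullyCentralized_of_fullyNormalized hS hF hQn) (by rw [← heq] at hCQ₁; exact hCQ₁)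
        refine ⟨hc, hQS, le_antisymm ?_ hInn⟩
        intro β hβ
        obtain ⟨g, hg, hgβ⟩ := mem_autInducedBy_iff.1 (hOS hβ)
        have hgN : g ∈ Subgroup.normalizer (Q : Set Ω) := mem_normalizer_of_conj_mem fun x hx => by
          have := hgβ ⟨x, hx⟩
          rw [← this]; exact (β _).2
        have hβe : β = conjAut Q g hgN := by
          ext x
          exact hgβ x
        have hgQ₁ : g ∈ Q₁ := ⟨⟨hg, hgN⟩, by rw [← hβe]; exact hβ⟩
        rw [← heq] at hgQ₁
        refine ⟨⟨g, hgQ₁⟩, ?_⟩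
        rw [hβe]
        ext x
        rfl
      have hQ₁f : Finite Q₁ := finite_of_le hQ₁S
      have hcard := card_lt_of_lt hlt
      have hcardPQ : Nat.card P = Nat.card Q := by rw [← himg, hf.card_img]
      have hcardS : Nat.card Q₁ ≤ Nat.card S := card_le_of_le hQ₁S
      obtain ⟨f₁, R, hf₁, hf₁R, hRn, hRc, hRr, hext⟩ := ih (Nat.card S - Nat.card Q₁) (by omega) Q₁ hQ₁S rfl
      refine ⟨fun x => f₁ (f x), R, hf.comp hf₁ (fun x hx => hQQ₁ (hfQ x hx)),
        fun x hx => hf₁R _ (hQQ₁ (hfQ x hx)), hRn, hRc, hRr, ?_⟩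
      intro a ha haP
      obtain ⟨a', ha', ha'Q, ha'f⟩ := htr a ha haP
      -- extend `a'` to `Q₁`
      obtain ⟨α, hα, hαa⟩ := ha'.exists_aut ha'Q
      obtain ⟨g, hg, hga⟩ := receptive_extend hQr ha' ha'Q (N := Q₁) (by
        intro s hs
        obtain ⟨hsN, hsO⟩ := hs
        refine ⟨hsN.1, fun x hx => conj_mem_of_mem_normalizer hsN.2 hx, ?_⟩
        have h1 := OpA_normal α hα _ hsO
        obtain ⟨t, ht, htx⟩ := mem_autInducedBy_iff.1 (hOS h1)
        refine ⟨t, ht, fun x hx => ?_⟩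
        have h2 := htx (α ⟨x, hx⟩)
        have h3 : ((α * conjAut Q s hsN.2 * α⁻¹) (α ⟨x, hx⟩) : Q) = α (conjAut Q s hsN.2 ⟨x, hx⟩) := by
          show α (conjAut Q s hsN.2 (α⁻¹ (α ⟨x, hx⟩))) = _
          have e : α⁻¹ (α ⟨x, hx⟩) = ⟨x, hx⟩ := by simp
          rw [e]
        rw [h3, hαa, hαa] at h2
        exact h2)
      have hgQ₁ : ∀ x ∈ Q₁, g x ∈ Q₁ := by
        intro s hs
        obtain ⟨hsN, hsO⟩ := id hs
        have hgimg : img Q g = Q := by rw [img_congr hga, ha'Q]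
        have h1 := hg.map_normalizer hQQ₁ hQ₁N hs
        rw [hgimg] at h1
        refine ⟨h1, ?_⟩
        have h2 := OpA_normal α hα _ hsO
        have h3 : conjAut Q (g s) h1.2 = α * conjAut Q s hsN.2 * α⁻¹ := by
          ext y
          obtain ⟨x, rfl⟩ := α.surjective y
          have h4 : ((α * conjAut Q s hsN.2 * α⁻¹) (α x) : Q) = α (conjAut Q s hsN.2 x) := by
            show α (conjAut Q s hsN.2 (α⁻¹ (α x))) = _
            have e : α⁻¹ (α x) = x := by simp
            rw [e]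
          rw [h4]
          show g s * (α x : Ω) * (g s)⁻¹ = _
          rw [hαa, hαa, ← hga x x.2]
          show g s * g x * (g s)⁻¹ = a' (s * x * s⁻¹)
          have hx1 := hQQ₁ x.2
          rw [← hga _ (conj_mem_of_mem_normalizer hsN.2 x.2),
            hg.map_mul (Q₁.mul_mem hs hx1) (Q₁.inv_mem hs), hg.map_mul hs hx1, hg.map_inv hs]
        rw [h3]; exact h2
      obtain ⟨b, hb, hbR, hbf⟩ := hext g hg (hg.img_eq_of_mapsTo hgQ₁)
      refine ⟨b, hb, hbR, fun x hx => ?_⟩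
      rw [hbf _ (hQQ₁ (hfQ x hx)), hga _ (hfQ x hx), ha'f x hx]

end CfsgLib.Fusion
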