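import Cfsg.Agent.Lib.FusionPSt
import Cfsg.Agent.Lib.FusionLocal

/-!
`p`-stability of fusion systems and normalizer systems.
-/
set_option autoImplicit false
set_option maxHeartbeats 400000

namespace CfsgLib.Fusion

open Cfsg Cfsg.FusionSystem CfsgLib.SylowIn CfsgLib.StronglyEmb

variable {Ω : Type*} [Group Ω] {S : Subgroup Ω}

theorem OpA_congr {F : FusionSystem S} {T : Subgroup Ω} {E : FusionSystem T} {p : ℕ} {Q : Subgroup Ω}
    (h : E.autGroup Q = F.autGroup Q) : OpA E p Q = OpA F p Q := by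
  unfold OpA; rw [h]

/-- the abelian case. -/
theorem mem_OpA_of_comm {F : FusionSystem S} [Finite S] {p : ℕ} [Fact p.Prime] (hS : IsPGroup p S)
    {Q : Subgroup Ω} (hQ : Q ≤ S) (hab : ∀ α β : MulAut Q, α * β = β * α) {χ : MulAut Q}
    (hχ : χ ∈ F.autGroup Q) (hq : Quad χ) : χ ∈ OpA F p Q := by
  have hQf : Finite Q := finite_of_le hQ
  obtain ⟨k, hk⟩ := hq.exists_pow (hS.to_le hQ)
  have h1 : Subgroup.zpowers χ ≤ OpA F p Q := by
    apply mem_OpA_of
    · rw [Subgroup.zpowers_le]; exact hχ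
    · rintro ⟨x, hx⟩
      obtain ⟨m, rfl⟩ := Subgroup.mem_zpowers_iff.1 hx
      refine ⟨k, Subtype.ext ?_⟩
      show (χ ^ m) ^ p ^ k = 1
      rw [← zpow_natCast, ← zpow_mul, mul_comm, zpow_mul, zpow_natCast, hk, one_zpow]
    · intro α _ β hβ
      rw [hab α β, mul_inv_cancel_right]; exact hβ
  exact h1 (Subgroup.mem_zpowers χ)

theorem mulAut_comm_of_isCyclic {Q : Type*} [Group Q] [IsCyclic Q] (α β : MulAut Q) : α * β = β * α := by
  obtain ⟨g, hg⟩ := IsCyclic.exists_generator (α := Q)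
  obtain ⟨a, ha⟩ := Subgroup.mem_zpowers_iff.1 (hg (α g))
  obtain ⟨b, hb⟩ := Subgroup.mem_zpowers_iff.1 (hg (β g))
  ext x
  obtain ⟨n, rfl⟩ := Subgroup.mem_zpowers_iff.1 (hg x)
  show α (β (g ^ n)) = β (α (g ^ n))
  rw [map_zpow, map_zpow, map_zpow, map_zpow, ← ha, ← hb, map_zpow, map_zpow, ← ha, ← hb]
  simp only [← zpow_mul]
  congr 1
  ring

theorem PStab.of_noncyclic {F : FusionSystem S} [Finite S] {p : ℕ} [Fact p.Prime] (hS : IsPGroup p S)
    (h : ∀ R : Subgroup Ω, F.IsFullyNormalized R → ¬ IsCyclic R → ∀ hR : R ≤ S, PStab (CfsgLib.Fusion.normSys F R hR) p) :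
    PStab F p := by
  intro Q hQ χ hχ hq
  by_cases hc : IsCyclic Q
  · exact mem_OpA_of_comm hS hQ.1 mulAut_comm_of_isCyclic hχ hq
  · have : Finite (normalizerIn S Q) := finite_of_le inf_le_left
    have h1 := (h Q hQ hc hQ.1).all (le_normalizerIn hQ.1) (χ := χ) (by rwa [autGroup_normSys]) hq
    rwa [OpA_congr (autGroup_normSys hQ.1)] at h1

theorem PStab.of_radical {F : FusionSystem S} [Finite S] {p : ℕ} [Fact p.Prime] (hS : IsPGroup p S)
    (hF : F.IsSaturated p)
    (h : ∀ R : Subgroup Ω, F.IsFullyNormalized R → F.IsCentric R → F.IsRadical p R →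
      ∀ hR : R ≤ S, PStab (CfsgLib.Fusion.normSys F R hR) p) :
    PStab F p := by
  intro Q hQ χ hχ hq
  obtain ⟨f, R, hf, hfR, hRn, hRc, hRr, hext⟩ := exists_radical_ext hS hF _ Q hQ.1 rfl
  have : Finite (normalizerIn S R) := finite_of_le inf_le_left
  obtain ⟨e, he⟩ := hf.exists_equiv rfl
  have hPR : img Q f ≤ R := by
    exact img_le_iff.2 hfR
  have hPN : img Q f ≤ normalizerIn S R := hPR.trans (le_normalizerIn hRn.1)
  have hle : (CfsgLib.Fusion.normSys F R hRn.1).autGroup (img Q f) = F.autGroup (img Q f) := by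
    apply le_antisymm (subsystem_autGroup_le (normSys_isSubsystem hRn.1) hPN)
    intro α hα
    obtain ⟨g, hg, hge⟩ := hf.symm_equiv e he
    have h1 : MulAut.congr e.symm α ∈ F.autGroup Q := congr_mem_autGroup hg e.symm hge hα
    rw [mem_autGroup_iff' hQ.1] at h1
    have h2 : img Q (aext (MulAut.congr e.symm α)) = Q := by
      have : Finite Q := finite_of_le hQ.1
      apply h1.img_eq_of_mapsTo
      intro x hx
      exact aext_mem _ hx
    obtain ⟨b, hb, hbR, hbf⟩ := hext _ h1 h2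
    have h3 : FMap (CfsgLib.Fusion.normSys F R hRn.1) R b :=
      FMap_normSys_of_le hb le_rfl (le_normalizerIn hRn.1) hbR
    apply mem_autGroup_of_FMap α (h3.restrict hPR)
    intro x
    obtain ⟨y, rfl⟩ := e.surjective x
    rw [he, hbf _ y.2]
    have h4 : aext (MulAut.congr e.symm α) (y : Ω) = ((MulAut.congr e.symm α y : Q) : Ω) := aext_of_mem _ y.2
    rw [h4, ← he]
    simp [MulAut.congr]
  have h1 := (h R hRn hRc hRr hRn.1).all hPN (χ := MulAut.congr e χ)
    (by rw [hle]; exact congr_mem_autGroup hf e he hχ) (hq.congr e)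
  rw [OpA_congr hle] at h1
  obtain ⟨g, hg, hge⟩ := hf.symm_equiv e he
  have h2 := congr_mem_OpA (p := p) hg e.symm hge h1
  have h3 : MulAut.congr e.symm (MulAut.congr e χ) = χ := by
    ext x
    simp [MulAut.congr]
  rwa [h3] at h2

end CfsgLib.Fusion
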