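import Cfsg.Agent.Lib.FusionGrpModel
import Cfsg.Agent.Lib.H9NatSec
/-!
`Qd(p)`-free groups and fusion systems.
-/
set_option autoImplicit false
set_option maxHeartbeats 400000

universe u

namespace CfsgLib.Fusion

open Cfsg Cfsg.FusionSystem CfsgLib.SylowIn CfsgLib.StronglyEmb CfsgLib.ThmA

variable {p : ℕ} [hp : Fact p.Prime]

/-- passing to a centric subgroup -/
theorem natSec_centric {G : Type u} [Group G] [Finite G] {Q : Subgroup G} (hQ : IsPGroup p Q)
    (h : NatSec p Q (Subgroup.normalizer (Q : Set G))) :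
    ∃ Q₁ : Subgroup G, IsPGroup p Q₁ ∧ NatSec p Q₁ (Subgroup.normalizer (Q₁ : Set G)) ∧
      ∀ x ∈ Subgroup.centralizer (Q₁ : Set G), (∃ k, x ^ p ^ k = 1) → x ∈ Q₁ := by
  set C := Subgroup.centralizer (Q : Set G) with hC
  obtain ⟨T, hT⟩ := exists_isSylowIn p C
  have hTC : T ≤ C := hT.1
  have hcomm : ∀ x ∈ Q, ∀ t ∈ T, x * t = t * x := fun x hx t ht =>
    Subgroup.mem_centralizer_iff.1 (hTC ht) x hx
  have hTN : T ≤ Subgroup.normalizer (Q : Set G) := hTC.trans (Subgroup.centralizer_le_normalizer _)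
  have hQTN : Q ≤ Subgroup.normalizer (T : Set G) := by
    intro x hx
    apply CfsgLib.H7Basic.mem_normalizer_of_conj_mem
    intro t ht
    rw [hcomm x hx t ht, mul_inv_cancel_right]; exact ht
  have hQ₁p : IsPGroup p ↥(Q ⊔ T) := hQ.to_sup_of_normal_right' hT.2.1 hQTN
  have hMN : Subgroup.normalizer (Q : Set G) ⊓ Subgroup.normalizer (T : Set G) ≤
      Subgroup.normalizer ((Q ⊔ T : Subgroup G) : Set G) := by
    rintro x ⟨hx1, hx2⟩
    apply CfsgLib.H7Basic.mem_normalizer_of_conj_mem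
    intro y hy
    have hle : Q ⊔ T ≤ (Q ⊔ T).comap (MulAut.conj x).toMonoidHom := by
      apply sup_le
      · intro z hz
        exact Subgroup.mem_sup_left ((Subgroup.mem_normalizer_iff.1 hx1 z).1 hz)
      · intro z hz
        exact Subgroup.mem_sup_right ((Subgroup.mem_normalizer_iff.1 hx2 z).1 hz)
    exact hle hy
  refine ⟨Q ⊔ T, hQ₁p, ?_, ?_⟩
  · have h1 := natSec_transfer h Q.subtype Q.subtype_injective
      (Subgroup.normalizer (Q : Set G) ⊓ Subgroup.normalizer (T : Set G)) ?_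
    · rw [Subgroup.range_subtype] at h1
      exact h1.mono le_sup_left hMN
    · intro x hx
      have hCn : Subgroup.normalizer (Q : Set G) ≤ Subgroup.normalizer (C : Set G) := by
        intro y hy
        apply CfsgLib.H7Basic.mem_normalizer_of_conj_mem
        intro c hc
        rw [hC, Subgroup.mem_centralizer_iff]
        intro z hz
        have h1 : y⁻¹ * z * y ∈ Q := by
          have := (Subgroup.mem_normalizer_iff.1 (Subgroup.inv_mem _ hy) z).1 hz
          rwa [inv_inv] at this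
        have h2 := Subgroup.mem_centralizer_iff.1 hc _ h1
        calc z * (y * c * y⁻¹) = y * ((y⁻¹ * z * y) * c) * y⁻¹ := by group
          _ = y * (c * (y⁻¹ * z * y)) * y⁻¹ := by rw [h2]
          _ = y * c * y⁻¹ * z := by group
      obtain ⟨c, hc, hcx⟩ := hT.frattini (H := Subgroup.normalizer (Q : Set G))
        (Subgroup.centralizer_le_normalizer _) hCn hx
      refine ⟨c * x, ⟨Subgroup.mul_mem _ (Subgroup.centralizer_le_normalizer _ hc) hx, hcx⟩,
        fun v hv hxv => ?_⟩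
      show c * x * v * (c * x)⁻¹ = x * v * x⁻¹
      have h2 := Subgroup.mem_centralizer_iff.1 hc _ hxv
      calc c * x * v * (c * x)⁻¹ = c * (x * v * x⁻¹) * c⁻¹ := by group
        _ = (x * v * x⁻¹) * c * c⁻¹ := by rw [← h2]
        _ = x * v * x⁻¹ := by group
  · rintro x hx ⟨k, hk⟩
    have hxC : x ∈ C := Subgroup.centralizer_le (le_sup_left : Q ≤ Q ⊔ T) hx
    have hxT : x ∈ Subgroup.centralizer (T : Set G) :=
      Subgroup.centralizer_le (le_sup_right : T ≤ Q ⊔ T) hx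
    have hzp : IsPGroup p (Subgroup.zpowers x) := by
      rintro ⟨_, ⟨n, rfl⟩⟩
      refine ⟨k, Subtype.ext ?_⟩
      show (x ^ n) ^ p ^ k = 1
      rw [← zpow_natCast, ← zpow_mul, mul_comm, zpow_mul, zpow_natCast, hk, one_zpow]
    have hzn : Subgroup.zpowers x ≤ Subgroup.normalizer (T : Set G) := by
      rw [Subgroup.zpowers_le]
      exact Subgroup.centralizer_le_normalizer _ hxT
    have hp1 : IsPGroup p ↥(Subgroup.zpowers x ⊔ T) := hzp.to_sup_of_normal_right' hT.2.1 hzn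
    have h1 : Subgroup.zpowers x ⊔ T = T := hT.eq_of_le (sup_le (by
      rw [Subgroup.zpowers_le]; exact hxC) hTC) hp1 le_sup_right
    have h2 : x ∈ T := by
      rw [← h1]
      exact Subgroup.mem_sup_left (Subgroup.mem_zpowers x)
    exact Subgroup.mem_sup_right h2

theorem natSec_conj {G : Type u} [Group G] [Finite G] {Q : Subgroup G}
    (h : NatSec p Q (Subgroup.normalizer (Q : Set G))) (g : G) :
    NatSec p (cj g Q) (Subgroup.normalizer ((cj g Q : Subgroup G) : Set G)) := by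
  have h1 := natSec_transfer h ((MulAut.conj g).toMonoidHom.comp Q.subtype)
    ((MulAut.conj g).injective.comp Q.subtype_injective)
    (Subgroup.normalizer ((cj g Q : Subgroup G) : Set G)) ?_
  · have h3 : ((MulAut.conj g).toMonoidHom.comp Q.subtype).range = cj g Q := by
      ext x
      constructor
      · rintro ⟨v, rfl⟩; exact ⟨v, v.2, rfl⟩
      · rintro ⟨v, hv, rfl⟩; exact ⟨⟨v, hv⟩, rfl⟩
    rwa [h3] at h1
  · intro x hx
    refine ⟨g * x * g⁻¹, ?_, fun v hv h => ?_⟩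
    · apply CfsgLib.H7Basic.mem_normalizer_of_conj_mem
      rintro _ ⟨v, hv, rfl⟩
      refine ⟨x * v * x⁻¹, (Subgroup.mem_normalizer_iff.1 hx _).1 hv, ?_⟩
      show g * (x * v * x⁻¹) * g⁻¹ = g * x * g⁻¹ * (g * v * g⁻¹) * (g * x * g⁻¹)⁻¹
      group
    · show g * x * g⁻¹ * (g * v * g⁻¹) * (g * x * g⁻¹)⁻¹ = g * (x * v * x⁻¹) * g⁻¹
      group

theorem centric_cj {G : Type u} [Group G] {Q : Subgroup G}
    (h : ∀ x ∈ Subgroup.centralizer (Q : Set G), (∃ k, x ^ p ^ k = 1) → x ∈ Q) (g : G) :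
    ∀ x ∈ Subgroup.centralizer ((cj g Q : Subgroup G) : Set G), (∃ k, x ^ p ^ k = 1) → x ∈ cj g Q := by
  rintro x hx ⟨k, hk⟩
  have h1 : g⁻¹ * x * g ∈ Q := by
    refine h _ ?_ ⟨k, ?_⟩
    · rw [Subgroup.mem_centralizer_iff]
      intro y hy
      have h2 := Subgroup.mem_centralizer_iff.1 hx _ (conj_mem_cj (g := g) hy)
      calc y * (g⁻¹ * x * g) = g⁻¹ * ((g * y * g⁻¹) * x) * g := by group
        _ = g⁻¹ * (x * (g * y * g⁻¹)) * g := by rw [h2]
        _ = g⁻¹ * x * g * y := by group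
    · have := conj_pow (a := g⁻¹) (b := x) (i := p ^ k)
      rw [inv_inv] at this
      rw [this, hk]; group
  have h2 := conj_mem_cj (g := g) h1
  have e : g * (g⁻¹ * x * g) * g⁻¹ = x := by group
  rwa [e] at h2

theorem group_centric_iff {G : Type u} [Group G] [Finite G] (S : Sylow p G) {Q : Subgroup G}
    (hQS : Q ≤ S) (h : ∀ x ∈ Subgroup.centralizer (Q : Set G), (∃ k, x ^ p ^ k = 1) → x ∈ Q) :
    (groupFusionSystem (S : Subgroup G)).IsCentric Q := by
  refine ⟨hQS, fun R hR => ?_⟩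
  rw [groupFusionSystem_eq] at hR
  obtain ⟨-, h1, g, -, rfl⟩ := isConj_sub_iff.1 hR
  rintro x hx
  have hx' := mem_centralizerIn.1 hx
  obtain ⟨k, hk⟩ := S.isPGroup' ⟨x, hx'.1⟩
  exact centric_cj h g x (Subgroup.mem_centralizer_iff.2 fun y hy => (hx'.2 y hy).symm)
    ⟨k, congrArg Subtype.val hk⟩

theorem group_centric {G : Type u} [Group G] [Finite G] (S : Sylow p G) {Q : Subgroup G}
    (hQn : (groupFusionSystem (S : Subgroup G)).IsFullyNormalized Q)
    (hQc : (groupFusionSystem (S : Subgroup G)).IsCentric Q) :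
    IsSylowIn p ((S : Subgroup G) ⊓ Subgroup.normalizer (Q : Set G)) (Subgroup.normalizer (Q : Set G)) ∧
    ∀ x ∈ Subgroup.centralizer (Q : Set G), (∃ k, x ^ p ^ k = 1) → x ∈ Q := by
  have hQS : Q ≤ (S : Subgroup G) := hQn.1
  have hN := hQn
  rw [groupFusionSystem_eq, fullyNormalized_sub_iff S.isSylowIn_top hQS, top_inf_eq] at hN
  refine ⟨hN, ?_⟩
  rintro x hx ⟨k, hk⟩
  have hC := hN.inf_normal (N := Subgroup.centralizer (Q : Set G))
    (Subgroup.centralizer_le_normalizer _) (by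
      intro y hy
      apply CfsgLib.H7Basic.mem_normalizer_of_conj_mem
      intro c hc
      rw [Subgroup.mem_centralizer_iff]
      intro z hz
      have h1 : y⁻¹ * z * y ∈ Q := by
        have := (Subgroup.mem_normalizer_iff.1 (Subgroup.inv_mem _ hy) z).1 hz
        rwa [inv_inv] at this
      have h2 := Subgroup.mem_centralizer_iff.1 hc _ h1
      calc z * (y * c * y⁻¹) = y * ((y⁻¹ * z * y) * c) * y⁻¹ := by group
        _ = y * (c * (y⁻¹ * z * y)) * y⁻¹ := by rw [h2]
        _ = y * c * y⁻¹ * z := by group)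
  have hzp : IsPGroup p (Subgroup.zpowers x) := by
    rintro ⟨_, ⟨n, rfl⟩⟩
    refine ⟨k, Subtype.ext ?_⟩
    show (x ^ n) ^ p ^ k = 1
    rw [← zpow_natCast, ← zpow_mul, mul_comm, zpow_mul, zpow_natCast, hk, one_zpow]
  obtain ⟨c, hc, hcx⟩ := hC.exists_conj (by rw [Subgroup.zpowers_le]; exact hx) hzp
  have h1 := hcx x (Subgroup.mem_zpowers x)
  have h2 : c * x * c⁻¹ ∈ Q := by
    refine hQc.2 Q (FMap.isConj_iff.2 ⟨fun x => x, FMap.id hQS, ?_⟩) (mem_centralizerIn.2 ⟨h1.1.1, fun y hy => ?_⟩)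
    · exact (FMap.id (F := groupFusionSystem (S : Subgroup G)) hQS).img_eq_of_mapsTo fun x hx => hx
    · exact (Subgroup.mem_centralizer_iff.1 h1.2 y hy).symm
  have h3 := Subgroup.mem_centralizer_iff.1 hc _ h2
  have h4 : x = c * x * c⁻¹ := by
    calc x = c⁻¹ * (c * x * c⁻¹) * c := by group
      _ = c⁻¹ * ((c * x * c⁻¹) * c) := by group
      _ = c⁻¹ * (c * (c * x * c⁻¹)) := by rw [h3]
      _ = c * x * c⁻¹ := by group
  rw [h4]; exact h2

/-- S5206 -/
theorem qdFree_iff {G : Type u} [Group G] [Finite G] (hp2 : p ≠ 2) (S : Sylow p G) :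
    (groupFusionSystem (S : Subgroup G)).IsSectionFree p ↥(Cfsg.qd p) ↔
      ¬ Cfsg.Involves ↥(Cfsg.qd p) G := by
  rw [sectionFree_iff]
  constructor
  · intro hfree hinv
    obtain ⟨Q₀, hQ₀, hns₀⟩ := natSec_of_involves hinv
    obtain ⟨Q₁, hQ₁, hns₁, hc₁⟩ := natSec_centric hQ₀ hns₀
    obtain ⟨g₀, -, hg₀⟩ := S.isSylowIn_top.exists_conj (le_top : Q₁ ≤ ⊤) hQ₁
    have hle₀ : cj g₀ Q₁ ≤ (S : Subgroup G) := cj_le_iff.2 hg₀
    obtain ⟨g, -, hg1, hg2⟩ := exists_conj_isSylowIn_normalizer S.isSylowIn_top hle₀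
    set Q := cj g (cj g₀ Q₁) with hQ
    have hns : NatSec p Q (Subgroup.normalizer (Q : Set G)) := natSec_conj (natSec_conj hns₁ g₀) g
    have hc := centric_cj (centric_cj hc₁ g₀) g
    rw [← hQ] at hc
    rw [top_inf_eq] at hg2
    have hQn : (groupFusionSystem (S : Subgroup G)).IsFullyNormalized Q := by
      rw [groupFusionSystem_eq, fullyNormalized_sub_iff S.isSylowIn_top hg1, top_inf_eq]
      exact hg2
    have hQc := group_centric_iff S hg1 hc
    obtain ⟨L, _, π, κ, hπ, hπ1, hκ, hL⟩ := group_qmodel S hg1 hg2 hc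
    have hLf := hL.fin
    have hmod := hL.toModel (show IsPGroup p (normalizerIn (S : Subgroup G) Q) from
      S.isPGroup'.to_le inf_le_left)
    refine hfree Q hQn hQc L κ hmod ?_
    have hQN : Q ≤ Subgroup.normalizer (Q : Set G) := Subgroup.le_normalizer
    have hQp : IsPGroup p Q := S.isPGroup'.to_le hg1
    let i : Q →* L := π.comp (Subgroup.inclusion hQN)
    have hi : Function.Injective i := by
      rw [injective_iff_map_eq_one]
      intro x hx
      obtain ⟨-, h2⟩ := hπ1 _ hx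
      obtain ⟨k, hk⟩ := hQp x
      have h1 : orderOf (x : G) ∣ p ^ k := orderOf_dvd_of_pow_eq_one (congrArg Subtype.val hk)
      have h3 : orderOf (x : G) ∣ 1 := by
        rw [← (Nat.Coprime.pow_right k ((Nat.Prime.coprime_iff_not_dvd hp.out).2 h2).symm)]
        exact Nat.dvd_gcd dvd_rfl h1
      exact Subtype.ext (orderOf_eq_one_iff.1 (Nat.dvd_one.1 h3))
    have h1 := natSec_transfer hns i hi ⊤ (by
      intro x hx
      refine ⟨π ⟨x, hx⟩, trivial, fun v hv h => ?_⟩
      show π ⟨x, hx⟩ * π ⟨v, hQN hv⟩ * (π ⟨x, hx⟩)⁻¹ = π ⟨x * v * x⁻¹, hQN h⟩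
      rw [← map_mul, ← map_inv, ← map_mul]
      rfl)
    obtain ⟨K, f, hf⟩ := surj_qd_of_natSec hp2 (by
      rintro ⟨_, x, rfl⟩
      obtain ⟨k, hk⟩ := hQp x
      refine ⟨k, Subtype.ext ?_⟩
      show (i x) ^ p ^ k = 1
      rw [← map_pow, hk, map_one]) h1
    exact CfsgLib.involves_iff.2 ⟨K, f, hf⟩
  · intro hinv Q hQn hQc L' _ κ' hL' h
    obtain ⟨hN, hc⟩ := group_centric S hQn hQc
    obtain ⟨L, _, π, κ, hπ, -, -, hL⟩ := group_qmodel S hQn.1 hN hc
    have hNf : Finite (normalizerIn (S : Subgroup G) Q) := inferInstance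
    have hNp : IsPGroup p (normalizerIn (S : Subgroup G) Q) := S.isPGroup'.to_le inf_le_left
    have hLQ := QModel.of_normal_centric hNp hL' (isNormal_normSys hQn.1) (isCentric_normSys hQc)
    obtain ⟨φ, -⟩ := QModel.unique hNp hLQ hL
    apply hinv
    have h1 := CfsgLib.Involves.of_injective h φ.toMonoidHom φ.injective
    exact CfsgLib.Involves.of_subgroup (CfsgLib.Involves.of_surjective h1 π hπ)

end CfsgLib.Fusion
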