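import Cfsg.Agent.Lib.ThmA7
import Cfsg.Agent.Lib.PSt2
import Cfsg.Agent.Lib.ZJ5
import Cfsg.Agent.Lib.CFMain
/-! Control of strong fusion by `Z(J)`. -/
set_option autoImplicit false
set_option linter.style.haveILetI false

universe u

namespace CfsgLib.ThmA
open CfsgLib.Dick CfsgLib.ZJ3 CfsgLib.ZJ4 CfsgLib.PSt CfsgLib.PSt2
open CfsgLib CfsgLib.SylowIn
open scoped commutatorElement

variable {p : ℕ} [hp : Fact p.Prime]

theorem not_controls {H : Type*} [Group H] [Finite H] {V B : Subgroup H} (hV : V.Normal) (hVp : IsPGroup p V)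
    (hVab : IsMulCommutative V) (hVc : Subgroup.centralizer (V : Set H) ≤ V)
    (hconj : ∀ x ∈ V, x ≠ 1 → ∀ y ∈ V, y ≠ 1 → ∃ g, g * x * g⁻¹ = y) (hBp : IsPGroup p B)
    (hBab : IsMulCommutative B) (hcard : Nat.card B = Nat.card V) (hBV : B ≠ V) :
    ∃ T : Sylow p H, ¬ Cfsg.ControlsStrongFusion p (Cfsg.centerThompsonAOf (T : Subgroup H)) := by
  classical
  haveI := hV
  have hVB : IsPGroup p ↥(V ⊔ B) := IsPGroup.to_sup_of_normal_left hVp hBp
  obtain ⟨T, hT⟩ := hVB.exists_le_sylow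
  refine ⟨T, ?_⟩
  rw [centerThompsonA_eq]
  rintro ⟨T', hUT', hctl⟩
  have hVT : V ≤ (T : Subgroup H) := le_sup_left.trans hT
  have hVT' : V ≤ (T' : Subgroup H) := by
    exact (CfsgLib.Core.le_pCore hV hVp).trans (CfsgLib.Core.pCore_le_sylow T')
  have hV0 : V ≠ ⊥ := by
    rintro rfl
    apply hBV
    rw [Subgroup.card_bot, Subgroup.card_eq_one] at hcard
    exact hcard
  have hT0 : (T : Subgroup H) ≠ ⊥ := by
    intro h
    apply hV0
    rw [eq_bot_iff, ← h]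
    exact hVT
  set U := ZM 0 (T : Subgroup H) with hU
  have hU0 : U ≠ ⊥ := ZM_ne_bot T.2 hT0 (dvd_zero p)
  have hUT : U ≤ (T : Subgroup H) := ZM_le _ _
  have hTU : (T : Subgroup H) ≤ Subgroup.normalizer (U : Set H) := Subgroup.le_normalizer.trans (normalizer_le_normalizer_ZM 0 _)
  obtain ⟨z, hzU, hzV, hz1⟩ : ∃ z, z ∈ U ∧ z ∈ V ∧ z ≠ 1 := by
    by_contra hcon
    push Not at hcon
    have h1 : U ≤ V := by
      refine le_trans ?_ hVc
      intro u hu
      rw [Subgroup.mem_centralizer_iff]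
      intro v hv
      have h2 : v * u * v⁻¹ * u⁻¹ ∈ U := U.mul_mem ((Subgroup.mem_normalizer_iff.mp (hTU (hVT hv)) u).mp hu) (U.inv_mem hu)
      have h3 : v * u * v⁻¹ * u⁻¹ ∈ V := by
        have h4 : v * u * v⁻¹ * u⁻¹ = v * (u * v⁻¹ * u⁻¹) := by group
        rw [h4]
        exact V.mul_mem hv (hV.conj_mem _ (V.inv_mem hv) u)
      have h5 := hcon _ h2 h3
      rw [mul_inv_eq_one, mul_inv_eq_iff_eq_mul] at h5
      exact h5
    apply hU0
    rw [eq_bot_iff]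
    intro u hu
    exact (Subgroup.mem_bot).mpr (hcon u hu (h1 hu))
  have hVU : V ≤ U := by
    intro y hy
    by_cases hy1 : y = 1
    · rw [hy1]; exact U.one_mem
    · obtain ⟨g, hg⟩ := hconj z hzV hz1 y hy hy1
      obtain ⟨n, hn, hnz⟩ := (hctl {z} (by
        rintro _ rfl
        exact hVT' hzV)).2 g (by
        rintro _ ⟨w, hw, rfl⟩
        rw [Set.mem_singleton_iff] at hw
        show g * w * g⁻¹ ∈ _
        rw [hw, hg]
        exact hVT' hy)
      have h6 := hnz z (Set.mem_singleton z)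
      rw [hg] at h6
      rw [h6]
      exact (Subgroup.mem_normalizer_iff.mp hn z).mp hzU
  obtain ⟨A, hA⟩ := MA_nonempty 0 (T : Subgroup H)
  have hAV : ∀ A ∈ MA 0 (T : Subgroup H), A = V := by
    intro A hA
    have h4 : V ≤ A := hVU.trans (fun x hx => (mem_ZM.mp hx) A hA)
    obtain ⟨h1, ⟨h2, -⟩, h3⟩ := hA
    apply le_antisymm _ h4
    refine le_trans ?_ hVc
    intro a ha
    rw [Subgroup.mem_centralizer_iff]
    intro v hv
    exact CfsgLib.PGrp.mul_comm_of_isMulCommutative h2 (h4 hv) ha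
  have hVA := hAV A hA
  rw [hVA] at hA
  apply hBV
  apply hAV B
  refine ⟨le_sup_right.trans hT, ⟨hBab, fun a _ => pow_zero a⟩, fun C hC hC' => ?_⟩
  rw [hcard]
  exact hA.2.2 C hC hC'

theorem uz_mul (y y' : ZMod p) : (mk2 (1 : ZMod p) y 0 1 (by ring)) * (mk2 (1 : ZMod p) y' 0 1 (by ring)) = mk2 (1 : ZMod p) (y + y') 0 1 (by ring) := by
  apply ext2
  · rw [mul_mk2_apply]
    show (1 : ZMod p) * 1 + y * 0 = 1
    ring
  · rw [mul_mk2_apply]
    show (1 : ZMod p) * y' + y * 1 = y + y'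
    ring
  · rw [mul_mk2_apply]
    show (0 : ZMod p) * 1 + 1 * 0 = 0
    ring
  · rw [mul_mk2_apply]
    show (0 : ZMod p) * y' + 1 * 1 = 1
    ring

theorem uz_mv (y : ZMod p) (v : Fin 2 → ZMod p) : ((mk2 (1 : ZMod p) y 0 1 (by ring) : SL2 (ZMod p)) : Matrix (Fin 2) (Fin 2) (ZMod p)).mulVec v = ![v 0 + y * v 1, v 1] := by
  funext i
  rw [Matrix.mulVec, dotProduct, Fin.sum_univ_two]
  fin_cases i
  · show 1 * v 0 + y * v 1 = v 0 + y * v 1
    ring
  · show 0 * v 0 + 1 * v 1 = v 1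
    ring

/-- an element of the second abelian subgroup -/
def qb (v : Fin 2 → ZMod p) : Cfsg.qd p := qi (mk2 1 (v 1) 0 1 (by ring)) ![v 0, 0]

theorem qb_mul (v w : Fin 2 → ZMod p) : qb v * qb w = qb (v + w) := by
  rw [qb, qb, qb, qi_mul, uz_mul, uz_mv]
  congr 1
  funext i
  fin_cases i
  · show v 0 + (w 0 + v 1 * 0) = v 0 + w 0
    ring
  · show (0 : ZMod p) + 0 = 0
    ring

theorem qb_zero : qb (0 : Fin 2 → ZMod p) = 1 := by
  rw [← qi_one, qb]
  have h1 : mk2 (1 : ZMod p) ((0 : Fin 2 → ZMod p) 1) 0 1 (by ring) = 1 := by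
    apply ext2 <;> rfl
  rw [h1]
  congr 1
  funext i
  fin_cases i <;> rfl

theorem qb_inj : Function.Injective (qb (p := p)) := by
  intro v w h
  obtain ⟨h1, h2⟩ := qi_inj h
  funext i
  fin_cases i
  · exact congrFun h2 0
  · exact congrArg (fun A : SL2 (ZMod p) => A 0 1) h1

/-- the second abelian subgroup -/
def trB (p : ℕ) [hp : Fact p.Prime] : Subgroup (Cfsg.qd p) where
  carrier := {M | ∃ v, M = qb v}
  one_mem' := ⟨0, qb_zero.symm⟩
  mul_mem' := by
    rintro A B ⟨v, rfl⟩ ⟨w, rfl⟩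
    exact ⟨v + w, qb_mul v w⟩
  inv_mem' := by
    rintro A ⟨v, rfl⟩
    refine ⟨-v, ?_⟩
    apply inv_eq_of_mul_eq_one_right
    rw [qb_mul, add_neg_cancel, qb_zero]

theorem card_trB : Nat.card (trB p) = Nat.card (tr2 p) := by
  have h1 : Nat.card (trB p) = Nat.card (Fin 2 → ZMod p) := by
    symm
    apply Nat.card_congr
    exact Equiv.ofBijective (fun v => (⟨qb v, v, rfl⟩ : trB p)) ⟨fun v w h => qb_inj (congrArg Subtype.val h), by
      rintro ⟨M, v, rfl⟩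
      exact ⟨v, rfl⟩⟩
  have h2 : Nat.card (tr2 p) = Nat.card (Fin 2 → ZMod p) := by
    symm
    apply Nat.card_congr
    exact Equiv.ofBijective (fun v => (⟨qi 1 v, v, rfl⟩ : tr2 p)) ⟨fun v w h => (qi_inj (congrArg Subtype.val h)).2, by
      rintro ⟨M, v, rfl⟩
      exact ⟨v, rfl⟩⟩
  rw [h1, h2]

theorem trB_isPGroup : IsPGroup p (trB p) := by
  have h1 : ∀ (v : Fin 2 → ZMod p) (n : ℕ), qb v ^ n = qb (n • v) := by
    intro v n
    induction n with
    | zero => rw [pow_zero, zero_smul, qb_zero]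
    | succ n ih => rw [pow_succ, ih, qb_mul, succ_nsmul]
  rintro ⟨M, v, rfl⟩
  refine ⟨1, ?_⟩
  apply Subtype.ext
  show qb v ^ p ^ 1 = 1
  rw [pow_one, h1]
  have h2 : p • v = 0 := by
    funext i
    show p • (v i) = 0
    rw [nsmul_eq_mul, CharP.cast_eq_zero, zero_mul]
  rw [h2, qb_zero]

theorem trB_ne : trB p ≠ tr2 p := by
  intro h
  have h1 : qb ![0, 1] ∈ tr2 p := by rw [← h]; exact ⟨_, rfl⟩
  obtain ⟨v, hv⟩ := h1
  have h2 := congrArg (fun A : SL2 (ZMod p) => A 0 1) (qi_inj hv).1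
  have h3 : (1 : ZMod p) = 0 := h2
  exact one_ne_zero h3

theorem tr2_comm : IsMulCommutative (tr2 p) := by
  refine ⟨⟨?_⟩⟩
  rintro ⟨A, v, rfl⟩ ⟨B, w, rfl⟩
  apply Subtype.ext
  show qi 1 v * qi 1 w = qi 1 w * qi 1 v
  rw [qi_mul, qi_mul, one_mv, one_mv, add_comm]

theorem trB_comm : IsMulCommutative (trB p) := by
  refine ⟨⟨?_⟩⟩
  rintro ⟨A, v, rfl⟩ ⟨B, w, rfl⟩
  apply Subtype.ext
  show qb v * qb w = qb w * qb v
  rw [qb_mul, qb_mul, add_comm]

theorem tr2_centralizer : Subgroup.centralizer (tr2 p : Set (Cfsg.qd p)) ≤ tr2 p := by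
  intro x hx
  obtain ⟨A, v, rfl⟩ := qi_surj x
  rw [Subgroup.mem_centralizer_iff] at hx
  have h1 : A = 1 := by
    apply Subtype.ext
    apply mulVec_inj
    intro c
    have h2 := hx (qi 1 c) ⟨c, rfl⟩
    rw [qi_mul, qi_mul, one_mv] at h2
    have h3 := (qi_inj h2).2
    rw [add_comm] at h3
    rw [← add_left_cancel h3]
    exact (one_mv c).symm
  rw [h1]
  exact ⟨v, rfl⟩

theorem exists_sl2_mv {v : Fin 2 → ZMod p} (hv : v ≠ 0) : ∃ A : SL2 (ZMod p), (A : Matrix (Fin 2) (Fin 2) (ZMod p)).mulVec ![1, 0] = v := by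
  by_cases h0 : v 0 = 0
  · have h1 : v 1 ≠ 0 := by
      intro h1
      apply hv
      funext i
      fin_cases i
      · exact h0
      · exact h1
    refine ⟨mk2 0 (-(v 1)⁻¹) (v 1) 0 (by field_simp; ring), ?_⟩
    funext i
    rw [Matrix.mulVec, dotProduct, Fin.sum_univ_two]
    fin_cases i
    · show 0 * 1 + (-(v 1)⁻¹) * 0 = v 0
      rw [h0]; ring
    · show v 1 * 1 + 0 * 0 = v 1
      ring
  · refine ⟨mk2 (v 0) 0 (v 1) ((v 0)⁻¹) (by field_simp; ring), ?_⟩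
    funext i
    rw [Matrix.mulVec, dotProduct, Fin.sum_univ_two]
    fin_cases i
    · show v 0 * 1 + 0 * 0 = v 0
      ring
    · show v 1 * 1 + (v 0)⁻¹ * 0 = v 1
      ring

theorem tr2_conj (x : Cfsg.qd p) (hx : x ∈ tr2 p) (hx1 : x ≠ 1) (y : Cfsg.qd p) (hy : y ∈ tr2 p) (hy1 : y ≠ 1) : ∃ g, g * x * g⁻¹ = y := by
  have key : ∀ x : Cfsg.qd p, x ∈ tr2 p → x ≠ 1 → ∃ g, g * qi 1 ![1, 0] * g⁻¹ = x := by
    rintro x ⟨v, rfl⟩ h1
    have hv : v ≠ 0 := by
      rintro rfl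
      exact h1 qi_one
    obtain ⟨A, hA⟩ := exists_sl2_mv hv
    refine ⟨qi A 0, ?_⟩
    rw [mul_inv_eq_iff_eq_mul, qi_mul, qi_mul, one_mul, mul_one, one_mv, hA, zero_add, add_zero]
  obtain ⟨g, hg⟩ := key x hx hx1
  obtain ⟨h, hh⟩ := key y hy hy1
  refine ⟨h * g⁻¹, ?_⟩
  rw [← hh, ← hg]; group

/-- Z(J) does not control strong fusion in `Qd(p)`. -/
theorem qd_not_controls {H : Type*} [Group H] [Finite H] (e : H ≃* Cfsg.qd p) :
    ∃ T : Sylow p H, ¬ Cfsg.ControlsStrongFusion p (Cfsg.centerThompsonAOf (T : Subgroup H)) := by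
  have hinj : Function.Injective e.toMonoidHom := e.injective
  have hsurj : Function.Surjective e.toMonoidHom := e.surjective
  have hmap : ∀ W : Subgroup (Cfsg.qd p), (W.comap e.toMonoidHom).map e.toMonoidHom = W := fun W => Subgroup.map_comap_eq_self_of_surjective hsurj W
  have hcard : ∀ W : Subgroup (Cfsg.qd p), Nat.card (W.comap e.toMonoidHom) = Nat.card W := by
    intro W
    conv_rhs => rw [← hmap W]
    exact (Nat.card_congr ((W.comap e.toMonoidHom).equivMapOfInjective _ hinj).toEquiv)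
  have hcomm : ∀ W : Subgroup (Cfsg.qd p), IsMulCommutative W → IsMulCommutative (W.comap e.toMonoidHom) := by
    intro W hW
    refine ⟨⟨?_⟩⟩
    rintro ⟨a, ha⟩ ⟨b, hb⟩
    apply Subtype.ext
    apply hinj
    show e.toMonoidHom (a * b) = e.toMonoidHom (b * a)
    rw [map_mul, map_mul]
    exact CfsgLib.PGrp.mul_comm_of_isMulCommutative hW ha hb
  refine not_controls (V := (tr2 p).comap e.toMonoidHom) (B := (trB p).comap e.toMonoidHom) (tr2_normal.comap _)
    (tr2_isPGroup.comap_of_injective _ hinj) (hcomm _ tr2_comm) ?_ ?_ (trB_isPGroup.comap_of_injective _ hinj) (hcomm _ trB_comm)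
    (by rw [hcard, hcard, card_trB]) ?_
  · intro x hx
    apply tr2_centralizer
    rw [Subgroup.mem_centralizer_iff] at hx ⊢
    intro y hy
    obtain ⟨y, rfl⟩ := hsurj y
    have h1 := hx y hy
    show e.toMonoidHom y * e.toMonoidHom x = e.toMonoidHom x * e.toMonoidHom y
    rw [← map_mul, ← map_mul, h1]
  · intro x hx hx1 y hy hy1
    obtain ⟨g, hg⟩ := tr2_conj (e x) hx (fun h => hx1 (e.injective (by rw [h, map_one]))) (e y) hy (fun h => hy1 (e.injective (by rw [h, map_one])))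
    obtain ⟨g, rfl⟩ := hsurj g
    refine ⟨g, e.injective ?_⟩
    rw [map_mul, map_mul, map_inv]
    exact hg
  · intro h
    apply trB_ne (p := p)
    rw [← hmap (trB p), h, hmap]

/-- the functor Z(J) -/
def WZ (e : ℕ) : ∀ (Q : Type u) [Group Q], Subgroup Q := fun Q _ => ZM e (⊤ : Subgroup Q)

theorem WZ_induced {G : Type u} [Group G] [Finite G] (e : ℕ) (P : Subgroup G) : Cfsg.inducedFunctor (G := G) (WZ e) P = ZM e P :=
  (ZM_eq_map_top e P).symm

theorem WZ_char {e : ℕ} (he : p ∣ e) : Cfsg.IsCharPFunctor.{u} p (WZ e) := by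
  refine ⟨?_, ?_⟩
  · intro Q _ _ hQ hnt
    apply ZM_ne_bot (p := p) _ _ he
    · exact IsPGroup.to_subgroup hQ _
    · exact top_ne_bot
  · intro Q R _ _ _ hQ φ
    show (ZM e (⊤ : Subgroup Q)).map φ.toMonoidHom = ZM e (⊤ : Subgroup R)
    rw [ZM_map φ.toMonoidHom φ.injective]
    congr 1
    exact Subgroup.map_top_of_surjective _ φ.surjective

theorem fc_of_free {G : Type u} [Group G] [Finite G] (hp2 : p ≠ 2) {e : ℕ} (he : p ∣ e) (h : ¬ Cfsg.Involves ↥(Cfsg.qd p) G)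
    (Y : Type u) [Group Y] (hY : CfsgLib.CF.Sect G Y) : CfsgLib.CF.FC p {WZ e} Y := by
  refine CfsgLib.CF.fc_sections_of_normal (WZ_char he) (G := G) ?_ Y hY
  intro Y _ _ hY hc S hS
  obtain ⟨P, rfl⟩ := CfsgLib.SylBridge.isSyl_top_iff.1 hS
  rw [WZ_induced]
  obtain ⟨K, f, hf⟩ := hY
  have hfree : ¬ Cfsg.Involves ↥(Cfsg.qd p) Y := fun h1 => h (CfsgLib.Inv.of_section K f hf h1)
  exact ZM_normal hp2 hc (stab_of_normalizer (nstable_of_free hp2 hfree)) P e

theorem s2794 {G : Type u} [Group G] [Finite G] (hp2 : p ≠ 2) : ¬ Cfsg.Involves ↥(Cfsg.qd p) G ↔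
    ∀ (K R : Subgroup G) [hR : (R.subgroupOf K).Normal], ∀ T : Sylow p (K ⧸ R.subgroupOf K),
      Cfsg.ControlsStrongFusion p (Cfsg.centerThompsonAOf (T : Subgroup (K ⧸ R.subgroupOf K))) := by
  constructor
  · intro h K R hR T
    have h1 := fc_of_free hp2 (dvd_zero p) h (K ⧸ R.subgroupOf K) ⟨K, QuotientGroup.mk' _, QuotientGroup.mk'_surjective _⟩
    have h2 := CfsgLib.CF.controlsStrongFusion_of_fc (WZ_char (dvd_zero p)) h1 T
    rw [WZ_induced] at h2
    rw [centerThompsonA_eq]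
    exact h2
  · intro h hinv
    obtain ⟨K, R, hR, ⟨e⟩⟩ := hinv
    obtain ⟨T, hT⟩ := qd_not_controls e
    exact hT (h K R T)

end CfsgLib.ThmA
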