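import Cfsg.Agent.Lib.FusionQd
import Cfsg.Agent.Lib.ThmA8
/-!
`Z(J(S))` is normal in `Qd(p)`-free fusion systems.
-/
set_option autoImplicit false
set_option maxHeartbeats 400000

universe u

namespace CfsgLib.Fusion

open Cfsg Cfsg.FusionSystem CfsgLib.SylowIn CfsgLib.StronglyEmb CfsgLib.ThmA

variable {p : ℕ} [hp : Fact p.Prime]

theorem WZ1 : ∀ (Q : Type u) [Group Q] [Finite Q], IsPGroup p Q → Nontrivial Q →
    WZ 0 Q ≠ ⊥ := fun Q _ _ hQ hQn => (WZ_char (p := p) (dvd_zero p)).1 Q hQ hQn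

theorem WZ2 : ∀ (Q R : Type u) [Group Q] [Group R] [Finite Q], IsPGroup p Q → ∀ φ : Q ≃* R,
    (WZ 0 Q).map φ.toMonoidHom = WZ 0 R :=
  fun Q R _ _ _ hQ φ => (WZ_char (p := p) (dvd_zero p)).2 Q R hQ φ

theorem WZ3 (hp2 : p ≠ 2) (L : Type u) [Group L] [Finite L] (P : Sylow p L)
    (hc : Subgroup.centralizer ((Cfsg.pCore p L : Subgroup L) : Set L) ≤ Cfsg.pCore p L)
    (hfree : ¬ Cfsg.Involves ↥(Cfsg.qd p) L) :
    (((WZ 0 ↥(P : Subgroup L)).map (P : Subgroup L).subtype : Subgroup L)).Normal := by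
  have h1 := WZ_induced 0 (P : Subgroup L)
  have h2 := CfsgLib.ZJ4.ZM_normal hp2 hc (CfsgLib.PSt.stab_of_normalizer (nstable_of_free hp2 hfree)) P 0
  rw [← h1] at h2
  exact h2

/-- S5190 for odd `p` -/
theorem isNormal_ZJ (hp2 : p ≠ 2) {Ω : Type u} [Group Ω] {S : Subgroup Ω} [Finite S] (hS : IsPGroup p S)
    {F : FusionSystem S} (hF : F.IsSaturated p) (hfree : F.IsSectionFree p ↥(Cfsg.qd p)) :
    F.IsNormal (wS (WZ 0) S) :=
  isNormal_wS (H := ↥(Cfsg.qd p)) WZ1 WZ2 (WZ3 hp2) _ Ω S hS F hF hfree rfl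

theorem solvable_of_qdFree (hp2 : p ≠ 2) {Ω : Type u} [Group Ω] {S : Subgroup Ω} [Finite S]
    (hS : IsPGroup p S) {F : FusionSystem S} (hF : F.IsSaturated p)
    (hfree : F.IsSectionFree p ↥(Cfsg.qd p)) : F.IsSolvableSystem := by
  intro R hR hRS hRn E hE
  have hfac := Fac.of hS hF hR hE
  have hE₂ := surjectiveMorphism_saturated hS hF (factorSystem_surjective hS hF hR hE)
  have hfree₂ := sectionFree_factor hS hF hE₂ hfac hfree
  have hfin := hfac.finite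
  have hpg := hfac.isPGroup hS
  have h1 := isNormal_ZJ hp2 hpg hE₂ hfree₂
  have hne : (⊤ : Subgroup (S ⧸ R.subgroupOf S)) ≠ ⊥ := by
    intro h
    apply hRS
    apply le_antisymm hR.1
    have h2 := hfac.pre_top
    rw [h, hfac.pre_bot] at h2
    exact h2.ge
  intro hcore
  have h3 := IsNormal.le_core h1
  rw [hcore, le_bot_iff] at h3
  exact wS_ne_bot WZ1 hpg hne h3

end CfsgLib.Fusion
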