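import Cfsg.Agent.Lib.FusionNil3
/-!
The fusion system realized by an injective homomorphism.
-/
set_option autoImplicit false
set_option maxHeartbeats 400000

namespace CfsgLib.Fusion

open Cfsg Cfsg.FusionSystem CfsgLib.SylowIn CfsgLib.StronglyEmb

section
variable {Ω : Type*} [Group Ω] {S : Subgroup Ω} {L : Type*} [Group L]

/-- the data -/
def realData (κ : S →* L) (hκ : Function.Injective κ) : FSData S where
  M P f := ∃ (hP : P ≤ S) (hf : ∀ x ∈ P, f x ∈ S) (g : L), ∀ x (hx : x ∈ P),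
    κ ⟨f x, hf x hx⟩ = g * κ ⟨x, hP hx⟩ * g⁻¹
  congr := by
    rintro P f f' ⟨hP, hf, g, h⟩ hff
    refine ⟨hP, fun x hx => by rw [← hff x hx]; exact hf x hx, g, fun x hx => ?_⟩
    rw [← h x hx]
    congr 1
    exact Subtype.ext (hff x hx).symm
  le := by rintro P f ⟨hP, hf, -⟩; exact ⟨hP, hf⟩
  hom := by
    rintro P f ⟨hP, hf, g, h⟩ x hx y hy
    have h1 : κ ⟨f (x * y), hf _ (P.mul_mem hx hy)⟩ = κ (⟨f x, hf x hx⟩ * ⟨f y, hf y hy⟩) := by
      rw [map_mul, h x hx, h y hy, h (x * y) (P.mul_mem hx hy)]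
      have : (⟨x * y, hP (P.mul_mem hx hy)⟩ : S) = ⟨x, hP hx⟩ * ⟨y, hP hy⟩ := rfl
      rw [this, map_mul]; group
    exact congrArg Subtype.val (hκ h1)
  inj := by
    rintro P f ⟨hP, hf, g, h⟩ x hx y hy hxy
    have h1 : κ ⟨f x, hf x hx⟩ = κ ⟨f y, hf y hy⟩ := by congr 1; exact Subtype.ext hxy
    rw [h x hx, h y hy] at h1
    have h2 := hκ (mul_left_cancel (mul_right_cancel h1))
    exact congrArg Subtype.val h2
  conj := by
    intro P s hP hs
    refine ⟨hP, fun x hx => S.mul_mem (S.mul_mem hs (hP hx)) (S.inv_mem hs), κ ⟨s, hs⟩, fun x hx => ?_⟩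
    rw [← map_inv, ← map_mul, ← map_mul]; rfl
  comp := by
    rintro P Q f f' ⟨hP, hf, g, h⟩ ⟨hQ, hf', g', h'⟩ hPQ
    refine ⟨hP, fun x hx => hf' _ (hPQ x hx), g' * g, fun x hx => ?_⟩
    rw [h' _ (hPQ x hx)]
    have := h x hx
    have h1 : κ ⟨f x, hQ (hPQ x hx)⟩ = κ ⟨f x, hf x hx⟩ := rfl
    rw [h1, this]; group
  inv := by
    rintro P f ⟨hP, hf, g, h⟩
    classical
    have hex : ∀ y ∈ img P f, ∃ x, x ∈ P ∧ f x = y := by
      intro y hy
      have hsub : img P f ≤ S := Subgroup.closure_le _ |>.2 (by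
        rintro _ ⟨x, hx, rfl⟩; exact hf x hx)
      have hhom : ∀ x ∈ P, ∀ y ∈ P, f (x * y) = f x * f y := by
        intro x hx y hy
        have h1 : κ ⟨f (x * y), hf _ (P.mul_mem hx hy)⟩ = κ (⟨f x, hf x hx⟩ * ⟨f y, hf y hy⟩) := by
          rw [map_mul, h x hx, h y hy, h (x * y) (P.mul_mem hx hy)]
          have : (⟨x * y, hP (P.mul_mem hx hy)⟩ : S) = ⟨x, hP hx⟩ * ⟨y, hP hy⟩ := rfl
          rw [this, map_mul]; group
        exact congrArg Subtype.val (hκ h1)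
      let φ : P →* Ω := MonoidHom.mk' (fun x => f x) (fun x y => hhom x x.2 y y.2)
      have hle : img P f ≤ φ.range := Subgroup.closure_le _ |>.2 (by
        rintro _ ⟨x, hx, rfl⟩; exact ⟨⟨x, hx⟩, rfl⟩)
      obtain ⟨x, hx⟩ := hle hy
      exact ⟨x, x.2, hx⟩
    let k : Ω → Ω := fun y => if hy : y ∈ img P f then (hex y hy).choose else 1
    have hk : ∀ y (hy : y ∈ img P f), k y ∈ P ∧ f (k y) = y := by
      intro y hy
      show (if hy : y ∈ img P f then (hex y hy).choose else 1) ∈ P ∧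
        f (if hy : y ∈ img P f then (hex y hy).choose else 1) = y
      rw [dif_pos hy]
      exact (hex y hy).choose_spec
    have hsub : img P f ≤ S := Subgroup.closure_le _ |>.2 (by
        rintro _ ⟨x, hx, rfl⟩; exact hf x hx)
    refine ⟨k, ⟨hsub, fun y hy => hP (hk y hy).1, g⁻¹, fun y hy => ?_⟩, fun x hx => ?_⟩
    · obtain ⟨h1, h2⟩ := hk y hy
      have h3 := h (k y) h1
      have h4 : κ ⟨f (k y), hf _ h1⟩ = κ ⟨y, hsub hy⟩ := by congr 1; exact Subtype.ext h2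
      rw [← h4, h3]; group
    · have hfx : f x ∈ img P f := Subgroup.subset_closure ⟨x, hx, rfl⟩
      obtain ⟨h1, h2⟩ := hk _ hfx
      have h3 : κ ⟨f (k (f x)), hf _ h1⟩ = κ ⟨f x, hf x hx⟩ := by congr 1; exact Subtype.ext h2
      rw [h _ h1, h x hx] at h3
      have h4 := hκ (mul_left_cancel (mul_right_cancel h3))
      exact congrArg Subtype.val h4

/-- the fusion system realized by `κ`. -/
noncomputable def realSys (κ : S →* L) (hκ : Function.Injective κ) : FusionSystem S :=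
  (realData κ hκ).toFS

theorem FMap_realSys {κ : S →* L} {hκ : Function.Injective κ} {P : Subgroup Ω} {f : Ω → Ω} :
    FMap (realSys κ hκ) P f ↔ ∃ (hP : P ≤ S) (hf : ∀ x ∈ P, f x ∈ S) (g : L), ∀ x (hx : x ∈ P),
      κ ⟨f x, hf x hx⟩ = g * κ ⟨x, hP hx⟩ * g⁻¹ := FMap_toFS _

theorem realSys_realized (κ : S →* L) (hκ : Function.Injective κ) :
    (realSys κ hκ).IsRealizedBy κ := by
  rw [isRealizedBy_iff]
  refine ⟨hκ, fun P hP f hf => ?_⟩
  rw [FMap_realSys]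
  constructor
  · rintro ⟨hP', hf', g, h⟩; exact ⟨g, h⟩
  · rintro ⟨g, h⟩; exact ⟨hP, hf, g, h⟩

theorem FMap_of_realized {F : FusionSystem S} {κ : S →* L} (h : F.IsRealizedBy κ)
    {P : Subgroup Ω} {f : Ω → Ω} : FMap F P f ↔ ∃ (hP : P ≤ S) (hf : ∀ x ∈ P, f x ∈ S) (g : L),
      ∀ x (hx : x ∈ P), κ ⟨f x, hf x hx⟩ = g * κ ⟨x, hP hx⟩ * g⁻¹ := by
  obtain ⟨hinj, hr⟩ := isRealizedBy_iff.1 h
  constructor
  · intro hf
    obtain ⟨g, hg⟩ := (hr P hf.le f (fun x hx => hf.mapsTo hx)).1 hf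
    exact ⟨hf.le, fun x hx => hf.mapsTo hx, g, hg⟩
  · rintro ⟨hP, hf, g, hg⟩
    exact (hr P hP f hf).2 ⟨g, hg⟩

end

/-- restriction of a realizing group. -/
theorem realSys_sub {Ω : Type*} [Group Ω] {S : Subgroup Ω} [Finite S] {L : Type*} [Group L] [Finite L]
    {p : ℕ} [Fact p.Prime] {F : FusionSystem S} {κ : S →* L} (h : F.IsRealizedBy κ) {T : Sylow p L}
    (hT : (T : Subgroup L) = κ.range) {M : Subgroup L} (hM : (T : Subgroup L) ≤ M) :
    ∃ (κ' : S →* M), (∀ s, ((κ' s : M) : L) = κ s) ∧ ∃ hκ' : Function.Injective κ',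
      (realSys κ' hκ').IsSaturated p ∧ realSys κ' hκ' ≤ F ∧
      ((T.subtype hM : Sylow p M) : Subgroup M) = κ'.range := by
  have hκM : ∀ s, κ s ∈ M := fun s => hM (by rw [hT]; exact ⟨s, rfl⟩)
  let κ' : S →* M := κ.codRestrict M hκM
  have hκ' : Function.Injective κ' := by
    intro a b hab
    exact h.1 (congrArg Subtype.val hab)
  have hrange : ((T.subtype hM : Sylow p M) : Subgroup M) = κ'.range := by
    ext x
    have h1 : x ∈ ((T.subtype hM : Sylow p M) : Subgroup M) ↔ (x : L) ∈ (T : Subgroup L) := Iff.rfl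
    rw [h1, hT]
    constructor
    · rintro ⟨s, hs⟩; exact ⟨s, Subtype.ext hs⟩
    · rintro ⟨s, hs⟩; exact ⟨s, congrArg Subtype.val hs⟩
  refine ⟨κ', fun _ => rfl, hκ', ?_, ?_, hrange⟩
  · exact IsRealizedBy.saturated (realSys_realized κ' hκ') ⟨T.subtype hM, hrange⟩
  · rw [le_iff_FMap]
    intro P f hf
    obtain ⟨hP, hf, g, hg⟩ := FMap_realSys.1 hf
    rw [FMap_of_realized h]
    exact ⟨hP, hf, g, fun x hx => congrArg Subtype.val (hg x hx)⟩

end CfsgLib.Fusion
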