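import Cfsg.Agent.Lib.FusionNil7
import Cfsg.Agent.Lib.FusionExt2

/-!
The trace map and the centre of a fusion system as a direct factor of the centre of `S`.
-/
set_option autoImplicit false
set_option maxHeartbeats 400000

namespace CfsgLib.Fusion

open Cfsg Cfsg.FusionSystem CfsgLib.SylowIn

/-- complement to the fixed points of the whole group in the fixed points of a subgroup of index prime to `p`. -/
theorem exists_compl_fixed {A V : Type*} [Group A] [Finite A] [CommGroup V] [Finite V] {p : ℕ}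
    [hp : Fact p.Prime] (hV : IsPGroup p V) (ρ : A →* MulAut V) (P : Subgroup A) (hP : ¬ p ∣ P.index) :
    ∃ K : Subgroup V, (∀ v ∈ K, ∀ a ∈ P, ρ a v = v) ∧ (∀ v ∈ K, (∀ a, ρ a v = v) → v = 1) ∧
      ∀ v, (∀ a ∈ P, ρ a v = v) → ∃ u k, k ∈ K ∧ (∀ a, ρ a u = u) ∧ v = u * k := by
  classical
  have := Fintype.ofFinite (A ⧸ P)
  let W : Subgroup V :=
    { carrier := {v | ∀ a ∈ P, ρ a v = v}
      mul_mem' := fun {x y} hx hy a ha => by rw [map_mul, hx a ha, hy a ha]
      one_mem' := fun a _ => map_one _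
      inv_mem' := fun {x} hx a ha => by rw [map_inv, hx a ha] }
  have hW : ∀ v, v ∈ W ↔ ∀ a ∈ P, ρ a v = v := fun v => Iff.rfl
  let g : W → A ⧸ P → V := fun v q => Quotient.liftOn' q (fun a => ρ a v) (by
    intro a b hab
    rw [QuotientGroup.leftRel_apply] at hab
    have h1 := (hW v).1 v.2 _ hab
    have h2 : ρ a (ρ (a⁻¹ * b) (v : V)) = ρ b (v : V) := by
      rw [← MulAut.mul_apply, ← map_mul, mul_inv_cancel_left]
    show ρ a (v : V) = ρ b (v : V)
    rw [← h2, h1])
  have hg : ∀ v a, g v (QuotientGroup.mk a) = ρ a (v : V) := fun _ _ => rfl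
  let tr : W →* V :=
    { toFun := fun v => ∏ q, g v q
      map_one' := by
        apply Finset.prod_eq_one
        intro q _
        induction q using QuotientGroup.induction_on with
        | H a => rw [hg]; exact map_one _
      map_mul' := fun v w => by
        rw [← Finset.prod_mul_distrib]
        apply Finset.prod_congr rfl
        intro q _
        induction q using QuotientGroup.induction_on with
        | H a => rw [hg, hg, hg]; exact map_mul _ _ _ }
  have htr : ∀ v, tr v = ∏ q, g v q := fun v => rfl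
  have hfix : ∀ v a, ρ a (tr v) = tr v := by
    intro v a
    rw [htr, map_prod]
    rw [← Equiv.prod_comp (MulAction.toPerm a) (fun q => g v q)]
    apply Finset.prod_congr rfl
    intro q _
    induction q using QuotientGroup.induction_on with
    | H b =>
      rw [hg]
      show ρ a (ρ b (v : V)) = g v (QuotientGroup.mk (a * b))
      rw [hg, map_mul]; rfl
  have hpow : ∀ v : W, (∀ a, ρ a (v : V) = v) → tr v = (v : V) ^ P.index := by
    intro v hv
    have h1 : ∀ q, g v q = v := by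
      intro q
      induction q using QuotientGroup.induction_on with
      | H b => rw [hg]; exact hv b
    rw [htr, Finset.prod_congr rfl (fun q _ => h1 q), Finset.prod_const]
    congr 1
    rw [Finset.card_univ, ← Nat.card_eq_fintype_card]
    rfl
  have hco : ∀ v : V, P.index.Coprime (orderOf v) := by
    intro v
    obtain ⟨k, hk⟩ := IsPGroup.iff_orderOf.1 hV v
    rw [hk]
    exact ((Nat.Prime.coprime_iff_not_dvd hp.out).2 hP).symm.pow_right k
  obtain ⟨m, hm⟩ : ∃ m : ℕ, ∀ v : V, (v ^ P.index) ^ m = v := by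
    obtain ⟨k, hk⟩ := IsPGroup.iff_card.1 hV
    have h1 : P.index.Coprime (Nat.card V) := by
      rw [hk]
      exact ((Nat.Prime.coprime_iff_not_dvd hp.out).2 hP).symm.pow_right k
    refine ⟨(P.index : ZMod (Nat.card V))⁻¹.val, fun v => ?_⟩
    rw [← pow_mul]
    have h2 : (((P.index * ((P.index : ZMod (Nat.card V))⁻¹).val : ℕ) : ZMod (Nat.card V))) = ((1 : ℕ) : ZMod (Nat.card V)) := by
      have : NeZero (Nat.card V) := ⟨Nat.card_pos.ne'⟩
      rw [Nat.cast_mul, ZMod.natCast_zmod_val, Nat.cast_one]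
      exact ZMod.coe_mul_inv_eq_one _ h1
    rw [ZMod.natCast_eq_natCast_iff] at h2
    have h3 := (h2.of_dvd (orderOf_dvd_natCard v))
    have h4 := (pow_eq_pow_iff_modEq (x := v)).2 h3
    rw [pow_one] at h4
    exact h4
  refine ⟨tr.ker.map W.subtype, ?_, ?_, ?_⟩
  · rintro _ ⟨v, _, rfl⟩ a ha
    exact v.2 a ha
  · rintro _ ⟨v, hv, rfl⟩ hva
    have h1 := hpow v hva
    have h2 : tr v = 1 := hv
    rw [h2] at h1
    have h3 := hm (v : V)
    rw [← h1, one_pow] at h3
    exact h3.symm
  · intro v hv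
    let v' : W := ⟨v, hv⟩
    have hu : ∀ a, ρ a ((tr v') ^ m) = (tr v') ^ m := fun a => by rw [map_pow, hfix]
    let u' : W := ⟨(tr v') ^ m, fun a _ => hu a⟩
    refine ⟨(tr v') ^ m, ((tr v') ^ m)⁻¹ * v, ⟨u'⁻¹ * v', ?_, rfl⟩, hu, by group⟩
    show tr (u'⁻¹ * v') = 1
    rw [map_mul, map_inv, hpow u' hu]
    show (((tr v') ^ m) ^ P.index)⁻¹ * tr v' = 1
    rw [← pow_mul, mul_comm m, pow_mul, hm, inv_mul_cancel]

theorem exists_compl_fixed' {A V : Type*} [Group A] [Finite A] [inst : Group V] [Finite V]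
    (hc : ∀ x y : V, x * y = y * x) {p : ℕ}
    [hp : Fact p.Prime] (hV : IsPGroup p V) (ρ : A →* MulAut V) (P : Subgroup A) (hP : ¬ p ∣ P.index) :
    ∃ K : Subgroup V, (∀ v ∈ K, ∀ a ∈ P, ρ a v = v) ∧ (∀ v ∈ K, (∀ a, ρ a v = v) → v = 1) ∧
      ∀ v, (∀ a ∈ P, ρ a v = v) → ∃ u k, k ∈ K ∧ (∀ a, ρ a u = u) ∧ v = u * k := by
  letI : CommGroup V := { inst with mul_comm := hc }
  exact exists_compl_fixed hV ρ P hP

/-- restriction of automorphisms to the centre. -/
def centerAut (Q : Type*) [Group Q] : MulAut Q →* MulAut (Subgroup.center Q) where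
  toFun α :=
    { toFun := fun z => ⟨α z, by
        rw [Subgroup.mem_center_iff]
        intro g
        have h := Subgroup.mem_center_iff.1 z.2 (α⁻¹ g)
        have h2 := congrArg α h
        rw [map_mul, map_mul] at h2
        have e : α (α⁻¹ g) = g := by simp
        rwa [e] at h2⟩
      invFun := fun z => ⟨α⁻¹ z, by
        rw [Subgroup.mem_center_iff]
        intro g
        have h := Subgroup.mem_center_iff.1 z.2 (α g)
        have h2 := congrArg (α⁻¹ : MulAut Q) h
        rw [map_mul, map_mul] at h2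
        have e : (α⁻¹ : MulAut Q) (α g) = g := by simp
        rwa [e] at h2⟩
      left_inv := fun z => Subtype.ext (by simp)
      right_inv := fun z => Subtype.ext (by simp)
      map_mul' := fun x y => Subtype.ext (map_mul α _ _) }
  map_one' := by ext; rfl
  map_mul' α β := by ext; rfl

variable {Ω : Type*} [Group Ω] {S : Subgroup Ω}

theorem center_factor {p : ℕ} [hp : Fact p.Prime] [Finite S] (hS : IsPGroup p S)
    (F : FusionSystem S) (hF : F.IsSaturated p) {Q : Subgroup Ω} (hQ : F.IsNormal Q)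
    (hZ : (S ⊓ Subgroup.centralizer (S : Set Ω)) ≤ Q) :
    ∃ K : Subgroup Ω, K ≤ (S ⊓ Subgroup.centralizer (S : Set Ω)) ∧ F.center ⊓ K = ⊥ ∧
      F.center ⊔ K = (S ⊓ Subgroup.centralizer (S : Set Ω)) := by
  have hQS := hQ.1
  have hf : Finite Q := finite_of_le hQS
  obtain ⟨-, R, hR⟩ := (IsNormal.saturated_self hF hQ).1
  have hidx : ¬ p ∣ (R : Subgroup (F.autGroup Q)).index := R.not_dvd_index
  obtain ⟨K₀, h1, h2, h3⟩ := exists_compl_fixed' (V := Subgroup.center Q) (fun x y => Subtype.ext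
    (Subgroup.mem_center_iff.1 y.2 x)) ((hS.to_le hQS).to_subgroup _)
    ((centerAut Q).comp (F.autGroup Q).subtype) (R : Subgroup (F.autGroup Q)) hidx
  have hfixA : ∀ α ∈ F.autGroup Q, ∀ z ∈ F.center, ∀ hz : z ∈ Q, (α ⟨z, hz⟩ : Ω) = z := by
    intro α hα z hz hzQ
    have := IsCentral.fix (isCentral_center F) ((mem_autGroup_iff' hQS α).1 hα) hz hzQ
    rwa [aext_of_mem α hzQ] at this
  have hKle : (K₀.map (Subgroup.center Q).subtype).map Q.subtype ≤ S ⊓ Subgroup.centralizer (S : Set Ω) := by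
    rintro _ ⟨_, ⟨v, hv, rfl⟩, rfl⟩
    refine ⟨hQS (v : Q).2, Subgroup.mem_centralizer_iff.2 fun s hs => ?_⟩
    have hsQ : s ∈ Subgroup.normalizer (Q : Set Ω) :=
      mem_normalizer_of_conj_mem fun x hx => IsNormal.conj_mem hQ hs hx
    have h4 := conjAut_mem_autInducedBy hs hsQ
    have h5 := h1 v hv ⟨conjAut Q s hsQ, autInducedBy_le_autGroup F hQS h4⟩ (by rw [hR]; exact h4)
    have h6 := congrArg (fun x : Subgroup.center Q => ((x : Q) : Ω)) h5
    have h7 : s * ((v : Q) : Ω) * s⁻¹ = ((v : Q) : Ω) := h6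
    exact mul_inv_eq_iff_eq_mul.1 h7
  refine ⟨(K₀.map (Subgroup.center Q).subtype).map Q.subtype, hKle, ?_, ?_⟩
  · rw [eq_bot_iff]
    rintro _ ⟨hz, ⟨_, ⟨v, hv, rfl⟩, rfl⟩⟩
    have h4 := h2 v hv (fun a => by
      apply Subtype.ext
      apply Subtype.ext
      exact hfixA a a.2 _ hz (v : Q).2)
    rw [h4]
    rfl
  · apply le_antisymm
    · apply sup_le _ hKle
      intro z hz
      refine ⟨center_le F hz, Subgroup.mem_centralizer_iff.2 fun s hs => ?_⟩
      exact (center_comm (isCentral_center F) hz hs).symm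
    · rintro z ⟨hzS, hzc⟩
      have hzQ : z ∈ Q := hZ ⟨hzS, hzc⟩
      replace hzc := Subgroup.mem_centralizer_iff.1 hzc
      obtain ⟨u, k, hk, hu, hzu⟩ := h3 ⟨⟨z, hzQ⟩, by
        rw [Subgroup.mem_center_iff]
        intro g
        exact Subtype.ext (hzc g (hQS g.2))⟩ (by
        rintro ⟨α, hα⟩ hαR
        rw [hR] at hαR
        have h4 : α ∈ autInducedBy S Q := hαR
        rw [mem_autInducedBy_iff] at h4
        obtain ⟨s, hs, h5⟩ := h4
        apply Subtype.ext
        apply Subtype.ext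
        show (α ⟨z, hzQ⟩ : Ω) = z
        rw [h5]
        show s * z * s⁻¹ = z
        rw [hzc s hs, mul_inv_cancel_right])
      have e : z = ((u : Q) : Ω) * ((k : Q) : Ω) := congrArg (fun x : Subgroup.center Q => ((x : Q) : Ω)) hzu
      rw [e]
      apply Subgroup.mul_mem
      · apply Subgroup.mem_sup_left
        have key : F.IsCentral (Subgroup.zpowers ((u : Q) : Ω)) := by
          rw [isCentral_iff_conjElt hS hF]
          refine ⟨by rw [Subgroup.zpowers_le]; exact hQS (u : Q).2, fun P f hf x hx hxu => ?_⟩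
          obtain ⟨g, hg, hgf, hgQ⟩ := (isNormal_iff.1 hQ).2 P f hf
          have hgr := hg.restrict (le_sup_right : Q ≤ P ⊔ Q)
          obtain ⟨α, hα, hαg⟩ := hgr.exists_aut hgQ
          obtain ⟨n, rfl⟩ := hxu
          have h5 := hu ⟨α, hα⟩
          have h6 : (α (u : Q) : Ω) = ((u : Q) : Ω) := congrArg (fun x : Subgroup.center Q => ((x : Q) : Ω)) h5
          rw [← hgf _ hx]
          show g (((u : Q) : Ω) ^ n) = _
          rw [hgr.map_zpow (u : Q).2, ← hαg, h6]
        exact (show Subgroup.zpowers ((u : Q) : Ω) ≤ F.center from le_sSup key) (Subgroup.mem_zpowers _)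
      · exact Subgroup.mem_sup_right ⟨_, ⟨k, hk, rfl⟩, rfl⟩

end CfsgLib.Fusion
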