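import Cfsg.Agent.Lib.GA3
import Cfsg.Agent.Lib.ChevCD
set_option autoImplicit false
set_option maxRecDepth 1000000

/-! Data of the graph automorphisms (generated). -/

namespace CfsgLib.Chev.GA
open Cfsg.Lie CfsgLib.Chev

/-- check for a list of pairs -/
noncomputable def chkGens (S : GDt) (D : ChevalleyDatum) (T : Tab) (p : ℕ) (L : List (ℕ × ℕ × ℕ × ℤ)) : Bool :=
  L.all fun q => ball (dim D) fun c => S.chkCol D T p q.2.2.1 q.1 q.2.1 q.2.2.2 c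

def SE6 : GDt where
  P c := ([5, 1, 4, 3, 2, 0, 6, 7, 8, 11, 22, 9, 12, 23, 14, 25, 28, 17, 32, 36, 39, 41, 10, 13, 24, 15, 26, 29, 16, 27, 30, 31, 18, 33, 37, 40, 19, 34, 38, 20, 35, 21, 62, 48, 63, 45, 49, 64, 43, 46, 50, 65, 52, 53, 56, 67, 54, 57, 68, 59, 70, 73, 42, 44, 47, 51, 66, 55, 58, 69, 60, 71, 74, 61, 72, 75, 76, 77] : List ℕ).getD c 0
  sg c := ([1, 1, 1, 1, 1, 1, 1, 1, 1, 1, -1, 1, 1, -1, 1, -1, -1, 1, -1, 1, -1, 1, -1, -1, 1, -1, 1, 1, -1, 1, 1, 1, -1, 1, -1, 1, 1, -1, 1, -1, 1, 1, 1, 1, -1, 1, -1, 1, 1, -1, 1, -1, 1, 1, 1, -1, 1, 1, -1, 1, -1, -1, 1, -1, 1, -1, 1, -1, -1, 1, -1, 1, 1, -1, 1, 1, 1, 1] : List ℤ).getD c 1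
  in1 _ := true
  in2 _ := true

def LE6 : List (ℕ × ℕ × ℕ × ℤ) := [(56, 36, 1, 1), (46, 46, 1, 1), (42, 37, 1, 1), (39, 39, 1, 1), (37, 42, 1, 1), (36, 56, 1, 1), (15, 35, 1, 1), (25, 25, 1, 1), (29, 34, 1, 1), (32, 32, 1, 1), (34, 29, 1, 1), (35, 15, 1, 1)]

def rhoE6 : List ℕ := [0, 1, 2, 5, 16, 3, 6, 17, 8, 19, 22, 11, 26, 30, 33, 35, 4, 7, 18, 9, 20, 23, 10, 21, 24, 25, 12, 27, 31, 34, 13, 28, 32, 14, 29, 15, 56, 42, 57, 39, 43, 58, 37, 40, 44, 59, 46, 47, 50, 61, 48, 51, 62, 53, 64, 67, 36, 38, 41, 45, 60, 49, 52, 63, 54, 65, 68, 55, 66, 69, 70, 71]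

theorem permChkE6 : SE6.chkPerm (dim chevE6) = true := by decide +kernel

theorem gensChkE6 : chkGens SE6 chevE6 TE6 0 LE6 = true := by decide +kernel

def SD4 : GDt where
  P c := ([2, 1, 3, 0, 4, 5, 10, 6, 11, 14, 7, 12, 8, 13, 15, 9, 22, 16, 18, 23, 19, 24, 17, 20, 25, 21, 26, 27] : List ℕ).getD c 0
  sg c := ([1, 1, 1, 1, 1, 1, -1, 1, -1, 1, -1, 1, -1, 1, 1, 1, 1, 1, 1, -1, 1, -1, 1, -1, 1, -1, 1, 1] : List ℤ).getD c 1
  in1 _ := true
  in2 _ := true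

def LD4 : List (ℕ × ℕ × ℕ × ℤ) := [(18, 13, 1, 1), (14, 14, 1, 1), (13, 12, 1, 1), (12, 18, 1, 1), (5, 10, 1, 1), (9, 9, 1, 1), (10, 11, 1, 1), (11, 5, 1, 1)]

def rhoD4 : List ℕ := [0, 1, 6, 2, 7, 10, 3, 8, 4, 9, 11, 5, 18, 12, 14, 19, 15, 20, 13, 16, 21, 17, 22, 23]

theorem permChkD4 : SD4.chkPerm (dim chevD4) = true := by decide +kernel

theorem gensChkD4 : chkGens SD4 chevD4 TD4 0 LD4 = true := by decide +kernel

def SD4b : GDt where
  P c := ([3, 1, 0, 2, 4, 5, 7, 10, 12, 15, 6, 8, 11, 13, 9, 14, 17, 22, 18, 20, 23, 25, 16, 19, 21, 24, 26, 27] : List ℕ).getD c 0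
  sg c := ([1, 1, 1, 1, 1, 1, 1, -1, -1, 1, -1, -1, 1, 1, 1, 1, 1, 1, 1, 1, -1, -1, 1, -1, -1, 1, 1, 1] : List ℤ).getD c 1
  in1 _ := true
  in2 _ := true

def LD4b : List (ℕ × ℕ × ℕ × ℤ) := [(18, 12, 1, 1), (14, 14, 1, 1), (13, 18, 1, 1), (12, 13, 1, 1), (5, 11, 1, 1), (9, 9, 1, 1), (10, 5, 1, 1), (11, 10, 1, 1)]

def rhoD4b : List ℕ := [0, 1, 3, 6, 8, 11, 2, 4, 7, 9, 5, 10, 13, 18, 14, 16, 19, 21, 12, 15, 17, 20, 22, 23]

theorem permChkD4b : SD4b.chkPerm (dim chevD4) = true := by decide +kernel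

theorem gensChkD4b : chkGens SD4b chevD4 TD4 0 LD4b = true := by decide +kernel

def SB2 : GDt where
  P c := ([1, 0, 3, 2, 5, 4, 7, 6, 9, 8] : List ℕ).getD c 0
  sg c := ([1, 1, 1, 1, 1, 1, 1, 1, 1, 1] : List ℤ).getD c 1
  in1 c := ([false, true, true, false, false, true, true, false, false, true] : List Bool).getD c false
  in2 c := ([true, false, false, true, true, false, false, true, true, false] : List Bool).getD c false

def LB2 : List (ℕ × ℕ × ℕ × ℤ) := [(0, 1, 1, 1), (1, 0, 2, 1), (2, 3, 2, 1), (3, 2, 1, 1), (4, 5, 1, 1), (5, 4, 2, 1), (6, 7, 2, 1), (7, 6, 1, 1)]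

def rhoB2 : List ℕ := [1, 0, 3, 2, 5, 4, 7, 6]

theorem permChkB2 : SB2.chkPerm (dim chevB2) = true := by decide +kernel

theorem gensChkB2 : chkGens SB2 chevB2 TB2 2 LB2 = true := by decide +kernel

def SF4 : GDt where
  P c := ([3, 2, 1, 0, 7, 11, 12, 4, 13, 15, 22, 5, 6, 8, 19, 9, 20, 25, 27, 14, 16, 23, 10, 21, 26, 17, 24, 18, 37, 31, 38, 29, 34, 45, 32, 39, 41, 28, 30, 35, 46, 36, 47, 49, 50, 33, 40, 42, 51, 43, 44, 48] : List ℕ).getD c 0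
  sg c := ([1, 1, 1, 1, 1, 1, 1, 1, 1, 1, 1, 1, 1, 1, 1, 1, 1, 1, 1, 1, 1, 1, 1, 1, 1, 1, 1, 1, 1, 1, 1, 1, 1, 1, 1, 1, 1, 1, 1, 1, 1, 1, 1, 1, 1, 1, 1, 1, 1, 1, 1, 1] : List ℤ).getD c 1
  in1 c := ([false, false, true, true, true, true, true, false, true, true, true, false, false, false, false, false, false, false, false, true, true, true, false, false, false, true, true, true, true, true, true, false, false, false, true, true, true, false, false, false, false, false, false, false, false, true, true, true, false, true, true, true] : List Bool).getD c false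
  in2 c := ([true, true, false, false, false, false, false, true, false, false, false, true, true, true, true, true, true, true, true, false, false, false, true, true, true, false, false, false, false, false, false, true, true, true, false, false, false, true, true, true, true, true, true, true, true, false, false, false, true, false, false, false] : List Bool).getD c false

def LF4 : List (ℕ × ℕ × ℕ × ℤ) := [(0, 3, 1, 1), (1, 7, 1, 1), (2, 8, 1, 1), (3, 0, 2, 1), (4, 9, 1, 1), (5, 11, 1, 1), (6, 18, 1, 1), (7, 1, 2, 1), (8, 2, 2, 1), (9, 4, 2, 1), (10, 15, 2, 1), (11, 5, 2, 1), (12, 16, 2, 1), (13, 21, 2, 1), (14, 23, 2, 1), (15, 10, 1, 1), (16, 12, 1, 1), (17, 19, 1, 1), (18, 6, 2, 1), (19, 17, 2, 1), (20, 22, 2, 1), (21, 13, 1, 1), (22, 20, 1, 1), (23, 14, 1, 1), (24, 33, 1, 1), (25, 27, 1, 1), (26, 34, 1, 1), (27, 25, 2, 1), (28, 30, 2, 1), (29, 41, 2, 1), (30, 28, 1, 1), (31, 35,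 1, 1), (32, 37, 1, 1), (33, 24, 2, 1), (34, 26, 2, 1), (35, 31, 2, 1), (36, 42, 2, 1), (37, 32, 2, 1), (38, 43, 2, 1), (39, 45, 2, 1), (40, 46, 2, 1), (41, 29, 1, 1), (42, 36, 1, 1), (43, 38, 1, 1), (44, 47, 2, 1), (45, 39, 1, 1), (46, 40, 1, 1), (47, 44, 1, 1)]

def rhoF4 : List ℕ := [3, 7, 8, 0, 9, 11, 18, 1, 2, 4, 15, 5, 16, 21, 23, 10, 12, 19, 6, 17, 22, 13, 20, 14, 33, 27, 34, 25, 30, 41, 28, 35, 37, 24, 26, 31, 42, 32, 43, 45, 46, 29, 36, 38, 47, 39, 40, 44]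

theorem permChkF4 : SF4.chkPerm (dim chevF4) = true := by decide +kernel

theorem gensChkF4 : chkGens SF4 chevF4 TF4 2 LF4 = true := by decide +kernel

def SG2 : GDt where
  P c := ([1, 0, 4, 5, 2, 3, 7, 6, 9, 8, 12, 13, 10, 11] : List ℕ).getD c 0
  sg c := ([1, 1, 1, 1, 1, 1, 1, 1, 1, 1, 1, 1, 1, 1] : List ℤ).getD c 1
  in1 c := ([false, true, true, true, false, false, false, true, true, false, false, false, true, true] : List Bool).getD c false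
  in2 c := ([true, false, false, false, true, true, true, false, false, true, true, true, false, false] : List Bool).getD c false

def LG2 : List (ℕ × ℕ × ℕ × ℤ) := [(0, 2, 1, 1), (1, 3, 1, 1), (2, 0, 3, 1), (3, 1, 3, 1), (4, 5, 3, 1), (5, 4, 1, 1), (6, 7, 1, 1), (7, 6, 3, 1), (8, 10, 3, 1), (9, 11, 3, 1), (10, 8, 1, 1), (11, 9, 1, 1)]

def rhoG2 : List ℕ := [2, 3, 0, 1, 5, 4, 7, 6, 10, 11, 8, 9]

theorem permChkG2 : SG2.chkPerm (dim chevG2) = true := by decide +kernel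

theorem gensChkG2 : chkGens SG2 chevG2 TG2 3 LG2 = true := by decide +kernel

end CfsgLib.Chev.GA
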