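import Cfsg.Agent.Lib.Unip
import Cfsg.Agent.Lib.Singer

/-!
# Orders of elements of `GL_n(F)` over a finite field.
-/

set_option autoImplicit false

namespace CfsgLib.GLOrd

open Matrix Polynomial

variable {F : Type*} [Field F] {n : ℕ}

theorem pow_eq_one_of_domain [Finite F] {D : Type*} [CommRing D] [IsDomain D] [Algebra F D] [FiniteDimensional F D]
    {y : D} (hy : y ≠ 0) : y ^ (Nat.card F ^ Module.finrank F D - 1) = 1 := by
  classical
  have hfin : Finite D := Module.finite_of_finite F
  have : Fintype D := Fintype.ofFinite D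
  have hc : Nat.card D = Nat.card F ^ Module.finrank F D := Module.natCard_eq_pow_finrank
  let _ : Field D := Fintype.fieldOfDomain D
  rw [← hc, Nat.card_eq_fintype_card]
  exact FiniteField.pow_card_sub_one_eq_one y hy

/-- a power of a unit of an `n`-dimensional matrix algebra is unipotent -/
theorem isNilpotent_pow_sub_one [Finite F] (g : GL (Fin n) F) (N : ℕ)
    (hN : ∀ i, 1 ≤ i → i ≤ n → (Nat.card F ^ i - 1) ∣ N) : IsNilpotent (g.1 ^ N - 1) := by
  classical
  have hmon := Matrix.charpoly_monic g.1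
  let R := AdjoinRoot g.1.charpoly
  let pb := AdjoinRoot.powerBasis' hmon
  have hfd : FiniteDimensional F R := pb.finite
  have hfr : Module.finrank F R = n := by
    rw [pb.finrank]
    show g.1.charpoly.natDegree = n
    rw [Matrix.charpoly_natDegree_eq_dim, Fintype.card_fin]
  have key : IsNilpotent ((AdjoinRoot.root g.1.charpoly) ^ N - 1 : R) := by
    rw [nilpotent_iff_mem_prime]
    intro J hJ
    have hdom : IsDomain (R ⧸ J) := Ideal.Quotient.isDomain J
    have hfd' : FiniteDimensional F (R ⧸ J) := inferInstance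
    set y : R ⧸ J := Ideal.Quotient.mk J (AdjoinRoot.root g.1.charpoly) with hy
    have hyval : aeval y g.1.charpoly = 0 := by
      have h1 : aeval (AdjoinRoot.root g.1.charpoly) g.1.charpoly = 0 := by
        rw [AdjoinRoot.aeval_eq, AdjoinRoot.mk_self]
      have h2 : y = Ideal.Quotient.mkₐ F J (AdjoinRoot.root g.1.charpoly) := rfl
      rw [h2, aeval_algHom_apply, h1, map_zero]
    have hy0 : y ≠ 0 := by
      intro h0
      rw [h0, aeval_def, eval₂_at_zero] at hyval
      have h3 : g.1.charpoly.coeff 0 = 0 := by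
        apply (algebraMap F (R ⧸ J)).injective
        rw [hyval, map_zero]
      have h4 := Matrix.det_eq_sign_charpoly_coeff g.1
      rw [h3, mul_zero] at h4
      exact ((Matrix.isUnit_iff_isUnit_det _).1 g.isUnit).ne_zero h4
    have h1 := pow_eq_one_of_domain (F := F) hy0
    have h2 : 1 ≤ Module.finrank F (R ⧸ J) := Module.finrank_pos
    have h3 : Module.finrank F (R ⧸ J) ≤ n := by
      exact (LinearMap.finrank_le_finrank_of_surjective (f := (Ideal.Quotient.mkₐ F J).toLinearMap) Ideal.Quotient.mk_surjective).trans hfr.le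
    obtain ⟨k, hk⟩ := hN _ h2 h3
    have h4 : y ^ N = 1 := by rw [hk, pow_mul, h1, one_pow]
    rw [← Ideal.Quotient.eq_zero_iff_mem, map_sub, map_pow, map_one, ← hy, h4, sub_self]
  obtain ⟨k, hk⟩ := key
  have h1 : AdjoinRoot.mk g.1.charpoly ((X ^ N - 1) ^ k) = 0 := by
    rw [map_pow, map_sub, map_pow, map_one, AdjoinRoot.mk_X]
    exact hk
  rw [AdjoinRoot.mk_eq_zero] at h1
  obtain ⟨r, hr⟩ := h1
  refine ⟨k, ?_⟩
  have h2 : aeval g.1 ((X ^ N - 1) ^ k : F[X]) = (g.1 ^ N - 1) ^ k := by
    rw [map_pow, map_sub, map_pow, map_one, aeval_X]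
  rw [← h2, hr, map_mul, Matrix.aeval_self_charpoly, zero_mul]

theorem pow_eq_one [Finite F] (p : ℕ) [Fact p.Prime] [CharP F p] (g : GL (Fin n) F) (N : ℕ)
    (hN : ∀ i, 1 ≤ i → i ≤ n → (Nat.card F ^ i - 1) ∣ N) : g ^ (N * p ^ Nat.clog p n) = 1 := by
  rw [pow_mul, Unip.units_pow_eq_one_iff p, Units.val_pow_eq_pow_val]
  have h1 := Unip.pow_card_eq_zero (isNilpotent_pow_sub_one g N hN)
  rw [Fintype.card_fin] at h1
  exact pow_eq_zero_of_le (Nat.le_pow_clog (Fact.out : p.Prime).one_lt _) h1

/-- block embedding -/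
noncomputable def emb {i : ℕ} (hi : i ≤ n) : GL (Fin i) F →* GL (Fin n) F :=
  Units.map ({ toFun := fun A => Matrix.reindexAlgEquiv F F (finSumFinEquiv.trans (finCongr (Nat.add_sub_cancel' hi)))
                (fromBlocks A 0 0 (1 : Matrix (Fin (n - i)) (Fin (n - i)) F))
               map_one' := by rw [fromBlocks_one, map_one]
               map_mul' := fun A B => by
                rw [← map_mul, fromBlocks_multiply]
                simp } : Matrix (Fin i) (Fin i) F →* Matrix (Fin n) (Fin n) F)

theorem emb_injective {i : ℕ} (hi : i ≤ n) : Function.Injective (emb (F := F) hi) := by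
  apply Units.map_injective
  intro A B h
  have h1 := (Matrix.reindexAlgEquiv F F (finSumFinEquiv.trans (finCongr (Nat.add_sub_cancel' hi)))).injective h
  exact (fromBlocks_inj.1 h1).1

theorem emb_det {i : ℕ} (hi : i ≤ n) (g : GL (Fin i) F) : (emb hi g).1.det = g.1.det := by
  show (Matrix.reindexAlgEquiv F F _ (fromBlocks g.1 0 0 (1 : Matrix (Fin (n - i)) (Fin (n - i)) F))).det = _
  rw [det_reindexAlgEquiv, det_fromBlocks_zero₂₁, det_one, mul_one]

end CfsgLib.GLOrd
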