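import Mathlib
set_option autoImplicit false
set_option linter.style.haveILetI false
set_option linter.unusedSectionVars false

/-! Conjugacy of two by two matrices over a field. -/

namespace CfsgLib.GL2a
open Matrix

variable {F : Type*} [Field F]

abbrev M2 (F : Type*) := Matrix (Fin 2) (Fin 2) F

/-- scalar matrices -/
def IsScal (A : M2 F) : Prop := A 0 1 = 0 ∧ A 1 0 = 0 ∧ A 0 0 = A 1 1

/-- no eigenvector -/
def Aniso (A : M2 F) : Prop := ∀ (c : F) (v : Fin 2 → F), v ≠ 0 → A.mulVec v ≠ c • v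

/-- companion matrix -/
def comp (t d : F) : M2 F := !![0, -d; 1, t]

theorem tr_eq (A : M2 F) : A.trace = A 0 0 + A 1 1 := by simp [Matrix.trace_fin_two]

theorem ext4 {A B : M2 F} (h00 : A 0 0 = B 0 0) (h01 : A 0 1 = B 0 1) (h10 : A 1 0 = B 1 0) (h11 : A 1 1 = B 1 1) : A = B := by
  ext i j; fin_cases i <;> fin_cases j <;> assumption

theorem mul_e00 (A B : M2 F) : (A * B) 0 0 = A 0 0 * B 0 0 + A 0 1 * B 1 0 := by simp [Matrix.mul_apply, Fin.sum_univ_two]
theorem mul_e01 (A B : M2 F) : (A * B) 0 1 = A 0 0 * B 0 1 + A 0 1 * B 1 1 := by simp [Matrix.mul_apply, Fin.sum_univ_two]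
theorem mul_e10 (A B : M2 F) : (A * B) 1 0 = A 1 0 * B 0 0 + A 1 1 * B 1 0 := by simp [Matrix.mul_apply, Fin.sum_univ_two]
theorem mul_e11 (A B : M2 F) : (A * B) 1 1 = A 1 0 * B 0 1 + A 1 1 * B 1 1 := by simp [Matrix.mul_apply, Fin.sum_univ_two]

theorem det_e (A : M2 F) : A.det = A 0 0 * A 1 1 - A 0 1 * A 1 0 := Matrix.det_fin_two A

theorem isScal_iff (A : M2 F) : IsScal A ↔ ∃ a : F, A = a • (1 : M2 F) := by
  constructor
  · rintro ⟨h1, h2, h3⟩
    refine ⟨A 0 0, ext4 ?_ ?_ ?_ ?_⟩ <;> simp [h1, h2, h3]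
  · rintro ⟨a, rfl⟩
    simp [IsScal]

/-- the cyclic vector matrix, with its determinant -/
theorem exists_comp (A : M2 F) (h : ¬ IsScal A) : ∃ P : M2 F, P.det ≠ 0 ∧ A * P = P * comp A.trace A.det ∧
    (A 1 0 ≠ 0 → P.det = A 1 0) ∧ (A 1 0 = 0 → A 0 1 ≠ 0 → P.det = - A 0 1) := by
  by_cases hc : A 1 0 = 0
  · by_cases hb : A 0 1 = 0
    · have hd : A 1 1 - A 0 0 ≠ 0 := fun e => h ⟨hb, hc, (sub_eq_zero.mp e).symm⟩
      refine ⟨!![1, A 0 0; 1, A 1 1], ?_, ?_, fun e => absurd hc e, fun _ e => absurd hb e⟩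
      · rw [det_e]; simpa using hd
      · apply ext4 <;> simp only [mul_e00, mul_e01, mul_e10, mul_e11, comp, tr_eq, det_e, hb, hc] <;> simp <;> ring
    · refine ⟨!![0, A 0 1; 1, A 1 1], ?_, ?_, fun e => absurd hc e, fun _ _ => ?_⟩
      · rw [det_e]; simpa using hb
      · apply ext4 <;> simp only [mul_e00, mul_e01, mul_e10, mul_e11, comp, tr_eq, det_e, hc] <;> simp <;> ring
      · rw [det_e]; simp
  · refine ⟨!![1, A 0 0; 0, A 1 0], ?_, ?_, fun _ => ?_, fun e => absurd e hc⟩
    · rw [det_e]; simpa using hc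
    · apply ext4 <;> simp only [mul_e00, mul_e01, mul_e10, mul_e11, comp, tr_eq, det_e] <;> simp <;> ring
    · rw [det_e]; simp

theorem mul_inj_of_det {P A B : M2 F} (hP : P.det ≠ 0) (h : P * A = P * B) : A = B := by
  have hu : IsUnit P.det := isUnit_iff_ne_zero.mpr hP
  calc A = P⁻¹ * (P * A) := by rw [← mul_assoc, Matrix.nonsing_inv_mul _ hu, one_mul]
    _ = P⁻¹ * (P * B) := by rw [h]
    _ = B := by rw [← mul_assoc, Matrix.nonsing_inv_mul _ hu, one_mul]

/-- the general conjugating matrix between nonscalar matrices of equal trace and determinant -/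
theorem exists_conj (A B : M2 F) (hA : ¬ IsScal A) (hB : ¬ IsScal B) (ht : A.trace = B.trace) (hd : A.det = B.det) :
    ∃ Q : M2 F, Q.det ≠ 0 ∧ A * Q = Q * B := by
  obtain ⟨P, hP, hPA, -⟩ := exists_comp A hA
  obtain ⟨R, hR, hRB, -⟩ := exists_comp B hB
  have hu : IsUnit R.det := isUnit_iff_ne_zero.mpr hR
  refine ⟨P * R⁻¹, ?_, ?_⟩
  · rw [Matrix.det_mul, Matrix.det_nonsing_inv]
    exact mul_ne_zero hP (by simpa using hR)
  · rw [← mul_assoc, hPA, ht, hd]
    have e : comp B.trace B.det * R⁻¹ = R⁻¹ * B := by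
      have : R * (comp B.trace B.det * R⁻¹) = R * (R⁻¹ * B) := by
        rw [← mul_assoc, ← hRB, mul_assoc, Matrix.mul_nonsing_inv _ hu, mul_one, ← mul_assoc, Matrix.mul_nonsing_inv _ hu, one_mul]
      exact mul_inj_of_det hR this
    rw [mul_assoc, e, mul_assoc]

/-- the matrices commuting with a nonscalar matrix -/
theorem comm_iff (A X : M2 F) (hA : ¬ IsScal A) : A * X = X * A ↔ ∃ x y : F, X = x • (1 : M2 F) + y • A := by
  constructor
  · intro h
    have e00 := congrFun (congrFun h 0) 0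
    have e01 := congrFun (congrFun h 0) 1
    have e10 := congrFun (congrFun h 1) 0
    rw [mul_e00, mul_e00] at e00
    rw [mul_e01, mul_e01] at e01
    rw [mul_e10, mul_e10] at e10
    by_cases hc : A 1 0 = 0
    · by_cases hb : A 0 1 = 0
      · have hd : A 1 1 - A 0 0 ≠ 0 := fun e => hA ⟨hb, hc, (sub_eq_zero.mp e).symm⟩
        have x01 : X 0 1 = 0 := by
          rw [hb] at e01
          have : (A 1 1 - A 0 0) * X 0 1 = 0 := by linear_combination -e01
          exact (mul_eq_zero.mp this).resolve_left hd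
        have x10 : X 1 0 = 0 := by
          rw [hc] at e10
          have : (A 1 1 - A 0 0) * X 1 0 = 0 := by linear_combination e10
          exact (mul_eq_zero.mp this).resolve_left hd
        refine ⟨X 0 0 - (X 1 1 - X 0 0) / (A 1 1 - A 0 0) * A 0 0, (X 1 1 - X 0 0) / (A 1 1 - A 0 0), ?_⟩
        apply ext4 <;> simp [x01, x10, hb, hc]
        field_simp; ring
      · refine ⟨X 0 0 - X 0 1 / A 0 1 * A 0 0, X 0 1 / A 0 1, ?_⟩
        have x10 : X 1 0 = 0 := by
          rw [hc] at e00
          have : A 0 1 * X 1 0 = 0 := by linear_combination e00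
          exact (mul_eq_zero.mp this).resolve_left hb
        apply ext4 <;> simp [x10, hc, hb]
        field_simp
        linear_combination e01
    · refine ⟨X 0 0 - X 1 0 / A 1 0 * A 0 0, X 1 0 / A 1 0, ?_⟩
      apply ext4 <;> simp [hc]
      · field_simp
        linear_combination -e00
      · field_simp
        linear_combination -e10
  · rintro ⟨x, y, rfl⟩
    simp [mul_add, add_mul]

theorem det_lin (A : M2 F) (x y : F) : (x • (1 : M2 F) + y • A).det = x ^ 2 + A.trace * x * y + A.det * y ^ 2 := by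
  rw [det_e, det_e, tr_eq]
  simp
  ring

theorem lin_inj (A : M2 F) (hA : ¬ IsScal A) {x y x' y' : F} (h : x • (1 : M2 F) + y • A = x' • (1 : M2 F) + y' • A) : x = x' ∧ y = y' := by
  have h00 := congrFun (congrFun h 0) 0
  have h01 := congrFun (congrFun h 0) 1
  have h10 := congrFun (congrFun h 1) 0
  have h11 := congrFun (congrFun h 1) 1
  simp at h00 h01 h10 h11
  have hy : y = y' := by
    by_contra hne
    apply hA
    refine ⟨?_, ?_, ?_⟩
    · rcases h01 with h | h
      · exact absurd h hne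
      · exact h
    · rcases h10 with h | h
      · exact absurd h hne
      · exact h
    · have : (y - y') * (A 0 0 - A 1 1) = 0 := by linear_combination h00 - h11
      exact sub_eq_zero.mp ((mul_eq_zero.mp this).resolve_left (sub_ne_zero.mpr hne))
  subst hy
  exact ⟨by simpa using h00, rfl⟩

/-- eigenvectors and roots of the characteristic polynomial -/
theorem not_aniso_iff (A : M2 F) : ¬ Aniso A ↔ ∃ c : F, c ^ 2 - A.trace * c + A.det = 0 := by
  constructor
  · intro h
    unfold Aniso at h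
    push Not at h
    obtain ⟨c, v, hv, hc⟩ := h
    refine ⟨c, ?_⟩
    have h0 : (A - c • (1 : M2 F)).mulVec v = 0 := by
      rw [Matrix.sub_mulVec, Matrix.smul_mulVec, Matrix.one_mulVec, hc, sub_self]
    have hdet : (A - c • (1 : M2 F)).det = 0 := by
      by_contra hne
      exact hv (Matrix.eq_zero_of_mulVec_eq_zero hne h0)
    rw [det_e] at hdet
    simp at hdet
    rw [tr_eq, det_e]
    linear_combination hdet
  · rintro ⟨c, hc⟩ h
    have hdet : (A - c • (1 : M2 F)).det = 0 := by
      rw [det_e]; simp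
      rw [tr_eq, det_e] at hc
      linear_combination hc
    obtain ⟨v, hv, hv0⟩ := Matrix.exists_mulVec_eq_zero_iff.mpr hdet
    refine h c v hv ?_
    rw [Matrix.sub_mulVec, Matrix.smul_mulVec, Matrix.one_mulVec] at hv0
    exact sub_eq_zero.mp hv0

theorem aniso_not_isScal {A : M2 F} (h : Aniso A) : ¬ IsScal A := by
  rintro hs
  obtain ⟨a, rfl⟩ := (isScal_iff A).mp hs
  refine h a (fun _ => 1) (fun e => one_ne_zero (congrFun e 0)) ?_
  rw [Matrix.smul_mulVec, Matrix.one_mulVec]

theorem aniso_lin_det {A : M2 F} (h : Aniso A) {x y : F} (hxy : x ≠ 0 ∨ y ≠ 0) : (x • (1 : M2 F) + y • A).det ≠ 0 := by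
  rw [det_lin]
  intro h0
  by_cases hy : y = 0
  · subst hy
    simp at h0 hxy
    exact hxy h0
  · refine (not_aniso_iff A).mpr ⟨-x / y, ?_⟩ h
    field_simp
    linear_combination h0

/-- the norm form is universal off the parabolic case -/
theorem norm_univ [Finite F] {t d : F} (h : t ^ 2 ≠ 4 * d ∨ (2 : F) = 0) (c : F) : ∃ x y : F, x ^ 2 + t * x * y + d * y ^ 2 = c := by
  have := Fintype.ofFinite F
  by_cases h2 : (2 : F) = 0
  · have hc2 : CharP F 2 := CharTwo.of_one_ne_zero_of_two_eq_zero one_ne_zero h2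
    obtain ⟨r, hr⟩ := FiniteField.isSquare_of_char_two (ringChar.eq_iff.mpr hc2) c
    exact ⟨r, 0, by rw [hr]; ring⟩
  · have hd := h.resolve_right h2
    have h4 : (4 : F) ≠ 0 := by
      have : (4 : F) = 2 * 2 := by norm_num
      rw [this]; exact mul_ne_zero h2 h2
    have hne : d - t ^ 2 / 4 ≠ 0 := by
      intro e
      apply hd
      field_simp at e
      linear_combination -e
    have hodd : Fintype.card F % 2 = 1 := by
      rcases Nat.mod_two_eq_zero_or_one (Fintype.card F) with h' | h'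
      · exact absurd ((FiniteField.even_card_iff_char_two).mpr h') (fun e => h2 (by
          have := ringChar.eq_iff.mp e
          exact CharTwo.two_eq_zero))
      · exact h'
    obtain ⟨a, b, hab⟩ := FiniteField.exists_root_sum_quadratic (R := F) (f := Polynomial.X ^ 2) (g := Polynomial.C (d - t ^ 2 / 4) * Polynomial.X ^ 2 - Polynomial.C c)
      (by simp) (by
        rw [sub_eq_add_neg, ← Polynomial.C_neg]
        have := Polynomial.degree_quadratic (a := d - t ^ 2 / 4) (b := 0) (c := -c) hne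
        simpa using this) hodd
    simp at hab
    refine ⟨a - t * b / 2, b, ?_⟩
    field_simp
    field_simp at hab
    linear_combination hab

end CfsgLib.GL2a
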