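import Cfsg.Agent.Lib.GLa1
set_option autoImplicit false
set_option linter.style.haveILetI false
set_option linter.unusedSectionVars false

/-! Conjugacy in the two-dimensional linear groups. -/

namespace CfsgLib.GL2a
open Matrix

variable {F : Type*} [Field F]

abbrev G2 (F : Type*) [Field F] := Matrix.GeneralLinearGroup (Fin 2) F
abbrev S2 (F : Type*) [Field F] := Matrix.SpecialLinearGroup (Fin 2) F

theorem gdet_ne (g : G2 F) : (g : M2 F).det ≠ 0 := by
  have := g.det.ne_zero
  rwa [Matrix.GeneralLinearGroup.val_det_apply] at this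

theorem gl_ext {g h : G2 F} (e : (g : M2 F) = (h : M2 F)) : g = h := Units.ext e
theorem sl_ext {g h : S2 F} (e : (g : M2 F) = (h : M2 F)) : g = h := Subtype.ext e

theorem sl_det (g : S2 F) : (g : M2 F).det = 1 := g.2

theorem gl_isConj_iff_exists (g h : G2 F) : IsConj g h ↔ ∃ c : G2 F, (g : M2 F) * (c : M2 F) = (c : M2 F) * (h : M2 F) := by
  rw [isConj_iff]
  constructor
  · rintro ⟨c, hc⟩
    refine ⟨c⁻¹, ?_⟩
    have : g * c⁻¹ = c⁻¹ * h := by rw [← hc]; group
    have := congrArg (fun x : G2 F => (x : M2 F)) this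
    simpa using this
  · rintro ⟨c, hc⟩
    refine ⟨c⁻¹, ?_⟩
    have : g * c = c * h := gl_ext (by simpa using hc)
    rw [mul_assoc, inv_inv, this]; group

theorem sl_isConj_iff_exists (g h : S2 F) : IsConj g h ↔ ∃ c : S2 F, (g : M2 F) * (c : M2 F) = (c : M2 F) * (h : M2 F) := by
  rw [isConj_iff]
  constructor
  · rintro ⟨c, hc⟩
    refine ⟨c⁻¹, ?_⟩
    have : g * c⁻¹ = c⁻¹ * h := by rw [← hc]; group
    exact congrArg (fun x : S2 F => (x : M2 F)) this
  · rintro ⟨c, hc⟩
    refine ⟨c⁻¹, ?_⟩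
    have : g * c = c * h := sl_ext hc
    rw [mul_assoc, inv_inv, this]; group

theorem trace_eq_of {A B C : M2 F} (hC : C.det ≠ 0) (h : A * C = C * B) : A.trace = B.trace := by
  have hu : IsUnit C.det := isUnit_iff_ne_zero.mpr hC
  have : B = C⁻¹ * (A * C) := by rw [h, ← mul_assoc, Matrix.nonsing_inv_mul _ hu, one_mul]
  rw [this, Matrix.trace_mul_comm, mul_assoc, Matrix.mul_nonsing_inv _ hu, mul_one]

theorem det_eq_of {A B C : M2 F} (hC : C.det ≠ 0) (h : A * C = C * B) : A.det = B.det := by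
  have := congrArg Matrix.det h
  rw [Matrix.det_mul, Matrix.det_mul, mul_comm] at this
  exact mul_left_cancel₀ hC this

theorem isScal_of {A B C : M2 F} (hC : C.det ≠ 0) (h : A * C = C * B) (hB : IsScal B) : IsScal A := by
  obtain ⟨b, rfl⟩ := (isScal_iff B).mp hB
  have hu : IsUnit C.det := isUnit_iff_ne_zero.mpr hC
  refine (isScal_iff A).mpr ⟨b, ?_⟩
  calc A = A * C * C⁻¹ := by rw [mul_assoc, Matrix.mul_nonsing_inv _ hu, mul_one]
    _ = b • 1 := by rw [h]; simp [Matrix.mul_nonsing_inv _ hu]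

theorem gl_isConj {g h : G2 F} (hg : ¬ IsScal (g : M2 F)) (hh : ¬ IsScal (h : M2 F))
    (ht : (g : M2 F).trace = (h : M2 F).trace) (hd : (g : M2 F).det = (h : M2 F).det) : IsConj g h := by
  obtain ⟨Q, hQ, e⟩ := exists_conj _ _ hg hh ht hd
  exact (gl_isConj_iff_exists g h).mpr ⟨Matrix.GeneralLinearGroup.mkOfDetNeZero Q hQ, e⟩

theorem gl_isConj_iff (g h : G2 F) : IsConj g h ↔
    (IsScal (g : M2 F) ∧ g = h) ∨ (¬ IsScal (g : M2 F) ∧ ¬ IsScal (h : M2 F) ∧ (g : M2 F).trace = (h : M2 F).trace ∧ (g : M2 F).det = (h : M2 F).det) := by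
  constructor
  · intro hc
    obtain ⟨c, e⟩ := (gl_isConj_iff_exists g h).mp hc
    obtain ⟨c', e'⟩ := (gl_isConj_iff_exists h g).mp hc.symm
    by_cases hs : IsScal (g : M2 F)
    · left
      refine ⟨hs, ?_⟩
      obtain ⟨a, ha⟩ := (isScal_iff _).mp hs
      apply gl_ext
      rw [ha] at e ⊢
      apply mul_inj_of_det (gdet_ne c)
      rw [← e]; simp
    · right
      refine ⟨hs, fun h' => hs (isScal_of (gdet_ne c) e h'), trace_eq_of (gdet_ne c) e, det_eq_of (gdet_ne c) e⟩
  · rintro (⟨-, rfl⟩ | ⟨h1, h2, h3, h4⟩)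
    · exact IsConj.refl _
    · exact gl_isConj h1 h2 h3 h4

/-- the norm form in `SL₂` -/
theorem sl_isConj [Finite F] {g h : S2 F} (hg : ¬ IsScal (g : M2 F)) (hh : ¬ IsScal (h : M2 F))
    (ht : (g : M2 F).trace = (h : M2 F).trace) (h4 : (g : M2 F).trace ^ 2 ≠ 4 ∨ (2 : F) = 0) : IsConj g h := by
  obtain ⟨Q, hQ, e⟩ := exists_conj _ _ hg hh ht (by rw [sl_det, sl_det])
  obtain ⟨x, y, hxy⟩ := norm_univ (t := (g : M2 F).trace) (d := (g : M2 F).det) (by rw [sl_det]; simpa using h4) (Q.det)⁻¹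
  have hZ : (x • (1 : M2 F) + y • (g : M2 F)).det = (Q.det)⁻¹ := by rw [det_lin, hxy]
  refine (sl_isConj_iff_exists g h).mpr ⟨⟨(x • (1 : M2 F) + y • (g : M2 F)) * Q, ?_⟩, ?_⟩
  · rw [Matrix.det_mul, hZ, inv_mul_cancel₀ hQ]
  · change (g : M2 F) * ((x • (1 : M2 F) + y • (g : M2 F)) * Q) = ((x • (1 : M2 F) + y • (g : M2 F)) * Q) * (h : M2 F)
    rw [mul_assoc _ Q, ← e, ← mul_assoc, ← mul_assoc]
    congr 1
    simp [mul_add, add_mul]

/-- the parabolic invariant -/
noncomputable def kk (A : M2 F) : F := by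
  classical exact if A 1 0 = 0 then - A 0 1 else A 1 0

theorem kk_ne (A : M2 F) (hA : ¬ IsScal A) (h4 : A.trace ^ 2 = 4 * A.det) : kk A ≠ 0 := by
  unfold kk
  split_ifs with h
  · intro e
    apply hA
    have h01 : A 0 1 = 0 := neg_eq_zero.mp e
    refine ⟨h01, h, ?_⟩
    rw [tr_eq, det_e, h, h01] at h4
    have : (A 0 0 - A 1 1) ^ 2 = 0 := by linear_combination h4
    exact sub_eq_zero.mp (pow_eq_zero_iff (two_ne_zero) |>.mp this)
  · exact h

theorem exists_comp' (A : M2 F) (hA : ¬ IsScal A) (h4 : A.trace ^ 2 = 4 * A.det) :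
    ∃ P : M2 F, P.det = kk A ∧ A * P = P * comp A.trace A.det := by
  obtain ⟨P, hP, e, h1, h2⟩ := exists_comp A hA
  refine ⟨P, ?_, e⟩
  have hk := kk_ne A hA h4
  unfold kk at hk ⊢
  split_ifs with h
  · rw [if_pos h] at hk
    exact h2 h (fun e => hk (by rw [e, neg_zero]))
  · exact h1 h

theorem comp_trace (t d : F) : (comp t d).trace = t := by rw [tr_eq]; simp [comp]
theorem comp_det (t d : F) : (comp t d).det = d := by rw [det_e]; simp [comp]
theorem comp_not_isScal (t d : F) : ¬ IsScal (comp t d) := by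
  rintro ⟨-, h, -⟩; simp [comp] at h

theorem sl_isConj_par {g h : S2 F} (h2 : (2 : F) ≠ 0) (hg : ¬ IsScal (g : M2 F)) (hh : ¬ IsScal (h : M2 F))
    (ht : (g : M2 F).trace = (h : M2 F).trace) (h4 : (g : M2 F).trace ^ 2 = 4) :
    IsConj g h ↔ IsSquare (kk (g : M2 F) * kk (h : M2 F)) := by
  have hg4 : (g : M2 F).trace ^ 2 = 4 * (g : M2 F).det := by rw [sl_det, mul_one, h4]
  have hh4 : (h : M2 F).trace ^ 2 = 4 * (h : M2 F).det := by rw [sl_det, mul_one, ← ht, h4]
  obtain ⟨P, hP, eP⟩ := exists_comp' _ hg hg4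
  obtain ⟨R, hR, eR⟩ := exists_comp' _ hh hh4
  have kg := kk_ne _ hg hg4
  have kh := kk_ne _ hh hh4
  set t := (g : M2 F).trace with htdef
  have hC : ∀ x y : F, (x • (1 : M2 F) + y • comp t 1).det = (x + t / 2 * y) ^ 2 := by
    intro x y
    rw [det_lin, comp_trace, comp_det]
    field_simp
    linear_combination -y ^ 2 * h4
  rw [sl_isConj_iff_exists]
  rw [sl_det] at eP eR
  rw [← ht] at eR
  constructor
  · rintro ⟨c, e⟩
    have hPd : P.det ≠ 0 := by rw [hP]; exact kg
    have hRd : R.det ≠ 0 := by rw [hR]; exact kh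
    have hu : IsUnit P.det := isUnit_iff_ne_zero.mpr hPd
    have hcomm : comp t 1 * (P⁻¹ * ((c : M2 F) * R)) = (P⁻¹ * ((c : M2 F) * R)) * comp t 1 := by
      apply mul_inj_of_det hPd
      rw [← mul_assoc, ← eP]
      have e1 : (g : M2 F) * P * (P⁻¹ * ((c : M2 F) * R)) = (g : M2 F) * (c : M2 F) * R := by
        calc (g : M2 F) * P * (P⁻¹ * ((c : M2 F) * R)) = (g : M2 F) * (P * P⁻¹) * ((c : M2 F) * R) := by noncomm_ring
          _ = _ := by rw [Matrix.mul_nonsing_inv _ hu]; noncomm_ring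
      have e2 : P * (P⁻¹ * ((c : M2 F) * R) * comp t 1) = (c : M2 F) * (R * comp t 1) := by
        calc P * (P⁻¹ * ((c : M2 F) * R) * comp t 1) = (P * P⁻¹) * ((c : M2 F) * (R * comp t 1)) := by noncomm_ring
          _ = _ := by rw [Matrix.mul_nonsing_inv _ hu, one_mul]
      rw [e1, e2, ← eR, e]; noncomm_ring
    obtain ⟨x, y, hxy⟩ := (comm_iff _ _ (comp_not_isScal t 1)).mp hcomm
    have hd := congrArg Matrix.det hxy
    rw [hC, Matrix.det_mul, Matrix.det_mul, Matrix.det_nonsing_inv, hP, hR, sl_det, one_mul, Ring.inverse_eq_inv'] at hd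
    refine ⟨kk (g : M2 F) * (x + t / 2 * y), ?_⟩
    have : kk (h : M2 F) = kk (g : M2 F) * (x + t / 2 * y) ^ 2 := by
      rw [← hd]; field_simp
    rw [this]; ring
  · rintro ⟨r, hr⟩
    have hRd : R.det ≠ 0 := by rw [hR]; exact kh
    have huR : IsUnit R.det := isUnit_iff_ne_zero.mpr hRd
    have hdet : (P * ((r / kk (g : M2 F)) • R⁻¹)).det = 1 := by
      rw [Matrix.det_mul, Matrix.det_smul, Matrix.det_nonsing_inv, hP, hR, Ring.inverse_eq_inv', Fintype.card_fin]
      field_simp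
      linear_combination -hr
    refine ⟨⟨P * ((r / kk (g : M2 F)) • R⁻¹), hdet⟩, ?_⟩
    change (g : M2 F) * (P * ((r / kk (g : M2 F)) • R⁻¹)) = (P * ((r / kk (g : M2 F)) • R⁻¹)) * (h : M2 F)
    have e3 : comp t 1 * R⁻¹ = R⁻¹ * (h : M2 F) := by
      apply mul_inj_of_det hRd
      rw [← mul_assoc, ← eR, mul_assoc, Matrix.mul_nonsing_inv _ huR, mul_one, ← mul_assoc, Matrix.mul_nonsing_inv _ huR, one_mul]
    rw [← mul_assoc, eP, mul_assoc, mul_assoc]
    simp only [Matrix.mul_smul, Matrix.smul_mul, e3]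

/-- number of classes of `GL₂` -/
theorem card_classes_GL [Fintype F] : Nat.card (ConjClasses (G2 F)) = Fintype.card F ^ 2 - 1 := by
  classical
  have hd : ∀ d : Fˣ, ((d : F) • (1 : M2 F)).det ≠ 0 := by
    intro d; rw [Matrix.det_smul]; simp
  let f : Fˣ ⊕ (F × Fˣ) → ConjClasses (G2 F) := Sum.elim
    (fun a => ConjClasses.mk (Matrix.GeneralLinearGroup.mkOfDetNeZero ((a : F) • (1 : M2 F)) (hd a)))
    (fun p => ConjClasses.mk (Matrix.GeneralLinearGroup.mkOfDetNeZero (comp p.1 (p.2 : F)) (by rw [comp_det]; exact p.2.ne_zero)))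
  have hf : Function.Bijective f := by
    constructor
    · rintro (a | p) (b | r) h
      · replace h := (gl_isConj_iff _ _).mp (ConjClasses.mk_eq_mk_iff_isConj.mp h)
        rcases h with ⟨-, h⟩ | ⟨h, -⟩
        · have := congrFun (congrFun (congrArg (fun x : G2 F => (x : M2 F)) h) 0) 0
          simp [Matrix.GeneralLinearGroup.mkOfDetNeZero] at this
          rw [Units.ext this]
        · exact (h ((isScal_iff _).mpr ⟨(a : F), rfl⟩)).elim
      · replace h := (gl_isConj_iff _ _).mp (ConjClasses.mk_eq_mk_iff_isConj.mp h)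
        rcases h with ⟨hs, h⟩ | ⟨h, -⟩
        · exfalso
          refine comp_not_isScal r.1 (r.2 : F) ?_
          have := congrArg (fun x : G2 F => (x : M2 F)) h
          change (a : F) • (1 : M2 F) = comp r.1 (r.2 : F) at this
          rw [← this]; exact (isScal_iff _).mpr ⟨a, rfl⟩
        · exact (h ((isScal_iff _).mpr ⟨(a : F), rfl⟩)).elim
      · replace h := (gl_isConj_iff _ _).mp (ConjClasses.mk_eq_mk_iff_isConj.mp h)
        rcases h with ⟨hs, h⟩ | ⟨-, h, -⟩
        · exact absurd hs (comp_not_isScal p.1 (p.2 : F))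
        · exact (h ((isScal_iff _).mpr ⟨(b : F), rfl⟩)).elim
      · replace h := (gl_isConj_iff _ _).mp (ConjClasses.mk_eq_mk_iff_isConj.mp h)
        rcases h with ⟨hs, h⟩ | ⟨-, -, h1, h2⟩
        · exact absurd hs (comp_not_isScal p.1 (p.2 : F))
        · change (comp p.1 (p.2 : F)).trace = (comp r.1 (r.2 : F)).trace at h1
          change (comp p.1 (p.2 : F)).det = (comp r.1 (r.2 : F)).det at h2
          rw [comp_trace, comp_trace] at h1
          rw [comp_det, comp_det] at h2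
          rw [Prod.ext h1 (Units.ext h2)]
    · intro C
      induction C using Quotient.inductionOn with
      | h g =>
        by_cases hs : IsScal (g : M2 F)
        · obtain ⟨a, ha⟩ := (isScal_iff _).mp hs
          have ha0 : a ≠ 0 := by
            rintro rfl
            have := gdet_ne g
            rw [ha] at this
            simp at this
          refine ⟨Sum.inl (Units.mk0 a ha0), ?_⟩
          change ConjClasses.mk _ = ConjClasses.mk g
          congr 1
          exact gl_ext (by rw [ha]; rfl)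
        · refine ⟨Sum.inr ((g : M2 F).trace, Units.mk0 _ (gdet_ne g)), ?_⟩
          change ConjClasses.mk _ = ConjClasses.mk g
          rw [ConjClasses.mk_eq_mk_iff_isConj]
          apply gl_isConj
          · exact comp_not_isScal _ _
          · exact hs
          · exact comp_trace _ _
          · exact comp_det _ _
  rw [← Nat.card_eq_of_bijective f hf, Nat.card_sum, Nat.card_prod, Nat.card_eq_fintype_card, Nat.card_eq_fintype_card, Fintype.card_units]
  have h1 : 1 ≤ Fintype.card F := Fintype.card_pos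
  obtain ⟨k, hk⟩ := Nat.exists_eq_add_of_le h1
  rw [hk]
  simp
  ring_nf
  omega

end CfsgLib.GL2a
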