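import Cfsg.Agent.Lib.GLa2
set_option autoImplicit false
set_option linter.style.haveILetI false
set_option linter.unusedSectionVars false

/-! Centralisers in the two-dimensional linear groups. -/

namespace CfsgLib.GL2a
open Matrix

variable {F : Type*} [Field F]

/-- units commuting with `A` -/
def CG (A : M2 F) : Type _ := {X : M2 F // A * X = X * A ∧ X.det ≠ 0}
/-- elements of determinant `c` commuting with `A` -/
def CC (A : M2 F) (c : F) : Type _ := {X : M2 F // A * X = X * A ∧ X.det = c}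

theorem card_cent_GL (g : G2 F) : Nat.card (Subgroup.centralizer ({g} : Set (G2 F))) = Nat.card (CG (g : M2 F)) := by
  refine Nat.card_congr ⟨fun x => ⟨(x : G2 F), ?_, gdet_ne _⟩, fun X => ⟨Matrix.GeneralLinearGroup.mkOfDetNeZero X.1 X.2.2, ?_⟩, ?_, ?_⟩
  · have := Subgroup.mem_centralizer_singleton_iff.mp x.2
    have := congrArg (fun y : G2 F => (y : M2 F)) this
    simpa [eq_comm] using this
  · rw [Subgroup.mem_centralizer_singleton_iff]
    apply gl_ext
    change X.1 * (g : M2 F) = (g : M2 F) * X.1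
    exact X.2.1.symm
  · intro x; apply Subtype.ext; apply gl_ext; rfl
  · intro X; apply Subtype.ext; rfl

theorem card_cent_SL (g : S2 F) : Nat.card (Subgroup.centralizer ({g} : Set (S2 F))) = Nat.card (CC (g : M2 F) 1) := by
  refine Nat.card_congr ⟨fun x => ⟨((x : S2 F) : M2 F), ?_, sl_det _⟩, fun X => ⟨⟨X.1, X.2.2⟩, ?_⟩, ?_, ?_⟩
  · have := Subgroup.mem_centralizer_singleton_iff.mp x.2
    exact (congrArg (fun y : S2 F => (y : M2 F)) this).symm
  · exact Subgroup.mem_centralizer_singleton_iff.mpr (sl_ext X.2.1.symm)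
  · intro x; rfl
  · intro X; rfl

/-- all norms hit: the fibres have the same size -/
theorem card_CG_of_univ [Fintype F] (A : M2 F) (h : ∀ c : F, c ≠ 0 → ∃ Z : M2 F, A * Z = Z * A ∧ Z.det = c) :
    Nat.card (CG A) = (Fintype.card F - 1) * Nat.card (CC A 1) := by
  classical
  have e : CG A ≃ Fˣ × CC A 1 := by
    choose Z hZ1 hZ2 using fun c : Fˣ => h c c.ne_zero
    have hcomm : ∀ c : Fˣ, A * (Z c)⁻¹ = (Z c)⁻¹ * A := by
      intro c
      have hu : IsUnit (Z c).det := by rw [hZ2]; exact c.isUnit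
      calc A * (Z c)⁻¹ = (Z c)⁻¹ * (Z c * A) * (Z c)⁻¹ := by rw [← mul_assoc, Matrix.nonsing_inv_mul _ hu, one_mul]
        _ = (Z c)⁻¹ * A * (Z c * (Z c)⁻¹) := by rw [← hZ1]; noncomm_ring
        _ = (Z c)⁻¹ * A := by rw [Matrix.mul_nonsing_inv _ hu, mul_one]
    refine ⟨fun X => (Units.mk0 _ X.2.2, ⟨(Z (Units.mk0 _ X.2.2))⁻¹ * X.1, ?_, ?_⟩), fun p => ⟨Z p.1 * p.2.1, ?_, ?_⟩, ?_, ?_⟩
    · exact Commute.mul_right (hcomm _) X.2.1
    · rw [Matrix.det_mul, Matrix.det_nonsing_inv, hZ2, Units.val_mk0, Ring.inverse_eq_inv', inv_mul_cancel₀ X.2.2]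
    · rw [← mul_assoc, hZ1, mul_assoc, p.2.2.1, mul_assoc]
    · rw [Matrix.det_mul, hZ2, p.2.2.2, mul_one]; exact p.1.ne_zero
    · intro X
      apply Subtype.ext
      have hu : IsUnit (Z (Units.mk0 _ X.2.2)).det := by rw [hZ2]; exact Units.isUnit _
      change Z (Units.mk0 _ X.2.2) * ((Z (Units.mk0 _ X.2.2))⁻¹ * X.1) = X.1
      rw [← mul_assoc, Matrix.mul_nonsing_inv _ hu, one_mul]
    · intro p
      have hd : (Z p.1 * p.2.1).det = (p.1 : F) := by rw [Matrix.det_mul, hZ2, p.2.2.2, mul_one]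
      have hu : IsUnit (Z p.1).det := by rw [hZ2]; exact Units.isUnit _
      have h1 : ∀ h0 : (Z p.1 * p.2.1).det ≠ 0, Units.mk0 _ h0 = p.1 := fun h0 => Units.ext hd
      apply Prod.ext
      · exact Units.ext hd
      · apply Subtype.ext
        change (Z (Units.mk0 (Z p.1 * p.2.1).det _))⁻¹ * (Z p.1 * p.2.1) = p.2.1
        rw [h1, ← mul_assoc, Matrix.nonsing_inv_mul _ hu, one_mul]
  rw [Nat.card_congr e, Nat.card_prod, Nat.card_eq_fintype_card, Fintype.card_units]

theorem univ_of_norm [Finite F] (A : M2 F) (h : A.trace ^ 2 ≠ 4 * A.det ∨ (2 : F) = 0) (c : F) : ∃ Z : M2 F, A * Z = Z * A ∧ Z.det = c := by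
  obtain ⟨x, y, hxy⟩ := norm_univ h c
  exact ⟨x • 1 + y • A, by simp [mul_add, add_mul], by rw [det_lin, hxy]⟩

theorem card_CG_aniso [Fintype F] {A : M2 F} (h : Aniso A) : Nat.card (CG A) = Fintype.card F ^ 2 - 1 := by
  classical
  have e : CG A ≃ {p : F × F // p ≠ (0, 0)} := by
    refine (Equiv.ofBijective (fun p : {p : F × F // p ≠ (0, 0)} => (⟨p.1.1 • 1 + p.1.2 • A, by simp [mul_add, add_mul], aniso_lin_det h (by
      by_contra hne
      push Not at hne
      exact p.2 (Prod.ext hne.1 hne.2))⟩ : CG A)) ⟨?_, ?_⟩).symm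
    · rintro ⟨⟨x, y⟩, hp⟩ ⟨⟨x', y'⟩, hp'⟩ heq
      obtain ⟨h1, h2⟩ := lin_inj A (aniso_not_isScal h) (congrArg (fun z : CG A => z.1) heq)
      subst h1 h2; rfl
    · rintro ⟨X, hX, hd⟩
      obtain ⟨x, y, rfl⟩ := (comm_iff A X (aniso_not_isScal h)).mp hX
      refine ⟨⟨(x, y), ?_⟩, rfl⟩
      intro e
      rw [Prod.mk.injEq] at e
      apply hd
      rw [e.1, e.2]; simp
  rw [Nat.card_congr e, Nat.card_eq_fintype_card, Fintype.card_subtype_compl, Fintype.card_prod]
  simp [sq]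

theorem not_isScal_of_diag {A : M2 F} (h : A 0 0 ≠ A 1 1) : ¬ IsScal A := fun hs => h hs.2.2

theorem card_CG_diag [Fintype F] {A : M2 F} (h01 : A 0 1 = 0) (h10 : A 1 0 = 0) (h : A 0 0 ≠ A 1 1) :
    Nat.card (CG A) = (Fintype.card F - 1) ^ 2 := by
  classical
  have key : ∀ X : M2 F, A * X = X * A ↔ X 0 1 = 0 ∧ X 1 0 = 0 := by
    intro X
    constructor
    · intro e
      have e01 := congrFun (congrFun e 0) 1
      have e10 := congrFun (congrFun e 1) 0
      rw [mul_e01, mul_e01, h01] at e01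
      rw [mul_e10, mul_e10, h10] at e10
      constructor
      · have : (A 0 0 - A 1 1) * X 0 1 = 0 := by linear_combination e01
        exact (mul_eq_zero.mp this).resolve_left (sub_ne_zero.mpr h)
      · have : (A 0 0 - A 1 1) * X 1 0 = 0 := by linear_combination -e10
        exact (mul_eq_zero.mp this).resolve_left (sub_ne_zero.mpr h)
    · rintro ⟨x01, x10⟩
      apply ext4 <;> simp only [mul_e00, mul_e01, mul_e10, mul_e11, h01, h10, x01, x10] <;> ring
  have e : CG A ≃ Fˣ × Fˣ := by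
    refine ⟨fun X => (Units.mk0 (X.1 0 0) ?_, Units.mk0 (X.1 1 1) ?_), fun p => ⟨!![(p.1 : F), 0; 0, (p.2 : F)], ?_, ?_⟩, ?_, ?_⟩
    · intro h0
      apply X.2.2
      rw [det_e, h0, ((key X.1).mp X.2.1).1]; ring
    · intro h0
      apply X.2.2
      rw [det_e, h0, ((key X.1).mp X.2.1).1]; ring
    · rw [key]; simp
    · rw [det_e]; simp
    · intro X
      apply Subtype.ext
      obtain ⟨x01, x10⟩ := (key X.1).mp X.2.1
      apply ext4 <;> simp [x01, x10]
    · intro p
      apply Prod.ext <;> apply Units.ext <;> simp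
  rw [Nat.card_congr e, Nat.card_prod, Nat.card_eq_fintype_card, Fintype.card_units, sq]

theorem comm_par {A : M2 F} (h10 : A 1 0 = 0) (h01 : A 0 1 ≠ 0) (h : A 0 0 = A 1 1) (X : M2 F) : A * X = X * A ↔ X 1 0 = 0 ∧ X 0 0 = X 1 1 := by
  constructor
  · intro e
    have e00 := congrFun (congrFun e 0) 0
    have e01 := congrFun (congrFun e 0) 1
    rw [mul_e00, mul_e00, h10] at e00
    rw [mul_e01, mul_e01] at e01
    have x10 : X 1 0 = 0 := by
      have : A 0 1 * X 1 0 = 0 := by linear_combination e00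
      exact (mul_eq_zero.mp this).resolve_left h01
    refine ⟨x10, ?_⟩
    have : A 0 1 * (X 0 0 - X 1 1) = 0 := by
      rw [h] at e01
      linear_combination -e01
    exact sub_eq_zero.mp ((mul_eq_zero.mp this).resolve_left h01)
  · rintro ⟨x10, x00⟩
    apply ext4 <;> simp only [mul_e00, mul_e01, mul_e10, mul_e11, h10, h, x10, x00] <;> ring

theorem card_CG_par [Fintype F] {A : M2 F} (h10 : A 1 0 = 0) (h01 : A 0 1 ≠ 0) (h : A 0 0 = A 1 1) :
    Nat.card (CG A) = Fintype.card F * (Fintype.card F - 1) := by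
  classical
  have e : CG A ≃ F × Fˣ := by
    refine ⟨fun X => (X.1 0 1, Units.mk0 (X.1 1 1) ?_), fun p => ⟨!![(p.2 : F), p.1; 0, (p.2 : F)], ?_, ?_⟩, ?_, ?_⟩
    · intro h0
      apply X.2.2
      rw [det_e, h0, ((comm_par h10 h01 h X.1).mp X.2.1).1]; ring
    · rw [comm_par h10 h01 h]; simp
    · rw [det_e]; simp
    · intro X
      apply Subtype.ext
      obtain ⟨x10, x00⟩ := (comm_par h10 h01 h X.1).mp X.2.1
      apply ext4 <;> simp [x10, x00]
    · intro p
      apply Prod.ext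
      · simp
      · apply Units.ext; simp
  rw [Nat.card_congr e, Nat.card_prod, Nat.card_eq_fintype_card, Nat.card_eq_fintype_card, Fintype.card_units]

theorem two_le_card [Fintype F] : 2 ≤ Fintype.card F := Fintype.one_lt_card

theorem card_CC_aniso [Fintype F] {A : M2 F} (h : Aniso A) (hd : A.trace ^ 2 ≠ 4 * A.det ∨ (2 : F) = 0) : Nat.card (CC A 1) = Fintype.card F + 1 := by
  have h1 := card_CG_of_univ A (fun c _ => univ_of_norm A hd c)
  rw [card_CG_aniso h] at h1
  have h2 : 2 ≤ Fintype.card F := two_le_card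
  have h3 : Fintype.card F ^ 2 - 1 = (Fintype.card F - 1) * (Fintype.card F + 1) := by
    obtain ⟨k, hk⟩ := Nat.exists_eq_add_of_le h2
    rw [hk]
    have e1 : 2 + k - 1 = k + 1 := by omega
    rw [e1]
    have : (2 + k) ^ 2 = (k + 1) * (2 + k + 1) + 1 := by ring
    omega
  rw [h3] at h1
  exact (Nat.eq_of_mul_eq_mul_left (by omega) h1).symm

theorem aniso_disc {A : M2 F} (h : Aniso A) : A.trace ^ 2 ≠ 4 * A.det ∨ (2 : F) = 0 := by
  by_cases h2 : (2 : F) = 0
  · exact Or.inr h2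
  · left
    intro e
    refine (not_aniso_iff A).mpr ⟨A.trace / 2, ?_⟩ h
    have h4 : (4 : F) ≠ 0 := by
      have : (4 : F) = 2 * 2 := by norm_num
      rw [this]; exact mul_ne_zero h2 h2
    field_simp
    linear_combination -e

theorem card_CC_diag [Fintype F] {A : M2 F} (h01 : A 0 1 = 0) (h10 : A 1 0 = 0) (h : A 0 0 ≠ A 1 1) :
    Nat.card (CC A 1) = Fintype.card F - 1 := by
  have h1 := card_CG_of_univ A (fun c hc => ⟨!![c, 0; 0, 1], by
    apply ext4 <;> simp only [mul_e00, mul_e01, mul_e10, mul_e11, h01, h10] <;> simp; ring, by rw [det_e]; simp⟩)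
  rw [card_CG_diag h01 h10 h, sq] at h1
  have h2 : 2 ≤ Fintype.card F := two_le_card
  exact (Nat.eq_of_mul_eq_mul_left (by omega) h1).symm

theorem card_CC_par_two [Fintype F] {A : M2 F} (h2 : (2 : F) = 0) (h10 : A 1 0 = 0) (h01 : A 0 1 ≠ 0) (h : A 0 0 = A 1 1) :
    Nat.card (CC A 1) = Fintype.card F := by
  have h1 := card_CG_of_univ A (fun c _ => univ_of_norm A (Or.inr h2) c)
  rw [card_CG_par h10 h01 h, mul_comm] at h1
  have h2 : 2 ≤ Fintype.card F := two_le_card
  exact (Nat.eq_of_mul_eq_mul_left (by omega) h1).symm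

theorem card_CC_par [Fintype F] {A : M2 F} (h2 : (2 : F) ≠ 0) (h10 : A 1 0 = 0) (h01 : A 0 1 ≠ 0) (h : A 0 0 = A 1 1) :
    Nat.card (CC A 1) = 2 * Fintype.card F := by
  classical
  have e : CC A 1 ≃ {x : F // x = 1 ∨ x = -1} × F := by
    refine ⟨fun X => (⟨X.1 1 1, ?_⟩, X.1 0 1), fun p => ⟨!![(p.1 : F), p.2; 0, (p.1 : F)], ?_, ?_⟩, ?_, ?_⟩
    · obtain ⟨x10, x00⟩ := (comm_par h10 h01 h X.1).mp X.2.1
      have := X.2.2
      rw [det_e, x10, x00] at this
      exact mul_self_eq_one_iff.mp (by linear_combination this)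
    · rw [comm_par h10 h01 h]; simp
    · rw [det_e]
      rcases p.1.2 with h | h <;> simp [h]
    · intro X
      apply Subtype.ext
      obtain ⟨x10, x00⟩ := (comm_par h10 h01 h X.1).mp X.2.1
      apply ext4 <;> simp [x10, x00]
    · intro p
      apply Prod.ext
      · apply Subtype.ext; simp
      · simp
  have hne : (1 : F) ≠ -1 := by
    intro e
    apply h2
    linear_combination e
  have hcard : Nat.card {x : F // x = 1 ∨ x = -1} = 2 := by
    have : Nat.card ({1, -1} : Set F) = 2 := by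
      rw [Nat.card_coe_set_eq, Set.ncard_pair hne]
    exact this
  rw [Nat.card_congr e, Nat.card_prod, hcard, Nat.card_eq_fintype_card]

end CfsgLib.GL2a
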