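import Cfsg.Agent.Lib.GLa3
import Cfsg.Agent.Lib.SL2
set_option autoImplicit false
set_option linter.style.haveILetI false
set_option linter.unusedSectionVars false

/-! Classes of `SL₂`. -/

namespace CfsgLib.GL2a
open Matrix

variable {F : Type*} [Field F]

theorem two_ne_of_odd [Fintype F] (hodd : Odd (Fintype.card F)) : (2 : F) ≠ 0 := by
  intro h2
  have hc2 : CharP F 2 := CharTwo.of_one_ne_zero_of_two_eq_zero one_ne_zero h2
  have := FiniteField.even_card_of_char_two (ringChar.eq_iff.mpr hc2)
  rcases hodd with ⟨k, hk⟩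
  omega

theorem two_eq_of_even [Fintype F] (he : 2 ∣ Fintype.card F) : (2 : F) = 0 := by
  by_contra h2
  have : ringChar F ≠ 2 := by
    intro h
    have := ringChar.eq_iff.mp h
    exact h2 CharTwo.two_eq_zero
  have := FiniteField.odd_card_of_char_ne_two this
  omega

theorem one_ne_neg (h2 : (2 : F) ≠ 0) : (1 : F) ≠ -1 := by
  intro e
  apply h2
  linear_combination e

/-- a nilpotent two by two matrix -/
theorem nilp {N : M2 F} {n : ℕ} (hN : N ^ n = 0) (h0 : N ≠ 0) : N.trace = 0 ∧ N.det = 0 := by
  have hd : N.det = 0 := by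
    have := congrArg Matrix.det hN
    rw [Matrix.det_pow] at this
    by_contra hne
    rcases Nat.eq_zero_or_pos n with rfl | hn
    · rw [pow_zero] at hN
      have := congrFun (congrFun hN 0) 0
      simp at this
    · have h3 : (0 : M2 F).det = 0 := by rw [det_e]; simp
      rw [h3] at this
      exact hne (pow_eq_zero_iff hn.ne' |>.mp this)
  have hsq : N * N = N.trace • N := by
    rw [det_e] at hd
    apply ext4 <;> simp only [mul_e00, mul_e01, mul_e10, mul_e11, Matrix.smul_apply, smul_eq_mul, tr_eq]
    · linear_combination -hd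
    · ring
    · ring
    · linear_combination -hd
  have hpow : ∀ k : ℕ, N ^ (k + 1) = N.trace ^ k • N := by
    intro k
    induction k with
    | zero => simp
    | succ k ih => rw [pow_succ, ih, Matrix.smul_mul, hsq, smul_smul, pow_succ]
  refine ⟨?_, hd⟩
  by_contra hne
  apply h0
  have h1 := hpow n
  rw [pow_succ, hN, zero_mul] at h1
  rcases smul_eq_zero.mp h1.symm with h | h
  · exact absurd h (pow_ne_zero n hne)
  · exact h

theorem unip_data (p : ℕ) [Fact p.Prime] [CharP F p] {A : M2 F} (hA : A ^ p = 1) (h1 : A ≠ 1) :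
    A.trace = 2 ∧ A.det = 1 ∧ ¬ IsScal A := by
  have hcomm : Commute A 1 := Commute.one_right A
  have hN : (A - 1) ^ p = 0 := by
    haveI : CharP (M2 F) p := inferInstance
    rw [sub_pow_char_of_commute (p := p) hcomm, hA, one_pow, sub_self]
  have h0 : A - 1 ≠ 0 := sub_ne_zero.mpr h1
  obtain ⟨ht, hd⟩ := nilp hN h0
  rw [tr_eq] at ht
  rw [det_e] at hd
  simp at ht hd
  refine ⟨?_, ?_, ?_⟩
  · rw [tr_eq]; linear_combination ht
  · rw [det_e]; linear_combination hd + ht
  · rintro ⟨h01, h10, h⟩
    apply h0
    rw [h01, h10, h] at hd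
    have h11 : A 1 1 = 1 := by
      have : (A 1 1 - 1) ^ 2 = 0 := by linear_combination hd
      exact sub_eq_zero.mp (pow_eq_zero_iff two_ne_zero |>.mp this)
    apply ext4 <;> simp [h01, h10, h, h11]

/-- parabolic matrices -/
def par (e b : F) : M2 F := !![e, b; 0, e]

theorem par_det (e b : F) : (par e b).det = e * e := by rw [det_e]; simp [par]
theorem par_trace (e b : F) : (par e b).trace = 2 * e := by rw [tr_eq]; simp [par]; ring
theorem par_not_isScal (e b : F) (hb : b ≠ 0) : ¬ IsScal (par e b) := by
  rintro ⟨h, -⟩; exact hb (by simpa [par] using h)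
theorem par_kk (e b : F) : kk (par e b) = - b := by
  unfold kk; simp [par]

def parS (e b : F) (he : e * e = 1) : S2 F := ⟨par e b, by rw [par_det, he]⟩

theorem parS_isConj_iff (h2 : (2 : F) ≠ 0) (e b b' : F) (he : e * e = 1) (hb : b ≠ 0) (hb' : b' ≠ 0) :
    IsConj (parS e b he) (parS e b' he) ↔ IsSquare (b * b') := by
  rw [sl_isConj_par h2 (par_not_isScal e b hb) (par_not_isScal e b' hb') ((par_trace e b).trans (par_trace e b').symm)
    (by change (par e b).trace ^ 2 = 4; rw [par_trace]; linear_combination 4 * he)]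
  change IsSquare (kk (par e b) * kk (par e b')) ↔ _
  rw [par_kk, par_kk, neg_mul_neg]

theorem sq_or_nonsq [Fintype F] (h2 : (2 : F) ≠ 0) {nu : F} (hnu : ¬ IsSquare nu) (x : F) : IsSquare x ∨ IsSquare (nu * x) := by
  classical
  by_cases hx : x = 0
  · left; rw [hx]; exact IsSquare.zero
  by_cases h : IsSquare x
  · exact Or.inl h
  · right
    have hr : ringChar F ≠ 2 := by
      intro h
      have := ringChar.eq_iff.mp h
      exact h2 CharTwo.two_eq_zero
    have hn0 : nu ≠ 0 := by rintro rfl; exact hnu IsSquare.zero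
    rw [← quadraticChar_one_iff_isSquare (mul_ne_zero hn0 hx), map_mul,
      quadraticChar_neg_one_iff_not_isSquare.mpr hnu, quadraticChar_neg_one_iff_not_isSquare.mpr h]
    norm_num

theorem sl_par_rep [Fintype F] (h2 : (2 : F) ≠ 0) {nu : F} (hnu : ¬ IsSquare nu) (g : S2 F) (hg : ¬ IsScal (g : M2 F))
    (e : F) (he : e * e = 1) (ht : (g : M2 F).trace = 2 * e) :
    IsConj g (parS e 1 he) ∨ IsConj g (parS e nu he) := by
  have hn0 : nu ≠ 0 := by rintro rfl; exact hnu IsSquare.zero
  have h4 : (g : M2 F).trace ^ 2 = 4 := by rw [ht]; linear_combination 4 * he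
  rw [sl_isConj_par h2 hg (par_not_isScal e 1 one_ne_zero) (ht.trans (par_trace e 1).symm) h4,
    sl_isConj_par h2 hg (par_not_isScal e nu hn0) (ht.trans (par_trace e nu).symm) h4]
  change IsSquare (kk (g : M2 F) * kk (par e 1)) ∨ IsSquare (kk (g : M2 F) * kk (par e nu))
  rw [par_kk, par_kk]
  rcases sq_or_nonsq h2 hnu (-kk (g : M2 F)) with h | h
  · left; convert h using 1; ring
  · right; convert h using 1; ring

theorem exists_nonsq [Fintype F] (h2 : (2 : F) ≠ 0) : ∃ nu : F, ¬ IsSquare nu := by
  refine FiniteField.exists_nonsquare (fun h => ?_)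
  have := ringChar.eq_iff.mp h
  exact h2 CharTwo.two_eq_zero

theorem sl_trace_eq {g h : S2 F} (hc : IsConj g h) : (g : M2 F).trace = (h : M2 F).trace := by
  obtain ⟨c, e⟩ := (sl_isConj_iff_exists g h).mp hc
  exact trace_eq_of (by rw [sl_det]; exact one_ne_zero) e

theorem sl_isScal {g h : S2 F} (hc : IsConj g h) (hh : IsScal (h : M2 F)) : IsScal (g : M2 F) := by
  obtain ⟨c, e⟩ := (sl_isConj_iff_exists g h).mp hc
  exact isScal_of (by rw [sl_det]; exact one_ne_zero) e hh

theorem card_tr [Fintype F] (h2 : (2 : F) ≠ 0) : Nat.card {t : F // t ^ 2 ≠ 4} = Fintype.card F - 2 := by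
  classical
  have e : ∀ t : F, t ^ 2 ≠ 4 ↔ ¬ (t = 2 ∨ t = -2) := by
    intro t
    rw [not_iff_not]
    constructor
    · intro h
      have : (t - 2) * (t + 2) = 0 := by linear_combination h
      rcases mul_eq_zero.mp this with h | h
      · left; linear_combination h
      · right; linear_combination h
    · rintro (rfl | rfl) <;> norm_num
  rw [Nat.card_congr (Equiv.subtypeEquivRight e), Nat.card_eq_fintype_card, Fintype.card_subtype_compl]
  congr 1
  have hne : (2 : F) ≠ -2 := by
    intro h
    have h4 : (2 : F) * 2 = 0 := by linear_combination h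
    rcases mul_self_eq_zero.mp h4 with h
    exact h2 h
  have : Nat.card ({2, -2} : Set F) = 2 := by
    rw [Nat.card_coe_set_eq, Set.ncard_pair hne]
  rw [← this, ← Nat.card_eq_fintype_card]
  rfl

def sg (b : Bool) : F := if b then 1 else -1
theorem sg_sq (b : Bool) : (sg b : F) * sg b = 1 := by cases b <;> simp [sg]
theorem sg_inj (h2 : (2 : F) ≠ 0) {a b : Bool} (h : (sg a : F) = sg b) : a = b := by
  cases a <;> cases b <;> simp [sg] at h ⊢
  · exact one_ne_neg h2 h.symm
  · exact one_ne_neg h2 h

theorem scal_sl {g : S2 F} (hs : IsScal (g : M2 F)) : ∃ b : Bool, (g : M2 F) = (sg b : F) • (1 : M2 F) := by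
  obtain ⟨a, ha⟩ := (isScal_iff _).mp hs
  have hd := sl_det g
  rw [ha, det_e] at hd
  simp at hd
  rcases mul_self_eq_one_iff.mp hd with rfl | rfl
  · exact ⟨true, by rw [ha]; simp [sg]⟩
  · exact ⟨false, by rw [ha]; simp [sg]⟩

/-- number of classes of `SL₂`, odd characteristic -/
theorem card_classes_SL_odd [Fintype F] (h2 : (2 : F) ≠ 0) : Nat.card (ConjClasses (S2 F)) = Fintype.card F + 4 := by
  classical
  obtain ⟨nu, hnu⟩ := exists_nonsq h2
  have hn0 : nu ≠ 0 := by rintro rfl; exact hnu IsSquare.zero
  let kap : Bool → F := fun b => if b then 1 else nu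
  have kap0 : ∀ b, kap b ≠ 0 := by intro b; cases b <;> simp [kap, hn0]
  have kapsq : ∀ a b, IsSquare (kap a * kap b) → a = b := by
    intro a b h
    cases a <;> cases b <;> simp [kap] at h ⊢ <;> exact hnu h
  have hsd : ∀ b : Bool, ((sg b : F) • (1 : M2 F)).det = 1 := by
    intro b; rw [det_e]; simp [sg_sq]
  let f : Bool ⊕ ({t : F // t ^ 2 ≠ 4} ⊕ (Bool × Bool)) → ConjClasses (S2 F) := fun s => match s with
    | Sum.inl b => ConjClasses.mk (⟨(sg b : F) • (1 : M2 F), hsd b⟩ : S2 F)
    | Sum.inr (Sum.inl t) => ConjClasses.mk (⟨comp t.1 1, comp_det _ _⟩ : S2 F)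
    | Sum.inr (Sum.inr p) => ConjClasses.mk (parS (sg p.1) (kap p.2) (sg_sq p.1))
  have hf : Function.Bijective f := by
    constructor
    · rintro (a | t | p) (b | s | r) h <;> replace h := ConjClasses.mk_eq_mk_iff_isConj.mp h
      · have ht := sl_trace_eq h
        change ((sg a : F) • (1 : M2 F)).trace = ((sg b : F) • (1 : M2 F)).trace at ht
        rw [tr_eq, tr_eq] at ht
        simp at ht
        have : (2 : F) * sg a = 2 * sg b := by linear_combination ht
        rw [sg_inj h2 (mul_left_cancel₀ h2 this)]
      · exact absurd (sl_isScal h.symm ((isScal_iff _).mpr ⟨_, rfl⟩)) (comp_not_isScal _ _)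
      · exact absurd (sl_isScal h.symm ((isScal_iff _).mpr ⟨_, rfl⟩)) (par_not_isScal _ _ (kap0 _))
      · exact absurd (sl_isScal h ((isScal_iff _).mpr ⟨_, rfl⟩)) (comp_not_isScal _ _)
      · have ht := sl_trace_eq h
        change (comp t.1 1).trace = (comp s.1 1).trace at ht
        rw [comp_trace, comp_trace] at ht
        rw [Subtype.ext ht]
      · have ht := sl_trace_eq h
        change (comp t.1 1).trace = (par (sg r.1) (kap r.2)).trace at ht
        rw [comp_trace, par_trace] at ht
        exact absurd (by rw [ht]; linear_combination 4 * (sg_sq r.1 : (sg r.1 : F) * sg r.1 = 1)) t.2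
      · exact absurd (sl_isScal h ((isScal_iff _).mpr ⟨_, rfl⟩)) (par_not_isScal _ _ (kap0 _))
      · have ht := sl_trace_eq h
        change (par (sg p.1) (kap p.2)).trace = (comp s.1 1).trace at ht
        rw [comp_trace, par_trace] at ht
        exact absurd (by rw [← ht]; linear_combination 4 * (sg_sq p.1 : (sg p.1 : F) * sg p.1 = 1)) s.2
      · have ht := sl_trace_eq h
        change (par (sg p.1) (kap p.2)).trace = (par (sg r.1) (kap r.2)).trace at ht
        rw [par_trace, par_trace] at ht
        have h1 : p.1 = r.1 := sg_inj h2 (mul_left_cancel₀ h2 ht)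
        obtain ⟨p1, p2⟩ := p
        obtain ⟨r1, r2⟩ := r
        simp only at h1 h
        subst h1
        rw [kapsq _ _ ((parS_isConj_iff h2 _ _ _ _ (kap0 _) (kap0 _)).mp h)]
    · intro C
      induction C using Quotient.inductionOn with
      | h g =>
        by_cases hs : IsScal (g : M2 F)
        · obtain ⟨b, hb⟩ := scal_sl hs
          refine ⟨Sum.inl b, ?_⟩
          change ConjClasses.mk _ = ConjClasses.mk g
          congr 1
          exact sl_ext (by rw [hb])
        · by_cases ht : (g : M2 F).trace ^ 2 = 4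
          · have h' : ((g : M2 F).trace / 2) * ((g : M2 F).trace / 2) = 1 := by
              field_simp
              linear_combination ht
            have : ∃ b : Bool, (g : M2 F).trace = 2 * sg b := by
              rcases mul_self_eq_one_iff.mp h' with h | h
              · exact ⟨true, by field_simp at h; rw [h]; simp [sg]⟩
              · exact ⟨false, by field_simp at h; rw [h]; simp [sg]⟩
            obtain ⟨b, hb⟩ := this
            rcases sl_par_rep h2 hnu g hs (sg b) (sg_sq b) hb with h | h
            · refine ⟨Sum.inr (Sum.inr (b, true)), ?_⟩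
              exact ConjClasses.mk_eq_mk_iff_isConj.mpr h.symm
            · refine ⟨Sum.inr (Sum.inr (b, false)), ?_⟩
              exact ConjClasses.mk_eq_mk_iff_isConj.mpr h.symm
          · refine ⟨Sum.inr (Sum.inl ⟨_, ht⟩), ?_⟩
            refine ConjClasses.mk_eq_mk_iff_isConj.mpr (IsConj.symm ?_)
            exact sl_isConj hs (comp_not_isScal _ _) (comp_trace _ _).symm (Or.inl ht)
  rw [← Nat.card_eq_of_bijective f hf, Nat.card_sum, Nat.card_sum, Nat.card_prod, card_tr h2, Nat.card_eq_fintype_card, Fintype.card_bool]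
  have h2 : 2 ≤ Fintype.card F := two_le_card
  omega

/-- number of classes of `SL₂`, even characteristic -/
theorem card_classes_SL_even [Fintype F] (h2 : (2 : F) = 0) : Nat.card (ConjClasses (S2 F)) = Fintype.card F + 1 := by
  classical
  let f : Option F → ConjClasses (S2 F) := fun s => match s with
    | none => ConjClasses.mk (1 : S2 F)
    | some t => ConjClasses.mk (⟨comp t 1, comp_det _ _⟩ : S2 F)
  have h11 : (-1 : F) = 1 := by linear_combination -h2
  have hf : Function.Bijective f := by
    constructor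
    · rintro (_ | t) (_ | s) h <;> replace h := ConjClasses.mk_eq_mk_iff_isConj.mp h
      · rfl
      · exact absurd (sl_isScal h.symm ((isScal_iff _).mpr ⟨1, by simp⟩)) (comp_not_isScal _ _)
      · exact absurd (sl_isScal h ((isScal_iff _).mpr ⟨1, by simp⟩)) (comp_not_isScal _ _)
      · have ht := sl_trace_eq h
        change (comp t 1).trace = (comp s 1).trace at ht
        rw [comp_trace, comp_trace] at ht
        rw [ht]
    · intro C
      induction C using Quotient.inductionOn with
      | h g =>
        by_cases hs : IsScal (g : M2 F)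
        · obtain ⟨b, hb⟩ := scal_sl hs
          refine ⟨none, ?_⟩
          change ConjClasses.mk _ = ConjClasses.mk g
          congr 1
          refine sl_ext ?_
          rw [hb]
          cases b <;> simp [sg, h11]
        · refine ⟨some (g : M2 F).trace, ?_⟩
          refine ConjClasses.mk_eq_mk_iff_isConj.mpr (IsConj.symm ?_)
          exact sl_isConj hs (comp_not_isScal _ _) (comp_trace _ _).symm (Or.inr h2)
  rw [← Nat.card_eq_of_bijective f hf, Finite.card_option, Nat.card_eq_fintype_card]

end CfsgLib.GL2a
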