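import Cfsg.Agent.Lib.GLa4
import Cfsg.Agent.Lib.CharInd
import Cfsg.Agent.Lib.CharClifford
import Cfsg.Prelude.Def_ParabolicCharacters
set_option autoImplicit false
set_option linter.style.haveILetI false
set_option linter.unusedSectionVars false

/-! Characters of `GL₂` and `SL₂` induced from the Borel subgroup. -/

namespace CfsgLib.GL2a
open Matrix Cfsg
open scoped ComplexConjugate

section reps
variable {G : Type*} [Group G]

/-- induced functions through coset representatives -/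
theorem indFun_reps [Fintype G] (H : Subgroup G) {ι : Type*} [Fintype ι] (r : ι → G)
    (hr : ∀ g : G, ∃ i, (r i)⁻¹ * g ∈ H) (hr' : ∀ i j, (r i)⁻¹ * r j ∈ H → i = j)
    {θ : H → ℂ} (hθ : IsClassFunction H θ) (g : G) :
    indFun H θ g = ∑ i, extendByZero H θ ((r i)⁻¹ * g * r i) := by
  classical
  have e : Function.Bijective (fun p : ι × H => r p.1 * (p.2 : G)) := by
    constructor
    · rintro ⟨i, h⟩ ⟨j, k⟩ heq
      simp only at heq
      have hij : i = j := by
        apply hr'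
        have : (r i)⁻¹ * r j = (h : G) * (k : G)⁻¹ := by
          rw [inv_mul_eq_iff_eq_mul, ← mul_assoc, heq]; group
        rw [this]
        exact H.mul_mem h.2 (H.inv_mem k.2)
      subst hij
      have : (h : G) = k := mul_left_cancel heq
      rw [Subtype.ext this]
    · intro x
      obtain ⟨i, hi⟩ := hr x
      exact ⟨(i, ⟨_, hi⟩), by simp⟩
  rw [CfsgLib.CharInd.indFun_apply]
  rw [← (Equiv.ofBijective _ e).sum_comp, Fintype.sum_prod_type]
  simp only [Equiv.ofBijective_apply]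
  have : ∀ i, ∑ h : H, extendByZero H θ ((r i * (h : G))⁻¹ * g * (r i * (h : G))) = (Nat.card H : ℂ) * extendByZero H θ ((r i)⁻¹ * g * r i) := by
    intro i
    rw [Finset.sum_congr rfl (g := fun _ => extendByZero H θ ((r i)⁻¹ * g * r i))]
    · rw [Finset.sum_const, Finset.card_univ, nsmul_eq_mul, Nat.card_eq_fintype_card]
    · intro h _
      have := CfsgLib.CharInd.ext_conj_mem hθ (H.inv_mem h.2) ((r i)⁻¹ * g * r i)
      rw [← this]
      congr 1
      group
  simp only [this]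
  rw [← Finset.mul_sum, ← mul_assoc, inv_mul_cancel₀ (CfsgLib.CharInd.card_sub_ne_zero H), one_mul]
end reps

variable {F : Type*} [Field F]

theorem mem_upGL (g : G2 F) : g ∈ Cfsg.upperTriangularGL 2 F ↔ (g : M2 F) 1 0 = 0 := by
  constructor
  · intro h
    exact h (show id (0 : Fin 2) < id (1 : Fin 2) by decide)
  · intro h i j hij
    fin_cases i <;> fin_cases j <;> simp at hij
    exact h

theorem mem_upSL (g : S2 F) : g ∈ (Cfsg.upperTriangularGL 2 F).comap Matrix.SpecialLinearGroup.toGL ↔ (g : M2 F) 1 0 = 0 := by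
  rw [Subgroup.mem_comap, mem_upGL]; rfl

/-- coset representatives -/
def rS : Option F → S2 F
  | none => 1
  | some x => ⟨!![x, -1; 1, 0], by rw [det_e]; simp⟩

theorem rS_none : (rS (none : Option F)) = 1 := rfl
theorem rS_some (x : F) : ((rS (some x) : S2 F) : M2 F) = !![x, -1; 1, 0] := rfl

theorem rS_inv_some (x : F) : (((rS (some x))⁻¹ : S2 F) : M2 F) = !![0, 1; -1, x] := by
  have : (rS (some x))⁻¹ = (⟨!![0, 1; -1, x], by rw [det_e]; simp⟩ : S2 F) := by
    refine inv_eq_of_mul_eq_one_right (sl_ext ?_)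
    change !![x, -1; 1, 0] * !![0, 1; -1, x] = (1 : M2 F)
    apply ext4 <;> simp [Matrix.mul_apply, Fin.sum_univ_two]
  rw [this]

theorem conj_entries (x : F) (A : M2 F) :
    (!![0, 1; -1, x] * A * !![x, -1; 1, 0]) = !![A 1 0 * x + A 1 1, -A 1 0; A 1 0 * x ^ 2 + (A 1 1 - A 0 0) * x - A 0 1, A 0 0 - A 1 0 * x] := by
  apply ext4 <;> simp only [mul_e00, mul_e01, mul_e10, mul_e11] <;> simp <;> ring

def rG (i : Option F) : G2 F := (rS i : S2 F)

theorem rG_conj_none (g : G2 F) : (((rG none)⁻¹ * g * rG none : G2 F) : M2 F) = (g : M2 F) := by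
  have : rG (none : Option F) = 1 := by unfold rG; rw [rS_none]; exact map_one _
  rw [this]; simp

theorem rG_inv (i : Option F) : (((rG i)⁻¹ : G2 F) : M2 F) = (((rS i)⁻¹ : S2 F) : M2 F) := by
  have : (rG i)⁻¹ = (((rS i)⁻¹ : S2 F) : G2 F) := (map_inv (Matrix.SpecialLinearGroup.toGL (n := Fin 2) (R := F)) (rS i)).symm
  rw [this]; rfl

theorem rG_conj_some (g : G2 F) (x : F) : (((rG (some x))⁻¹ * g * rG (some x) : G2 F) : M2 F) = !![(g : M2 F) 1 0 * x + (g : M2 F) 1 1, -(g : M2 F) 1 0; (g : M2 F) 1 0 * x ^ 2 + ((g : M2 F) 1 1 - (g : M2 F) 0 0) * x - (g : M2 F) 0 1, (g : M2 F) 0 0 - (g : M2 F) 1 0 * x] := by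
  rw [← conj_entries]
  rw [Matrix.GeneralLinearGroup.coe_mul, Matrix.GeneralLinearGroup.coe_mul, rG_inv, rS_inv_some]
  rfl

theorem rS_conj_none (g : S2 F) : (((rS none)⁻¹ * g * rS none : S2 F) : M2 F) = (g : M2 F) := by
  rw [rS_none]; simp

theorem rS_conj_some (g : S2 F) (x : F) : (((rS (some x))⁻¹ * g * rS (some x) : S2 F) : M2 F) = !![(g : M2 F) 1 0 * x + (g : M2 F) 1 1, -(g : M2 F) 1 0; (g : M2 F) 1 0 * x ^ 2 + ((g : M2 F) 1 1 - (g : M2 F) 0 0) * x - (g : M2 F) 0 1, (g : M2 F) 0 0 - (g : M2 F) 1 0 * x] := by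
  rw [← conj_entries, ← rS_inv_some]
  rfl

theorem col_reps (A : M2 F) (hA : A.det ≠ 0) : A 1 0 = 0 ∨ ∃ x : F, (!![0, 1; -1, x] * A) 1 0 = 0 := by
  by_cases h : A 1 0 = 0
  · exact Or.inl h
  · refine Or.inr ⟨A 0 0 / A 1 0, ?_⟩
    rw [mul_e10]; simp; field_simp; ring

theorem reps_GL (g : G2 F) : ∃ i, (rG i)⁻¹ * g ∈ Cfsg.upperTriangularGL 2 F := by
  rcases col_reps (g : M2 F) (gdet_ne g) with h | ⟨x, h⟩
  · refine ⟨none, ?_⟩
    have : rG (none : Option F) = 1 := by unfold rG; rw [rS_none]; exact map_one _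
    rw [this, mem_upGL]; simpa using h
  · refine ⟨some x, ?_⟩
    rw [mem_upGL, Matrix.GeneralLinearGroup.coe_mul, rG_inv, rS_inv_some]; exact h

theorem reps_SL (g : S2 F) : ∃ i, (rS i)⁻¹ * g ∈ (Cfsg.upperTriangularGL 2 F).comap Matrix.SpecialLinearGroup.toGL := by
  rcases col_reps (g : M2 F) (by rw [sl_det]; exact one_ne_zero) with h | ⟨x, h⟩
  · refine ⟨none, ?_⟩
    rw [rS_none, mem_upSL]; simpa using h
  · refine ⟨some x, ?_⟩
    rw [mem_upSL]
    have e : (((rS (some x))⁻¹ * g : S2 F) : M2 F) = !![0, 1; -1, x] * (g : M2 F) := by rw [← rS_inv_some]; rfl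
    rw [e]; exact h

theorem reps_SL_inj (i j : Option F) (h : (((rS i)⁻¹ * rS j : S2 F) : M2 F) 1 0 = 0) : i = j := by
  rcases i with _ | x <;> rcases j with _ | y
  · rfl
  · exfalso
    rw [rS_none, inv_one, one_mul, rS_some] at h
    simp at h
  · exfalso
    rw [rS_none, mul_one, rS_inv_some] at h
    simp at h
  · have e : (((rS (some x))⁻¹ * rS (some y) : S2 F) : M2 F) = !![0, 1; -1, x] * !![y, -1; 1, 0] := by rw [← rS_inv_some]; rfl
    rw [e, mul_e10] at h
    simp at h
    rw [show x = y by linear_combination h]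

theorem reps_GL_inj (i j : Option F) (h : (rG i)⁻¹ * rG j ∈ Cfsg.upperTriangularGL 2 F) : i = j := by
  apply reps_SL_inj
  rw [mem_upGL, Matrix.GeneralLinearGroup.coe_mul, rG_inv] at h
  exact h

variable [Fintype F] [DecidableEq F]

/-- the principal series function on matrices -/
noncomputable def Rf (α β : MulChar F ℂ) (A : M2 F) : ℂ :=
  (if A 1 0 = 0 then α (A 0 0) * β (A 1 1) else 0) +
    ∑ x : F, if A 1 0 * x ^ 2 + (A 1 1 - A 0 0) * x - A 0 1 = 0 then α (A 1 0 * x + A 1 1) * β (A 0 0 - A 1 0 * x) else 0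

/-- linear character of the Borel subgroup -/
noncomputable def thG (α β : MulChar F ℂ) : Cfsg.upperTriangularGL 2 F → ℂ := fun b =>
  α (((b : G2 F) : M2 F) 0 0) * β (((b : G2 F) : M2 F) 1 1)
noncomputable def thS (α : MulChar F ℂ) : (Cfsg.upperTriangularGL 2 F).comap (Matrix.SpecialLinearGroup.toGL (n := Fin 2) (R := F)) → ℂ := fun b =>
  α (((b : S2 F) : M2 F) 0 0)

theorem thG_mul (α β : MulChar F ℂ) (a b : Cfsg.upperTriangularGL 2 F) : thG α β (a * b) = thG α β a * thG α β b := by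
  have ha := (mem_upGL (a : G2 F)).mp a.2
  have hb := (mem_upGL (b : G2 F)).mp b.2
  unfold thG
  rw [Subgroup.coe_mul, Matrix.GeneralLinearGroup.coe_mul, mul_e00, mul_e11, ha, hb, mul_zero, add_zero, zero_mul, zero_add, map_mul, map_mul]
  ring

theorem thS_mul (α : MulChar F ℂ) (a b : (Cfsg.upperTriangularGL 2 F).comap (Matrix.SpecialLinearGroup.toGL (n := Fin 2) (R := F))) : thS α (a * b) = thS α a * thS α b := by
  have hb := (mem_upSL (b : S2 F)).mp b.2
  unfold thS
  have e : (((a * b : (Cfsg.upperTriangularGL 2 F).comap (Matrix.SpecialLinearGroup.toGL (n := Fin 2) (R := F))) : S2 F) : M2 F) = ((a : S2 F) : M2 F) * ((b : S2 F) : M2 F) := rfl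
  rw [e, mul_e00, hb, mul_zero, add_zero, map_mul]

theorem thG_class (α β : MulChar F ℂ) : IsClassFunction (Cfsg.upperTriangularGL 2 F) (thG α β) := by
  intro g h
  have h1 : thG α β (1 : Cfsg.upperTriangularGL 2 F) = 1 := by simp [thG]
  rw [thG_mul, thG_mul, mul_comm (thG α β h), mul_assoc, ← thG_mul, mul_inv_cancel, h1, mul_one]

theorem thS_class (α : MulChar F ℂ) : IsClassFunction ((Cfsg.upperTriangularGL 2 F).comap (Matrix.SpecialLinearGroup.toGL (n := Fin 2) (R := F))) (thS α) := by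
  intro g h
  have h1 : thS α (1 : (Cfsg.upperTriangularGL 2 F).comap (Matrix.SpecialLinearGroup.toGL (n := Fin 2) (R := F))) = 1 := by
    unfold thS
    have : (((1 : (Cfsg.upperTriangularGL 2 F).comap (Matrix.SpecialLinearGroup.toGL (n := Fin 2) (R := F))) : S2 F) : M2 F) = 1 := rfl
    rw [this]; simp
  rw [thS_mul, thS_mul, mul_comm (thS α h), mul_assoc, ← thS_mul, mul_inv_cancel, h1, mul_one]

theorem RG_apply (α β : MulChar F ℂ) (g : G2 F) : indFun (Cfsg.upperTriangularGL 2 F) (thG α β) g = Rf α β (g : M2 F) := by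
  have hext : ∀ y : G2 F, extendByZero (Cfsg.upperTriangularGL 2 F) (thG α β) y = if (y : M2 F) 1 0 = 0 then α ((y : M2 F) 0 0) * β ((y : M2 F) 1 1) else 0 := by
    intro y
    split_ifs with h
    · rw [CfsgLib.CharInd.ext_of_mem ((mem_upGL y).mpr h)]; rfl
    · rw [CfsgLib.CharInd.ext_of_not_mem (fun h' => h ((mem_upGL y).mp h'))]
  rw [indFun_reps (Cfsg.upperTriangularGL 2 F) rG reps_GL reps_GL_inj (thG_class α β), Fintype.sum_option]
  unfold Rf
  congr 1
  · rw [hext, rG_conj_none]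
  · refine Finset.sum_congr rfl fun x _ => ?_
    rw [hext, rG_conj_some]
    simp

theorem RS_apply (α : MulChar F ℂ) (g : S2 F) :
    indFun ((Cfsg.upperTriangularGL 2 F).comap (Matrix.SpecialLinearGroup.toGL (n := Fin 2) (R := F))) (thS α) g = Rf α 1 (g : M2 F) := by
  have hdet : ∀ y : S2 F, (y : M2 F) 1 0 = 0 → (1 : MulChar F ℂ) ((y : M2 F) 1 1) = 1 := by
    intro y h
    have := sl_det y
    rw [det_e, h, mul_zero, sub_zero] at this
    have hu : (y : M2 F) 1 1 ≠ 0 := by
      intro h0; rw [h0, mul_zero] at this; exact zero_ne_one this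
    exact MulChar.one_apply (isUnit_iff_ne_zero.mpr hu)
  have hext : ∀ y : S2 F, extendByZero ((Cfsg.upperTriangularGL 2 F).comap (Matrix.SpecialLinearGroup.toGL (n := Fin 2) (R := F))) (thS α) y =
      if (y : M2 F) 1 0 = 0 then α ((y : M2 F) 0 0) * (1 : MulChar F ℂ) ((y : M2 F) 1 1) else 0 := by
    intro y
    split_ifs with h
    · rw [CfsgLib.CharInd.ext_of_mem ((mem_upSL y).mpr h), hdet y h, mul_one]; rfl
    · rw [CfsgLib.CharInd.ext_of_not_mem (fun h' => h ((mem_upSL y).mp h'))]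
  rw [indFun_reps _ rS reps_SL (fun i j h => reps_SL_inj i j ((mem_upSL _).mp h)) (thS_class α), Fintype.sum_option]
  unfold Rf
  congr 1
  · rw [hext, rS_conj_none]
  · refine Finset.sum_congr rfl fun x _ => ?_
    rw [hext, rS_conj_some]
    simp

/-! values -/

theorem Rf_aniso (α β : MulChar F ℂ) {A : M2 F} (h : Aniso A) : Rf α β A = 0 := by
  unfold Rf
  have h10 : A 1 0 ≠ 0 := by
    intro h10
    refine h (A 0 0) ![1, 0] (fun e => one_ne_zero (congrFun e 0)) ?_
    ext i; fin_cases i <;> simp [Matrix.mulVec, dotProduct, Fin.sum_univ_two, h10]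
  rw [if_neg h10, zero_add]
  refine Finset.sum_eq_zero fun x _ => ?_
  rw [if_neg]
  intro e
  refine h (A 1 0 * x + A 1 1) ![x, 1] (fun e => one_ne_zero (congrFun e 1)) ?_
  ext i; fin_cases i <;> simp [Matrix.mulVec, dotProduct, Fin.sum_univ_two]
  linear_combination -e

theorem Rf_up (α β : MulChar F ℂ) {A : M2 F} (h10 : A 1 0 = 0) (h : A 0 0 ≠ A 1 1) : Rf α β A = α (A 0 0) * β (A 1 1) + α (A 1 1) * β (A 0 0) := by
  unfold Rf
  rw [if_pos h10]
  congr 1
  have hd : A 1 1 - A 0 0 ≠ 0 := sub_ne_zero.mpr (Ne.symm h)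
  rw [Finset.sum_eq_single (A 0 1 / (A 1 1 - A 0 0))]
  · rw [if_pos, h10]
    · simp
    · rw [h10]; field_simp; ring
  · intro x _ hx
    rw [if_neg]
    intro e
    apply hx
    rw [h10] at e
    rw [eq_div_iff hd]
    linear_combination e
  · intro h; exact absurd (Finset.mem_univ _) h

theorem Rf_par (α β : MulChar F ℂ) {A : M2 F} (h10 : A 1 0 = 0) (h : A 0 0 = A 1 1) (h01 : A 0 1 ≠ 0) : Rf α β A = α (A 0 0) * β (A 0 0) := by
  unfold Rf
  rw [if_pos h10, ← h]
  rw [Finset.sum_eq_zero, add_zero]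
  intro x _
  rw [if_neg]
  intro e
  apply h01
  rw [h10] at e
  linear_combination -e

theorem Rf_scal (α β : MulChar F ℂ) {A : M2 F} (h10 : A 1 0 = 0) (h : A 0 0 = A 1 1) (h01 : A 0 1 = 0) :
    Rf α β A = ((Fintype.card F : ℂ) + 1) * (α (A 0 0) * β (A 0 0)) := by
  unfold Rf
  rw [if_pos h10, ← h, h01, h10]
  simp only [zero_mul, sub_self, zero_add, sub_zero, if_true, Finset.sum_const, Finset.card_univ, nsmul_eq_mul]
  ring

theorem Rf_scalar (α β : MulChar F ℂ) (a : F) : Rf α β (a • (1 : M2 F)) = ((Fintype.card F : ℂ) + 1) * (α a * β a) := by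
  rw [Rf_scal] <;> simp

/-- sums over the unipotent cosets -/
theorem Rf_sum (α β : MulChar F ℂ) (a d : F) : ∑ x : F, Rf α β !![a, x; 0, d] = (Fintype.card F : ℂ) * (α a * β d + α d * β a) := by
  by_cases h : a = d
  · subst h
    rw [Fintype.sum_eq_add_sum_compl 0, Rf_scal]
    · rw [Finset.sum_congr rfl (g := fun _ => α a * β a)]
      · rw [Finset.sum_const, Finset.card_compl, Finset.card_singleton, nsmul_eq_mul]
        have : 1 ≤ Fintype.card F := Fintype.card_pos
        push_cast [Nat.cast_sub this]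
        simp
        ring
      · intro x hx
        rw [Rf_par] <;> simp at hx ⊢
        exact hx
    all_goals simp
  · rw [Finset.sum_congr rfl (g := fun _ => α a * β d + α d * β a)]
    · rw [Finset.sum_const, Finset.card_univ, nsmul_eq_mul]
    · intro x _
      rw [Rf_up] <;> simp
      exact h

theorem char_sum (α β : MulChar F ℂ) : ∑ a : F, α a * conj (β a) = if α = β then (Fintype.card F : ℂ) - 1 else 0 := by
  have : ∀ a : F, α a * conj (β a) = (α * β⁻¹) a := by
    intro a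
    rw [MulChar.mul_apply, ← MulChar.star_apply']; rfl
  simp only [this]
  split_ifs with h
  · subst h
    rw [mul_inv_cancel, MulChar.sum_one_eq_card_units, Fintype.card_units]
    have : 1 ≤ Fintype.card F := Fintype.card_pos
    push_cast [Nat.cast_sub this]; ring
  · exact MulChar.sum_eq_zero_of_ne_one (fun e => h (mul_inv_eq_one.mp e))

end CfsgLib.GL2a
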