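import Cfsg.Agent.Lib.GLc1
set_option autoImplicit false
set_option linter.style.haveILetI false
set_option linter.unusedSectionVars false

/-! Mackey formula for the Borel subgroups of `GL₂` and `SL₂`. -/

namespace CfsgLib.GL2a
open Matrix Cfsg
open scoped ComplexConjugate

variable {F : Type*} [Field F] [Fintype F] [DecidableEq F]

omit [Fintype F] [DecidableEq F] in
theorem mc0 (α : MulChar F ℂ) : α 0 = 0 := MulChar.map_zero α

theorem sum_un (f : F → ℂ) (h0 : f 0 = 0) : ∑ a : Fˣ, f a = ∑ a : F, f a := by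
  refine Fintype.sum_of_injective (fun a : Fˣ => (a : F)) Units.val_injective _ _ ?_ (fun _ => rfl)
  intro x hx
  have : x = 0 := by
    by_contra hne
    exact hx ⟨Units.mk0 x hne, rfl⟩
  rw [this, h0]

abbrev BG (F : Type*) [Field F] : Subgroup (G2 F) := Cfsg.upperTriangularGL 2 F
abbrev BS (F : Type*) [Field F] : Subgroup (S2 F) := (Cfsg.upperTriangularGL 2 F).comap (Matrix.SpecialLinearGroup.toGL (n := Fin 2) (R := F))

/-- the Borel subgroup of `GL₂` as a set -/
noncomputable def eBG : Fˣ × Fˣ × F ≃ BG F where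
  toFun p := ⟨Matrix.GeneralLinearGroup.mkOfDetNeZero !![(p.1 : F), p.2.2; 0, (p.2.1 : F)] (by rw [det_e]; simp), by
    rw [mem_upGL]; change (!![(p.1 : F), p.2.2; 0, (p.2.1 : F)] : M2 F) 1 0 = 0; simp⟩
  invFun b := (Units.mk0 (((b : G2 F) : M2 F) 0 0) (by
      intro h0
      have := gdet_ne (b : G2 F)
      rw [det_e, (mem_upGL _).mp b.2, h0] at this
      simp at this), Units.mk0 (((b : G2 F) : M2 F) 1 1) (by
      intro h0
      have := gdet_ne (b : G2 F)
      rw [det_e, (mem_upGL _).mp b.2, h0] at this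
      simp at this), ((b : G2 F) : M2 F) 0 1)
  left_inv p := by
    apply Prod.ext
    · apply Units.ext; rfl
    · apply Prod.ext
      · apply Units.ext; rfl
      · rfl
  right_inv b := by
    apply Subtype.ext
    apply gl_ext
    change !![((b : G2 F) : M2 F) 0 0, ((b : G2 F) : M2 F) 0 1; 0, ((b : G2 F) : M2 F) 1 1] = ((b : G2 F) : M2 F)
    apply ext4 <;> simp
    exact ((mem_upGL _).mp b.2).symm

noncomputable def eBS : Fˣ × F ≃ BS F where
  toFun p := ⟨⟨!![(p.1 : F), p.2; 0, (p.1 : F)⁻¹], (by rw [det_e]; simp)⟩, (mem_upSL _).mpr (by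
    change (!![(p.1 : F), p.2; 0, (p.1 : F)⁻¹] : M2 F) 1 0 = 0; simp)⟩
  invFun b := (Units.mk0 (((b : S2 F) : M2 F) 0 0) (by
      intro h0
      have := sl_det (b : S2 F)
      rw [det_e, (mem_upSL _).mp b.2, h0] at this
      simp at this), ((b : S2 F) : M2 F) 0 1)
  left_inv p := by
    apply Prod.ext
    · apply Units.ext; rfl
    · rfl
  right_inv b := by
    apply Subtype.ext
    apply sl_ext
    have h10 := (mem_upSL _).mp b.2
    have hd := sl_det (b : S2 F)
    rw [det_e, h10, mul_zero, sub_zero] at hd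
    change !![((b : S2 F) : M2 F) 0 0, ((b : S2 F) : M2 F) 0 1; 0, (((b : S2 F) : M2 F) 0 0)⁻¹] = ((b : S2 F) : M2 F)
    apply ext4 <;> simp
    · exact h10.symm
    · exact (eq_inv_of_mul_eq_one_right hd).symm

theorem card_BG : (Nat.card (BG F) : ℂ) = ((Fintype.card F : ℂ) - 1) ^ 2 * (Fintype.card F : ℂ) := by
  rw [← Nat.card_congr (eBG (F := F)), Nat.card_prod, Nat.card_prod, Nat.card_eq_fintype_card, Nat.card_eq_fintype_card, Fintype.card_units]
  have : 1 ≤ Fintype.card F := Fintype.card_pos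
  push_cast [Nat.cast_sub this]; ring

theorem card_BS : (Nat.card (BS F) : ℂ) = ((Fintype.card F : ℂ) - 1) * (Fintype.card F : ℂ) := by
  rw [← Nat.card_congr (eBS (F := F)), Nat.card_prod, Nat.card_eq_fintype_card, Nat.card_eq_fintype_card, Fintype.card_units]
  have : 1 ≤ Fintype.card F := Fintype.card_pos
  push_cast [Nat.cast_sub this]; ring

theorem cq0 : (Fintype.card F : ℂ) ≠ 0 := Nat.cast_ne_zero.mpr Fintype.card_ne_zero
theorem cq1 : (Fintype.card F : ℂ) - 1 ≠ 0 := by
  have : (1 : ℕ) < Fintype.card F := Fintype.one_lt_card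
  intro h
  have : (Fintype.card F : ℂ) = (1 : ℕ) := by push_cast; linear_combination h
  have := Nat.cast_injective this
  omega

theorem RG_eq (α β : MulChar F ℂ) : indFun (BG F) (thG α β) = fun g : G2 F => Rf α β (g : M2 F) := funext (RG_apply α β)
theorem RS_eq (α : MulChar F ℂ) : indFun (BS F) (thS α) = fun g : S2 F => Rf α 1 (g : M2 F) := funext (RS_apply α)

theorem RG_class (α β : MulChar F ℂ) : IsClassFunction (G2 F) (fun g : G2 F => Rf α β (g : M2 F)) := by
  rw [← RG_eq]; exact CfsgLib.CharInd.isClassFunction_indFun _ _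
theorem RS_class (α : MulChar F ℂ) : IsClassFunction (S2 F) (fun g : S2 F => Rf α 1 (g : M2 F)) := by
  rw [← RS_eq]; exact CfsgLib.CharInd.isClassFunction_indFun _ _

/-- pairing with a class function on `GL₂` -/
theorem inner_RG (α β : MulChar F ℂ) {χ : G2 F → ℂ} (hχ : IsClassFunction (G2 F) χ) :
    classInner (fun g : G2 F => Rf α β (g : M2 F)) χ =
      (Nat.card (BG F) : ℂ)⁻¹ * ∑ a : Fˣ, ∑ d : Fˣ, α (a : F) * β (d : F) * conj (∑ x : F, χ ((eBG (a, d, x) : BG F) : G2 F)) := by
  classical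
  rw [← RG_eq, CfsgLib.CharInd.frobenius _ _ hχ]
  unfold classInner
  rw [← (eBG (F := F)).sum_comp, Fintype.sum_prod_type]
  congr 1
  refine Finset.sum_congr rfl fun a _ => ?_
  rw [Fintype.sum_prod_type]
  refine Finset.sum_congr rfl fun d _ => ?_
  rw [map_sum, Finset.mul_sum]
  refine Finset.sum_congr rfl fun x _ => ?_
  rfl

theorem inner_RS (α : MulChar F ℂ) {χ : S2 F → ℂ} (hχ : IsClassFunction (S2 F) χ) :
    classInner (fun g : S2 F => Rf α 1 (g : M2 F)) χ =
      (Nat.card (BS F) : ℂ)⁻¹ * ∑ a : Fˣ, α (a : F) * conj (∑ x : F, χ ((eBS (a, x) : BS F) : S2 F)) := by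
  classical
  rw [← RS_eq, CfsgLib.CharInd.frobenius _ _ hχ]
  unfold classInner
  rw [← (eBS (F := F)).sum_comp, Fintype.sum_prod_type]
  congr 1
  refine Finset.sum_congr rfl fun a _ => ?_
  rw [map_sum, Finset.mul_sum]
  refine Finset.sum_congr rfl fun x _ => ?_
  rfl

theorem mackey_GL (α β α' β' : MulChar F ℂ) [Decidable (α = α')] [Decidable (β = β')] [Decidable (α = β')] [Decidable (β = α')] :
    classInner (fun g : G2 F => Rf α β (g : M2 F)) (fun g : G2 F => Rf α' β' (g : M2 F)) =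
      (if α = α' then 1 else 0) * (if β = β' then 1 else 0) + (if α = β' then 1 else 0) * (if β = α' then 1 else 0) := by
  rw [inner_RG α β (RG_class α' β')]
  have h1 : ∀ a d : Fˣ, ∑ x : F, Rf α' β' (((eBG (a, d, x) : BG F) : G2 F) : M2 F) = (Fintype.card F : ℂ) * (α' a * β' d + α' d * β' a) := by
    intro a d
    rw [← Rf_sum]; rfl
  simp only [h1]
  have h2 : ∑ a : Fˣ, ∑ d : Fˣ, α (a : F) * β (d : F) * conj ((Fintype.card F : ℂ) * (α' a * β' d + α' d * β' a)) =
      (Fintype.card F : ℂ) * ((∑ a : F, α a * conj (α' a)) * (∑ a : F, β a * conj (β' a)) + (∑ a : F, α a * conj (β' a)) * (∑ a : F, β a * conj (α' a))) := by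
    have e1 : ∀ a : Fˣ, ∑ d : Fˣ, α (a : F) * β (d : F) * conj ((Fintype.card F : ℂ) * (α' a * β' d + α' d * β' a)) =
        ∑ d : F, α (a : F) * β (d : F) * conj ((Fintype.card F : ℂ) * (α' a * β' d + α' d * β' a)) := fun a =>
      sum_un (fun d : F => α (a : F) * β d * conj ((Fintype.card F : ℂ) * (α' a * β' d + α' d * β' a))) (by simp [mc0])
    simp only [e1]
    rw [sum_un (fun a : F => ∑ d : F, α a * β (d : F) * conj ((Fintype.card F : ℂ) * (α' a * β' d + α' d * β' a))) (by simp [mc0])]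
    rw [Finset.sum_mul_sum, Finset.sum_mul_sum, ← Finset.sum_add_distrib, Finset.mul_sum]
    refine Finset.sum_congr rfl fun a _ => ?_
    rw [← Finset.sum_add_distrib, Finset.mul_sum]
    refine Finset.sum_congr rfl fun d _ => ?_
    simp only [map_mul, map_add, Complex.conj_natCast]
    ring
  rw [h2, char_sum, char_sum, char_sum, char_sum, card_BG]
  have hq := cq0 (F := F)
  have hq1 := cq1 (F := F)
  split_ifs <;> field_simp <;> ring

theorem mackey_SL (α α' : MulChar F ℂ) [Decidable (α = α')] [Decidable (α = α'⁻¹)] :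
    classInner (fun g : S2 F => Rf α 1 (g : M2 F)) (fun g : S2 F => Rf α' 1 (g : M2 F)) =
      (if α = α' then 1 else 0) + (if α = α'⁻¹ then 1 else 0) := by
  rw [inner_RS α (RS_class α')]
  have h1 : ∀ a : Fˣ, ∑ x : F, Rf α' 1 (((eBS (a, x) : BS F) : S2 F) : M2 F) = (Fintype.card F : ℂ) * (α' a + α'⁻¹ a) := by
    intro a
    have := Rf_sum α' 1 (a : F) (a : F)⁻¹
    rw [MulChar.one_apply (by simp : IsUnit (a : F)), MulChar.one_apply (by simp : IsUnit (a : F)⁻¹), mul_one, mul_one] at this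
    rw [MulChar.inv_apply']
    exact this
  simp only [h1]
  have h2 : ∑ a : Fˣ, α (a : F) * conj ((Fintype.card F : ℂ) * (α' a + α'⁻¹ a)) =
      (Fintype.card F : ℂ) * ((∑ a : F, α a * conj (α' a)) + (∑ a : F, α a * conj (α'⁻¹ a))) := by
    rw [sum_un (fun a : F => α a * conj ((Fintype.card F : ℂ) * (α' a + α'⁻¹ a))) (by simp [mc0])]
    rw [← Finset.sum_add_distrib, Finset.mul_sum]
    refine Finset.sum_congr rfl fun a _ => ?_
    simp only [map_mul, map_add, Complex.conj_natCast]
    ring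
  rw [h2, char_sum, char_sum, card_BS]
  have hq := cq0 (F := F)
  have hq1 := cq1 (F := F)
  split_ifs <;> field_simp <;> ring

end CfsgLib.GL2a
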