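import Cfsg.Agent.Lib.GLc2
import Cfsg.Agent.Lib.CharBasic3
import Cfsg.Agent.Lib.SL2Pres
set_option autoImplicit false
set_option linter.style.haveILetI false
set_option linter.unusedSectionVars false

/-! Restriction of characters to a root subgroup. -/

namespace CfsgLib.GL2a
open Matrix Cfsg
open scoped ComplexConjugate

universe u

section comb

theorem rest_zero {I : Type*} [Fintype I] [DecidableEq I] (A : Finset I) (f : I → ℕ) (h : ∑ i ∈ A, f i = ∑ i, f i) :
    ∀ i, i ∉ A → f i = 0 := by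
  intro i hi
  have h1 := Finset.sum_add_sum_compl A f
  have h2 : ∑ i ∈ Aᶜ, f i = 0 := by omega
  exact (Finset.sum_eq_zero_iff.mp h2) i (Finset.mem_compl.mpr hi)

theorem le_one_of_sum_sq {I : Type*} [Fintype I] (m : I → ℕ) (h : ∑ i, m i * m i ≤ (Finset.univ.filter fun i => m i ≠ 0).card) :
    ∀ i, m i ≤ 1 := by
  classical
  intro i
  by_contra hi
  push Not at hi
  have h1 : (Finset.univ.filter fun i => m i ≠ 0).card = ∑ i, (if m i ≠ 0 then 1 else 0) := by
    rw [Finset.card_filter]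
  rw [h1] at h
  have h2 : ∑ i, (if m i ≠ 0 then 1 else 0) < ∑ i, m i * m i := by
    refine Finset.sum_lt_sum (fun j _ => ?_) ⟨i, Finset.mem_univ _, ?_⟩
    · split_ifs with hj
      · exact Nat.one_le_iff_ne_zero.mpr (mul_ne_zero hj hj)
      · exact Nat.zero_le _
    · rw [if_pos (by omega)]; nlinarith
  omega

theorem card_image_two {α β : Type*} [DecidableEq α] [DecidableEq β] (s : Finset α) (f : α → β) (g : α → α)
    (hg : ∀ a ∈ s, g a ∈ s ∧ g a ≠ a ∧ f (g a) = f a) (hf : ∀ a ∈ s, ∀ b ∈ s, f a = f b → b = a ∨ b = g a) :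
    2 * (s.image f).card = s.card := by
  classical
  rw [Finset.card_eq_sum_card_image f s]
  rw [Finset.sum_congr rfl (g := fun _ => 2)]
  · rw [Finset.sum_const, smul_eq_mul, mul_comm]
  · intro y hy
    obtain ⟨a, ha, rfl⟩ := Finset.mem_image.mp hy
    have : s.filter (fun x => f x = f a) = {a, g a} := by
      ext b
      rw [Finset.mem_filter, Finset.mem_insert, Finset.mem_singleton]
      constructor
      · rintro ⟨hb, e⟩; exact hf a ha b hb e.symm
      · rintro (rfl | rfl)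
        · exact ⟨ha, rfl⟩
        · exact ⟨(hg a ha).1, (hg a ha).2.2⟩
    rw [this, Finset.card_pair (hg a ha).2.1.symm]
end comb

variable {F : Type*} [Field F] [Fintype F]

theorem mult_nat {G : Type u} [Group G] [Finite G] {χ : G → ℂ} (hχ : IsCharacter G χ) (up : Multiplicative F →* G) (ψ : AddChar F ℂ) :
    ∃ n : ℕ, (Fintype.card F : ℂ)⁻¹ * ∑ x : F, χ (up (Multiplicative.ofAdd x)) * conj (ψ x) = n := by
  classical
  have h1 : IsCharacter (Multiplicative F) (χ ∘ up) := CfsgLib.CharBasic.IsCharacter.comp hχ up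
  have h2 : IsCharacter (Multiplicative F) (fun x => ψ (Multiplicative.toAdd x)) := by
    have := CfsgLib.CharBasic.isCharacter_linear (ψ.toMonoidHom.toHomUnits)
    exact this
  obtain ⟨n, hn⟩ := CfsgLib.CharBasic.IsCharacter.inner_nat h1 h2
  refine ⟨n, ?_⟩
  rw [← hn]
  unfold classInner
  rw [Nat.card_eq_fintype_card]
  have hc : Fintype.card (Multiplicative F) = Fintype.card F := Fintype.card_congr Multiplicative.toAdd
  rw [hc]
  congr 1
  exact (Equiv.sum_comp Multiplicative.ofAdd (fun g : Multiplicative F => (χ ∘ up) g * conj (ψ (Multiplicative.toAdd g))))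

theorem exists_prim : ∃ ψ : AddChar F ℂ, ψ.IsPrimitive ∧ ψ ≠ 1 := by
  refine ⟨AddChar.FiniteField.primitiveChar_to_Complex F, AddChar.FiniteField.primitiveChar_to_Complex_isPrimitive F, ?_⟩
  intro h
  have := AddChar.FiniteField.primitiveChar_to_Complex_isPrimitive F (one_ne_zero : (1 : F) ≠ 0)
  rw [AddChar.mulShift_one] at this
  exact this h

/-- one class of unipotents -/
theorem mult_one_class {G : Type u} [Group G] [Finite G] (up : Multiplicative F →* G)
    (hup : ∀ x : F, x ≠ 0 → IsConj (up (Multiplicative.ofAdd x)) (up (Multiplicative.ofAdd 1)))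
    {χ : G → ℂ} (hχ : IsCharacter G χ) :
    ∃ m0 m : ℕ, χ 1 = m0 + ((Fintype.card F : ℂ) - 1) * m ∧ χ (up (Multiplicative.ofAdd 1)) = m0 - m := by
  classical
  obtain ⟨ψ, -, hψ⟩ := exists_prim (F := F)
  obtain ⟨m0, h0⟩ := mult_nat hχ up 1
  obtain ⟨m, h1⟩ := mult_nat hχ up ψ
  refine ⟨m0, m, ?_⟩
  have hcl := CfsgLib.CharBasic.IsCharacter.isClassFunction hχ
  have hval : ∀ x : F, x ≠ 0 → χ (up (Multiplicative.ofAdd x)) = χ (up (Multiplicative.ofAdd 1)) := fun x hx =>
    CfsgLib.CharBasic.IsClassFunction.eq_of_isConj hcl (hup x hx)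
  have key : ∀ φ : AddChar F ℂ, ∑ x : F, χ (up (Multiplicative.ofAdd x)) * conj (φ x) = χ 1 + χ (up (Multiplicative.ofAdd 1)) * (conj (∑ x : F, φ x) - 1) := by
    intro φ
    rw [Fintype.sum_eq_add_sum_compl 0]
    have h0 : Multiplicative.ofAdd (0 : F) = 1 := rfl
    rw [h0, map_one]
    have h3 : ∑ x ∈ ({0} : Finset F)ᶜ, χ (up (Multiplicative.ofAdd x)) * conj (φ x) = χ (up (Multiplicative.ofAdd 1)) * ∑ x ∈ ({0} : Finset F)ᶜ, conj (φ x) := by
      rw [Finset.mul_sum]
      refine Finset.sum_congr rfl fun x hx => ?_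
      rw [hval x (by simpa using hx)]
    rw [h3]
    have h4 : conj (∑ x : F, φ x) = 1 + ∑ x ∈ ({0} : Finset F)ᶜ, conj (φ x) := by
      rw [map_sum, Fintype.sum_eq_add_sum_compl 0]; simp
    rw [h4]; simp
  rw [key] at h0 h1
  have hs0 : ∑ x : F, (1 : AddChar F ℂ) x = Fintype.card F := by simp
  have hs1 : ∑ x : F, ψ x = 0 := AddChar.sum_eq_zero_of_ne_one hψ
  rw [hs0] at h0
  rw [hs1] at h1
  have hq := cq0 (F := F)
  rw [inv_mul_eq_iff_eq_mul₀ hq] at h0 h1
  simp at h0 h1
  constructor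
  · have : (Fintype.card F : ℂ) * χ 1 = (Fintype.card F : ℂ) * (m0 + ((Fintype.card F : ℂ) - 1) * m) := by
      linear_combination h0 + ((Fintype.card F : ℂ) - 1) * h1
    exact mul_left_cancel₀ hq this
  · have : (Fintype.card F : ℂ) * χ (up (Multiplicative.ofAdd 1)) = (Fintype.card F : ℂ) * (m0 - m) := by
      linear_combination h0 - h1
    exact mul_left_cancel₀ hq this

def upS : Multiplicative F →* S2 F where
  toFun x := parS 1 (Multiplicative.toAdd x) (one_mul 1)
  map_one' := by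
    apply sl_ext
    change par 1 0 = (1 : M2 F)
    apply ext4 <;> simp [par]
  map_mul' x y := by
    apply sl_ext
    change par 1 (Multiplicative.toAdd x + Multiplicative.toAdd y) = par 1 (Multiplicative.toAdd x) * par 1 (Multiplicative.toAdd y)
    apply ext4 <;> simp only [mul_e00, mul_e01, mul_e10, mul_e11] <;> simp [par]
    ring

def upG : Multiplicative F →* G2 F := (Matrix.SpecialLinearGroup.toGL (n := Fin 2) (R := F)).comp upS

theorem upS_coe (x : F) : ((upS (Multiplicative.ofAdd x) : S2 F) : M2 F) = !![1, x; 0, 1] := rfl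
theorem upG_coe (x : F) : ((upG (Multiplicative.ofAdd x) : G2 F) : M2 F) = !![1, x; 0, 1] := rfl

theorem upG_conj (x : F) (hx : x ≠ 0) : IsConj (upG (Multiplicative.ofAdd x)) (upG (Multiplicative.ofAdd (1 : F))) := by
  apply gl_isConj
  · rw [upG_coe]; exact par_not_isScal 1 x hx
  · rw [upG_coe]; exact par_not_isScal 1 1 one_ne_zero
  · rw [upG_coe, upG_coe, tr_eq, tr_eq]; simp
  · rw [upG_coe, upG_coe, det_e, det_e]; simp

theorem upS_conj_even (h2 : (2 : F) = 0) (x : F) (hx : x ≠ 0) : IsConj (upS (Multiplicative.ofAdd x)) (upS (Multiplicative.ofAdd (1 : F))) := by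
  apply sl_isConj
  · exact par_not_isScal 1 x hx
  · exact par_not_isScal 1 1 one_ne_zero
  · rw [upS_coe, upS_coe, tr_eq, tr_eq]; simp
  · exact Or.inr h2

/-- a character trivial on the unipotents is trivial on `SL₂` -/
theorem ker_of_up {χ : S2 F → ℂ} (hχ : IsCharacter (S2 F) χ) (h : ∀ x : F, χ (upS (Multiplicative.ofAdd x)) = χ 1) (g : S2 F) : χ g = χ 1 := by
  have hn := CfsgLib.CharBasic.charKer_normal hχ
  rw [← CfsgLib.CharBasic.mem_charKer hχ]
  have hgen := CfsgLib.SL2P.gen_model F g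
  refine (Subgroup.closure_le _).mpr ?_ hgen
  rintro y (⟨t, rfl⟩ | ⟨t, rfl⟩)
  · change _ ∈ CfsgLib.CharBasic.charKer hχ
    rw [CfsgLib.CharBasic.mem_charKer, ← h t]
    congr 1
  · change _ ∈ CfsgLib.CharBasic.charKer hχ
    have e : CfsgLib.SL2P.ym F t = (rS (some 0)) * upS (Multiplicative.ofAdd (-t)) * (rS (some 0))⁻¹ := by
      apply sl_ext
      have e1 : (((rS (some 0)) * upS (Multiplicative.ofAdd (-t)) * (rS (some 0))⁻¹ : S2 F) : M2 F) = !![0, -1; 1, 0] * !![1, -t; 0, 1] * !![0, 1; -1, 0] := by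
        rw [← upS_coe, ← rS_some, ← rS_inv_some]; rfl
      rw [e1]
      have e2 : ((CfsgLib.SL2P.ym F t : S2 F) : M2 F) = !![1, 0; t, 1] := CfsgLib.SL2P.mv_ym F t
      rw [e2]
      apply ext4 <;> simp only [mul_e00, mul_e01, mul_e10, mul_e11] <;> simp
    rw [e]
    exact hn.conj_mem _ ((CfsgLib.CharBasic.mem_charKer hχ).mpr (h (-t))) _

end CfsgLib.GL2a
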