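import Cfsg.Agent.Lib.GLc3
set_option autoImplicit false
set_option linter.style.haveILetI false
set_option linter.unusedSectionVars false

/-! Irreducible characters of `GL₂`: families. -/

namespace CfsgLib.GL2a
open Matrix Cfsg
open scoped ComplexConjugate

universe u

variable {F : Type u} [Field F] [Fintype F] [DecidableEq F]

omit [Fintype F] [DecidableEq F] in
theorem mcn {α : MulChar F ℂ} {a : F} (ha : a ≠ 0) : α a ≠ 0 := by
  intro h
  have h1 : α a * α a⁻¹ = 1 := by rw [← map_mul, mul_inv_cancel₀ ha, map_one]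
  rw [h, zero_mul] at h1
  exact zero_ne_one h1

noncomputable def thGhom (α β : MulChar F ℂ) : BG F →* ℂˣ :=
  MonoidHom.toHomUnits { toFun := thG α β, map_one' := by simp [thG], map_mul' := thG_mul α β }

noncomputable def thShom (α : MulChar F ℂ) : BS F →* ℂˣ :=
  MonoidHom.toHomUnits { toFun := thS α, map_one' := by
                          unfold thS
                          have : (((1 : BS F) : S2 F) : M2 F) = 1 := rfl
                          rw [this]; simp, map_mul' := thS_mul α }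

theorem isChar_RG (α β : MulChar F ℂ) : IsCharacter (G2 F) (fun g : G2 F => Rf α β (g : M2 F)) := by
  rw [← RG_eq]
  exact CfsgLib.CharInd.isCharacter_indFun _ (CfsgLib.CharBasic.isCharacter_linear (thGhom α β))

theorem isChar_RS (α : MulChar F ℂ) : IsCharacter (S2 F) (fun g : S2 F => Rf α 1 (g : M2 F)) := by
  rw [← RS_eq]
  exact CfsgLib.CharInd.isCharacter_indFun _ (CfsgLib.CharBasic.isCharacter_linear (thShom α))

theorem norm_RG (α β : MulChar F ℂ) [Decidable (α = β)] :
    classInner (fun g : G2 F => Rf α β (g : M2 F)) (fun g : G2 F => Rf α β (g : M2 F)) = 1 + if α = β then 1 else 0 := by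
  classical
  rw [mackey_GL]
  by_cases h : α = β
  · subst h; simp
  · simp [h]

theorem isIrr_RG {α β : MulChar F ℂ} (h : α ≠ β) : IsIrrCharacter (G2 F) (fun g : G2 F => Rf α β (g : M2 F)) := by
  classical
  refine CfsgLib.CharBasic.IsCharacter.isIrr_of_inner_eq_one (isChar_RG α β) ?_
  rw [norm_RG, if_neg h, add_zero]

theorem RG_comm (α β : MulChar F ℂ) : (fun g : G2 F => Rf α β (g : M2 F)) = (fun g : G2 F => Rf β α (g : M2 F)) := by
  classical
  have h : classInner ((fun g : G2 F => Rf α β (g : M2 F)) - (fun g : G2 F => Rf β α (g : M2 F))) ((fun g : G2 F => Rf α β (g : M2 F)) - (fun g : G2 F => Rf β α (g : M2 F))) = 0 := by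
    rw [CfsgLib.CharBasic.classInner_sub_left, CfsgLib.CharBasic.classInner_sub_right, CfsgLib.CharBasic.classInner_sub_right,
      mackey_GL, mackey_GL, mackey_GL, mackey_GL]
    by_cases h : α = β
    · subst h; simp
    · simp [h, Ne.symm h]
  exact sub_eq_zero.mp (CfsgLib.CharBasic.classInner_self_eq_zero.mp h)

theorem RG_eq_iff (α β α' β' : MulChar F ℂ) : (fun g : G2 F => Rf α β (g : M2 F)) = (fun g : G2 F => Rf α' β' (g : M2 F)) ↔ (α = α' ∧ β = β') ∨ (α = β' ∧ β = α') := by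
  classical
  constructor
  · intro h
    have h1 := mackey_GL α β α' β'
    rw [← h, norm_RG] at h1
    by_contra hne
    push Not at hne
    obtain ⟨e1, e2⟩ := hne
    have z1 : (if α = α' then (1 : ℂ) else 0) * (if β = β' then 1 else 0) = 0 := by
      by_cases h' : α = α'
      · rw [if_neg (e1 h'), mul_zero]
      · rw [if_neg h', zero_mul]
    have z2 : (if α = β' then (1 : ℂ) else 0) * (if β = α' then 1 else 0) = 0 := by
      by_cases h' : α = β'
      · rw [if_neg (e2 h'), mul_zero]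
      · rw [if_neg h', zero_mul]
    rw [z1, z2, add_zero] at h1
    split_ifs at h1
    · norm_num at h1
    · norm_num at h1
  · rintro (⟨rfl, rfl⟩ | ⟨rfl, rfl⟩)
    · rfl
    · exact RG_comm _ _

omit [DecidableEq F] in
theorem Rf_twist [DecidableEq F] (α β γ : MulChar F ℂ) (A : M2 F) : Rf (α * γ) (β * γ) A = γ A.det * Rf α β A := by
  unfold Rf
  rw [mul_add, Finset.mul_sum]
  congr 1
  · split_ifs with h
    · rw [MulChar.mul_apply, MulChar.mul_apply, det_e, h, mul_zero, sub_zero, map_mul]; ring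
    · rw [mul_zero]
  · refine Finset.sum_congr rfl fun x _ => ?_
    split_ifs with h
    · have : A.det = (A 1 0 * x + A 1 1) * (A 0 0 - A 1 0 * x) := by
        rw [det_e]; linear_combination A 1 0 * h
      rw [this, MulChar.mul_apply, MulChar.mul_apply, map_mul]; ring
    · rw [mul_zero]

/-- linear characters of `GL₂` -/
noncomputable def dhom (γ : MulChar F ℂ) : G2 F →* ℂˣ := (MulChar.toUnitHom γ).comp (Matrix.GeneralLinearGroup.det (n := Fin 2) (R := F))

omit [Fintype F] [DecidableEq F] in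
theorem dhom_apply (γ : MulChar F ℂ) (g : G2 F) : ((dhom γ g : ℂˣ) : ℂ) = γ (g : M2 F).det := by
  change ((MulChar.toUnitHom γ (Matrix.GeneralLinearGroup.det g) : ℂˣ) : ℂ) = _
  rw [MulChar.coe_toUnitHom]; rfl

noncomputable def Dc (γ : MulChar F ℂ) : IrrCharacter (G2 F) := ⟨fun g => (dhom γ g : ℂ), CfsgLib.CharBasic.isIrr_linear _⟩

theorem gen_St : IsIrrCharacter (G2 F) (fun g : G2 F => Rf 1 1 (g : M2 F) - 1) := by
  classical
  have h11 : classInner (fun g : G2 F => Rf 1 1 (g : M2 F)) (fun _ : G2 F => (1 : ℂ)) = 1 := by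
    rw [inner_RG 1 1 (by intro g h; rfl), card_BG]
    have : ∑ a : Fˣ, ∑ d : Fˣ, (1 : MulChar F ℂ) (a : F) * (1 : MulChar F ℂ) (d : F) * conj (∑ x : F, (1 : ℂ)) = ((Fintype.card F : ℂ) - 1) ^ 2 * (Fintype.card F : ℂ) := by
      have h1 : ∀ a : Fˣ, (1 : MulChar F ℂ) (a : F) = 1 := fun a => MulChar.one_apply (by simp)
      simp only [h1]
      simp [Fintype.card_units]
      have : 1 ≤ Fintype.card F := Fintype.card_pos
      push_cast [Nat.cast_sub this]; ring
    rw [this]
    have hq := cq0 (F := F)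
    have hq1 := cq1 (F := F)
    field_simp
  have hgen : IsGeneralizedCharacter (G2 F) ((fun g : G2 F => Rf 1 1 (g : M2 F)) - (fun _ : G2 F => (1 : ℂ))) :=
    CfsgLib.CharBasic.IsGeneralizedCharacter.sub (CfsgLib.CharBasic.IsCharacter.isGeneralized (isChar_RG 1 1))
      (CfsgLib.CharBasic.IsCharacter.isGeneralized CfsgLib.CharBasic.isCharacter_one)
  refine CfsgLib.CharBasic.IsGeneralizedCharacter.irr_of_pos hgen ?_ ?_
  · change classInner ((fun g : G2 F => Rf 1 1 (g : M2 F)) - (fun _ : G2 F => (1 : ℂ))) ((fun g : G2 F => Rf 1 1 (g : M2 F)) - (fun _ : G2 F => (1 : ℂ))) = 1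
    rw [CfsgLib.CharBasic.classInner_sub_left, CfsgLib.CharBasic.classInner_sub_right, CfsgLib.CharBasic.classInner_sub_right, norm_RG, h11]
    have h1 : classInner (fun _ : G2 F => (1 : ℂ)) (fun g : G2 F => Rf 1 1 (g : M2 F)) = 1 := by
      rw [← CfsgLib.CharBasic.classInner_conj_symm, h11, map_one]
    have h2 : classInner (fun _ : G2 F => (1 : ℂ)) (fun _ : G2 F => (1 : ℂ)) = 1 := CfsgLib.CharBasic.IsIrrCharacter.inner_self CfsgLib.CharBasic.isIrr_one'
    rw [h1, h2]; simp
  · have : ((fun g : G2 F => Rf 1 1 (g : M2 F)) - (fun _ : G2 F => (1 : ℂ))) 1 = (Fintype.card F : ℂ) := by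
      rw [Pi.sub_apply]
      have : ((1 : G2 F) : M2 F) = (1 : F) • (1 : M2 F) := by simp
      simp only [this]
      rw [Rf_scalar]; simp
    change 0 < (((fun g : G2 F => Rf 1 1 (g : M2 F)) - (fun _ : G2 F => (1 : ℂ))) 1).re
    rw [this]
    have : 0 < Fintype.card F := Fintype.card_pos
    rw [Complex.natCast_re]; exact_mod_cast this

noncomputable def Sc (γ : MulChar F ℂ) : IrrCharacter (G2 F) :=
  ⟨fun g => (dhom γ g : ℂ) * (Rf 1 1 (g : M2 F) - 1), CfsgLib.CharBasic.IsCharacter.mul_linear_isIrr gen_St _⟩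

noncomputable def Pc (p : {p : MulChar F ℂ × MulChar F ℂ // p.1 ≠ p.2}) : IrrCharacter (G2 F) := ⟨_, isIrr_RG p.2⟩

theorem Dc_apply (γ : MulChar F ℂ) (g : G2 F) : (Dc γ : G2 F → ℂ) g = γ (g : M2 F).det := dhom_apply γ g
theorem Sc_apply (γ : MulChar F ℂ) (g : G2 F) : (Sc γ : G2 F → ℂ) g = γ (g : M2 F).det * (Rf 1 1 (g : M2 F) - 1) := by
  change (dhom γ g : ℂ) * (Rf 1 1 (g : M2 F) - 1) = _
  rw [dhom_apply]
theorem Pc_apply (p : {p : MulChar F ℂ × MulChar F ℂ // p.1 ≠ p.2}) (g : G2 F) : (Pc p : G2 F → ℂ) g = Rf p.1.1 p.1.2 (g : M2 F) := rfl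

/-- the distinguished unipotent element -/
def uG : G2 F := upG (Multiplicative.ofAdd 1)

omit [Fintype F] [DecidableEq F] in
theorem uG_coe : ((uG : G2 F) : M2 F) = !![1, 1; 0, 1] := rfl

theorem Rf_one (α β : MulChar F ℂ) : Rf α β ((1 : G2 F) : M2 F) = (Fintype.card F : ℂ) + 1 := by
  have : ((1 : G2 F) : M2 F) = (1 : F) • (1 : M2 F) := by simp
  rw [this, Rf_scalar]; simp

theorem Rf_u (α β : MulChar F ℂ) : Rf α β ((uG : G2 F) : M2 F) = 1 := by
  rw [uG_coe, Rf_par] <;> simp

theorem Dc_one (γ : MulChar F ℂ) : (Dc γ : G2 F → ℂ) 1 = 1 := by rw [Dc_apply]; simp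
theorem Dc_u (γ : MulChar F ℂ) : (Dc γ : G2 F → ℂ) uG = 1 := by rw [Dc_apply, uG_coe, det_e]; simp
theorem Sc_one (γ : MulChar F ℂ) : (Sc γ : G2 F → ℂ) 1 = (Fintype.card F : ℂ) := by rw [Sc_apply, Rf_one]; simp
theorem Sc_u (γ : MulChar F ℂ) : (Sc γ : G2 F → ℂ) uG = 0 := by rw [Sc_apply, Rf_u]; simp
theorem Pc_one (p : {p : MulChar F ℂ × MulChar F ℂ // p.1 ≠ p.2}) : (Pc p : G2 F → ℂ) 1 = (Fintype.card F : ℂ) + 1 := by rw [Pc_apply, Rf_one]
theorem Pc_u (p : {p : MulChar F ℂ × MulChar F ℂ // p.1 ≠ p.2}) : (Pc p : G2 F → ℂ) uG = 1 := by rw [Pc_apply, Rf_u]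

/-- diagonal elements -/
def dg (a b : Fˣ) : G2 F := Matrix.GeneralLinearGroup.mkOfDetNeZero !![(a : F), 0; 0, (b : F)] (by rw [det_e]; simp)
omit [Fintype F] [DecidableEq F] in
theorem dg_coe (a b : Fˣ) : ((dg a b : G2 F) : M2 F) = !![(a : F), 0; 0, (b : F)] := rfl

theorem Dc_inj : Function.Injective (Dc : MulChar F ℂ → IrrCharacter (G2 F)) := by
  intro γ γ' h
  apply MulChar.ext
  intro a
  have := congrFun (congrArg Subtype.val h) (dg a 1)
  rw [Dc_apply, Dc_apply, dg_coe, det_e] at this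
  simpa using this

theorem Sc_inj : Function.Injective (Sc : MulChar F ℂ → IrrCharacter (G2 F)) := by
  intro γ γ' h
  apply MulChar.ext
  intro a
  by_cases ha : a = 1
  · subst ha; simp
  · have := congrFun (congrArg Subtype.val h) (dg a 1)
    rw [Sc_apply, Sc_apply, dg_coe, det_e, Rf_up] at this
    · simpa using this
    · simp
    · simp
      exact ha

end CfsgLib.GL2a
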