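import Cfsg.Agent.Lib.GLc4
set_option autoImplicit false
set_option linter.style.haveILetI false
set_option linter.unusedSectionVars false

/-! Irreducible characters of `GL₂`: classification. -/

namespace CfsgLib.GL2a
open Matrix Cfsg
open scoped ComplexConjugate

universe u

section sums
variable {F : Type*} [Field F] [Fintype F] [DecidableEq F]
variable {G : Type u} [Group G] [Finite G]

/-- orthogonality for integral combinations of two columns -/
theorem sum_comb (u : G) (hu : ¬ IsConj (1 : G) u) (x y : ℂ) (hx : conj x = x) (hy : conj y = y)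
    (hr : ∀ χ : IrrCharacter G, conj ((χ : G → ℂ) u) = (χ : G → ℂ) u) :
    ∑ χ : IrrCharacter G, (x * (χ : G → ℂ) 1 + y * (χ : G → ℂ) u) ^ 2 =
      x ^ 2 * (Nat.card G : ℂ) + y ^ 2 * (Nat.card (Subgroup.centralizer ({u} : Set G)) : ℂ) := by
  have h1r : ∀ χ : IrrCharacter G, conj ((χ : G → ℂ) 1) = (χ : G → ℂ) 1 := by
    intro χ
    obtain ⟨n, hn⟩ := CfsgLib.CharBasic.IsCharacter.exists_nat (CfsgLib.CharBasic.irr_isCharacter χ)
    rw [hn, map_natCast]
  have e1 := CfsgLib.CharBasic.sum_irr_one_sq G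
  have e2 : ∑ χ : IrrCharacter G, (χ : G → ℂ) 1 * (χ : G → ℂ) u = 0 := by
    have := CfsgLib.CharBasic.sum_irr_mul_conj_of_not_isConj hu
    simpa only [hr] using this
  have e3 : ∑ χ : IrrCharacter G, (χ : G → ℂ) u * (χ : G → ℂ) u = (Nat.card (Subgroup.centralizer ({u} : Set G)) : ℂ) := by
    have := CfsgLib.CharBasic.sum_irr_mul_conj_of_isConj (IsConj.refl u)
    simpa only [hr] using this
  calc ∑ χ : IrrCharacter G, (x * (χ : G → ℂ) 1 + y * (χ : G → ℂ) u) ^ 2
      = x ^ 2 * (∑ χ : IrrCharacter G, (χ : G → ℂ) 1 ^ 2) + 2 * x * y * (∑ χ : IrrCharacter G, (χ : G → ℂ) 1 * (χ : G → ℂ) u) +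
        y ^ 2 * (∑ χ : IrrCharacter G, (χ : G → ℂ) u * (χ : G → ℂ) u) := by
          rw [Finset.mul_sum, Finset.mul_sum, Finset.mul_sum, ← Finset.sum_add_distrib, ← Finset.sum_add_distrib]
          refine Finset.sum_congr rfl fun χ _ => ?_
          ring
    _ = _ := by rw [e1, e2, e3]; ring

variable (up : Multiplicative F →* G) (hup : ∀ x : F, x ≠ 0 → IsConj (up (Multiplicative.ofAdd x)) (up (Multiplicative.ofAdd 1)))

/-- multiplicity of the trivial character of the root group -/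
noncomputable def m0 (χ : IrrCharacter G) : ℕ := Classical.choose (mult_one_class up hup (CfsgLib.CharBasic.irr_isCharacter χ))
/-- multiplicity of the other characters of the root group -/
noncomputable def mm (χ : IrrCharacter G) : ℕ := Classical.choose (Classical.choose_spec (mult_one_class up hup (CfsgLib.CharBasic.irr_isCharacter χ)))

theorem m_one (χ : IrrCharacter G) : (χ : G → ℂ) 1 = m0 up hup χ + ((Fintype.card F : ℂ) - 1) * mm up hup χ :=
  (Classical.choose_spec (Classical.choose_spec (mult_one_class up hup (CfsgLib.CharBasic.irr_isCharacter χ)))).1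
theorem m_u (χ : IrrCharacter G) : (χ : G → ℂ) (up (Multiplicative.ofAdd 1)) = (m0 up hup χ : ℂ) - mm up hup χ :=
  (Classical.choose_spec (Classical.choose_spec (mult_one_class up hup (CfsgLib.CharBasic.irr_isCharacter χ)))).2

theorem m_eq {χ : IrrCharacter G} {a b : ℕ} (h1 : (χ : G → ℂ) 1 = a + ((Fintype.card F : ℂ) - 1) * b)
    (hu : (χ : G → ℂ) (up (Multiplicative.ofAdd 1)) = (a : ℂ) - b) : m0 up hup χ = a ∧ mm up hup χ = b := by
  have e1 := m_one up hup χ
  have e2 := m_u up hup χ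
  rw [h1] at e1
  rw [hu] at e2
  have hq := cq0 (F := F)
  constructor
  · have : (Fintype.card F : ℂ) * m0 up hup χ = (Fintype.card F : ℂ) * a := by
      linear_combination -e1 - ((Fintype.card F : ℂ) - 1) * e2
    exact_mod_cast mul_left_cancel₀ hq this
  · have : (Fintype.card F : ℂ) * mm up hup χ = (Fintype.card F : ℂ) * b := by
      linear_combination -e1 + e2
    exact_mod_cast mul_left_cancel₀ hq this

theorem sum_m (hu : ¬ IsConj (1 : G) (up (Multiplicative.ofAdd 1))) {g c : ℕ} (hg : Nat.card G = g)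
    (hc : Nat.card (Subgroup.centralizer ({up (Multiplicative.ofAdd 1)} : Set G)) = c) :
    (Fintype.card F : ℂ) ^ 2 * ((∑ χ : IrrCharacter G, m0 up hup χ * m0 up hup χ : ℕ) : ℂ) = g + ((Fintype.card F : ℂ) - 1) ^ 2 * c ∧
    (Fintype.card F : ℂ) ^ 2 * ((∑ χ : IrrCharacter G, mm up hup χ * mm up hup χ : ℕ) : ℂ) = g + c := by
  have hr : ∀ χ : IrrCharacter G, conj ((χ : G → ℂ) (up (Multiplicative.ofAdd 1))) = (χ : G → ℂ) (up (Multiplicative.ofAdd 1)) := by
    intro χ
    rw [m_u up hup χ, map_sub, map_natCast, map_natCast]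
  have hq := cq0 (F := F)
  constructor
  · have := sum_comb (up (Multiplicative.ofAdd 1)) hu 1 ((Fintype.card F : ℂ) - 1) (map_one _) (by simp) hr
    rw [hg, hc] at this
    rw [one_pow, one_mul] at this
    rw [← this]
    push_cast
    rw [Finset.mul_sum]
    refine Finset.sum_congr rfl fun χ _ => ?_
    rw [m_one up hup χ, m_u up hup χ]
    ring
  · have := sum_comb (up (Multiplicative.ofAdd 1)) hu 1 (-1) (map_one _) (by simp) hr
    rw [hg, hc] at this
    have e : (1 : ℂ) ^ 2 * g + (-1) ^ 2 * c = g + c := by ring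
    rw [e] at this
    rw [← this]
    push_cast
    rw [Finset.mul_sum]
    refine Finset.sum_congr rfl fun χ _ => ?_
    rw [m_one up hup χ, m_u up hup χ]
    ring
end sums

variable {F : Type u} [Field F] [Fintype F] [DecidableEq F]

noncomputable abbrev g0 (χ : IrrCharacter (G2 F)) : ℕ := m0 upG upG_conj χ
noncomputable abbrev g1 (χ : IrrCharacter (G2 F)) : ℕ := mm upG upG_conj χ

theorem g_one (χ : IrrCharacter (G2 F)) : (χ : G2 F → ℂ) 1 = g0 χ + ((Fintype.card F : ℂ) - 1) * g1 χ := m_one upG upG_conj χ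
theorem g_u (χ : IrrCharacter (G2 F)) : (χ : G2 F → ℂ) uG = (g0 χ : ℂ) - g1 χ := m_u upG upG_conj χ

theorem g_D (γ : MulChar F ℂ) : g0 (Dc γ) = 1 ∧ g1 (Dc γ) = 0 := by
  refine m_eq upG upG_conj ?_ ?_
  · rw [Dc_one]; simp
  · refine (Dc_u γ).trans ?_; simp
theorem g_S (γ : MulChar F ℂ) : g0 (Sc γ) = 1 ∧ g1 (Sc γ) = 1 := by
  refine m_eq upG upG_conj ?_ ?_
  · rw [Sc_one]; simp
  · refine (Sc_u γ).trans ?_; simp
theorem g_P (p : {p : MulChar F ℂ × MulChar F ℂ // p.1 ≠ p.2}) : g0 (Pc p) = 2 ∧ g1 (Pc p) = 1 := by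
  refine m_eq upG upG_conj ?_ ?_
  · rw [Pc_one]; push_cast; ring
  · refine (Pc_u p).trans ?_; push_cast; norm_num

theorem card_G2 : (Nat.card (G2 F)) = Fintype.card F * (Fintype.card F - 1) ^ 2 * (Fintype.card F + 1) := CfsgLib.SL2.card_GL2

theorem cent_uG : Nat.card (Subgroup.centralizer ({uG} : Set (G2 F))) = Fintype.card F * (Fintype.card F - 1) := by
  rw [card_cent_GL]
  exact card_CG_par (by rw [uG_coe]; simp) (by rw [uG_coe]; simp) (by rw [uG_coe]; simp)

theorem uG_ne : ¬ IsConj (1 : G2 F) uG := by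
  intro h
  rw [isConj_one_right] at h
  have := congrFun (congrFun (congrArg (fun x : G2 F => (x : M2 F)) h) 0) 1
  rw [uG_coe] at this
  simp at this

theorem nq1 : 1 ≤ Fintype.card F := Fintype.card_pos

theorem sum_g : (∑ χ : IrrCharacter (G2 F), g0 χ * g0 χ) = 2 * (Fintype.card F - 1) ^ 2 ∧
    (∑ χ : IrrCharacter (G2 F), g1 χ * g1 χ) = Fintype.card F * (Fintype.card F - 1) := by
  have h := sum_m upG upG_conj (G := G2 F) uG_ne card_G2 cent_uG
  have hq := cq0 (F := F)
  obtain ⟨k, hk⟩ := Nat.exists_eq_add_of_le (nq1 (F := F))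
  have hk1 : Fintype.card F - 1 = k := by omega
  have hkc : (Fintype.card F : ℂ) = 1 + k := by rw [hk]; push_cast; ring
  rw [hk1] at h ⊢
  have hq' : (1 + (k : ℂ)) ≠ 0 := by rw [← hkc]; exact hq
  constructor
  · have h1 := h.1
    have : (Fintype.card F : ℂ) ^ 2 * ((∑ χ : IrrCharacter (G2 F), g0 χ * g0 χ : ℕ) : ℂ) = (Fintype.card F : ℂ) ^ 2 * ((2 * k ^ 2 : ℕ) : ℂ) := by
      rw [h1]; push_cast; rw [hkc]; ring
    exact_mod_cast mul_left_cancel₀ (pow_ne_zero 2 hq) this
  · have h1 := h.2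
    have : (Fintype.card F : ℂ) ^ 2 * ((∑ χ : IrrCharacter (G2 F), g1 χ * g1 χ : ℕ) : ℂ) = (Fintype.card F : ℂ) ^ 2 * ((Fintype.card F * k : ℕ) : ℂ) := by
      rw [h1]; push_cast; rw [hkc]; ring
    exact_mod_cast mul_left_cancel₀ (pow_ne_zero 2 hq) this

theorem card_irr_G2 : Fintype.card (IrrCharacter (G2 F)) = Fintype.card F ^ 2 - 1 := by
  rw [← Nat.card_eq_fintype_card, CfsgLib.CharBasic.card_irr, card_classes_GL]

theorem card_MC : Nat.card (MulChar F ℂ) = Fintype.card F - 1 := by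
  rw [MulChar.card_eq_card_units_of_hasEnoughRootsOfUnity F ℂ, Nat.card_eq_fintype_card, Fintype.card_units]

/-- the characters trivial on unipotents -/
theorem eq_D_of_g1 (χ : IrrCharacter (G2 F)) (h : g1 χ = 0) : ∃ γ : MulChar F ℂ, χ = Dc γ := by
  have hch := CfsgLib.CharBasic.irr_isCharacter χ
  have hu : (χ : G2 F → ℂ) uG = (χ : G2 F → ℂ) 1 := by rw [g_one, g_u, h]; simp
  have hSL : ∀ s : S2 F, (χ : G2 F → ℂ) (s : G2 F) = (χ : G2 F → ℂ) 1 := by
    intro s
    have h1 : IsCharacter (S2 F) ((χ : G2 F → ℂ) ∘ (Matrix.SpecialLinearGroup.toGL (n := Fin 2) (R := F))) :=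
      CfsgLib.CharBasic.IsCharacter.comp hch _
    have := ker_of_up h1 ?_ s
    · simpa using this
    · intro x
      by_cases hx : x = 0
      · subst hx
        have : (Multiplicative.ofAdd (0 : F)) = 1 := rfl
        rw [this, map_one]
      · have := CfsgLib.CharBasic.IsClassFunction.eq_of_isConj (CfsgLib.CharBasic.IsCharacter.isClassFunction hch) (upG_conj x hx)
        change (χ : G2 F → ℂ) (upG (Multiplicative.ofAdd x)) = (χ : G2 F → ℂ) (Matrix.SpecialLinearGroup.toGL 1)
        calc (χ : G2 F → ℂ) (upG (Multiplicative.ofAdd x)) = (χ : G2 F → ℂ) uG := this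
          _ = (χ : G2 F → ℂ) 1 := hu
          _ = _ := by rw [map_one (Matrix.SpecialLinearGroup.toGL (n := Fin 2) (R := F))]
  have hdeg : (χ : G2 F → ℂ) 1 = 1 := by
    rw [CfsgLib.CharBasic.degree_one_iff]
    intro n hn
    have hdet : Matrix.GeneralLinearGroup.det n = 1 := by
      have := Abelianization.commutator_subset_ker (Matrix.GeneralLinearGroup.det (n := Fin 2) (R := F)) hn
      exact this
    have : n = Matrix.SpecialLinearGroup.toGL (⟨(n : M2 F), by
      have := congrArg Units.val hdet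
      rwa [Matrix.GeneralLinearGroup.val_det_apply] at this⟩ : S2 F) := gl_ext rfl
    rw [this]; exact hSL _
  obtain ⟨lam, hlam⟩ := CfsgLib.CharBasic.IsCharacter.exists_linear hch hdeg
  let f : Fˣ →* ℂˣ := lam.comp
    { toFun := fun a => dg a 1
      map_one' := by apply gl_ext; rw [dg_coe]; apply ext4 <;> simp
      map_mul' := by
        intro a b; apply gl_ext; rw [Matrix.GeneralLinearGroup.coe_mul, dg_coe, dg_coe, dg_coe]
        apply ext4 <;> simp only [mul_e00, mul_e01, mul_e10, mul_e11] <;> simp }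
  refine ⟨MulChar.ofUnitHom f, ?_⟩
  apply Subtype.ext
  funext g
  rw [Dc_apply, hlam]
  obtain ⟨s, hg⟩ : ∃ s : S2 F, g = Matrix.SpecialLinearGroup.toGL s * dg (Matrix.GeneralLinearGroup.det g) 1 := by
    refine ⟨(⟨(g : M2 F) * !![((g : M2 F).det)⁻¹, 0; 0, 1], by
      have := gdet_ne g
      rw [Matrix.det_mul]
      have e : (!![((g : M2 F).det)⁻¹, 0; 0, 1] : M2 F).det = ((g : M2 F).det)⁻¹ := by rw [det_e]; simp
      rw [e, mul_inv_cancel₀ this]⟩ : S2 F), ?_⟩
    apply gl_ext
    rw [Matrix.GeneralLinearGroup.coe_mul, dg_coe, Matrix.GeneralLinearGroup.val_det_apply]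
    change (g : M2 F) = ((g : M2 F) * !![((g : M2 F).det)⁻¹, 0; 0, 1]) * !![(g : M2 F).det, 0; 0, 1]
    rw [mul_assoc]
    have : (!![((g : M2 F).det)⁻¹, 0; 0, 1] : M2 F) * !![(g : M2 F).det, 0; 0, 1] = 1 := by
      have := gdet_ne g
      apply ext4 <;> simp only [mul_e00, mul_e01, mul_e10, mul_e11] <;> simp [this]
    rw [this, mul_one]
  have e0 : ((lam g : ℂˣ) : ℂ) = ((lam (dg (Matrix.GeneralLinearGroup.det g) 1) : ℂˣ) : ℂ) := by
    conv_lhs => rw [hg]
    rw [map_mul, Units.val_mul, ← hlam (Matrix.SpecialLinearGroup.toGL s), hSL, hdeg, one_mul]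
  rw [e0]
  have : (g : M2 F).det = ((Matrix.GeneralLinearGroup.det g : Fˣ) : F) := (Matrix.GeneralLinearGroup.val_det_apply g).symm
  rw [this, MulChar.ofUnitHom_coe]
  rfl

theorem g1_le (χ : IrrCharacter (G2 F)) : g1 χ ≤ 1 := by
  classical
  haveI : Fintype (MulChar F ℂ) := Fintype.ofFinite _
  refine le_one_of_sum_sq (fun χ : IrrCharacter (G2 F) => g1 χ) ?_ χ
  rw [sum_g.2]
  have h1 : (Finset.univ.filter fun χ : IrrCharacter (G2 F) => g1 χ ≠ 0).card + (Finset.univ.filter fun χ : IrrCharacter (G2 F) => ¬ g1 χ ≠ 0).card = Fintype.card F ^ 2 - 1 := by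
    rw [Finset.card_filter_add_card_filter_not, Finset.card_univ, card_irr_G2]
  have h2 : (Finset.univ.filter fun χ : IrrCharacter (G2 F) => ¬ g1 χ ≠ 0) = (Finset.univ : Finset (MulChar F ℂ)).image Dc := by
    ext χ
    simp only [Finset.mem_filter, Finset.mem_univ, true_and, ne_eq, not_not, Finset.mem_image]
    constructor
    · intro h
      obtain ⟨γ, hγ⟩ := eq_D_of_g1 χ h
      exact ⟨γ, hγ.symm⟩
    · rintro ⟨γ, rfl⟩
      exact (g_D γ).2
  rw [h2, Finset.card_image_of_injective _ Dc_inj, Finset.card_univ, ← Nat.card_eq_fintype_card, card_MC] at h1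
  obtain ⟨k, hk⟩ := Nat.exists_eq_add_of_le (nq1 (F := F))
  have hk1 : Fintype.card F - 1 = k := by omega
  rw [hk1] at h1 ⊢
  rw [hk] at h1 ⊢
  have : (1 + k) ^ 2 = (1 + k) * k + k + 1 := by ring
  rw [this] at h1
  have h3 : (1 + k) * k + k + 1 - 1 = (1 + k) * k + k := by omega
  rw [h3] at h1
  omega

section classification
open Classical in
noncomputable def AD : Finset (IrrCharacter (G2 F)) := haveI : Fintype (MulChar F ℂ) := Fintype.ofFinite _; (Finset.univ : Finset (MulChar F ℂ)).image Dc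
open Classical in
noncomputable def AS : Finset (IrrCharacter (G2 F)) := haveI : Fintype (MulChar F ℂ) := Fintype.ofFinite _; (Finset.univ : Finset (MulChar F ℂ)).image Sc
open Classical in
noncomputable def AP : Finset (IrrCharacter (G2 F)) := haveI : Fintype (MulChar F ℂ) := Fintype.ofFinite _; (Finset.univ : Finset {p : MulChar F ℂ × MulChar F ℂ // p.1 ≠ p.2}).image Pc

theorem mem_AD (χ : IrrCharacter (G2 F)) : χ ∈ AD ↔ ∃ γ, χ = Dc γ := by
  unfold AD; simp [eq_comm]
theorem mem_AS (χ : IrrCharacter (G2 F)) : χ ∈ AS ↔ ∃ γ, χ = Sc γ := by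
  unfold AS; simp [eq_comm]
theorem mem_AP (χ : IrrCharacter (G2 F)) : χ ∈ AP ↔ ∃ p, χ = Pc p := by
  unfold AP; simp only [Finset.mem_image, Finset.mem_univ, true_and, eq_comm]

theorem card_AD : (AD (F := F)).card = Fintype.card F - 1 := by
  classical
  haveI : Fintype (MulChar F ℂ) := Fintype.ofFinite _
  have : (AD (F := F)) = (Finset.univ : Finset (MulChar F ℂ)).image Dc := by ext; rw [mem_AD]; simp [eq_comm]
  rw [this, Finset.card_image_of_injective _ Dc_inj, Finset.card_univ, ← Nat.card_eq_fintype_card, card_MC]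
theorem card_AS : (AS (F := F)).card = Fintype.card F - 1 := by
  classical
  haveI : Fintype (MulChar F ℂ) := Fintype.ofFinite _
  have : (AS (F := F)) = (Finset.univ : Finset (MulChar F ℂ)).image Sc := by ext; rw [mem_AS]; simp [eq_comm]
  rw [this, Finset.card_image_of_injective _ Sc_inj, Finset.card_univ, ← Nat.card_eq_fintype_card, card_MC]

theorem card_AP : 2 * (AP (F := F)).card = (Fintype.card F - 1) * (Fintype.card F - 2) := by
  classical
  haveI : Fintype (MulChar F ℂ) := Fintype.ofFinite _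
  have : (AP (F := F)) = (Finset.univ : Finset {p : MulChar F ℂ × MulChar F ℂ // p.1 ≠ p.2}).image Pc := by
    ext; rw [mem_AP]; simp only [Finset.mem_image, Finset.mem_univ, true_and, eq_comm]
  rw [this, card_image_two _ Pc (fun p => ⟨(p.1.2, p.1.1), p.2.symm⟩)]
  · rw [Finset.card_univ]
    have h1 : Fintype.card {p : MulChar F ℂ × MulChar F ℂ // p.1 ≠ p.2} = Fintype.card (MulChar F ℂ) * Fintype.card (MulChar F ℂ) - Fintype.card (MulChar F ℂ) := by
      rw [Fintype.card_subtype_compl, Fintype.card_prod]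
      congr 1
      exact Fintype.card_congr ⟨fun p => p.1.1, fun a => ⟨(a, a), rfl⟩, fun p => Subtype.ext (Prod.ext rfl p.2), fun a => rfl⟩
    have h2 : Fintype.card (MulChar F ℂ) = Fintype.card F - 1 := by rw [← Nat.card_eq_fintype_card, card_MC]
    rw [h1, h2]
    obtain ⟨k, hk⟩ := Nat.exists_eq_add_of_le (two_le_card (F := F))
    have e1 : Fintype.card F - 1 = k + 1 := by omega
    have e2 : Fintype.card F - 2 = k := by omega
    rw [e1, e2]
    have : (k + 1) * (k + 1) = (k + 1) * k + (k + 1) := by ring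
    omega
  · intro p _
    refine ⟨Finset.mem_univ _, ?_, ?_⟩
    · intro e
      exact p.2 (congrArg (fun x => x.1.2) e)
    · apply Subtype.ext
      exact RG_comm p.1.2 p.1.1
  · intro p _ r _ e
    have := (RG_eq_iff _ _ _ _).mp (congrArg Subtype.val e)
    rcases this with ⟨h1, h2⟩ | ⟨h1, h2⟩
    · left; exact Subtype.ext (Prod.ext h1.symm h2.symm)
    · right; exact Subtype.ext (Prod.ext h2.symm h1.symm)

theorem disj_DS : Disjoint (AD (F := F)) AS := by
  classical
  rw [Finset.disjoint_left]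
  intro χ h1 h2
  obtain ⟨γ, rfl⟩ := (mem_AD χ).mp h1
  obtain ⟨γ', h⟩ := (mem_AS _).mp h2
  have a := (g_D γ).2
  rw [h, (g_S γ').2] at a
  exact one_ne_zero a

theorem disj_DSP [DecidableEq (IrrCharacter (G2 F))] : Disjoint (AD (F := F) ∪ AS) AP := by
  rw [Finset.disjoint_left]
  intro χ h1 h2
  obtain ⟨p, rfl⟩ := (mem_AP χ).mp h2
  have a := (g_P p).1
  rcases Finset.mem_union.mp h1 with h | h
  · obtain ⟨γ, h⟩ := (mem_AD _).mp h
    rw [h, (g_D γ).1] at a; omega
  · obtain ⟨γ, h⟩ := (mem_AS _).mp h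
    rw [h, (g_S γ).1] at a; omega

/-- the remaining characters are cuspidal -/
theorem classify (χ : IrrCharacter (G2 F)) : χ ∈ AD ∨ χ ∈ AS ∨ χ ∈ AP ∨ (g0 χ = 0 ∧ g1 χ = 1) := by
  classical
  by_cases h1 : χ ∈ AD
  · exact Or.inl h1
  by_cases h2 : χ ∈ AS
  · exact Or.inr (Or.inl h2)
  by_cases h3 : χ ∈ AP
  · exact Or.inr (Or.inr (Or.inl h3))
  right; right; right
  constructor
  · have := rest_zero (AD ∪ AS ∪ AP) (fun χ : IrrCharacter (G2 F) => g0 χ * g0 χ) ?_ χ (by simp [h1, h2, h3])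
    · exact mul_self_eq_zero.mp this
    · rw [sum_g.1, Finset.sum_union disj_DSP, Finset.sum_union disj_DS]
      rw [Finset.sum_congr rfl (g := fun _ => 1) (fun χ hχ => by
        obtain ⟨γ, rfl⟩ := (mem_AD _).mp hχ; rw [(g_D γ).1]), Finset.sum_congr (s₁ := AS) rfl (g := fun _ => 1) (fun χ hχ => by
        obtain ⟨γ, rfl⟩ := (mem_AS _).mp hχ; rw [(g_S γ).1]), Finset.sum_congr (s₁ := AP) rfl (g := fun _ => 4) (fun χ hχ => by
        obtain ⟨γ, rfl⟩ := (mem_AP _).mp hχ; rw [(g_P γ).1])]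
      simp only [Finset.sum_const, card_AD, card_AS, smul_eq_mul]
      have := card_AP (F := F)
      obtain ⟨k, hk⟩ := Nat.exists_eq_add_of_le (two_le_card (F := F))
      have e1 : Fintype.card F - 1 = k + 1 := by omega
      have e2 : Fintype.card F - 2 = k := by omega
      rw [e1, e2] at this
      rw [e1]
      have e3 : 2 * (k + 1) ^ 2 = 2 * ((k + 1) * k) + 2 * (k + 1) := by ring
      omega
  · have hle := g1_le χ
    have : g1 χ ≠ 0 := fun h => h1 ((mem_AD χ).mpr (eq_D_of_g1 χ h))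
    omega

/-- the cuspidal characters -/
def Cusp (χ : IrrCharacter (G2 F)) : Prop := g0 χ = 0 ∧ g1 χ = 1

theorem card_cusp : 2 * Nat.card {χ : IrrCharacter (G2 F) // g0 χ = 0 ∧ g1 χ = 1} = Fintype.card F * (Fintype.card F - 1) := by
  classical
  have h1 : (Finset.univ.filter fun χ : IrrCharacter (G2 F) => g0 χ = 0 ∧ g1 χ = 1) = (AD ∪ AS ∪ AP)ᶜ := by
    ext χ
    simp only [Finset.mem_filter, Finset.mem_univ, true_and, Finset.mem_compl, Finset.mem_union, not_or]
    constructor
    · rintro ⟨a, b⟩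
      refine ⟨⟨fun h => ?_, fun h => ?_⟩, fun h => ?_⟩
      · obtain ⟨γ, rfl⟩ := (mem_AD _).mp h
        rw [(g_D γ).1] at a; omega
      · obtain ⟨γ, rfl⟩ := (mem_AS _).mp h
        rw [(g_S γ).1] at a; omega
      · obtain ⟨γ, rfl⟩ := (mem_AP _).mp h
        rw [(g_P γ).1] at a; omega
    · rintro ⟨⟨h1, h2⟩, h3⟩
      rcases classify χ with h | h | h | h
      · exact absurd h h1
      · exact absurd h h2
      · exact absurd h h3
      · exact h
  rw [Nat.card_eq_fintype_card, Fintype.card_subtype, h1, Finset.card_compl, Finset.card_union_of_disjoint disj_DSP, Finset.card_union_of_disjoint disj_DS,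
    card_irr_G2, card_AD, card_AS]
  have := card_AP (F := F)
  obtain ⟨k, hk⟩ := Nat.exists_eq_add_of_le (two_le_card (F := F))
  have e1 : Fintype.card F - 1 = k + 1 := by omega
  have e2 : Fintype.card F - 2 = k := by omega
  rw [e1, e2] at this
  rw [e1, hk]
  have e3 : (2 + k) ^ 2 = (2 + k) * (k + 1) + (k + 1) + 1 := by ring
  have e4 : (2 + k) * (k + 1) = (k + 1) * k + 2 * (k + 1) := by ring
  omega
end classification

end CfsgLib.GL2a
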