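import Cfsg.Agent.Lib.GLc5
set_option autoImplicit false
set_option linter.style.haveILetI false
set_option linter.unusedSectionVars false

/-! Irreducible characters of `GL₂`: values. -/

namespace CfsgLib.GL2a
open Matrix Cfsg
open scoped ComplexConjugate

universe u

section avg
variable {G : Type u} [Group G] {ι : Type*} [Group ι] [Fintype ι]

/-- if the trivial character of a subgroup does not occur, the sums over cosets vanish -/
theorem coset_sum_zero {χ : G → ℂ} (hχ : IsCharacter G χ) (up : ι →* G) (h : ∑ x : ι, χ (up x) = 0) (g : G) :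
    ∑ x : ι, χ (g * up x) = 0 := by
  obtain ⟨n, ρ, rfl⟩ := hχ
  set e : Module.End ℂ (Fin n → ℂ) := ∑ x : ι, ρ (up x) with he
  have hmul : ∀ y : ι, ρ (up y) * e = e := by
    intro y
    rw [he, Finset.mul_sum]
    rw [← Equiv.sum_comp (Equiv.mulLeft y) (fun x => ρ (up x))]
    refine Finset.sum_congr rfl fun x _ => ?_
    rw [Equiv.coe_mulLeft, map_mul up, map_mul ρ]
  have hee : e * e = (Fintype.card ι : ℂ) • e := by
    have h1 : e * e = ∑ x : ι, ρ (up x) * e := by rw [← Finset.sum_mul, ← he]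
    rw [h1, Finset.sum_congr rfl (g := fun _ => e) (fun x _ => hmul x), Finset.sum_const, Finset.card_univ, ← Nat.cast_smul_eq_nsmul ℂ]
  have hq : (Fintype.card ι : ℂ) ≠ 0 := Nat.cast_ne_zero.mpr Fintype.card_ne_zero
  have hidem : IsIdempotentElem ((Fintype.card ι : ℂ)⁻¹ • e) := by
    unfold IsIdempotentElem
    rw [smul_mul_smul_comm, hee, smul_smul]
    congr 1
    field_simp
  have htr : LinearMap.trace ℂ (Fin n → ℂ) ((Fintype.card ι : ℂ)⁻¹ • e) = 0 := by
    rw [map_smul, he, map_sum]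
    change (Fintype.card ι : ℂ)⁻¹ • ∑ x : ι, ρ.character (up x) = 0
    rw [h, smul_zero]
  have h0 := LinearMap.IsIdempotentElem.eq_zero_of_trace_eq_zero hidem htr
  have he0 : e = 0 := by
    rcases smul_eq_zero.mp h0 with h | h
    · exact absurd h (inv_ne_zero hq)
    · exact h
  calc ∑ x : ι, ρ.character (g * up x) = LinearMap.trace ℂ (Fin n → ℂ) (ρ g * e) := by
        rw [he, Finset.mul_sum, map_sum]
        refine Finset.sum_congr rfl fun x _ => ?_
        change LinearMap.trace ℂ _ (ρ (g * up x)) = _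
        rw [map_mul]
    _ = 0 := by rw [he0, mul_zero, map_zero]
end avg

section fixed
variable {G : Type*} [Group G]

theorem fixedPt_reps (H : Subgroup G) {ι : Type*} [Fintype ι] (r : ι → G)
    (hr : ∀ g : G, ∃ i, (r i)⁻¹ * g ∈ H) (hr' : ∀ i j, (r i)⁻¹ * r j ∈ H → i = j) (g : G) [DecidablePred fun i => (r i)⁻¹ * g * r i ∈ H] :
    fixedPointCharacter H g = ∑ i, if (r i)⁻¹ * g * r i ∈ H then 1 else 0 := by
  classical
  unfold fixedPointCharacter
  have e : {i : ι // (r i)⁻¹ * g * r i ∈ H} ≃ MulAction.fixedBy (G ⧸ H) g := by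
    refine Equiv.ofBijective (fun i => ⟨((r i.1 : G) : G ⧸ H), ?_⟩) ⟨?_, ?_⟩
    · rw [MulAction.mem_fixedBy]
      change ((g * r i.1 : G) : G ⧸ H) = _
      rw [eq_comm, QuotientGroup.eq, ← mul_assoc]; exact i.2
    · rintro ⟨i, hi⟩ ⟨j, hj⟩ h
      have h' := congrArg Subtype.val h
      simp only at h'
      rw [QuotientGroup.eq] at h'
      exact Subtype.ext (hr' i j h')
    · rintro ⟨x, hx⟩
      induction x using QuotientGroup.induction_on with
      | H y =>
        obtain ⟨i, hi⟩ := hr y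
        have hy : ((r i : G) : G ⧸ H) = (y : G ⧸ H) := QuotientGroup.eq.mpr hi
        refine ⟨⟨i, ?_⟩, Subtype.ext hy⟩
        rw [MulAction.mem_fixedBy, ← hy] at hx
        change ((g * r i : G) : G ⧸ H) = _ at hx
        rw [eq_comm, QuotientGroup.eq, ← mul_assoc] at hx
        exact hx
  rw [← Nat.card_congr e, Nat.card_eq_fintype_card, Fintype.card_subtype, Finset.sum_boole]
end fixed

variable {F : Type u} [Field F] [Fintype F] [DecidableEq F]

theorem fixed_GL (g : G2 F) : fixedPointCharacter (Cfsg.upperTriangularGL 2 F) g = Rf 1 1 (g : M2 F) := by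
  classical
  rw [fixedPt_reps _ rG reps_GL reps_GL_inj, ← RG_apply, indFun_reps _ rG reps_GL reps_GL_inj (thG_class 1 1)]
  refine Finset.sum_congr rfl fun i _ => ?_
  split_ifs with h
  · rw [CfsgLib.CharInd.ext_of_mem h]
    unfold thG
    have hd := gdet_ne ((rG i)⁻¹ * g * rG i)
    have h10 := (mem_upGL _).mp h
    rw [det_e, h10, mul_zero, sub_zero] at hd
    have h1 : ∀ x : F, x ≠ 0 → (1 : MulChar F ℂ) x = 1 := fun x hx => MulChar.one_apply (isUnit_iff_ne_zero.mpr hx)
    rw [h1 _ (left_ne_zero_of_mul hd), h1 _ (right_ne_zero_of_mul hd), mul_one]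
  · rw [CfsgLib.CharInd.ext_of_not_mem h]

theorem cusp_one {χ : IrrCharacter (G2 F)} (h : g0 χ = 0 ∧ g1 χ = 1) : (χ : G2 F → ℂ) 1 = (Fintype.card F : ℂ) - 1 := by
  rw [g_one, h.1, h.2]; simp
theorem cusp_u {χ : IrrCharacter (G2 F)} (h : g0 χ = 0 ∧ g1 χ = 1) : (χ : G2 F → ℂ) uG = -1 := by
  rw [g_u, h.1, h.2]; simp

/-- cuspidal characters vanish on split semisimple elements -/
theorem cusp_diag {χ : IrrCharacter (G2 F)} (h : g0 χ = 0 ∧ g1 χ = 1) (g : G2 F) (h01 : (g : M2 F) 0 1 = 0) (h10 : (g : M2 F) 1 0 = 0)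
    (hne : (g : M2 F) 0 0 ≠ (g : M2 F) 1 1) : (χ : G2 F → ℂ) g = 0 := by
  have hch := CfsgLib.CharBasic.irr_isCharacter χ
  have hcl := CfsgLib.CharBasic.IsCharacter.isClassFunction hch
  have hs : ∑ x : Multiplicative F, (χ : G2 F → ℂ) (upG x) = 0 := by
    rw [Fintype.sum_eq_add_sum_compl 1]
    have : ∑ x ∈ ({1} : Finset (Multiplicative F))ᶜ, (χ : G2 F → ℂ) (upG x) = ∑ x ∈ ({1} : Finset (Multiplicative F))ᶜ, (-1 : ℂ) := by
      refine Finset.sum_congr rfl fun x hx => ?_
      have hx' : Multiplicative.toAdd x ≠ (0 : F) := by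
        intro e
        have : x = 1 := e
        simp [this] at hx
      have := CfsgLib.CharBasic.IsClassFunction.eq_of_isConj hcl (upG_conj (Multiplicative.toAdd x) hx')
      rw [← cusp_u h]; exact this
    rw [this, Finset.sum_const, Finset.card_compl, Finset.card_singleton, map_one, cusp_one h]
    have hc : Fintype.card (Multiplicative F) = Fintype.card F := Fintype.card_congr Multiplicative.toAdd
    rw [hc, nsmul_eq_mul]
    push_cast [Nat.cast_sub (nq1 (F := F))]; ring
  have := coset_sum_zero hch upG hs g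
  have hval : ∀ x : Multiplicative F, (χ : G2 F → ℂ) (g * upG x) = (χ : G2 F → ℂ) g := by
    intro x
    apply CfsgLib.CharBasic.IsClassFunction.eq_of_isConj hcl
    have hx : ((g * upG x : G2 F) : M2 F) = (g : M2 F) * !![1, Multiplicative.toAdd x; 0, 1] := rfl
    apply gl_isConj
    · rintro ⟨-, -, e⟩
      apply hne
      rw [hx, mul_e00, mul_e11] at e
      simpa [h01, h10] using e
    · exact not_isScal_of_diag hne
    · rw [hx, tr_eq, tr_eq, mul_e00, mul_e11]; simp [h10]
    · rw [hx, Matrix.det_mul]; rw [det_e !![1, Multiplicative.toAdd x; 0, 1]]; simp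
  simp only [hval] at this
  rw [Finset.sum_const, Finset.card_univ, nsmul_eq_mul] at this
  rcases mul_eq_zero.mp this with h | h
  · exact absurd h (Nat.cast_ne_zero.mpr Fintype.card_ne_zero)
  · exact h

/-- case distinction by values -/
theorem irr_cases (χ : IrrCharacter (G2 F)) :
    (∃ γ, χ = Dc γ) ∨ (∃ γ, χ = Sc γ) ∨ (∃ p, χ = Pc p) ∨ (g0 χ = 0 ∧ g1 χ = 1) := by
  rcases classify χ with h | h | h | h
  · exact Or.inl ((mem_AD χ).mp h)
  · exact Or.inr (Or.inl ((mem_AS χ).mp h))
  · exact Or.inr (Or.inr (Or.inl ((mem_AP χ).mp h)))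
  · exact Or.inr (Or.inr (Or.inr h))

end CfsgLib.GL2a
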