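import Cfsg.Agent.Lib.GLc6
set_option autoImplicit false
set_option linter.style.haveILetI false
set_option linter.unusedSectionVars false

/-! Irreducible characters of `GL₂`: degrees. -/

namespace CfsgLib.GL2a
open Matrix Cfsg
open scoped ComplexConjugate

universe u

variable {F : Type u} [Field F] [Fintype F] [DecidableEq F]

theorem cq_ne_one : (Fintype.card F : ℂ) ≠ 1 := fun h => cq1 (F := F) (by rw [h, sub_self])
theorem cq_ne_two (h3 : 3 ≤ Fintype.card F) : (Fintype.card F : ℂ) ≠ 2 := by
  intro h
  have : (Fintype.card F : ℂ) = (2 : ℕ) := by rw [h]; norm_num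
  have := Nat.cast_injective this
  omega

theorem D_deg {χ : IrrCharacter (G2 F)} : χ ∈ AD → (χ : G2 F → ℂ) 1 = 1 := by
  rw [mem_AD]; rintro ⟨γ, rfl⟩; exact Dc_one γ
theorem S_deg {χ : IrrCharacter (G2 F)} : χ ∈ AS → (χ : G2 F → ℂ) 1 = Fintype.card F := by
  rw [mem_AS]; rintro ⟨γ, rfl⟩; exact Sc_one γ
theorem P_deg {χ : IrrCharacter (G2 F)} : χ ∈ AP → (χ : G2 F → ℂ) 1 = Fintype.card F + 1 := by
  rw [mem_AP]; rintro ⟨γ, rfl⟩; exact Pc_one γ

theorem deg_q {χ : IrrCharacter (G2 F)} : (χ : G2 F → ℂ) 1 = Fintype.card F ↔ χ ∈ AS := by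
  constructor
  · intro hd
    rcases classify χ with h | h | h | h
    · have := D_deg h; rw [hd] at this; exact absurd this cq_ne_one
    · exact h
    · have := P_deg h; rw [hd] at this; exact absurd (by linear_combination -this : (1 : ℂ) = 0) one_ne_zero
    · have := cusp_one h; rw [hd] at this; exact absurd (by linear_combination this : (1 : ℂ) = 0) one_ne_zero
  · exact S_deg

theorem deg_q1 {χ : IrrCharacter (G2 F)} : (χ : G2 F → ℂ) 1 = Fintype.card F + 1 ↔ χ ∈ AP := by
  constructor
  · intro hd
    rcases classify χ with h | h | h | h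
    · have := D_deg h; rw [hd] at this; exact absurd (by linear_combination this) (cq0 (F := F))
    · have := S_deg h; rw [hd] at this; exact absurd (by linear_combination this : (1 : ℂ) = 0) one_ne_zero
    · exact h
    · have := cusp_one h; rw [hd] at this
      exfalso
      have : (2 : ℂ) = 0 := by linear_combination this
      norm_num at this
  · exact P_deg

theorem deg_1 (h3 : 3 ≤ Fintype.card F) {χ : IrrCharacter (G2 F)} : (χ : G2 F → ℂ) 1 = 1 ↔ χ ∈ AD := by
  constructor
  · intro hd
    rcases classify χ with h | h | h | h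
    · exact h
    · have := S_deg h; rw [hd] at this; exact absurd this.symm cq_ne_one
    · have := P_deg h; rw [hd] at this; exact absurd (by linear_combination -this) (cq0 (F := F))
    · have := cusp_one h; rw [hd] at this; exact absurd (by linear_combination -this) (cq_ne_two h3)
  · exact D_deg

theorem deg_qm (h3 : 3 ≤ Fintype.card F) {χ : IrrCharacter (G2 F)} : (χ : G2 F → ℂ) 1 = Fintype.card F - 1 ↔ (g0 χ = 0 ∧ g1 χ = 1) := by
  constructor
  · intro hd
    rcases classify χ with h | h | h | h
    · have := D_deg h; rw [hd] at this; exact absurd (by linear_combination this) (cq_ne_two h3)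
    · have := S_deg h; rw [hd] at this; exact absurd (by linear_combination -this : (1 : ℂ) = 0) one_ne_zero
    · have := P_deg h; rw [hd] at this
      exfalso
      have : (2 : ℂ) = 0 := by linear_combination -this
      norm_num at this
    · exact h
  · exact cusp_one

theorem u_eq (u : G2 F) (hu : (u : M2 F) = !![1, 1; 0, 1]) : u = uG := gl_ext (hu.trans uG_coe.symm)

end CfsgLib.GL2a
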