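import Cfsg.Agent.Lib.GLc7
set_option autoImplicit false
set_option linter.style.haveILetI false
set_option linter.unusedSectionVars false

/-! Irreducible characters of `SL₂`: families and the even case. -/

namespace CfsgLib.GL2a
open Matrix Cfsg
open scoped ComplexConjugate

universe u

variable {F : Type u} [Field F] [Fintype F] [DecidableEq F]

/-- the distinguished unipotent element -/
def uS : S2 F := upS (Multiplicative.ofAdd 1)

omit [Fintype F] [DecidableEq F] in
theorem uS_coe : ((uS : S2 F) : M2 F) = !![1, 1; 0, 1] := rfl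

theorem RfS_one (α β : MulChar F ℂ) : Rf α β ((1 : S2 F) : M2 F) = (Fintype.card F : ℂ) + 1 := by
  have : ((1 : S2 F) : M2 F) = (1 : F) • (1 : M2 F) := by rw [one_smul]; rfl
  rw [this, Rf_scalar]; simp

theorem RfS_up (α β : MulChar F ℂ) {x : F} (hx : x ≠ 0) : Rf α β ((upS (Multiplicative.ofAdd x) : S2 F) : M2 F) = 1 := by
  rw [upS_coe, Rf_par] <;> simp [hx]

theorem RfS_u (α β : MulChar F ℂ) : Rf α β ((uS : S2 F) : M2 F) = 1 := RfS_up α β one_ne_zero

/-- Frobenius reciprocity with the trivial character -/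
theorem inner_RS_one (α : MulChar F ℂ) [Decidable (α = 1)] : classInner (fun g : S2 F => Rf α 1 (g : M2 F)) (fun _ : S2 F => (1 : ℂ)) = if α = 1 then 1 else 0 := by
  rw [inner_RS α (by intro g h; rfl), card_BS]
  have h1 : ∑ a : Fˣ, α (a : F) * conj (∑ x : F, (1 : ℂ)) = (Fintype.card F : ℂ) * ∑ a : F, α a * conj ((1 : MulChar F ℂ) a) := by
    rw [← sum_un (fun a : F => α a * conj ((1 : MulChar F ℂ) a)) (by simp [mc0]), Finset.mul_sum]
    refine Finset.sum_congr rfl fun a _ => ?_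
    rw [MulChar.one_apply (by simp : IsUnit (a : F))]
    simp; ring
  rw [h1, char_sum]
  have hq := cq0 (F := F)
  have hq1 := cq1 (F := F)
  split_ifs
  · field_simp
  · simp

theorem gen_StS : IsIrrCharacter (S2 F) (fun g : S2 F => Rf 1 1 (g : M2 F) - 1) := by
  classical
  have h11 := inner_RS_one (1 : MulChar F ℂ)
  rw [if_pos rfl] at h11
  have hgen : IsGeneralizedCharacter (S2 F) ((fun g : S2 F => Rf 1 1 (g : M2 F)) - (fun _ : S2 F => (1 : ℂ))) :=
    CfsgLib.CharBasic.IsGeneralizedCharacter.sub (CfsgLib.CharBasic.IsCharacter.isGeneralized (isChar_RS 1))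
      (CfsgLib.CharBasic.IsCharacter.isGeneralized CfsgLib.CharBasic.isCharacter_one)
  refine CfsgLib.CharBasic.IsGeneralizedCharacter.irr_of_pos hgen ?_ ?_
  · change classInner ((fun g : S2 F => Rf 1 1 (g : M2 F)) - (fun _ : S2 F => (1 : ℂ))) ((fun g : S2 F => Rf 1 1 (g : M2 F)) - (fun _ : S2 F => (1 : ℂ))) = 1
    rw [CfsgLib.CharBasic.classInner_sub_left, CfsgLib.CharBasic.classInner_sub_right, CfsgLib.CharBasic.classInner_sub_right, mackey_SL, h11]
    have h1 : classInner (fun _ : S2 F => (1 : ℂ)) (fun g : S2 F => Rf 1 1 (g : M2 F)) = 1 := by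
      rw [← CfsgLib.CharBasic.classInner_conj_symm, h11, map_one]
    have h2 : classInner (fun _ : S2 F => (1 : ℂ)) (fun _ : S2 F => (1 : ℂ)) = 1 := CfsgLib.CharBasic.IsIrrCharacter.inner_self CfsgLib.CharBasic.isIrr_one'
    rw [h1, h2]; simp
  · have : ((fun g : S2 F => Rf 1 1 (g : M2 F)) - (fun _ : S2 F => (1 : ℂ))) 1 = (Fintype.card F : ℂ) := by
      rw [Pi.sub_apply]
      change Rf 1 1 ((1 : S2 F) : M2 F) - 1 = _
      rw [RfS_one]; simp
    change 0 < (((fun g : S2 F => Rf 1 1 (g : M2 F)) - (fun _ : S2 F => (1 : ℂ))) 1).re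
    rw [this]
    have : 0 < Fintype.card F := Fintype.card_pos
    rw [Complex.natCast_re]; exact_mod_cast this

theorem isIrr_RS {α : MulChar F ℂ} (h : α ^ 2 ≠ 1) : IsIrrCharacter (S2 F) (fun g : S2 F => Rf α 1 (g : M2 F)) := by
  classical
  refine CfsgLib.CharBasic.IsCharacter.isIrr_of_inner_eq_one (isChar_RS α) ?_
  have e : ¬ α = α⁻¹ := fun e => h (by rw [sq]; exact eq_inv_iff_mul_eq_one.mp e)
  rw [mackey_SL, if_pos rfl, if_neg e, add_zero]

/-- trivial character -/
noncomputable def tS : IrrCharacter (S2 F) := CfsgLib.CharBasic.irrOne (S2 F)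
/-- Steinberg character -/
noncomputable def StS : IrrCharacter (S2 F) := ⟨_, gen_StS⟩
/-- principal series -/
noncomputable def Rc (α : {α : MulChar F ℂ // α ^ 2 ≠ 1}) : IrrCharacter (S2 F) := ⟨_, isIrr_RS α.2⟩

theorem tS_apply (g : S2 F) : ((tS : IrrCharacter (S2 F)) : S2 F → ℂ) g = 1 := CfsgLib.CharBasic.irrOne_apply g
theorem StS_apply (g : S2 F) : ((StS : IrrCharacter (S2 F)) : S2 F → ℂ) g = Rf 1 1 (g : M2 F) - 1 := rfl
theorem Rc_apply (α : {α : MulChar F ℂ // α ^ 2 ≠ 1}) (g : S2 F) : (Rc α : S2 F → ℂ) g = Rf α.1 1 (g : M2 F) := rfl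

theorem StS_one : ((StS : IrrCharacter (S2 F)) : S2 F → ℂ) 1 = Fintype.card F := by rw [StS_apply, RfS_one]; simp
theorem Rc_one (α : {α : MulChar F ℂ // α ^ 2 ≠ 1}) : (Rc α : S2 F → ℂ) 1 = Fintype.card F + 1 := by rw [Rc_apply, RfS_one]
theorem StS_up {x : F} (hx : x ≠ 0) : ((StS : IrrCharacter (S2 F)) : S2 F → ℂ) (upS (Multiplicative.ofAdd x)) = 0 := by rw [StS_apply, RfS_up 1 1 hx]; simp
theorem Rc_up (α : {α : MulChar F ℂ // α ^ 2 ≠ 1}) {x : F} (hx : x ≠ 0) : (Rc α : S2 F → ℂ) (upS (Multiplicative.ofAdd x)) = 1 := by rw [Rc_apply, RfS_up α.1 1 hx]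

theorem RS_eq_iff (α α' : MulChar F ℂ) : (fun g : S2 F => Rf α 1 (g : M2 F)) = (fun g : S2 F => Rf α' 1 (g : M2 F)) ↔ (α = α' ∨ α = α'⁻¹) := by
  classical
  constructor
  · intro h
    have h1 := mackey_SL α α'
    rw [← h, mackey_SL, if_pos rfl] at h1
    by_contra hne
    push Not at hne
    rw [if_neg hne.1, if_neg hne.2] at h1
    split_ifs at h1
    · norm_num at h1
    · norm_num at h1
  · rintro (rfl | rfl)
    · rfl
    · have h : classInner ((fun g : S2 F => Rf α'⁻¹ 1 (g : M2 F)) - (fun g : S2 F => Rf α' 1 (g : M2 F))) ((fun g : S2 F => Rf α'⁻¹ 1 (g : M2 F)) - (fun g : S2 F => Rf α' 1 (g : M2 F))) = 0 := by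
        rw [CfsgLib.CharBasic.classInner_sub_left, CfsgLib.CharBasic.classInner_sub_right, CfsgLib.CharBasic.classInner_sub_right,
          mackey_SL, mackey_SL, mackey_SL, mackey_SL]
        by_cases h : α' = α'⁻¹
        · rw [← h]; simp [← h]
        · have h' : ¬ α'⁻¹ = α' := fun e => h e.symm
          simp [h, h']
      exact sub_eq_zero.mp (CfsgLib.CharBasic.classInner_self_eq_zero.mp h)

theorem card_sq_one : Nat.card {α : MulChar F ℂ // α ^ 2 = 1} = Nat.card {a : Fˣ // a ^ 2 = 1} := by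
  obtain ⟨e⟩ := MulChar.mulEquiv_units F ℂ
  exact Nat.card_congr (e.toEquiv.subtypeEquiv fun α => by
    constructor
    · intro h
      change (e α) ^ 2 = 1
      rw [← map_pow, h, map_one]
    · intro h
      change (e α) ^ 2 = 1 at h
      rw [← map_pow] at h
      exact e.injective (h.trans (map_one e).symm))

theorem card_usq_odd (h2 : (2 : F) ≠ 0) : Nat.card {a : Fˣ // a ^ 2 = 1} = 2 := by
  have hne : (1 : Fˣ) ≠ -1 := by
    intro e
    have := congrArg Units.val e
    simp at this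
    exact one_ne_neg h2 this
  have : Nat.card ({1, -1} : Set Fˣ) = 2 := by rw [Nat.card_coe_set_eq, Set.ncard_pair hne]
  refine (Nat.card_congr (Equiv.subtypeEquivRight fun a => ?_)).trans this
  constructor
  · intro h
    have h' : ((a : F)) ^ 2 = 1 := by
      have := congrArg Units.val h
      simpa using this
    rcases sq_eq_one_iff.mp h' with h | h
    · exact Or.inl (Units.ext h)
    · refine Or.inr (Units.ext ?_)
      rw [h]; simp
  · rintro (h | h)
    · rw [h, one_pow]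
    · have : a = -1 := h
      rw [this]; simp

theorem card_usq_even (h2 : (2 : F) = 0) : Nat.card {a : Fˣ // a ^ 2 = 1} = 1 := by
  rw [Nat.card_eq_one_iff_unique]
  refine ⟨⟨?_⟩, ⟨⟨1, one_pow 2⟩⟩⟩
  have h : ∀ a : Fˣ, a ^ 2 = 1 → a = 1 := by
    intro a ha
    have := congrArg Units.val ha
    simp at this
    apply Units.ext
    rcases this with h | h
    · rw [h]
    · rw [h]; simp; linear_combination -h2
  rintro ⟨a, ha⟩ ⟨b, hb⟩
  exact Subtype.ext ((h a ha).trans (h b hb).symm)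

open Classical in
noncomputable def AR : Finset (IrrCharacter (S2 F)) := haveI : Fintype (MulChar F ℂ) := Fintype.ofFinite _; (Finset.univ : Finset {α : MulChar F ℂ // α ^ 2 ≠ 1}).image Rc

theorem mem_AR (χ : IrrCharacter (S2 F)) : χ ∈ AR ↔ ∃ α, χ = Rc α := by
  unfold AR; simp only [Finset.mem_image, Finset.mem_univ, true_and, eq_comm]

theorem card_AR : 2 * (AR (F := F)).card + Nat.card {a : Fˣ // a ^ 2 = 1} = Fintype.card F - 1 := by
  classical
  haveI : Fintype (MulChar F ℂ) := Fintype.ofFinite _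
  have : (AR (F := F)) = (Finset.univ : Finset {α : MulChar F ℂ // α ^ 2 ≠ 1}).image Rc := by
    ext; rw [mem_AR]; simp only [Finset.mem_image, Finset.mem_univ, true_and, eq_comm]
  rw [this, card_image_two _ Rc (fun p => ⟨p.1⁻¹, fun h => p.2 (by rw [inv_pow, inv_eq_one] at h; exact h)⟩)]
  · rw [Finset.card_univ, ← card_sq_one, ← card_MC, ← Nat.card_eq_fintype_card]
    have := Nat.card_congr (Equiv.sumCompl (fun α : MulChar F ℂ => α ^ 2 = 1))
    rw [Nat.card_sum] at this
    rw [← this, add_comm]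
  · intro p _
    refine ⟨Finset.mem_univ _, ?_, ?_⟩
    · intro e
      apply p.2
      have e1 : p.1⁻¹ = p.1 := congrArg Subtype.val e
      rw [sq]; exact eq_inv_iff_mul_eq_one.mp e1.symm
    · apply Subtype.ext
      exact (RS_eq_iff _ _).mpr (Or.inr rfl)
  · intro p _ r _ e
    have := (RS_eq_iff _ _).mp (congrArg Subtype.val e)
    rcases this with h1 | h1
    · left; exact Subtype.ext h1.symm
    · right; apply Subtype.ext; change r.1 = p.1⁻¹; rw [h1, inv_inv]

theorem card_S2' : (Nat.card (S2 F)) = Fintype.card F * (Fintype.card F - 1) * (Fintype.card F + 1) := CfsgLib.SL2.card_SL2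

theorem uS_ne {x : F} (hx : x ≠ 0) : ¬ IsConj (1 : S2 F) (upS (Multiplicative.ofAdd x)) := by
  intro h
  rw [isConj_one_right] at h
  have := congrFun (congrFun (congrArg (fun x : S2 F => (x : M2 F)) h) 0) 1
  rw [upS_coe] at this
  simp at this
  exact hx this

/-- a character trivial on the unipotent class is trivial -/
theorem eq_tS (χ : IrrCharacter (S2 F)) (h : ∀ x : F, (χ : S2 F → ℂ) (upS (Multiplicative.ofAdd x)) = (χ : S2 F → ℂ) 1) : χ = tS := by
  have hch := CfsgLib.CharBasic.irr_isCharacter χ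
  have h1 := ker_of_up hch h
  have hin := CfsgLib.CharBasic.irr_inner χ tS
  by_contra hne
  rw [if_neg hne] at hin
  have : classInner (χ : S2 F → ℂ) ((tS : IrrCharacter (S2 F)) : S2 F → ℂ) = (χ : S2 F → ℂ) 1 := by
    unfold classInner
    have : ∀ g : S2 F, (χ : S2 F → ℂ) g * conj (((tS : IrrCharacter (S2 F)) : S2 F → ℂ) g) = (χ : S2 F → ℂ) 1 := by
      intro g; rw [h1, tS_apply]; simp
    simp only [this]
    rw [Finset.sum_const, Finset.card_univ, nsmul_eq_mul, Nat.card_eq_fintype_card, ← mul_assoc, inv_mul_cancel₀, one_mul]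
    exact Nat.cast_ne_zero.mpr Fintype.card_ne_zero
  rw [this] at hin
  exact CfsgLib.CharBasic.IsIrrCharacter.one_ne_zero χ.2 hin

section even
variable (h2 : (2 : F) = 0)
include h2

noncomputable abbrev e0 (χ : IrrCharacter (S2 F)) : ℕ := m0 upS (upS_conj_even h2) χ
noncomputable abbrev e1 (χ : IrrCharacter (S2 F)) : ℕ := mm upS (upS_conj_even h2) χ

theorem e_one (χ : IrrCharacter (S2 F)) : (χ : S2 F → ℂ) 1 = e0 h2 χ + ((Fintype.card F : ℂ) - 1) * e1 h2 χ := m_one upS (upS_conj_even h2) χ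
theorem e_u (χ : IrrCharacter (S2 F)) : (χ : S2 F → ℂ) uS = (e0 h2 χ : ℂ) - e1 h2 χ := m_u upS (upS_conj_even h2) χ

theorem e_t : e0 h2 (tS (F := F)) = 1 ∧ e1 h2 (tS (F := F)) = 0 := by
  refine m_eq upS (upS_conj_even h2) ?_ ?_
  · rw [tS_apply]; simp
  · rw [tS_apply]; simp
theorem e_S : e0 h2 (StS (F := F)) = 1 ∧ e1 h2 (StS (F := F)) = 1 := by
  refine m_eq upS (upS_conj_even h2) ?_ ?_
  · rw [StS_one]; simp
  · rw [StS_up one_ne_zero]; simp
theorem e_R (α : {α : MulChar F ℂ // α ^ 2 ≠ 1}) : e0 h2 (Rc α) = 2 ∧ e1 h2 (Rc α) = 1 := by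
  refine m_eq upS (upS_conj_even h2) ?_ ?_
  · rw [Rc_one]; push_cast; ring
  · rw [Rc_up α one_ne_zero]; push_cast; norm_num

theorem cent_uS_even : Nat.card (Subgroup.centralizer ({upS (Multiplicative.ofAdd (1 : F))} : Set (S2 F))) = Fintype.card F := by
  rw [card_cent_SL]
  exact card_CC_par_two h2 (by rw [upS_coe]; simp) (by rw [upS_coe]; simp) (by rw [upS_coe]; simp)

theorem sum_e : (∑ χ : IrrCharacter (S2 F), e0 h2 χ * e0 h2 χ) = 2 * (Fintype.card F - 1) ∧
    (∑ χ : IrrCharacter (S2 F), e1 h2 χ * e1 h2 χ) = Fintype.card F := by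
  have h := sum_m upS (upS_conj_even h2) (G := S2 F) (uS_ne one_ne_zero) card_S2' (cent_uS_even h2)
  have hq := cq0 (F := F)
  obtain ⟨k, hk⟩ := Nat.exists_eq_add_of_le (nq1 (F := F))
  have hk1 : Fintype.card F - 1 = k := by omega
  have hkc : (Fintype.card F : ℂ) = 1 + k := by rw [hk]; push_cast; ring
  rw [hk1] at h ⊢
  have hq' : (1 + (k : ℂ)) ≠ 0 := by rw [← hkc]; exact hq
  constructor
  · have h1 := h.1
    have : (Fintype.card F : ℂ) ^ 2 * ((∑ χ : IrrCharacter (S2 F), e0 h2 χ * e0 h2 χ : ℕ) : ℂ) = (Fintype.card F : ℂ) ^ 2 * ((2 * k : ℕ) : ℂ) := by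
      rw [h1]; push_cast; rw [hkc]; ring
    exact_mod_cast mul_left_cancel₀ (pow_ne_zero 2 hq) this
  · have h1 := h.2
    have : (Fintype.card F : ℂ) ^ 2 * ((∑ χ : IrrCharacter (S2 F), e1 h2 χ * e1 h2 χ : ℕ) : ℂ) = (Fintype.card F : ℂ) ^ 2 * ((Fintype.card F : ℕ) : ℂ) := by
      rw [h1]; push_cast; rw [hkc]; ring
    exact_mod_cast mul_left_cancel₀ (pow_ne_zero 2 hq) this

theorem e1_eq_zero {χ : IrrCharacter (S2 F)} : e1 h2 χ = 0 ↔ χ = tS := by
  constructor
  · intro h
    apply eq_tS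
    intro x
    by_cases hx : x = 0
    · subst hx
      have : (Multiplicative.ofAdd (0 : F)) = 1 := rfl
      rw [this, map_one]
    · have hcl := CfsgLib.CharBasic.IsCharacter.isClassFunction (CfsgLib.CharBasic.irr_isCharacter χ)
      rw [CfsgLib.CharBasic.IsClassFunction.eq_of_isConj hcl (upS_conj_even h2 x hx)]
      change (χ : S2 F → ℂ) uS = _
      rw [e_u h2, e_one h2, h]; simp
  · rintro rfl
    exact (e_t h2).2

theorem e1_le (χ : IrrCharacter (S2 F)) : e1 h2 χ ≤ 1 := by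
  classical
  refine le_one_of_sum_sq (fun χ : IrrCharacter (S2 F) => e1 h2 χ) ?_ χ
  rw [(sum_e h2).2]
  have h1 : (Finset.univ.filter fun χ : IrrCharacter (S2 F) => e1 h2 χ ≠ 0).card + (Finset.univ.filter fun χ : IrrCharacter (S2 F) => ¬ e1 h2 χ ≠ 0).card = Fintype.card F + 1 := by
    rw [Finset.card_filter_add_card_filter_not, Finset.card_univ, ← Nat.card_eq_fintype_card, CfsgLib.CharBasic.card_irr, card_classes_SL_even h2]
  have h3 : (Finset.univ.filter fun χ : IrrCharacter (S2 F) => ¬ e1 h2 χ ≠ 0) = {tS} := by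
    ext χ
    simp only [Finset.mem_filter, Finset.mem_univ, true_and, ne_eq, not_not, Finset.mem_singleton]
    exact e1_eq_zero h2
  rw [h3, Finset.card_singleton] at h1
  omega

theorem card_AR_even : 2 * (AR (F := F)).card = Fintype.card F - 2 := by
  have := card_AR (F := F)
  rw [card_usq_even h2] at this
  omega

theorem classify_even (χ : IrrCharacter (S2 F)) : χ = tS ∨ χ = StS ∨ χ ∈ AR ∨ (e0 h2 χ = 0 ∧ e1 h2 χ = 1) := by
  classical
  by_cases h1 : χ = tS
  · exact Or.inl h1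
  by_cases h3 : χ = StS
  · exact Or.inr (Or.inl h3)
  by_cases h4 : χ ∈ AR
  · exact Or.inr (Or.inr (Or.inl h4))
  right; right; right
  have dis1 : (tS : IrrCharacter (S2 F)) ≠ StS := by
    intro e
    have := (e_t (F := F) h2).2
    rw [e, (e_S h2).2] at this; omega
  have dis2 : Disjoint ({tS, StS} : Finset (IrrCharacter (S2 F))) AR := by
    rw [Finset.disjoint_left]
    intro χ hχ hR
    obtain ⟨α, rfl⟩ := (mem_AR _).mp hR
    have a := (e_R h2 α).1
    rcases Finset.mem_insert.mp hχ with h | h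
    · rw [h, (e_t h2).1] at a; omega
    · rw [Finset.mem_singleton.mp h, (e_S h2).1] at a; omega
  constructor
  · have := rest_zero ({tS, StS} ∪ AR) (fun χ : IrrCharacter (S2 F) => e0 h2 χ * e0 h2 χ) ?_ χ (by simp [h1, h3, h4])
    · exact mul_self_eq_zero.mp this
    · rw [(sum_e h2).1, Finset.sum_union dis2, Finset.sum_pair dis1, (e_t h2).1, (e_S h2).1,
        Finset.sum_congr rfl (g := fun _ => 4) (fun χ hχ => by
        obtain ⟨γ, rfl⟩ := (mem_AR _).mp hχ; rw [(e_R h2 γ).1])]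
      rw [Finset.sum_const, smul_eq_mul]
      have := card_AR_even h2
      have h2' := two_le_card (F := F)
      omega
  · have hle := e1_le h2 χ
    have : e1 h2 χ ≠ 0 := fun h => h1 ((e1_eq_zero h2).mp h)
    omega

theorem cuspE_one {χ : IrrCharacter (S2 F)} (h : e0 h2 χ = 0 ∧ e1 h2 χ = 1) : (χ : S2 F → ℂ) 1 = (Fintype.card F : ℂ) - 1 := by
  rw [e_one h2, h.1, h.2]; simp

theorem card_cuspE : 2 * Nat.card {χ : IrrCharacter (S2 F) // e0 h2 χ = 0 ∧ e1 h2 χ = 1} = Fintype.card F := by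
  classical
  have dis1 : (tS : IrrCharacter (S2 F)) ≠ StS := by
    intro e
    have := (e_t (F := F) h2).2
    rw [e, (e_S h2).2] at this; omega
  have dis2 : Disjoint ({tS, StS} : Finset (IrrCharacter (S2 F))) AR := by
    rw [Finset.disjoint_left]
    intro χ hχ hR
    obtain ⟨α, rfl⟩ := (mem_AR _).mp hR
    have a := (e_R h2 α).1
    rcases Finset.mem_insert.mp hχ with h | h
    · rw [h, (e_t h2).1] at a; omega
    · rw [Finset.mem_singleton.mp h, (e_S h2).1] at a; omega
  have h1 : (Finset.univ.filter fun χ : IrrCharacter (S2 F) => e0 h2 χ = 0 ∧ e1 h2 χ = 1) = ({tS, StS} ∪ AR)ᶜ := by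
    ext χ
    simp only [Finset.mem_filter, Finset.mem_univ, true_and, Finset.mem_compl, Finset.mem_union, not_or, Finset.mem_insert, Finset.mem_singleton]
    constructor
    · rintro ⟨a, b⟩
      refine ⟨⟨fun h => ?_, fun h => ?_⟩, fun h => ?_⟩
      · rw [h, (e_t h2).1] at a; omega
      · rw [h, (e_S h2).1] at a; omega
      · obtain ⟨γ, rfl⟩ := (mem_AR _).mp h
        rw [(e_R h2 γ).1] at a; omega
    · rintro ⟨⟨h1, h3⟩, h4⟩
      rcases classify_even h2 χ with h | h | h | h
      · exact absurd h h1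
      · exact absurd h h3
      · exact absurd h h4
      · exact h
  rw [Nat.card_eq_fintype_card, Fintype.card_subtype, h1, Finset.card_compl, Finset.card_union_of_disjoint dis2, Finset.card_pair dis1,
    ← Nat.card_eq_fintype_card, CfsgLib.CharBasic.card_irr, card_classes_SL_even h2]
  have := card_AR_even h2
  have h2' := two_le_card (F := F)
  omega
end even

end CfsgLib.GL2a
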