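import Cfsg.Agent.Lib.GLd1
set_option autoImplicit false
set_option linter.style.haveILetI false
set_option linter.unusedSectionVars false

/-! Characters of `SL₂` in odd characteristic: multiplicities. -/

namespace CfsgLib.GL2a
open Matrix Cfsg
open scoped ComplexConjugate

universe u

variable {F : Type u} [Field F] [Fintype F] [DecidableEq F]

/-- the quadratic character -/
noncomputable def eta (F : Type u) [Field F] [Fintype F] [DecidableEq F] : MulChar F ℂ := (quadraticChar F).ringHomComp (Int.castRingHom ℂ)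

theorem eta_apply (x : F) : eta F x = ((quadraticChar F x : ℤ) : ℂ) := rfl

theorem ringChar_ne (h2 : (2 : F) ≠ 0) : ringChar F ≠ 2 := by
  intro h
  have := ringChar.eq_iff.mp h
  exact h2 CharTwo.two_eq_zero

theorem eta_isQuadratic : (eta F).IsQuadratic := (quadraticChar_isQuadratic F).comp _

theorem eta_sq_apply {x : F} (hx : x ≠ 0) : eta F x * eta F x = 1 := by
  rw [eta_apply]
  have := quadraticChar_sq_one hx
  rw [sq] at this
  exact_mod_cast this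

theorem eta_conj (x : F) : conj (eta F x) = eta F x := by rw [eta_apply]; simp

theorem eta_ne (h2 : (2 : F) ≠ 0) : eta F ≠ 1 := by
  intro h
  apply quadraticChar_ne_one (ringChar_ne h2)
  apply MulChar.ext
  intro a
  have := DFunLike.congr_fun h (a : F)
  rw [eta_apply, MulChar.one_apply_coe] at this
  rw [MulChar.one_apply_coe]
  exact_mod_cast this

theorem eta_of_sq {x : F} (hx : x ≠ 0) (h : IsSquare x) : eta F x = 1 := by
  rw [eta_apply, (quadraticChar_one_iff_isSquare hx).mpr h]; norm_num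
theorem eta_of_nonsq {x : F} (h : ¬ IsSquare x) : eta F x = -1 := by
  rw [eta_apply, quadraticChar_neg_one_iff_not_isSquare.mpr h]; norm_num

theorem eta_inv_apply (x : F) : eta F x⁻¹ = eta F x := by
  by_cases hx : x = 0
  · rw [hx, _root_.inv_zero]
  · have h1 : eta F x * eta F x⁻¹ = 1 := by rw [← map_mul, mul_inv_cancel₀ hx, map_one]
    have h3 := eta_sq_apply hx
    have : eta F x * (eta F x⁻¹ - eta F x) = 0 := by rw [mul_sub, h1, h3, sub_self]
    exact sub_eq_zero.mp ((mul_eq_zero.mp this).resolve_left (mcn hx))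

noncomputable def psi (F : Type u) [Field F] [Fintype F] : AddChar F ℂ := AddChar.FiniteField.primitiveChar_to_Complex F

omit [DecidableEq F] in
theorem psi_prim : (psi F).IsPrimitive := AddChar.FiniteField.primitiveChar_to_Complex_isPrimitive F

omit [DecidableEq F] in
theorem psi_ne : psi F ≠ 1 := by
  intro h
  have := psi_prim (F := F) (one_ne_zero : (1 : F) ≠ 0)
  rw [AddChar.mulShift_one] at this
  exact this h

/-- the quadratic Gauss sum -/
noncomputable def gs (F : Type u) [Field F] [Fintype F] [DecidableEq F] : ℂ := gaussSum (eta F) (psi F)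

theorem gs_conj (h2 : (2 : F) ≠ 0) : gs F * conj (gs F) = Fintype.card F := by
  have h := gaussSum_mul_gaussSum_eq_card (eta_ne h2) (psi_prim (F := F))
  rw [← star_gaussSum_eq] at h
  exact h

theorem gs_sq (h2 : (2 : F) ≠ 0) : gs F ^ 2 = eta F (-1) * Fintype.card F := gaussSum_sq (eta_ne h2) eta_isQuadratic psi_prim

theorem gs_ne (h2 : (2 : F) ≠ 0) : gs F ≠ 0 := by
  intro h
  have := gs_conj (F := F) h2
  rw [h, zero_mul] at this
  exact cq0 this.symm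

/-- the nonsquare -/
noncomputable def nu (h2 : (2 : F) ≠ 0) : F := Classical.choose (exists_nonsq h2)
theorem nu_nonsq (h2 : (2 : F) ≠ 0) : ¬ IsSquare (nu h2) := Classical.choose_spec (exists_nonsq h2)
theorem nu_ne (h2 : (2 : F) ≠ 0) : nu h2 ≠ 0 := by
  intro h; apply nu_nonsq h2; rw [h]; exact IsSquare.zero

/-- second unipotent class -/
noncomputable def vS (h2 : (2 : F) ≠ 0) : S2 F := upS (Multiplicative.ofAdd (nu h2))

theorem up_val (h2 : (2 : F) ≠ 0) {χ : S2 F → ℂ} (hχ : IsClassFunction (S2 F) χ) {x : F} (hx : x ≠ 0) :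
    χ (upS (Multiplicative.ofAdd x)) = (χ uS + χ (vS h2)) / 2 + eta F x * ((χ uS - χ (vS h2)) / 2) := by
  by_cases hs : IsSquare x
  · rw [eta_of_sq hx hs]
    have : IsConj (upS (Multiplicative.ofAdd x)) uS := (parS_isConj_iff h2 1 x 1 (one_mul 1) hx one_ne_zero).mpr (by rwa [mul_one])
    rw [CfsgLib.CharBasic.IsClassFunction.eq_of_isConj hχ this]; ring
  · rw [eta_of_nonsq hs]
    have : IsConj (upS (Multiplicative.ofAdd x)) (vS h2) := (parS_isConj_iff h2 1 x (nu h2) (one_mul 1) hx (nu_ne h2)).mpr (by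
      rcases sq_or_nonsq h2 (nu_nonsq h2) x with h | h
      · exact absurd h hs
      · rwa [mul_comm])
    rw [CfsgLib.CharBasic.IsClassFunction.eq_of_isConj hχ this]; ring

theorem sum_val (h2 : (2 : F) ≠ 0) {χ : S2 F → ℂ} (hχ : IsClassFunction (S2 F) χ) (φ : AddChar F ℂ) :
    ∑ x : F, χ (upS (Multiplicative.ofAdd x)) * conj (φ x) =
      χ 1 + (χ uS + χ (vS h2)) / 2 * (conj (∑ x : F, φ x) - 1) + (χ uS - χ (vS h2)) / 2 * conj (∑ x : F, eta F x * φ x) := by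
  have h0 : Multiplicative.ofAdd (0 : F) = 1 := rfl
  have e1 : ∑ x : F, χ (upS (Multiplicative.ofAdd x)) * conj (φ x) = χ 1 * conj (φ 0) +
      ∑ x ∈ ({0} : Finset F)ᶜ, ((χ uS + χ (vS h2)) / 2 + eta F x * ((χ uS - χ (vS h2)) / 2)) * conj (φ x) := by
    rw [Fintype.sum_eq_add_sum_compl 0, h0, map_one]
    congr 1
    refine Finset.sum_congr rfl fun x hx => ?_
    rw [up_val h2 hχ (by simpa using hx)]
  have e2 : conj (∑ x : F, φ x) = 1 + ∑ x ∈ ({0} : Finset F)ᶜ, conj (φ x) := by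
    rw [map_sum, Fintype.sum_eq_add_sum_compl 0]; simp
  have e3 : conj (∑ x : F, eta F x * φ x) = ∑ x ∈ ({0} : Finset F)ᶜ, eta F x * conj (φ x) := by
    rw [map_sum, Fintype.sum_eq_add_sum_compl 0]
    simp only [map_mul, eta_conj]
    rw [mc0, zero_mul, zero_add]
  rw [e1, e2, e3]
  simp only [add_mul, Finset.sum_add_distrib]
  rw [AddChar.map_zero_eq_one, map_one, mul_one]
  simp only [add_sub_cancel_left]
  rw [Finset.mul_sum, Finset.mul_sum]
  rw [add_assoc]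
  congr 2
  refine Finset.sum_congr rfl fun x _ => ?_
  ring

/-- multiplicities of the characters of the root group -/
theorem mult_odd (h2 : (2 : F) ≠ 0) {χ : S2 F → ℂ} (hχ : IsCharacter (S2 F) χ) :
    ∃ m0 m1 m2 : ℕ,
      ((Fintype.card F : ℂ) * m0 = χ 1 + ((Fintype.card F : ℂ) - 1) * ((χ uS + χ (vS h2)) / 2)) ∧
      ((Fintype.card F : ℂ) * m1 = χ 1 - (χ uS + χ (vS h2)) / 2 + (χ uS - χ (vS h2)) / 2 * conj (gs F)) ∧
      ((Fintype.card F : ℂ) * m2 = χ 1 - (χ uS + χ (vS h2)) / 2 - (χ uS - χ (vS h2)) / 2 * conj (gs F)) := by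
  have hcl := CfsgLib.CharBasic.IsCharacter.isClassFunction hχ
  have hq := cq0 (F := F)
  obtain ⟨m0, h0⟩ := mult_nat hχ upS (1 : AddChar F ℂ)
  obtain ⟨m1, h1⟩ := mult_nat hχ upS (psi F)
  obtain ⟨m2, h3⟩ := mult_nat hχ upS (AddChar.mulShift (psi F) (nu h2))
  refine ⟨m0, m1, m2, ?_, ?_, ?_⟩
  · rw [sum_val h2 hcl, inv_mul_eq_iff_eq_mul₀ hq] at h0
    rw [← h0]
    have e1 : ∑ x : F, (1 : AddChar F ℂ) x = Fintype.card F := by simp
    have e2 : ∑ x : F, eta F x * (1 : AddChar F ℂ) x = 0 := by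
      simp only [AddChar.one_apply, mul_one]
      exact MulChar.sum_eq_zero_of_ne_one (eta_ne h2)
    rw [e1, e2]; simp; ring
  · rw [sum_val h2 hcl, inv_mul_eq_iff_eq_mul₀ hq] at h1
    rw [← h1, AddChar.sum_eq_zero_of_ne_one psi_ne]
    have : ∑ x : F, eta F x * psi F x = gs F := rfl
    rw [this, map_zero]; ring
  · rw [sum_val h2 hcl, inv_mul_eq_iff_eq_mul₀ hq] at h3
    rw [← h3]
    have e1 : ∑ x : F, (AddChar.mulShift (psi F) (nu h2)) x = 0 := AddChar.sum_eq_zero_of_ne_one (psi_prim (nu_ne h2))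
    have e2 : ∑ x : F, eta F x * (AddChar.mulShift (psi F) (nu h2)) x = - gs F := by
      have := gaussSum_mulShift (eta F) (psi F) (Units.mk0 _ (nu_ne h2))
      rw [Units.val_mk0, eta_of_nonsq (nu_nonsq h2)] at this
      change gaussSum (eta F) (AddChar.mulShift (psi F) (nu h2)) = _
      change -1 * gaussSum (eta F) (AddChar.mulShift (psi F) (nu h2)) = gs F at this
      rw [← this]; ring
    rw [e1, e2, map_zero, map_neg]; ring

noncomputable def o0 (h2 : (2 : F) ≠ 0) (χ : IrrCharacter (S2 F)) : ℕ := Classical.choose (mult_odd h2 (CfsgLib.CharBasic.irr_isCharacter χ))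
noncomputable def o1 (h2 : (2 : F) ≠ 0) (χ : IrrCharacter (S2 F)) : ℕ := Classical.choose (Classical.choose_spec (mult_odd h2 (CfsgLib.CharBasic.irr_isCharacter χ)))
noncomputable def o2 (h2 : (2 : F) ≠ 0) (χ : IrrCharacter (S2 F)) : ℕ := Classical.choose (Classical.choose_spec (Classical.choose_spec (mult_odd h2 (CfsgLib.CharBasic.irr_isCharacter χ))))

theorem o_spec (h2 : (2 : F) ≠ 0) (χ : IrrCharacter (S2 F)) :
      ((Fintype.card F : ℂ) * o0 h2 χ = (χ : S2 F → ℂ) 1 + ((Fintype.card F : ℂ) - 1) * (((χ : S2 F → ℂ) uS + (χ : S2 F → ℂ) (vS h2)) / 2)) ∧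
      ((Fintype.card F : ℂ) * o1 h2 χ = (χ : S2 F → ℂ) 1 - ((χ : S2 F → ℂ) uS + (χ : S2 F → ℂ) (vS h2)) / 2 + ((χ : S2 F → ℂ) uS - (χ : S2 F → ℂ) (vS h2)) / 2 * conj (gs F)) ∧
      ((Fintype.card F : ℂ) * o2 h2 χ = (χ : S2 F → ℂ) 1 - ((χ : S2 F → ℂ) uS + (χ : S2 F → ℂ) (vS h2)) / 2 - ((χ : S2 F → ℂ) uS - (χ : S2 F → ℂ) (vS h2)) / 2 * conj (gs F)) :=
  Classical.choose_spec (Classical.choose_spec (Classical.choose_spec (mult_odd h2 (CfsgLib.CharBasic.irr_isCharacter χ))))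

theorem o_one (h2 : (2 : F) ≠ 0) (χ : IrrCharacter (S2 F)) : (χ : S2 F → ℂ) 1 = o0 h2 χ + ((Fintype.card F : ℂ) - 1) / 2 * (o1 h2 χ + o2 h2 χ) := by
  obtain ⟨a, b, c⟩ := o_spec h2 χ
  have hq := cq0 (F := F)
  have : (Fintype.card F : ℂ) * (χ : S2 F → ℂ) 1 = (Fintype.card F : ℂ) * (o0 h2 χ + ((Fintype.card F : ℂ) - 1) / 2 * (o1 h2 χ + o2 h2 χ)) := by
    linear_combination -a - ((Fintype.card F : ℂ) - 1) / 2 * (b + c)
  exact mul_left_cancel₀ hq this

theorem o_u (h2 : (2 : F) ≠ 0) (χ : IrrCharacter (S2 F)) : (χ : S2 F → ℂ) uS = o0 h2 χ - ((o1 h2 χ : ℂ) + o2 h2 χ) / 2 + (o1 h2 χ - o2 h2 χ) * gs F / 2 := by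
  obtain ⟨a, b, c⟩ := o_spec h2 χ
  have hq := cq0 (F := F)
  have hg := gs_conj (F := F) h2
  have : (Fintype.card F : ℂ) * (χ : S2 F → ℂ) uS = (Fintype.card F : ℂ) * (o0 h2 χ - ((o1 h2 χ : ℂ) + o2 h2 χ) / 2 + (o1 h2 χ - o2 h2 χ) * gs F / 2) := by
    linear_combination -a + (b + c) / 2 - gs F / 2 * (b - c) - ((χ : S2 F → ℂ) uS - (χ : S2 F → ℂ) (vS h2)) / 2 * hg
  exact mul_left_cancel₀ hq this

theorem o_v (h2 : (2 : F) ≠ 0) (χ : IrrCharacter (S2 F)) : (χ : S2 F → ℂ) (vS h2) = o0 h2 χ - ((o1 h2 χ : ℂ) + o2 h2 χ) / 2 - (o1 h2 χ - o2 h2 χ) * gs F / 2 := by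
  obtain ⟨a, b, c⟩ := o_spec h2 χ
  have hq := cq0 (F := F)
  have hg := gs_conj (F := F) h2
  have : (Fintype.card F : ℂ) * (χ : S2 F → ℂ) (vS h2) = (Fintype.card F : ℂ) * (o0 h2 χ - ((o1 h2 χ : ℂ) + o2 h2 χ) / 2 - (o1 h2 χ - o2 h2 χ) * gs F / 2) := by
    linear_combination -a + (b + c) / 2 + gs F / 2 * (b - c) + ((χ : S2 F → ℂ) uS - (χ : S2 F → ℂ) (vS h2)) / 2 * hg
  exact mul_left_cancel₀ hq this

theorem o_eq (h2 : (2 : F) ≠ 0) {χ : IrrCharacter (S2 F)} {a b c : ℕ}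
    (h1 : (χ : S2 F → ℂ) 1 = a + ((Fintype.card F : ℂ) - 1) / 2 * (b + c))
    (hu : (χ : S2 F → ℂ) uS = a - ((b : ℂ) + c) / 2 + (b - c) * gs F / 2)
    (hv : (χ : S2 F → ℂ) (vS h2) = a - ((b : ℂ) + c) / 2 - (b - c) * gs F / 2) : o0 h2 χ = a ∧ o1 h2 χ = b ∧ o2 h2 χ = c := by
  obtain ⟨x, y, z⟩ := o_spec h2 χ
  rw [h1, hu, hv] at x y z
  have hq := cq0 (F := F)
  have hg := gs_conj (F := F) h2
  refine ⟨?_, ?_, ?_⟩
  · have : (Fintype.card F : ℂ) * o0 h2 χ = (Fintype.card F : ℂ) * a := by rw [x]; ring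
    exact_mod_cast mul_left_cancel₀ hq this
  · have : (Fintype.card F : ℂ) * o1 h2 χ = (Fintype.card F : ℂ) * b := by rw [y]; linear_combination ((b : ℂ) - c) / 2 * hg
    exact_mod_cast mul_left_cancel₀ hq this
  · have : (Fintype.card F : ℂ) * o2 h2 χ = (Fintype.card F : ℂ) * c := by rw [z]; linear_combination -((b : ℂ) - c) / 2 * hg
    exact_mod_cast mul_left_cancel₀ hq this

theorem cent_up_odd (h2 : (2 : F) ≠ 0) {x : F} (hx : x ≠ 0) : Nat.card (Subgroup.centralizer ({upS (Multiplicative.ofAdd x)} : Set (S2 F))) = 2 * Fintype.card F := by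
  rw [card_cent_SL]
  exact card_CC_par h2 (by rw [upS_coe]; simp) (by rw [upS_coe]; simpa using hx) (by rw [upS_coe]; simp)

theorem u_v_not_conj (h2 : (2 : F) ≠ 0) : ¬ IsConj (uS : S2 F) (vS h2) := by
  intro h
  have := (parS_isConj_iff h2 1 1 (nu h2) (one_mul 1) one_ne_zero (nu_ne h2)).mp h
  rw [one_mul] at this
  exact nu_nonsq h2 this

/-- bilinear orthogonality for the three columns -/
theorem bil (h2 : (2 : F) ≠ 0) (x y z x' y' z' : ℂ) :
    ∑ χ : IrrCharacter (S2 F), (x * (χ : S2 F → ℂ) 1 + y * (χ : S2 F → ℂ) uS + z * (χ : S2 F → ℂ) (vS h2)) *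
      conj (x' * (χ : S2 F → ℂ) 1 + y' * (χ : S2 F → ℂ) uS + z' * (χ : S2 F → ℂ) (vS h2)) =
      x * conj x' * (Nat.card (S2 F) : ℂ) + (y * conj y' + z * conj z') * (2 * Fintype.card F) := by
  have nu1 : ¬ IsConj (1 : S2 F) uS := uS_ne one_ne_zero
  have nv1 : ¬ IsConj (1 : S2 F) (vS h2) := uS_ne (nu_ne h2)
  have nuv := u_v_not_conj h2
  have s11 := CfsgLib.CharBasic.sum_irr_mul_conj_of_isConj (IsConj.refl (1 : S2 F))
  have suu := CfsgLib.CharBasic.sum_irr_mul_conj_of_isConj (IsConj.refl (uS : S2 F))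
  have svv := CfsgLib.CharBasic.sum_irr_mul_conj_of_isConj (IsConj.refl (vS h2))
  have s1u := CfsgLib.CharBasic.sum_irr_mul_conj_of_not_isConj nu1
  have s1v := CfsgLib.CharBasic.sum_irr_mul_conj_of_not_isConj nv1
  have suv := CfsgLib.CharBasic.sum_irr_mul_conj_of_not_isConj nuv
  have su1 := CfsgLib.CharBasic.sum_irr_mul_conj_of_not_isConj (fun h => nu1 (IsConj.symm h) : ¬ IsConj (uS : S2 F) 1)
  have sv1 := CfsgLib.CharBasic.sum_irr_mul_conj_of_not_isConj (fun h => nv1 (IsConj.symm h) : ¬ IsConj (vS h2) 1)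
  have svu := CfsgLib.CharBasic.sum_irr_mul_conj_of_not_isConj (fun h => nuv (IsConj.symm h) : ¬ IsConj (vS h2) uS)
  have c1 : Nat.card (Subgroup.centralizer ({1} : Set (S2 F))) = Nat.card (S2 F) := by
    have : Subgroup.centralizer ({1} : Set (S2 F)) = ⊤ := by
      rw [eq_top_iff]; intro x _; rw [Subgroup.mem_centralizer_singleton_iff]; simp
    rw [this]; exact Nat.card_congr Subgroup.topEquiv.toEquiv
  have cu : Nat.card (Subgroup.centralizer ({uS} : Set (S2 F))) = 2 * Fintype.card F := cent_up_odd h2 one_ne_zero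
  have cv : Nat.card (Subgroup.centralizer ({vS h2} : Set (S2 F))) = 2 * Fintype.card F := cent_up_odd h2 (nu_ne h2)
  rw [c1] at s11
  rw [cu] at suu
  rw [cv] at svv
  push_cast at suu svv
  calc _ = x * conj x' * (∑ χ : IrrCharacter (S2 F), (χ : S2 F → ℂ) 1 * conj ((χ : S2 F → ℂ) 1)) + x * conj y' * (∑ χ : IrrCharacter (S2 F), (χ : S2 F → ℂ) 1 * conj ((χ : S2 F → ℂ) uS)) +
        x * conj z' * (∑ χ : IrrCharacter (S2 F), (χ : S2 F → ℂ) 1 * conj ((χ : S2 F → ℂ) (vS h2))) +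
        y * conj x' * (∑ χ : IrrCharacter (S2 F), (χ : S2 F → ℂ) uS * conj ((χ : S2 F → ℂ) 1)) + y * conj y' * (∑ χ : IrrCharacter (S2 F), (χ : S2 F → ℂ) uS * conj ((χ : S2 F → ℂ) uS)) +
        y * conj z' * (∑ χ : IrrCharacter (S2 F), (χ : S2 F → ℂ) uS * conj ((χ : S2 F → ℂ) (vS h2))) +
        z * conj x' * (∑ χ : IrrCharacter (S2 F), (χ : S2 F → ℂ) (vS h2) * conj ((χ : S2 F → ℂ) 1)) + z * conj y' * (∑ χ : IrrCharacter (S2 F), (χ : S2 F → ℂ) (vS h2) * conj ((χ : S2 F → ℂ) uS)) +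
        z * conj z' * (∑ χ : IrrCharacter (S2 F), (χ : S2 F → ℂ) (vS h2) * conj ((χ : S2 F → ℂ) (vS h2))) := by
        simp only [Finset.mul_sum, ← Finset.sum_add_distrib]
        refine Finset.sum_congr rfl fun χ _ => ?_
        simp only [map_add, map_mul]
        ring
    _ = _ := by rw [s11, suu, svv, s1u, s1v, suv, su1, sv1, svu]; ring

theorem sum_o (h2 : (2 : F) ≠ 0) :
    (∑ χ : IrrCharacter (S2 F), o0 h2 χ * o0 h2 χ) = 2 * (Fintype.card F - 1) ∧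
    (∑ χ : IrrCharacter (S2 F), o1 h2 χ * o1 h2 χ) = Fintype.card F + 1 ∧
    (∑ χ : IrrCharacter (S2 F), o2 h2 χ * o2 h2 χ) = Fintype.card F + 1 ∧
    (∑ χ : IrrCharacter (S2 F), o1 h2 χ * o2 h2 χ) = Fintype.card F - 1 := by
  have hq := cq0 (F := F)
  have hg := gs_conj (F := F) h2
  have hG : ((Nat.card (S2 F) : ℕ) : ℂ) = (Fintype.card F : ℂ) * ((Fintype.card F : ℂ) - 1) * ((Fintype.card F : ℂ) + 1) := by
    rw [card_S2']; push_cast [Nat.cast_sub (nq1 (F := F))]; ring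
  have cc : ∀ n : ℕ, conj ((Fintype.card F : ℂ) * n) = (Fintype.card F : ℂ) * n := by intro n; simp
  have q2 : (Fintype.card F : ℂ) * (Fintype.card F : ℂ) ≠ 0 := mul_ne_zero hq hq
  have cast1 : ((Fintype.card F - 1 : ℕ) : ℂ) = (Fintype.card F : ℂ) - 1 := by push_cast [Nat.cast_sub (nq1 (F := F))]; ring
  refine ⟨?_, ?_, ?_, ?_⟩
  · have := bil h2 1 (((Fintype.card F : ℂ) - 1) / 2) (((Fintype.card F : ℂ) - 1) / 2) 1 (((Fintype.card F : ℂ) - 1) / 2) (((Fintype.card F : ℂ) - 1) / 2)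
    have e : ∀ χ : IrrCharacter (S2 F), (1 * (χ : S2 F → ℂ) 1 + ((Fintype.card F : ℂ) - 1) / 2 * (χ : S2 F → ℂ) uS + ((Fintype.card F : ℂ) - 1) / 2 * (χ : S2 F → ℂ) (vS h2)) = (Fintype.card F : ℂ) * o0 h2 χ := by
      intro χ; rw [(o_spec h2 χ).1]; ring
    simp only [e, cc] at this
    have e3 : ((Fintype.card F : ℂ) * (Fintype.card F : ℂ)) * ((∑ χ : IrrCharacter (S2 F), o0 h2 χ * o0 h2 χ : ℕ) : ℂ) = ((Fintype.card F : ℂ) * (Fintype.card F : ℂ)) * ((2 * (Fintype.card F - 1) : ℕ) : ℂ) := by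
      push_cast [cast1]
      rw [Finset.mul_sum, ← Finset.sum_congr rfl (fun χ _ => (by ring : (Fintype.card F : ℂ) * o0 h2 χ * ((Fintype.card F : ℂ) * o0 h2 χ) = (Fintype.card F : ℂ) * (Fintype.card F : ℂ) * ((o0 h2 χ : ℂ) * (o0 h2 χ : ℂ)))), this, hG]
      simp only [map_div₀, map_sub, map_natCast, map_one, map_ofNat]
      ring
    exact_mod_cast mul_left_cancel₀ q2 e3
  · have := bil h2 1 (-1 / 2 + conj (gs F) / 2) (-1 / 2 - conj (gs F) / 2) 1 (-1 / 2 + conj (gs F) / 2) (-1 / 2 - conj (gs F) / 2)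
    have e : ∀ χ : IrrCharacter (S2 F), (1 * (χ : S2 F → ℂ) 1 + (-1 / 2 + conj (gs F) / 2) * (χ : S2 F → ℂ) uS + (-1 / 2 - conj (gs F) / 2) * (χ : S2 F → ℂ) (vS h2)) = (Fintype.card F : ℂ) * o1 h2 χ := by
      intro χ; rw [(o_spec h2 χ).2.1]; ring
    simp only [e, cc] at this
    have e3 : ((Fintype.card F : ℂ) * (Fintype.card F : ℂ)) * ((∑ χ : IrrCharacter (S2 F), o1 h2 χ * o1 h2 χ : ℕ) : ℂ) = ((Fintype.card F : ℂ) * (Fintype.card F : ℂ)) * ((Fintype.card F + 1 : ℕ) : ℂ) := by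
      push_cast
      rw [Finset.mul_sum, ← Finset.sum_congr rfl (fun χ _ => (by ring : (Fintype.card F : ℂ) * o1 h2 χ * ((Fintype.card F : ℂ) * o1 h2 χ) = (Fintype.card F : ℂ) * (Fintype.card F : ℂ) * ((o1 h2 χ : ℂ) * (o1 h2 χ : ℂ)))), this, hG]
      simp only [map_div₀, map_sub, map_add, map_neg, map_natCast, map_one, map_ofNat, Complex.conj_conj]
      linear_combination (Fintype.card F : ℂ) * hg
    exact_mod_cast mul_left_cancel₀ q2 e3
  · have := bil h2 1 (-1 / 2 - conj (gs F) / 2) (-1 / 2 + conj (gs F) / 2) 1 (-1 / 2 - conj (gs F) / 2) (-1 / 2 + conj (gs F) / 2)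
    have e : ∀ χ : IrrCharacter (S2 F), (1 * (χ : S2 F → ℂ) 1 + (-1 / 2 - conj (gs F) / 2) * (χ : S2 F → ℂ) uS + (-1 / 2 + conj (gs F) / 2) * (χ : S2 F → ℂ) (vS h2)) = (Fintype.card F : ℂ) * o2 h2 χ := by
      intro χ; rw [(o_spec h2 χ).2.2]; ring
    simp only [e, cc] at this
    have e3 : ((Fintype.card F : ℂ) * (Fintype.card F : ℂ)) * ((∑ χ : IrrCharacter (S2 F), o2 h2 χ * o2 h2 χ : ℕ) : ℂ) = ((Fintype.card F : ℂ) * (Fintype.card F : ℂ)) * ((Fintype.card F + 1 : ℕ) : ℂ) := by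
      push_cast
      rw [Finset.mul_sum, ← Finset.sum_congr rfl (fun χ _ => (by ring : (Fintype.card F : ℂ) * o2 h2 χ * ((Fintype.card F : ℂ) * o2 h2 χ) = (Fintype.card F : ℂ) * (Fintype.card F : ℂ) * ((o2 h2 χ : ℂ) * (o2 h2 χ : ℂ)))), this, hG]
      simp only [map_div₀, map_sub, map_add, map_neg, map_natCast, map_one, map_ofNat, Complex.conj_conj]
      linear_combination (Fintype.card F : ℂ) * hg
    exact_mod_cast mul_left_cancel₀ q2 e3
  · have := bil h2 1 (-1 / 2 + conj (gs F) / 2) (-1 / 2 - conj (gs F) / 2) 1 (-1 / 2 - conj (gs F) / 2) (-1 / 2 + conj (gs F) / 2)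
    have e : ∀ χ : IrrCharacter (S2 F), (1 * (χ : S2 F → ℂ) 1 + (-1 / 2 + conj (gs F) / 2) * (χ : S2 F → ℂ) uS + (-1 / 2 - conj (gs F) / 2) * (χ : S2 F → ℂ) (vS h2)) = (Fintype.card F : ℂ) * o1 h2 χ := by
      intro χ; rw [(o_spec h2 χ).2.1]; ring
    have e' : ∀ χ : IrrCharacter (S2 F), (1 * (χ : S2 F → ℂ) 1 + (-1 / 2 - conj (gs F) / 2) * (χ : S2 F → ℂ) uS + (-1 / 2 + conj (gs F) / 2) * (χ : S2 F → ℂ) (vS h2)) = (Fintype.card F : ℂ) * o2 h2 χ := by
      intro χ; rw [(o_spec h2 χ).2.2]; ring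
    simp only [e, e', cc] at this
    have e3 : ((Fintype.card F : ℂ) * (Fintype.card F : ℂ)) * ((∑ χ : IrrCharacter (S2 F), o1 h2 χ * o2 h2 χ : ℕ) : ℂ) = ((Fintype.card F : ℂ) * (Fintype.card F : ℂ)) * ((Fintype.card F - 1 : ℕ) : ℂ) := by
      push_cast [cast1]
      rw [Finset.mul_sum, ← Finset.sum_congr rfl (fun χ _ => (by ring : (Fintype.card F : ℂ) * o1 h2 χ * ((Fintype.card F : ℂ) * o2 h2 χ) = (Fintype.card F : ℂ) * (Fintype.card F : ℂ) * ((o1 h2 χ : ℂ) * (o2 h2 χ : ℂ)))), this, hG]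
      simp only [map_div₀, map_sub, map_add, map_neg, map_natCast, map_one, map_ofNat, Complex.conj_conj]
      linear_combination -(Fintype.card F : ℂ) * hg
    exact_mod_cast mul_left_cancel₀ q2 e3

end CfsgLib.GL2a
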