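import Cfsg.Agent.Lib.GLd2
import Cfsg.Agent.Lib.CharTI
set_option autoImplicit false
set_option linter.style.haveILetI false
set_option linter.unusedSectionVars false

/-! Characters of `SL₂` in odd characteristic: classification. -/

namespace CfsgLib.GL2a
open Matrix Cfsg
open scoped ComplexConjugate

universe u

section gen
variable {G : Type u} [Group G] [Fintype G]

theorem char_norm_two {χ : G → ℂ} (hχ : IsCharacter G χ) (h : classInner χ χ = 2) :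
    ∃ a b : IrrCharacter G, a ≠ b ∧ χ = (a : G → ℂ) + (b : G → ℂ) := by
  classical
  obtain ⟨m, hm⟩ := CfsgLib.CharBasic.IsCharacter.exists_nat_coeff hχ
  have h1 : ∑ ψ : IrrCharacter G, (m ψ : ℂ) * conj (m ψ : ℂ) = 2 := by
    rw [← h]; conv_rhs => rw [hm]
    rw [CfsgLib.CharBasic.classInner_sum_smul_sum_smul]
  have h3 : ∑ ψ : IrrCharacter G, (m ψ : ℤ) * (m ψ : ℤ) = 2 := by
    have : ((∑ ψ : IrrCharacter G, (m ψ : ℤ) * (m ψ : ℤ) : ℤ) : ℂ) = 2 := by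
      push_cast; rw [← h1]
      refine Finset.sum_congr rfl fun ψ _ => ?_
      rw [Complex.conj_natCast]
    exact_mod_cast this
  obtain ⟨i, j, hij, hi, hj, hk⟩ := CfsgLib.CharTI.exists_pair_of_sum_sq_eq_two (fun ψ => (m ψ : ℤ)) h3
  have mi : m i = 1 := by rcases hi with h | h <;> omega
  have mj : m j = 1 := by rcases hj with h | h <;> omega
  refine ⟨i, j, hij, ?_⟩
  rw [hm, ← Finset.add_sum_erase Finset.univ _ (Finset.mem_univ i),
      ← Finset.add_sum_erase (Finset.univ.erase i) _ (Finset.mem_erase.mpr ⟨hij.symm, Finset.mem_univ j⟩),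
      Finset.sum_eq_zero, mi, mj]
  · simp
  · intro k hkk
    rw [Finset.mem_erase, Finset.mem_erase] at hkk
    have := hk k hkk.2.1 hkk.1
    have : m k = 0 := by omega
    rw [this]; simp
end gen

theorem comb_rest {I : Type*} (R : Finset I) (m1 m2 : I → ℕ) (hne : ∀ i ∈ R, m1 i ≠ 0 ∨ m2 i ≠ 0) (s : ℕ)
    (h1 : ∑ i ∈ R, m1 i * m1 i = s + 1) (h2 : ∑ i ∈ R, m2 i * m2 i = s + 1) (h12 : ∑ i ∈ R, m1 i * m2 i = s) (hR : R.card = s + 2) :
    ∀ i ∈ R, (m1 i = 1 ∧ m2 i = 0) ∨ (m1 i = 0 ∧ m2 i = 1) ∨ (m1 i = 1 ∧ m2 i = 1) := by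
  have hle : ∀ i ∈ R, m1 i * m2 i + 1 ≤ m1 i * m1 i + m2 i * m2 i := by
    intro i hi
    rcases Nat.eq_zero_or_pos (m1 i) with h | h
    · rcases hne i hi with h' | h'
      · exact absurd h h'
      · rw [h]; have := Nat.pos_of_ne_zero h'; nlinarith
    · rcases Nat.eq_zero_or_pos (m2 i) with h' | h'
      · rw [h']; nlinarith
      · rcases Nat.lt_or_ge (m1 i) (m2 i) with h3 | h3
        · nlinarith
        · nlinarith
  have heq : ∑ i ∈ R, (m1 i * m2 i + 1) = ∑ i ∈ R, (m1 i * m1 i + m2 i * m2 i) := by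
    rw [Finset.sum_add_distrib, Finset.sum_add_distrib, h1, h2, h12, Finset.sum_const, hR, smul_eq_mul]; ring
  have := (Finset.sum_eq_sum_iff_of_le hle).mp heq
  intro i hi
  have e := this i hi
  have hn := hne i hi
  have b1 : m1 i ≤ 1 := by
    by_contra hc
    push Not at hc
    have : (m1 i : ℤ) * m2 i + 1 = m1 i * m1 i + m2 i * m2 i := by exact_mod_cast e
    have : (2 : ℤ) ≤ m1 i := by exact_mod_cast hc
    nlinarith [sq_nonneg ((m1 i : ℤ) - 2 * m2 i)]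
  have b2 : m2 i ≤ 1 := by
    by_contra hc
    push Not at hc
    have : (m1 i : ℤ) * m2 i + 1 = m1 i * m1 i + m2 i * m2 i := by exact_mod_cast e
    have : (2 : ℤ) ≤ m2 i := by exact_mod_cast hc
    nlinarith [sq_nonneg ((m2 i : ℤ) - 2 * m1 i)]
  omega

variable {F : Type u} [Field F] [Fintype F] [DecidableEq F]

/-- conjugation by the diagonal matrix of nonsquare determinant -/
noncomputable def tau (h2 : (2 : F) ≠ 0) : S2 F ≃* S2 F where
  toFun g := ⟨!![(g : M2 F) 0 0, nu h2 * (g : M2 F) 0 1; (nu h2)⁻¹ * (g : M2 F) 1 0, (g : M2 F) 1 1], by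
    have := sl_det g
    rw [det_e] at this
    have hn := nu_ne h2
    rw [det_e]; simp; field_simp; linear_combination this⟩
  invFun g := ⟨!![(g : M2 F) 0 0, (nu h2)⁻¹ * (g : M2 F) 0 1; (nu h2) * (g : M2 F) 1 0, (g : M2 F) 1 1], by
    have := sl_det g
    rw [det_e] at this
    have hn := nu_ne h2
    rw [det_e]; simp; field_simp; linear_combination this⟩
  left_inv g := by
    have hn := nu_ne h2
    apply sl_ext
    change !![(g : M2 F) 0 0, (nu h2)⁻¹ * (nu h2 * (g : M2 F) 0 1); (nu h2) * ((nu h2)⁻¹ * (g : M2 F) 1 0), (g : M2 F) 1 1] = (g : M2 F)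
    apply ext4 <;> simp [hn]
  right_inv g := by
    have hn := nu_ne h2
    apply sl_ext
    change !![(g : M2 F) 0 0, (nu h2) * ((nu h2)⁻¹ * (g : M2 F) 0 1); (nu h2)⁻¹ * ((nu h2) * (g : M2 F) 1 0), (g : M2 F) 1 1] = (g : M2 F)
    apply ext4 <;> simp [hn]
  map_mul' g h := by
    have hn := nu_ne h2
    apply sl_ext
    change !![((g : M2 F) * (h : M2 F)) 0 0, nu h2 * ((g : M2 F) * (h : M2 F)) 0 1; (nu h2)⁻¹ * ((g : M2 F) * (h : M2 F)) 1 0, ((g : M2 F) * (h : M2 F)) 1 1] =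
      !![(g : M2 F) 0 0, nu h2 * (g : M2 F) 0 1; (nu h2)⁻¹ * (g : M2 F) 1 0, (g : M2 F) 1 1] * !![(h : M2 F) 0 0, nu h2 * (h : M2 F) 0 1; (nu h2)⁻¹ * (h : M2 F) 1 0, (h : M2 F) 1 1]
    apply ext4 <;> simp only [mul_e00, mul_e01, mul_e10, mul_e11] <;> simp <;> field_simp

theorem tau_coe (h2 : (2 : F) ≠ 0) (g : S2 F) : ((tau h2 g : S2 F) : M2 F) = !![(g : M2 F) 0 0, nu h2 * (g : M2 F) 0 1; (nu h2)⁻¹ * (g : M2 F) 1 0, (g : M2 F) 1 1] := rfl

theorem tau_uS (h2 : (2 : F) ≠ 0) : tau h2 uS = vS h2 := by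
  apply sl_ext
  rw [tau_coe, uS_coe]
  change _ = !![1, nu h2; 0, 1]
  apply ext4 <;> simp

theorem Rf_tau (h2 : (2 : F) ≠ 0) (α β : MulChar F ℂ) (g : S2 F) : Rf α β ((tau h2 g : S2 F) : M2 F) = Rf α β (g : M2 F) := by
  have hn := nu_ne h2
  unfold Rf
  rw [tau_coe]
  simp only [Matrix.of_apply, Matrix.cons_val', Matrix.cons_val_zero, Matrix.cons_val_one, Matrix.cons_val_fin_one]
  congr 1
  · simp [hn]
  · rw [← Equiv.sum_comp (Equiv.mulLeft₀ (nu h2) hn)]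
    refine Finset.sum_congr rfl fun x _ => ?_
    rw [show (Equiv.mulLeft₀ (nu h2) hn) x = nu h2 * x from rfl]
    have e1 : (nu h2)⁻¹ * (g : M2 F) 1 0 * (nu h2 * x) ^ 2 + ((g : M2 F) 1 1 - (g : M2 F) 0 0) * (nu h2 * x) - nu h2 * (g : M2 F) 0 1 =
        nu h2 * ((g : M2 F) 1 0 * x ^ 2 + ((g : M2 F) 1 1 - (g : M2 F) 0 0) * x - (g : M2 F) 0 1) := by field_simp
    have e2 : (nu h2)⁻¹ * (g : M2 F) 1 0 * (nu h2 * x) = (g : M2 F) 1 0 * x := by field_simp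
    rw [e1, e2]
    simp [hn]

theorem tau_isConj (h2 : (2 : F) ≠ 0) (g : S2 F) (hg : (g : M2 F).trace ^ 2 ≠ 4) : IsConj (tau h2 g) g := by
  have hn := nu_ne h2
  have htr : ((tau h2 g : S2 F) : M2 F).trace = (g : M2 F).trace := by
    rw [tau_coe, tr_eq, tr_eq]; simp
  have hns : ∀ A : S2 F, (A : M2 F).trace ^ 2 ≠ 4 → ¬ IsScal (A : M2 F) := by
    intro A hA hs
    apply hA
    have hd := sl_det A
    obtain ⟨h01, h10, h⟩ := hs
    rw [det_e, h01, zero_mul, sub_zero, h] at hd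
    rw [tr_eq, h]; linear_combination 4 * hd
  exact sl_isConj (hns _ (by rw [htr]; exact hg)) (hns _ hg) htr (Or.inl (by rw [htr]; exact hg))

theorem eta_inv : (eta F)⁻¹ = eta F := eta_isQuadratic.inv

theorem exists_halves (h2 : (2 : F) ≠ 0) : ∃ H1 H2 : IrrCharacter (S2 F), (fun g : S2 F => Rf (eta F) 1 (g : M2 F)) = (H1 : S2 F → ℂ) + (H2 : S2 F → ℂ) ∧
    (o0 h2 H1 = 1 ∧ o1 h2 H1 = 1 ∧ o2 h2 H1 = 0) ∧ (o0 h2 H2 = 1 ∧ o1 h2 H2 = 0 ∧ o2 h2 H2 = 1) ∧ ∀ g, (H2 : S2 F → ℂ) g = (H1 : S2 F → ℂ) (tau h2 g) := by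
  classical
  have hq := cq0 (F := F)
  have hnorm : classInner (fun g : S2 F => Rf (eta F) 1 (g : M2 F)) (fun g : S2 F => Rf (eta F) 1 (g : M2 F)) = 2 := by
    rw [mackey_SL, if_pos rfl, if_pos eta_inv.symm]; norm_num
  obtain ⟨a, b, hab, e⟩ := char_norm_two (isChar_RS (eta F)) hnorm
  have ev : ∀ g : S2 F, Rf (eta F) 1 (g : M2 F) = (a : S2 F → ℂ) g + (b : S2 F → ℂ) g := fun g => congrFun e g
  have e1 : (a : S2 F → ℂ) 1 + (b : S2 F → ℂ) 1 = Fintype.card F + 1 := by rw [← ev, RfS_one]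
  have eu : (a : S2 F → ℂ) uS + (b : S2 F → ℂ) uS = 1 := by rw [← ev, RfS_u]
  have evv : (a : S2 F → ℂ) (vS h2) + (b : S2 F → ℂ) (vS h2) = 1 := by rw [← ev]; exact RfS_up _ _ (nu_ne h2)
  obtain ⟨a0, a1, a2⟩ := o_spec h2 a
  obtain ⟨b0, b1, b2⟩ := o_spec h2 b
  have s0 : o0 h2 a + o0 h2 b = 2 := by
    have : (Fintype.card F : ℂ) * ((o0 h2 a + o0 h2 b : ℕ) : ℂ) = (Fintype.card F : ℂ) * (2 : ℕ) := by
      push_cast; linear_combination a0 + b0 + e1 + ((Fintype.card F : ℂ) - 1) / 2 * (eu + evv)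
    exact_mod_cast mul_left_cancel₀ hq this
  have s1 : o1 h2 a + o1 h2 b = 1 := by
    have : (Fintype.card F : ℂ) * ((o1 h2 a + o1 h2 b : ℕ) : ℂ) = (Fintype.card F : ℂ) * (1 : ℕ) := by
      push_cast; linear_combination a1 + b1 + e1 - (eu + evv) / 2 + conj (gs F) / 2 * (eu - evv)
    exact_mod_cast mul_left_cancel₀ hq this
  have s2 : o2 h2 a + o2 h2 b = 1 := by
    have : (Fintype.card F : ℂ) * ((o2 h2 a + o2 h2 b : ℕ) : ℂ) = (Fintype.card F : ℂ) * (1 : ℕ) := by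
      push_cast; linear_combination a2 + b2 + e1 - (eu + evv) / 2 - conj (gs F) / 2 * (eu - evv)
    exact_mod_cast mul_left_cancel₀ hq this
  -- nontriviality
  have nt : ∀ c : IrrCharacter (S2 F), classInner (fun g : S2 F => Rf (eta F) 1 (g : M2 F)) (c : S2 F → ℂ) ≠ 0 → ¬ (o1 h2 c = 0 ∧ o2 h2 c = 0) := by
    rintro c hc ⟨h1, h3⟩
    have k1 := o_one h2 c
    have ku := o_u h2 c
    have kv := o_v h2 c
    rw [h1, h3] at k1 ku kv
    have hct : c = tS := by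
      apply eq_tS
      intro x
      by_cases hx : x = 0
      · subst hx
        have : (Multiplicative.ofAdd (0 : F)) = 1 := rfl
        rw [this, map_one]
      · rw [up_val h2 (CfsgLib.CharBasic.IsCharacter.isClassFunction (CfsgLib.CharBasic.irr_isCharacter c)) hx, ku, kv, k1]
        push_cast; ring
    apply hc
    rw [hct]
    have := inner_RS_one (eta F)
    rw [if_neg (eta_ne h2)] at this
    have e3 : ((tS : IrrCharacter (S2 F)) : S2 F → ℂ) = fun _ => 1 := funext tS_apply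
    rw [e3]; exact this
  have ia : classInner (fun g : S2 F => Rf (eta F) 1 (g : M2 F)) (a : S2 F → ℂ) = 1 := by
    rw [e, CfsgLib.CharBasic.classInner_add_left, CfsgLib.CharBasic.irr_inner, CfsgLib.CharBasic.irr_inner, if_pos rfl, if_neg hab.symm, add_zero]
  have ib : classInner (fun g : S2 F => Rf (eta F) 1 (g : M2 F)) (b : S2 F → ℂ) = 1 := by
    rw [e, CfsgLib.CharBasic.classInner_add_left, CfsgLib.CharBasic.irr_inner, CfsgLib.CharBasic.irr_inner, if_pos rfl, if_neg hab, zero_add]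
  have nta := nt a (by rw [ia]; exact one_ne_zero)
  have ntb := nt b (by rw [ib]; exact one_ne_zero)
  -- general conclusion
  have main : ∀ a b : IrrCharacter (S2 F), a ≠ b → (fun g : S2 F => Rf (eta F) 1 (g : M2 F)) = (a : S2 F → ℂ) + (b : S2 F → ℂ) →
      o0 h2 a + o0 h2 b = 2 → (o1 h2 a = 1 ∧ o2 h2 a = 0) → (o1 h2 b = 0 ∧ o2 h2 b = 1) →
      ∃ H1 H2 : IrrCharacter (S2 F), (fun g : S2 F => Rf (eta F) 1 (g : M2 F)) = (H1 : S2 F → ℂ) + (H2 : S2 F → ℂ) ∧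
    (o0 h2 H1 = 1 ∧ o1 h2 H1 = 1 ∧ o2 h2 H1 = 0) ∧ (o0 h2 H2 = 1 ∧ o1 h2 H2 = 0 ∧ o2 h2 H2 = 1) ∧ ∀ g, (H2 : S2 F → ℂ) g = (H1 : S2 F → ℂ) (tau h2 g) := by
    intro a b hab e s0 ha hb
    let c : IrrCharacter (S2 F) := ⟨(a : S2 F → ℂ) ∘ (tau h2), CfsgLib.CharBasic.IsIrrCharacter.comp_equiv a.2 (tau h2)⟩
    have hcomp : (fun g : S2 F => Rf (eta F) 1 (g : M2 F)) = (fun g : S2 F => Rf (eta F) 1 (g : M2 F)) ∘ (tau h2) := by
      funext g; exact (Rf_tau h2 _ _ g).symm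
    have hc1 : classInner (fun g : S2 F => Rf (eta F) 1 (g : M2 F)) (c : S2 F → ℂ) = 1 := by
      rw [hcomp]
      have := CfsgLib.CharBasic.classInner_comp (tau h2).toMonoidHom (tau h2).surjective (fun g : S2 F => Rf (eta F) 1 (g : M2 F)) (a : S2 F → ℂ)
      refine this.trans ?_
      rw [e, CfsgLib.CharBasic.classInner_add_left, CfsgLib.CharBasic.irr_inner, CfsgLib.CharBasic.irr_inner, if_pos rfl, if_neg hab.symm, add_zero]
    rw [e, CfsgLib.CharBasic.classInner_add_left, CfsgLib.CharBasic.irr_inner, CfsgLib.CharBasic.irr_inner] at hc1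
    have hcb : b = c := by
      by_contra hne
      rw [if_neg hne, add_zero] at hc1
      have hac : a = c := by
        by_contra hne'
        rw [if_neg hne'] at hc1; exact zero_ne_one hc1
      have h3 : (a : S2 F → ℂ) uS = (a : S2 F → ℂ) (vS h2) := by
        have := congrFun (congrArg Subtype.val hac) uS
        rw [this]
        change (a : S2 F → ℂ) (tau h2 uS) = _
        rw [tau_uS]
      rw [o_u h2 a, o_v h2 a, ha.1, ha.2] at h3
      apply gs_ne (F := F) h2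
      push_cast at h3
      linear_combination h3
    have hdeg : (b : S2 F → ℂ) 1 = (a : S2 F → ℂ) 1 := by
      rw [hcb]; change (a : S2 F → ℂ) (tau h2 1) = _; rw [map_one]
    rw [o_one h2 a, o_one h2 b, ha.1, ha.2, hb.1, hb.2] at hdeg
    have h00 : o0 h2 b = o0 h2 a := by
      have : (o0 h2 b : ℂ) = o0 h2 a := by push_cast at hdeg; linear_combination hdeg
      exact_mod_cast this
    refine ⟨a, b, e, ⟨by omega, ha⟩, ⟨by omega, hb⟩, ?_⟩
    intro g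
    rw [hcb]; rfl
  have hcases : (o1 h2 a = 1 ∧ o2 h2 a = 0 ∧ o1 h2 b = 0 ∧ o2 h2 b = 1) ∨ (o1 h2 a = 0 ∧ o2 h2 a = 1 ∧ o1 h2 b = 1 ∧ o2 h2 b = 0) := by omega
  rcases hcases with ⟨x1, x2, x3, x4⟩ | ⟨x1, x2, x3, x4⟩
  · exact main a b hab e s0 ⟨x1, x2⟩ ⟨x3, x4⟩
  · refine main b a hab.symm (by rw [e, add_comm]) (by omega) ⟨x3, x4⟩ ⟨x1, x2⟩

noncomputable def H1 (h2 : (2 : F) ≠ 0) : IrrCharacter (S2 F) := Classical.choose (exists_halves h2)
noncomputable def H2 (h2 : (2 : F) ≠ 0) : IrrCharacter (S2 F) := Classical.choose (Classical.choose_spec (exists_halves h2))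
theorem H_spec (h2 : (2 : F) ≠ 0) : (fun g : S2 F => Rf (eta F) 1 (g : M2 F)) = (H1 h2 : S2 F → ℂ) + (H2 h2 : S2 F → ℂ) ∧
    (o0 h2 (H1 h2) = 1 ∧ o1 h2 (H1 h2) = 1 ∧ o2 h2 (H1 h2) = 0) ∧ (o0 h2 (H2 h2) = 1 ∧ o1 h2 (H2 h2) = 0 ∧ o2 h2 (H2 h2) = 1) ∧ ∀ g, (H2 h2 : S2 F → ℂ) g = (H1 h2 : S2 F → ℂ) (tau h2 g) :=
  Classical.choose_spec (Classical.choose_spec (exists_halves h2))

theorem o_t (h2 : (2 : F) ≠ 0) : o0 h2 (tS (F := F)) = 1 ∧ o1 h2 (tS (F := F)) = 0 ∧ o2 h2 (tS (F := F)) = 0 := by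
  apply o_eq h2
  · rw [tS_apply]; simp
  · rw [tS_apply]; simp
  · rw [tS_apply]; simp
theorem o_S (h2 : (2 : F) ≠ 0) : o0 h2 (StS (F := F)) = 1 ∧ o1 h2 (StS (F := F)) = 1 ∧ o2 h2 (StS (F := F)) = 1 := by
  apply o_eq h2
  · rw [StS_one]; push_cast; ring
  · refine (StS_up one_ne_zero).trans ?_; push_cast; ring
  · refine (StS_up (nu_ne h2)).trans ?_; push_cast; ring
theorem o_R (h2 : (2 : F) ≠ 0) (α : {α : MulChar F ℂ // α ^ 2 ≠ 1}) : o0 h2 (Rc α) = 2 ∧ o1 h2 (Rc α) = 1 ∧ o2 h2 (Rc α) = 1 := by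
  apply o_eq h2
  · rw [Rc_one]; push_cast; ring
  · refine (Rc_up α one_ne_zero).trans ?_; push_cast; ring
  · refine (Rc_up α (nu_ne h2)).trans ?_; push_cast; ring

theorem card_AR_odd (h2 : (2 : F) ≠ 0) : 2 * (AR (F := F)).card = Fintype.card F - 3 := by
  have := card_AR (F := F)
  rw [card_usq_odd h2] at this
  omega

theorem odd_card (h2 : (2 : F) ≠ 0) : Fintype.card F % 2 = 1 := FiniteField.odd_card_of_char_ne_two (ringChar_ne h2)

open Classical in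
/-- the non-cuspidal characters -/
noncomputable def KK (h2 : (2 : F) ≠ 0) : Finset (IrrCharacter (S2 F)) := {tS, StS} ∪ (AR ∪ {H1 h2, H2 h2})

theorem K_props (h2 : (2 : F) ≠ 0) (f : ℕ → ℕ → ℕ → ℕ) :
    ∑ χ ∈ KK h2, f (o0 h2 χ) (o1 h2 χ) (o2 h2 χ) = f 1 0 0 + f 1 1 1 + ((AR (F := F)).card * f 2 1 1 + (f 1 1 0 + f 1 0 1)) := by
  classical
  have hS := H_spec h2
  have t := o_t (F := F) h2
  have s := o_S (F := F) h2
  have dis1 : (tS : IrrCharacter (S2 F)) ≠ StS := by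
    intro e; rw [e] at t; have := t.2.1; rw [s.2.1] at this; omega
  have dis2 : H1 h2 ≠ H2 h2 := by
    intro e; have := hS.2.1.2.1; rw [e, hS.2.2.1.2.1] at this; omega
  have dis3 : Disjoint (AR : Finset (IrrCharacter (S2 F))) {H1 h2, H2 h2} := by
    rw [Finset.disjoint_left]
    intro χ h1 h3
    obtain ⟨α, rfl⟩ := (mem_AR _).mp h1
    have r := o_R h2 α
    rcases Finset.mem_insert.mp h3 with h | h
    · rw [h] at r; have := r.1; rw [hS.2.1.1] at this; omega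
    · rw [Finset.mem_singleton.mp h] at r; have := r.1; rw [hS.2.2.1.1] at this; omega
  have dis4 : Disjoint ({tS, StS} : Finset (IrrCharacter (S2 F))) (AR ∪ {H1 h2, H2 h2}) := by
    rw [Finset.disjoint_left]
    intro χ h1 h3
    have hv : (o1 h2 χ = 0 ∧ o2 h2 χ = 0) ∨ (o0 h2 χ = 1 ∧ o1 h2 χ = 1 ∧ o2 h2 χ = 1) := by
      rcases Finset.mem_insert.mp h1 with h | h
      · rw [h]; exact Or.inl t.2
      · rw [Finset.mem_singleton.mp h]; exact Or.inr s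
    rcases Finset.mem_union.mp h3 with h | h
    · obtain ⟨α, rfl⟩ := (mem_AR _).mp h
      have r := o_R h2 α
      omega
    · rcases Finset.mem_insert.mp h with h | h
      · rw [h] at hv; have := hS.2.1; omega
      · rw [Finset.mem_singleton.mp h] at hv; have := hS.2.2.1; omega
  unfold KK
  rw [Finset.sum_union dis4, Finset.sum_union dis3, Finset.sum_pair dis1, Finset.sum_pair dis2, t.1, t.2.1, t.2.2, s.1, s.2.1, s.2.2,
    hS.2.1.1, hS.2.1.2.1, hS.2.1.2.2, hS.2.2.1.1, hS.2.2.1.2.1, hS.2.2.1.2.2]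
  congr 2
  rw [Finset.sum_congr rfl (g := fun _ => f 2 1 1) (fun χ hχ => by
    obtain ⟨α, rfl⟩ := (mem_AR _).mp hχ
    have r := o_R h2 α
    rw [r.1, r.2.1, r.2.2]), Finset.sum_const, smul_eq_mul]

theorem mem_KK (h2 : (2 : F) ≠ 0) (χ : IrrCharacter (S2 F)) : χ ∈ KK h2 ↔ χ = tS ∨ χ = StS ∨ χ ∈ AR ∨ χ = H1 h2 ∨ χ = H2 h2 := by
  classical
  unfold KK
  simp only [Finset.mem_union, Finset.mem_insert, Finset.mem_singleton]
  tauto

theorem card_q_ge (h2 : (2 : F) ≠ 0) : 3 ≤ Fintype.card F := by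
  have := odd_card h2
  have := two_le_card (F := F)
  omega

theorem classify_odd (h2 : (2 : F) ≠ 0) (χ : IrrCharacter (S2 F)) : χ ∈ KK h2 ∨
    (o0 h2 χ = 0 ∧ ((o1 h2 χ = 1 ∧ o2 h2 χ = 0) ∨ (o1 h2 χ = 0 ∧ o2 h2 χ = 1) ∨ (o1 h2 χ = 1 ∧ o2 h2 χ = 1))) := by
  classical
  by_cases hK : χ ∈ KK h2
  · exact Or.inl hK
  right
  have h3 := card_q_ge h2
  have hodd := odd_card h2
  have hA := card_AR_odd h2
  have S := sum_o (F := F) h2
  have hz : ∀ χ, χ ∉ KK h2 → o0 h2 χ = 0 := by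
    intro χ hχ
    have := rest_zero (KK h2) (fun χ => o0 h2 χ * o0 h2 χ) ?_ χ hχ
    · exact mul_self_eq_zero.mp this
    · rw [S.1]
      have := K_props h2 (fun a _ _ => a * a)
      rw [this]; omega
  refine ⟨hz χ hK, ?_⟩
  have hsum : ∀ f : IrrCharacter (S2 F) → ℕ, ∑ χ ∈ (KK h2)ᶜ, f χ = ∑ χ, f χ - ∑ χ ∈ KK h2, f χ := by
    intro f
    have := Finset.sum_add_sum_compl (KK h2) f
    omega
  have k11 := K_props h2 (fun _ b _ => b * b)
  have k22 := K_props h2 (fun _ _ c => c * c)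
  have k12 := K_props h2 (fun _ b c => b * c)
  have kc := K_props h2 (fun _ _ _ => 1)
  have := comb_rest (KK h2)ᶜ (o1 h2) (o2 h2) ?_ ((Fintype.card F - 1) / 2) ?_ ?_ ?_ ?_ χ (Finset.mem_compl.mpr hK)
  · exact this
  · intro i hi
    by_contra hc
    push Not at hc
    have h0 := hz i (Finset.mem_compl.mp hi)
    have := o_one h2 i
    rw [h0, hc.1, hc.2] at this
    simp at this
    exact CfsgLib.CharBasic.IsIrrCharacter.one_ne_zero i.2 this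
  · rw [hsum, S.2.1, k11]; omega
  · rw [hsum, S.2.2.1, k22]; omega
  · rw [hsum, S.2.2.2, k12]; omega
  · rw [Finset.card_compl, Finset.card_eq_sum_ones, kc, ← Nat.card_eq_fintype_card, CfsgLib.CharBasic.card_irr, card_classes_SL_odd h2]
    omega

/-- counts of the cuspidal characters -/
theorem card_cuspO (h2 : (2 : F) ≠ 0) :
    Nat.card {χ : IrrCharacter (S2 F) // o0 h2 χ = 0 ∧ o1 h2 χ = 1 ∧ o2 h2 χ = 1} = (Fintype.card F - 1) / 2 ∧
    Nat.card {χ : IrrCharacter (S2 F) // o0 h2 χ = 0 ∧ o1 h2 χ = 1 ∧ o2 h2 χ = 0} = 1 ∧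
    Nat.card {χ : IrrCharacter (S2 F) // o0 h2 χ = 0 ∧ o1 h2 χ = 0 ∧ o2 h2 χ = 1} = 1 := by
  classical
  have h3 := card_q_ge h2
  have hodd := odd_card h2
  have hA := card_AR_odd h2
  have S := sum_o (F := F) h2
  have hsum : ∀ f : IrrCharacter (S2 F) → ℕ, ∑ χ ∈ (KK h2)ᶜ, f χ = ∑ χ, f χ - ∑ χ ∈ KK h2, f χ := by
    intro f
    have := Finset.sum_add_sum_compl (KK h2) f
    omega
  have k11 := K_props h2 (fun _ b _ => b * b)
  have k22 := K_props h2 (fun _ _ c => c * c)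
  have k12 := K_props h2 (fun _ b c => b * c)
  have hK0 : ∀ χ, χ ∈ KK h2 → o0 h2 χ ≠ 0 := by
    intro χ hχ
    rcases (mem_KK h2 χ).mp hχ with h | h | h | h | h
    · rw [h, (o_t h2).1]; omega
    · rw [h, (o_S h2).1]; omega
    · obtain ⟨α, rfl⟩ := (mem_AR _).mp h
      rw [(o_R h2 α).1]; omega
    · rw [h, (H_spec h2).2.1.1]; omega
    · rw [h, (H_spec h2).2.2.1.1]; omega
  have key : ∀ P : ℕ → ℕ → Prop, ∀ [DecidablePred fun χ : IrrCharacter (S2 F) => P (o1 h2 χ) (o2 h2 χ)], Nat.card {χ : IrrCharacter (S2 F) // o0 h2 χ = 0 ∧ P (o1 h2 χ) (o2 h2 χ)} = ∑ χ ∈ (KK h2)ᶜ, if P (o1 h2 χ) (o2 h2 χ) then 1 else 0 := by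
    intro P _
    rw [Nat.card_eq_fintype_card, Fintype.card_subtype, ← Finset.card_filter]
    congr 1
    ext χ
    simp only [Finset.mem_filter, Finset.mem_univ, true_and, Finset.mem_compl]
    constructor
    · rintro ⟨a, b⟩
      exact ⟨fun h => hK0 χ h a, b⟩
    · rintro ⟨a, b⟩
      rcases classify_odd h2 χ with h | h
      · exact absurd h a
      · exact ⟨h.1, b⟩
  have hv : ∀ χ ∈ (KK h2)ᶜ, (o1 h2 χ = 1 ∧ o2 h2 χ = 0) ∨ (o1 h2 χ = 0 ∧ o2 h2 χ = 1) ∨ (o1 h2 χ = 1 ∧ o2 h2 χ = 1) := by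
    intro χ hχ
    rcases classify_odd h2 χ with h | h
    · exact absurd h (Finset.mem_compl.mp hχ)
    · exact h.2
  have c11 : Nat.card {χ : IrrCharacter (S2 F) // o0 h2 χ = 0 ∧ o1 h2 χ = 1 ∧ o2 h2 χ = 1} = (Fintype.card F - 1) / 2 := by
    rw [key (fun b c => b = 1 ∧ c = 1)]
    rw [Finset.sum_congr rfl (g := fun χ => o1 h2 χ * o2 h2 χ) (fun χ hχ => by
      rcases hv χ hχ with ⟨a, b⟩ | ⟨a, b⟩ | ⟨a, b⟩ <;> simp [a, b])]
    rw [hsum, S.2.2.2, k12]; omega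
  have c1 : Nat.card {χ : IrrCharacter (S2 F) // o0 h2 χ = 0 ∧ o1 h2 χ = 1} = (Fintype.card F - 1) / 2 + 1 := by
    rw [key (fun b _ => b = 1)]
    rw [Finset.sum_congr rfl (g := fun χ => o1 h2 χ * o1 h2 χ) (fun χ hχ => by
      rcases hv χ hχ with ⟨a, b⟩ | ⟨a, b⟩ | ⟨a, b⟩ <;> simp [a])]
    rw [hsum, S.2.1, k11]; omega
  have c2 : Nat.card {χ : IrrCharacter (S2 F) // o0 h2 χ = 0 ∧ o2 h2 χ = 1} = (Fintype.card F - 1) / 2 + 1 := by
    rw [key (fun _ c => c = 1)]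
    rw [Finset.sum_congr rfl (g := fun χ => o2 h2 χ * o2 h2 χ) (fun χ hχ => by
      rcases hv χ hχ with ⟨a, b⟩ | ⟨a, b⟩ | ⟨a, b⟩ <;> simp [b])]
    rw [hsum, S.2.2.1, k22]; omega
  refine ⟨c11, ?_, ?_⟩
  · rw [key (fun b c => b = 1 ∧ c = 0)]
    rw [key (fun b _ => b = 1)] at c1
    rw [key (fun b c => b = 1 ∧ c = 1)] at c11
    have : ∑ χ ∈ (KK h2)ᶜ, (if o1 h2 χ = 1 then 1 else 0) = ∑ χ ∈ (KK h2)ᶜ, (if o1 h2 χ = 1 ∧ o2 h2 χ = 1 then 1 else 0) + ∑ χ ∈ (KK h2)ᶜ, (if o1 h2 χ = 1 ∧ o2 h2 χ = 0 then 1 else 0) := by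
      rw [← Finset.sum_add_distrib]
      refine Finset.sum_congr rfl fun χ hχ => ?_
      rcases hv χ hχ with ⟨a, b⟩ | ⟨a, b⟩ | ⟨a, b⟩ <;> simp [a, b]
    omega
  · rw [key (fun b c => b = 0 ∧ c = 1)]
    rw [key (fun _ c => c = 1)] at c2
    rw [key (fun b c => b = 1 ∧ c = 1)] at c11
    have : ∑ χ ∈ (KK h2)ᶜ, (if o2 h2 χ = 1 then 1 else 0) = ∑ χ ∈ (KK h2)ᶜ, (if o1 h2 χ = 1 ∧ o2 h2 χ = 1 then 1 else 0) + ∑ χ ∈ (KK h2)ᶜ, (if o1 h2 χ = 0 ∧ o2 h2 χ = 1 then 1 else 0) := by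
      rw [← Finset.sum_add_distrib]
      refine Finset.sum_congr rfl fun χ hχ => ?_
      rcases hv χ hχ with ⟨a, b⟩ | ⟨a, b⟩ | ⟨a, b⟩ <;> simp [a, b]
    omega

end CfsgLib.GL2a
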