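import Cfsg.Agent.Lib.GLd3
import Cfsg.Agent.Lib.CharAvg
set_option autoImplicit false
set_option linter.style.haveILetI false
set_option linter.unusedSectionVars false

/-! Characters of `SL₂`: degrees and values. -/

namespace CfsgLib.GL2a
open Matrix Cfsg
open scoped ComplexConjugate

universe u

variable {F : Type u} [Field F] [Fintype F] [DecidableEq F]

/-- kinds of irreducible characters, odd characteristic -/
theorem kinds (h2 : (2 : F) ≠ 0) (χ : IrrCharacter (S2 F)) : χ = tS ∨ χ = StS ∨ χ ∈ AR ∨ (χ = H1 h2 ∨ χ = H2 h2) ∨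
    (o0 h2 χ = 0 ∧ o1 h2 χ = 1 ∧ o2 h2 χ = 1) ∨ (o0 h2 χ = 0 ∧ o1 h2 χ = 1 ∧ o2 h2 χ = 0) ∨ (o0 h2 χ = 0 ∧ o1 h2 χ = 0 ∧ o2 h2 χ = 1) := by
  rcases classify_odd h2 χ with h | h
  · have := (mem_KK h2 χ).mp h; tauto
  · tauto

theorem AR_deg {χ : IrrCharacter (S2 F)} (h : χ ∈ AR) : (χ : S2 F → ℂ) 1 = Fintype.card F + 1 := by
  obtain ⟨α, rfl⟩ := (mem_AR _).mp h
  exact Rc_one α
theorem AR_up {χ : IrrCharacter (S2 F)} (h : χ ∈ AR) {x : F} (hx : x ≠ 0) : (χ : S2 F → ℂ) (upS (Multiplicative.ofAdd x)) = 1 := by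
  obtain ⟨α, rfl⟩ := (mem_AR _).mp h
  exact Rc_up α hx
theorem H1_deg (h2 : (2 : F) ≠ 0) : (H1 h2 : S2 F → ℂ) 1 = ((Fintype.card F : ℂ) + 1) / 2 := by
  have h := (H_spec h2).2.1
  rw [o_one h2, h.1, h.2.1, h.2.2]; push_cast; ring
theorem H2_deg (h2 : (2 : F) ≠ 0) : (H2 h2 : S2 F → ℂ) 1 = ((Fintype.card F : ℂ) + 1) / 2 := by
  have h := (H_spec h2).2.2.1
  rw [o_one h2, h.1, h.2.1, h.2.2]; push_cast; ring
theorem H_deg (h2 : (2 : F) ≠ 0) {χ : IrrCharacter (S2 F)} (h : χ = H1 h2 ∨ χ = H2 h2) : (χ : S2 F → ℂ) 1 = ((Fintype.card F : ℂ) + 1) / 2 := by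
  rcases h with rfl | rfl
  · exact H1_deg h2
  · exact H2_deg h2
theorem C2_deg (h2 : (2 : F) ≠ 0) {χ : IrrCharacter (S2 F)} (h : o0 h2 χ = 0 ∧ o1 h2 χ = 1 ∧ o2 h2 χ = 1) : (χ : S2 F → ℂ) 1 = (Fintype.card F : ℂ) - 1 := by
  rw [o_one h2, h.1, h.2.1, h.2.2]; push_cast; ring
theorem C1_deg (h2 : (2 : F) ≠ 0) {χ : IrrCharacter (S2 F)} (h : o0 h2 χ = 0 ∧ o1 h2 χ = 1 ∧ o2 h2 χ = 0) : (χ : S2 F → ℂ) 1 = ((Fintype.card F : ℂ) - 1) / 2 := by
  rw [o_one h2, h.1, h.2.1, h.2.2]; push_cast; ring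
theorem C1'_deg (h2 : (2 : F) ≠ 0) {χ : IrrCharacter (S2 F)} (h : o0 h2 χ = 0 ∧ o1 h2 χ = 0 ∧ o2 h2 χ = 1) : (χ : S2 F → ℂ) 1 = ((Fintype.card F : ℂ) - 1) / 2 := by
  rw [o_one h2, h.1, h.2.1, h.2.2]; push_cast; ring

theorem half_p (h2 : (2 : F) ≠ 0) : (((Fintype.card F + 1) / 2 : ℕ) : ℂ) = ((Fintype.card F : ℂ) + 1) / 2 := by
  have := odd_card h2
  obtain ⟨k, hk⟩ : ∃ k, Fintype.card F = 2 * k + 1 := ⟨Fintype.card F / 2, by omega⟩
  rw [hk]
  have : (2 * k + 1 + 1) / 2 = k + 1 := by omega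
  rw [this]; push_cast; ring
theorem half_m (h2 : (2 : F) ≠ 0) : (((Fintype.card F - 1) / 2 : ℕ) : ℂ) = ((Fintype.card F : ℂ) - 1) / 2 := by
  have := odd_card h2
  obtain ⟨k, hk⟩ : ∃ k, Fintype.card F = 2 * k + 1 := ⟨Fintype.card F / 2, by omega⟩
  rw [hk]
  have : (2 * k + 1 - 1) / 2 = k := by omega
  rw [this]; push_cast; ring

theorem cq_ne (n : ℕ) (h : Fintype.card F ≠ n) : (Fintype.card F : ℂ) ≠ (n : ℂ) := fun e => h (Nat.cast_injective e)

theorem deg_q_odd (h2 : (2 : F) ≠ 0) {χ : IrrCharacter (S2 F)} : (χ : S2 F → ℂ) 1 = Fintype.card F ↔ χ = StS := by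
  have h3 := card_q_ge h2
  have n1 := cq_ne (F := F) 1 (by omega)
  push_cast at n1
  constructor
  · intro hd
    rcases kinds h2 χ with h | h | h | h | h | h | h
    · rw [h, tS_apply] at hd; exact absurd hd.symm n1
    · exact h
    · rw [AR_deg h] at hd; exact absurd (by linear_combination hd : (1 : ℂ) = 0) one_ne_zero
    · rw [H_deg h2 h] at hd; exact absurd (by linear_combination -2 * hd) n1
    · rw [C2_deg h2 h] at hd; exact absurd (by linear_combination -hd : (1 : ℂ) = 0) one_ne_zero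
    · rw [C1_deg h2 h] at hd
      have : (Fintype.card F : ℂ) + 1 = 0 := by linear_combination -2 * hd
      have h4 : ((Fintype.card F + 1 : ℕ) : ℂ) = 0 := by push_cast; exact this
      exact absurd (Nat.cast_eq_zero.mp h4) (by omega)
    · rw [C1'_deg h2 h] at hd
      have : (Fintype.card F : ℂ) + 1 = 0 := by linear_combination -2 * hd
      have h4 : ((Fintype.card F + 1 : ℕ) : ℂ) = 0 := by push_cast; exact this
      exact absurd (Nat.cast_eq_zero.mp h4) (by omega)
  · rintro rfl; exact StS_one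

theorem deg_q1_odd (h2 : (2 : F) ≠ 0) {χ : IrrCharacter (S2 F)} : (χ : S2 F → ℂ) 1 = Fintype.card F + 1 ↔ χ ∈ AR := by
  have h3 := card_q_ge h2
  have hp : (Fintype.card F : ℂ) + 1 ≠ 0 := by
    have : ((Fintype.card F + 1 : ℕ) : ℂ) ≠ 0 := Nat.cast_ne_zero.mpr (by omega)
    push_cast at this; exact this
  have hp3 : (Fintype.card F : ℂ) + 3 ≠ 0 := by
    have : ((Fintype.card F + 3 : ℕ) : ℂ) ≠ 0 := Nat.cast_ne_zero.mpr (by omega)
    push_cast at this; exact this
  constructor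
  · intro hd
    rcases kinds h2 χ with h | h | h | h | h | h | h
    · rw [h, tS_apply] at hd; exact absurd (by linear_combination -hd) (cq0 (F := F))
    · rw [h, StS_one] at hd; exact absurd (by linear_combination -hd : (1 : ℂ) = 0) one_ne_zero
    · exact h
    · rw [H_deg h2 h] at hd; exact absurd (by linear_combination -2 * hd) hp
    · rw [C2_deg h2 h] at hd; exact absurd (by linear_combination -hd : (2 : ℂ) = 0) two_ne_zero
    · rw [C1_deg h2 h] at hd; exact absurd (by linear_combination -2 * hd) hp3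
    · rw [C1'_deg h2 h] at hd; exact absurd (by linear_combination -2 * hd) hp3
  · exact AR_deg

theorem deg_1_odd (h2 : (2 : F) ≠ 0) (h5 : 5 ≤ Fintype.card F) {χ : IrrCharacter (S2 F)} : (χ : S2 F → ℂ) 1 = 1 ↔ χ = tS := by
  have n1 := cq_ne (F := F) 1 (by omega)
  have n2 := cq_ne (F := F) 2 (by omega)
  have n3 := cq_ne (F := F) 3 (by omega)
  push_cast at n1 n2 n3
  constructor
  · intro hd
    rcases kinds h2 χ with h | h | h | h | h | h | h
    · exact h
    · rw [h, StS_one] at hd; exact absurd hd n1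
    · rw [AR_deg h] at hd; exact absurd (by linear_combination hd) (cq0 (F := F))
    · rw [H_deg h2 h] at hd; exact absurd (by linear_combination 2 * hd) n1
    · rw [C2_deg h2 h] at hd; exact absurd (by linear_combination hd) n2
    · rw [C1_deg h2 h] at hd; exact absurd (by linear_combination 2 * hd) n3
    · rw [C1'_deg h2 h] at hd; exact absurd (by linear_combination 2 * hd) n3
  · rintro rfl; exact tS_apply 1

theorem deg_qm_odd (h2 : (2 : F) ≠ 0) (h5 : 5 ≤ Fintype.card F) {χ : IrrCharacter (S2 F)} : (χ : S2 F → ℂ) 1 = Fintype.card F - 1 ↔ (o0 h2 χ = 0 ∧ o1 h2 χ = 1 ∧ o2 h2 χ = 1) := by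
  have n1 := cq_ne (F := F) 1 (by omega)
  have n2 := cq_ne (F := F) 2 (by omega)
  have n3 := cq_ne (F := F) 3 (by omega)
  push_cast at n1 n2 n3
  constructor
  · intro hd
    rcases kinds h2 χ with h | h | h | h | h | h | h
    · rw [h, tS_apply] at hd; exact absurd (by linear_combination -hd) n2
    · rw [h, StS_one] at hd; exact absurd (by linear_combination hd : (1 : ℂ) = 0) one_ne_zero
    · rw [AR_deg h] at hd; exact absurd (by linear_combination hd : (2 : ℂ) = 0) two_ne_zero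
    · rw [H_deg h2 h] at hd; exact absurd (by linear_combination -2 * hd) n3
    · exact h
    · rw [C1_deg h2 h] at hd; exact absurd (by linear_combination -2 * hd) n1
    · rw [C1'_deg h2 h] at hd; exact absurd (by linear_combination -2 * hd) n1
  · exact C2_deg h2

theorem deg_hp_odd (h2 : (2 : F) ≠ 0) (h5 : 5 ≤ Fintype.card F) {χ : IrrCharacter (S2 F)} : (χ : S2 F → ℂ) 1 = (((Fintype.card F + 1) / 2 : ℕ) : ℂ) ↔ (χ = H1 h2 ∨ χ = H2 h2) := by
  have n1 := cq_ne (F := F) 1 (by omega)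
  have n3 := cq_ne (F := F) 3 (by omega)
  push_cast at n1 n3
  rw [half_p h2]
  have hp : (Fintype.card F : ℂ) + 1 ≠ 0 := by
    have : ((Fintype.card F + 1 : ℕ) : ℂ) ≠ 0 := Nat.cast_ne_zero.mpr (by omega)
    push_cast at this; exact this
  constructor
  · intro hd
    rcases kinds h2 χ with h | h | h | h | h | h | h
    · rw [h, tS_apply] at hd; exact absurd (by linear_combination -2 * hd) n1
    · rw [h, StS_one] at hd; exact absurd (by linear_combination 2 * hd) n1
    · rw [AR_deg h] at hd; exact absurd (by linear_combination 2 * hd) hp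
    · exact h
    · rw [C2_deg h2 h] at hd; exact absurd (by linear_combination 2 * hd) n3
    · rw [C1_deg h2 h] at hd; exact absurd (by linear_combination -hd : (1 : ℂ) = 0) one_ne_zero
    · rw [C1'_deg h2 h] at hd; exact absurd (by linear_combination -hd : (1 : ℂ) = 0) one_ne_zero
  · exact H_deg h2

theorem deg_hm_odd (h2 : (2 : F) ≠ 0) (h5 : 5 ≤ Fintype.card F) {χ : IrrCharacter (S2 F)} : (χ : S2 F → ℂ) 1 = (((Fintype.card F - 1) / 2 : ℕ) : ℂ) ↔
    ((o0 h2 χ = 0 ∧ o1 h2 χ = 1 ∧ o2 h2 χ = 0) ∨ (o0 h2 χ = 0 ∧ o1 h2 χ = 0 ∧ o2 h2 χ = 1)) := by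
  have n1 := cq_ne (F := F) 1 (by omega)
  have n3 := cq_ne (F := F) 3 (by omega)
  push_cast at n1 n3
  rw [half_m h2]
  have hp : (Fintype.card F : ℂ) + 1 ≠ 0 := by
    have : ((Fintype.card F + 1 : ℕ) : ℂ) ≠ 0 := Nat.cast_ne_zero.mpr (by omega)
    push_cast at this; exact this
  have hp3 : (Fintype.card F : ℂ) + 3 ≠ 0 := by
    have : ((Fintype.card F + 3 : ℕ) : ℂ) ≠ 0 := Nat.cast_ne_zero.mpr (by omega)
    push_cast at this; exact this
  constructor
  · intro hd
    rcases kinds h2 χ with h | h | h | h | h | h | h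
    · rw [h, tS_apply] at hd; exact absurd (by linear_combination -2 * hd) n3
    · rw [h, StS_one] at hd; exact absurd (by linear_combination 2 * hd) hp
    · rw [AR_deg h] at hd; exact absurd (by linear_combination 2 * hd) hp3
    · rw [H_deg h2 h] at hd; exact absurd (by linear_combination hd : (1 : ℂ) = 0) one_ne_zero
    · rw [C2_deg h2 h] at hd; exact absurd (by linear_combination 2 * hd) n1
    · exact Or.inl h
    · exact Or.inr h
  · rintro (h | h)
    · exact C1_deg h2 h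
    · exact C1'_deg h2 h

/-- sum over the root group -/
theorem sum_upS (f : S2 F → ℂ) : (∑ g : S2 F, if (g : M2 F) 1 0 = 0 ∧ (g : M2 F) 0 0 = 1 ∧ (g : M2 F) 1 1 = 1 then f g else 0) = ∑ x : F, f (upS (Multiplicative.ofAdd x)) := by
  symm
  refine Fintype.sum_of_injective (fun x : F => upS (Multiplicative.ofAdd x)) ?_ _ _ ?_ ?_
  · intro x y h
    have := congrFun (congrFun (congrArg (fun x : S2 F => (x : M2 F)) h) 0) 1
    simpa [upS_coe] using this
  · intro g hg
    rw [if_neg]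
    rintro ⟨h10, h00, h11⟩
    apply hg
    refine ⟨(g : M2 F) 0 1, sl_ext ?_⟩
    rw [upS_coe]
    apply ext4 <;> simp [h10, h00, h11]
  · intro x
    rw [upS_coe]
    simp

theorem sum_root (h2 : (2 : F) ≠ 0) (χ : IrrCharacter (S2 F)) : ∑ x : F, (χ : S2 F → ℂ) (upS (Multiplicative.ofAdd x)) = (Fintype.card F : ℂ) * o0 h2 χ := by
  have hcl := CfsgLib.CharBasic.IsCharacter.isClassFunction (CfsgLib.CharBasic.irr_isCharacter χ)
  have := sum_val h2 hcl (1 : AddChar F ℂ)
  simp only [AddChar.one_apply, map_one, mul_one] at this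
  rw [this, (o_spec h2 χ).1]
  have e2 : ∑ x : F, eta F x = 0 := MulChar.sum_eq_zero_of_ne_one (eta_ne h2)
  rw [e2]; simp; ring

/-- vanishing of the cuspidal characters on the split torus -/
theorem cusp_split {χ : S2 F → ℂ} (hχ : IsCharacter (S2 F) χ) (hs : ∑ x : F, χ (upS (Multiplicative.ofAdd x)) = 0) (g : S2 F)
    (h01 : (g : M2 F) 0 1 = 0) (h10 : (g : M2 F) 1 0 = 0) (ha : (g : M2 F) 0 0 ^ 2 ≠ 1) : χ g = 0 := by
  have hcl := CfsgLib.CharBasic.IsCharacter.isClassFunction hχ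
  have := coset_sum_zero hχ upS (by
    rw [← hs]; exact (Equiv.sum_comp Multiplicative.ofAdd (fun x : Multiplicative F => χ (upS x))).symm) g
  have hd := sl_det g
  rw [det_e, h01, zero_mul, sub_zero] at hd
  have hne : (g : M2 F) 0 0 ≠ (g : M2 F) 1 1 := by
    intro e; apply ha; rw [sq]; nth_rewrite 2 [e]; exact hd
  have hval : ∀ x : Multiplicative F, χ (g * upS x) = χ g := by
    intro x
    apply CfsgLib.CharBasic.IsClassFunction.eq_of_isConj hcl
    have hx : ((g * upS x : S2 F) : M2 F) = (g : M2 F) * !![1, Multiplicative.toAdd x; 0, 1] := rfl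
    have htr : ((g * upS x : S2 F) : M2 F).trace = (g : M2 F).trace := by
      rw [hx, tr_eq, tr_eq, mul_e00, mul_e11]; simp [h10]
    apply sl_isConj
    · rintro ⟨-, -, e⟩
      apply hne
      rw [hx, mul_e00, mul_e11] at e
      simpa [h01, h10] using e
    · exact not_isScal_of_diag hne
    · exact htr
    · by_cases h2 : (2 : F) = 0
      · exact Or.inr h2
      · left
        rw [htr, tr_eq]
        intro e
        apply hne
        have : ((g : M2 F) 0 0 - (g : M2 F) 1 1) ^ 2 = 0 := by linear_combination e - 4 * hd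
        exact sub_eq_zero.mp (pow_eq_zero_iff two_ne_zero |>.mp this)
  simp only [hval] at this
  rw [Finset.sum_const, Finset.card_univ, nsmul_eq_mul] at this
  rcases mul_eq_zero.mp this with h | h
  · exact absurd h (Nat.cast_ne_zero.mpr Fintype.card_ne_zero)
  · exact h

/-- the halves of the principal series agree off the unipotents -/
theorem H_val (h2 : (2 : F) ≠ 0) {χ : IrrCharacter (S2 F)} (h : χ = H1 h2 ∨ χ = H2 h2) (g : S2 F) (hg : (g : M2 F).trace ^ 2 ≠ 4) :
    (χ : S2 F → ℂ) g = Rf (eta F) 1 (g : M2 F) / 2 := by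
  have hs := H_spec h2
  have e1 : (H2 h2 : S2 F → ℂ) g = (H1 h2 : S2 F → ℂ) g := by
    rw [hs.2.2.2]
    exact CfsgLib.CharBasic.IsClassFunction.eq_of_isConj (CfsgLib.CharBasic.IsCharacter.isClassFunction (CfsgLib.CharBasic.irr_isCharacter _)) (tau_isConj h2 g hg)
  have e2 : Rf (eta F) 1 (g : M2 F) = (H1 h2 : S2 F → ℂ) g + (H2 h2 : S2 F → ℂ) g := congrFun hs.1 g
  rcases h with rfl | rfl
  · rw [e2, e1]; ring
  · rw [e2, e1]; ring

theorem aniso_tr {g : S2 F} (h2 : (2 : F) ≠ 0) (h : Aniso (g : M2 F)) : (g : M2 F).trace ^ 2 ≠ 4 := by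
  rcases aniso_disc h with h | h
  · rwa [sl_det, mul_one] at h
  · exact absurd h h2

theorem eta_neg_one (h2 : (2 : F) ≠ 0) : eta F (-1) = (-1 : ℂ) ^ ((Fintype.card F - 1) / 2) := by
  rw [eta_apply, quadraticChar_neg_one (ringChar_ne h2), ZMod.χ₄_eq_neg_one_pow (odd_card h2)]
  have : Fintype.card F / 2 = (Fintype.card F - 1) / 2 := by have := odd_card h2; omega
  rw [this]; push_cast; rfl

/-- the quadratic character is the only one of order two -/
theorem eq_eta (h2 : (2 : F) ≠ 0) {α : MulChar F ℂ} (h : α ^ 2 = 1) (h1 : α ≠ 1) : α = eta F := by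
  classical
  haveI : Fintype (MulChar F ℂ) := Fintype.ofFinite _
  have hc := card_sq_one (F := F)
  rw [card_usq_odd h2] at hc
  have he : (eta F) ^ 2 = 1 := by
    have := eta_inv (F := F)
    rw [sq]
    nth_rewrite 1 [← this]
    exact inv_mul_cancel _
  by_contra hne
  have hsub : ({1, eta F, α} : Finset (MulChar F ℂ)) ⊆ Finset.univ.filter (fun α : MulChar F ℂ => α ^ 2 = 1) := by
    intro x hx
    simp only [Finset.mem_insert, Finset.mem_singleton] at hx
    rw [Finset.mem_filter]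
    refine ⟨Finset.mem_univ _, ?_⟩
    rcases hx with rfl | rfl | rfl
    · exact one_pow 2
    · exact he
    · exact h
  have := Finset.card_le_card hsub
  rw [← Fintype.card_subtype, ← Nat.card_eq_fintype_card, hc, Finset.card_insert_of_notMem, Finset.card_insert_of_notMem, Finset.card_singleton] at this
  · omega
  · simp; exact fun e => hne e.symm
  · simp; exact ⟨fun e => eta_ne h2 e.symm, fun e => h1 e.symm⟩

end CfsgLib.GL2a
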