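import Cfsg.Agent.Lib.GLd4
set_option autoImplicit false
set_option linter.style.haveILetI false
set_option linter.unusedSectionVars false

/-! Tori of `SL₂`. -/

namespace CfsgLib.GL2a
open Matrix Cfsg

section general
variable {G : Type*} [Group G] [Finite G]

/-- number of classes by commuting pairs -/
theorem card_classes_of_sum [Fintype G] (k : ℕ) (h : ∑ g : G, Nat.card (Subgroup.centralizer ({g} : Set G)) = k * Nat.card G) : Nat.card (ConjClasses G) = k := by
  have h1 := card_comm_eq_card_conjClasses_mul_card G
  have h2 : Nat.card {p : G × G // Commute p.1 p.2} = ∑ g : G, Nat.card (Subgroup.centralizer ({g} : Set G)) := by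
    have e : {p : G × G // Commute p.1 p.2} ≃ Σ g : G, Subgroup.centralizer ({g} : Set G) :=
      ⟨fun p => ⟨p.1.1, p.1.2, Subgroup.mem_centralizer_singleton_iff.mpr p.2.symm⟩, fun x => ⟨(x.1, x.2.1), (Subgroup.mem_centralizer_singleton_iff.mp x.2.2).symm⟩, fun p => rfl, fun x => rfl⟩
    rw [Nat.card_congr e, Nat.card_sigma]
  rw [h2, h] at h1
  exact (Nat.eq_of_mul_eq_mul_right Nat.card_pos h1).symm

/-- classes of a dicyclic group -/
theorem dic_classes (T : Subgroup G) (hT : ∀ a ∈ T, ∀ b ∈ T, a * b = b * a) {n : ℕ} (hn : Nat.card T = 2 * n) (hidx : T.index = 2)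
    (z : G) (hz : z ∈ T) (hz1 : z ≠ 1) (hinv : ∀ a ∈ T, a * a = 1 → a = 1 ∨ a = z) (hzz : z * z = 1)
    (hout : ∀ g, g ∉ T → (∀ c ∈ T, g * c * g⁻¹ = c⁻¹) ∧ g * g = z) : Nat.card (ConjClasses G) = n + 3 := by
  classical
  haveI := Fintype.ofFinite G
  have hG : Nat.card G = 4 * n := by
    have := T.card_mul_index
    rw [hn, hidx] at this; omega
  apply card_classes_of_sum
  -- split the sum
  have hex : ∃ w, w ∉ T := by
    by_contra h
    push Not at h
    have : T = ⊤ := eq_top_iff.mpr (fun x _ => h x)
    rw [this, Subgroup.index_top] at hidx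
    omega
  obtain ⟨w, hw⟩ := hex
  have hcen : ∀ g : G, g * z = z * g := by
    intro g
    by_cases hg : g ∈ T
    · exact hT g hg z hz
    · have := (hout g hg).1 z hz
      have hzi : z⁻¹ = z := inv_eq_of_mul_eq_one_right hzz
      rw [hzi] at this
      calc g * z = g * z * g⁻¹ * g := by group
        _ = z * g := by rw [this]
  have c1 : ∀ g, (g = 1 ∨ g = z) → Nat.card (Subgroup.centralizer ({g} : Set G)) = 4 * n := by
    intro g hg
    rw [← hG]
    have : Subgroup.centralizer ({g} : Set G) = ⊤ := by
      rw [eq_top_iff]; intro x _; rw [Subgroup.mem_centralizer_singleton_iff]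
      rcases hg with rfl | rfl
      · simp
      · exact hcen x
    rw [this]; exact Nat.card_congr Subgroup.topEquiv.toEquiv
  have c2 : ∀ g ∈ T, g ≠ 1 → g ≠ z → Nat.card (Subgroup.centralizer ({g} : Set G)) = 2 * n := by
    intro g hg h1 h2
    rw [← hn]
    have : Subgroup.centralizer ({g} : Set G) = T := by
      ext x
      rw [Subgroup.mem_centralizer_singleton_iff]
      constructor
      · intro hx
        by_contra hxT
        have := (hout x hxT).1 g hg
        have h3 : g = g⁻¹ := by rw [← this, hx]; group
        have h4 : g * g = 1 := by nth_rewrite 1 [h3]; group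
        rcases hinv g hg h4 with h | h
        · exact h1 h
        · exact h2 h
      · intro hx; exact hT x hx g hg
    rw [this]
  have c3 : ∀ g, g ∉ T → Nat.card (Subgroup.centralizer ({g} : Set G)) = 4 := by
    intro g hg
    have hgz : g * g = z := (hout g hg).2
    have key : ∀ x : G, x ∈ Subgroup.centralizer ({g} : Set G) ↔ x ∈ ({1, z, g, g * z} : Finset G) := by
      intro x
      rw [Subgroup.mem_centralizer_singleton_iff]
      simp only [Finset.mem_insert, Finset.mem_singleton]
      constructor
      · intro hx
        have inT : ∀ c ∈ T, c * g = g * c → c = 1 ∨ c = z := by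
          intro c hc hcg
          have := (hout g hg).1 c hc
          rw [← hcg] at this
          have h3 : c = c⁻¹ := by rw [← this]; group
          have h4 : c * c = 1 := by nth_rewrite 1 [h3]; group
          exact hinv c hc h4
        by_cases hxT : x ∈ T
        · rcases inT x hxT hx with h | h
          · exact Or.inl h
          · exact Or.inr (Or.inl h)
        · have hc : g⁻¹ * x ∈ T := by
            have := Subgroup.mul_mem_iff_of_index_two hidx (a := g⁻¹) (b := x)
            rw [this]
            constructor
            · intro h; exact absurd (inv_mem_iff.mp h) hg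
            · intro h; exact absurd h hxT
          have hcomm : (g⁻¹ * x) * g = g * (g⁻¹ * x) := by rw [mul_assoc, hx]; group
          rcases inT _ hc hcomm with h | h
          · right; right; left; rw [inv_mul_eq_one] at h; exact h.symm
          · right; right; right; rw [inv_mul_eq_iff_eq_mul] at h; exact h
      · rintro (rfl | rfl | rfl | rfl)
        · simp
        · exact (hcen g).symm
        · rfl
        · rw [mul_assoc, ← hcen g]
    have hcard : ({1, z, g, g * z} : Finset G).card = 4 := by
      have hg1 : g ≠ 1 := fun h => hg (h ▸ T.one_mem)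
      have hgz' : g ≠ z := fun h => hg (h ▸ hz)
      rw [Finset.card_insert_of_notMem, Finset.card_insert_of_notMem, Finset.card_insert_of_notMem, Finset.card_singleton]
      · rw [Finset.mem_singleton]; intro h; exact hz1 (by rw [left_eq_mul] at h; exact h)
      · rw [Finset.mem_insert, Finset.mem_singleton]; rintro (h | h)
        · exact hgz' h.symm
        · exact hg1 (by rw [eq_comm, mul_eq_right] at h; exact h)
      · rw [Finset.mem_insert, Finset.mem_insert, Finset.mem_singleton]; rintro (h | h | h)
        · exact hz1 h.symm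
        · exact hg1 h.symm
        · have : g = z⁻¹ := eq_inv_of_mul_eq_one_left h.symm
          exact hgz' (by rw [this]; exact inv_eq_of_mul_eq_one_right hzz)
    rw [← hcard, ← Fintype.card_coe, ← Nat.card_eq_fintype_card]
    exact Nat.card_congr (Equiv.subtypeEquivRight key)
  have hsplit : ∑ g : G, Nat.card (Subgroup.centralizer ({g} : Set G)) =
      ∑ g : G, (if g ∈ T then (if g = 1 ∨ g = z then 4 * n else 2 * n) else 4) := by
    refine Finset.sum_congr rfl fun g _ => ?_
    split_ifs with h h'
    · exact c1 g h'
    · push Not at h'; exact c2 g h h'.1 h'.2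
    · exact c3 g h
  rw [hsplit, Finset.sum_ite, Finset.sum_ite, Finset.sum_const, Finset.sum_const, Finset.sum_const]
  have f1 : (Finset.univ.filter (fun g : G => g ∈ T)).card = 2 * n := by
    rw [← hn, Nat.card_eq_fintype_card, Fintype.card_subtype]
  have f2 : ((Finset.univ.filter (fun g : G => g ∈ T)).filter (fun g => g = 1 ∨ g = z)).card = 2 := by
    have : (Finset.univ.filter (fun g : G => g ∈ T)).filter (fun g => g = 1 ∨ g = z) = {1, z} := by
      ext g
      simp only [Finset.mem_filter, Finset.mem_univ, true_and, Finset.mem_insert, Finset.mem_singleton]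
      constructor
      · exact fun h => h.2
      · rintro (rfl | rfl)
        · exact ⟨T.one_mem, Or.inl rfl⟩
        · exact ⟨hz, Or.inr rfl⟩
    rw [this, Finset.card_pair hz1.symm]
  have f3 := Finset.card_filter_add_card_filter_not (s := Finset.univ.filter (fun g : G => g ∈ T)) (fun g => g = 1 ∨ g = z)
  have f4 := Finset.card_filter_add_card_filter_not (s := (Finset.univ : Finset G)) (fun g => g ∈ T)
  rw [f1, Finset.card_univ, ← Nat.card_eq_fintype_card, hG] at f4
  rw [f1, f2] at f3
  have f5 : (Finset.univ.filter (fun g : G => g ∉ T)).card = 2 * n := by omega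
  have f6 : ((Finset.univ.filter (fun g : G => g ∈ T)).filter (fun g => ¬ (g = 1 ∨ g = z))).card = 2 * n - 2 := by omega
  have hnpos : 1 ≤ n := by
    by_contra h
    have : n = 0 := by omega
    rw [this] at f3; omega
  rw [f2, f5, f6, hG]
  simp only [smul_eq_mul]
  obtain ⟨k, rfl⟩ := Nat.exists_eq_add_of_le hnpos
  have : 2 * (1 + k) - 2 = 2 * k := by omega
  rw [this]; ring
end general

variable {F : Type*} [Field F]

/-- the centraliser of an anisotropic element is cyclic -/
theorem aniso_cyclic [Finite F] (g : S2 F) (h : Aniso (g : M2 F)) : IsCyclic (Subgroup.centralizer ({g} : Set (S2 F))) := by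
  classical
  let K := AlgebraicClosure F
  have h10 : (g : M2 F) 1 0 ≠ 0 := by
    intro h10
    refine h ((g : M2 F) 0 0) ![1, 0] (fun e => one_ne_zero (congrFun e 0)) ?_
    ext i; fin_cases i <;> simp [Matrix.mulVec, dotProduct, Fin.sum_univ_two, h10]
  obtain ⟨lam, hlam⟩ : ∃ l : K, l ^ 2 - algebraMap F K (g : M2 F).trace * l + 1 = 0 := by
    have hdeg : ((Polynomial.X ^ 2 - Polynomial.C (algebraMap F K (g : M2 F).trace) * Polynomial.X + 1 : Polynomial K)).degree ≠ 0 := by
      have : ((Polynomial.X ^ 2 - Polynomial.C (algebraMap F K (g : M2 F).trace) * Polynomial.X + 1 : Polynomial K)).degree = 2 := by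
        have := Polynomial.degree_quadratic (a := (1 : K)) (b := - algebraMap F K (g : M2 F).trace) (c := 1) one_ne_zero
        rw [← this]; congr 1; simp; ring
      rw [this]; norm_num
    obtain ⟨l, hl⟩ := IsAlgClosed.exists_root _ hdeg
    exact ⟨l, by simpa [Polynomial.IsRoot] using hl⟩
  have hnot : ∀ c : F, algebraMap F K c ≠ lam := by
    rintro c rfl
    refine (not_aniso_iff (g : M2 F)).mpr ⟨c, ?_⟩ h
    apply (algebraMap F K).injective
    rw [map_zero, ← hlam, sl_det]; simp
  have hform : ∀ x : Subgroup.centralizer ({g} : Set (S2 F)), ∃ a b : F, ((x : S2 F) : M2 F) = a • (1 : M2 F) + b • (g : M2 F) := by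
    intro x
    refine (comm_iff (g : M2 F) _ (aniso_not_isScal h)).mp ?_
    have := Subgroup.mem_centralizer_singleton_iff.mp x.2
    exact (congrArg (fun y : S2 F => (y : M2 F)) this).symm
  let f0 : M2 F → K := fun X => algebraMap F K (X 0 0 - X 1 0 / (g : M2 F) 1 0 * (g : M2 F) 0 0) + algebraMap F K (X 1 0 / (g : M2 F) 1 0) * lam
  have f0_eq : ∀ a b : F, f0 (a • (1 : M2 F) + b • (g : M2 F)) = algebraMap F K a + algebraMap F K b * lam := by
    intro a b
    have e1 : (a • (1 : M2 F) + b • (g : M2 F)) 1 0 / (g : M2 F) 1 0 = b := by simp; field_simp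
    have e2 : (a • (1 : M2 F) + b • (g : M2 F)) 0 0 - b * (g : M2 F) 0 0 = a := by simp
    change algebraMap F K ((a • (1 : M2 F) + b • (g : M2 F)) 0 0 - (a • (1 : M2 F) + b • (g : M2 F)) 1 0 / (g : M2 F) 1 0 * (g : M2 F) 0 0) + algebraMap F K ((a • (1 : M2 F) + b • (g : M2 F)) 1 0 / (g : M2 F) 1 0) * lam = _
    rw [e1, e2]
  have hch : (g : M2 F) * (g : M2 F) = (g : M2 F).trace • (g : M2 F) - 1 := by
    have hd := sl_det g
    rw [det_e] at hd
    apply ext4 <;> simp only [mul_e00, mul_e01, mul_e10, mul_e11, Matrix.sub_apply, Matrix.smul_apply, smul_eq_mul, tr_eq] <;> simp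
    · linear_combination -hd
    · ring
    · ring
    · linear_combination -hd
  let f : Subgroup.centralizer ({g} : Set (S2 F)) →* K :=
    { toFun := fun x => f0 ((x : S2 F) : M2 F)
      map_one' := by
        have : (((1 : Subgroup.centralizer ({g} : Set (S2 F))) : S2 F) : M2 F) = (1 : F) • (1 : M2 F) + (0 : F) • (g : M2 F) := by simp
        rw [this, f0_eq]; simp
      map_mul' := by
        intro x y
        obtain ⟨a, b, hx⟩ := hform x
        obtain ⟨c, d, hy⟩ := hform y
        have hxy : (((x * y : Subgroup.centralizer ({g} : Set (S2 F))) : S2 F) : M2 F) = (a * c - b * d) • (1 : M2 F) + (a * d + b * c + (g : M2 F).trace * b * d) • (g : M2 F) := by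
          have : (((x * y : Subgroup.centralizer ({g} : Set (S2 F))) : S2 F) : M2 F) = ((x : S2 F) : M2 F) * ((y : S2 F) : M2 F) := rfl
          rw [this, hx, hy]
          have : (a • (1 : M2 F) + b • (g : M2 F)) * (c • (1 : M2 F) + d • (g : M2 F)) = (a * c) • (1 : M2 F) + (a * d + b * c) • (g : M2 F) + (b * d) • ((g : M2 F) * (g : M2 F)) := by
            simp only [add_mul, mul_add, Matrix.smul_mul, Matrix.mul_smul, one_mul, mul_one, smul_smul, add_smul]
            rw [mul_comm c a, mul_comm c b, mul_comm d a, mul_comm d b]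
            abel
          rw [this, hch]
          ext i j
          simp only [Matrix.add_apply, Matrix.smul_apply, Matrix.sub_apply, smul_eq_mul]
          ring
        rw [hxy, f0_eq, hx, hy, f0_eq, f0_eq]
        simp only [map_sub, map_add, map_mul]
        linear_combination -(algebraMap F K b * algebraMap F K d) * hlam }
  refine isCyclic_of_subgroup_isDomain f ?_
  intro x y hxy
  obtain ⟨a, b, hx⟩ := hform x
  obtain ⟨c, d, hy⟩ := hform y
  have e : f0 ((x : S2 F) : M2 F) = f0 ((y : S2 F) : M2 F) := hxy
  rw [hx, hy, f0_eq, f0_eq] at e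
  have hbd : b = d := by
    by_contra hne
    apply hnot ((c - a) / (b - d))
    have : algebraMap F K (b - d) ≠ 0 := by
      rw [Ne, map_eq_zero]; exact sub_ne_zero.mpr hne
    rw [map_div₀, div_eq_iff this]
    simp only [map_sub]
    linear_combination -e
  subst hbd
  have hac : a = c := by
    apply (algebraMap F K).injective
    linear_combination e
  subst hac
  apply Subtype.ext
  apply sl_ext
  rw [hx, hy]

end CfsgLib.GL2a
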