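import Cfsg.Agent.Lib.GLe1
set_option autoImplicit false
set_option linter.style.haveILetI false
set_option linter.unusedSectionVars false

/-! Normalizers of tori of `SL₂`. -/

namespace CfsgLib.GL2a
open Matrix Cfsg

variable {F : Type*} [Field F]

/-- centralizer as a subgroup -/
abbrev TT (g : S2 F) : Subgroup (S2 F) := Subgroup.centralizer ({g} : Set (S2 F))

theorem mem_TT {g x : S2 F} (hg : ¬ IsScal (g : M2 F)) : x ∈ TT g ↔ ∃ a b : F, (x : M2 F) = a • (1 : M2 F) + b • (g : M2 F) := by
  rw [← comm_iff (g : M2 F) _ hg]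
  constructor
  · intro h
    have := Subgroup.mem_centralizer_singleton_iff.mp h
    exact (congrArg (fun y : S2 F => (y : M2 F)) this).symm
  · intro h
    exact Subgroup.mem_centralizer_singleton_iff.mpr (sl_ext h.symm)

theorem mem_TT_comm {g x : S2 F} : x ∈ TT g ↔ g * x = x * g := by
  rw [TT, Subgroup.mem_centralizer_singleton_iff]
  exact eq_comm

theorem TT_self (g : S2 F) : g ∈ TT g := mem_TT_comm.mpr rfl

theorem ch2 (g : S2 F) : (g : M2 F) * (g : M2 F) = (g : M2 F).trace • (g : M2 F) - 1 := by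
  have hd := sl_det g
  rw [det_e] at hd
  apply ext4 <;> simp only [mul_e00, mul_e01, mul_e10, mul_e11, Matrix.sub_apply, Matrix.smul_apply, smul_eq_mul, tr_eq] <;> simp
  · linear_combination -hd
  · ring
  · ring
  · linear_combination -hd

theorem sl_inv_eq (g : S2 F) : ((g⁻¹ : S2 F) : M2 F) = (g : M2 F).trace • (1 : M2 F) - (g : M2 F) := by
  rw [Matrix.SpecialLinearGroup.SL2_inv_expl]
  apply ext4 <;> simp [tr_eq]

theorem sl_inv_trace (g : S2 F) : ((g⁻¹ : S2 F) : M2 F).trace = (g : M2 F).trace := by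
  rw [sl_inv_eq, tr_eq, tr_eq]
  simp; ring

theorem sl_sq_one {c : S2 F} (h2 : (2 : F) ≠ 0) (hc : c * c = 1) : c = 1 ∨ c = -1 := by
  have h1 := ch2 c
  have h0 : (c : M2 F) * (c : M2 F) = 1 := by
    have := congrArg (fun y : S2 F => (y : M2 F)) hc
    simpa using this
  rw [h0] at h1
  have e00 := congrFun (congrFun h1 0) 0
  have e01 := congrFun (congrFun h1 0) 1
  have e10 := congrFun (congrFun h1 1) 0
  have e11 := congrFun (congrFun h1 1) 1
  simp at e00 e01 e10 e11
  have ht : (c : M2 F).trace ≠ 0 := by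
    intro h0; rw [h0] at e00
    apply h2; linear_combination e00
  have z01 : (c : M2 F) 0 1 = 0 := by
    rcases e01 with h | h
    · exact absurd h ht
    · exact h
  have z10 : (c : M2 F) 1 0 = 0 := by
    rcases e10 with h | h
    · exact absurd h ht
    · exact h
  have z : (c : M2 F) 0 0 = (c : M2 F) 1 1 := by
    apply mul_left_cancel₀ ht
    linear_combination e11 - e00
  obtain ⟨b, hb⟩ := scal_sl (g := c) ⟨z01, z10, z⟩
  cases b
  · by_cases hs : (sg false : F) = 1
    · left; apply sl_ext; rw [hb, hs]; simp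
    · right; apply sl_ext; rw [hb]
      have : (sg false : F) = -1 := by
        have := sg_sq (F := F) false
        rcases mul_self_eq_one_iff.mp this with h | h
        · exact absurd h hs
        · exact h
      rw [this]; simp
  · by_cases hs : (sg true : F) = 1
    · left; apply sl_ext; rw [hb, hs]; simp
    · right; apply sl_ext; rw [hb]
      have : (sg true : F) = -1 := by
        have := sg_sq (F := F) true
        rcases mul_self_eq_one_iff.mp this with h | h
        · exact absurd h hs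
        · exact h
      rw [this]; simp

theorem scal_sl' {g : S2 F} (hs : IsScal (g : M2 F)) : g = 1 ∨ g = -1 := by
  obtain ⟨b, hb⟩ := scal_sl hs
  rcases mul_self_eq_one_iff.mp (sg_sq (F := F) b) with h | h
  · left; apply sl_ext; rw [hb, h]; simp
  · right; apply sl_ext; rw [hb, h]; simp

theorem isScal_one : IsScal (((1 : S2 F)) : M2 F) := by simp [IsScal]
theorem isScal_neg_one : IsScal (((-1 : S2 F)) : M2 F) := by simp [IsScal]

theorem TT_comm {g : S2 F} (hg : ¬ IsScal (g : M2 F)) {x y : S2 F} (hx : x ∈ TT g) (hy : y ∈ TT g) : x * y = y * x := by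
  obtain ⟨a, b, hx⟩ := (mem_TT hg).mp hx
  obtain ⟨c, d, hy⟩ := (mem_TT hg).mp hy
  apply sl_ext
  rw [Matrix.SpecialLinearGroup.coe_mul, Matrix.SpecialLinearGroup.coe_mul, hx, hy]
  simp only [add_mul, mul_add, Matrix.smul_mul, Matrix.mul_smul, one_mul, mul_one, smul_smul, add_smul]
  rw [mul_comm c a, mul_comm c b, mul_comm d a, mul_comm d b]
  abel

theorem TT_eq {g : S2 F} (hg : ¬ IsScal (g : M2 F)) {c : S2 F} (hc : c ∈ TT g) (hs : ¬ IsScal (c : M2 F)) : TT c = TT g := by
  have hgc : g ∈ TT c := by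
    rw [mem_TT_comm] at hc ⊢; exact hc.symm
  ext x
  constructor
  · intro hx
    exact mem_TT_comm.mpr (TT_comm hs hgc hx)
  · intro hx
    exact mem_TT_comm.mpr (TT_comm hg hc hx)

/-- conjugation in `N(T)` -/
theorem norm_cases {g : S2 F} (hg : ¬ IsScal (g : M2 F)) (ht : (g : M2 F).trace ^ 2 ≠ 4) (h2 : (2 : F) ≠ 0) {x : S2 F} (hx : x ∈ TT g) (htr : (x : M2 F).trace = (g : M2 F).trace) :
    x = g ∨ x = g⁻¹ := by
  obtain ⟨a, b, hab⟩ := (mem_TT hg).mp hx
  have h1 : 2 * a + b * (g : M2 F).trace = (g : M2 F).trace := by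
    have e0 := congrFun (congrFun hab 0) 0
    have e1 := congrFun (congrFun hab 1) 1
    simp at e0 e1
    rw [tr_eq] at htr
    rw [e0, e1, tr_eq] at htr
    rw [tr_eq]
    linear_combination htr
  have hd : (x : M2 F).det = 1 := sl_det x
  rw [hab, det_lin, sl_det g] at hd
  have h4 : (b ^ 2 - 1) * ((g : M2 F).trace ^ 2 - 4) = 0 := by
    linear_combination (4 : F) * (-1) * hd + (2 * a + b * (g : M2 F).trace + (g : M2 F).trace) * h1
  have hb : b ^ 2 = 1 := by
    rcases mul_eq_zero.mp h4 with h | h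
    · linear_combination h
    · exact absurd (by linear_combination h) ht
  rw [sq] at hb
  rcases mul_self_eq_one_iff.mp hb with rfl | rfl
  · left
    have ha : a = 0 := by
      apply mul_left_cancel₀ h2
      linear_combination h1
    apply sl_ext; rw [hab, ha]; simp
  · right
    have ha : a = (g : M2 F).trace := by
      apply mul_left_cancel₀ h2
      linear_combination h1
    apply sl_ext; rw [hab, sl_inv_eq, ha]; simp [sub_eq_add_neg]

theorem inv_act {g : S2 F} (hg : ¬ IsScal (g : M2 F)) {w : S2 F} (hw : w * g * w⁻¹ = g⁻¹) {c : S2 F} (hc : c ∈ TT g) : w * c * w⁻¹ = c⁻¹ := by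
  obtain ⟨a, b, hab⟩ := (mem_TT hg).mp hc
  have hw' : (w : M2 F) * (g : M2 F) = ((g⁻¹ : S2 F) : M2 F) * (w : M2 F) := by
    have : w * g = g⁻¹ * w := by rw [← hw]; group
    exact congrArg (fun y : S2 F => (y : M2 F)) this
  rw [mul_inv_eq_iff_eq_mul]
  apply sl_ext
  rw [Matrix.SpecialLinearGroup.coe_mul, Matrix.SpecialLinearGroup.coe_mul, sl_inv_eq, hab, mul_add, Matrix.mul_smul, Matrix.mul_smul, hw', sl_inv_eq, tr_eq]
  have hw2 : (w : M2 F) * 1 = 1 * (w : M2 F) := by simp
  rw [hw2, ← Matrix.smul_mul, ← Matrix.smul_mul, ← add_mul]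
  congr 1
  apply ext4 <;> simp [tr_eq] <;> ring

theorem ne_inv {g : S2 F} (hg : ¬ IsScal (g : M2 F)) (h2 : (2 : F) ≠ 0) : g ≠ g⁻¹ := by
  intro h
  have : g * g = 1 := by nth_rewrite 2 [h]; simp
  rcases sl_sq_one h2 this with h | h
  · exact hg (h ▸ isScal_one)
  · exact hg (h ▸ isScal_neg_one)

theorem w_notMem {g : S2 F} (hg : ¬ IsScal (g : M2 F)) (h2 : (2 : F) ≠ 0) {w : S2 F} (hw : w * g * w⁻¹ = g⁻¹) : w ∉ TT g := by
  intro h
  rw [mem_TT_comm] at h
  rw [← h] at hw
  exact ne_inv hg h2 (by simpa using hw)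

theorem w_sq {g : S2 F} (hg : ¬ IsScal (g : M2 F)) (h2 : (2 : F) ≠ 0) {w : S2 F} (hw : w * g * w⁻¹ = g⁻¹) : w * w = -1 := by
  have hmem : w * w ∈ TT g := by
    rw [mem_TT_comm]
    have : w * w * g * (w * w)⁻¹ = g := by
      calc w * w * g * (w * w)⁻¹ = w * (w * g * w⁻¹) * w⁻¹ := by group
        _ = w * g⁻¹ * w⁻¹ := by rw [hw]
        _ = (w * g * w⁻¹)⁻¹ := by group
        _ = g := by rw [hw, inv_inv]
    calc g * (w * w) = (w * w * g * (w * w)⁻¹) * (w * w) := by rw [this]
      _ = w * w * g := by group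
  have h1 := inv_act hg hw hmem
  have h3 : w * (w * w) * w⁻¹ = w * w := by group
  rw [h3] at h1
  have h4 : (w * w) * (w * w) = 1 := by nth_rewrite 2 [h1]; simp
  rcases sl_sq_one h2 h4 with h | h
  · exfalso
    have hns := w_notMem hg h2 hw
    apply hns
    rcases sl_sq_one h2 h with h | h
    · rw [h, mem_TT_comm]; simp
    · rw [h, mem_TT_comm]; simp
  · exact h

theorem exists_w [Finite F] {g : S2 F} (hg : ¬ IsScal (g : M2 F)) (ht : (g : M2 F).trace ^ 2 ≠ 4) : ∃ w : S2 F, w * g * w⁻¹ = g⁻¹ := by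
  have : IsConj g g⁻¹ := by
    refine sl_isConj hg ?_ (sl_inv_trace g).symm (Or.inl ht)
    intro h
    apply hg
    have h1 := h.1; have h2 := h.2.1; have h3 := h.2.2
    rw [sl_inv_eq] at h1 h2 h3
    simp at h1 h2 h3
    exact ⟨h1, h2, h3⟩
  obtain ⟨c, hc⟩ := isConj_iff.mp this
  exact ⟨c, hc⟩

theorem mem_norm {g : S2 F} (hg : ¬ IsScal (g : M2 F)) (ht : (g : M2 F).trace ^ 2 ≠ 4) (h2 : (2 : F) ≠ 0) {h : S2 F} :
    h ∈ Subgroup.normalizer ((TT g : Subgroup (S2 F)) : Set (S2 F)) ↔ h ∈ TT g ∨ h * g * h⁻¹ = g⁻¹ := by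
  constructor
  · intro hh
    have h1 : h * g * h⁻¹ ∈ TT g := (Subgroup.mem_normalizer_iff.mp hh g).mp (TT_self g)
    have h3 : ((h * g * h⁻¹ : S2 F) : M2 F).trace = (g : M2 F).trace := by
      exact sl_trace_eq (isConj_iff.mpr ⟨h⁻¹, by group⟩)
    rcases norm_cases hg ht h2 h1 h3 with e | e
    · left
      rw [mem_TT_comm]
      rw [mul_inv_eq_iff_eq_mul] at e
      exact e.symm
    · exact Or.inr e
  · rintro (hh | hh)
    · exact Subgroup.le_normalizer hh
    · rw [Subgroup.mem_normalizer_iff]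
      intro c
      constructor
      · intro hc
        rw [inv_act hg hh hc]; exact inv_mem hc
      · intro hc
        have hh' : h⁻¹ * g * h⁻¹⁻¹ = g⁻¹ := by
          rw [inv_inv]
          have : g = h⁻¹ * g⁻¹ * h := by rw [← hh]; group
          have h5 := congrArg (fun y => y⁻¹) this
          simp only [_root_.mul_inv_rev, inv_inv] at h5
          rw [h5]; group
        have := inv_act hg hh' hc
        have e : h⁻¹ * (h * c * h⁻¹) * h⁻¹⁻¹ = c := by group
        rw [e] at this
        rw [this]; exact inv_mem hc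

theorem cases_norm {g : S2 F} (hg : ¬ IsScal (g : M2 F)) (ht : (g : M2 F).trace ^ 2 ≠ 4) (h2 : (2 : F) ≠ 0) {n : ℕ} (hn : Nat.card (TT g) = 2 * n) [Finite F] :
    Nat.card (Subgroup.normalizer ((TT g : Subgroup (S2 F)) : Set (S2 F))) = 2 * Nat.card (TT g) ∧
    Nat.card (ConjClasses (Subgroup.normalizer ((TT g : Subgroup (S2 F)) : Set (S2 F)))) = n + 3 := by
  obtain ⟨w, hw⟩ := exists_w hg ht
  have hwN : w ∈ Subgroup.normalizer ((TT g : Subgroup (S2 F)) : Set (S2 F)) := (mem_norm hg ht h2).mpr (Or.inr hw)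
  have hle : TT g ≤ Subgroup.normalizer ((TT g : Subgroup (S2 F)) : Set (S2 F)) := Subgroup.le_normalizer
  set N := Subgroup.normalizer ((TT g : Subgroup (S2 F)) : Set (S2 F)) with hN
  let T := (TT g).subgroupOf N
  have hTc : Nat.card T = 2 * n := by
    rw [← hn]
    exact Nat.card_congr (Subgroup.subgroupOfEquivOfLe hle).toEquiv
  have hidx : T.index = 2 := by
    rw [Subgroup.index_eq_two_iff]
    refine ⟨⟨w, hwN⟩, fun b => ?_⟩
    rcases (mem_norm hg ht h2).mp b.2 with hb | hb
    · right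
      refine ⟨Subgroup.mem_subgroupOf.mpr hb, ?_⟩
      intro hbw
      have : (b : S2 F) * w ∈ TT g := Subgroup.mem_subgroupOf.mp hbw
      exact w_notMem hg h2 hw (by simpa using mul_mem (inv_mem hb) this)
    · left
      refine ⟨Subgroup.mem_subgroupOf.mpr ?_, ?_⟩
      · change (b : S2 F) * w ∈ TT g
        rw [mem_TT_comm]
        have hg' : (b : S2 F) * g⁻¹ * (b : S2 F)⁻¹ = g := by
          have := congrArg (fun y => y⁻¹) hb
          simp only [_root_.mul_inv_rev, inv_inv] at this
          rw [← mul_assoc] at this; exact this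
        have e : (b : S2 F) * w * g * ((b : S2 F) * w)⁻¹ = g := by
          calc (b : S2 F) * w * g * ((b : S2 F) * w)⁻¹ = (b : S2 F) * (w * g * w⁻¹) * (b : S2 F)⁻¹ := by group
            _ = g := by rw [hw, hg']
        rw [mul_inv_eq_iff_eq_mul] at e
        exact e.symm
      · intro hbT
        exact w_notMem hg h2 hb (Subgroup.mem_subgroupOf.mp hbT)
  refine ⟨?_, ?_⟩
  · have := T.card_mul_index
    rw [hidx, hTc] at this
    rw [← this, hn]; ring
  · have hz : (-1 : S2 F) ∈ TT g := by rw [mem_TT_comm]; simp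
    refine dic_classes T ?_ hTc hidx ⟨-1, hle hz⟩ (Subgroup.mem_subgroupOf.mpr hz) ?_ ?_ ?_ ?_
    · intro a ha b hb
      exact Subtype.ext (TT_comm hg (Subgroup.mem_subgroupOf.mp ha) (Subgroup.mem_subgroupOf.mp hb))
    · intro e
      have : (-1 : S2 F) = 1 := congrArg Subtype.val e
      have := congrFun (congrFun (congrArg (fun y : S2 F => (y : M2 F)) this) 0) 0
      simp at this
      exact one_ne_neg h2 this.symm
    · intro a ha haa
      have : (a : S2 F) * a = 1 := congrArg Subtype.val haa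
      rcases sl_sq_one h2 this with h | h
      · left; exact Subtype.ext h
      · right; exact Subtype.ext h
    · apply Subtype.ext; change (-1 : S2 F) * (-1) = 1; simp
    · intro b hb
      have hb' : (b : S2 F) * g * (b : S2 F)⁻¹ = g⁻¹ := by
        rcases (mem_norm hg ht h2).mp b.2 with h | h
        · exact absurd (Subgroup.mem_subgroupOf.mpr h) hb
        · exact h
      refine ⟨fun c hc => Subtype.ext (inv_act hg hb' (Subgroup.mem_subgroupOf.mp hc)), Subtype.ext (w_sq hg h2 hb')⟩

/-- subgroups of a torus -/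
theorem sub_torus {g : S2 F} (hg : ¬ IsScal (g : M2 F)) (ht : (g : M2 F).trace ^ 2 ≠ 4) (h2 : (2 : F) ≠ 0) (P : Subgroup (S2 F)) (hP : P ≤ TT g) (hgP : g ∈ P) :
    Subgroup.centralizer (P : Set (S2 F)) = TT g ∧ Subgroup.normalizer (P : Set (S2 F)) = Subgroup.normalizer ((TT g : Subgroup (S2 F)) : Set (S2 F)) := by
  have hC : Subgroup.centralizer (P : Set (S2 F)) = TT g := by
    apply le_antisymm
    · intro x hx
      exact Subgroup.centralizer_le (Set.singleton_subset_iff.mpr hgP) hx
    · intro x hx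
      rw [Subgroup.mem_centralizer_iff]
      intro y hy
      exact TT_comm hg (hP hy) hx
  refine ⟨hC, le_antisymm ?_ ?_⟩
  · rw [← hC]
    intro x hx
    rw [Subgroup.mem_normalizer_iff] at hx ⊢
    intro c
    constructor
    · intro hc
      rw [Subgroup.mem_centralizer_iff] at hc ⊢
      intro y hy
      have : x⁻¹ * y * x ∈ P := by
        rw [hx]
        have e : x * (x⁻¹ * y * x) * x⁻¹ = y := by group
        rw [e]; exact hy
      have := hc _ this
      calc y * (x * c * x⁻¹) = x * ((x⁻¹ * y * x) * c) * x⁻¹ := by group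
        _ = x * (c * (x⁻¹ * y * x)) * x⁻¹ := by rw [this]
        _ = x * c * x⁻¹ * y := by group
    · intro hc
      rw [Subgroup.mem_centralizer_iff] at hc ⊢
      intro y hy
      have : x * y * x⁻¹ ∈ P := (hx y).mp hy
      have := hc _ this
      calc y * c = x⁻¹ * ((x * y * x⁻¹) * (x * c * x⁻¹)) * x := by group
        _ = x⁻¹ * ((x * c * x⁻¹) * (x * y * x⁻¹)) * x := by rw [this]
        _ = c * y := by group
  · intro x hx
    rcases (mem_norm hg ht h2).mp hx with h | h
    · apply Subgroup.centralizer_le_normalizer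
      rw [hC]; exact h
    · rw [Subgroup.mem_normalizer_iff]
      intro c
      constructor
      · intro hc
        rw [inv_act hg h (hP hc)]; exact inv_mem hc
      · intro hc
        have hx' : x⁻¹ * g * x⁻¹⁻¹ = g⁻¹ := by
          rw [inv_inv]
          have : g = x⁻¹ * g⁻¹ * x := by rw [← h]; group
          have h5 := congrArg (fun y => y⁻¹) this
          simp only [_root_.mul_inv_rev, inv_inv] at h5
          rw [h5]; group
        have := inv_act hg hx' (hP hc)
        have e : x⁻¹ * (x * c * x⁻¹) * x⁻¹⁻¹ = c := by group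
        rw [e] at this
        rw [this]; exact inv_mem hc

end CfsgLib.GL2a
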