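import Cfsg.Agent.Lib.GLe2
set_option autoImplicit false
set_option linter.style.haveILetI false
set_option linter.unusedSectionVars false

/-! Tori of `SL₂`: cyclicity, orders. -/

namespace CfsgLib.GL2a
open Matrix Cfsg

variable {F : Type*} [Field F]

theorem tor_cyclic [Finite F] (g : S2 F) (hg : ¬ IsScal (g : M2 F)) (ht : (g : M2 F).trace ^ 2 ≠ 4) : IsCyclic (TT g) := by
  classical
  let K := AlgebraicClosure F
  obtain ⟨lam, hlam⟩ : ∃ l : K, l ^ 2 - algebraMap F K (g : M2 F).trace * l + 1 = 0 := by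
    have hdeg : ((Polynomial.X ^ 2 - Polynomial.C (algebraMap F K (g : M2 F).trace) * Polynomial.X + 1 : Polynomial K)).degree ≠ 0 := by
      have : ((Polynomial.X ^ 2 - Polynomial.C (algebraMap F K (g : M2 F).trace) * Polynomial.X + 1 : Polynomial K)).degree = 2 := by
        have := Polynomial.degree_quadratic (a := (1 : K)) (b := - algebraMap F K (g : M2 F).trace) (c := 1) one_ne_zero
        rw [← this]; congr 1; simp; ring
      rw [this]; norm_num
    obtain ⟨l, hl⟩ := IsAlgClosed.exists_root _ hdeg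
    exact ⟨l, by simpa [Polynomial.IsRoot] using hl⟩
  let ι : F →+* K := algebraMap F K
  let gK : M2 K := (g : M2 F).map ι
  have hdet0 : (gK - lam • (1 : M2 K)).det = 0 := by
    rw [det_e]
    simp only [gK, Matrix.sub_apply, Matrix.map_apply, Matrix.smul_apply, smul_eq_mul]
    simp
    have hd := congrArg ι (sl_det g)
    rw [det_e] at hd
    simp only [map_sub, map_mul, map_one] at hd
    rw [tr_eq] at hlam
    simp only [map_add] at hlam
    linear_combination hlam + hd
  obtain ⟨v, hv0, hv⟩ := Matrix.exists_mulVec_eq_zero_iff.mpr hdet0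
  have hv' : gK.mulVec v = lam • v := by
    rw [Matrix.sub_mulVec, Matrix.smul_mulVec, Matrix.one_mulVec, sub_eq_zero] at hv
    exact hv
  obtain ⟨i, hi⟩ : ∃ i, v i ≠ 0 := by
    by_contra h; push Not at h
    exact hv0 (funext h)
  have key : ∀ (x : S2 F) (a b : F), (x : M2 F) = a • (1 : M2 F) + b • (g : M2 F) → ((x : M2 F).map ι).mulVec v = (ι a + ι b * lam) • v := by
    intro x a b hx
    have e : (x : M2 F).map ι = ι a • (1 : M2 K) + ι b • gK := by
      rw [hx]
      ext i j
      fin_cases i <;> fin_cases j <;> simp [gK]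
    rw [e, Matrix.add_mulVec, Matrix.smul_mulVec, Matrix.smul_mulVec, Matrix.one_mulVec, hv', smul_smul, add_smul]
  let f : TT g →* K :=
    { toFun := fun x => (((x : S2 F) : M2 F).map ι).mulVec v i / v i
      map_one' := by
        have : ((1 : TT g) : S2 F) = 1 := rfl
        rw [this, key 1 1 0 (by simp)]
        simp [hi]
      map_mul' := by
        intro x y
        obtain ⟨a, b, hx⟩ := (mem_TT hg).mp x.2
        obtain ⟨c, d, hy⟩ := (mem_TT hg).mp y.2
        have e : (((x * y : TT g) : S2 F) : M2 F).map ι = (((x : S2 F) : M2 F).map ι) * (((y : S2 F) : M2 F).map ι) := by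
          have : (((x * y : TT g) : S2 F) : M2 F) = ((x : S2 F) : M2 F) * ((y : S2 F) : M2 F) := rfl
          rw [this, Matrix.map_mul]
        rw [e, ← Matrix.mulVec_mulVec, key _ _ _ hy, Matrix.mulVec_smul, key _ _ _ hx]
        have e1 : ∀ s : K, s * v i / v i = s := fun s => mul_div_cancel_right₀ s hi
        simp only [Pi.smul_apply, smul_eq_mul]
        rw [← mul_assoc, e1, e1, e1, mul_comm] }
  refine isCyclic_of_injective_ringHom f ?_
  rw [injective_iff_map_eq_one]
  intro x hx1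
  obtain ⟨a, b, hx⟩ := (mem_TT hg).mp x.2
  have h1 : ι a + ι b * lam = 1 := by
    have : (((x : S2 F) : M2 F).map ι).mulVec v i / v i = 1 := hx1
    rw [key _ _ _ hx] at this
    simpa [hi] using this
  have hd : ((x : S2 F) : M2 F).det = 1 := sl_det _
  rw [hx, det_lin, sl_det g] at hd
  have hd' := congrArg ι hd
  simp only [map_add, map_mul, map_pow, map_one, one_mul] at hd'
  have ha : ι a = 1 - ι b * lam := by linear_combination h1
  rw [ha] at hd'
  have hb0 : ι b * (2 * lam - ι (g : M2 F).trace) = 0 := by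
    have : lam ^ 2 - ι (g : M2 F).trace * lam + 1 = 0 := hlam
    linear_combination - hd' + (ι b) ^ 2 * this
  have hne : 2 * lam - ι (g : M2 F).trace ≠ 0 := by
    intro h0
    apply ht
    apply ι.injective
    have : lam ^ 2 - ι (g : M2 F).trace * lam + 1 = 0 := hlam
    simp only [map_pow]
    have h4 : ι 4 = 4 := map_ofNat ι 4
    rw [h4]
    linear_combination (2 * lam - ι (g : M2 F).trace) * h0 - 4 * this
  have hb : b = 0 := by
    apply ι.injective
    rw [map_zero]
    exact (mul_eq_zero.mp hb0).resolve_right hne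
  have ha1 : a = 1 := by
    apply ι.injective
    rw [ha, hb]; simp
  apply Subtype.ext
  apply sl_ext
  rw [hx, ha1, hb]; simp

/-- the discriminant is a nonsquare -/
theorem aniso_disc_sq {g : S2 F} (h2 : (2 : F) ≠ 0) : Aniso (g : M2 F) ↔ ¬ IsSquare ((g : M2 F).trace ^ 2 - 4) := by
  rw [← not_iff_not, not_aniso_iff, sl_det, not_not]
  have h4 : (4 : F) ≠ 0 := by
    have : (4 : F) = 2 * 2 := by norm_num
    rw [this]; exact mul_ne_zero h2 h2
  constructor
  · rintro ⟨c, hc⟩
    refine ⟨2 * c - (g : M2 F).trace, ?_⟩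
    linear_combination -4 * hc
  · rintro ⟨s, hs⟩
    refine ⟨((g : M2 F).trace + s) / 2, ?_⟩
    field_simp
    linear_combination -hs

theorem card_TT_aniso [Fintype F] {g : S2 F} (h : Aniso (g : M2 F)) : Nat.card (TT g) = Fintype.card F + 1 := by
  rw [TT, card_cent_SL, card_CC_aniso h]
  exact aniso_disc h

theorem card_TT_conj {g k : S2 F} (hc : IsConj g k) : Nat.card (TT g) = Nat.card (TT k) := by
  obtain ⟨c, rfl⟩ := isConj_iff.mp hc
  refine Nat.card_congr ⟨fun x => ⟨c * x * c⁻¹, ?_⟩, fun x => ⟨c⁻¹ * x * c, ?_⟩, fun x => ?_, fun x => ?_⟩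
  · have := mem_TT_comm.mp x.2
    rw [mem_TT_comm]
    calc c * g * c⁻¹ * (c * x * c⁻¹) = c * (g * x) * c⁻¹ := by group
      _ = c * (x * g) * c⁻¹ := by rw [this]
      _ = _ := by group
  · have := mem_TT_comm.mp x.2
    rw [mem_TT_comm]
    calc g * (c⁻¹ * x * c) = c⁻¹ * (c * g * c⁻¹ * x) * c := by group
      _ = c⁻¹ * (x * (c * g * c⁻¹)) * c := by rw [this]
      _ = _ := by group
  · apply Subtype.ext; simp [mul_assoc]
  · apply Subtype.ext; simp [mul_assoc]

/-- diagonal element -/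
def dS (a : F) (ha : a ≠ 0) : S2 F := ⟨!![a, 0; 0, a⁻¹], by rw [det_e]; simp [ha]⟩

theorem split_conj [Finite F] {g : S2 F} (hg : ¬ IsScal (g : M2 F)) (ht : (g : M2 F).trace ^ 2 ≠ 4) (hn : ¬ Aniso (g : M2 F)) : ∃ (a : F) (ha : a ≠ 0), a ^ 2 ≠ 1 ∧ IsConj g (dS a ha) := by
  obtain ⟨c, hc⟩ := (not_aniso_iff _).mp hn
  rw [sl_det] at hc
  have hc0 : c ≠ 0 := by rintro rfl; simp at hc
  have htr : (g : M2 F).trace = c + c⁻¹ := by
    field_simp
    linear_combination -hc
  have hc1 : c ^ 2 ≠ 1 := by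
    intro h
    apply ht
    rw [htr]
    have hi : c⁻¹ = c := by
      apply mul_left_cancel₀ hc0
      rw [mul_inv_cancel₀ hc0, ← sq, h]
    rw [hi]; linear_combination 4 * h
  refine ⟨c, hc0, hc1, sl_isConj hg ?_ ?_ (Or.inl ht)⟩
  · intro hs
    have := hs.2.2
    simp [dS] at this
    apply hc1
    nth_rewrite 1 [sq, this]; simp [hc0]
  · rw [htr, tr_eq]; simp [dS]

theorem card_TT_split [Fintype F] {g : S2 F} (hg : ¬ IsScal (g : M2 F)) (ht : (g : M2 F).trace ^ 2 ≠ 4) (hn : ¬ Aniso (g : M2 F)) : Nat.card (TT g) = Fintype.card F - 1 := by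
  obtain ⟨a, ha, ha1, hc⟩ := split_conj hg ht hn
  rw [card_TT_conj hc, TT, card_cent_SL, card_CC_diag]
  · simp [dS]
  · simp [dS]
  · simp only [dS]
    intro h
    apply ha1
    simp at h
    nth_rewrite 1 [sq, h]; simp [ha]

/-- an anisotropic element -/
theorem exists_aniso [Fintype F] (h2 : (2 : F) ≠ 0) : ∃ g : S2 F, Aniso (g : M2 F) := by
  obtain ⟨nu, hnu⟩ := exists_nonsq h2
  have h1 : 1 - nu ≠ 0 := by
    intro h; apply hnu; rw [show nu = 1 by linear_combination -h]; exact ⟨1, by simp⟩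
  let g : S2 F := ⟨!![(1 + nu) / (1 - nu), nu * (2 / (1 - nu)); 2 / (1 - nu), (1 + nu) / (1 - nu)], by rw [det_e]; simp; field_simp; ring⟩
  refine ⟨g, (aniso_disc_sq (g := g) h2).mpr ?_⟩
  rintro ⟨s, hs⟩
  apply hnu
  rw [tr_eq] at hs
  simp [g] at hs
  refine ⟨s * (1 - nu) / 4, ?_⟩
  have h4 : (4 : F) ≠ 0 := by
    have : (4 : F) = 2 * 2 := by norm_num
    rw [this]; exact mul_ne_zero h2 h2
  field_simp at hs ⊢
  linear_combination hs

end CfsgLib.GL2a
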