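import Cfsg.Agent.Lib.GLe3
set_option autoImplicit false
set_option linter.style.haveILetI false
set_option linter.unusedSectionVars false

/-! Sylow subgroups of `SL₂`. -/

namespace CfsgLib.GL2a
open Matrix Cfsg

variable {F : Type*} [Field F]

theorem card_TT_par [Fintype F] (h2 : (2 : F) ≠ 0) {g : S2 F} (hg : ¬ IsScal (g : M2 F)) (ht : (g : M2 F).trace ^ 2 = 4) : Nat.card (TT g) = 2 * Fintype.card F := by
  obtain ⟨nu, hnu⟩ := exists_nonsq h2
  obtain ⟨e, he, hte⟩ : ∃ e : F, e * e = 1 ∧ (g : M2 F).trace = 2 * e := by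
    refine ⟨(g : M2 F).trace / 2, ?_, ?_⟩
    · field_simp; linear_combination ht
    · field_simp
  have hpar : ∀ b : F, b ≠ 0 → Nat.card (TT (parS e b he)) = 2 * Fintype.card F := by
    intro b hb
    rw [TT, card_cent_SL, card_CC_par h2]
    · simp [parS, par]
    · simpa [parS, par] using hb
    · simp [parS, par]
  rcases sl_par_rep h2 hnu g hg e he hte with h | h
  · rw [card_TT_conj h, hpar 1 one_ne_zero]
  · rw [card_TT_conj h, hpar nu]
    rintro rfl; exact hnu ⟨0, by simp⟩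

theorem sylow_torus [Fintype F] (hodd : Odd (Fintype.card F)) (l : ℕ) [Fact l.Prime] (hl : l ≠ 2) (P : Sylow l (S2 F)) (hdvd : l ∣ (Fintype.card F - 1) * (Fintype.card F + 1)) :
    ∃ g : S2 F, ¬ IsScal (g : M2 F) ∧ (g : M2 F).trace ^ 2 ≠ 4 ∧ g ∈ P ∧ (P : Subgroup (S2 F)) ≤ TT g := by
  classical
  have h2 := two_ne_of_odd hodd
  have hlp := (Fact.out : l.Prime)
  have hcop : l.Coprime (Fintype.card F) := by
    rw [hlp.coprime_iff_not_dvd]
    intro h
    rcases hlp.dvd_mul.mp hdvd with h1 | h1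
    · have := Nat.dvd_sub h h1
      rw [Nat.sub_sub_self (Fintype.card_pos)] at this
      exact hlp.one_lt.ne' (Nat.dvd_one.mp this)
    · have := (Nat.dvd_add_right h).mp h1
      exact hlp.one_lt.ne' (Nat.dvd_one.mp this)
  have hPne : Nontrivial P := by
    have hd : l ∣ Nat.card (S2 F) := by rw [card_S2', mul_assoc]; exact Dvd.dvd.mul_left hdvd _
    have : l ∣ Nat.card P := P.dvd_card_of_dvd_card hd
    have : 1 < Nat.card P := lt_of_lt_of_le hlp.one_lt (Nat.le_of_dvd Nat.card_pos this)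
    exact Finite.one_lt_card_iff_nontrivial.mp this
  have hZ : Nontrivial (Subgroup.center P) := P.isPGroup'.center_nontrivial
  obtain ⟨⟨⟨x, hxP⟩, hxZ⟩, hx1⟩ := exists_ne (1 : Subgroup.center P)
  have hx1' : x ≠ 1 := by
    intro h; apply hx1; exact Subtype.ext (Subtype.ext h)
  have hPT : (P : Subgroup (S2 F)) ≤ TT x := by
    intro y hy
    rw [mem_TT_comm]
    have := Subgroup.mem_center_iff.mp hxZ ⟨y, hy⟩
    exact (congrArg Subtype.val this).symm
  have hdvdT : Nat.card P ∣ Nat.card (TT x) := Subgroup.card_dvd_of_le hPT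
  have hs : ¬ IsScal (x : M2 F) := by
    intro hs
    rcases scal_sl' hs with h | h
    · exact hx1' h
    · obtain ⟨k, hk⟩ := P.isPGroup' ⟨x, hxP⟩
      have hk' : x ^ l ^ k = 1 := congrArg Subtype.val hk
      have hodd' : Odd (l ^ k) := (hlp.odd_of_ne_two hl).pow
      rw [h, hodd'.neg_one_pow] at hk'
      exact hx1' (h.trans hk')
  refine ⟨x, hs, ?_, hxP, hPT⟩
  intro ht
  rw [card_TT_par h2 hs ht] at hdvdT
  have hlP : l ∣ Nat.card P := P.dvd_card_of_dvd_card (by rw [card_S2', mul_assoc]; exact Dvd.dvd.mul_left hdvd _)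
  rcases hlp.dvd_mul.mp (hlP.trans hdvdT) with h | h
  · exact hl ((Nat.prime_dvd_prime_iff_eq hlp Nat.prime_two).mp h)
  · exact hlp.one_lt.ne' (Nat.Coprime.eq_one_of_dvd hcop h)

end CfsgLib.GL2a
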