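import Cfsg.Agent.Lib.GLe4
set_option autoImplicit false
set_option linter.style.haveILetI false
set_option linter.unusedSectionVars false

/-! Classes of the Borel subgroup of `SL₂`. -/

namespace CfsgLib.GL2a
open Matrix Cfsg

variable {F : Type*} [Field F] [Fintype F]

theorem cent_BS (a : Fˣ) (x : F) : Nat.card (Subgroup.centralizer ({eBS (a, x)} : Set (BS F))) = Nat.card {p : Fˣ × F // p.2 * ((a : F) - (a : F)⁻¹) = x * ((p.1 : F) - (p.1 : F)⁻¹)} := by
  refine (Nat.card_congr (Equiv.subtypeEquiv (eBS (F := F)) ?_)).symm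
  rintro ⟨b, y⟩
  rw [Subgroup.mem_centralizer_singleton_iff]
  constructor
  · intro h
    apply Subtype.ext; apply sl_ext
    change (!![(b : F), y; 0, (b : F)⁻¹] : M2 F) * !![(a : F), x; 0, (a : F)⁻¹] = !![(a : F), x; 0, (a : F)⁻¹] * !![(b : F), y; 0, (b : F)⁻¹]
    simp only at h
    apply ext4 <;> simp only [mul_e00, mul_e01, mul_e10, mul_e11] <;> simp
    · ring
    · linear_combination -h
    · ring
  · intro h
    have h1 := congrArg (fun z : BS F => ((z : S2 F) : M2 F)) h
    change (!![(b : F), y; 0, (b : F)⁻¹] : M2 F) * !![(a : F), x; 0, (a : F)⁻¹] = !![(a : F), x; 0, (a : F)⁻¹] * !![(b : F), y; 0, (b : F)⁻¹] at h1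
    have e := congrFun (congrFun h1 0) 1
    simp only [mul_e01] at e
    simp at e
    simp only
    linear_combination -e

theorem unit_inv_iff (a : Fˣ) : (a : F) - (a : F)⁻¹ = 0 ↔ a * a = 1 := by
  constructor
  · intro h
    apply Units.ext
    have : (a : F) = (a : F)⁻¹ := by linear_combination h
    push_cast
    nth_rewrite 2 [this]; simp
  · intro h
    have h1 : (a : F) * (a : F) = 1 := by have := congrArg Units.val h; simpa using this
    have : (a : F)⁻¹ = (a : F) := by
      apply mul_left_cancel₀ a.ne_zero
      rw [h1]; simp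
    rw [this]; ring

theorem card_two_units (h2 : (2 : F) ≠ 0) : Nat.card {a : Fˣ // a * a = 1} = 2 := by
  classical
  have e : {a : Fˣ // a * a = 1} ≃ Bool :=
    { toFun := fun a => decide (a.1 = 1)
      invFun := fun b => if b then ⟨1, by simp⟩ else ⟨-1, by simp⟩
      left_inv := by
        rintro ⟨a, ha⟩
        by_cases h : a = 1
        · simp [h]
        · simp only [h, decide_false]
          apply Subtype.ext
          have : (a : F) * (a : F) = 1 := by have := congrArg Units.val ha; simpa using this
          rcases mul_self_eq_one_iff.mp this with h' | h'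
          · exact absurd (Units.ext (by simpa using h')) h
          · simp; exact (Units.ext (by simpa using h')).symm
      right_inv := by
        intro b
        cases b
        · have : ¬ ((-1 : Fˣ) = 1) := by
            intro h
            have := congrArg Units.val h
            simp only [Units.val_neg, Units.val_one] at this
            exact one_ne_neg h2 this.symm
          simp [this]
        · simp }
  rw [Nat.card_congr e]; simp

theorem count_BS (h2 : (2 : F) ≠ 0) [DecidableEq F] (a : Fˣ) (x : F) : Nat.card {p : Fˣ × F // p.2 * ((a : F) - (a : F)⁻¹) = x * ((p.1 : F) - (p.1 : F)⁻¹)} =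
    if a * a = 1 then (if x = 0 then Fintype.card F * (Fintype.card F - 1) else 2 * Fintype.card F) else Fintype.card F - 1 := by
  split_ifs with h1 h3
  · subst h3
    have e : {p : Fˣ × F // p.2 * ((a : F) - (a : F)⁻¹) = 0 * ((p.1 : F) - (p.1 : F)⁻¹)} ≃ Fˣ × F :=
      (Equiv.subtypeUnivEquiv (by intro p; rw [(unit_inv_iff a).mpr h1]; simp))
    rw [Nat.card_congr e, Nat.card_prod, Nat.card_eq_fintype_card, Nat.card_eq_fintype_card, Fintype.card_units, mul_comm]
  · have e : {p : Fˣ × F // p.2 * ((a : F) - (a : F)⁻¹) = x * ((p.1 : F) - (p.1 : F)⁻¹)} ≃ {b : Fˣ // b * b = 1} × F :=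
      { toFun := fun p => (⟨p.1.1, by
          have h5 := (unit_inv_iff a).mpr h1
          have h6 : x * ((p.1.1 : F) - (p.1.1 : F)⁻¹) = 0 := p.2.symm.trans (mul_eq_zero_of_right _ h5)
          exact (unit_inv_iff _).mp ((mul_eq_zero.mp h6).resolve_left h3)⟩, p.1.2)
        invFun := fun p => ⟨(p.1.1, p.2), by simp only; rw [(unit_inv_iff a).mpr h1, (unit_inv_iff p.1.1).mpr p.1.2]; simp⟩
        left_inv := fun p => rfl
        right_inv := fun p => rfl }
    rw [Nat.card_congr e, Nat.card_prod, card_two_units h2, Nat.card_eq_fintype_card]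
  · have hne : (a : F) - (a : F)⁻¹ ≠ 0 := fun h => h1 ((unit_inv_iff a).mp h)
    have e : {p : Fˣ × F // p.2 * ((a : F) - (a : F)⁻¹) = x * ((p.1 : F) - (p.1 : F)⁻¹)} ≃ Fˣ :=
      { toFun := fun p => p.1.1
        invFun := fun b => ⟨(b, x * ((b : F) - (b : F)⁻¹) / ((a : F) - (a : F)⁻¹)), by simp only; rw [div_mul_cancel₀ _ hne]⟩
        left_inv := by
          rintro ⟨⟨b, y⟩, h⟩
          apply Subtype.ext
          apply Prod.ext
          · rfl
          · simp only at h ⊢
            rw [← h, mul_div_cancel_right₀ _ hne]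
        right_inv := fun p => rfl }
    rw [Nat.card_congr e, Nat.card_eq_fintype_card, Fintype.card_units]

theorem classes_BS (h2 : (2 : F) ≠ 0) : Nat.card (ConjClasses (BS F)) = Fintype.card F + 3 := by
  classical
  apply card_classes_of_sum
  rw [← (eBS (F := F)).sum_comp, Fintype.sum_prod_type]
  simp only [cent_BS, count_BS h2]
  have hq := two_le_card (F := F)
  have hin : ∀ a : Fˣ, (∑ x : F, if a * a = 1 then (if x = 0 then Fintype.card F * (Fintype.card F - 1) else 2 * Fintype.card F) else Fintype.card F - 1) =
      Fintype.card F * (Fintype.card F - 1) + (if a * a = 1 then 2 * Fintype.card F * (Fintype.card F - 1) else 0) := by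
    intro a
    split_ifs with h
    · rw [Finset.sum_ite, Finset.sum_const, Finset.sum_const]
      have c1 : (Finset.univ.filter (fun x : F => x = 0)).card = 1 := by
        rw [Finset.card_eq_one]; exact ⟨0, by ext; simp⟩
      have c2 : (Finset.univ.filter (fun x : F => ¬ x = 0)).card = Fintype.card F - 1 := by
        rw [Finset.filter_not, Finset.card_sdiff_of_subset (Finset.filter_subset _ _), c1, Finset.card_univ]
      rw [c1, c2]; simp only [smul_eq_mul]; ring
    · rw [Finset.sum_const, Finset.card_univ, smul_eq_mul]; simp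
  rw [Finset.sum_congr rfl (fun a _ => hin a), Finset.sum_add_distrib, Finset.sum_const, Finset.card_univ, Fintype.card_units, Finset.sum_ite, Finset.sum_const_zero, Finset.sum_const, add_zero]
  have c3 : (Finset.univ.filter (fun a : Fˣ => a * a = 1)).card = 2 := by
    rw [← card_two_units h2, Nat.card_eq_fintype_card, Fintype.card_subtype]
  rw [c3, ← Nat.card_congr (eBS (F := F)), Nat.card_prod, Nat.card_eq_fintype_card, Nat.card_eq_fintype_card, Fintype.card_units]
  simp only [smul_eq_mul]
  obtain ⟨k, hk⟩ : ∃ k, Fintype.card F = k + 1 := ⟨Fintype.card F - 1, by omega⟩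
  rw [hk, Nat.add_sub_cancel]
  ring

end CfsgLib.GL2a
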