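import Cfsg.Agent.Lib.GLe5
set_option autoImplicit false
set_option linter.style.haveILetI false
set_option linter.unusedSectionVars false

/-! Elements of `PSL₂`. -/

namespace CfsgLib.GL2a
open Matrix Cfsg

variable {F : Type*} [Field F]

theorem mem_center_iff_isScal (g : S2 F) : g ∈ Subgroup.center (S2 F) ↔ IsScal (g : M2 F) := by
  rw [Matrix.SpecialLinearGroup.mem_center_iff]
  constructor
  · rintro ⟨r, -, hr⟩
    rw [← hr]
    refine ⟨?_, ?_, ?_⟩ <;> simp [Matrix.scalar_apply]
  · rintro ⟨h1, h2, h3⟩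
    refine ⟨(g : M2 F) 0 0, ?_, ?_⟩
    · have := sl_det g
      rw [det_e, h1, ← h3] at this
      simp only [Fintype.card_fin]
      linear_combination this
    · apply ext4 <;> simp [Matrix.scalar_apply, h1, h2, h3]

abbrev PS (F : Type*) [Field F] := Matrix.ProjectiveSpecialLinearGroup (Fin 2) F

/-- projection -/
def pr : S2 F →* PS F := QuotientGroup.mk' (Subgroup.center (S2 F))

theorem pr_surj : Function.Surjective (pr : S2 F →* PS F) := QuotientGroup.mk'_surjective _

theorem pr_eq_one (g : S2 F) : pr g = 1 ↔ IsScal (g : M2 F) := by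
  rw [← mem_center_iff_isScal]
  exact QuotientGroup.eq_one_iff g

theorem pr_eq_one' (g : S2 F) : pr g = 1 ↔ g = 1 ∨ g = -1 := by
  rw [pr_eq_one]
  constructor
  · exact scal_sl'
  · rintro (rfl | rfl)
    · exact isScal_one
    · exact isScal_neg_one

theorem pr_eq (g h : S2 F) : pr g = pr h ↔ g = h ∨ g = -h := by
  have : pr g = pr h ↔ pr (g * h⁻¹) = 1 := by rw [map_mul, map_inv, mul_inv_eq_one]
  rw [this, pr_eq_one', mul_inv_eq_one, mul_inv_eq_iff_eq_mul, neg_one_mul]

theorem exists_aniso' [Finite F] : ∃ t : F, ∀ c : F, c ^ 2 - t * c + 1 ≠ 0 := by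
  classical
  haveI := Fintype.ofFinite F
  by_contra hcon
  push Not at hcon
  choose c hc using hcon
  have h0 : ∀ t, c t ≠ 0 := by
    intro t h
    have := hc t
    rw [h] at this; simp at this
  let f : F → Fˣ := fun t => Units.mk0 (c t) (h0 t)
  have hf : Function.Injective f := by
    intro s t h
    have e : c s = c t := congrArg Units.val h
    have h1 := hc s; have h2 := hc t
    rw [e] at h1
    have : (s - t) * c t = 0 := by linear_combination h2 - h1
    rcases mul_eq_zero.mp this with h | h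
    · exact sub_eq_zero.mp h
    · exact absurd h (h0 t)
  have := Fintype.card_le_of_injective f hf
  rw [Fintype.card_units] at this
  have := Fintype.card_pos (α := F)
  omega

/-- companion element -/
def cS (t : F) : S2 F := ⟨!![0, -1; 1, t], by rw [det_e]; simp⟩

theorem exists_anisoS [Finite F] : ∃ g : S2 F, Aniso (g : M2 F) ∧ (g : M2 F).trace ^ 2 ≠ 4 := by
  obtain ⟨t, ht⟩ := exists_aniso' (F := F)
  have hr : ∀ c : F, c ^ 2 - (cS t : M2 F).trace * c + (cS t : M2 F).det ≠ 0 := by
    intro c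
    rw [sl_det]
    have : (cS t : M2 F).trace = t := by rw [tr_eq]; simp [cS]
    rw [this]; exact ht c
  have ha : Aniso ((cS t : S2 F) : M2 F) := by
    by_contra h
    rw [not_aniso_iff] at h
    obtain ⟨c, hc⟩ := h
    exact hr c hc
  refine ⟨cS t, ha, ?_⟩
  have : (cS t : M2 F).trace = t := by rw [tr_eq]; simp [cS]
  rw [this]
  intro h4
  by_cases h2 : (2 : F) = 0
  · have ht0 : t = 0 := by
      have : t ^ 2 = 0 := by rw [h4]; linear_combination 2 * h2
      exact pow_eq_zero_iff (two_ne_zero) |>.mp this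
    exact ht 1 (by rw [ht0]; linear_combination h2)
  · exact ht (t / 2) (by field_simp; linear_combination -h4)

theorem exists_splitS [Fintype F] (h4 : 4 ≤ Fintype.card F) : ∃ g : S2 F, ¬ IsScal (g : M2 F) ∧ (g : M2 F).trace ^ 2 ≠ 4 ∧ ¬ Aniso (g : M2 F) := by
  classical
  obtain ⟨a, ha0, ha1, ha2⟩ : ∃ a : F, a ≠ 0 ∧ a ≠ 1 ∧ a ≠ -1 := by
    by_contra h
    push Not at h
    have : (Finset.univ : Finset F) ⊆ {0, 1, -1} := by
      intro x _
      simp only [Finset.mem_insert, Finset.mem_singleton]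
      by_cases h0 : x = 0
      · exact Or.inl h0
      · by_cases h1 : x = 1
        · exact Or.inr (Or.inl h1)
        · exact Or.inr (Or.inr (h x h0 h1))
    have := (Finset.card_le_card this).trans (Finset.card_le_three)
    rw [Finset.card_univ] at this
    omega
  have hne : a ≠ a⁻¹ := by
    intro h
    have : a * a = 1 := by nth_rewrite 2 [h]; exact mul_inv_cancel₀ ha0
    rcases mul_self_eq_one_iff.mp this with h | h
    · exact ha1 h
    · exact ha2 h
  refine ⟨dS a ha0, ?_, ?_, ?_⟩
  · intro hs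
    exact hne (by simpa [dS] using hs.2.2)
  · rw [tr_eq]
    intro h
    simp [dS] at h
    apply hne
    have h1 : (a - a⁻¹) ^ 2 = 0 := by
      have : a * a⁻¹ = 1 := mul_inv_cancel₀ ha0
      linear_combination h - 4 * this
    exact sub_eq_zero.mp (pow_eq_zero_iff (two_ne_zero) |>.mp h1)
  · rw [not_aniso_iff]
    refine ⟨a, ?_⟩
    rw [sl_det, tr_eq]
    simp [dS]
    field_simp
    ring

theorem pr_pow_par (p : ℕ) [Fact p.Prime] [CharP F p] {g : S2 F} (ht : (g : M2 F).trace ^ 2 = 4) : pr g ^ p = 1 := by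
  obtain ⟨e, he⟩ : ∃ e : F, (g : M2 F).trace = 2 * e ∧ e * e = 1 := by
    by_cases h2 : (2 : F) = 0
    · refine ⟨1, ?_, by simp⟩
      have : (g : M2 F).trace ^ 2 = 0 := by rw [ht]; linear_combination 2 * h2
      rw [pow_eq_zero_iff (two_ne_zero) |>.mp this, h2]; simp
    · refine ⟨(g : M2 F).trace / 2, by field_simp, ?_⟩
      field_simp; linear_combination ht
  obtain ⟨he1, he2⟩ := he
  have hch := ch2 g
  have hsq : ((g : M2 F) - e • (1 : M2 F)) ^ 2 = 0 := by
    rw [sq, sub_mul, mul_sub, mul_sub, hch, he1]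
    simp only [Matrix.mul_smul, Matrix.smul_mul, mul_one, one_mul, smul_smul, he2, one_smul, two_mul, add_smul]
    abel
  have hp2 : 2 ≤ p := (Fact.out : p.Prime).two_le
  have hpz : ((g : M2 F) - e • (1 : M2 F)) ^ p = 0 := by
    rw [show p = 2 + (p - 2) by omega, pow_add, hsq, zero_mul]
  have hcomm : Commute (g : M2 F) (e • (1 : M2 F)) := by
    change (g : M2 F) * (e • (1 : M2 F)) = (e • (1 : M2 F)) * (g : M2 F)
    simp
  rw [sub_pow_char_of_commute _ hcomm, sub_eq_zero] at hpz
  rw [← map_pow, pr_eq_one]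
  rw [isScal_iff]
  refine ⟨e ^ p, ?_⟩
  rw [Matrix.SpecialLinearGroup.coe_pow, hpz, smul_pow, one_pow]

end CfsgLib.GL2a
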