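import Cfsg.Agent.Lib.GLf1
set_option autoImplicit false
set_option linter.style.haveILetI false
set_option linter.unusedSectionVars false

/-! Orders of elements of `PSL₂`. -/

namespace CfsgLib.GL2a
open Matrix Cfsg

variable {F : Type*} [Field F]

theorem neg_one_ne (h2 : (2 : F) ≠ 0) : (-1 : S2 F) ≠ 1 := by
  intro h
  have := congrFun (congrFun (congrArg (fun y : S2 F => (y : M2 F)) h) 0) 0
  simp at this
  exact one_ne_neg h2 this.symm

theorem neg_one_eq (h2 : (2 : F) = 0) : (-1 : S2 F) = 1 := by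
  have h : (-1 : F) = 1 := by linear_combination -h2
  apply sl_ext
  apply ext4 <;> simp [h]

theorem neg_one_mem_TT (g : S2 F) : (-1 : S2 F) ∈ TT g := by rw [mem_TT_comm]; simp

theorem gcd_of_odd [Fintype F] (h2 : (2 : F) ≠ 0) : Nat.gcd 2 (Fintype.card F - 1) = 2 ∧ Odd (Fintype.card F) := by
  have ho : Odd (Fintype.card F) := by
    by_contra h
    rw [Nat.not_odd_iff_even] at h
    exact h2 (two_eq_of_even (even_iff_two_dvd.mp h))
  refine ⟨?_, ho⟩
  obtain ⟨m, hm⟩ := ho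
  rw [hm]
  simp

theorem gcd_of_even [Fintype F] (h2 : (2 : F) = 0) : Nat.gcd 2 (Fintype.card F - 1) = 1 ∧ Even (Fintype.card F) := by
  have he : Even (Fintype.card F) := by
    by_contra h
    rw [Nat.not_even_iff_odd] at h
    exact two_ne_of_odd h h2
  refine ⟨?_, he⟩
  obtain ⟨m, hm⟩ := he
  have := Fintype.card_pos (α := F)
  rw [Nat.Coprime.gcd_eq_one]
  rw [Nat.coprime_comm, Nat.coprime_two_right_iff_odd]
  exact ⟨m - 1, by omega⟩
where
  Nat.coprime_two_right_iff_odd {n : ℕ} : n.Coprime 2 ↔ Odd n := by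
    rw [Nat.coprime_two_right]

/-- order divides `|T| / d` -/
theorem pr_pow_torus [Finite F] {g : S2 F} (hg : ¬ IsScal (g : M2 F)) (ht : (g : M2 F).trace ^ 2 ≠ 4) {n : ℕ}
    (hn : ((2 : F) ≠ 0 ∧ Nat.card (TT g) = 2 * n) ∨ ((2 : F) = 0 ∧ Nat.card (TT g) = n)) : pr g ^ n = 1 := by
  rw [← map_pow, pr_eq_one']
  rcases hn with ⟨h2, hn⟩ | ⟨h2, hn⟩
  · have h1 : (⟨g, TT_self g⟩ : TT g) ^ Nat.card (TT g) = 1 := pow_card_eq_one'
    have h3 : g ^ (2 * n) = 1 := by
      have := congrArg Subtype.val h1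
      rw [hn] at this
      exact this
    apply sl_sq_one h2
    rw [← pow_add, ← two_mul]; exact h3
  · left
    have h1 : (⟨g, TT_self g⟩ : TT g) ^ Nat.card (TT g) = 1 := pow_card_eq_one'
    have := congrArg Subtype.val h1
    rw [hn] at this
    exact this

/-- elements of every order in the torus -/
theorem exists_order [Finite F] {g : S2 F} (hg : ¬ IsScal (g : M2 F)) (ht : (g : M2 F).trace ^ 2 ≠ 4) {n : ℕ}
    (hn : ((2 : F) ≠ 0 ∧ Nat.card (TT g) = 2 * n) ∨ ((2 : F) = 0 ∧ Nat.card (TT g) = n)) {m : ℕ} (hm : m ∣ n) : ∃ x ∈ TT g, orderOf (pr x) = m := by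
  haveI := tor_cyclic g hg ht
  obtain ⟨t, htg⟩ := IsCyclic.exists_generator (α := TT g)
  have hot : orderOf t = Nat.card (TT g) := orderOf_eq_card_of_forall_mem_zpowers htg
  have hn0 : 0 < n := by
    have : 0 < Nat.card (TT g) := Nat.card_pos
    rcases hn with ⟨-, h⟩ | ⟨-, h⟩ <;> omega
  obtain ⟨k, rfl⟩ := hm
  have hk0 : 0 < k := Nat.pos_of_mul_pos_right' hn0
  have hm0 : 0 < m := Nat.pos_of_mul_pos_left' hn0
  rcases hn with ⟨h2, hn⟩ | ⟨h2, hn⟩
  · refine ⟨((t ^ k : TT g) : S2 F), (t ^ k).2, ?_⟩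
    have ho : orderOf ((t ^ k : TT g) : S2 F) = 2 * m := by
      rw [Subgroup.orderOf_coe, orderOf_pow' _ hk0.ne', hot, hn, ← mul_assoc, Nat.gcd_eq_right (Dvd.intro_left _ rfl)]
      exact Nat.mul_div_cancel _ hk0
    set x : S2 F := ((t ^ k : TT g) : S2 F)
    apply Nat.dvd_antisymm
    · apply orderOf_dvd_of_pow_eq_one
      rw [← map_pow, pr_eq_one']
      apply sl_sq_one h2
      rw [← pow_add, ← two_mul, ← ho, pow_orderOf_eq_one]
    · have h1 : pr (x ^ orderOf (pr x)) = 1 := by rw [map_pow, pow_orderOf_eq_one]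
      have h3 : x ^ (2 * orderOf (pr x)) = 1 := by
        rw [mul_comm, pow_mul]
        rcases (pr_eq_one' _).mp h1 with h | h
        · rw [h, one_pow]
        · rw [h]; simp
      have := orderOf_dvd_of_pow_eq_one h3
      rw [ho] at this
      exact Nat.dvd_of_mul_dvd_mul_left (by norm_num) this
  · refine ⟨((t ^ k : TT g) : S2 F), (t ^ k).2, ?_⟩
    have ho : orderOf ((t ^ k : TT g) : S2 F) = m := by
      rw [Subgroup.orderOf_coe, orderOf_pow' _ hk0.ne', hot, hn, Nat.gcd_eq_right (Dvd.intro_left _ rfl)]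
      exact Nat.mul_div_cancel _ hk0
    have hinj : Function.Injective (pr : S2 F →* PS F) := by
      rw [injective_iff_map_eq_one]
      intro a ha
      rcases (pr_eq_one' _).mp ha with h | h
      · exact h
      · rw [h, neg_one_eq h2]
    rw [← ho]
    exact orderOf_injective pr hinj _
where
  Nat.pos_of_mul_pos_right' {a b : ℕ} (h : 0 < a * b) : 0 < b := by
    rcases Nat.eq_zero_or_pos b with h1 | h1
    · rw [h1] at h; simp at h
    · exact h1
  Nat.pos_of_mul_pos_left' {a b : ℕ} (h : 0 < a * b) : 0 < a := by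
    rcases Nat.eq_zero_or_pos a with h1 | h1
    · rw [h1] at h; simp at h
    · exact h1

theorem tor_data [Fintype F] {g : S2 F} (N d : ℕ) (hd : d = Nat.gcd 2 (Fintype.card F - 1)) (hN : Nat.card (TT g) = N) :
    ((2 : F) ≠ 0 ∧ Nat.card (TT g) = 2 * (N / d)) ∨ ((2 : F) = 0 ∧ Nat.card (TT g) = N / d) := by
  by_cases h2 : (2 : F) = 0
  · right
    refine ⟨h2, ?_⟩
    rw [hd, (gcd_of_even h2).1, Nat.div_one, hN]
  · left
    refine ⟨h2, ?_⟩
    rw [hd, (gcd_of_odd h2).1, hN]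
    have hev : 2 ∣ Nat.card (TT g) := by
      have h1 : orderOf (⟨-1, neg_one_mem_TT g⟩ : TT g) = 2 := by
        rw [orderOf_eq_prime_iff]
        refine ⟨Subtype.ext ?_, ?_⟩
        · change (-1 : S2 F) ^ 2 = 1; simp
        · intro h
          exact neg_one_ne h2 (congrArg Subtype.val h)
      exact (dvd_of_eq h1.symm).trans (orderOf_dvd_natCard (⟨-1, neg_one_mem_TT g⟩ : TT g))
    rw [hN] at hev
    omega

theorem tri (g : S2 F) : IsScal (g : M2 F) ∨ (¬ IsScal (g : M2 F) ∧ (g : M2 F).trace ^ 2 = 4) ∨ (¬ IsScal (g : M2 F) ∧ (g : M2 F).trace ^ 2 ≠ 4 ∧ ¬ Aniso (g : M2 F)) ∨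
    (¬ IsScal (g : M2 F) ∧ (g : M2 F).trace ^ 2 ≠ 4 ∧ Aniso (g : M2 F)) := by
  tauto

theorem orders_PS [Fintype F] (p : ℕ) [Fact p.Prime] [CharP F p] (h4 : 4 ≤ Fintype.card F) :
    Set.range (orderOf : PS F → ℕ) =
      {m : ℕ | m ∣ p ∨ m ∣ (Fintype.card F - 1) / Nat.gcd 2 (Fintype.card F - 1) ∨ m ∣ (Fintype.card F + 1) / Nat.gcd 2 (Fintype.card F - 1)} := by
  ext m
  constructor
  · rintro ⟨x, rfl⟩
    obtain ⟨g, rfl⟩ := pr_surj x
    rcases tri g with h | ⟨h1, h3⟩ | ⟨h1, h3, h5⟩ | ⟨h1, h3, h5⟩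
    · left
      rw [(pr_eq_one g).mpr h, orderOf_one]; exact one_dvd _
    · left
      exact orderOf_dvd_of_pow_eq_one (pr_pow_par p h3)
    · right; left
      exact orderOf_dvd_of_pow_eq_one (pr_pow_torus h1 h3 (tor_data _ _ rfl (card_TT_split h1 h3 h5)))
    · right; right
      exact orderOf_dvd_of_pow_eq_one (pr_pow_torus h1 h3 (tor_data _ _ rfl (card_TT_aniso h5)))
  · rintro (h | h | h)
    · rcases (Nat.dvd_prime (Fact.out : p.Prime)).mp h with rfl | rfl
      · exact ⟨1, orderOf_one⟩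
      · let g : S2 F := parS 1 1 (by simp)
        have h3 : (g : M2 F).trace ^ 2 = 4 := by
          rw [show (g : M2 F) = par 1 1 from rfl, par_trace]; norm_num
        have hns : ¬ IsScal (g : M2 F) := par_not_isScal 1 1 one_ne_zero
        refine ⟨pr g, ?_⟩
        exact orderOf_eq_prime (pr_pow_par m h3) (fun h => hns ((pr_eq_one g).mp h))
    · obtain ⟨g, h1, h3, h5⟩ := exists_splitS h4
      obtain ⟨x, -, hx⟩ := exists_order h1 h3 (tor_data _ _ rfl (card_TT_split h1 h3 h5)) h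
      exact ⟨pr x, hx⟩
    · obtain ⟨g, h5, h3⟩ := exists_anisoS (F := F)
      obtain ⟨x, -, hx⟩ := exists_order (aniso_not_isScal h5) h3 (tor_data _ _ rfl (card_TT_aniso h5)) h
      exact ⟨pr x, hx⟩

end CfsgLib.GL2a
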