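import Cfsg.Agent.Lib.GLf2
set_option autoImplicit false
set_option linter.style.haveILetI false
set_option linter.unusedSectionVars false

/-! Class sizes of `PSL₂`. -/

namespace CfsgLib.GL2a
open Matrix Cfsg

variable {F : Type*} [Field F]

theorem index_pr (g : S2 F) : (Subgroup.centralizer ({pr g} : Set (PS F))).index = ((Subgroup.centralizer ({pr g} : Set (PS F))).comap pr).index :=
  (Subgroup.index_comap_of_surjective _ pr_surj).symm

theorem mem_comap_cent (g x : S2 F) : x ∈ (Subgroup.centralizer ({pr g} : Set (PS F))).comap pr ↔ x * g = g * x ∨ x * g = -(g * x) := by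
  rw [Subgroup.mem_comap, Subgroup.mem_centralizer_singleton_iff, ← map_mul, ← map_mul, pr_eq]

theorem comap_cent_of_ne {g : S2 F} (h : 2 * (g : M2 F).trace ≠ 0 ∨ (2 : F) = 0) : (Subgroup.centralizer ({pr g} : Set (PS F))).comap pr = TT g := by
  ext x
  rw [mem_comap_cent, mem_TT_comm]
  constructor
  · rintro (h1 | h1)
    · exact h1.symm
    · rcases h with h | h
      · exfalso
        apply h
        have e : x * g * x⁻¹ = -g := by rw [h1]; simp [mul_assoc]
        have e2 := sl_trace_eq (isConj_iff.mpr ⟨x, e⟩ : IsConj g (-g))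
        have e3 : ((-g : S2 F) : M2 F).trace = - (g : M2 F).trace := by
          rw [Matrix.SpecialLinearGroup.coe_neg, Matrix.trace_neg]
        rw [e3] at e2
        linear_combination e2
      · rw [h1, ← neg_one_mul, neg_one_eq h, one_mul]
  · intro h1; exact Or.inl h1.symm

theorem comap_cent_of_eq {g : S2 F} (h2 : (2 : F) ≠ 0) (hg : ¬ IsScal (g : M2 F)) (ht : (g : M2 F).trace = 0) :
    (Subgroup.centralizer ({pr g} : Set (PS F))).comap pr = Subgroup.normalizer ((TT g : Subgroup (S2 F)) : Set (S2 F)) := by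
  have h4 : (4 : F) ≠ 0 := by
    have : (4 : F) = 2 * 2 := by norm_num
    rw [this]; exact mul_ne_zero h2 h2
  have ht4 : (g : M2 F).trace ^ 2 ≠ 4 := by rw [ht]; intro h; apply h4; rw [← h]; ring
  have hinv : g⁻¹ = -g := by
    apply sl_ext
    rw [sl_inv_eq, ht]; simp
  ext x
  rw [mem_comap_cent, mem_norm hg ht4 h2, mem_TT_comm, hinv, mul_inv_eq_iff_eq_mul, neg_mul]
  constructor
  · rintro (h | h)
    · exact Or.inl h.symm
    · exact Or.inr h
  · rintro (h | h)
    · exact Or.inl h.symm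
    · exact Or.inr h

theorem idx_of_card [Fintype F] (H : Subgroup (S2 F)) (n m : ℕ) (hn : Nat.card H = n) (hn0 : 0 < n) (h : Fintype.card F * (Fintype.card F - 1) * (Fintype.card F + 1) = m * n) : H.index = m := by
  classical
  have := H.index_mul_card
  rw [card_S2', hn, h] at this
  exact Nat.eq_of_mul_eq_mul_right hn0 this

theorem one_mem_range [Fintype F] : (1 : ℕ) = (Subgroup.centralizer ({(1 : PS F)} : Set (PS F))).index := by
  have : Subgroup.centralizer ({(1 : PS F)} : Set (PS F)) = ⊤ := by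
    ext x; simp [Subgroup.mem_centralizer_singleton_iff]
  rw [this, Subgroup.index_top]

theorem idx_scal {g : S2 F} (h : IsScal (g : M2 F)) : (Subgroup.centralizer ({pr g} : Set (PS F))).index = 1 := by
  have : Subgroup.centralizer ({pr g} : Set (PS F)) = ⊤ := by
    rw [(pr_eq_one g).mpr h]; ext x; simp [Subgroup.mem_centralizer_singleton_iff]
  rw [this, Subgroup.index_top]

theorem card_TT_par_even [Fintype F] (h2 : (2 : F) = 0) {g : S2 F} (hg : ¬ IsScal (g : M2 F)) (ht : (g : M2 F).trace ^ 2 = 4) : Nat.card (TT g) = Fintype.card F := by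
  have ht0 : (g : M2 F).trace = 0 := by
    have : (g : M2 F).trace ^ 2 = 0 := by rw [ht]; linear_combination 2 * h2
    exact pow_eq_zero_iff (two_ne_zero) |>.mp this
  have hc : IsConj g (parS 1 1 (by simp)) := by
    refine sl_isConj hg (par_not_isScal 1 1 one_ne_zero) ?_ (Or.inr h2)
    change (g : M2 F).trace = (par 1 1).trace
    rw [ht0, par_trace, h2]; simp
  rw [card_TT_conj hc, TT, card_cent_SL, card_CC_par_two h2]
  · simp [parS, par]
  · simp [parS, par]
  · simp [parS, par]

variable [Fintype F]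

theorem idx_par (h2 : (2 : F) ≠ 0) {g : S2 F} (hg : ¬ IsScal (g : M2 F)) (ht : (g : M2 F).trace ^ 2 = 4) : (Subgroup.centralizer ({pr g} : Set (PS F))).index = (Fintype.card F ^ 2 - 1) / 2 := by
  have h4 : (4 : F) ≠ 0 := by
    have : (4 : F) = 2 * 2 := by norm_num
    rw [this]; exact mul_ne_zero h2 h2
  rw [index_pr, comap_cent_of_ne]
  · obtain ⟨m, hm⟩ := (gcd_of_odd h2).2
    refine idx_of_card _ _ _ (card_TT_par h2 hg ht) (by have := Fintype.card_pos (α := F); omega) ?_
    rw [hm]
    have e1 : (2 * m + 1) ^ 2 - 1 = 2 * (2 * m * (m + 1)) := by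
      rw [Nat.sub_eq_iff_eq_add (Nat.one_le_iff_ne_zero.mpr (by positivity))]; ring
    rw [e1, Nat.mul_div_cancel_left _ (by norm_num), Nat.add_sub_cancel]
    ring
  · left
    intro h
    rcases mul_eq_zero.mp h with h | h
    · exact h2 h
    · rw [h] at ht; apply h4; rw [← ht]; ring

theorem idx_split_gen {g : S2 F} (hg : ¬ IsScal (g : M2 F)) (ht : (g : M2 F).trace ^ 2 ≠ 4) (ha : ¬ Aniso (g : M2 F)) (h : 2 * (g : M2 F).trace ≠ 0 ∨ (2 : F) = 0) :
    (Subgroup.centralizer ({pr g} : Set (PS F))).index = Fintype.card F * (Fintype.card F + 1) := by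
  rw [index_pr, comap_cent_of_ne h]
  refine idx_of_card _ _ _ (card_TT_split hg ht ha) (by have := two_le_card (F := F); omega) ?_
  ring

theorem idx_aniso_gen {g : S2 F} (ha : Aniso (g : M2 F)) (h : 2 * (g : M2 F).trace ≠ 0 ∨ (2 : F) = 0) :
    (Subgroup.centralizer ({pr g} : Set (PS F))).index = Fintype.card F * (Fintype.card F - 1) := by
  rw [index_pr, comap_cent_of_ne h]
  refine idx_of_card _ _ _ (card_TT_aniso ha) (by have := two_le_card (F := F); omega) ?_
  ring

open Classical in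
theorem idx_invol (h2 : (2 : F) ≠ 0) {g : S2 F} (hg : ¬ IsScal (g : M2 F)) (ht : (g : M2 F).trace = 0) :
    (Subgroup.centralizer ({pr g} : Set (PS F))).index = if Aniso (g : M2 F) then Fintype.card F * (Fintype.card F - 1) / 2 else Fintype.card F * (Fintype.card F + 1) / 2 := by
  classical
  have h4 : (4 : F) ≠ 0 := by
    have : (4 : F) = 2 * 2 := by norm_num
    rw [this]; exact mul_ne_zero h2 h2
  have ht4 : (g : M2 F).trace ^ 2 ≠ 4 := by rw [ht]; intro h; apply h4; rw [← h]; ring
  rw [index_pr, comap_cent_of_eq h2 hg ht]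
  obtain ⟨m, hm⟩ := (gcd_of_odd h2).2
  have hc := two_le_card (F := F)
  split_ifs with ha
  · have hT := card_TT_aniso ha
    have hT' : Nat.card (TT g) = 2 * (m + 1) := by rw [hT, hm]; ring
    have hN := (cases_norm hg ht4 h2 hT').1
    rw [hT'] at hN
    refine idx_of_card _ _ _ hN (by omega) ?_
    rw [hm, Nat.add_sub_cancel]
    have e1 : (2 * m + 1) * (2 * m) / 2 = (2 * m + 1) * m := by
      rw [show (2 * m + 1) * (2 * m) = 2 * ((2 * m + 1) * m) by ring]; simp
    rw [e1]; ring
  · have hT := card_TT_split hg ht4 ha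
    have hT' : Nat.card (TT g) = 2 * m := by rw [hT, hm]; simp
    have hN := (cases_norm hg ht4 h2 hT').1
    rw [hT'] at hN
    refine idx_of_card _ _ _ hN (by omega) ?_
    rw [hm, Nat.add_sub_cancel]
    have e1 : (2 * m + 1) * (2 * m + 1 + 1) / 2 = (2 * m + 1) * (m + 1) := by
      rw [show (2 * m + 1) * (2 * m + 1 + 1) = 2 * ((2 * m + 1) * (m + 1)) by ring]; simp
    rw [e1]; ring

theorem idx_par_even (h2 : (2 : F) = 0) {g : S2 F} (hg : ¬ IsScal (g : M2 F)) (ht : (g : M2 F).trace ^ 2 = 4) : (Subgroup.centralizer ({pr g} : Set (PS F))).index = Fintype.card F ^ 2 - 1 := by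
  rw [index_pr, comap_cent_of_ne (Or.inr h2)]
  refine idx_of_card _ _ _ (card_TT_par_even h2 hg ht) Fintype.card_pos ?_
  have hc := Fintype.card_pos (α := F)
  obtain ⟨k, hk⟩ : ∃ k, Fintype.card F = k + 1 := ⟨Fintype.card F - 1, by omega⟩
  rw [hk, Nat.add_sub_cancel]
  have e1 : (k + 1) ^ 2 - 1 = k * (k + 2) := by
    rw [Nat.sub_eq_iff_eq_add (Nat.one_le_iff_ne_zero.mpr (by positivity))]; ring
  rw [e1]; ring

/-- the involution type -/
theorem aniso_zero_iff (h2 : (2 : F) ≠ 0) {g : S2 F} (ht : (g : M2 F).trace = 0) : Aniso (g : M2 F) ↔ Fintype.card F % 4 = 3 := by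
  have h4 : (4 : F) ≠ 0 := by
    have : (4 : F) = 2 * 2 := by norm_num
    rw [this]; exact mul_ne_zero h2 h2
  rw [aniso_disc_sq h2, ht]
  have e : IsSquare ((0 : F) ^ 2 - 4) ↔ IsSquare (-1 : F) := by
    constructor
    · rintro ⟨s, hs⟩
      refine ⟨s / 2, ?_⟩
      field_simp
      linear_combination hs
    · rintro ⟨s, hs⟩
      exact ⟨2 * s, by linear_combination 4 * hs⟩
  rw [e, FiniteField.isSquare_neg_one_iff]
  have ho := (gcd_of_odd h2).2
  rw [Nat.odd_iff] at ho
  constructor
  · intro h; push Not at h; exact h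
  · intro h; rw [h]; simp

/-- a generator of a torus has nonzero trace -/
theorem exists_gen_ne (h2 : (2 : F) ≠ 0) {g : S2 F} (hg : ¬ IsScal (g : M2 F)) (ht : (g : M2 F).trace ^ 2 ≠ 4) (h5 : 4 < Nat.card (TT g)) :
    ∃ x : S2 F, TT x = TT g ∧ ¬ IsScal (x : M2 F) ∧ (x : M2 F).trace ≠ 0 := by
  haveI := tor_cyclic g hg ht
  obtain ⟨t, htg⟩ := IsCyclic.exists_generator (α := TT g)
  have hot : orderOf t = Nat.card (TT g) := orderOf_eq_card_of_forall_mem_zpowers htg
  have hbig : ∀ k : ℕ, 0 < k → (t : S2 F) ^ k = 1 → 4 < k := by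
    intro k hk h
    have h1 : t ^ k = 1 := Subtype.ext h
    have := Nat.le_of_dvd hk (orderOf_dvd_of_pow_eq_one h1)
    omega
  have hns : ¬ IsScal ((t : S2 F) : M2 F) := by
    intro hs
    rcases scal_sl' hs with h | h
    · have := hbig 1 one_pos (by rw [pow_one, h]); omega
    · have := hbig 2 two_pos (by rw [h]; simp); omega
  refine ⟨t, TT_eq hg t.2 hns, hns, ?_⟩
  intro h0
  have hch := ch2 (t : S2 F)
  rw [h0, zero_smul, zero_sub] at hch
  have : (t : S2 F) ^ 4 = 1 := by
    have h1 : (t : S2 F) * (t : S2 F) = -1 := by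
      apply sl_ext
      rw [Matrix.SpecialLinearGroup.coe_mul, hch]; simp
    calc (t : S2 F) ^ 4 = (t * t) * (t * t) := by simp only [pow_succ, pow_zero, one_mul, mul_assoc]
      _ = 1 := by rw [h1]; simp
  have := hbig 4 (by norm_num) this
  omega

end CfsgLib.GL2a
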