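import Cfsg.Agent.Lib.GLf3
set_option autoImplicit false
set_option linter.style.haveILetI false
set_option linter.unusedSectionVars false

/-! Products of classes in `SL₂`, `PSL₂`. -/

namespace CfsgLib.GL2a
open Matrix Cfsg

variable {F : Type*} [Field F]

theorem solve_conic [Finite F] (τ t s : F) (h : τ ^ 2 ≠ 4) : ∃ x z : F, x ^ 2 + τ * x * z + z ^ 2 - t * x - s * z + 1 = 0 := by
  have hD : 4 - τ ^ 2 ≠ 0 := sub_ne_zero.mpr (Ne.symm h)
  set α := (2 * t - τ * s) / (4 - τ ^ 2) with hα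
  set β := (2 * s - τ * t) / (4 - τ ^ 2) with hβ
  have e1 : 2 * α + τ * β = t := by rw [hα, hβ]; field_simp; ring
  have e2 : τ * α + 2 * β = s := by rw [hα, hβ]; field_simp; ring
  obtain ⟨x, z, hxz⟩ := norm_univ (t := τ) (d := 1) (Or.inl (by rw [mul_one]; exact h)) (t * α + s * β - 1 - (α ^ 2 + τ * α * β + β ^ 2))
  refine ⟨x + α, z + β, ?_⟩
  linear_combination hxz + x * e1 + z * e2

theorem cS_trace (t : F) : (cS t : M2 F).trace = t := by rw [tr_eq]; simp [cS]

theorem cS_not_isScal (t : F) : ¬ IsScal (cS t : M2 F) := by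
  intro hs
  have := hs.2.1
  simp [cS] at this

theorem exists_XY [Finite F] (τ r s : F) (h : τ ^ 2 ≠ 4) : ∃ X Y : S2 F, (X : M2 F).trace = r ∧ (Y : M2 F).trace = s ∧ X * Y = cS τ := by
  obtain ⟨x, z, hxz⟩ := solve_conic τ r s h
  have hdet : (!![x, z + x * τ - s; z, r - x] : M2 F).det = 1 := by
    rw [det_e]; simp; linear_combination -hxz
  let X : S2 F := ⟨!![x, z + x * τ - s; z, r - x], hdet⟩
  refine ⟨X, X⁻¹ * cS τ, ?_, ?_, by group⟩
  · rw [tr_eq]; simp [X]
  · rw [tr_eq, Matrix.SpecialLinearGroup.coe_mul, mul_e00, mul_e11, Matrix.SpecialLinearGroup.SL2_inv_expl]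
    simp [X, cS]

theorem isConj_of_trace [Finite F] {a b : S2 F} (ht : (a : M2 F).trace ^ 2 ≠ 4) (h : (a : M2 F).trace = (b : M2 F).trace) : IsConj a b := by
  have key : ∀ c : S2 F, (c : M2 F).trace ^ 2 ≠ 4 → ¬ IsScal (c : M2 F) := by
    intro c hc hs
    apply hc
    have := sl_det c
    rw [det_e, hs.1, ← hs.2.2] at this
    rw [tr_eq, ← hs.2.2]
    linear_combination 4 * this
  exact sl_isConj (key a ht) (key b (h ▸ ht)) h (Or.inl ht)

theorem three_pm {F : Type*} [Field F] (S : Finset F) (h : 3 ≤ S.card) : ∃ a ∈ S, ∃ b ∈ S, a ≠ b ∧ a ≠ -b := by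
  classical
  by_contra hcon
  push Not at hcon
  obtain ⟨v, hv⟩ : S.Nonempty := Finset.card_pos.mp (by omega)
  have : S ⊆ {v, -v} := by
    intro x hx
    simp only [Finset.mem_insert, Finset.mem_singleton]
    by_cases h1 : x = v
    · exact Or.inl h1
    · exact Or.inr (hcon x hx v hv h1)
  have := (Finset.card_le_card this).trans Finset.card_le_two
  omega

/-- conjugates of products -/
theorem pr_conj_trace {g h : S2 F} (hc : IsConj (pr g) (pr h)) : (g : M2 F).trace = (h : M2 F).trace ∨ (g : M2 F).trace = -(h : M2 F).trace := by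
  obtain ⟨c, hc⟩ := isConj_iff.mp hc
  obtain ⟨c, rfl⟩ := pr_surj c
  rw [← map_mul, ← map_inv, ← map_mul, pr_eq] at hc
  have e0 := sl_trace_eq (isConj_iff.mpr ⟨c, rfl⟩ : IsConj g (c * g * c⁻¹))
  rcases hc with hc | hc
  · left; rw [e0, hc]
  · right
    rw [e0, hc, Matrix.SpecialLinearGroup.coe_neg, Matrix.trace_neg]

theorem par_conj [Fintype F] {g : S2 F} (hg : ¬ IsScal (g : M2 F)) (ht : (g : M2 F).trace ^ 2 = 4) : ∃ (e b : F) (he : e * e = 1), b ≠ 0 ∧ IsConj g (parS e b he) := by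
  by_cases h2 : (2 : F) = 0
  · have ht0 : (g : M2 F).trace = 0 := by
      have : (g : M2 F).trace ^ 2 = 0 := by rw [ht]; linear_combination 2 * h2
      exact pow_eq_zero_iff (two_ne_zero) |>.mp this
    refine ⟨1, 1, by simp, one_ne_zero, sl_isConj hg (par_not_isScal 1 1 one_ne_zero) ?_ (Or.inr h2)⟩
    change (g : M2 F).trace = (par 1 1).trace
    rw [ht0, par_trace, h2]; simp
  · obtain ⟨nu, hnu⟩ := exists_nonsq h2
    obtain ⟨e, he, hte⟩ : ∃ e : F, e * e = 1 ∧ (g : M2 F).trace = 2 * e := by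
      refine ⟨(g : M2 F).trace / 2, ?_, ?_⟩
      · field_simp; linear_combination ht
      · field_simp
    rcases sl_par_rep h2 hnu g hg e he hte with h | h
    · exact ⟨e, 1, he, one_ne_zero, h⟩
    · exact ⟨e, nu, he, by rintro rfl; exact hnu ⟨0, by simp⟩, h⟩

/-- traces of products -/
def TS (a b : S2 F) : Set F := {τ | ∃ X Y : S2 F, IsConj a X ∧ IsConj b Y ∧ ((X * Y : S2 F) : M2 F).trace = τ}

theorem TS_symm {a b : S2 F} {τ : F} (h : τ ∈ TS a b) : τ ∈ TS b a := by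
  obtain ⟨X, Y, hX, hY, h⟩ := h
  refine ⟨Y, X, hY, hX, ?_⟩
  rw [← h, Matrix.SpecialLinearGroup.coe_mul, Matrix.SpecialLinearGroup.coe_mul, Matrix.trace_mul_comm]

theorem TS_gen [Finite F] {a b : S2 F} (ha : (a : M2 F).trace ^ 2 ≠ 4) (hb : (b : M2 F).trace ^ 2 ≠ 4) {τ : F} (h : τ ^ 2 ≠ 4) : τ ∈ TS a b := by
  obtain ⟨X, Y, h1, h2, h3⟩ := exists_XY τ (a : M2 F).trace (b : M2 F).trace h
  exact ⟨X, Y, isConj_of_trace ha h1.symm, isConj_of_trace hb h2.symm, by rw [h3, cS_trace]⟩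

theorem TS_par [Fintype F] {a b : S2 F} (ha : ¬ IsScal (a : M2 F)) (hta : (a : M2 F).trace ^ 2 = 4) (hb : (b : M2 F).trace ^ 2 ≠ 4) : ∃ e ρ : F, ρ ≠ 0 ∧ ∀ z : F, z ≠ 0 → e + ρ * z ∈ TS a b := by
  obtain ⟨e, ρ, he, hρ, hc⟩ := par_conj ha hta
  refine ⟨e * (b : M2 F).trace, ρ, hρ, fun z hz => ?_⟩
  let Y : S2 F := ⟨!![0, -z⁻¹; z, (b : M2 F).trace], by rw [det_e]; simp [hz]⟩
  refine ⟨parS e ρ he, Y, hc, isConj_of_trace hb (by rw [tr_eq, tr_eq]; simp [Y, tr_eq]), ?_⟩
  rw [tr_eq, Matrix.SpecialLinearGroup.coe_mul, mul_e00, mul_e11]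
  simp [Y, parS, par]
  ring

theorem TS_par2 [Fintype F] {a b : S2 F} (ha : ¬ IsScal (a : M2 F)) (hta : (a : M2 F).trace ^ 2 = 4) (hb : ¬ IsScal (b : M2 F)) (htb : (b : M2 F).trace ^ 2 = 4) : ∃ e ρ : F, ρ ≠ 0 ∧ ∀ z : F, e + ρ * z ^ 2 ∈ TS a b := by
  obtain ⟨e, ρ, he, hρ, hc⟩ := par_conj ha hta
  obtain ⟨e', σ, he', hσ, hc'⟩ := par_conj hb htb
  refine ⟨2 * e * e', -(ρ * σ), neg_ne_zero.mpr (mul_ne_zero hρ hσ), fun z => ?_⟩
  let g : S2 F := ⟨!![1, 0; z, 1], by rw [det_e]; simp⟩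
  refine ⟨parS e ρ he, g * parS e' σ he' * g⁻¹, hc, hc'.trans (isConj_iff.mpr ⟨g, rfl⟩), ?_⟩
  have hY : ((g * parS e' σ he' * g⁻¹ : S2 F) : M2 F) = !![e' - σ * z, σ; -(σ * z ^ 2), e' + σ * z] := by
    rw [Matrix.SpecialLinearGroup.coe_mul, Matrix.SpecialLinearGroup.coe_mul, sl_inv_eq]
    apply ext4 <;> simp only [mul_e00, mul_e10, mul_e01, mul_e11, tr_eq] <;> simp [g, parS, par, tr_eq] <;> ring
  rw [tr_eq, Matrix.SpecialLinearGroup.coe_mul, hY, mul_e00, mul_e11]
  simp [parS, par]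
  ring

theorem exists_c0 [Fintype F] (h4 : 4 ≤ Fintype.card F) : ∃ a : F, a ≠ 0 ∧ a ≠ 1 ∧ a ≠ -1 := by
  classical
  by_contra h
  push Not at h
  have : (Finset.univ : Finset F) ⊆ {0, 1, -1} := by
    intro x _
    simp only [Finset.mem_insert, Finset.mem_singleton]
    by_cases h0 : x = 0
    · exact Or.inl h0
    · by_cases h1 : x = 1
      · exact Or.inr (Or.inl h1)
      · exact Or.inr (Or.inr (h x h0 h1))
  have := (Finset.card_le_card this).trans (Finset.card_le_three)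
  rw [Finset.card_univ] at this
  omega

theorem TS_three [Fintype F] (h4 : 4 ≤ Fintype.card F) {a b : S2 F} (ha : ¬ IsScal (a : M2 F)) (hb : ¬ IsScal (b : M2 F)) : ∃ S : Finset F, 3 ≤ S.card ∧ ∀ τ ∈ S, τ ∈ TS a b := by
  classical
  obtain ⟨c0, hc0, hc1, hc2⟩ := exists_c0 h4
  have hcc : c0 ^ 2 ≠ 1 := by
    intro h
    rw [sq] at h
    rcases mul_self_eq_one_iff.mp h with h | h
    · exact hc1 h
    · exact hc2 h
  have hlin : ∀ e ρ : F, ρ ≠ 0 → (∀ z : F, z ≠ 0 → e + ρ * z ∈ TS a b) → ∃ S : Finset F, 3 ≤ S.card ∧ ∀ τ ∈ S, τ ∈ TS a b := by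
    intro e ρ hρ h
    refine ⟨{e + ρ * 1, e + ρ * c0, e + ρ * c0⁻¹}, ?_, ?_⟩
    · rw [Finset.card_eq_three.mpr ⟨e + ρ * 1, e + ρ * c0, e + ρ * c0⁻¹, ?_, ?_, ?_, rfl⟩]
      · intro h'
        exact hc1 (mul_left_cancel₀ hρ (add_left_cancel h')).symm
      · intro h'
        have := mul_left_cancel₀ hρ (add_left_cancel h')
        exact hc1 (by rw [← inv_inv c0, ← this, inv_one])
      · intro h'
        have := mul_left_cancel₀ hρ (add_left_cancel h')
        apply hcc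
        nth_rewrite 1 [sq, this]; exact inv_mul_cancel₀ hc0
    · intro τ hτ
      simp only [Finset.mem_insert, Finset.mem_singleton] at hτ
      rcases hτ with rfl | rfl | rfl
      · exact h 1 one_ne_zero
      · exact h c0 hc0
      · exact h _ (inv_ne_zero hc0)
  by_cases hta : (a : M2 F).trace ^ 2 = 4
  · by_cases htb : (b : M2 F).trace ^ 2 = 4
    · obtain ⟨e, ρ, hρ, h⟩ := TS_par2 ha hta hb htb
      refine ⟨{e + ρ * 0 ^ 2, e + ρ * 1 ^ 2, e + ρ * c0 ^ 2}, ?_, ?_⟩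
      · rw [Finset.card_eq_three.mpr ⟨e + ρ * 0 ^ 2, e + ρ * 1 ^ 2, e + ρ * c0 ^ 2, ?_, ?_, ?_, rfl⟩]
        · intro h'
          have := mul_left_cancel₀ hρ (add_left_cancel h')
          simp at this
        · intro h'
          have := mul_left_cancel₀ hρ (add_left_cancel h')
          rw [zero_pow two_ne_zero] at this
          exact hc0 (pow_eq_zero_iff two_ne_zero |>.mp this.symm)
        · intro h'
          have := mul_left_cancel₀ hρ (add_left_cancel h')
          exact hcc (by rw [← this, one_pow])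
      · intro τ hτ
        simp only [Finset.mem_insert, Finset.mem_singleton] at hτ
        rcases hτ with rfl | rfl | rfl <;> exact h _
    · obtain ⟨e, ρ, hρ, h⟩ := TS_par ha hta htb
      exact hlin e ρ hρ h
  · by_cases htb : (b : M2 F).trace ^ 2 = 4
    · obtain ⟨e, ρ, hρ, h⟩ := TS_par hb htb hta
      exact hlin e ρ hρ (fun z hz => TS_symm (h z hz))
    · refine ⟨Finset.univ.filter (fun τ => τ ^ 2 ≠ 4), ?_, fun τ hτ => TS_gen hta htb (Finset.mem_filter.mp hτ).2⟩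
      have h1 : (Finset.univ.filter (fun τ : F => ¬ τ ^ 2 ≠ 4)) ⊆ {2, -2} := by
        intro x hx
        simp only [Finset.mem_filter, Finset.mem_univ, true_and, not_not] at hx
        simp only [Finset.mem_insert, Finset.mem_singleton]
        have : (x - 2) * (x + 2) = 0 := by linear_combination hx
        rcases mul_eq_zero.mp this with h | h
        · left; linear_combination h
        · right; linear_combination h
      have h2 := Finset.card_filter_add_card_filter_not (s := (Finset.univ : Finset F)) (fun τ : F => τ ^ 2 ≠ 4)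
      rw [Finset.card_univ] at h2
      by_cases hp : (2 : F) = 0
      · have h3 : ({2, -2} : Finset F) = {0} := by rw [hp]; simp
        rw [h3] at h1
        have := Finset.card_le_card h1
        rw [Finset.card_singleton] at this
        omega
      · have := (Finset.card_le_card h1).trans Finset.card_le_two
        have := (gcd_of_odd hp).2
        obtain ⟨m, hm⟩ := this
        omega

end CfsgLib.GL2a
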