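import Cfsg.Agent.Lib.GLf4
set_option autoImplicit false
set_option linter.style.haveILetI false
set_option linter.unusedSectionVars false

/-! Sylow 2-subgroups of `SL₂`, odd `q`. -/

namespace CfsgLib.GL2a
open Matrix Cfsg

variable {F : Type*} [Field F]

theorem mem_smul_syl {G : Type*} [Group G] {p : ℕ} (g s : G) (P : Sylow p G) : s ∈ g • P ↔ g⁻¹ * s * g ∈ P := by
  change s ∈ ((g • P : Sylow p G) : Subgroup G) ↔ g⁻¹ * s * g ∈ (P : Subgroup G)
  rw [Sylow.coe_subgroup_smul, Subgroup.mem_pointwise_smul_iff_inv_smul_mem, ← map_inv]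
  simp [MulAut.smul_def]

theorem four_ne (h2 : (2 : F) ≠ 0) : (4 : F) ≠ 0 := by
  have : (4 : F) = 2 * 2 := by norm_num
  rw [this]; exact mul_ne_zero h2 h2

theorem tr_of_sq {i : S2 F} (h : i * i = -1) (h2 : (2 : F) ≠ 0) : (i : M2 F).trace = 0 ∧ ¬ IsScal (i : M2 F) ∧ (i : M2 F).trace ^ 2 ≠ 4 ∧ i⁻¹ = -i := by
  have h1 : (i : M2 F) * (i : M2 F) = -1 := by
    have := congrArg (fun y : S2 F => (y : M2 F)) h
    simpa using this
  rw [ch2] at h1
  have h3 : (i : M2 F).trace • (i : M2 F) = 0 := by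
    have : (i : M2 F).trace • (i : M2 F) - 1 + 1 = -1 + 1 := by rw [h1]
    simpa using this
  have ht : (i : M2 F).trace = 0 := by
    by_contra hne
    have h4 : (i : M2 F) = 0 := by
      have := congrArg (fun y => ((i : M2 F).trace)⁻¹ • y) h3
      simpa [smul_smul, inv_mul_cancel₀ hne] using this
    have := sl_det i
    rw [h4] at this
    simp at this
  refine ⟨ht, ?_, ?_, ?_⟩
  · intro hs
    rcases scal_sl' hs with h' | h'
    · rw [h'] at h; simp at h; exact neg_one_ne h2 h.symm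
    · rw [h'] at h; simp at h; exact neg_one_ne h2 h.symm
  · rw [ht]; intro h; apply four_ne h2; rw [← h]; ring
  · apply sl_ext; rw [sl_inv_eq, ht]; simp

variable [Fintype F]

theorem card_TT_zero (h2 : (2 : F) ≠ 0) {i : S2 F} (h : i * i = -1) :
    (Fintype.card F % 4 = 3 → Nat.card (TT i) = Fintype.card F + 1) ∧ (Fintype.card F % 4 ≠ 3 → Nat.card (TT i) = Fintype.card F - 1) ∧ 4 ∣ Nat.card (TT i) ∧ ¬ 2 ∣ (Subgroup.normalizer ((TT i : Subgroup (S2 F)) : Set (S2 F))).index ∧ 2 ∣ (TT i).index := by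
  classical
  obtain ⟨ht, hs, ht4, -⟩ := tr_of_sq h h2
  have hG := card_S2' (F := F)
  have ho := (gcd_of_odd h2).2
  rw [Nat.odd_iff] at ho
  have hc := two_le_card (F := F)
  by_cases h3 : Fintype.card F % 4 = 3
  · have hT := card_TT_aniso ((aniso_zero_iff h2 ht).mpr h3)
    obtain ⟨m, hm⟩ : ∃ m, Fintype.card F = 4 * m + 3 := ⟨Fintype.card F / 4, by omega⟩
    have hT' : Nat.card (TT i) = 2 * (2 * m + 2) := by rw [hT, hm]; ring
    have hN := (cases_norm hs ht4 h2 hT').1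
    have hNi : (Subgroup.normalizer ((TT i : Subgroup (S2 F)) : Set (S2 F))).index = (4 * m + 3) * (2 * m + 1) := by
      refine idx_of_card _ _ _ (hN.trans (by rw [hT'])) (by omega) ?_
      rw [hm, show 4 * m + 3 - 1 = 4 * m + 2 by omega]; ring
    refine ⟨fun _ => hT, fun h => absurd h3 h, by rw [hT, hm]; omega, ?_, ?_⟩
    · rw [hNi, Nat.prime_two.dvd_mul]; omega
    · have : (TT i).index = (4 * m + 3) * (4 * m + 2) := by
        refine idx_of_card _ _ _ hT' (by omega) ?_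
        rw [hm, show 4 * m + 3 - 1 = 4 * m + 2 by omega]; ring
      rw [this, Nat.prime_two.dvd_mul]; omega
  · have hT := card_TT_split hs ht4 (fun h => h3 ((aniso_zero_iff h2 ht).mp h))
    obtain ⟨m, hm⟩ : ∃ m, Fintype.card F = 4 * m + 1 := ⟨Fintype.card F / 4, by omega⟩
    have hT' : Nat.card (TT i) = 2 * (2 * m) := by rw [hT, hm]; simp; ring
    have hN := (cases_norm hs ht4 h2 hT').1
    have hNi : (Subgroup.normalizer ((TT i : Subgroup (S2 F)) : Set (S2 F))).index = (4 * m + 1) * (2 * m + 1) := by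
      refine idx_of_card _ _ _ (hN.trans (by rw [hT'])) (by omega) ?_
      rw [hm, Nat.add_sub_cancel]; ring
    refine ⟨fun h => absurd h h3, fun _ => hT, by rw [hT, hm]; omega, ?_, ?_⟩
    · rw [hNi, Nat.prime_two.dvd_mul]; omega
    · have : (TT i).index = (4 * m + 1) * (4 * m + 2) := by
        refine idx_of_card _ _ _ hT' (by omega) ?_
        rw [hm, Nat.add_sub_cancel]; ring
      rw [this, Nat.prime_two.dvd_mul]; omega

theorem syl2_data (h2 : (2 : F) ≠ 0) (S : Sylow 2 (S2 F)) : ∃ i : S2 F, i ∈ S ∧ i * i = -1 ∧ ∀ s ∈ S, s ∈ TT i ∨ s * i * s⁻¹ = i⁻¹ := by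
  classical
  have hi0 : (cS 0 : S2 F) * cS 0 = -1 := by
    apply sl_ext
    rw [Matrix.SpecialLinearGroup.coe_mul]
    apply ext4 <;> simp only [mul_e00, mul_e01, mul_e10, mul_e11] <;> simp [cS]
  set i0 : S2 F := cS 0
  obtain ⟨ht, hs, ht4, -⟩ := tr_of_sq hi0 h2
  obtain ⟨-, -, -, hNodd, -⟩ := card_TT_zero h2 hi0
  set N0 := Subgroup.normalizer ((TT i0 : Subgroup (S2 F)) : Set (S2 F)) with hN0
  have hi4 : i0 ^ (2 ^ 2) = 1 := by
    calc i0 ^ (2 ^ 2) = (i0 * i0) * (i0 * i0) := by norm_num; simp only [pow_succ, pow_zero, one_mul, mul_assoc]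
      _ = 1 := by rw [hi0]; simp
  have hiN : i0 ∈ N0 := Subgroup.le_normalizer (TT_self i0)
  have hpz : IsPGroup 2 (Subgroup.zpowers (⟨i0, hiN⟩ : N0)) := by
    rw [IsPGroup.iff_card]
    have hd : orderOf (⟨i0, hiN⟩ : N0) ∣ 2 ^ 2 := orderOf_dvd_of_pow_eq_one (Subtype.ext hi4)
    obtain ⟨k, -, hk⟩ := (Nat.dvd_prime_pow Nat.prime_two).mp hd
    exact ⟨k, by rw [Nat.card_zpowers, hk]⟩
  obtain ⟨Q, hQ⟩ := hpz.exists_le_sylow
  have hQp : IsPGroup 2 ((Q : Subgroup N0).map N0.subtype) := Q.isPGroup'.map _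
  obtain ⟨S0, hS0⟩ := hQp.exists_le_sylow
  -- S0 has the same order as Q
  have hcardQ : Nat.card ((Q : Subgroup N0).map N0.subtype) = Nat.card Q := Nat.card_congr ((Q : Subgroup N0).equivMapOfInjective N0.subtype N0.subtype_injective).symm.toEquiv
  have hcard : Nat.card S0 ∣ Nat.card ((Q : Subgroup N0).map N0.subtype) := by
    rw [hcardQ]
    have hcop : (Nat.card S0).Coprime N0.index := by
      obtain ⟨n, hn⟩ := IsPGroup.iff_card.mp S0.isPGroup'
      rw [hn]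
      exact Nat.Coprime.pow_left _ ((Nat.prime_two.coprime_iff_not_dvd).mpr hNodd)
    have h1 : Nat.card S0 ∣ Nat.card N0 * N0.index := by
      rw [N0.card_mul_index]; exact Subgroup.card_subgroup_dvd_card _
    have h3 : Nat.card S0 ∣ Nat.card N0 := hcop.dvd_of_dvd_mul_right h1
    obtain ⟨n, hn⟩ := IsPGroup.iff_card.mp S0.isPGroup'
    rw [hn] at h3 ⊢
    exact Sylow.pow_dvd_card_of_pow_dvd_card Q h3
  have hS0eq : (Q : Subgroup N0).map N0.subtype = (S0 : Subgroup (S2 F)) :=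
    Subgroup.eq_of_le_of_card_ge hS0 (Nat.le_of_dvd Nat.card_pos hcard)
  obtain ⟨g, hg⟩ := MulAction.exists_smul_eq (S2 F) S0 S
  have hmemS : ∀ s, s ∈ S → g⁻¹ * s * g ∈ N0 := by
    intro s hs
    have h1 : s ∈ (g • S0 : Sylow 2 (S2 F)) := by rw [hg]; exact hs
    rw [mem_smul_syl] at h1
    have h3 : g⁻¹ * s * g ∈ (S0 : Subgroup (S2 F)) := h1
    rw [← hS0eq] at h3
    obtain ⟨y, -, hy⟩ := Subgroup.mem_map.mp h3
    rw [← hy]; exact y.2
  refine ⟨g * i0 * g⁻¹, ?_, ?_, ?_⟩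
  · rw [← hg, mem_smul_syl]
    have e : g⁻¹ * (g * i0 * g⁻¹) * g = i0 := by group
    rw [e]
    change i0 ∈ (S0 : Subgroup (S2 F))
    rw [← hS0eq]
    exact Subgroup.mem_map.mpr ⟨⟨i0, hiN⟩, hQ (Subgroup.mem_zpowers _), rfl⟩
  · calc g * i0 * g⁻¹ * (g * i0 * g⁻¹) = g * (i0 * i0) * g⁻¹ := by group
      _ = -1 := by rw [hi0]; simp
  · intro s hs
    rcases (mem_norm ‹_› ht4 h2).mp (hmemS s hs) with h | h
    · left
      rw [mem_TT_comm] at h ⊢
      calc g * i0 * g⁻¹ * s = g * (i0 * (g⁻¹ * s * g)) * g⁻¹ := by group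
        _ = g * ((g⁻¹ * s * g) * i0) * g⁻¹ := by rw [h]
        _ = s * (g * i0 * g⁻¹) := by group
    · right
      calc s * (g * i0 * g⁻¹) * s⁻¹ = g * ((g⁻¹ * s * g) * i0 * (g⁻¹ * s * g)⁻¹) * g⁻¹ := by group
        _ = g * i0⁻¹ * g⁻¹ := by rw [h]
        _ = (g * i0 * g⁻¹)⁻¹ := by group

end CfsgLib.GL2a
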