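import Cfsg.Agent.Lib.GLf5
set_option autoImplicit false
set_option linter.style.haveILetI false
set_option linter.unusedSectionVars false

/-! Normalizers of Sylow 2-subgroups of `SL₂`, odd `q`. -/

namespace CfsgLib.GL2a
open Matrix Cfsg

variable {F : Type*} [Field F] [Fintype F]

/-- the data of a Sylow 2-subgroup -/
structure S2D (S : Sylow 2 (S2 F)) (i : S2 F) : Prop where
  h2 : (2 : F) ≠ 0
  mem : i ∈ S
  sq : i * i = -1
  act : ∀ s ∈ S, s ∈ TT i ∨ s * i * s⁻¹ = i⁻¹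

theorem exists_S2D (h2 : (2 : F) ≠ 0) (S : Sylow 2 (S2 F)) : ∃ i, S2D S i := by
  obtain ⟨i, h1, h3, h4⟩ := syl2_data h2 S
  exact ⟨i, h2, h1, h3, h4⟩

variable {S : Sylow 2 (S2 F)} {i : S2 F}

theorem S2D.ns (h : S2D S i) : ¬ IsScal (i : M2 F) := (tr_of_sq h.sq h.h2).2.1
theorem S2D.t4 (h : S2D S i) : (i : M2 F).trace ^ 2 ≠ 4 := (tr_of_sq h.sq h.h2).2.2.1
theorem S2D.t0 (h : S2D S i) : (i : M2 F).trace = 0 := (tr_of_sq h.sq h.h2).1
theorem S2D.inv (h : S2D S i) : i⁻¹ = -i := (tr_of_sq h.sq h.h2).2.2.2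

theorem S2D.neg_mem (h : S2D S i) : (-1 : S2 F) ∈ S := by rw [← h.sq]; exact mul_mem h.mem h.mem

theorem S2D.exists_w (h : S2D S i) : ∃ w ∈ S, w ∉ TT i ∧ w * i * w⁻¹ = i⁻¹ ∧ w * w = -1 := by
  obtain ⟨w, hw, hwT⟩ : ∃ w ∈ S, w ∉ TT i := by
    by_contra hcon
    push Not at hcon
    have hle : (S : Subgroup (S2 F)) ≤ TT i := hcon
    have := Subgroup.relIndex_mul_index hle
    have hd : 2 ∣ (S : Subgroup (S2 F)).index := by
      rw [← this]; exact Dvd.dvd.mul_left (card_TT_zero h.h2 h.sq).2.2.2.2 _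
    exact S.not_dvd_index hd
  rcases h.act w hw with h1 | h1
  · exact absurd h1 hwT
  · exact ⟨w, hw, hwT, h1, w_sq h.ns h.h2 h1⟩

/-- 2-elements of the torus lie in `S` -/
theorem S2D.tmem (h : S2D S i) {x : S2 F} (hx : x ∈ TT i) {k : ℕ} (hk : x ^ 2 ^ k = 1) : x ∈ S := by
  have hp : IsPGroup 2 (Subgroup.zpowers x) := by
    rw [IsPGroup.iff_card]
    obtain ⟨m, -, hm⟩ := (Nat.dvd_prime_pow Nat.prime_two).mp (orderOf_dvd_of_pow_eq_one hk)
    exact ⟨m, by rw [Nat.card_zpowers, hm]⟩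
  have hnorm : (S : Subgroup (S2 F)) ≤ Subgroup.normalizer ((Subgroup.zpowers x : Subgroup (S2 F)) : Set (S2 F)) := by
    intro s hs
    rw [Subgroup.mem_normalizer_iff]
    have key : ∀ s ∈ S, ∀ y ∈ Subgroup.zpowers x, s * y * s⁻¹ ∈ Subgroup.zpowers x := by
      intro s hs y hy
      have hyT : y ∈ TT i := (Subgroup.zpowers_le.mpr hx) hy
      rcases h.act s hs with h1 | h1
      · have : s * y * s⁻¹ = y := by rw [mul_inv_eq_iff_eq_mul]; exact TT_comm h.ns h1 hyT
        rw [this]; exact hy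
      · rw [inv_act h.ns h1 hyT]; exact inv_mem hy
    intro y
    refine ⟨key s hs y, fun hy => ?_⟩
    have := key s⁻¹ (inv_mem hs) _ hy
    simpa [mul_assoc] using this
  have hsup := IsPGroup.to_sup_of_normal_right' S.isPGroup' hp hnorm
  have := S.is_maximal' hsup le_sup_left
  have hx' : x ∈ (S : Subgroup (S2 F)) ⊔ Subgroup.zpowers x := Subgroup.mem_sup_right (Subgroup.mem_zpowers x)
  rw [this] at hx'
  exact hx'

/-- `N(S) ∩ N(T) ≤ S` -/
theorem S2D.NT (h : S2D S i) {n : S2 F} (hn : n ∈ Subgroup.normalizer ((S : Subgroup (S2 F)) : Set (S2 F))) (hnT : n ∈ TT i ∨ n * i * n⁻¹ = i⁻¹) : n ∈ S := by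
  obtain ⟨w, hw, hwT, hwi, hww⟩ := h.exists_w
  have key : ∀ n, n ∈ Subgroup.normalizer ((S : Subgroup (S2 F)) : Set (S2 F)) → n ∈ TT i → n ∈ S := by
    intro n hn hnT
    have h1 : n * w * n⁻¹ ∈ (S : Subgroup (S2 F)) := (Subgroup.mem_normalizer_iff.mp hn w).mp hw
    have h3 : w * n * w⁻¹ = n⁻¹ := inv_act h.ns hwi hnT
    have h4 : n * n = n * w * n⁻¹ * w⁻¹ := by
      have : w * n⁻¹ * w⁻¹ = n := by
        have := congrArg (fun y => y⁻¹) h3
        simp only [_root_.mul_inv_rev, inv_inv] at this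
        rw [← mul_assoc] at this; exact this
      calc n * n = n * (w * n⁻¹ * w⁻¹) := by rw [this]
        _ = n * w * n⁻¹ * w⁻¹ := by group
    have h5 : n * n ∈ (S : Subgroup (S2 F)) := by rw [h4]; exact mul_mem h1 (inv_mem hw)
    obtain ⟨k, hk⟩ := S.isPGroup' ⟨n * n, h5⟩
    have hk' : (n * n) ^ 2 ^ k = 1 := congrArg Subtype.val hk
    refine h.tmem hnT (k := k + 1) ?_
    rw [pow_succ', pow_mul, _root_.sq]; exact hk'
  rcases hnT with h1 | h1
  · exact key n hn h1
  · have hnw : n * w ∈ TT i := by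
      rw [mem_TT_comm]
      have h3 : n * i⁻¹ * n⁻¹ = i := by
        have := congrArg (fun y => y⁻¹) h1
        simp only [_root_.mul_inv_rev, inv_inv] at this
        rw [← mul_assoc] at this; exact this
      have h4 : (n * w) * i * (n * w)⁻¹ = i := by
        calc (n * w) * i * (n * w)⁻¹ = n * (w * i * w⁻¹) * n⁻¹ := by group
          _ = i := by rw [hwi, h3]
      rw [mul_inv_eq_iff_eq_mul] at h4
      exact h4.symm
    have hwN : w ∈ Subgroup.normalizer ((S : Subgroup (S2 F)) : Set (S2 F)) := Subgroup.le_normalizer hw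
    have := key _ (mul_mem hn hwN) hnw
    have h5 := mul_mem this (inv_mem hw)
    rwa [mul_inv_cancel_right] at h5

theorem S2D.cent (h : S2D S i) : Subgroup.centralizer ((S : Subgroup (S2 F)) : Set (S2 F)) = Subgroup.center (S2 F) := by
  obtain ⟨w, hw, hwT, hwi, hww⟩ := h.exists_w
  apply le_antisymm
  · intro x hx
    rw [Subgroup.mem_centralizer_iff] at hx
    have h1 : x ∈ TT i := mem_TT_comm.mpr (hx i h.mem)
    have h3 := inv_act h.ns hwi h1
    have h4 : w * x * w⁻¹ = x := by rw [mul_inv_eq_iff_eq_mul]; exact hx w hw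
    rw [h4] at h3
    have h5 : x * x = 1 := by nth_rewrite 2 [h3]; simp
    rw [mem_center_iff_isScal]
    rcases sl_sq_one h.h2 h5 with h | h
    · rw [h]; exact isScal_one
    · rw [h]; exact isScal_neg_one
  · exact Subgroup.center_le_centralizer _

/-- large case -/
theorem S2D.norm_big (h : S2D S i) (h8 : 8 ∣ Nat.card (TT i)) : Subgroup.normalizer ((S : Subgroup (S2 F)) : Set (S2 F)) = (S : Subgroup (S2 F)) := by
  apply le_antisymm _ Subgroup.le_normalizer
  haveI := tor_cyclic i h.ns h.t4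
  obtain ⟨c, hcg⟩ := IsCyclic.exists_generator (α := TT i)
  have hot : orderOf c = Nat.card (TT i) := orderOf_eq_card_of_forall_mem_zpowers hcg
  obtain ⟨m, hm⟩ := h8
  have hm0 : 0 < m := by
    have : 0 < Nat.card (TT i) := Nat.card_pos
    rcases Nat.eq_zero_or_pos m with h0 | h0
    · rw [h0] at hm; omega
    · exact h0
  have ho : orderOf ((c ^ m : TT i) : S2 F) = 8 := by
    rw [Subgroup.orderOf_coe, orderOf_pow' _ hm0.ne', hot, hm, Nat.gcd_eq_right (Dvd.intro_left _ rfl)]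
    exact Nat.mul_div_cancel _ hm0
  set t : S2 F := ((c ^ m : TT i) : S2 F)
  have htT : t ∈ TT i := (c ^ m).2
  have htS : t ∈ S := h.tmem htT (k := 3) (by rw [show (2 : ℕ) ^ 3 = 8 by norm_num, ← ho, pow_orderOf_eq_one])
  have hno : ∀ y : S2 F, IsConj t y → y * y ≠ -1 := by
    intro y hy h1
    obtain ⟨g, rfl⟩ := isConj_iff.mp hy
    have h3 : g * (t * t) * g⁻¹ = -1 := by rw [← h1]; group
    have h4 : t * t = -1 := by
      have := congrArg (fun y => g⁻¹ * y * g) h3
      simpa [mul_assoc] using this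
    have h5 : t ^ 4 = 1 := by
      calc t ^ 4 = (t * t) * (t * t) := by simp only [pow_succ, pow_zero, one_mul, mul_assoc]
        _ = 1 := by rw [h4]; simp
    have := orderOf_dvd_of_pow_eq_one h5
    rw [ho] at this
    exact absurd (Nat.le_of_dvd (by norm_num) this) (by norm_num)
  have hts : ¬ IsScal (t : M2 F) := by
    intro hs
    have h1 : t * t = 1 := by
      rcases scal_sl' hs with h | h
      · rw [h]; simp
      · rw [h]; simp
    have := orderOf_dvd_of_pow_eq_one (show t ^ 2 = 1 by rw [_root_.sq]; exact h1)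
    rw [ho] at this
    exact absurd (Nat.le_of_dvd (by norm_num) this) (by norm_num)
  have hTT := TT_eq h.ns htT hts
  have ht4 : (t : M2 F).trace ^ 2 ≠ 4 := by
    intro h4
    have h1 := card_TT_par h.h2 hts h4
    have h3 := h.ns
    rw [hTT] at h1
    obtain ⟨k, hk⟩ := (gcd_of_odd h.h2).2
    rw [h1, hk] at hm
    omega
  intro n hn
  have h1 : n * t * n⁻¹ ∈ (S : Subgroup (S2 F)) := (Subgroup.mem_normalizer_iff.mp hn t).mp htS
  have h3 : n * t * n⁻¹ ∈ TT i := by
    rcases h.act _ h1 with h' | h'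
    · exact h'
    · exact absurd (w_sq h.ns h.h2 h') (hno _ (isConj_iff.mpr ⟨n, rfl⟩))
  rw [← hTT] at h3
  have h4 : ((n * t * n⁻¹ : S2 F) : M2 F).trace = (t : M2 F).trace := (sl_trace_eq (isConj_iff.mpr ⟨n, rfl⟩)).symm
  have h5 : n ∈ Subgroup.normalizer ((TT t : Subgroup (S2 F)) : Set (S2 F)) := by
    rw [mem_norm hts ht4 h.h2]
    rcases norm_cases hts ht4 h.h2 h3 h4 with h' | h'
    · left; rw [mem_TT_comm]; rw [mul_inv_eq_iff_eq_mul] at h'; exact h'.symm
    · exact Or.inr h'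
  rw [hTT, mem_norm h.ns h.t4 h.h2] at h5
  exact h.NT hn h5

end CfsgLib.GL2a
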