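import Cfsg.Agent.Lib.GLf6
set_option autoImplicit false
set_option linter.style.haveILetI false
set_option linter.unusedSectionVars false

/-! Normalizers of quaternion Sylow 2-subgroups of `SL₂`, odd `q`. -/

namespace CfsgLib.GL2a
open Matrix Cfsg

variable {F : Type*} [Field F]

/-- the element of order 3 (or 6) -/
theorem exists_u (h2 : (2 : F) ≠ 0) {i w : S2 F} (hi : i * i = -1) (hw : w * w = -1) (hwi : w * i * w⁻¹ = i⁻¹) :
    ∃ u : S2 F, u * i * u⁻¹ = w ∧ u * w * u⁻¹ = i * w := by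
  obtain ⟨hti, -, -, hinv⟩ := tr_of_sq hi h2
  obtain ⟨htw, -, -, -⟩ := tr_of_sq hw h2
  set I := (i : M2 F) with hI
  set W := (w : M2 F) with hW
  have hII : I * I = -1 := by
    have := congrArg (fun y : S2 F => (y : M2 F)) hi
    simpa using this
  have hWW : W * W = -1 := by
    have := congrArg (fun y : S2 F => (y : M2 F)) hw
    simpa using this
  have hWI : W * I = -(I * W) := by
    rw [hinv, mul_inv_eq_iff_eq_mul] at hwi
    have := congrArg (fun y : S2 F => (y : M2 F)) hwi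
    simpa using this
  have hd1 : (1 + I).det = 2 := by
    have := det_lin I 1 1
    rw [one_smul, one_smul, hti, sl_det] at this
    rw [this]; ring
  have hd2 : (1 + W).det = 2 := by
    have := det_lin W 1 1
    rw [one_smul, one_smul, htw, sl_det] at this
    rw [this]; ring
  have hdet : ((2 : F)⁻¹ • ((1 + I) * (1 + W))).det = 1 := by
    rw [Matrix.det_smul, Matrix.det_mul, hd1, hd2]
    simp only [Fintype.card_fin]
    field_simp
  let u : S2 F := ⟨(2 : F)⁻¹ • ((1 + I) * (1 + W)), hdet⟩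
  have hu : (u : M2 F) = (2 : F)⁻¹ • ((1 + I) * (1 + W)) := rfl
  have hIW2 : I * (W * I) = W := by
    rw [hWI, mul_neg, ← mul_assoc, hII]; simp
  refine ⟨u, ?_, ?_⟩
  · rw [mul_inv_eq_iff_eq_mul]
    apply sl_ext
    rw [Matrix.SpecialLinearGroup.coe_mul, Matrix.SpecialLinearGroup.coe_mul, hu, Matrix.smul_mul, Matrix.mul_smul]
    congr 1
    change (1 + I) * (1 + W) * I = W * ((1 + I) * (1 + W))
    have e1 : (1 + I) * (1 + W) * I = I + W * I + I * I + I * (W * I) := by noncomm_ring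
    have e2 : W * ((1 + I) * (1 + W)) = W + W * I + W * W + (W * I) * W := by noncomm_ring
    have e3 : (W * I) * W = I := by rw [hWI, neg_mul, mul_assoc, hWW]; simp
    rw [e1, e2, hIW2, e3, hII, hWW]
    abel
  · rw [mul_inv_eq_iff_eq_mul]
    apply sl_ext
    rw [Matrix.SpecialLinearGroup.coe_mul, Matrix.SpecialLinearGroup.coe_mul, Matrix.SpecialLinearGroup.coe_mul, hu, Matrix.smul_mul, Matrix.mul_smul]
    congr 1
    change (1 + I) * (1 + W) * W = I * W * ((1 + I) * (1 + W))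
    have e1 : (1 + I) * (1 + W) * W = W + W * W + I * W + I * (W * W) := by noncomm_ring
    have e2 : I * W * ((1 + I) * (1 + W)) = I * W + I * (W * I) + I * (W * W) + (I * (W * I)) * W := by noncomm_ring
    rw [e1, e2, hIW2, hWW]
    abel

variable [Fintype F] {S : Sylow 2 (S2 F)} {i : S2 F}

theorem S2D.small_T (h : S2D S i) (h8 : ¬ 8 ∣ Nat.card (TT i)) {s : S2 F} (hs : s ∈ S) (hsT : s ∈ TT i) : s = 1 ∨ s = -1 ∨ s = i ∨ s = -i := by
  obtain ⟨k, hk⟩ := S.isPGroup' ⟨s, hs⟩
  have hk' : s ^ 2 ^ k = 1 := congrArg Subtype.val hk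
  obtain ⟨m, -, hm⟩ := (Nat.dvd_prime_pow Nat.prime_two).mp (orderOf_dvd_of_pow_eq_one hk')
  have h1 : orderOf s ∣ Nat.card (TT i) := by
    have := orderOf_dvd_natCard (⟨s, hsT⟩ : TT i)
    rwa [Subgroup.orderOf_mk] at this
  have hm2 : m ≤ 2 := by
    by_contra hcon
    apply h8
    have : 2 ^ 3 ∣ 2 ^ m := pow_dvd_pow _ (by omega)
    rw [← hm] at this
    exact (this.trans h1)
  have h4 : s ^ 4 = 1 := by
    have : orderOf s ∣ 4 := by rw [hm, show (4 : ℕ) = 2 ^ 2 by norm_num]; exact pow_dvd_pow _ hm2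
    exact orderOf_dvd_iff_pow_eq_one.mp this
  have h5 : (s * s) * (s * s) = 1 := by
    rw [← h4]; simp only [pow_succ, pow_zero, one_mul, mul_assoc]
  rcases sl_sq_one h.h2 h5 with h6 | h6
  · rcases sl_sq_one h.h2 h6 with h7 | h7
    · exact Or.inl h7
    · exact Or.inr (Or.inl h7)
  · have ht := (tr_of_sq h6 h.h2).1
    rcases norm_cases h.ns h.t4 h.h2 hsT (by rw [ht, h.t0]) with h7 | h7
    · exact Or.inr (Or.inr (Or.inl h7))
    · exact Or.inr (Or.inr (Or.inr (by rw [h7, h.inv])))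

theorem S2D.small_S (h : S2D S i) (h8 : ¬ 8 ∣ Nat.card (TT i)) {w : S2 F} (hw : w ∈ S) (hwi : w * i * w⁻¹ = i⁻¹) {s : S2 F} (hs : s ∈ S) :
    s = 1 ∨ s = -1 ∨ s = i ∨ s = -i ∨ s = w ∨ s = -w ∨ s = i * w ∨ s = -(i * w) := by
  rcases h.act s hs with h1 | h1
  · rcases h.small_T h8 hs h1 with h | h | h | h <;> simp [h]
  · have hsw : s * w⁻¹ ∈ TT i := by
      rw [mem_TT_comm]
      have h3 : w⁻¹ * i * w = i⁻¹ := by
        have : i = w⁻¹ * i⁻¹ * w := by rw [← hwi]; group
        have h5 := congrArg (fun y => y⁻¹) this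
        simp only [_root_.mul_inv_rev, inv_inv] at h5
        rw [h5]; group
      have h6 : s * i⁻¹ * s⁻¹ = i := by
        have := congrArg (fun y => y⁻¹) h1
        simp only [_root_.mul_inv_rev, inv_inv] at this
        rw [← mul_assoc] at this; exact this
      have h4 : (s * w⁻¹) * i * (s * w⁻¹)⁻¹ = i := by
        calc (s * w⁻¹) * i * (s * w⁻¹)⁻¹ = s * (w⁻¹ * i * w) * s⁻¹ := by group
          _ = i := by rw [h3, h6]
      rw [mul_inv_eq_iff_eq_mul] at h4
      exact h4.symm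
    rcases h.small_T h8 (mul_mem hs (inv_mem hw)) hsw with h | h | h | h <;> rw [mul_inv_eq_iff_eq_mul] at h <;> simp [h]

theorem S2D.norm_small (h : S2D S i) (h8 : ¬ 8 ∣ Nat.card (TT i)) :
    ∃ u ∈ Subgroup.normalizer ((S : Subgroup (S2 F)) : Set (S2 F)), ∃ w ∈ S, w ∉ TT i ∧ w * i * w⁻¹ = i⁻¹ ∧ w * w = -1 ∧ u * i * u⁻¹ = w ∧ u * w * u⁻¹ = i * w ∧ u ∉ S ∧
      ∀ n ∈ Subgroup.normalizer ((S : Subgroup (S2 F)) : Set (S2 F)), n ∈ S ∨ u⁻¹ * n ∈ S ∨ u⁻¹ * u⁻¹ * n ∈ S := by
  obtain ⟨w, hw, hwT, hwi, hww⟩ := h.exists_w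
  obtain ⟨u, hui, huw⟩ := exists_u h.h2 h.sq hww hwi
  have hiw : i * w ∈ S := mul_mem h.mem hw
  have hneg : ∀ x ∈ S, -x ∈ S := by
    intro x hx
    rw [← neg_one_mul]; exact mul_mem h.neg_mem hx
  have huneg : ∀ x : S2 F, u * (-x) * u⁻¹ = -(u * x * u⁻¹) := by intro x; simp
  have huiw : u * (i * w) * u⁻¹ = i := by
    have : u * (i * w) * u⁻¹ = (u * i * u⁻¹) * (u * w * u⁻¹) := by group
    rw [this, hui, huw]
    have hwi' : w * i = -i * w := by rw [← h.inv, ← hwi]; group
    rw [← mul_assoc, hwi', mul_assoc, hww]; simp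
  have hnu : u ∈ Subgroup.normalizer ((S : Subgroup (S2 F)) : Set (S2 F)) := by
    have hle : (S : Subgroup (S2 F)).map (MulAut.conj u).toMonoidHom ≤ (S : Subgroup (S2 F)) := by
      rintro _ ⟨s, hs, rfl⟩
      change u * s * u⁻¹ ∈ S
      rcases h.small_S h8 hw hwi hs with h1 | h1 | h1 | h1 | h1 | h1 | h1 | h1
      · rw [h1]; simp [one_mem]
      · rw [h1]; simp [h.neg_mem]
      · rw [h1, hui]; exact hw
      · rw [h1, huneg, hui]; exact hneg _ hw
      · rw [h1, huw]; exact hiw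
      · rw [h1, huneg, huw]; exact hneg _ hiw
      · rw [h1, huiw]; exact h.mem
      · rw [h1, huneg, huiw]; exact hneg _ h.mem
    have heq : (S : Subgroup (S2 F)).map (MulAut.conj u).toMonoidHom = (S : Subgroup (S2 F)) := by
      apply Subgroup.eq_of_le_of_card_ge hle
      exact le_of_eq (Nat.card_congr ((S : Subgroup (S2 F)).equivMapOfInjective _ (MulAut.conj u).injective).toEquiv)
    rw [Subgroup.mem_normalizer_iff]
    intro s
    constructor
    · intro hs
      rw [← heq]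
      exact ⟨s, hs, rfl⟩
    · intro hs
      rw [← heq] at hs
      obtain ⟨s', hs', he⟩ := hs
      have : s = s' := by
        have he' : u * s' * u⁻¹ = u * s * u⁻¹ := he
        exact (mul_left_cancel (mul_right_cancel he')).symm
      rw [this]; exact hs'
  refine ⟨u, hnu, w, hw, hwT, hwi, hww, hui, huw, ?_, ?_⟩
  · intro huS
    rcases h.act u huS with h1 | h1
    · apply hwT
      rw [← hui]
      have : u * i * u⁻¹ = i := by rw [mul_inv_eq_iff_eq_mul]; exact (mem_TT_comm.mp h1).symm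
      rw [this]; exact TT_self i
    · apply hwT
      rw [← hui, h1]
      exact inv_mem (TT_self i)
  · intro n hn
    have hpm : ∀ m, m ∈ Subgroup.normalizer ((S : Subgroup (S2 F)) : Set (S2 F)) → (m * i * m⁻¹ = i ∨ m * i * m⁻¹ = -i) → m ∈ S := by
      intro m hm h1
      apply h.NT hm
      rcases h1 with h1 | h1
      · left; rw [mem_TT_comm]; rw [mul_inv_eq_iff_eq_mul] at h1; exact h1.symm
      · right; rw [h1, h.inv]
    have huinv := inv_mem hnu
    have e1 : u⁻¹ * w * u = i := by rw [← hui]; simp [mul_assoc]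
    have e2 : u⁻¹ * (i * w) * u = w := by rw [← huw]; simp [mul_assoc]
    have hn1 : n * i * n⁻¹ ∈ (S : Subgroup (S2 F)) := (Subgroup.mem_normalizer_iff.mp hn i).mp h.mem
    have hsq : (n * i * n⁻¹) * (n * i * n⁻¹) = -1 := by
      calc (n * i * n⁻¹) * (n * i * n⁻¹) = n * (i * i) * n⁻¹ := by group
        _ = -1 := by rw [h.sq]; simp
    have hcj : ∀ x : S2 F, (u⁻¹ * n) * i * (u⁻¹ * n)⁻¹ = u⁻¹ * (n * i * n⁻¹) * u := by intro x; group
    have hcj2 : (u⁻¹ * u⁻¹ * n) * i * (u⁻¹ * u⁻¹ * n)⁻¹ = u⁻¹ * (u⁻¹ * (n * i * n⁻¹) * u) * u := by simp only [_root_.mul_inv_rev, inv_inv, mul_assoc]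
    rcases h.small_S h8 hw hwi hn1 with h1 | h1 | h1 | h1 | h1 | h1 | h1 | h1
    · exfalso; rw [h1] at hsq; simp at hsq; exact neg_one_ne h.h2 hsq.symm
    · exfalso; rw [h1] at hsq; simp at hsq; exact neg_one_ne h.h2 hsq.symm
    · exact Or.inl (hpm n hn (Or.inl h1))
    · exact Or.inl (hpm n hn (Or.inr h1))
    · right; left
      exact hpm _ (mul_mem huinv hn) (Or.inl (by rw [hcj 1, h1, e1]))
    · right; left
      exact hpm _ (mul_mem huinv hn) (Or.inr (by rw [hcj 1, h1, mul_neg, neg_mul, e1]))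
    · right; right
      exact hpm _ (mul_mem (mul_mem huinv huinv) hn) (Or.inl (by rw [hcj2, h1, e2, e1]))
    · right; right
      exact hpm _ (mul_mem (mul_mem huinv huinv) hn) (Or.inr (by rw [hcj2, h1, mul_neg, neg_mul, e2, mul_neg, neg_mul, e1]))

theorem S2D.card_small (h : S2D S i) (h8 : ¬ 8 ∣ Nat.card (TT i)) : Nat.card (Subgroup.normalizer ((S : Subgroup (S2 F)) : Set (S2 F))) = 3 * Nat.card S := by
  obtain ⟨u, hu, w, hw, hwT, hwi, hww, hui, huw, huS, hall⟩ := h.norm_small h8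
  set N := Subgroup.normalizer ((S : Subgroup (S2 F)) : Set (S2 F)) with hN
  have hle : (S : Subgroup (S2 F)) ≤ N := Subgroup.le_normalizer
  have hidx : ((S : Subgroup (S2 F)).subgroupOf N).index ≤ 3 := by
    let f : Fin 3 → N ⧸ ((S : Subgroup (S2 F)).subgroupOf N) := fun j => QuotientGroup.mk (⟨u, hu⟩ ^ (j : ℕ))
    have hf : Function.Surjective f := by
      intro x
      induction x using QuotientGroup.induction_on with
      | H n =>
        rcases hall n n.2 with h1 | h1 | h1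
        · refine ⟨0, ?_⟩
          change QuotientGroup.mk _ = QuotientGroup.mk _
          rw [QuotientGroup.eq, Subgroup.mem_subgroupOf]
          have h1' : (n : S2 F) ∈ (S : Subgroup (S2 F)) := h1
          simpa using h1'
        · refine ⟨1, ?_⟩
          change QuotientGroup.mk _ = QuotientGroup.mk _
          rw [QuotientGroup.eq, Subgroup.mem_subgroupOf]
          have h1' : u⁻¹ * (n : S2 F) ∈ (S : Subgroup (S2 F)) := h1
          simpa using h1'
        · refine ⟨2, ?_⟩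
          change QuotientGroup.mk _ = QuotientGroup.mk _
          rw [QuotientGroup.eq, Subgroup.mem_subgroupOf]
          have e : ((((⟨u, hu⟩ : N) ^ ((2 : Fin 3) : ℕ))⁻¹ * n : N) : S2 F) = u⁻¹ * u⁻¹ * n := by
            have : ((2 : Fin 3) : ℕ) = 2 := rfl
            rw [this, _root_.sq]
            simp only [_root_.mul_inv_rev, Subgroup.coe_mul, Subgroup.coe_inv]
          rw [e]; exact h1
    have := Nat.card_le_card_of_surjective f hf
    rwa [Nat.card_fin] at this
  have hmul := ((S : Subgroup (S2 F)).subgroupOf N).card_mul_index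
  have hcS : Nat.card ((S : Subgroup (S2 F)).subgroupOf N) = Nat.card S := Nat.card_congr (Subgroup.subgroupOfEquivOfLe hle).toEquiv
  have hodd : ¬ 2 ∣ ((S : Subgroup (S2 F)).subgroupOf N).index := by
    intro hd
    have h1 : (S : Subgroup (S2 F)).relIndex N ∣ (S : Subgroup (S2 F)).index := Subgroup.relIndex_dvd_index_of_le hle
    exact S.not_dvd_index (hd.trans h1)
  have hne1 : ((S : Subgroup (S2 F)).subgroupOf N).index ≠ 1 := by
    intro h1
    rw [Subgroup.index_eq_one] at h1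
    have : (⟨u, hu⟩ : N) ∈ (S : Subgroup (S2 F)).subgroupOf N := by rw [h1]; trivial
    exact huS (Subgroup.mem_subgroupOf.mp this)
  have hne0 : ((S : Subgroup (S2 F)).subgroupOf N).index ≠ 0 := Subgroup.index_ne_zero_of_finite
  have h3 : ((S : Subgroup (S2 F)).subgroupOf N).index = 3 := by
    interval_cases hh : ((S : Subgroup (S2 F)).subgroupOf N).index
    · exact absurd rfl hne0
    · exact absurd rfl hne1
    · exact absurd dvd_rfl hodd
    · rfl
  rw [h3, hcS] at hmul
  rw [← hmul]; ring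

end CfsgLib.GL2a
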