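import Cfsg.Agent.Lib.GLf7
set_option autoImplicit false
set_option linter.style.haveILetI false
set_option linter.unusedSectionVars false

/-! Redundant Sylow subgroups. -/

namespace CfsgLib.GL2a
open Matrix Cfsg

/-- redundancy -/
def Redundant (G : Type*) [Group G] (p : ℕ) (Q : Sylow p G) : Prop :=
  ∀ x : G, (∃ k : ℕ, orderOf x = p ^ k) → ∃ P : Sylow p G, P ≠ Q ∧ x ∈ P

section general
variable {G H : Type*} [Group G] [Finite G] [Group H] [Finite H] {p : ℕ} [Fact p.Prime]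

theorem isPGroup_zpowers {x : G} (hx : ∃ k : ℕ, orderOf x = p ^ k) : IsPGroup p (Subgroup.zpowers x) := by
  rw [IsPGroup.iff_card]
  obtain ⟨k, hk⟩ := hx
  exact ⟨k, by rw [Nat.card_zpowers, hk]⟩

theorem orderOf_of_mem (P : Sylow p G) {x : G} (hx : x ∈ P) : ∃ k : ℕ, orderOf x = p ^ k := by
  obtain ⟨k, hk⟩ := P.isPGroup' ⟨x, hx⟩
  have hk' : x ^ p ^ k = 1 := congrArg Subtype.val hk
  obtain ⟨m, -, hm⟩ := (Nat.dvd_prime_pow (Fact.out : p.Prime)).mp (orderOf_dvd_of_pow_eq_one hk')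
  exact ⟨m, hm⟩

theorem mem_of_norm (P : Sylow p G) {x : G} (hx : ∃ k : ℕ, orderOf x = p ^ k) (hn : x ∈ Subgroup.normalizer ((P : Subgroup G) : Set G)) : x ∈ P := by
  have h1 := (isPGroup_zpowers hx).inf_normalizer_sylow P
  have h2 : x ∈ Subgroup.zpowers x ⊓ Subgroup.normalizer (P : Set G) := ⟨Subgroup.mem_zpowers x, hn⟩
  rw [h1] at h2
  exact h2.2

theorem mem_of_central (f : G →* H) (hk : f.ker ≤ Subgroup.center G) (P : Sylow p G) {x y : G} (hx : ∃ k : ℕ, orderOf x = p ^ k) (hy : y ∈ P) (he : f x = f y) : x ∈ P := by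
  apply mem_of_norm P hx
  have hz : y⁻¹ * x ∈ Subgroup.center G := hk (by rw [MonoidHom.mem_ker, map_mul, map_inv, he]; simp)
  have : x = y * (y⁻¹ * x) := by group
  rw [this]
  exact mul_mem (Subgroup.le_normalizer hy) (Subgroup.center_le_normalizer _ hz)

theorem redundant_iff (f : G →* H) (hf : Function.Surjective f) (hk : f.ker ≤ Subgroup.center G) :
    (∃ Q : Sylow p H, Redundant H p Q) ↔ ∃ Q : Sylow p G, Redundant G p Q := by
  constructor
  · rintro ⟨Q', hQ'⟩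
    obtain ⟨Q, rfl⟩ := Sylow.mapSurjective_surjective hf p Q'
    refine ⟨Q, fun x hx => ?_⟩
    have hx' : ∃ k : ℕ, orderOf (f x) = p ^ k := by
      obtain ⟨k, hk⟩ := hx
      obtain ⟨m, -, hm⟩ := (Nat.dvd_prime_pow (Fact.out : p.Prime)).mp ((orderOf_map_dvd f x).trans (dvd_of_eq hk))
      exact ⟨m, hm⟩
    obtain ⟨P', hne, hP'⟩ := hQ' (f x) hx'
    obtain ⟨P, rfl⟩ := Sylow.mapSurjective_surjective hf p P'
    obtain ⟨y, hy, he⟩ : ∃ y ∈ P, f y = f x := hP'
    refine ⟨P, fun h => hne (by rw [h]), mem_of_central f hk P hx hy he.symm⟩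
  · rintro ⟨Q, hQ⟩
    refine ⟨Q.mapSurjective hf, fun x' hx' => ?_⟩
    obtain ⟨P0', hP0'⟩ := (isPGroup_zpowers hx').exists_le_sylow
    obtain ⟨P0, rfl⟩ := Sylow.mapSurjective_surjective hf p P0'
    obtain ⟨y, hy, rfl⟩ : ∃ y ∈ P0, f y = x' := hP0' (Subgroup.mem_zpowers x')
    obtain ⟨P, hne, hP⟩ := hQ y (orderOf_of_mem P0 hy)
    refine ⟨P.mapSurjective hf, fun h => hne ?_, ⟨y, hP, rfl⟩⟩
    apply Sylow.ext
    have hle : (P : Subgroup G) ≤ (Q : Subgroup G) := by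
      intro z hz
      have : f z ∈ Q.mapSurjective hf := by rw [← h]; exact ⟨z, hz, rfl⟩
      obtain ⟨q, hq, he⟩ : ∃ q ∈ Q, f q = f z := this
      exact mem_of_central f hk Q (orderOf_of_mem P hz) hq he.symm
    exact (P.is_maximal' Q.isPGroup' hle).symm

theorem not_redundant_of (hab : ∀ P : Sylow p G, ∀ x ∈ P, ∀ y ∈ P, x * y = y * x) (Q : Sylow p G)
    (z : G) (hz : z ∈ Q) (hcomm : ∀ x y : G, x * z = z * x → y * z = z * y → x * y = y * x) : ¬ Redundant G p Q := by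
  intro hR
  obtain ⟨P, hne, hP⟩ := hR z (orderOf_of_mem Q hz)
  apply hne
  have hPQ : ∀ x ∈ P, ∀ y ∈ Q, x * y = y * x := fun x hx y hy => hcomm x y (hab P x hx z hP) (hab Q y hy z hz)
  have hn : (P : Subgroup G) ≤ Subgroup.normalizer ((Q : Subgroup G) : Set G) := by
    intro x hx
    apply Subgroup.centralizer_le_normalizer
    rw [Subgroup.mem_centralizer_iff]
    intro y hy
    exact (hPQ x hx y hy).symm
  have hsup := IsPGroup.to_sup_of_normal_right' P.isPGroup' Q.isPGroup' hn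
  apply Sylow.ext
  rw [← P.is_maximal' hsup le_sup_left, Q.is_maximal' hsup le_sup_right]

end general

variable {F : Type*} [Field F] [Fintype F]

/-- Sylow subgroups lying in a torus or unipotent -/
theorem sylow_ab (p : ℕ) [Fact p.Prime] (hp : p ≠ 2 ∨ (2 : F) = 0) (P : Sylow p (S2 F)) (hd : p ∣ Nat.card (S2 F)) : ∃ z ∈ P, ¬ IsScal (z : M2 F) ∧ (P : Subgroup (S2 F)) ≤ TT z := by
  classical
  have hPne : Nontrivial P := by
    have : p ∣ Nat.card P := P.dvd_card_of_dvd_card hd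
    have : 1 < Nat.card P := lt_of_lt_of_le (Fact.out : p.Prime).one_lt (Nat.le_of_dvd Nat.card_pos this)
    exact Finite.one_lt_card_iff_nontrivial.mp this
  have hZ : Nontrivial (Subgroup.center P) := P.isPGroup'.center_nontrivial
  obtain ⟨⟨⟨x, hxP⟩, hxZ⟩, hx1⟩ := exists_ne (1 : Subgroup.center P)
  have hx1' : x ≠ 1 := by
    intro h; apply hx1; exact Subtype.ext (Subtype.ext h)
  refine ⟨x, hxP, ?_, ?_⟩
  · intro hs
    rcases scal_sl' hs with h | h
    · exact hx1' h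
    · rcases hp with hp | hp
      · obtain ⟨k, hk⟩ := P.isPGroup' ⟨x, hxP⟩
        have hk' : x ^ p ^ k = 1 := congrArg Subtype.val hk
        have hodd' : Odd (p ^ k) := ((Fact.out : p.Prime).odd_of_ne_two hp).pow
        rw [h, hodd'.neg_one_pow] at hk'
        exact hx1' (h.trans hk')
      · exact hx1' (h.trans (neg_one_eq hp))
  · intro y hy
    rw [mem_TT_comm]
    have := Subgroup.mem_center_iff.mp hxZ ⟨y, hy⟩
    exact (congrArg Subtype.val this).symm

theorem not_redundant_ab (p : ℕ) [Fact p.Prime] (hp : p ≠ 2 ∨ (2 : F) = 0) (Q : Sylow p (S2 F)) : ¬ Redundant (S2 F) p Q := by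
  by_cases hd : p ∣ Nat.card (S2 F)
  · obtain ⟨z, hz, hzs, hQ⟩ := sylow_ab p hp Q hd
    refine not_redundant_of ?_ Q z hz ?_
    · intro P x hx y hy
      obtain ⟨z', -, hzs', hP⟩ := sylow_ab p hp P hd
      exact TT_comm hzs' (hP hx) (hP hy)
    · intro x y hx hy
      exact TT_comm hzs (mem_TT_comm.mpr hx.symm) (mem_TT_comm.mpr hy.symm)
  · intro hR
    obtain ⟨P, hne, -⟩ := hR 1 ⟨0, by simp⟩
    apply hne
    have key : ∀ P : Sylow p (S2 F), (P : Subgroup (S2 F)) = ⊥ := by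
      intro P
      rw [Subgroup.eq_bot_iff_card]
      obtain ⟨n, hn⟩ := IsPGroup.iff_card.mp P.isPGroup'
      have h1 : Nat.card P ∣ Nat.card (S2 F) := Subgroup.card_subgroup_dvd_card _
      rcases Nat.eq_zero_or_pos n with h0 | h0
      · rw [hn, h0, pow_zero]
      · exact absurd ((dvd_pow_self p h0.ne').trans (hn ▸ h1)) hd
    apply Sylow.ext
    rw [key P, key Q]

theorem S2D.of_small {S : Sylow 2 (S2 F)} {i : S2 F} (h : S2D S i) (h8 : ¬ 8 ∣ Nat.card (TT i)) {w : S2 F} (hw : w ∈ S) (hwi : w * i * w⁻¹ = i⁻¹) : S2D S w := by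
  have hww := w_sq h.ns h.h2 hwi
  have hwinv := (tr_of_sq hww h.h2).2.2.2
  have hiw : i * w * i⁻¹ = w⁻¹ := by
    have : w * i = -i * w := by rw [← h.inv, ← hwi]; simp [mul_assoc]
    rw [mul_inv_eq_iff_eq_mul, hwinv]
    simp only [neg_mul] at this ⊢
    rw [this]; simp
  have hself : w * w * w⁻¹ = w := by simp [mul_assoc]
  refine ⟨h.h2, hw, hww, ?_⟩
  intro s hs
  have hneg : ∀ x : S2 F, (x * w * x⁻¹ = w ∨ x * w * x⁻¹ = w⁻¹) → ((-x) * w * (-x)⁻¹ = w ∨ (-x) * w * (-x)⁻¹ = w⁻¹) := by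
    intro x hx
    have : (-x) * w * (-x)⁻¹ = x * w * x⁻¹ := by
      have e : (-x)⁻¹ = -x⁻¹ := by
        rw [inv_eq_iff_mul_eq_one]; simp
      rw [e]; simp
    rw [this]; exact hx
  have hcase : s * w * s⁻¹ = w ∨ s * w * s⁻¹ = w⁻¹ := by
    rcases h.small_S h8 hw hwi hs with h1 | h1 | h1 | h1 | h1 | h1 | h1 | h1 <;> rw [h1]
    · left; simp
    · apply hneg; left; simp
    · right; exact hiw
    · apply hneg; right; exact hiw
    · left; exact hself
    · apply hneg; left; exact hself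
    · right
      calc i * w * w * (i * w)⁻¹ = i * (w * w * w⁻¹) * i⁻¹ := by simp [mul_assoc]
        _ = w⁻¹ := by rw [hself, hiw]
    · apply hneg; right
      calc i * w * w * (i * w)⁻¹ = i * (w * w * w⁻¹) * i⁻¹ := by simp [mul_assoc]
        _ = w⁻¹ := by rw [hself, hiw]
  rcases hcase with h1 | h1
  · left; rw [mem_TT_comm]; rw [mul_inv_eq_iff_eq_mul] at h1; exact h1.symm
  · exact Or.inr h1

theorem card_TT_eq (h2 : (2 : F) ≠ 0) {i j : S2 F} (hi : i * i = -1) (hj : j * j = -1) : Nat.card (TT i) = Nat.card (TT j) := by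
  obtain ⟨a1, a2, -⟩ := card_TT_zero h2 hi
  obtain ⟨b1, b2, -⟩ := card_TT_zero h2 hj
  by_cases h3 : Fintype.card F % 4 = 3
  · rw [a1 h3, b1 h3]
  · rw [a2 h3, b2 h3]

/-- nonredundancy: the torus is a 2-group -/
theorem not_redundant_two (h2 : (2 : F) ≠ 0) (Q : Sylow 2 (S2 F)) {i : S2 F} (h : S2D Q i) {k : ℕ} (hk : Nat.card (TT i) = 2 ^ k) : ¬ Redundant (S2 F) 2 Q := by
  classical
  intro hR
  have hN2 : IsPGroup 2 (Subgroup.normalizer ((TT i : Subgroup (S2 F)) : Set (S2 F))) := by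
    rw [IsPGroup.iff_card]
    have hk0 : k ≠ 0 := by
      rintro rfl
      have h4 := (card_TT_zero h2 h.sq).2.2.1
      rw [hk] at h4; norm_num at h4
    obtain ⟨m, rfl⟩ := Nat.exists_eq_succ_of_ne_zero hk0
    refine ⟨m + 2, ?_⟩
    rw [(cases_norm h.ns h.t4 h2 (n := 2 ^ m) (by rw [hk, pow_succ]; ring)).1, hk, Nat.succ_eq_add_one]; ring
  have huniq : ∀ P : Sylow 2 (S2 F), (P : Subgroup (S2 F)) ≤ Subgroup.normalizer ((TT i : Subgroup (S2 F)) : Set (S2 F)) → (P : Subgroup (S2 F)) = Subgroup.normalizer ((TT i : Subgroup (S2 F)) : Set (S2 F)) :=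
    fun P hP => (P.is_maximal' hN2 hP).symm
  have hQle : (Q : Subgroup (S2 F)) ≤ Subgroup.normalizer ((TT i : Subgroup (S2 F)) : Set (S2 F)) :=
    fun s hs => (mem_norm h.ns h.t4 h2).mpr (h.act s hs)
  haveI := tor_cyclic i h.ns h.t4
  obtain ⟨c, hcg⟩ := IsCyclic.exists_generator (α := TT i)
  have hot : orderOf c = Nat.card (TT i) := orderOf_eq_card_of_forall_mem_zpowers hcg
  have h4 := (card_TT_zero h2 h.sq).2.2.1
  have hns : ¬ IsScal ((c : S2 F) : M2 F) := by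
    intro hs
    have h1 : c ^ 2 = 1 := by
      apply Subtype.ext
      rcases scal_sl' hs with h | h
      · change (c : S2 F) ^ 2 = 1; rw [h]; simp
      · change (c : S2 F) ^ 2 = 1; rw [h]; simp
    have := orderOf_dvd_of_pow_eq_one h1
    rw [hot] at this
    exact absurd (Nat.le_of_dvd (by norm_num) (h4.trans this)) (by norm_num)
  have hTT := TT_eq h.ns c.2 hns
  obtain ⟨P, hne, hP⟩ := hR (c : S2 F) ⟨k, by rw [Subgroup.orderOf_coe, hot, hk]⟩
  apply hne
  apply Sylow.ext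
  rw [huniq Q hQle]
  apply huniq P
  obtain ⟨j, hj⟩ := exists_S2D h2 P
  rcases hj.act _ hP with h1 | h1
  · have : TT (c : S2 F) = TT j := TT_eq hj.ns h1 hns
    intro s hs
    rw [← hTT, this]
    exact (mem_norm hj.ns hj.t4 h2).mpr (hj.act s hs)
  · have hcc := w_sq hj.ns h2 h1
    have h8 : ¬ 8 ∣ Nat.card (TT j) := by
      rw [card_TT_eq h2 hj.sq h.sq, ← hot]
      intro h8
      have h5 : c ^ 4 = 1 := by
        apply Subtype.ext
        change (c : S2 F) ^ 4 = 1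
        calc (c : S2 F) ^ 4 = (c * c) * (c * c) := by simp only [pow_succ, pow_zero, one_mul, mul_assoc]
          _ = 1 := by rw [hcc]; simp
      have := orderOf_dvd_of_pow_eq_one h5
      exact absurd (Nat.le_of_dvd (by norm_num) (h8.trans this)) (by norm_num)
    have hD := hj.of_small h8 hP h1
    intro s hs
    rw [← hTT]
    exact (mem_norm hD.ns hD.t4 h2).mpr (hD.act s hs)

theorem redundant_two (h2 : (2 : F) ≠ 0) (Q : Sylow 2 (S2 F)) {i : S2 F} (h : S2D Q i) (hk : ¬ ∃ k, Nat.card (TT i) = 2 ^ k) : Redundant (S2 F) 2 Q := by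
  classical
  have key : ∀ x ∈ Q, ¬ IsScal (x : M2 F) → ∃ y ∈ TT x, y ∉ Subgroup.normalizer ((Q : Subgroup (S2 F)) : Set (S2 F)) := by
    intro x hx hxs
    obtain ⟨j, hj, hTj⟩ : ∃ j, S2D Q j ∧ (x ∈ TT j ∨ Subgroup.normalizer ((Q : Subgroup (S2 F)) : Set (S2 F)) = (Q : Subgroup (S2 F))) ∧ Nat.card (TT x) = Nat.card (TT i) := by
      rcases h.act x hx with h1 | h1
      · exact ⟨i, h, Or.inl h1, by rw [TT_eq h.ns h1 hxs]⟩
      · have hxx := w_sq h.ns h2 h1
        by_cases h8 : 8 ∣ Nat.card (TT i)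
        · exact ⟨i, h, Or.inr (h.norm_big h8), card_TT_eq h2 hxx h.sq⟩
        · exact ⟨x, h.of_small h8 hx h1, Or.inl (TT_self x), card_TT_eq h2 hxx h.sq⟩
    obtain ⟨hTj, hcard⟩ := hTj
    obtain ⟨r, hr, hr2, hrd⟩ : ∃ r : ℕ, r.Prime ∧ r ≠ 2 ∧ r ∣ Nat.card (TT x) := by
      by_contra hcon
      push Not at hcon
      apply hk
      have h1 : Nat.card (TT x) = 2 ^ (Nat.card (TT x)).primeFactorsList.length := by
        refine Nat.eq_prime_pow_of_unique_prime_dvd Nat.card_pos.ne' ?_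
        intro d hd hdd
        by_contra hne
        exact hcon d hd hne hdd
      exact ⟨_, hcard ▸ h1⟩
    haveI : Fact r.Prime := ⟨hr⟩
    obtain ⟨y, hy⟩ := exists_prime_orderOf_dvd_card' (G := TT x) r hrd
    refine ⟨y, y.2, ?_⟩
    intro hyN
    have hyQ : (y : S2 F) ∈ Q := by
      rcases hTj with h1 | h1
      · apply hj.NT hyN
        left
        rw [← TT_eq hj.ns h1 hxs]; exact y.2
      · rw [h1] at hyN; exact hyN
    obtain ⟨m, hm⟩ := orderOf_of_mem Q hyQ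
    rw [Subgroup.orderOf_coe, hy] at hm
    have hm0 : m ≠ 0 := by rintro rfl; rw [pow_zero] at hm; exact hr.one_lt.ne' hm
    have : (2 : ℕ) ∣ r := by rw [hm]; exact dvd_pow_self 2 hm0
    exact hr2 ((Nat.prime_dvd_prime_iff_eq Nat.prime_two hr).mp this).symm
  have move : ∀ y : S2 F, y ∉ Subgroup.normalizer ((Q : Subgroup (S2 F)) : Set (S2 F)) → y • Q ≠ Q := by
    intro y hy he
    apply hy
    exact (Sylow.smul_eq_iff_mem_normalizer).mp he
  intro x hx
  by_cases hxQ : x ∈ Q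
  · by_cases hxs : IsScal (x : M2 F)
    · obtain ⟨y, -, hyN⟩ := key i h.mem h.ns
      refine ⟨y • Q, move y hyN, ?_⟩
      rw [mem_smul_syl]
      have : y⁻¹ * x * y = x := by
        rcases scal_sl' hxs with h | h
        · rw [h]; simp
        · rw [h]; simp
      rw [this]; exact hxQ
    · obtain ⟨y, hy, hyN⟩ := key x hxQ hxs
      refine ⟨y • Q, move y hyN, ?_⟩
      rw [mem_smul_syl]
      have : y⁻¹ * x * y = x := by
        rw [mul_assoc, mem_TT_comm.mp hy]; simp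
      rw [this]; exact hxQ
  · obtain ⟨P, hP⟩ := (isPGroup_zpowers hx).exists_le_sylow
    exact ⟨P, fun h => hxQ (h ▸ hP (Subgroup.mem_zpowers x)), hP (Subgroup.mem_zpowers x)⟩

theorem main_redundant (p : ℕ) [Fact p.Prime] : (∃ Q : Sylow p (S2 F), Redundant (S2 F) p Q) ↔
    (p = 2 ∧ (¬ ∃ k : ℕ, Fintype.card F + 1 = 2 ^ k) ∧ (¬ ∃ k : ℕ, Fintype.card F = 2 ^ k) ∧ ¬ ∃ k : ℕ, Fintype.card F = 2 ^ k + 1) := by
  classical
  have hc := Fintype.card_pos (α := F)
  constructor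
  · rintro ⟨Q, hQ⟩
    have hp : p = 2 := by
      by_contra hp
      exact not_redundant_ab p (Or.inl hp) Q hQ
    subst hp
    have h2 : (2 : F) ≠ 0 := fun h2 => not_redundant_ab 2 (Or.inr h2) Q hQ
    have ho := (gcd_of_odd h2).2
    rw [Nat.odd_iff] at ho
    obtain ⟨i, h⟩ := exists_S2D h2 Q
    obtain ⟨a1, a2, -⟩ := card_TT_zero h2 h.sq
    refine ⟨rfl, ?_, ?_, ?_⟩
    · rintro ⟨k, hk⟩
      by_cases h3 : Fintype.card F % 4 = 3
      · exact not_redundant_two h2 Q h (by rw [a1 h3, hk]) hQ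
      · rcases k with _ | _ | k
        · rw [pow_zero] at hk; omega
        · rw [zero_add, pow_one] at hk
          have := two_le_card (F := F); omega
        · have : 2 ^ (k + 1 + 1) = 4 * 2 ^ k := by ring
          omega
    · rintro ⟨k, hk⟩
      rcases k with _ | k
      · rw [pow_zero] at hk
        have := two_le_card (F := F); omega
      · have : 2 ^ (k + 1) = 2 * 2 ^ k := by ring
        omega
    · rintro ⟨k, hk⟩
      by_cases h3 : Fintype.card F % 4 = 3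
      · rcases k with _ | _ | k
        · rw [pow_zero] at hk; omega
        · rw [zero_add, pow_one] at hk
          exact not_redundant_two h2 Q h (k := 2) (by rw [a1 h3, hk]; norm_num) hQ
        · have : 2 ^ (k + 1 + 1) = 4 * 2 ^ k := by ring
          omega
      · exact not_redundant_two h2 Q h (by rw [a2 h3, hk, Nat.add_sub_cancel]) hQ
  · rintro ⟨rfl, h1, h3, h5⟩
    have h2 : (2 : F) ≠ 0 := by
      intro h2
      apply h3
      haveI : CharP F 2 := CharTwo.of_one_ne_zero_of_two_eq_zero one_ne_zero h2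
      obtain ⟨n, -, hn⟩ := FiniteField.card F 2
      exact ⟨n, hn⟩
    obtain ⟨Q⟩ : Nonempty (Sylow 2 (S2 F)) := inferInstance
    obtain ⟨i, h⟩ := exists_S2D h2 Q
    obtain ⟨a1, a2, -⟩ := card_TT_zero h2 h.sq
    refine ⟨Q, redundant_two h2 Q h ?_⟩
    rintro ⟨k, hk⟩
    by_cases h3 : Fintype.card F % 4 = 3
    · exact h1 ⟨k, by rw [← hk, a1 h3]⟩
    · exact h5 ⟨k, by rw [← hk, a2 h3]; omega⟩

end CfsgLib.GL2a
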