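import Cfsg.Agent.Lib.GLf8
import Cfsg.Agent.Lib.Quat
set_option autoImplicit false
set_option linter.style.haveILetI false
set_option linter.unusedSectionVars false

/-! `SL₂(3)`. -/

namespace CfsgLib.GL2a
open Matrix Cfsg

variable {F : Type*} [Field F] [Fintype F]

theorem card_center (h2 : (2 : F) ≠ 0) : Nat.card (Subgroup.center (S2 F)) = 2 := by
  have e : Subgroup.center (S2 F) = Subgroup.zpowers (-1) := by
    ext x
    rw [mem_center_iff_isScal]
    constructor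
    · intro h
      rcases scal_sl' h with h | h
      · rw [h]; exact one_mem _
      · rw [h]; exact Subgroup.mem_zpowers _
    · intro h
      rw [← mem_center_iff_isScal]
      refine (Subgroup.zpowers_le.mpr ?_) h
      rw [mem_center_iff_isScal]; exact isScal_neg_one
  rw [e, Nat.card_zpowers]
  apply orderOf_eq_prime (by simp) (neg_one_ne h2)

/-- the data of `SL₂(3)` -/
theorem sl23 (hF : Fintype.card F = 3) : (2 : F) ≠ 0 ∧ ∃ (S : Sylow 2 (S2 F)) (i u w : S2 F), S2D S i ∧ (S : Subgroup (S2 F)).Normal ∧ Nat.card S = 8 ∧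
    w ∈ S ∧ w ∉ TT i ∧ w * i * w⁻¹ = i⁻¹ ∧ w * w = -1 ∧ u * i * u⁻¹ = w ∧ u * w * u⁻¹ = i * w ∧ u ∉ S ∧
    (∀ s ∈ S, s = 1 ∨ s = -1 ∨ s = i ∨ s = -i ∨ s = w ∨ s = -w ∨ s = i * w ∨ s = -(i * w)) ∧ Nonempty (S ≃* QuaternionGroup 2) := by
  have h2 : (2 : F) ≠ 0 := two_ne_of_odd (by rw [hF]; decide)
  refine ⟨h2, ?_⟩
  obtain ⟨S⟩ : Nonempty (Sylow 2 (S2 F)) := inferInstance
  obtain ⟨i, h⟩ := exists_S2D h2 S
  have hT : Nat.card (TT i) = 4 := by rw [(card_TT_zero h2 h.sq).1 (by rw [hF]), hF]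
  have h8 : ¬ 8 ∣ Nat.card (TT i) := by rw [hT]; norm_num
  obtain ⟨u, hu, w, hw, hwT, hwi, hww, hui, huw, huS, hall⟩ := h.norm_small h8
  have hcN := h.card_small h8
  have hG : Nat.card (S2 F) = 24 := by
    classical
    rw [card_S2', hF]
  have hcS : Nat.card S = 8 := by
    obtain ⟨m, hm⟩ := IsPGroup.iff_card.mp S.isPGroup'
    have h3 : Nat.card S ∣ 24 := hG ▸ Subgroup.card_subgroup_dvd_card _
    have h4 : Nat.card (Subgroup.normalizer ((S : Subgroup (S2 F)) : Set (S2 F))) ∣ 24 := hG ▸ Subgroup.card_subgroup_dvd_card _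
    rw [hcN] at h4
    have h5 : 2 ^ 3 ∣ Nat.card S := Sylow.pow_dvd_card_of_pow_dvd_card S (by rw [hG]; norm_num)
    have h6 : Nat.card S ∣ 8 := by
      have : 3 * Nat.card S ∣ 3 * 8 := h4
      exact Nat.dvd_of_mul_dvd_mul_left (by norm_num) this
    exact Nat.dvd_antisymm h6 h5
  have hN : Subgroup.normalizer ((S : Subgroup (S2 F)) : Set (S2 F)) = ⊤ := by
    apply Subgroup.eq_top_of_card_eq
    rw [hcN, hcS, hG]
  have hnormal : (S : Subgroup (S2 F)).Normal := Subgroup.normalizer_eq_top_iff.mp hN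
  refine ⟨S, i, u, w, h, hnormal, hcS, hw, hwT, hwi, hww, hui, huw, huS, fun s hs => h.small_S h8 hw hwi hs, ?_⟩
  have hi4 : orderOf i = 4 := by
    rw [show (4 : ℕ) = 2 ^ (1 + 1) by norm_num]
    apply orderOf_eq_prime_pow
    · rw [pow_one, _root_.sq, h.sq]; exact neg_one_ne h2
    · calc i ^ 2 ^ (1 + 1) = (i * i) * (i * i) := by norm_num; simp only [pow_succ, pow_zero, one_mul, mul_assoc]
        _ = 1 := by rw [h.sq]; simp
  refine CfsgLib.Quat.quaternion (G := S) (m := 2) (a := ⟨i, h.mem⟩) (x := ⟨w, hw⟩) two_ne_zero ?_ ?_ ?_ ?_ ?_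
  · have e := Subgroup.orderOf_mk (H := (S : Subgroup (S2 F))) i h.mem
    exact e.trans hi4
  · apply Subtype.ext
    change w ^ 2 = i ^ 2
    rw [_root_.sq, _root_.sq, hww, h.sq]
  · exact Subtype.ext hwi
  · intro hz
    obtain ⟨k, hk⟩ := hz
    apply hwT
    have : w = i ^ k := (congrArg Subtype.val hk).symm
    rw [this]
    exact zpow_mem (TT_self i) k
  · exact hcS

end CfsgLib.GL2a
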