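import Cfsg.Agent.Lib.GLg1
set_option autoImplicit false
set_option linter.style.haveILetI false
set_option linter.unusedSectionVars false

/-! Nonsplit tori and cuspidal characters of `SL₂`. -/

namespace CfsgLib.GL2a
open Matrix Cfsg
open scoped ComplexConjugate

universe u

variable {F : Type u} [Field F] [Fintype F] [DecidableEq F]

/-- `C` is cyclic of order `q + 1` -/
structure CD (C : Subgroup (S2 F)) : Prop where
  h2 : (2 : F) ≠ 0
  cyc : IsCyclic C
  card : Nat.card C = Fintype.card F + 1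

variable {C : Subgroup (S2 F)}

theorem CD.comm (h : CD C) {x y : S2 F} (hx : x ∈ C) (hy : y ∈ C) : x * y = y * x := by
  haveI := h.cyc
  letI := IsCyclic.commGroup (α := C)
  exact congrArg Subtype.val (mul_comm (⟨x, hx⟩ : C) ⟨y, hy⟩)

theorem CD.neg_mem (h : CD C) : (-1 : S2 F) ∈ C := by
  haveI : Fact (Nat.Prime 2) := ⟨Nat.prime_two⟩
  have hd : 2 ∣ Nat.card C := by
    rw [h.card]
    obtain ⟨m, hm⟩ := (gcd_of_odd h.h2).2
    rw [hm]; omega
  obtain ⟨y, hy⟩ := exists_prime_orderOf_dvd_card' (G := C) 2 hd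
  have hyy : (y : S2 F) * y = 1 := by
    have := pow_orderOf_eq_one y
    rw [hy, pow_two] at this
    exact congrArg Subtype.val this
  rcases sl_sq_one h.h2 hyy with h1 | h1
  · exfalso
    have : y = 1 := Subtype.ext h1
    rw [this, orderOf_one] at hy; omega
  · rw [← h1]; exact y.2

theorem CD.TT (h : CD C) {c : S2 F} (hc : c ∈ C) (hs : ¬ IsScal (c : M2 F)) : TT c = C ∧ Aniso (c : M2 F) := by
  have hle : C ≤ GL2a.TT c := fun x hx => mem_TT_comm.mpr (h.comm hc hx)
  have hd := Subgroup.card_dvd_of_le hle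
  rw [h.card] at hd
  have hq := card_q_ge h.h2
  rcases tri c with h1 | ⟨h1, h3⟩ | ⟨h1, h3, h5⟩ | ⟨h1, h3, h5⟩
  · exact absurd h1 hs
  · exfalso
    rw [card_TT_par h.h2 h1 h3] at hd
    have : Fintype.card F + 1 ∣ 2 := by
      have h7 : Fintype.card F + 1 ∣ 2 * (Fintype.card F + 1) := Dvd.intro_left _ rfl
      have := Nat.dvd_sub h7 hd
      rwa [show 2 * (Fintype.card F + 1) - 2 * Fintype.card F = 2 by omega] at this
    have := Nat.le_of_dvd (by norm_num) this
    omega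
  · exfalso
    rw [card_TT_split h1 h3 h5] at hd
    have := Nat.le_of_dvd (by omega) hd
    omega
  · refine ⟨?_, h5⟩
    exact (Subgroup.eq_of_le_of_card_ge hle (by rw [card_TT_aniso h5, h.card])).symm

/-- the linear character as a function -/
noncomputable def thC (θ : C →* ℂˣ) : C → ℂ := fun c => ((θ c : ℂˣ) : ℂ)

theorem isChar_thC (θ : C →* ℂˣ) : IsCharacter C (thC θ) := CfsgLib.CharBasic.isCharacter_linear θ

theorem thC_conj (θ : C →* ℂˣ) (c : C) : conj (thC θ c) = ((θ c)⁻¹ : ℂˣ) := by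
  have hfin : ∃ n, 0 < n ∧ (θ c) ^ n = 1 := ⟨Nat.card C, Nat.card_pos, by rw [← map_pow, pow_card_eq_one', map_one]⟩
  obtain ⟨n, hn, he⟩ := hfin
  have h1 : (thC θ c) ^ n = 1 := by
    have := congrArg (fun u : ℂˣ => (u : ℂ)) he
    simpa [thC] using this
  have h2 : ‖thC θ c‖ = 1 := by
    have := congrArg norm h1
    rw [norm_pow, norm_one] at this
    exact (pow_eq_one_iff_of_nonneg (norm_nonneg _) hn.ne').mp this
  have h3 : thC θ c * conj (thC θ c) = 1 := by
    rw [Complex.mul_conj, Complex.normSq_eq_norm_sq, h2]; norm_num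
  rw [Units.val_inv_eq_inv_val]
  exact (inv_eq_of_mul_eq_one_right h3).symm

/-- the induced character -/
noncomputable abbrev IC (θ : C →* ℂˣ) : S2 F → ℂ := indFun C (thC θ)

theorem IC_zero (h : CD C) (θ : C →* ℂˣ) {g : S2 F} (hs : ¬ IsScal (g : M2 F)) (ha : ¬ Aniso (g : M2 F)) : IC θ g = 0 := by
  apply CfsgLib.CharInd.indFun_eq_zero
  intro x hx
  apply ha
  have hc : IsConj g (x⁻¹ * g * x) := isConj_iff.mpr ⟨x⁻¹, by simp⟩
  have hns : ¬ IsScal ((x⁻¹ * g * x : S2 F) : M2 F) := fun h' => hs (sl_isScal hc h')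
  have := (h.TT hx hns).2
  have h3 := (aniso_disc_sq h.h2).mp this
  rw [aniso_disc_sq h.h2, sl_trace_eq hc]
  exact h3

theorem IC_scal (θ : C →* ℂˣ) {z : C} (hz : IsScal ((z : S2 F) : M2 F)) : IC θ (z : S2 F) = (C.index : ℂ) * thC θ z := by
  have hcen := (mem_center_iff_isScal _).mpr hz
  rw [IC, CfsgLib.CharInd.indFun_apply]
  have : ∀ x : S2 F, extendByZero C (thC θ) (x⁻¹ * (z : S2 F) * x) = thC θ z := by
    intro x
    have e : x⁻¹ * (z : S2 F) * x = z := by
      rw [mul_assoc, ← Subgroup.mem_center_iff.mp hcen x]; group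
    rw [e]
    exact CfsgLib.CharInd.ext_of_mem z.2
  rw [Finset.sum_congr rfl fun x _ => this x, Finset.sum_const, Finset.card_univ, nsmul_eq_mul, ← mul_assoc]
  congr 1
  have h1 := C.index_mul_card
  have h3 : (Nat.card C : ℂ) ≠ 0 := CfsgLib.CharInd.card_sub_ne_zero C
  rw [← Nat.card_eq_fintype_card, ← h1]
  push_cast
  field_simp

theorem IC_val (h : CD C) (θ : C →* ℂˣ) (c : C) (hs : ¬ IsScal ((c : S2 F) : M2 F)) : IC θ (c : S2 F) = (θ c : ℂ) + ((θ c)⁻¹ : ℂˣ) := by
  obtain ⟨hTT, ha⟩ := h.TT c.2 hs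
  have ht := aniso_tr h.h2 ha
  obtain ⟨w, hw⟩ := exists_w hs ht
  have hwC : w ∉ C := by rw [← hTT]; exact w_notMem hs h.h2 hw
  have hwinv : w⁻¹ * (c : S2 F) * w = (c : S2 F)⁻¹ := by
    have : (c : S2 F) = w⁻¹ * (c : S2 F)⁻¹ * w := by rw [← hw]; group
    have h5 := congrArg (fun y => y⁻¹) this
    simp only [_root_.mul_inv_rev, inv_inv] at h5
    rw [h5]; group
  rw [IC, CfsgLib.CharInd.indFun_apply]
  have hval : ∀ x : S2 F, extendByZero C (thC θ) (x⁻¹ * (c : S2 F) * x) = extendByZero C (fun _ => (θ c : ℂ)) x + extendByZero C (fun _ => (((θ c)⁻¹ : ℂˣ) : ℂ)) (w⁻¹ * x) := by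
    intro x
    by_cases hx : x ∈ C
    · have e1 : x⁻¹ * (c : S2 F) * x = c := by rw [mul_assoc, h.comm c.2 hx]; group
      have e2 : w⁻¹ * x ∉ C := fun h' => hwC (by simpa using inv_mem (mul_mem h' (inv_mem hx)))
      rw [e1, CfsgLib.CharInd.ext_of_mem c.2, CfsgLib.CharInd.ext_of_mem hx, CfsgLib.CharInd.ext_of_not_mem e2, add_zero]
      rfl
    · rw [CfsgLib.CharInd.ext_of_not_mem hx, zero_add]
      by_cases hx2 : w⁻¹ * x ∈ C
      · have e1 : x⁻¹ * (c : S2 F) * x = (c : S2 F)⁻¹ := by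
          obtain ⟨y, hy, rfl⟩ : ∃ y ∈ C, x = w * y := ⟨w⁻¹ * x, hx2, by group⟩
          calc (w * y)⁻¹ * (c : S2 F) * (w * y) = y⁻¹ * (w⁻¹ * c * w) * y := by group
            _ = y⁻¹ * (c : S2 F)⁻¹ * y := by rw [hwinv]
            _ = (c : S2 F)⁻¹ := by rw [mul_assoc, h.comm (inv_mem c.2) hy]; group
        rw [CfsgLib.CharInd.ext_of_mem hx2, e1, CfsgLib.CharInd.ext_of_mem (inv_mem c.2)]
        have : (⟨(c : S2 F)⁻¹, inv_mem c.2⟩ : C) = c⁻¹ := rfl
        rw [this]
        unfold thC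
        rw [map_inv]
      · rw [CfsgLib.CharInd.ext_of_not_mem hx2]
        apply CfsgLib.CharInd.ext_of_not_mem
        intro hin
        have hin' : x⁻¹ * (c : S2 F) * x ∈ TT (c : S2 F) := hTT.ge hin
        have htr : ((x⁻¹ * (c : S2 F) * x : S2 F) : M2 F).trace = ((c : S2 F) : M2 F).trace :=
          (sl_trace_eq (isConj_iff.mpr ⟨x⁻¹, by simp⟩)).symm
        rcases norm_cases hs ht h.h2 hin' htr with e | e
        · apply hx
          apply hTT.le
          rw [mem_TT_comm]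
          calc (c : S2 F) * x = x * (x⁻¹ * (c : S2 F) * x) := by group
            _ = x * c := by rw [e]
        · apply hx2
          apply hTT.le
          rw [mem_TT_comm]
          have e3 : (c : S2 F) * w⁻¹ = w⁻¹ * (c : S2 F)⁻¹ := by
            have := congrArg (fun y => y⁻¹ * w⁻¹) hwinv
            simp only [_root_.mul_inv_rev, inv_inv] at this
            rw [← this]; group
          have e4 : (c : S2 F)⁻¹ * x = x * c := by
            have := congrArg (fun y => x * y⁻¹) e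
            simp only [_root_.mul_inv_rev, inv_inv] at this
            rw [← this]; group
          rw [← mul_assoc, e3, mul_assoc, e4, mul_assoc]
  rw [Finset.sum_congr rfl fun x _ => hval x, Finset.sum_add_distrib]
  have e5 : ∑ x : S2 F, extendByZero C (fun _ => (((θ c)⁻¹ : ℂˣ) : ℂ)) (w⁻¹ * x) = ∑ x : S2 F, extendByZero C (fun _ => (((θ c)⁻¹ : ℂˣ) : ℂ)) x :=
    Equiv.sum_comp (Equiv.mulLeft w⁻¹) (fun x => extendByZero C (fun _ => (((θ c)⁻¹ : ℂˣ) : ℂ)) x)
  haveI : Fintype C := Fintype.ofFinite C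
  rw [e5, CfsgLib.CharInd.sum_ext, CfsgLib.CharInd.sum_ext, Finset.sum_const, Finset.sum_const, Finset.card_univ, nsmul_eq_mul, nsmul_eq_mul,
    ← Nat.card_eq_fintype_card, ← mul_add, ← mul_assoc, inv_mul_cancel₀ (CfsgLib.CharInd.card_sub_ne_zero C), one_mul]

/-- the virtual character -/
noncomputable def Xf (α : MulChar F ℂ) (θ : C →* ℂˣ) : S2 F → ℂ := fun g => (Rf 1 1 (g : M2 F) - 2) * Rf α 1 (g : M2 F) - IC θ g

theorem Xf_gen (α : MulChar F ℂ) (θ : C →* ℂˣ) : IsGeneralizedCharacter (S2 F) (Xf α θ) := by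
  have h1 : IsGeneralizedCharacter (S2 F) (((StS : IrrCharacter (S2 F)) : S2 F → ℂ) * (fun g : S2 F => Rf α 1 (g : M2 F)) - (fun g : S2 F => Rf α 1 (g : M2 F)) - IC θ) := by
    refine CfsgLib.CharBasic.IsGeneralizedCharacter.sub (CfsgLib.CharBasic.IsGeneralizedCharacter.sub (CfsgLib.CharBasic.IsCharacter.isGeneralized ?_) (CfsgLib.CharBasic.IsCharacter.isGeneralized (isChar_RS α))) (CfsgLib.CharBasic.IsCharacter.isGeneralized ?_)
    · exact CfsgLib.CharBasic.IsCharacter.mul (CfsgLib.CharBasic.IsIrrCharacter.isCharacter StS.2) (isChar_RS α)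
    · exact CfsgLib.CharInd.isCharacter_indFun _ (isChar_thC θ)
  have h2 : Xf α θ = ((StS : IrrCharacter (S2 F)) : S2 F → ℂ) * (fun g : S2 F => Rf α 1 (g : M2 F)) - (fun g : S2 F => Rf α 1 (g : M2 F)) - IC θ := by
    funext g
    simp only [Xf, Pi.sub_apply, Pi.mul_apply, StS_apply]
    ring
  rw [h2]; exact h1

end CfsgLib.GL2a
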