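import Cfsg.Agent.Lib.GLh1
set_option autoImplicit false
set_option linter.style.haveILetI false
set_option linter.unusedSectionVars false

/-! Cuspidal characters of `SL₂`: the norm. -/

namespace CfsgLib.GL2a
open Matrix Cfsg
open scoped ComplexConjugate

universe u

variable {F : Type u} [Field F] [Fintype F] [DecidableEq F]
variable {C : Subgroup (S2 F)}

/-- `α` and `θ` agree at `-1` -/
def Agree (α : MulChar F ℂ) (θ : C →* ℂˣ) : Prop := ∀ z : C, ∀ e : F, ((z : S2 F) : M2 F) = e • (1 : M2 F) → thC θ z = α e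

theorem alpha_sq (α : MulChar F ℂ) {e : F} (he : e * e = 1) : α e * α e = 1 := by
  rw [← map_mul, he, map_one]

theorem alpha_conj (α : MulChar F ℂ) {e : F} (he : e * e = 1) : conj (α e) = α e := by
  rcases mul_self_eq_one_iff.mp (alpha_sq α he) with h | h <;> rw [h] <;> simp

theorem one_mc {e : F} (he : e ≠ 0) : (1 : MulChar F ℂ) e = 1 := MulChar.one_apply (isUnit_iff_ne_zero.mpr he)

theorem ne_of_sq {e : F} (he : e * e = 1) : e ≠ 0 := by rintro rfl; simp at he

theorem exists_alpha (h : CD C) (θ : C →* ℂˣ) : ∃ α : MulChar F ℂ, Agree α θ := by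
  have hm1 : θ ⟨-1, h.neg_mem⟩ = 1 ∨ θ ⟨-1, h.neg_mem⟩ = -1 := by
    have : θ ⟨-1, h.neg_mem⟩ * θ ⟨-1, h.neg_mem⟩ = 1 := by
      rw [← map_mul]
      have e : (⟨-1, h.neg_mem⟩ : C) * ⟨-1, h.neg_mem⟩ = 1 := Subtype.ext (by simp)
      rw [e, map_one]
    have h' : ((θ ⟨-1, h.neg_mem⟩ : ℂˣ) : ℂ) * ((θ ⟨-1, h.neg_mem⟩ : ℂˣ) : ℂ) = 1 := by
      have := congrArg Units.val this
      simpa using this
    rcases mul_self_eq_one_iff.mp h' with h1 | h1
    · left; exact Units.ext (by simpa using h1)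
    · right; exact Units.ext (by simpa using h1)
  have key : ∀ α : MulChar F ℂ, α (-1) = ((θ ⟨-1, h.neg_mem⟩ : ℂˣ) : ℂ) → Agree α θ := by
    intro α hα z e he
    have hee : e * e = 1 := by
      have := sl_det (z : S2 F)
      rw [he, Matrix.det_smul, Matrix.det_one] at this
      simp only [Fintype.card_fin, mul_one] at this
      rw [← this]; ring
    rcases mul_self_eq_one_iff.mp hee with rfl | rfl
    · have hz : z = 1 := Subtype.ext (sl_ext (by rw [he]; simp))
      rw [hz, map_one]; unfold thC; simp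
    · have hz : z = ⟨-1, h.neg_mem⟩ := Subtype.ext (sl_ext (by rw [he]; simp))
      rw [hz, hα]; rfl
  rcases hm1 with h1 | h1
  · refine ⟨1, key 1 ?_⟩
    rw [h1, one_mc (by simp)]; simp
  · have hne : (-1 : F) ≠ 1 := (one_ne_neg h.h2).symm
    obtain ⟨α, hα⟩ := MulChar.exists_apply_ne_one_of_hasEnoughRootsOfUnity F ℂ hne
    refine ⟨α, key α ?_⟩
    have h3 : α (-1) * α (-1) = 1 := alpha_sq α (by ring)
    rcases mul_self_eq_one_iff.mp h3 with h4 | h4
    · exact absurd h4 hα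
    · rw [h4, h1]; simp

theorem index_C (h : CD C) : (C.index : ℂ) = (Fintype.card F : ℂ) * ((Fintype.card F : ℂ) - 1) := by
  have h1 := C.index_mul_card
  rw [card_S2', h.card] at h1
  have h3 : C.index = Fintype.card F * (Fintype.card F - 1) := Nat.eq_of_mul_eq_mul_right (Nat.succ_pos _) h1
  rw [h3]
  have : 1 ≤ Fintype.card F := Fintype.card_pos
  push_cast [Nat.cast_sub this]; ring

theorem Xf_scal (h : CD C) {α : MulChar F ℂ} {θ : C →* ℂˣ} (hα : Agree α θ) {z : S2 F} {e : F} (hz : (z : M2 F) = e • (1 : M2 F)) (hee : e * e = 1) :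
    Xf α θ z = ((Fintype.card F : ℂ) - 1) * α e := by
  have hzC : z ∈ C := by
    rcases mul_self_eq_one_iff.mp hee with rfl | rfl
    · have : z = 1 := sl_ext (by rw [hz]; simp)
      rw [this]; exact one_mem _
    · have : z = -1 := sl_ext (by rw [hz]; simp)
      rw [this]; exact h.neg_mem
  have hI : IC θ z = (C.index : ℂ) * thC θ ⟨z, hzC⟩ := IC_scal θ (z := ⟨z, hzC⟩) (by rw [isScal_iff]; exact ⟨e, hz⟩)
  rw [Xf, hI, hα ⟨z, hzC⟩ e hz, index_C h, hz, Rf_scalar, Rf_scalar, one_mc (ne_of_sq hee)]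
  ring

theorem Xf_par (h : CD C) (α : MulChar F ℂ) (θ : C →* ℂˣ) {g : S2 F} (h10 : (g : M2 F) 1 0 = 0) (h00 : (g : M2 F) 0 0 = (g : M2 F) 1 1) (h01 : (g : M2 F) 0 1 ≠ 0) :
    Xf α θ g = -α ((g : M2 F) 0 0) := by
  have hd := sl_det g
  rw [det_e, h10, mul_zero, sub_zero, ← h00] at hd
  have hs : ¬ IsScal (g : M2 F) := fun hs => h01 hs.1
  have ha : ¬ Aniso (g : M2 F) := by
    rw [not_aniso_iff]
    refine ⟨(g : M2 F) 0 0, ?_⟩
    rw [sl_det, tr_eq, ← h00]; linear_combination -hd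
  rw [Xf, IC_zero h θ hs ha, Rf_par 1 1 h10 h00 h01, Rf_par α 1 h10 h00 h01, one_mc (ne_of_sq hd)]
  ring

theorem Xf_split (h : CD C) (α : MulChar F ℂ) (θ : C →* ℂˣ) {g : S2 F} (h10 : (g : M2 F) 1 0 = 0) (hne : (g : M2 F) 0 0 ≠ (g : M2 F) 1 1) :
    Xf α θ g = 0 := by
  have hd := sl_det g
  rw [det_e, h10, mul_zero, sub_zero] at hd
  have h0 : (g : M2 F) 0 0 ≠ 0 := by intro e; rw [e] at hd; simp at hd
  have h1 : (g : M2 F) 1 1 ≠ 0 := by intro e; rw [e] at hd; simp at hd
  have hs : ¬ IsScal (g : M2 F) := fun hs => hne hs.2.2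
  have ha : ¬ Aniso (g : M2 F) := by
    rw [not_aniso_iff]
    refine ⟨(g : M2 F) 0 0, ?_⟩
    rw [sl_det, tr_eq]; linear_combination -hd
  rw [Xf, IC_zero h θ hs ha, Rf_up 1 1 h10 hne, one_mc h0, one_mc h1]
  ring

theorem Xf_C (h : CD C) (α : MulChar F ℂ) (θ : C →* ℂˣ) (c : C) (hs : ¬ IsScal ((c : S2 F) : M2 F)) :
    Xf α θ (c : S2 F) = -((θ c : ℂ) + ((θ c)⁻¹ : ℂˣ)) := by
  rw [Xf, IC_val h θ c hs, Rf_aniso α 1 (h.TT c.2 hs).2]
  ring

theorem Xf_class (α : MulChar F ℂ) (θ : C →* ℂˣ) : IsClassFunction (S2 F) (Xf α θ) := by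
  intro g x
  have e1 : Rf 1 1 ((x * g * x⁻¹ : S2 F) : M2 F) = Rf 1 1 (g : M2 F) := RS_class 1 g x
  have e2 : Rf α 1 ((x * g * x⁻¹ : S2 F) : M2 F) = Rf α 1 (g : M2 F) := RS_class α g x
  unfold Xf
  rw [e1, e2, IC, CfsgLib.CharInd.isClassFunction_indFun C (thC θ) g x]

theorem inner_Y (h : CD C) {α : MulChar F ℂ} {θ : C →* ℂˣ} (hα : Agree α θ) :
    classInner (fun g : S2 F => (Rf 1 1 (g : M2 F) - 2) * Rf α 1 (g : M2 F)) (Xf α θ) = 2 := by
  have hreal : ∀ g : S2 F, conj (Rf 1 1 (g : M2 F) - 2) = Rf 1 1 (g : M2 F) - 2 := by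
    classical
    intro g
    have e : Rf 1 1 (g : M2 F) = fixedPointCharacter (Cfsg.upperTriangularGL 2 F) (Matrix.SpecialLinearGroup.toGL g) := by
      rw [fixed_GL]; rfl
    rw [map_sub, e, fixedPt_reps (Cfsg.upperTriangularGL 2 F) rG reps_GL reps_GL_inj]
    simp only [map_sum, apply_ite, map_one, map_zero]
    congr 1
    exact Complex.conj_ofNat 2
  have h1 : classInner (fun g : S2 F => (Rf 1 1 (g : M2 F) - 2) * Rf α 1 (g : M2 F)) (Xf α θ) =
      classInner (fun g : S2 F => Rf α 1 (g : M2 F)) (fun g : S2 F => (Rf 1 1 (g : M2 F) - 2) * Xf α θ g) := by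
    unfold classInner
    congr 1
    refine Finset.sum_congr rfl fun g _ => ?_
    rw [map_mul, hreal]; ring
  have hcl : IsClassFunction (S2 F) (fun g : S2 F => (Rf 1 1 (g : M2 F) - 2) * Xf α θ g) := by
    intro g x
    change (Rf 1 1 ((x * g * x⁻¹ : S2 F) : M2 F) - 2) * Xf α θ (x * g * x⁻¹) = _
    have e1 : Rf 1 1 ((x * g * x⁻¹ : S2 F) : M2 F) = Rf 1 1 (g : M2 F) := RS_class 1 g x
    rw [Xf_class α θ g x, e1]
  rw [h1, inner_RS α hcl]
  have hsum : ∀ a : Fˣ, ∑ x : F, (Rf 1 1 (((eBS (a, x) : BS F) : S2 F) : M2 F) - 2) * Xf α θ ((eBS (a, x) : BS F) : S2 F) =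
      if a * a = 1 then (Fintype.card F : ℂ) * ((Fintype.card F : ℂ) - 1) * α (a : F) else 0 := by
    intro a
    have hA : ∀ x : F, (((eBS (a, x) : BS F) : S2 F) : M2 F) = !![(a : F), x; 0, (a : F)⁻¹] := fun x => rfl
    split_ifs with ha
    · have haa : (a : F) * (a : F) = 1 := by have := congrArg Units.val ha; simpa using this
      have hinv : (a : F)⁻¹ = (a : F) := by
        apply mul_left_cancel₀ a.ne_zero
        rw [haa]; simp
      rw [Fintype.sum_eq_add_sum_compl 0]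
      have e0 : (((eBS (a, 0) : BS F) : S2 F) : M2 F) = (a : F) • (1 : M2 F) := by
        rw [hA, hinv]; apply ext4 <;> simp
      rw [Xf_scal h hα e0 haa, e0, Rf_scalar, one_mc a.ne_zero]
      have hcompl : ∀ x ∈ ({0}ᶜ : Finset F), (Rf 1 1 (((eBS (a, x) : BS F) : S2 F) : M2 F) - 2) * Xf α θ ((eBS (a, x) : BS F) : S2 F) = α (a : F) := by
        intro x hx
        rw [Finset.mem_compl, Finset.mem_singleton] at hx
        have b10 : (((eBS (a, x) : BS F) : S2 F) : M2 F) 1 0 = 0 := by rw [hA]; simp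
        have b00 : (((eBS (a, x) : BS F) : S2 F) : M2 F) 0 0 = (((eBS (a, x) : BS F) : S2 F) : M2 F) 1 1 := by rw [hA, hinv]; simp
        have b01 : (((eBS (a, x) : BS F) : S2 F) : M2 F) 0 1 ≠ 0 := by rw [hA]; simpa using hx
        have b : (((eBS (a, x) : BS F) : S2 F) : M2 F) 0 0 = a := by rw [hA]; simp
        rw [Xf_par h α θ b10 b00 b01, Rf_par 1 1 b10 b00 b01, b, one_mc a.ne_zero]
        ring
      rw [Finset.sum_congr rfl hcompl, Finset.sum_const, Finset.card_compl, Finset.card_singleton, nsmul_eq_mul]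
      have : 1 ≤ Fintype.card F := Fintype.card_pos
      push_cast [Nat.cast_sub this]; ring
    · apply Finset.sum_eq_zero
      intro x _
      rw [Xf_split h α θ (by rw [hA]; simp), mul_zero]
      rw [hA]
      intro e
      apply ha
      have e' : (a : F) = (a : F)⁻¹ := by simpa using e
      apply Units.ext
      push_cast
      nth_rewrite 2 [e']; simp
  rw [Finset.sum_congr rfl fun a _ => by rw [hsum a]]
  have hterm : ∀ a : Fˣ, α (a : F) * conj (if a * a = 1 then (Fintype.card F : ℂ) * ((Fintype.card F : ℂ) - 1) * α (a : F) else 0) =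
      if a * a = 1 then (Fintype.card F : ℂ) * ((Fintype.card F : ℂ) - 1) else 0 := by
    intro a
    split_ifs with ha
    · have haa : (a : F) * (a : F) = 1 := by have := congrArg Units.val ha; simpa using this
      simp only [map_mul, map_sub, map_one, Complex.conj_natCast]
      rw [alpha_conj α haa]
      linear_combination (Fintype.card F : ℂ) * ((Fintype.card F : ℂ) - 1) * alpha_sq α haa
    · simp
  rw [Finset.sum_congr rfl fun a _ => hterm a, Finset.sum_ite, Finset.sum_const_zero, add_zero, Finset.sum_const]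
  have c3 : (Finset.univ.filter (fun a : Fˣ => a * a = 1)).card = 2 := by
    rw [← card_two_units h.h2, Nat.card_eq_fintype_card, Fintype.card_subtype]
  rw [c3, card_BS, nsmul_eq_mul]
  have hq := cq0 (F := F)
  have hq1 := cq1 (F := F)
  push_cast
  field_simp

theorem inner_I (h : CD C) {α : MulChar F ℂ} {θ : C →* ℂˣ} (hα : Agree α θ) [Fintype C] :
    classInner (IC θ) (Xf α θ) = 1 - ((Fintype.card F : ℂ) + 1)⁻¹ * ∑ c : C, thC θ c * thC θ c := by
  rw [CfsgLib.CharInd.frobenius C (thC θ) (Xf_class α θ)]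
  unfold classInner
  have hq : ((Fintype.card F : ℂ) + 1) ≠ 0 := by
    have : ((Fintype.card F + 1 : ℕ) : ℂ) ≠ 0 := Nat.cast_ne_zero.mpr (Nat.succ_ne_zero _)
    push_cast at this; exact this
  have hval : ∀ c : C, thC θ c * conj (Xf α θ (c : S2 F)) = -(1 + thC θ c * thC θ c) + if (c = 1 ∨ c = ⟨-1, h.neg_mem⟩) then ((Fintype.card F : ℂ) + 1) else 0 := by
    intro c
    by_cases hs : IsScal ((c : S2 F) : M2 F)
    · obtain ⟨e, he⟩ := (isScal_iff _).mp hs
      have hee : e * e = 1 := by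
        have := sl_det (c : S2 F)
        rw [he, Matrix.det_smul, Matrix.det_one] at this
        simp only [Fintype.card_fin, mul_one] at this
        rw [← this]; ring
      have hc : c = 1 ∨ c = ⟨-1, h.neg_mem⟩ := by
        rcases scal_sl' hs with h' | h'
        · left; exact Subtype.ext h'
        · right; exact Subtype.ext h'
      rw [if_pos hc, Xf_scal h hα he hee, hα c e he]
      simp only [map_mul, map_sub, map_one, Complex.conj_natCast]
      rw [alpha_conj α hee]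
      linear_combination (Fintype.card F : ℂ) * alpha_sq α hee
    · have hc : ¬ (c = 1 ∨ c = ⟨-1, h.neg_mem⟩) := by
        rintro (h' | h')
        · apply hs; rw [h']; exact isScal_one
        · apply hs; rw [h']; exact isScal_neg_one
      rw [if_neg hc, Xf_C h α θ c hs]
      have e1 : conj ((θ c : ℂˣ) : ℂ) = ((θ c)⁻¹ : ℂˣ) := thC_conj θ c
      have e2 : conj (((θ c)⁻¹ : ℂˣ) : ℂ) = (θ c : ℂˣ) := by rw [← e1, Complex.conj_conj]
      rw [map_neg, map_add, e1, e2]
      have e3 : ((θ c : ℂˣ) : ℂ) * (((θ c)⁻¹ : ℂˣ) : ℂ) = 1 := by simp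
      unfold thC
      linear_combination -e3
  rw [Finset.sum_congr rfl fun c _ => hval c, Finset.sum_add_distrib, Finset.sum_neg_distrib, Finset.sum_add_distrib, Finset.sum_ite, Finset.sum_const_zero, add_zero, Finset.sum_const, Finset.sum_const, Finset.card_univ]
  have c2 : (Finset.univ.filter (fun c : C => c = 1 ∨ c = ⟨-1, h.neg_mem⟩)).card = 2 := by
    classical
    have hne : (1 : C) ≠ ⟨-1, h.neg_mem⟩ := by
      intro e
      exact neg_one_ne h.h2 (congrArg Subtype.val e).symm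
    have : (Finset.univ.filter (fun c : C => c = 1 ∨ c = ⟨-1, h.neg_mem⟩)) = {1, ⟨-1, h.neg_mem⟩} := by
      ext c; simp
    rw [this, Finset.card_pair hne]
  have hcC : ((Fintype.card C : ℕ) : ℂ) = (Fintype.card F : ℂ) + 1 := by
    rw [← Nat.card_eq_fintype_card, h.card]; push_cast; ring
  have hcC' : ((Nat.card C : ℕ) : ℂ) = (Fintype.card F : ℂ) + 1 := by
    rw [h.card]; push_cast; ring
  rw [c2, hcC', nsmul_eq_mul, nsmul_eq_mul, hcC]
  push_cast
  field_simp
  ring

theorem sum_theta_sq (h : CD C) (θ : C →* ℂˣ) [Fintype C] : ∑ c : C, thC θ c * thC θ c = if θ ^ 2 = 1 then (Fintype.card F : ℂ) + 1 else 0 := by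
  classical
  split_ifs with hθ
  · have : ∀ c : C, thC θ c * thC θ c = 1 := by
      intro c
      have := congrArg (fun f : C →* ℂˣ => ((f c : ℂˣ) : ℂ)) hθ
      simp only [MonoidHom.pow_apply, MonoidHom.one_apply] at this
      rw [pow_two] at this
      simpa [thC] using this
    rw [Finset.sum_congr rfl fun c _ => this c, Finset.sum_const, Finset.card_univ, nsmul_eq_mul, mul_one, ← Nat.card_eq_fintype_card, h.card]
    push_cast; ring
  · let f : C →* ℂ := (Units.coeHom ℂ).comp (θ ^ 2)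
    have hf : f ≠ 1 := by
      intro e
      apply hθ
      ext c
      have := congrArg (fun f : C →* ℂ => f c) e
      simpa [f] using this
    have := sum_hom_units_eq_zero f hf
    rw [← this]
    refine Finset.sum_congr rfl fun c _ => ?_
    simp [f, thC, pow_two]

theorem norm_Xf (h : CD C) {α : MulChar F ℂ} {θ : C →* ℂˣ} (hα : Agree α θ) [Decidable (θ ^ 2 = 1)] :
    classInner (Xf α θ) (Xf α θ) = 1 + if θ ^ 2 = 1 then 1 else 0 := by
  haveI : Fintype C := Fintype.ofFinite C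
  have e : classInner (Xf α θ) (Xf α θ) = classInner (fun g : S2 F => (Rf 1 1 (g : M2 F) - 2) * Rf α 1 (g : M2 F)) (Xf α θ) - classInner (IC θ) (Xf α θ) := by
    rw [← CfsgLib.CharBasic.classInner_sub_left]
    rfl
  have hq : ((Fintype.card F : ℂ) + 1) ≠ 0 := by
    have : ((Fintype.card F + 1 : ℕ) : ℂ) ≠ 0 := Nat.cast_ne_zero.mpr (Nat.succ_ne_zero _)
    push_cast at this; exact this
  rw [e, inner_Y h hα, inner_I h hα, sum_theta_sq h]
  split_ifs
  · field_simp; ring
  · ring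

end CfsgLib.GL2a
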