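import Cfsg.Agent.Lib.GLh2
set_option autoImplicit false
set_option linter.style.haveILetI false
set_option linter.unusedSectionVars false

/-! Cuspidal characters of `SL₂`: classification. -/

namespace CfsgLib.GL2a
open Matrix Cfsg
open scoped ComplexConjugate

universe u

variable {F : Type u} [Field F] [Fintype F] [DecidableEq F]
variable {C : Subgroup (S2 F)}

theorem Xf_one (h : CD C) {α : MulChar F ℂ} {θ : C →* ℂˣ} (hα : Agree α θ) : Xf α θ 1 = (Fintype.card F : ℂ) - 1 := by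
  rw [Xf_scal h hα (z := 1) (e := 1) (by simp) (by simp), map_one, mul_one]

theorem Xirr (h : CD C) {α : MulChar F ℂ} {θ : C →* ℂˣ} (hα : Agree α θ) (hθ : θ ^ 2 ≠ 1) : IsIrrCharacter (S2 F) (Xf α θ) := by
  classical
  refine CfsgLib.CharBasic.IsGeneralizedCharacter.irr_of_pos (Xf_gen α θ) ?_ ?_
  · rw [norm_Xf h hα, if_neg hθ, add_zero]
  · rw [Xf_one h hα]
    have : 1 < Fintype.card F := Fintype.one_lt_card
    simp only [Complex.sub_re, Complex.natCast_re, Complex.one_re, sub_pos]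
    exact_mod_cast this

theorem Xf_eq (h : CD C) {α α' : MulChar F ℂ} {θ θ' : C →* ℂˣ} (hα : Agree α θ) (hα' : Agree α' θ')
    (hv : ∀ c : C, (θ c : ℂ) + ((θ c)⁻¹ : ℂˣ) = (θ' c : ℂ) + ((θ' c)⁻¹ : ℂˣ)) : Xf α θ = Xf α' θ' := by
  have hscal : ∀ e : F, e * e = 1 → α e = α' e := by
    intro e he
    obtain ⟨z, hz⟩ : ∃ z : C, ((z : S2 F) : M2 F) = e • (1 : M2 F) := by
      rcases mul_self_eq_one_iff.mp he with rfl | rfl
      · exact ⟨1, by simp⟩
      · exact ⟨⟨-1, h.neg_mem⟩, by simp⟩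
    have h1 := hα z e hz
    have h2 := hα' z e hz
    have h3 := hv z
    have a1 := alpha_sq α he
    have a2 := alpha_sq α' he
    rw [← h1] at a1 ⊢
    rw [← h2] at a2 ⊢
    have b1 : (((θ z)⁻¹ : ℂˣ) : ℂ) = θ z := by
      rw [Units.val_inv_eq_inv_val]
      exact inv_eq_of_mul_eq_one_right a1
    have b2 : (((θ' z)⁻¹ : ℂˣ) : ℂ) = θ' z := by
      rw [Units.val_inv_eq_inv_val]
      exact inv_eq_of_mul_eq_one_right a2
    rw [b1, b2] at h3
    change ((θ z : ℂˣ) : ℂ) = θ' z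
    linear_combination h3 / 2
  funext g
  rcases tri g with h1 | ⟨h1, h3⟩ | ⟨h1, h3, h5⟩ | ⟨h1, h3, h5⟩
  · obtain ⟨e, he⟩ := (isScal_iff _).mp h1
    have hee : e * e = 1 := by
      have := sl_det g
      rw [he, Matrix.det_smul, Matrix.det_one] at this
      simp only [Fintype.card_fin, mul_one] at this
      rw [← this]; ring
    rw [Xf_scal h hα he hee, Xf_scal h hα' he hee, hscal e hee]
  · obtain ⟨e, b, he, hb, hc⟩ := par_conj h1 h3
    rw [CfsgLib.CharBasic.IsClassFunction.eq_of_isConj (Xf_class α θ) hc, CfsgLib.CharBasic.IsClassFunction.eq_of_isConj (Xf_class α' θ') hc,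
      Xf_par h α θ (by simp [parS, par]) (by simp [parS, par]) (by simpa [parS, par] using hb),
      Xf_par h α' θ' (by simp [parS, par]) (by simp [parS, par]) (by simpa [parS, par] using hb)]
    have : ((parS e b he : S2 F) : M2 F) 0 0 = e := by simp [parS, par]
    rw [this, hscal e he]
  · obtain ⟨a, ha, ha1, hc⟩ := split_conj h1 h3 h5
    have hne : ((dS a ha : S2 F) : M2 F) 0 0 ≠ ((dS a ha : S2 F) : M2 F) 1 1 := by
      simp only [dS]
      intro e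
      apply ha1
      have e' : a = a⁻¹ := by simpa using e
      rw [sq]; nth_rewrite 2 [e']; exact mul_inv_cancel₀ ha
    rw [CfsgLib.CharBasic.IsClassFunction.eq_of_isConj (Xf_class α θ) hc, CfsgLib.CharBasic.IsClassFunction.eq_of_isConj (Xf_class α' θ') hc,
      Xf_split h α θ (by simp [dS]) hne, Xf_split h α' θ' (by simp [dS]) hne]
  · by_cases hx : ∃ x : S2 F, x⁻¹ * g * x ∈ C
    · obtain ⟨x, hx⟩ := hx
      have hc : IsConj g (x⁻¹ * g * x) := isConj_iff.mpr ⟨x⁻¹, by simp⟩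
      have hns : ¬ IsScal ((x⁻¹ * g * x : S2 F) : M2 F) := fun h' => h1 (sl_isScal hc h')
      rw [CfsgLib.CharBasic.IsClassFunction.eq_of_isConj (Xf_class α θ) hc, CfsgLib.CharBasic.IsClassFunction.eq_of_isConj (Xf_class α' θ') hc]
      have e1 := Xf_C h α θ ⟨_, hx⟩ hns
      have e2 := Xf_C h α' θ' ⟨_, hx⟩ hns
      change Xf α θ (x⁻¹ * g * x) = _ at e1
      change Xf α' θ' (x⁻¹ * g * x) = _ at e2
      rw [e1, e2, hv]
    · push Not at hx
      unfold Xf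
      rw [Rf_aniso α 1 h5, Rf_aniso α' 1 h5, IC, IC, CfsgLib.CharInd.indFun_eq_zero hx, CfsgLib.CharInd.indFun_eq_zero hx]

theorem card_hom (h : CD C) : Nat.card (C →* ℂˣ) = Fintype.card F + 1 ∧ Nat.card {θ : C →* ℂˣ // θ ^ 2 = 1} = 2 := by
  haveI := h.cyc
  letI : CommGroup C := IsCyclic.commGroup
  obtain ⟨e⟩ := CommGroup.monoidHom_mulEquiv_of_hasEnoughRootsOfUnity C ℂ
  refine ⟨?_, ?_⟩
  · rw [Nat.card_congr e.toEquiv, h.card]
  · have e1 : Nat.card {θ : C →* ℂˣ // θ ^ 2 = 1} = Nat.card {c : C // c ^ 2 = 1} :=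
      Nat.card_congr (e.toEquiv.subtypeEquiv fun α => by
        constructor
        · intro h
          change (e α) ^ 2 = 1
          rw [← map_pow, h, map_one]
        · intro h
          change (e α) ^ 2 = 1 at h
          rw [← map_pow] at h
          exact e.injective (h.trans (map_one e).symm))
    rw [e1]
    have hne : (1 : C) ≠ ⟨-1, h.neg_mem⟩ := by
      intro e
      exact neg_one_ne h.h2 (congrArg Subtype.val e).symm
    have : Nat.card ({1, ⟨-1, h.neg_mem⟩} : Set C) = 2 := by rw [Nat.card_coe_set_eq, Set.ncard_pair hne]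
    refine (Nat.card_congr (Equiv.subtypeEquivRight fun a => ?_)).trans this
    constructor
    · intro ha
      have h' : (a : S2 F) * a = 1 := by
        rw [sq] at ha
        exact congrArg Subtype.val ha
      rcases sl_sq_one h.h2 h' with h1 | h1
      · exact Or.inl (Subtype.ext h1)
      · exact Or.inr (Subtype.ext h1)
    · rintro (h1 | h1)
      · rw [h1, one_pow]
      · have h1' : a = ⟨-1, h.neg_mem⟩ := h1
        rw [h1']
        apply Subtype.ext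
        change (-1 : S2 F) ^ 2 = 1
        simp

theorem finite_hom (h : CD C) : Finite (C →* ℂˣ) := by
  apply Nat.finite_of_card_ne_zero
  rw [(card_hom h).1]; omega

theorem exists_gen (h : CD C) : ∃ c : C, (∀ x : C, x ∈ Subgroup.zpowers c) ∧ ¬ IsScal ((c : S2 F) : M2 F) := by
  haveI := h.cyc
  obtain ⟨c, hc⟩ := IsCyclic.exists_generator (α := C)
  refine ⟨c, hc, ?_⟩
  intro hs
  have ho : orderOf c = Nat.card C := orderOf_eq_card_of_forall_mem_zpowers hc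
  have h1 : c ^ 2 = 1 := by
    apply Subtype.ext
    rcases scal_sl' hs with h | h
    · change (c : S2 F) ^ 2 = 1; rw [h]; simp
    · change (c : S2 F) ^ 2 = 1; rw [h]; simp
  have := orderOf_le_of_pow_eq_one two_pos h1
  rw [ho, h.card] at this
  have := card_q_ge h.h2
  omega

/-- cuspidal character attached to `θ` -/
noncomputable def Xc (h : CD C) (θ : C →* ℂˣ) : IrrCharacter (S2 F) := by
  classical
  exact if hθ : θ ^ 2 ≠ 1 then ⟨Xf (exists_alpha h θ).choose θ, Xirr h (exists_alpha h θ).choose_spec hθ⟩ else tS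

theorem Xc_coe (h : CD C) {θ : C →* ℂˣ} (hθ : θ ^ 2 ≠ 1) : ((Xc h θ : IrrCharacter (S2 F)) : S2 F → ℂ) = Xf (exists_alpha h θ).choose θ := by
  unfold Xc; rw [dif_pos hθ]

theorem Xc_type (h : CD C) {θ : C →* ℂˣ} (hθ : θ ^ 2 ≠ 1) : o0 h.h2 (Xc h θ) = 0 ∧ o1 h.h2 (Xc h θ) = 1 ∧ o2 h.h2 (Xc h θ) = 1 := by
  have hα := (exists_alpha h θ).choose_spec
  apply o_eq h.h2
  · rw [Xc_coe h hθ, Xf_one h hα]; push_cast; ring
  · rw [Xc_coe h hθ, Xf_par h _ θ (by rw [uS_coe]; simp) (by rw [uS_coe]; simp) (by rw [uS_coe]; simp)]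
    rw [uS_coe]; simp
  · rw [Xc_coe h hθ, ← tau_uS, Xf_par h _ θ (by rw [tau_coe, uS_coe]; simp) (by rw [tau_coe, uS_coe]; simp) (by rw [tau_coe, uS_coe]; simpa using nu_ne h.h2)]
    rw [tau_coe, uS_coe]; simp

theorem inv_val (u : ℂˣ) : ((u⁻¹ : ℂˣ) : ℂ) = (u : ℂ)⁻¹ := Units.val_inv_eq_inv_val u

theorem sum_inv_eq {a b : ℂˣ} (h : (a : ℂ) + ((a⁻¹ : ℂˣ) : ℂ) = (b : ℂ) + ((b⁻¹ : ℂˣ) : ℂ)) : b = a ∨ b = a⁻¹ := by
  rw [inv_val, inv_val] at h
  have ha : (a : ℂ) ≠ 0 := a.ne_zero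
  have hb : (b : ℂ) ≠ 0 := b.ne_zero
  have : ((b : ℂ) - a) * (b - (a : ℂ)⁻¹) = 0 := by
    have h1 : (b : ℂ) * (b : ℂ)⁻¹ = 1 := mul_inv_cancel₀ hb
    have h2 : (a : ℂ) * (a : ℂ)⁻¹ = 1 := mul_inv_cancel₀ ha
    linear_combination h2 - h1 - (b : ℂ) * h
  rcases mul_eq_zero.mp this with h1 | h1
  · left; exact Units.ext (by linear_combination h1)
  · right; apply Units.ext; rw [inv_val]; linear_combination h1

theorem hom_ext_gen {c : C} (hc : ∀ x : C, x ∈ Subgroup.zpowers c) {θ θ' : C →* ℂˣ} (h : θ c = θ' c) : θ = θ' := by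
  ext x
  obtain ⟨k, rfl⟩ := hc x
  simp only [map_zpow, h]

theorem Xc_inv (h : CD C) {θ : C →* ℂˣ} (hθ : θ ^ 2 ≠ 1) (hθ' : θ⁻¹ ^ 2 ≠ 1) : Xc h θ⁻¹ = Xc h θ := by
  apply Subtype.ext
  rw [Xc_coe h hθ, Xc_coe h hθ']
  apply Xf_eq h (exists_alpha h θ⁻¹).choose_spec (exists_alpha h θ).choose_spec
  intro c
  simp only [MonoidHom.inv_apply, inv_inv]
  ring

theorem Xc_inj (h : CD C) {θ θ' : C →* ℂˣ} (hθ : θ ^ 2 ≠ 1) (hθ' : θ' ^ 2 ≠ 1) (he : Xc h θ = Xc h θ') : θ' = θ ∨ θ' = θ⁻¹ := by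
  obtain ⟨c, hc, hcs⟩ := exists_gen h
  have h1 : ((Xc h θ : IrrCharacter (S2 F)) : S2 F → ℂ) c = ((Xc h θ' : IrrCharacter (S2 F)) : S2 F → ℂ) c := by rw [he]
  rw [Xc_coe h hθ, Xc_coe h hθ', Xf_C h _ θ c hcs, Xf_C h _ θ' c hcs, neg_inj] at h1
  rcases sum_inv_eq h1 with h3 | h3
  · left; exact hom_ext_gen hc h3
  · right; exact hom_ext_gen hc (by rw [h3]; rfl)

theorem card_T2 (h : CD C) [Fintype (C →* ℂˣ)] [DecidableEq (C →* ℂˣ)] : (Finset.univ.filter (fun θ : C →* ℂˣ => θ ^ 2 ≠ 1)).card = Fintype.card F - 1 := by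
  obtain ⟨h1, h3⟩ := card_hom h
  have h4 := Finset.card_filter_add_card_filter_not (s := (Finset.univ : Finset (C →* ℂˣ))) (fun θ : C →* ℂˣ => θ ^ 2 = 1)
  rw [Finset.card_univ, ← Nat.card_eq_fintype_card, h1] at h4
  have h5 : (Finset.univ.filter (fun θ : C →* ℂˣ => θ ^ 2 = 1)).card = 2 := by
    have := h3
    rw [Nat.card_eq_fintype_card, Fintype.card_subtype] at this
    exact this
  rw [h5] at h4
  have h6 : (Finset.univ.filter (fun θ : C →* ℂˣ => θ ^ 2 ≠ 1)).card = (Finset.univ.filter (fun θ : C →* ℂˣ => ¬ θ ^ 2 = 1)).card := rfl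
  omega

theorem Xc_surj (h : CD C) (χ : IrrCharacter (S2 F)) (hχ : o0 h.h2 χ = 0 ∧ o1 h.h2 χ = 1 ∧ o2 h.h2 χ = 1) : ∃ θ : C →* ℂˣ, θ ^ 2 ≠ 1 ∧ Xc h θ = χ := by
  classical
  haveI := finite_hom h
  haveI : Fintype (C →* ℂˣ) := Fintype.ofFinite _
  set T2 := Finset.univ.filter (fun θ : C →* ℂˣ => θ ^ 2 ≠ 1) with hT2
  have hmem : ∀ θ, θ ∈ T2 ↔ θ ^ 2 ≠ 1 := fun θ => by simp [hT2]
  have hinv : ∀ θ : C →* ℂˣ, θ ^ 2 ≠ 1 → θ⁻¹ ^ 2 ≠ 1 := by
    intro θ h1 h3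
    apply h1
    apply MonoidHom.ext
    intro c
    have h5 := congrArg (fun f : C →* ℂˣ => f c) h3
    change (θ c)⁻¹ ^ 2 = 1 at h5
    change θ c ^ 2 = 1
    rw [_root_.inv_pow] at h5
    exact inv_eq_one.mp h5
  have h2 := card_image_two T2 (Xc h) (fun θ => θ⁻¹) (fun θ hθ => by
    rw [hmem] at hθ
    refine ⟨(hmem _).mpr (hinv θ hθ), ?_, Xc_inv h hθ (hinv θ hθ)⟩
    intro e
    apply hθ
    apply MonoidHom.ext
    intro c
    have h5 := congrArg (fun f : C →* ℂˣ => f c) e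
    change (θ c)⁻¹ = θ c at h5
    change θ c ^ 2 = 1
    rw [sq]; nth_rewrite 1 [← h5]; exact inv_mul_cancel (θ c)) (fun a ha b hb e => Xc_inj h ((hmem _).mp ha) ((hmem _).mp hb) e)
  rw [card_T2 h] at h2
  have hc := (card_cuspO (F := F) h.h2).1
  have hsub : T2.image (Xc h) ⊆ Finset.univ.filter (fun χ : IrrCharacter (S2 F) => o0 h.h2 χ = 0 ∧ o1 h.h2 χ = 1 ∧ o2 h.h2 χ = 1) := by
    intro x hx
    obtain ⟨θ, hθ, rfl⟩ := Finset.mem_image.mp hx
    simp only [Finset.mem_filter, Finset.mem_univ, true_and]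
    exact Xc_type h ((hmem _).mp hθ)
  rw [Nat.card_eq_fintype_card, Fintype.card_subtype] at hc
  have heq := Finset.eq_of_subset_of_card_le hsub (by rw [hc]; omega)
  have : χ ∈ T2.image (Xc h) := by rw [heq]; simpa using hχ
  obtain ⟨θ, hθ, he⟩ := Finset.mem_image.mp this
  exact ⟨θ, (hmem _).mp hθ, he⟩

end CfsgLib.GL2a
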