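import Cfsg.Agent.Lib.GLh3
set_option autoImplicit false
set_option linter.style.haveILetI false
set_option linter.unusedSectionVars false

/-! The characters of degree `(q - 1) / 2` of `SL₂`. -/

namespace CfsgLib.GL2a
open Matrix Cfsg
open scoped ComplexConjugate

universe u

theorem exists_pm {G : Type u} [Group G] [Fintype G] {θ : G → ℂ} (hθ : IsGeneralizedCharacter G θ) (h2 : classInner θ θ = 2) :
    ∃ (μ ν : IrrCharacter G) (s t : ℤ), μ ≠ ν ∧ (s = 1 ∨ s = -1) ∧ (t = 1 ∨ t = -1) ∧ θ = (s : ℂ) • (μ : G → ℂ) + (t : ℂ) • (ν : G → ℂ) := by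
  classical
  obtain ⟨m, rfl⟩ := CfsgLib.CharBasic.isGeneralized_iff.mp hθ
  rw [CfsgLib.CharBasic.classInner_sum_smul_sum_smul] at h2
  have h3 : ∑ χ : IrrCharacter G, m χ * m χ = 2 := by
    simp only [map_intCast] at h2
    exact_mod_cast h2
  obtain ⟨μ, ν, hne, hμ, hν, h0⟩ := CfsgLib.CharTI.exists_pair_of_sum_sq_eq_two m h3
  refine ⟨μ, ν, m μ, m ν, hne, hμ, hν, ?_⟩
  rw [← Finset.add_sum_erase Finset.univ _ (Finset.mem_univ μ),
      ← Finset.add_sum_erase (Finset.univ.erase μ) _ (Finset.mem_erase.mpr ⟨hne.symm, Finset.mem_univ ν⟩),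
      Finset.sum_eq_zero, add_zero]
  intro k hk
  rw [Finset.mem_erase, Finset.mem_erase] at hk
  rw [h0 k hk.2.1 hk.1]; simp

variable {F : Type u} [Field F] [Fintype F] [DecidableEq F]
variable {C : Subgroup (S2 F)}

theorem o_ne_zero (h2 : (2 : F) ≠ 0) (χ : IrrCharacter (S2 F)) : ¬ (o0 h2 χ = 0 ∧ o1 h2 χ = 0 ∧ o2 h2 χ = 0) := by
  rintro ⟨h0, h1, h3⟩
  have := o_one h2 χ
  rw [h0, h1, h3] at this
  apply CfsgLib.CharBasic.IsIrrCharacter.one_ne_zero χ.2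
  rw [this]; push_cast; ring

theorem otypes (h2 : (2 : F) ≠ 0) (y : IrrCharacter (S2 F)) : (y = tS ∧ o0 h2 y = 1 ∧ o1 h2 y = 0 ∧ o2 h2 y = 0) ∨ (y = StS ∧ o0 h2 y = 1 ∧ o1 h2 y = 1 ∧ o2 h2 y = 1) ∨
    (o0 h2 y = 2 ∧ o1 h2 y = 1 ∧ o2 h2 y = 1) ∨ (o0 h2 y = 1 ∧ o1 h2 y = 1 ∧ o2 h2 y = 0) ∨ (o0 h2 y = 1 ∧ o1 h2 y = 0 ∧ o2 h2 y = 1) ∨
    (o0 h2 y = 0 ∧ o1 h2 y = 1 ∧ o2 h2 y = 1) ∨ (o0 h2 y = 0 ∧ o1 h2 y = 1 ∧ o2 h2 y = 0) ∨ (o0 h2 y = 0 ∧ o1 h2 y = 0 ∧ o2 h2 y = 1) := by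
  rcases kinds h2 y with k | k | k | k | k | k | k
  · left; rw [k]; exact ⟨rfl, o_t h2⟩
  · right; left; rw [k]; exact ⟨rfl, o_S h2⟩
  · obtain ⟨β, rfl⟩ := (mem_AR y).mp k
    exact Or.inr (Or.inr (Or.inl (o_R h2 β)))
  · have hH := H_spec (F := F) h2
    rcases k with k | k
    · rw [k]; exact Or.inr (Or.inr (Or.inr (Or.inl hH.2.1)))
    · rw [k]; exact Or.inr (Or.inr (Or.inr (Or.inr (Or.inl hH.2.2.1))))
  · exact Or.inr (Or.inr (Or.inr (Or.inr (Or.inr (Or.inl k)))))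
  · exact Or.inr (Or.inr (Or.inr (Or.inr (Or.inr (Or.inr (Or.inl k))))))
  · exact Or.inr (Or.inr (Or.inr (Or.inr (Or.inr (Or.inr (Or.inr k))))))

theorem halves_sum (h : CD C) {α : MulChar F ℂ} {θ : C →* ℂˣ} (hα : Agree α θ) (hθ : θ ^ 2 = 1) (hθ1 : θ ≠ 1) :
    ∃ a b : IrrCharacter (S2 F), Xf α θ = (a : S2 F → ℂ) + (b : S2 F → ℂ) ∧ (o0 h.h2 a = 0 ∧ o1 h.h2 a = 1 ∧ o2 h.h2 a = 0) ∧ (o0 h.h2 b = 0 ∧ o1 h.h2 b = 0 ∧ o2 h.h2 b = 1) := by
  classical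
  have hnorm := norm_Xf h hα
  rw [if_pos hθ] at hnorm
  obtain ⟨a, b, s, t, hab, hs, ht, e⟩ := exists_pm (Xf_gen α θ) (by rw [hnorm]; norm_num)
  have hq := cq0 (F := F)
  have ev : ∀ g : S2 F, Xf α θ g = s * (a : S2 F → ℂ) g + t * (b : S2 F → ℂ) g := fun g => by
    have := congrFun e g
    simpa using this
  have e1 : (s : ℂ) * (a : S2 F → ℂ) 1 + t * (b : S2 F → ℂ) 1 = Fintype.card F - 1 := by rw [← ev, Xf_one h hα]
  have hu : Xf α θ uS = -1 := by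
    rw [Xf_par h _ θ (by rw [uS_coe]; simp) (by rw [uS_coe]; simp) (by rw [uS_coe]; simp), uS_coe]; simp
  have hv : Xf α θ (vS h.h2) = -1 := by
    rw [← tau_uS, Xf_par h _ θ (by rw [tau_coe, uS_coe]; simp) (by rw [tau_coe, uS_coe]; simp) (by rw [tau_coe, uS_coe]; simpa using nu_ne h.h2), tau_coe, uS_coe]; simp
  rw [ev] at hu hv
  obtain ⟨a0, a1, a2⟩ := o_spec h.h2 a
  obtain ⟨b0, b1, b2⟩ := o_spec h.h2 b
  have s0 : s * o0 h.h2 a + t * o0 h.h2 b = 0 := by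
    have : (Fintype.card F : ℂ) * ((s * o0 h.h2 a + t * o0 h.h2 b : ℤ) : ℂ) = (Fintype.card F : ℂ) * ((0 : ℤ) : ℂ) := by
      push_cast
      linear_combination s * a0 + t * b0 + e1 + ((Fintype.card F : ℂ) - 1) / 2 * (hu + hv)
    exact_mod_cast mul_left_cancel₀ hq this
  have s1 : s * o1 h.h2 a + t * o1 h.h2 b = 1 := by
    have : (Fintype.card F : ℂ) * ((s * o1 h.h2 a + t * o1 h.h2 b : ℤ) : ℂ) = (Fintype.card F : ℂ) * ((1 : ℤ) : ℂ) := by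
      push_cast; linear_combination s * a1 + t * b1 + e1 - (hu + hv) / 2 + conj (gs F) / 2 * (hu - hv)
    exact_mod_cast mul_left_cancel₀ hq this
  have s2 : s * o2 h.h2 a + t * o2 h.h2 b = 1 := by
    have : (Fintype.card F : ℂ) * ((s * o2 h.h2 a + t * o2 h.h2 b : ℤ) : ℂ) = (Fintype.card F : ℂ) * ((1 : ℤ) : ℂ) := by
      push_cast; linear_combination s * a2 + t * b2 + e1 - (hu + hv) / 2 - conj (gs F) / 2 * (hu - hv)
    exact_mod_cast mul_left_cancel₀ hq this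
  -- the difference case
  have diff : ∀ x y : IrrCharacter (S2 F), Xf α θ = (x : S2 F → ℂ) - (y : S2 F → ℂ) → (o0 h.h2 x : ℤ) - o0 h.h2 y = 0 → (o1 h.h2 x : ℤ) - o1 h.h2 y = 1 → (o2 h.h2 x : ℤ) - o2 h.h2 y = 1 → False := by
    intro x y hxy h0 h1 h3
    obtain ⟨c, hc, hcs⟩ := exists_gen h
    have hθc : ((θ c : ℂˣ) : ℂ) = -1 := by
      have h5 : θ c * θ c = 1 := by
        have := congrArg (fun f : C →* ℂˣ => f c) hθ
        change θ c ^ 2 = 1 at this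
        rwa [sq] at this
      have h' : ((θ c : ℂˣ) : ℂ) * ((θ c : ℂˣ) : ℂ) = 1 := by
        have := congrArg Units.val h5
        simpa using this
      rcases mul_self_eq_one_iff.mp h' with h6 | h6
      · exfalso
        apply hθ1
        exact hom_ext_gen hc (Units.ext (by simpa using h6))
      · exact h6
    have hval : Xf α θ (c : S2 F) = 2 := by
      rw [Xf_C h α θ c hcs, inv_val, hθc]; norm_num
    have hxy' : x = StS ∧ y = tS := by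
      rcases otypes h.h2 x with ⟨k, kk⟩ | ⟨k, kk⟩ | k | k | k | k | k | k <;> rcases otypes h.h2 y with ⟨l, ll⟩ | ⟨l, ll⟩ | l | l | l | l | l | l <;>
        first
        | exact ⟨k, l⟩
        | (exfalso; omega)
    rw [hxy, hxy'.1, hxy'.2, Pi.sub_apply, StS_apply, tS_apply, Rf_aniso 1 1 (h.TT c.2 hcs).2] at hval
    norm_num at hval
  have hpos := fun χ : IrrCharacter (S2 F) => CfsgLib.CharBasic.IsIrrCharacter.exists_pos χ.2
  rcases hs with rfl | rfl <;> rcases ht with rfl | rfl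
  · simp only [Int.cast_one, one_smul, one_mul] at e s0 s1 s2
    have na := o_ne_zero h.h2 a
    have nb := o_ne_zero h.h2 b
    have : (o1 h.h2 a = 1 ∧ o1 h.h2 b = 0) ∨ (o1 h.h2 a = 0 ∧ o1 h.h2 b = 1) := by omega
    rcases this with h5 | h5
    · exact ⟨a, b, e, by omega, by omega⟩
    · exact ⟨b, a, by rw [e, add_comm], by omega, by omega⟩
  · exfalso
    refine diff a b ?_ (by omega) (by omega) (by omega)
    rw [e]; funext g; simp; ring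
  · exfalso
    refine diff b a ?_ (by omega) (by omega) (by omega)
    rw [e]; funext g; simp; ring
  · exfalso; omega

theorem comp_tau (h2 : (2 : F) ≠ 0) {a b : IrrCharacter (S2 F)} (ha : o0 h2 a = 0 ∧ o1 h2 a = 1 ∧ o2 h2 a = 0) (hb : o0 h2 b = 0 ∧ o1 h2 b = 0 ∧ o2 h2 b = 1) :
    ∀ g, (b : S2 F → ℂ) g = (a : S2 F → ℂ) (tau h2 g) := by
  classical
  let c : IrrCharacter (S2 F) := ⟨(a : S2 F → ℂ) ∘ (tau h2), CfsgLib.CharBasic.IsIrrCharacter.comp_equiv a.2 (tau h2)⟩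
  have hc : o0 h2 c = 0 ∧ o1 h2 c = 0 ∧ o2 h2 c = 1 := by
    have k1 := o_one h2 a
    have ku := o_u h2 a
    have kv := o_v h2 a
    rw [ha.1, ha.2.1, ha.2.2] at k1 ku kv
    apply o_eq h2
    · change (a : S2 F → ℂ) (tau h2 1) = _
      rw [map_one, k1]; push_cast; ring
    · change (a : S2 F → ℂ) (tau h2 uS) = _
      rw [tau_uS, kv]; push_cast; ring
    · change (a : S2 F → ℂ) (tau h2 (vS h2)) = _
      have e : tau h2 (vS h2) = upS (Multiplicative.ofAdd (nu h2 * nu h2)) := by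
        apply sl_ext
        rw [tau_coe, upS_coe]
        have : ((vS h2 : S2 F) : M2 F) = !![1, nu h2; 0, 1] := upS_coe _
        rw [this]
        apply ext4 <;> simp
      rw [e, up_val h2 (CfsgLib.CharBasic.IsCharacter.isClassFunction (CfsgLib.CharBasic.irr_isCharacter a)) (mul_ne_zero (nu_ne h2) (nu_ne h2)), map_mul, eta_sq_apply (nu_ne h2), ku, kv]
      push_cast; ring
  have hcard := (card_cuspO (F := F) h2).2.2
  have hsub : Subsingleton {χ : IrrCharacter (S2 F) // o0 h2 χ = 0 ∧ o1 h2 χ = 0 ∧ o2 h2 χ = 1} := (Nat.card_eq_one_iff_unique.mp hcard).1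
  have := congrArg (fun x : {χ : IrrCharacter (S2 F) // o0 h2 χ = 0 ∧ o1 h2 χ = 0 ∧ o2 h2 χ = 1} => x.1) (Subsingleton.elim (⟨b, hb⟩ : {χ : IrrCharacter (S2 F) // o0 h2 χ = 0 ∧ o1 h2 χ = 0 ∧ o2 h2 χ = 1}) ⟨c, hc⟩)
  intro g
  have h3 : b = c := this
  rw [h3]; rfl

/-- values of the half cuspidal characters -/
theorem half_val (h : CD C) {θ : C →* ℂˣ} (hθ : θ ^ 2 = 1) (hθ1 : θ ≠ 1) {χ : IrrCharacter (S2 F)}
    (hχ : (o0 h.h2 χ = 0 ∧ o1 h.h2 χ = 1 ∧ o2 h.h2 χ = 0) ∨ (o0 h.h2 χ = 0 ∧ o1 h.h2 χ = 0 ∧ o2 h.h2 χ = 1)) (c : C) (hs : ¬ IsScal ((c : S2 F) : M2 F)) :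
    (χ : S2 F → ℂ) (c : S2 F) = -(θ c : ℂ) := by
  obtain ⟨α, hα⟩ := exists_alpha h θ
  obtain ⟨a, b, e, ha, hb⟩ := halves_sum h hα hθ hθ1
  have hab := comp_tau h.h2 ha hb
  have hcar := card_cuspO (F := F) h.h2
  have hsub1 : Subsingleton {χ : IrrCharacter (S2 F) // o0 h.h2 χ = 0 ∧ o1 h.h2 χ = 1 ∧ o2 h.h2 χ = 0} := (Nat.card_eq_one_iff_unique.mp hcar.2.1).1
  have hsub2 : Subsingleton {χ : IrrCharacter (S2 F) // o0 h.h2 χ = 0 ∧ o1 h.h2 χ = 0 ∧ o2 h.h2 χ = 1} := (Nat.card_eq_one_iff_unique.mp hcar.2.2).1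
  have hba : (b : S2 F → ℂ) (c : S2 F) = (a : S2 F → ℂ) (c : S2 F) := by
    rw [hab]
    exact CfsgLib.CharBasic.IsClassFunction.eq_of_isConj (CfsgLib.CharBasic.IsCharacter.isClassFunction (CfsgLib.CharBasic.irr_isCharacter a)) (tau_isConj h.h2 _ (aniso_tr h.h2 (h.TT c.2 hs).2))
  have hX := Xf_C h α θ c hs
  rw [e, Pi.add_apply, hba] at hX
  have hinv : ((((θ c)⁻¹ : ℂˣ)) : ℂ) = (θ c : ℂ) := by
    have h5 : θ c * θ c = 1 := by
      have := congrArg (fun f : C →* ℂˣ => f c) hθ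
      change θ c ^ 2 = 1 at this
      rwa [sq] at this
    have h' : ((θ c : ℂˣ) : ℂ) * ((θ c : ℂˣ) : ℂ) = 1 := by
      have := congrArg Units.val h5
      simpa using this
    rw [inv_val]
    exact inv_eq_of_mul_eq_one_right h'
  rw [hinv] at hX
  have ha' : (a : S2 F → ℂ) (c : S2 F) = -(θ c : ℂ) := by linear_combination hX / 2
  rcases hχ with h1 | h1
  · have := congrArg (fun x : {χ : IrrCharacter (S2 F) // o0 h.h2 χ = 0 ∧ o1 h.h2 χ = 1 ∧ o2 h.h2 χ = 0} => x.1) (Subsingleton.elim (⟨χ, h1⟩ : {χ : IrrCharacter (S2 F) // o0 h.h2 χ = 0 ∧ o1 h.h2 χ = 1 ∧ o2 h.h2 χ = 0}) ⟨a, ha⟩)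
    have h3 : χ = a := this
    rw [h3, ha']
  · have := congrArg (fun x : {χ : IrrCharacter (S2 F) // o0 h.h2 χ = 0 ∧ o1 h.h2 χ = 0 ∧ o2 h.h2 χ = 1} => x.1) (Subsingleton.elim (⟨χ, h1⟩ : {χ : IrrCharacter (S2 F) // o0 h.h2 χ = 0 ∧ o1 h.h2 χ = 0 ∧ o2 h.h2 χ = 1}) ⟨b, hb⟩)
    have h3 : χ = b := this
    rw [h3, hba, ha']

/-- the sign character -/
theorem exists_sign (h : CD C) : ∃ θ : C →* ℂˣ, θ ^ 2 = 1 ∧ θ ≠ 1 ∧ ∀ c : C, (c ^ ((Fintype.card F + 1) / 2) = 1 → θ c = 1) ∧ (c ^ ((Fintype.card F + 1) / 2) ≠ 1 → θ c = -1) := by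
  classical
  obtain ⟨hc1, hc2⟩ := card_hom h
  have : ∃ θ : {θ : C →* ℂˣ // θ ^ 2 = 1}, θ ≠ ⟨1, by apply MonoidHom.ext; intro c; change (1 : ℂˣ) ^ 2 = 1; simp⟩ := by
    by_contra hcon
    push Not at hcon
    haveI : Subsingleton {θ : C →* ℂˣ // θ ^ 2 = 1} := ⟨fun a b => (hcon a).trans (hcon b).symm⟩
    have : Nat.card {θ : C →* ℂˣ // θ ^ 2 = 1} ≤ 1 := Finite.card_le_one_iff_subsingleton.mpr inferInstance
    omega
  obtain ⟨⟨θ, hθ⟩, hne⟩ := this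
  have hθ1 : θ ≠ 1 := fun e => hne (Subtype.ext e)
  refine ⟨θ, hθ, hθ1, ?_⟩
  obtain ⟨c0, hc0, -⟩ := exists_gen h
  have hpm : ∀ c, θ c = 1 ∨ θ c = -1 := by
    intro c
    have h5 : θ c * θ c = 1 := by
      have := congrArg (fun f : C →* ℂˣ => f c) hθ
      change θ c ^ 2 = 1 at this
      rwa [sq] at this
    have h' : ((θ c : ℂˣ) : ℂ) * ((θ c : ℂˣ) : ℂ) = 1 := by
      have := congrArg Units.val h5
      simpa using this
    rcases mul_self_eq_one_iff.mp h' with h1 | h1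
    · left; exact Units.ext (by simpa using h1)
    · right; exact Units.ext (by simpa using h1)
  have hθ0 : θ c0 = -1 := by
    rcases hpm c0 with h1 | h1
    · exact absurd (hom_ext_gen hc0 h1) hθ1
    · exact h1
  have ho : orderOf c0 = Fintype.card F + 1 := by rw [orderOf_eq_card_of_forall_mem_zpowers hc0, h.card]
  obtain ⟨m, hm⟩ := (gcd_of_odd h.h2).2
  have hhalf : (Fintype.card F + 1) / 2 = m + 1 := by rw [hm]; omega
  rw [hhalf]
  intro c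
  obtain ⟨k, rfl⟩ := hc0 c
  have hiff : (c0 ^ k) ^ (m + 1) = 1 ↔ Even k := by
    rw [← zpow_natCast, ← _root_.zpow_mul, ← orderOf_dvd_iff_zpow_eq_one, ho, hm]
    constructor
    · rintro ⟨j, hj⟩
      refine ⟨j, ?_⟩
      have h1 : k * ((m : ℤ) + 1) = (j + j) * ((m : ℤ) + 1) := by
        push_cast at hj; linear_combination hj
      exact mul_right_cancel₀ (by positivity) h1
    · rintro ⟨j, hj⟩
      refine ⟨j, ?_⟩
      rw [hj]; push_cast; ring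
  constructor
  · intro h1
    have hk := hiff.mp h1
    change θ (c0 ^ k) = 1
    rw [map_zpow, hθ0]
    exact hk.neg_one_zpow
  · intro h1
    have hk : Odd k := by
      rw [← Int.not_even_iff_odd]
      exact fun hk => h1 (hiff.mpr hk)
    change θ (c0 ^ k) = -1
    rw [map_zpow, hθ0]
    exact hk.neg_one_zpow

end CfsgLib.GL2a
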