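import Cfsg.Agent.Lib.GLh4
import Cfsg.Agent.Lib.Cover2
import Cfsg.Prelude.Def_DegreeGraph
set_option autoImplicit false
set_option linter.style.haveILetI false
set_option linter.unusedSectionVars false

/-! Degrees of `SL₂` and `PSL₂`. -/

namespace CfsgLib.GL2a
open Matrix Cfsg
open scoped ComplexConjugate

universe u v

theorem cdeg_eq {G : Type u} [Group G] {χ : G → ℂ} {n : ℕ} (h : χ 1 = n) : charDegree χ = n := by
  rw [charDegree, h]
  simp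

theorem cdeg_eq_iff {G : Type u} [Group G] (χ : IrrCharacter G) (n : ℕ) : charDegree (χ : G → ℂ) = n ↔ (χ : G → ℂ) 1 = n := by
  refine ⟨fun h => ?_, cdeg_eq⟩
  obtain ⟨m, hm⟩ := CfsgLib.CharBasic.IsCharacter.exists_nat (CfsgLib.CharBasic.IsIrrCharacter.isCharacter χ.2)
  rw [cdeg_eq hm] at h
  rw [hm, h]

theorem charDegrees_sub {Γ : Type u} [Group Γ] [Finite Γ] {S : Type v} [Group S] {π : Γ →* S} (hπ : Function.Surjective π) :
    charDegrees S ⊆ charDegrees Γ := by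
  rintro d ⟨χ, rfl⟩
  refine ⟨⟨(χ : S → ℂ) ∘ π, CfsgLib.CharBasic.IsIrrCharacter.comp χ.2 π hπ⟩, ?_⟩
  simp [charDegree]

variable {F : Type u} [Field F] [Fintype F]

theorem mem_charDegrees {S : Type v} [Group S] {π : S2 F →* S} (hπ : Function.Surjective π) (hk : ∀ z ∈ π.ker, z = 1 ∨ z = -1)
    (χ : IrrCharacter (S2 F)) (h : (χ : S2 F → ℂ) (-1) = (χ : S2 F → ℂ) 1) {d : ℕ} (hd : (χ : S2 F → ℂ) 1 = d) : d ∈ charDegrees S := by
  obtain ⟨ψ, hψ, he⟩ := CfsgLib.Cover2.descend hπ χ.2 (by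
    intro z hz
    rcases hk z hz with h1 | h1
    · rw [h1]
    · rw [h1, h])
  refine ⟨⟨ψ, hψ⟩, cdeg_eq ?_⟩
  have := congrFun he 1
  rw [Function.comp_apply, map_one] at this
  change ψ 1 = _
  rw [← this, hd]

theorem exists_pi {S : Type v} [Group S] (hS : Nonempty (S ≃* PS F) ∨ Nonempty (S ≃* S2 F)) :
    ∃ π : S2 F →* S, Function.Surjective π ∧ ∀ z ∈ π.ker, z = 1 ∨ z = -1 := by
  rcases hS with ⟨⟨e⟩⟩ | ⟨⟨e⟩⟩
  · refine ⟨e.symm.toMonoidHom.comp pr, e.symm.surjective.comp pr_surj, ?_⟩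
    intro z hz
    rw [MonoidHom.mem_ker] at hz
    have : pr z = 1 := by
      apply e.symm.injective
      rw [map_one]; exact hz
    exact (pr_eq_one' z).mp this
  · refine ⟨e.symm.toMonoidHom, e.symm.surjective, ?_⟩
    intro z hz
    left
    apply e.symm.injective
    rw [map_one]; exact hz

variable [DecidableEq F]

theorem StS_neg : ((StS : IrrCharacter (S2 F)) : S2 F → ℂ) (-1) = ((StS : IrrCharacter (S2 F)) : S2 F → ℂ) 1 := by
  rw [StS_one, StS_apply]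
  have h1 : ((-1 : S2 F) : M2 F) = (-1 : F) • (1 : M2 F) := by simp
  rw [h1, Rf_scalar, one_mc (neg_ne_zero.mpr one_ne_zero)]
  ring

theorem Rc_neg {α : {α : MulChar F ℂ // α ^ 2 ≠ 1}} (h : α.1 (-1) = 1) : (Rc α : S2 F → ℂ) (-1) = (Rc α : S2 F → ℂ) 1 := by
  rw [Rc_one, Rc_apply]
  have h1 : ((-1 : S2 F) : M2 F) = (-1 : F) • (1 : M2 F) := by simp
  rw [h1, Rf_scalar, one_mc (neg_ne_zero.mpr one_ne_zero), h]
  ring

theorem two_le_q : 2 ≤ Fintype.card F := Fintype.one_lt_card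

theorem exists_rootC (n : ℕ) (hn : n ≠ 0) : ∃ ζ : ℂ, IsPrimitiveRoot ζ n := ⟨_, Complex.isPrimitiveRoot_exp n hn⟩

theorem exists_alpha_even (h2 : (2 : F) ≠ 0) (h5 : 5 < Fintype.card F) : ∃ α : {α : MulChar F ℂ // α ^ 2 ≠ 1}, α.1 (-1) = 1 := by
  obtain ⟨ζ, hζ⟩ := exists_rootC (Fintype.card F - 1) (by omega)
  obtain ⟨ρ, hρ⟩ := MulChar.exists_mulChar_orderOf F (dvd_refl (Fintype.card F - 1)) hζ
  refine ⟨⟨ρ ^ 2, ?_⟩, ?_⟩
  · rw [← pow_mul]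
    intro h
    have := orderOf_dvd_of_pow_eq_one h
    rw [hρ] at this
    have := Nat.le_of_dvd (by norm_num) this
    have h6 : Odd (Fintype.card F) := (gcd_of_odd h2).2
    rw [Nat.odd_iff] at h6
    omega
  · change (ρ ^ 2) (-1) = 1
    rw [MulChar.pow_apply' ρ (by norm_num), ← map_pow]
    norm_num

theorem exists_qp_odd (h2 : (2 : F) ≠ 0) (h5 : 5 < Fintype.card F) : ∃ χ : IrrCharacter (S2 F), (χ : S2 F → ℂ) (-1) = (χ : S2 F → ℂ) 1 ∧
    (χ : S2 F → ℂ) 1 = ((Fintype.card F + 1 : ℕ) : ℂ) := by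
  obtain ⟨α, hα⟩ := exists_alpha_even h2 h5
  exact ⟨Rc α, Rc_neg hα, by rw [Rc_one]; push_cast; rfl⟩

theorem exists_CD (h2 : (2 : F) ≠ 0) : ∃ C : Subgroup (S2 F), CD C := by
  obtain ⟨g, ha⟩ := exists_aniso (F := F) h2
  exact ⟨TT g, h2, tor_cyclic g (aniso_not_isScal ha) (aniso_tr h2 ha), card_TT_aniso ha⟩

theorem exists_theta_even {C : Subgroup (S2 F)} (h : CD C) (h5 : 3 < Fintype.card F) : ∃ θ : C →* ℂˣ, θ ^ 2 ≠ 1 ∧ θ ⟨-1, h.neg_mem⟩ = 1 := by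
  classical
  haveI := finite_hom h
  haveI := Fintype.ofFinite (C →* ℂˣ)
  obtain ⟨c, hc, -⟩ := exists_gen h
  have h1 : ∃ ρ : C →* ℂˣ, ρ ^ 4 ≠ 1 := by
    by_contra hcon
    push Not at hcon
    have hinj : Function.Injective (fun θ : C →* ℂˣ => θ c) := fun a b hab => hom_ext_gen hc hab
    have h4 : ∀ θ : C →* ℂˣ, θ c ∈ rootsOfUnity 4 ℂ := by
      intro θ
      rw [mem_rootsOfUnity]
      have := congrArg (fun f : C →* ℂˣ => f c) (hcon θ)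
      simpa using this
    have h6 : Nat.card (C →* ℂˣ) ≤ Nat.card (rootsOfUnity 4 ℂ) :=
      Nat.card_le_card_of_injective (fun θ : C →* ℂˣ => (⟨θ c, h4 θ⟩ : rootsOfUnity 4 ℂ)) (fun a b hab => hinj (congrArg Subtype.val hab))
    rw [(card_hom h).1] at h6
    have h7 : Nat.card (rootsOfUnity 4 ℂ) ≤ 4 := by
      haveI : NeZero 4 := ⟨by norm_num⟩
      exact card_rootsOfUnity ℂ 4
    have h8 : Odd (Fintype.card F) := (gcd_of_odd h.h2).2
    rw [Nat.odd_iff] at h8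
    omega
  obtain ⟨ρ, hρ⟩ := h1
  refine ⟨ρ ^ 2, by rw [← pow_mul]; exact hρ, ?_⟩
  rw [MonoidHom.pow_apply, ← map_pow]
  have : (⟨-1, h.neg_mem⟩ : C) ^ 2 = 1 := by
    apply Subtype.ext
    change (-1 : S2 F) ^ 2 = 1
    rw [_root_.sq]; simp
  rw [this, map_one]

theorem exists_qm_odd (h2 : (2 : F) ≠ 0) (h5 : 3 < Fintype.card F) : ∃ χ : IrrCharacter (S2 F), (χ : S2 F → ℂ) (-1) = (χ : S2 F → ℂ) 1 ∧
    (χ : S2 F → ℂ) 1 = ((Fintype.card F - 1 : ℕ) : ℂ) := by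
  obtain ⟨C, h⟩ := exists_CD (F := F) h2
  obtain ⟨θ, hθ, hθ1⟩ := exists_theta_even h h5
  obtain ⟨α, hα⟩ := exists_alpha h θ
  have h1 : ((-1 : S2 F) : M2 F) = (-1 : F) • (1 : M2 F) := by simp
  have h3 : α (-1) = 1 := by
    rw [← hα ⟨-1, h.neg_mem⟩ (-1) h1]
    change ((θ ⟨-1, h.neg_mem⟩ : ℂˣ) : ℂ) = 1
    rw [hθ1]; rfl
  refine ⟨⟨Xf α θ, Xirr h hα hθ⟩, ?_, ?_⟩
  · change Xf α θ (-1) = Xf α θ 1
    rw [Xf_scal h hα h1 (by ring), Xf_one h hα, h3, mul_one]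
  · change Xf α θ 1 = _
    rw [Xf_one h hα, Nat.cast_sub (by have := two_le_q (F := F); omega)]; push_cast; rfl

theorem degs_odd (h2 : (2 : F) ≠ 0) (χ : IrrCharacter (S2 F)) {d : ℕ} (hd : (χ : S2 F → ℂ) 1 = d) :
    (d = 1 ∨ (d = Fintype.card F ∧ χ = StS) ∨ d = Fintype.card F + 1 ∨ d = Fintype.card F - 1) ∨ (2 * d = Fintype.card F + 1 ∨ 2 * d = Fintype.card F - 1) := by
  have hq := two_le_q (F := F)
  have h1 := o_one h2 χ
  rw [hd] at h1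
  have h3 : 2 * d = 2 * o0 h2 χ + (Fintype.card F - 1) * (o1 h2 χ + o2 h2 χ) := by
    have h4 : (2 * d : ℂ) = 2 * o0 h2 χ + ((Fintype.card F : ℂ) - 1) * (o1 h2 χ + o2 h2 χ) := by rw [h1]; ring
    have h5 : ((Fintype.card F - 1 : ℕ) : ℂ) = (Fintype.card F : ℂ) - 1 := by rw [Nat.cast_sub (by omega)]; simp
    rw [← h5] at h4
    exact_mod_cast h4
  rcases otypes h2 χ with ⟨-, a, b, c⟩ | ⟨e, a, b, c⟩ | ⟨a, b, c⟩ | ⟨a, b, c⟩ | ⟨a, b, c⟩ | ⟨a, b, c⟩ | ⟨a, b, c⟩ | ⟨a, b, c⟩ <;>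
    rw [a, b, c] at h3
  · omega
  · left; right; left; exact ⟨by omega, e⟩
  all_goals omega

theorem degs_even (h2 : (2 : F) = 0) (χ : IrrCharacter (S2 F)) {d : ℕ} (hd : (χ : S2 F → ℂ) 1 = d) :
    d = 1 ∨ (d = Fintype.card F ∧ χ = StS) ∨ d = Fintype.card F + 1 ∨ d = Fintype.card F - 1 := by
  have hq := two_le_q (F := F)
  rcases classify_even h2 χ with h | h | h | h
  · left
    rw [h, tS_apply] at hd
    exact_mod_cast hd.symm
  · right; left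
    refine ⟨?_, h⟩
    rw [h, StS_one] at hd
    exact_mod_cast hd.symm
  · right; right; left
    rw [AR_deg h] at hd
    exact_mod_cast hd.symm
  · right; right; right
    rw [cuspE_one h2 h] at hd
    have h5 : ((Fintype.card F - 1 : ℕ) : ℂ) = (Fintype.card F : ℂ) - 1 := by rw [Nat.cast_sub (by omega)]; simp
    rw [← h5] at hd
    exact_mod_cast hd.symm

theorem exists_qp_even (h2 : (2 : F) = 0) (h4 : 4 ≤ Fintype.card F) : ∃ χ : IrrCharacter (S2 F), (χ : S2 F → ℂ) 1 = ((Fintype.card F + 1 : ℕ) : ℂ) := by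
  have := card_AR_even (F := F) h2
  have h1 : 0 < (AR (F := F)).card := by omega
  obtain ⟨χ, hχ⟩ := Finset.card_pos.mp h1
  exact ⟨χ, by rw [AR_deg hχ]; push_cast; rfl⟩

theorem exists_qm_even (h2 : (2 : F) = 0) : ∃ χ : IrrCharacter (S2 F), (χ : S2 F → ℂ) 1 = ((Fintype.card F - 1 : ℕ) : ℂ) := by
  have h0 := card_cuspE (F := F) h2
  have hq := two_le_q (F := F)
  have h1 : 0 < Nat.card {χ : IrrCharacter (S2 F) // e0 h2 χ = 0 ∧ e1 h2 χ = 1} := by omega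
  have := (Nat.card_pos_iff.mp h1).1
  obtain ⟨⟨χ, hχ⟩⟩ := this
  exact ⟨χ, by rw [cuspE_one h2 hχ, Nat.cast_sub (by omega)]; simp⟩

/-- the degree data of a quotient of `SL₂` -/
theorem data_odd (h2 : (2 : F) ≠ 0) (h5 : 5 < Fintype.card F) {S : Type v} [Group S] (hS : Nonempty (S ≃* PS F) ∨ Nonempty (S ≃* S2 F)) :
    (∀ d ∈ charDegrees S, (d = 1 ∨ d = Fintype.card F ∨ d = Fintype.card F + 1 ∨ d = Fintype.card F - 1) ∨ (2 * d = Fintype.card F + 1 ∨ 2 * d = Fintype.card F - 1)) ∧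
    Fintype.card F ∈ charDegrees S ∧ Fintype.card F + 1 ∈ charDegrees S ∧ Fintype.card F - 1 ∈ charDegrees S := by
  obtain ⟨π, hπ, hk⟩ := exists_pi hS
  refine ⟨?_, ?_, ?_, ?_⟩
  · intro d hd
    obtain ⟨χ, hχ⟩ := charDegrees_sub hπ hd
    rcases degs_odd h2 χ ((cdeg_eq_iff χ d).mp hχ) with (h | h | h | h) | h
    · exact Or.inl (Or.inl h)
    · exact Or.inl (Or.inr (Or.inl h.1))
    · exact Or.inl (Or.inr (Or.inr (Or.inl h)))
    · exact Or.inl (Or.inr (Or.inr (Or.inr h)))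
    · exact Or.inr h
  · exact mem_charDegrees hπ hk StS StS_neg StS_one
  · obtain ⟨χ, h1, h3⟩ := exists_qp_odd h2 h5
    exact mem_charDegrees hπ hk χ h1 h3
  · obtain ⟨χ, h1, h3⟩ := exists_qm_odd h2 (by omega)
    exact mem_charDegrees hπ hk χ h1 h3

theorem data_even (h2 : (2 : F) = 0) (h4 : 4 ≤ Fintype.card F) {S : Type v} [Group S] (hS : Nonempty (S ≃* PS F) ∨ Nonempty (S ≃* S2 F)) :
    (∀ d ∈ charDegrees S, (d = 1 ∨ d = Fintype.card F ∨ d = Fintype.card F + 1 ∨ d = Fintype.card F - 1)) ∧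
    Fintype.card F ∈ charDegrees S ∧ Fintype.card F + 1 ∈ charDegrees S ∧ Fintype.card F - 1 ∈ charDegrees S := by
  obtain ⟨π, hπ, hk⟩ := exists_pi hS
  have hm : ∀ χ : IrrCharacter (S2 F), (χ : S2 F → ℂ) (-1) = (χ : S2 F → ℂ) 1 := by
    intro χ; rw [neg_one_eq h2]
  refine ⟨?_, ?_, ?_, ?_⟩
  · intro d hd
    obtain ⟨χ, hχ⟩ := charDegrees_sub hπ hd
    rcases degs_even h2 χ ((cdeg_eq_iff χ d).mp hχ) with h | h | h | h
    · exact Or.inl h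
    · exact Or.inr (Or.inl h.1)
    · exact Or.inr (Or.inr (Or.inl h))
    · exact Or.inr (Or.inr (Or.inr h))
  · exact mem_charDegrees hπ hk StS (hm _) StS_one
  · obtain ⟨χ, h3⟩ := exists_qp_even h2 h4
    exact mem_charDegrees hπ hk χ (hm _) h3
  · obtain ⟨χ, h3⟩ := exists_qm_even h2
    exact mem_charDegrees hπ hk χ (hm _) h3

end CfsgLib.GL2a
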