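import Mathlib
import Cfsg.Prelude.Def_Sporadic_a

/-!
The length-24 code of `Def_Sporadic_a` through 24-bit masks, with kernel-friendly computations.
-/

set_option autoImplicit false

namespace CfsgLib.Golay

open Cfsg

/-! ### Points and masks -/

/-- index of a point: `some x ↦ x.val`, `none ↦ 23` -/
def idx : GolayPt → ℕ
  | none => 23
  | some x => ZMod.val x

/-- point of a given index -/
def pt (i : ℕ) : GolayPt := if i < 23 then some (i : ZMod 23) else none

theorem idx_lt : ∀ p : GolayPt, idx p < 24 := by decide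

theorem pt_idx : ∀ p : GolayPt, pt (idx p) = p := by decide

theorem idx_pt {i : ℕ} (h : i < 24) : idx (pt i) = i := by
  have key : ∀ i : Fin 24, idx (pt i) = i := by decide
  exact key ⟨i, h⟩

theorem idx_injective {p q : GolayPt} (h : idx p = idx q) : p = q := by
  rw [← pt_idx p, h, pt_idx]

/-- equivalence of `Fin 24` with the points -/
def ePt : Fin 24 ≃ GolayPt where
  toFun i := pt i
  invFun p := ⟨idx p, idx_lt p⟩
  left_inv i := Fin.ext (idx_pt i.2)
  right_inv p := pt_idx p

/-- the set of points of a mask -/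
def toFS (m : ℕ) : Finset GolayPt := Finset.univ.filter fun p => m.testBit (idx p) = true

theorem mem_toFS {m : ℕ} {p : GolayPt} : p ∈ toFS m ↔ m.testBit (idx p) = true := by
  simp [toFS]

/-- the mask of a set of points -/
def mask (s : Finset GolayPt) : ℕ := Nat.ofBits (n := 24) fun i => decide (pt i ∈ s)

theorem mask_lt (s : Finset GolayPt) : mask s < 2 ^ 24 := Nat.ofBits_lt_two_pow _

theorem testBit_mask (s : Finset GolayPt) (p : GolayPt) : (mask s).testBit (idx p) = decide (p ∈ s) := by
  rw [mask, Nat.testBit_ofBits_lt _ _ (idx_lt p)]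
  simp only [pt_idx]

theorem toFS_mask (s : Finset GolayPt) : toFS (mask s) = s := by
  ext p; rw [mem_toFS, testBit_mask]; simp

theorem ext_mask {m n : ℕ} (hm : m < 2 ^ 24) (hn : n < 2 ^ 24)
    (h : ∀ p : GolayPt, m.testBit (idx p) = n.testBit (idx p)) : m = n := by
  apply Nat.eq_of_testBit_eq
  intro i
  by_cases hi : i < 24
  · rw [← idx_pt hi]; exact h _
  · push Not at hi
    rw [Nat.testBit_lt_two_pow (lt_of_lt_of_le hm (Nat.pow_le_pow_right (by norm_num) hi)),
      Nat.testBit_lt_two_pow (lt_of_lt_of_le hn (Nat.pow_le_pow_right (by norm_num) hi))]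

theorem mask_toFS {m : ℕ} (h : m < 2 ^ 24) : mask (toFS m) = m := by
  apply ext_mask (mask_lt _) h
  intro p
  rw [testBit_mask]
  by_cases hp : m.testBit (idx p) = true
  · rw [hp]; exact decide_eq_true (mem_toFS.mpr hp)
  · rw [Bool.not_eq_true] at hp
    rw [hp]; apply decide_eq_false; rw [mem_toFS, hp]; simp

theorem toFS_inj {m n : ℕ} (hm : m < 2 ^ 24) (hn : n < 2 ^ 24) (h : toFS m = toFS n) : m = n := by
  rw [← mask_toFS hm, h, mask_toFS hn]

theorem toFS_lor (m n : ℕ) : toFS (m ||| n) = toFS m ∪ toFS n := by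
  ext p; simp [mem_toFS, Nat.testBit_or]

theorem toFS_land (m n : ℕ) : toFS (m &&& n) = toFS m ∩ toFS n := by
  ext p; simp [mem_toFS, Nat.testBit_and]

theorem toFS_xor (m n : ℕ) : toFS (m ^^^ n) = symmDiff (toFS m) (toFS n) := by
  ext p
  rw [mem_toFS, Nat.testBit_xor, Finset.mem_symmDiff, mem_toFS, mem_toFS]
  cases m.testBit (idx p) <;> cases n.testBit (idx p) <;> simp

theorem toFS_zero : toFS 0 = ∅ := by ext p; simp [mem_toFS]

theorem mask_xor (s t : Finset GolayPt) : mask (symmDiff s t) = mask s ^^^ mask t := by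
  apply toFS_inj (mask_lt _) (Nat.xor_lt_two_pow (mask_lt _) (mask_lt _))
  rw [toFS_xor, toFS_mask, toFS_mask, toFS_mask]

theorem mask_inter (s t : Finset GolayPt) : mask (s ∩ t) = mask s &&& mask t := by
  apply toFS_inj (mask_lt _) (lt_of_le_of_lt Nat.and_le_left (mask_lt s))
  rw [toFS_land, toFS_mask, toFS_mask, toFS_mask]

theorem mask_union (s t : Finset GolayPt) : mask (s ∪ t) = mask s ||| mask t := by
  apply toFS_inj (mask_lt _) (Nat.or_lt_two_pow (mask_lt _) (mask_lt _))
  rw [toFS_lor, toFS_mask, toFS_mask, toFS_mask]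

theorem mask_empty : mask ∅ = 0 := by
  apply toFS_inj (mask_lt _) (by norm_num)
  rw [toFS_mask, toFS_zero]

/-! ### Exhaustive checks over `k`-bit numbers -/

/-- binary tree of all sub-sums -/
def allTree (p : ℕ → Bool) : List ℕ → ℕ → Bool
  | [], acc => p acc
  | r :: rs, acc => and (allTree p rs acc) (allTree p rs (Nat.add acc r))

/-- `[2^(k-1), …, 2, 1]` -/
def pows : ℕ → List ℕ
  | 0 => []
  | k + 1 => (2 ^ k) :: pows k

theorem allTree_spec (p : ℕ → Bool) (k : ℕ) : ∀ acc, allTree p (pows k) acc = true →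
    ∀ x < 2 ^ k, p (acc + x) = true := by
  induction k with
  | zero =>
    intro acc h x hx
    have : x = 0 := by simpa using hx
    subst this; exact h
  | succ k ih =>
    intro acc h x hx
    simp only [pows, allTree, Bool.and_eq_true] at h
    by_cases hxk : x < 2 ^ k
    · exact ih acc h.1 x hxk
    · push Not at hxk
      have := ih (acc + 2 ^ k) h.2 (x - 2 ^ k) (by rw [pow_succ] at hx; omega)
      rwa [show acc + 2 ^ k + (x - 2 ^ k) = acc + x by omega] at this

theorem forall_lt_pow (p : ℕ → Bool) (k : ℕ) (h : allTree p (pows k) 0 = true) : ∀ x < 2 ^ k, p x = true := by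
  intro x hx
  have := allTree_spec p k 0 h x hx
  rwa [zero_add] at this

/-! ### Population count -/

/-- population count of a 12-bit number -/
def pop12 (x : ℕ) : ℕ :=
  (fun a => (fun b => Nat.mod (Nat.land (Nat.add b (Nat.shiftRight b 4)) 0xf0f) 255)
    (Nat.add (Nat.land a 0x333) (Nat.land (Nat.shiftRight a 2) 0x333)))
    (Nat.sub x (Nat.land (Nat.shiftRight x 1) 0x555))

/-- population count of a 24-bit number -/
def pop (m : ℕ) : ℕ := Nat.add (pop12 (Nat.land m 4095)) (pop12 (Nat.shiftRight m 12))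

/-- slow population count -/
def slowPop : ℕ → ℕ → ℕ
  | 0, _ => 0
  | k + 1, m => (m.testBit k).toNat + slowPop k m

theorem pop12_check : allTree (fun x => Nat.beq (pop12 x) (slowPop 12 x)) (pows 12) 0 = true := by
  decide +kernel

theorem pop12_eq {x : ℕ} (hx : x < 4096) : pop12 x = slowPop 12 x := by
  have := forall_lt_pow _ 12 pop12_check x hx
  exact Nat.eq_of_beq_eq_true this

theorem slowPop_eq_sum (k m : ℕ) : slowPop k m = ∑ i ∈ Finset.range k, (m.testBit i).toNat := by
  induction k with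
  | zero => rfl
  | succ k ih => rw [Finset.sum_range_succ, slowPop, ih, add_comm]

theorem pop_eq_sum {m : ℕ} (hm : m < 2 ^ 24) : pop m = ∑ i ∈ Finset.range 24, (m.testBit i).toNat := by
  have h1 : (m &&& 4095) < 4096 := lt_of_le_of_lt Nat.and_le_right (by norm_num)
  have h2 : (m >>> 12) < 4096 := by
    rw [Nat.shiftRight_eq_div_pow]; omega
  have h3 : pop m = pop12 (m &&& 4095) + pop12 (m >>> 12) := rfl
  rw [h3, pop12_eq h1, pop12_eq h2, slowPop_eq_sum, slowPop_eq_sum, show 24 = 12 + 12 by norm_num,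
    Finset.sum_range_add]
  have e2 : ∑ i ∈ Finset.range 12, ((m >>> 12).testBit i).toNat = ∑ i ∈ Finset.range 12, (m.testBit (12 + i)).toNat := by
    apply Finset.sum_congr rfl
    intro i _
    rw [Nat.testBit_shiftRight]
  rw [e2]
  congr 1
  · apply Finset.sum_congr rfl
    intro i hi
    rw [Finset.mem_range] at hi
    have : (4095 : ℕ).testBit i = true := by
      have key : ∀ i : Fin 12, (4095 : ℕ).testBit i = true := by decide
      exact key ⟨i, hi⟩
    rw [Nat.testBit_and, this, Bool.and_true]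

theorem card_toFS {m : ℕ} (hm : m < 2 ^ 24) : (toFS m).card = pop m := by
  rw [pop_eq_sum hm, toFS, Finset.card_filter, ← Equiv.sum_comp ePt, ← Fin.sum_univ_eq_sum_range (fun i => (m.testBit i).toNat)]
  apply Finset.sum_congr rfl
  intro i _
  have : idx (ePt i) = i := idx_pt i.2
  rw [this]
  cases m.testBit i <;> rfl

theorem card_eq_pop (s : Finset GolayPt) : s.card = pop (mask s) := by
  rw [← card_toFS (mask_lt s), toFS_mask]

/-! ### The code -/

/-- a basis of the code (pivots at the positions 0, …, 11) -/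
def rowsA : List ℕ := [0xc75001, 0x49f002, 0xd4b004, 0x6e3008, 0x9b3010, 0xb66020]
def rowsB : List ℕ := [0xecc040, 0x1ed080, 0x3da100, 0x7b4200, 0xb1d400, 0xe3a800]
def rows : List ℕ := [0xc75001, 0x49f002, 0xd4b004, 0x6e3008, 0x9b3010, 0xb66020, 0xecc040, 0x1ed080, 0x3da100, 0x7b4200, 0xb1d400, 0xe3a800]

theorem rows_eq : rows = rowsA ++ rowsB := rfl

/-- XOR of the members of a list selected by the bits of `j`, added to `acc` -/
def encL : List ℕ → ℕ → ℕ → ℕ
  | [], _, acc => acc
  | r :: rs, j, acc => encL rs (Nat.shiftRight j 1) (Nat.xor acc (Nat.mul r (Nat.land j 1)))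

def tabA : ℕ := 0x19703fde203e50803d97d03ccdc03b0a903a843039436038774037b010363eb035f9e034a3f03364a032ea00312d503082402f45102ecbb02d0ce02c56f02b91a02a1f0029d85028ec70272b2026a5802562d02438c023ff9022713021b66020af101f68401ee6e01d21b01c7ba01bbcf01a325019f50018c1201706701688d0154f8014159013d2c0125c60119b301034200ff3700e7dd00dba800ce0900b27c00aa960096e30085a10079d400613e005d4b0048ea00349f002c75001000000
def tabB : ℕ := 0xe68fc00a4f80f85f40149f00db2ec037ee80c5fe40293e009dcdc0710d80831d406fdd00a06cc04cac80bebc40527c00575bc0bb9b80498b40a54b006afac0863a80742a4098ea002c19c0c0d98032c940de090011b8c0fd78800f6840e3a8000527c0e9e7801bf740f737003886c0d44680265640ca96007e65c092a58060b5408c750043c4c0af04805d1440b1d400b4f3c0583380aa234046e3008952c06592809782407b4200cfb1c0237180d161403da100f210c01ed080ecc040000000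

/-- table look-up -/
def look (T i : ℕ) : ℕ := Nat.land (Nat.shiftRight T (Nat.mul 24 i)) 16777215

/-- the codeword with given low 12 bits -/
def enc (j : ℕ) : ℕ := Nat.xor (look tabA (Nat.land j 63)) (look tabB (Nat.shiftRight j 6))

/-- membership test -/
def isCode (m : ℕ) : Bool := Nat.beq (enc (Nat.land m 4095)) m

theorem tabA_check : allTree (fun a => Nat.beq (look tabA a) (encL rowsA a 0)) (pows 6) 0 = true := by
  decide +kernel

theorem tabB_check : allTree (fun a => Nat.beq (look tabB a) (encL rowsB a 0)) (pows 6) 0 = true := by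
  decide +kernel

theorem enc_eq {j : ℕ} (hj : j < 4096) : enc j = encL rowsA (j &&& 63) 0 ^^^ encL rowsB (j >>> 6) 0 := by
  have h1 : (j &&& 63) < 2 ^ 6 := lt_of_le_of_lt Nat.and_le_right (by norm_num)
  have h2 : (j >>> 6) < 2 ^ 6 := by rw [Nat.shiftRight_eq_div_pow]; omega
  have e1 := Nat.eq_of_beq_eq_true (forall_lt_pow _ 6 tabA_check _ h1)
  have e2 := Nat.eq_of_beq_eq_true (forall_lt_pow _ 6 tabB_check _ h2)
  rw [← e1, ← e2]; rfl

theorem land_one_xor (a b : ℕ) : (a ^^^ b) &&& 1 = (a &&& 1) ^^^ (b &&& 1) := Nat.and_xor_distrib_right ..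

theorem mul_land_one_xor (r a b : ℕ) : r * ((a ^^^ b) &&& 1) = r * (a &&& 1) ^^^ r * (b &&& 1) := by
  rw [land_one_xor]
  rw [Nat.and_one_is_mod, Nat.and_one_is_mod]
  rcases Nat.mod_two_eq_zero_or_one a with ha | ha <;> rcases Nat.mod_two_eq_zero_or_one b with hb | hb <;>
    simp [ha, hb]

theorem encL_xor (rs : List ℕ) : ∀ a b c d, encL rs (a ^^^ b) (c ^^^ d) = encL rs a c ^^^ encL rs b d := by
  induction rs with
  | nil => intro a b c d; rfl
  | cons r rs ih =>
    intro a b c d
    show encL rs ((a ^^^ b) >>> 1) ((c ^^^ d) ^^^ (r * ((a ^^^ b) &&& 1))) =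
      encL rs (a >>> 1) (c ^^^ (r * (a &&& 1))) ^^^ encL rs (b >>> 1) (d ^^^ (r * (b &&& 1)))
    rw [mul_land_one_xor, Nat.shiftRight_xor_distrib, ← ih]
    congr 1
    rw [Nat.xor_assoc, Nat.xor_assoc]
    congr 1
    rw [← Nat.xor_assoc, ← Nat.xor_assoc, Nat.xor_comm d]

theorem enc_xor {a b : ℕ} (ha : a < 4096) (hb : b < 4096) : enc (a ^^^ b) = enc a ^^^ enc b := by
  have hab : a ^^^ b < 4096 := Nat.xor_lt_two_pow (n := 12) ha hb
  rw [enc_eq ha, enc_eq hb, enc_eq hab]
  have h1 := encL_xor rowsA (a &&& 63) (b &&& 63) 0 0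
  have h2 := encL_xor rowsB (a >>> 6) (b >>> 6) 0 0
  rw [Nat.xor_zero] at h1 h2
  rw [Nat.and_xor_distrib_right, Nat.shiftRight_xor_distrib, h1, h2]
  rw [Nat.xor_assoc, Nat.xor_assoc]
  congr 1
  rw [← Nat.xor_assoc, ← Nat.xor_assoc, Nat.xor_comm (encL rowsB (a >>> 6) 0)]

theorem isCode_iff {m : ℕ} : isCode m = true ↔ enc (m &&& 4095) = m :=
  ⟨fun h => Nat.eq_of_beq_eq_true h, fun h => by
    show Nat.beq (enc (m &&& 4095)) m = true
    rw [h]; exact Nat.beq_refl _⟩

theorem isCode_xor {a b : ℕ} (ha : isCode a = true) (hb : isCode b = true) : isCode (a ^^^ b) = true := by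
  rw [isCode_iff] at *
  rw [Nat.and_xor_distrib_right, enc_xor (lt_of_le_of_lt Nat.and_le_right (by norm_num))
    (lt_of_le_of_lt Nat.and_le_right (by norm_num)), ha, hb]

theorem isCode_zero : isCode 0 = true := by decide +kernel



/-! ### Words and supports -/

theorem zmod2_ne (x : ZMod 2) : x ≠ 0 → x = 1 := by revert x; decide

theorem mem_support₂ {w : GolayPt → ZMod 2} {p : GolayPt} : p ∈ support₂ w ↔ w p ≠ 0 := by
  simp [support₂]

theorem support₂_add (v w : GolayPt → ZMod 2) : support₂ (v + w) = symmDiff (support₂ v) (support₂ w) := by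
  ext p
  rw [Finset.mem_symmDiff, mem_support₂, mem_support₂, mem_support₂, Pi.add_apply]
  generalize v p = a
  generalize w p = b
  revert a b
  decide

theorem support₂_zero : support₂ (0 : GolayPt → ZMod 2) = ∅ := by
  ext p; simp [mem_support₂]

theorem support₂_injective : Function.Injective (support₂ : (GolayPt → ZMod 2) → Finset GolayPt) := by
  intro v w h
  funext p
  have h1 : v p ≠ 0 ↔ w p ≠ 0 := by rw [← mem_support₂, h, mem_support₂]
  by_cases hv : v p = 0
  · have : w p = 0 := by by_contra hw; exact h1.mpr hw hv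
    rw [hv, this]
  · rw [zmod2_ne _ hv, zmod2_ne _ (h1.mp hv)]

/-- the word with given support -/
def word (s : Finset GolayPt) : GolayPt → ZMod 2 := fun p => if p ∈ s then 1 else 0

theorem support₂_word (s : Finset GolayPt) : support₂ (word s) = s := by
  ext p; rw [mem_support₂, word]; split_ifs with h <;> simp [h]

theorem word_support₂ (w : GolayPt → ZMod 2) : word (support₂ w) = w :=
  support₂_injective (support₂_word _)

theorem mem_supports {C : Submodule (ZMod 2) (GolayPt → ZMod 2)} {s : Finset GolayPt} :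
    s ∈ supports (C : Set (GolayPt → ZMod 2)) ↔ word s ∈ C := by
  constructor
  · rintro ⟨w, hw, rfl⟩
    rw [word_support₂]; exact hw
  · intro h
    exact ⟨word s, h, support₂_word s⟩

theorem mem_iff_supports {C : Submodule (ZMod 2) (GolayPt → ZMod 2)} {w : GolayPt → ZMod 2} :
    w ∈ C ↔ support₂ w ∈ supports (C : Set (GolayPt → ZMod 2)) := by
  rw [mem_supports, word_support₂]

theorem hammingNorm_eq (w : GolayPt → ZMod 2) : hammingNorm w = (support₂ w).card := rfl

/-- masks of the translates of the squares -/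
def qm : List ℕ := [0x5335f, 0xa66be, 0x14cd7c, 0x299af8, 0x5335f0, 0x266be1, 0x4cd7c2, 0x19af85, 0x335f0a, 0x66be14, 0x4d7c29, 0x1af853, 0x35f0a6, 0x6be14c, 0x57c299, 0x2f8533, 0x5f0a66, 0x3e14cd, 0x7c299a, 0x785335, 0x70a66b, 0x614cd7, 0x4299af]

theorem isSq_check : ∀ y : ZMod 23, (∃ r : ZMod 23, y = r ^ 2) ↔ (0x5335f : ℕ).testBit (ZMod.val y) = true := by
  decide +kernel

theorem qm_check : ∀ t x : ZMod 23,
    (0x5335f : ℕ).testBit (ZMod.val (x - t)) = (qm.getD (ZMod.val t) 0).testBit (ZMod.val x) := by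
  decide +kernel

theorem qm_none : ∀ t : ZMod 23, (qm.getD (ZMod.val t) 0).testBit 23 = false := by
  decide +kernel

theorem support₂_qrWord (t : ZMod 23) : support₂ (qrWord t) = toFS (qm.getD (ZMod.val t) 0) := by
  ext p
  rw [mem_support₂, mem_toFS]
  rcases p with _ | x
  · have : idx none = 23 := rfl
    rw [this, qm_none]
    simp [qrWord]
  · have h1 : idx (some x) = ZMod.val x := rfl
    rw [h1, ← qm_check, ← isSq_check]
    have h2 : (∃ r : ZMod 23, x - t = r ^ 2) ↔ (∃ r : ZMod 23, x = r ^ 2 + t) := by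
      constructor
      · rintro ⟨r, hr⟩; exact ⟨r, by rw [← hr]; ring⟩
      · rintro ⟨r, hr⟩; exact ⟨r, by rw [hr]; ring⟩
    rw [h2]
    by_cases h3 : ∃ r : ZMod 23, x = r ^ 2 + t
    · simp only [qrWord]; rw [if_pos h3]; simp [h3]
    · simp only [qrWord]; rw [if_neg h3]; simp [h3]

theorem support₂_one : support₂ (1 : GolayPt → ZMod 2) = toFS 0xffffff := by
  ext p
  rw [mem_support₂, mem_toFS]
  have : ∀ p : GolayPt, (0xffffff : ℕ).testBit (idx p) = true := by decide
  simp [this]

theorem qm_isCode : ∀ t : ZMod 23, isCode (qm.getD (ZMod.val t) 0) = true ∧ qm.getD (ZMod.val t) 0 < 2 ^ 24 := by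
  decide +kernel

theorem isCode_of_mem {w : GolayPt → ZMod 2} (hw : w ∈ golayCode) : isCode (mask (support₂ w)) = true := by
  refine Submodule.span_induction (p := fun w _ => isCode (mask (support₂ w)) = true) ?_ ?_ ?_ ?_ hw
  · rintro x (⟨t, rfl⟩ | hx)
    · rw [support₂_qrWord, mask_toFS (qm_isCode t).2]; exact (qm_isCode t).1
    · rw [Set.mem_singleton_iff] at hx
      subst hx
      rw [support₂_one, mask_toFS (by norm_num)]
      decide +kernel
  · rw [support₂_zero, mask_empty]; exact isCode_zero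
  · intro x y _ _ hx hy
    rw [support₂_add, mask_xor]; exact isCode_xor hx hy
  · intro a x _ hx
    by_cases ha : a = 0
    · rw [ha, zero_smul, support₂_zero, mask_empty]; exact isCode_zero
    · rw [zmod2_ne a ha, one_smul]; exact hx

/-- `m` is the mask of a codeword -/
def InC (m : ℕ) : Prop := m < 2 ^ 24 ∧ toFS m ∈ supports (golayCode : Set (GolayPt → ZMod 2))

theorem word_add (s t : Finset GolayPt) : word s + word t = word (symmDiff s t) := by
  apply support₂_injective
  rw [support₂_add, support₂_word, support₂_word, support₂_word]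

theorem symmDiff_mem {s t : Finset GolayPt} (hs : s ∈ supports (golayCode : Set (GolayPt → ZMod 2)))
    (ht : t ∈ supports (golayCode : Set (GolayPt → ZMod 2))) :
    symmDiff s t ∈ supports (golayCode : Set (GolayPt → ZMod 2)) := by
  rw [mem_supports] at *
  rw [← word_add]; exact add_mem hs ht

theorem InC.xor {a b : ℕ} (ha : InC a) (hb : InC b) : InC (a ^^^ b) := by
  refine ⟨Nat.xor_lt_two_pow ha.1 hb.1, ?_⟩
  rw [toFS_xor]; exact symmDiff_mem ha.2 hb.2

theorem InC_zero : InC 0 := by
  refine ⟨by norm_num, ?_⟩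
  rw [toFS_zero, mem_supports]
  have : word ∅ = 0 := by funext p; simp [word]
  rw [this]; exact zero_mem _

theorem InC_qm (t : ZMod 23) : InC (qm.getD (ZMod.val t) 0) := by
  refine ⟨(qm_isCode t).2, ?_⟩
  rw [← support₂_qrWord]
  exact ⟨_, Submodule.subset_span (Or.inl ⟨t, rfl⟩), rfl⟩

theorem InC_ones : InC 0xffffff := by
  refine ⟨by norm_num, ?_⟩
  rw [← support₂_one]
  exact ⟨_, Submodule.subset_span (Or.inr rfl), rfl⟩

/-- generators of the code: 23 translates and the all-one word -/
def gen (i : ℕ) : ℕ := if i < 23 then qm.getD i 0 else 0xffffff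

theorem InC_gen (i : ℕ) : InC (gen i) := by
  rw [gen]
  split_ifs with h
  · have := InC_qm (i : ZMod 23)
    rwa [ZMod.val_natCast, Nat.mod_eq_of_lt h] at this
  · exact InC_ones

/-- XOR of a list -/
def xorL (l : List ℕ) : ℕ := l.foldr (fun i acc => gen i ^^^ acc) 0

theorem InC_xorL (l : List ℕ) : InC (xorL l) := by
  induction l with
  | nil => exact InC_zero
  | cons i l ih => exact (InC_gen i).xor ih

def rowGens : List (List ℕ) := [[0, 3, 5, 7, 9, 10, 23], [3, 4, 8], [0, 3, 4, 7, 10, 23], [3, 4, 5, 6, 8, 10], [1, 3, 4, 5, 7, 9, 10, 23], [0, 1, 2, 4, 7, 8, 9, 10, 23], [0, 2, 3, 6, 7, 8, 10, 23], [4, 6, 7, 8, 9, 10], [0, 1, 6, 8, 10], [0, 2, 5, 6], [0, 1, 5, 6, 9, 10, 23], [0, 2, 5, 9, 10, 23]]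

theorem rows_eq_map : rows = rowGens.map xorL := by decide +kernel

theorem InC_row {r : ℕ} (hr : r ∈ rows) : InC r := by
  rw [rows_eq_map, List.mem_map] at hr
  obtain ⟨l, _, rfl⟩ := hr
  exact InC_xorL l

theorem InC_encL (rs : List ℕ) (hrs : ∀ r ∈ rs, InC r) : ∀ j acc, InC acc → InC (encL rs j acc) := by
  induction rs with
  | nil => intro j acc h; exact h
  | cons r rs ih =>
    intro j acc h
    apply ih (fun x hx => hrs x (List.mem_cons_of_mem _ hx))
    apply h.xor
    have h1 : Nat.land j 1 = j % 2 := Nat.and_one_is_mod j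
    have h2 : r * Nat.land j 1 = 0 ∨ r * Nat.land j 1 = r := by
      rw [h1]
      rcases Nat.mod_two_eq_zero_or_one j with h | h <;> simp [h]
    have h3 : Nat.mul r (Nat.land j 1) = r * Nat.land j 1 := rfl
    rcases h2 with h2 | h2
    · rw [h3, h2]; exact InC_zero
    · rw [h3, h2]; exact hrs r (List.mem_cons_self ..)

theorem InC_enc {j : ℕ} (hj : j < 4096) : InC (enc j) := by
  rw [enc_eq hj]
  apply InC.xor
  · apply InC_encL _ _ _ _ InC_zero
    intro r hr; apply InC_row; rw [rows_eq]; exact List.mem_append_left _ hr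
  · apply InC_encL _ _ _ _ InC_zero
    intro r hr; apply InC_row; rw [rows_eq]; exact List.mem_append_right _ hr

theorem InC_of_isCode {m : ℕ} (h : isCode m = true) : InC m := by
  rw [isCode_iff] at h
  rw [← h]
  exact InC_enc (lt_of_le_of_lt Nat.and_le_right (by norm_num))

/-- membership in the code in terms of masks -/
theorem mem_supports_iff {s : Finset GolayPt} :
    s ∈ supports (golayCode : Set (GolayPt → ZMod 2)) ↔ isCode (mask s) = true := by
  constructor
  · rintro ⟨w, hw, rfl⟩; exact isCode_of_mem hw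
  · intro h
    have := (InC_of_isCode h).2
    rwa [toFS_mask] at this

theorem mem_golay_iff {w : GolayPt → ZMod 2} : w ∈ golayCode ↔ isCode (mask (support₂ w)) = true := by
  rw [mem_iff_supports, mem_supports_iff]

theorem InC_iff {m : ℕ} : InC m ↔ isCode m = true := by
  constructor
  · rintro ⟨h1, h2⟩
    rwa [mem_supports_iff, mask_toFS h1] at h2
  · exact InC_of_isCode

/-! ### Enumeration of the code -/

theorem enc_check : allTree (fun j => Nat.beq (enc j) (encL rows j 0)) (pows 12) 0 = true := by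
  decide +kernel

theorem enc_eq_encL {j : ℕ} (hj : j < 4096) : enc j = encL rows j 0 :=
  Nat.eq_of_beq_eq_true (forall_lt_pow _ 12 enc_check j hj)

/-- conjunction over all sub-sums -/
def allC (p : ℕ → Bool) : List ℕ → ℕ → Bool
  | [], acc => p acc
  | r :: rs, acc => and (allC p rs acc) (allC p rs (Nat.xor acc r))

/-- count over all sub-sums -/
def cntC (p : ℕ → Bool) : List ℕ → ℕ → ℕ
  | [], acc => cond (p acc) 1 0
  | r :: rs, acc => Nat.add (cntC p rs acc) (cntC p rs (Nat.xor acc r))

theorem allC_spec (p : ℕ → Bool) (rs : List ℕ) : ∀ acc, allC p rs acc = true → ∀ j, p (encL rs j acc) = true := by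
  induction rs with
  | nil => intro acc h j; exact h
  | cons r rs ih =>
    intro acc h j
    simp only [allC, Bool.and_eq_true] at h
    have h1 : Nat.land j 1 = j % 2 := Nat.and_one_is_mod j
    have h3 : Nat.mul r (Nat.land j 1) = r * (j % 2) := by rw [← h1]; rfl
    simp only [encL]
    rw [h3]
    rcases Nat.mod_two_eq_zero_or_one j with h2 | h2
    · rw [h2, Nat.mul_zero]
      have : Nat.xor acc 0 = acc := Nat.xor_zero acc
      rw [this]; exact ih _ h.1 _
    · rw [h2, Nat.mul_one]; exact ih _ h.2 _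

/-- a Boolean property of all codewords, checked by enumeration -/
theorem forall_code (p : ℕ → Bool) (h : allC p rows 0 = true) {s : Finset GolayPt}
    (hs : s ∈ supports (golayCode : Set (GolayPt → ZMod 2))) : p (mask s) = true := by
  rw [mem_supports_iff, isCode_iff] at hs
  rw [← hs, enc_eq_encL (lt_of_le_of_lt Nat.and_le_right (by norm_num))]
  exact allC_spec p rows 0 h _

theorem cntC_spec (p : ℕ → Bool) (rs : List ℕ) : ∀ acc, cntC p rs acc =
    ∑ j ∈ Finset.range (2 ^ rs.length), cond (p (encL rs j acc)) 1 0 := by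
  induction rs with
  | nil => intro acc; simp [cntC, encL]
  | cons r rs ih =>
    intro acc
    have key : ∀ (f : ℕ → ℕ) (n : ℕ), ∑ j ∈ Finset.range (2 * n), f j =
        ∑ j ∈ Finset.range n, f (2 * j) + ∑ j ∈ Finset.range n, f (2 * j + 1) := by
      intro f n
      induction n with
      | zero => simp
      | succ n ih => rw [show 2 * (n + 1) = 2 * n + 1 + 1 by ring, Finset.sum_range_succ, Finset.sum_range_succ, ih,
          Finset.sum_range_succ, Finset.sum_range_succ]; ring
    rw [List.length_cons, pow_succ, mul_comm, key]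
    have h0 : ∀ j, encL (r :: rs) (2 * j) acc = encL rs j acc := by
      intro j
      have e1 : Nat.shiftRight (2 * j) 1 = j := by
        show (2 * j) >>> 1 = j
        rw [Nat.shiftRight_eq_div_pow]; omega
      have e2 : Nat.land (2 * j) 1 = 0 := by
        show (2 * j) &&& 1 = 0
        rw [Nat.and_one_is_mod]; omega
      have e3 : Nat.xor acc (Nat.mul r 0) = acc := Nat.xor_zero acc
      rw [encL, e1, e2, e3]
    have h1 : ∀ j, encL (r :: rs) (2 * j + 1) acc = encL rs j (Nat.xor acc r) := by
      intro j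
      have e1 : Nat.shiftRight (2 * j + 1) 1 = j := by
        show (2 * j + 1) >>> 1 = j
        rw [Nat.shiftRight_eq_div_pow]; omega
      have e2 : Nat.land (2 * j + 1) 1 = 1 := by
        show (2 * j + 1) &&& 1 = 1
        rw [Nat.and_one_is_mod]; omega
      have e3 : Nat.mul r 1 = r := Nat.mul_one r
      rw [encL, e1, e2, e3]
    simp only [h0, h1]
    rw [← ih, ← ih]; rfl

/-- counting codewords with a Boolean property -/
theorem ncard_code (p : ℕ → Bool) :
    {s : Finset GolayPt | s ∈ supports (golayCode : Set (GolayPt → ZMod 2)) ∧ p (mask s) = true}.ncard =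
      cntC p rows 0 := by
  have h1 : {s : Finset GolayPt | s ∈ supports (golayCode : Set (GolayPt → ZMod 2)) ∧ p (mask s) = true} =
      ((Finset.range 4096).filter fun j => p (enc j) = true).image (fun j => toFS (enc j)) := by
    ext s
    rw [Finset.coe_image, Finset.coe_filter, Set.mem_setOf_eq, Set.mem_image]
    constructor
    · rintro ⟨hs, hp⟩
      rw [mem_supports_iff, isCode_iff] at hs
      refine ⟨mask s &&& 4095, ⟨Finset.mem_range.mpr (lt_of_le_of_lt Nat.and_le_right (by norm_num)), ?_⟩, ?_⟩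
      · rw [hs]; exact hp
      · show toFS (enc _) = s
        rw [hs, toFS_mask]
    · rintro ⟨j, ⟨hj, hp⟩, rfl⟩
      rw [Finset.mem_range] at hj
      have := InC_enc hj
      exact ⟨this.2, by rw [mask_toFS this.1]; exact hp⟩
  rw [h1, Set.ncard_coe_finset, Finset.card_image_of_injOn, cntC_spec, Finset.card_filter]
  · apply Finset.sum_congr rfl
    intro j hj
    have hj' : j < 4096 := by simpa using hj
    rw [← enc_eq_encL hj']
    cases p (enc j) <;> rfl
  · intro a ha b hb hab
    rw [Finset.coe_filter, Set.mem_setOf_eq, Finset.mem_range] at ha hb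
    have h2 := toFS_inj (InC_enc ha.1).1 (InC_enc hb.1).1 hab
    have key : allTree (fun j => Nat.beq (Nat.land (enc j) 4095) j) (pows 12) 0 = true := by decide +kernel
    have k1 := Nat.eq_of_beq_eq_true (forall_lt_pow _ 12 key a ha.1)
    have k2 := Nat.eq_of_beq_eq_true (forall_lt_pow _ 12 key b hb.1)
    rw [← k1, ← k2, h2]

theorem ncard_words (n : ℕ) : (wordsOfWeight (golayCode : Set (GolayPt → ZMod 2)) n).ncard =
    cntC (fun m => Nat.beq (pop m) n) rows 0 := by
  rw [← ncard_code]
  congr 1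
  ext s
  simp only [wordsOfWeight, Set.mem_setOf_eq, card_eq_pop]
  constructor
  · rintro ⟨h1, h2⟩; exact ⟨h1, by rw [h2]; exact Nat.beq_refl n⟩
  · rintro ⟨h1, h2⟩; exact ⟨h1, Nat.eq_of_beq_eq_true h2⟩

theorem mem_octads_iff {s : Finset GolayPt} : s ∈ octads ↔ isCode (mask s) = true ∧ pop (mask s) = 8 := by
  rw [octads, wordsOfWeight, Set.mem_setOf_eq, mem_supports_iff, card_eq_pop]

theorem mem_dodecads_iff {s : Finset GolayPt} : s ∈ dodecads ↔ isCode (mask s) = true ∧ pop (mask s) = 12 := by
  rw [dodecads, wordsOfWeight, Set.mem_setOf_eq, mem_supports_iff, card_eq_pop]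

theorem supports_card {s : Finset GolayPt} (hs : s ∈ supports (golayCode : Set (GolayPt → ZMod 2))) :
    s.card = 0 ∨ s.card = 8 ∨ s.card = 12 ∨ s.card = 16 ∨ s.card = 24 := by
  have key : allC (fun m => or (Nat.beq (pop m) 0) (or (Nat.beq (pop m) 8) (or (Nat.beq (pop m) 12)
    (or (Nat.beq (pop m) 16) (Nat.beq (pop m) 24))))) rows 0 = true := by decide +kernel
  have := forall_code _ key hs
  simp only [Bool.or_eq_true] at this
  rw [card_eq_pop]
  rcases this with h | h | h | h | h
  · exact Or.inl (Nat.eq_of_beq_eq_true h)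
  · exact Or.inr (Or.inl (Nat.eq_of_beq_eq_true h))
  · exact Or.inr (Or.inr (Or.inl (Nat.eq_of_beq_eq_true h)))
  · exact Or.inr (Or.inr (Or.inr (Or.inl (Nat.eq_of_beq_eq_true h))))
  · exact Or.inr (Or.inr (Or.inr (Or.inr (Nat.eq_of_beq_eq_true h))))

end CfsgLib.Golay
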