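import Cfsg.Agent.Lib.GolaySg

/-!
# Pointwise stabilizers of six points
-/

set_option autoImplicit false

namespace CfsgLib.Golay

open Cfsg
open scoped Pointwise

theorem card_fix_eq {E : Finset GolayPt} {l : List GolayPt} (h : ∀ x, x ∈ l ↔ x ∈ E) :
    Nat.card {g : Equiv.Perm GolayPt // g ∈ M24 ∧ ∀ p ∈ E, g p = p} = Nat.card (PS l) := by
  apply Nat.card_congr
  apply Equiv.subtypeEquivRight
  intro g
  rw [mem_PS]
  refine and_congr Iff.rfl ⟨fun h1 p hp => h1 p ((h p).mp hp), fun h1 p hp => h1 p ((h p).mpr hp)⟩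

theorem list_six {E : Finset GolayPt} (hE : E.card = 6) : ∃ x0 x1 x2 x3 x4 x5, [x0, x1, x2, x3, x4, x5].Nodup ∧ ∀ x, x ∈ [x0, x1, x2, x3, x4, x5] ↔ x ∈ E := by
  obtain ⟨l, hl, hc, hm⟩ := exists_list_eq E
  rw [hE] at hc
  match l, hc with
  | [x0, x1, x2, x3, x4, x5], _ => exact ⟨x0, x1, x2, x3, x4, x5, hl, hm⟩

theorem card_fix_in {E : Finset GolayPt} (hE : E.card = 6) {o : Finset GolayPt} (ho : o ∈ octads) (hEo : E ⊆ o) :
    Nat.card {g : Equiv.Perm GolayPt // g ∈ M24 ∧ ∀ p ∈ E, g p = p} = 16 := by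
  obtain ⟨x0, x1, x2, x3, x4, x5, hnd, hm⟩ := list_six hE
  have hm' : ∀ x, x ∈ [x5, x4, x3, x2, x1, x0] ↔ x ∈ E := by
    intro x
    rw [← hm x]
    simp only [List.mem_cons, List.not_mem_nil, or_false]
    tauto
  rw [card_fix_eq hm']
  have h : ∀ x ∈ [x0, x1, x2, x3, x4, x5], x ∈ o := fun x hx => hEo ((hm x).mp hx)
  exact card_PS_six ho (h x0 (by simp)) (h x1 (by simp)) (h x2 (by simp)) (h x3 (by simp)) (h x4 (by simp)) (h x5 (by simp)) hnd

theorem card_PS_out {x0 x1 x2 x3 x4 x5 : GolayPt} (hnd : [x0, x1, x2, x3, x4, x5].Nodup)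
    (hout : ¬ ∃ o ∈ octads, ∀ p ∈ [x0, x1, x2, x3, x4, x5], p ∈ o) : Nat.card (PS [x5, x4, x3, x2, x1, x0]) = 3 := by
  have hnd5 : [x0, x1, x2, x3, x4].Nodup := by
    have : [x0, x1, x2, x3, x4, x5] = [x0, x1, x2, x3, x4] ++ [x5] := rfl
    rw [this] at hnd
    exact (List.nodup_append.mp hnd).1
  obtain ⟨o, ho, hmo⟩ := octad_through_list hnd5 rfl
  have hx5 : x5 ∉ o := by
    intro h
    apply hout
    refine ⟨o, ho, ?_⟩
    intro p hp
    simp only [List.mem_cons, List.not_mem_nil, or_false] at hp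
    rcases hp with rfl | rfl | rfl | rfl | rfl | rfl
    · exact hmo _ (by simp)
    · exact hmo _ (by simp)
    · exact hmo _ (by simp)
    · exact hmo _ (by simp)
    · exact hmo _ (by simp)
    · exact h
  obtain ⟨y, hyo, hy⟩ : ∃ y ∈ o, y ∉ [x0, x1, x2, x3, x4] := by
    by_contra hcon
    push Not at hcon
    have h1 : o ⊆ [x0, x1, x2, x3, x4].toFinset := fun z hz => List.mem_toFinset.mpr (hcon z hz)
    have h2 := Finset.card_le_card h1
    rw [List.toFinset_card_of_nodup hnd5, card_octad ho] at h2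
    simp at h2
  have hnd6 : [x0, x1, x2, x3, x4, y].Nodup := by
    have : [x0, x1, x2, x3, x4, y] = [x0, x1, x2, x3, x4] ++ [y] := rfl
    rw [this, List.nodup_append]
    refine ⟨hnd5, by simp, ?_⟩
    intro a ha b hb hab
    rw [List.mem_singleton] at hb
    rw [hab, hb] at ha
    exact hy ha
  have h48 := card_PS_five hnd5
  have h := card_PS_step [x4, x3, x2, x1, x0] x5 16 {q : GolayPt | q ∉ o} (by
    have : {q : GolayPt | q ∉ o} = (oᶜ : Finset GolayPt) := by ext q; simp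
    have h8 : o.card = 8 := ho.2
    rw [this, Set.ncard_coe_finset, Finset.card_compl, h8]; rfl) (by
    intro q
    constructor
    · intro hq
      obtain ⟨g, hg, -, e0, e1, e2, e3, e4, e5, e6⟩ := frame_trans ho (hmo x0 (by simp)) (hmo x1 (by simp)) (hmo x2 (by simp)) (hmo x3 (by simp)) (hmo x4 (by simp)) hyo hnd6 hx5
        ho (hmo x0 (by simp)) (hmo x1 (by simp)) (hmo x2 (by simp)) (hmo x3 (by simp)) (hmo x4 (by simp)) hyo hnd6 hq
      refine ⟨g, ⟨hg, ?_⟩, e6⟩
      intro p hp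
      simp only [List.mem_cons, List.not_mem_nil, or_false] at hp
      rcases hp with rfl | rfl | rfl | rfl | rfl <;> assumption
    · rintro ⟨g, ⟨hg, h⟩, rfl⟩
      have : g • o = o := by
        apply smul_octad_of_list hg ho hnd5 _ (by simp) _
        · exact hmo
        · intro p hp
          apply h
          simp only [List.mem_cons, List.not_mem_nil, or_false] at hp ⊢
          tauto
      show g x5 ∉ o
      rw [← this]; exact fun h => hx5 (mem_smul_iff.mp h))
  omega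

theorem card_fix_out {E : Finset GolayPt} (hE : E.card = 6) (hout : ¬ ∃ o ∈ octads, E ⊆ o) :
    Nat.card {g : Equiv.Perm GolayPt // g ∈ M24 ∧ ∀ p ∈ E, g p = p} = 3 := by
  obtain ⟨x0, x1, x2, x3, x4, x5, hnd, hm⟩ := list_six hE
  have hm' : ∀ x, x ∈ [x5, x4, x3, x2, x1, x0] ↔ x ∈ E := by
    intro x
    rw [← hm x]
    simp only [List.mem_cons, List.not_mem_nil, or_false]
    tauto
  rw [card_fix_eq hm']
  apply card_PS_out hnd
  rintro ⟨o, ho, h⟩
  exact hout ⟨o, ho, fun x hx => h x ((hm x).mpr hx)⟩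

/-- the setwise stabilizer as a subgroup of the symmetric group -/
def SS (E : Finset GolayPt) : Subgroup (Equiv.Perm GolayPt) := M24 ⊓ MulAction.stabilizer (Equiv.Perm GolayPt) E

theorem mem_SS {E : Finset GolayPt} {g : Equiv.Perm GolayPt} : g ∈ SS E ↔ g ∈ M24 ∧ g • E = E := by
  unfold SS
  rw [Subgroup.mem_inf]
  exact and_congr Iff.rfl MulAction.mem_stabilizer_iff

theorem six_surj {E : Finset GolayPt} (hE : E.card = 6) (σ : Equiv.Perm ↥E) : ∃ g ∈ SS E, ∀ p : ↥E, g p = σ p := by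
  obtain ⟨l, hl, hc, hm⟩ := exists_list_eq (Finset.univ : Finset GolayPt)
  obtain ⟨m, hm1, hm2, hm3⟩ := exists_list_of_le_card (s := (Finset.univ : Finset ↥E)) (n := 6) (by rw [Finset.card_univ, Fintype.card_coe, hE])
  have hinj : Function.Injective (fun p : ↥E => (p : GolayPt)) := Subtype.val_injective
  have hinj' : Function.Injective (fun p : ↥E => ((σ p : ↥E) : GolayPt)) := hinj.comp σ.injective
  have hall : ∀ x : ↥E, x ∈ m := by
    intro x
    have h1 : m.toFinset = Finset.univ := by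
      apply Finset.eq_univ_of_card
      rw [List.toFinset_card_of_nodup hm1, hm2, Fintype.card_coe, hE]
    have : x ∈ m.toFinset := by rw [h1]; exact Finset.mem_univ x
    exact List.mem_toFinset.mp this
  obtain ⟨g, hg, hgl⟩ : ∃ g ∈ M24, (m.map (fun p : ↥E => (p : GolayPt))).map g = m.map (fun p : ↥E => ((σ p : ↥E) : GolayPt)) := by
    by_cases hin : ∃ o ∈ octads, E ⊆ o
    · obtain ⟨o, ho, hEo⟩ := hin
      obtain ⟨g, hg, h1, -⟩ := seven_trans_in (l := m.map (fun p : ↥E => (p : GolayPt))) (l' := m.map (fun p : ↥E => ((σ p : ↥E) : GolayPt)))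
        (hm1.map hinj) (hm1.map hinj') (by simpa using hm2) (by simpa using hm2) ho ho (by
          intro p hp
          obtain ⟨q, -, rfl⟩ := List.mem_map.mp hp
          exact hEo q.2) (by
          intro p hp
          obtain ⟨q, -, rfl⟩ := List.mem_map.mp hp
          exact hEo (σ q).2)
      exact ⟨g, hg, h1⟩
    · refine six_trans_out (hm1.map hinj) (hm1.map hinj') (by simpa using hm2) (by simpa using hm2) ?_ ?_
      · rintro ⟨o, ho, h⟩
        exact hin ⟨o, ho, fun x hx => h x (List.mem_map.mpr ⟨⟨x, hx⟩, hall _, rfl⟩)⟩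
      · rintro ⟨o, ho, h⟩
        refine hin ⟨o, ho, fun x hx => h x (List.mem_map.mpr ⟨σ.symm ⟨x, hx⟩, hall _, ?_⟩)⟩
        rw [Equiv.apply_symm_apply]
  have hgp : ∀ p : ↥E, g p = σ p := by
    intro p
    rw [List.map_map] at hgl
    exact List.map_inj_left.mp hgl p (hall p)
  refine ⟨g, mem_SS.mpr ⟨hg, ?_⟩, hgp⟩
  apply Finset.eq_of_subset_of_card_le
  · intro y hy
    obtain ⟨x, hx, rfl⟩ := Finset.mem_smul_finset.mp hy
    have := hgp ⟨x, hx⟩
    show g x ∈ E
    have h2 : g x = σ ⟨x, hx⟩ := this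
    rw [h2]; exact (σ ⟨x, hx⟩).2
  · rw [card_smul']

theorem card_SS_out {E : Finset GolayPt} (hE : E.card = 6) (hout : ¬ ∃ o ∈ octads, E ⊆ o) : Nat.card (SS E) = 2160 := by
  have hH : ∀ g ∈ SS E, g • E = E := fun g hg => (mem_SS.mp hg).2
  have hker : Nat.card (res E (SS E) hH).ker = 3 := by
    rw [← card_fix_out hE hout]
    apply Nat.card_congr
    refine ⟨fun g => ⟨g.1.1, (mem_SS.mp g.1.2).1, ?_⟩, fun g => ⟨⟨g.1, mem_SS.mpr ⟨g.2.1, smul_eq_of_fix g.2.2⟩⟩, ?_⟩, fun g => rfl, fun g => rfl⟩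
    · intro p hp
      have h1 := g.2
      rw [MonoidHom.mem_ker] at h1
      have h2 := res_apply hH g.1 ⟨p, hp⟩
      rw [h1] at h2
      exact h2.symm
    · rw [MonoidHom.mem_ker]
      refine Equiv.ext fun p => Subtype.ext ?_
      rw [res_apply hH]
      exact g.2.2 p p.2
  have hsurj : Function.Surjective (res E (SS E) hH) := by
    intro σ
    obtain ⟨g, hg, hσ⟩ := six_surj hE σ
    refine ⟨⟨g, hg⟩, ?_⟩
    refine Equiv.ext fun p => Subtype.ext ?_
    rw [res_apply hH]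
    exact hσ p
  have h1 := (res E (SS E) hH).ker.card_mul_index
  rw [Subgroup.index_ker, MonoidHom.range_eq_top.mpr hsurj, Subgroup.card_top, hker, Nat.card_eq_fintype_card (α := Equiv.Perm ↥E), Fintype.card_perm, Fintype.card_coe, hE] at h1
  rw [← h1]; rfl

end CfsgLib.Golay
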