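import Mathlib
import Cfsg.Agent.Lib.GolaySg2

/-!
Products of packed permutations; enumeration of the pointwise stabiliser of four points.
-/

set_option autoImplicit false

namespace CfsgLib.Golay

open Cfsg
open scoped Pointwise

/-- packed product -/
noncomputable def mulP (P Q : ℕ) : ℕ :=
  @List.rec ℕ (fun _ => ℕ) 0 (fun i _ acc => Nat.add (img P (img Q i)) (Nat.mul 32 acc)) ixs

theorem img_lt32 (P i : ℕ) : img P i < 32 := by
  have : img P i ≤ 31 := Nat.and_le_right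
  omega

theorem img_cons_zero (x y : ℕ) (hx : x < 32) : img (x + 32 * y) 0 = x := by
  have : img (x + 32 * y) 0 = ((x + 32 * y) >>> (5 * 0)) &&& 31 := rfl
  rw [this, Nat.mul_zero, Nat.shiftRight_zero, show (31 : ℕ) = 2 ^ 5 - 1 from rfl, Nat.and_two_pow_sub_one_eq_mod]
  omega

theorem img_cons_succ (x y i : ℕ) (hx : x < 32) : img (x + 32 * y) (i + 1) = img y i := by
  have h1 : img (x + 32 * y) (i + 1) = ((x + 32 * y) >>> (5 * (i + 1))) &&& 31 := rfl
  have h2 : img y i = (y >>> (5 * i)) &&& 31 := rfl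
  rw [h1, h2, show 5 * (i + 1) = 5 + 5 * i by ring, Nat.shiftRight_add]
  congr 2
  rw [Nat.shiftRight_eq_div_pow]; omega

theorem img_rec (f : ℕ → ℕ) (hf : ∀ i, f i < 32) : ∀ (l : List ℕ) (k : ℕ) (hk : k < l.length),
    img (@List.rec ℕ (fun _ => ℕ) 0 (fun i _ acc => Nat.add (f i) (Nat.mul 32 acc)) l) k = f (l[k])
  | [], k, hk => by simp at hk
  | x :: xs, 0, _ => img_cons_zero _ _ (hf x)
  | x :: xs, k + 1, hk => by
      have hk' : k < xs.length := by simpa using hk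
      have := img_rec f hf xs k hk'
      rw [show (x :: xs)[k + 1] = xs[k]'hk' from rfl, ← this]
      exact img_cons_succ _ _ _ (hf x)

theorem img_mulP (P Q : ℕ) {i : ℕ} (hi : i < 24) : img (mulP P Q) i = img P (img Q i) := by
  have h := img_rec (fun i => img P (img Q i)) (fun i => img_lt32 _ _) ixs i (by exact hi)
  have h2 : ∀ j : Fin 24, ixs[(j : ℕ)]'(j.2) = j := by decide
  have h3 := h2 ⟨i, hi⟩
  simp only at h3
  rw [show mulP P Q = @List.rec ℕ (fun _ => ℕ) 0 (fun i _ acc => Nat.add (img P (img Q i)) (Nat.mul 32 acc)) ixs from rfl,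
    h, h3]

theorem Packs.mul {P Q : ℕ} {g h : Equiv.Perm GolayPt} (hP : Packs P g) (hQ : Packs Q h) :
    Packs (mulP P Q) (g * h) := by
  intro p
  rw [Equiv.Perm.mul_apply, hP, hQ, img_mulP _ _ (idx_lt p)]

/-- equality of packed permutations on the 24 indices -/
def eqP (P Q : ℕ) : Bool := ixs.all fun i => Nat.beq (img P i) (img Q i)

theorem eqP_spec {P Q : ℕ} (h : eqP P Q = true) {g g' : Equiv.Perm GolayPt} (hP : Packs P g) (hQ : Packs Q g') :
    g = g' := by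
  rw [eqP, List.all_eq_true] at h
  ext1 p
  apply idx_injective
  rw [hP, hQ]
  exact Nat.eq_of_beq_eq_true (h _ (mem_ixs.mpr (idx_lt p)))

/-- `P ∘ Q = R` on the 24 indices -/
def mulB (P Q R : ℕ) : Bool := ixs.all fun i => Nat.beq (img P (img Q i)) (img R i)

theorem mulB_spec {P Q R : ℕ} (h : mulB P Q R = true) {a b c : Equiv.Perm GolayPt} (hP : Packs P a) (hQ : Packs Q b)
    (hR : Packs R c) : a * b = c := by
  rw [mulB, List.all_eq_true] at h
  ext1 p
  apply idx_injective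
  rw [Equiv.Perm.mul_apply, hP, hQ, hR]
  exact Nat.eq_of_beq_eq_true (h _ (mem_ixs.mpr (idx_lt p)))

/-- `Q ∘ P = R ∘ Q` on the 24 indices -/
def conjB (Q P R : ℕ) : Bool := ixs.all fun i => Nat.beq (img Q (img P i)) (img R (img Q i))

theorem conjB_spec {Q P R : ℕ} (h : conjB Q P R = true) {k g r : Equiv.Perm GolayPt} (hQ : Packs Q k)
    (hP : Packs P g) (hR : Packs R r) : k * g * k⁻¹ = r := by
  rw [conjB, List.all_eq_true] at h
  rw [mul_inv_eq_iff_eq_mul]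
  ext1 p
  apply idx_injective
  rw [Equiv.Perm.mul_apply, Equiv.Perm.mul_apply, hP.apply', hQ, hR, hQ]
  have h1 := Nat.eq_of_beq_eq_true (h _ (mem_ixs.mpr (idx_lt p)))
  rw [← h1, ← hP, pt_idx]

/-- all elements fixing the points `0, 1, 2, 3` -/
def allS4 (p : ℕ → ℕ → ℕ → Bool) : Bool :=
  lev4.all fun e => lev5.all fun f => lev6.all fun h => p h.2 f.2 e.2

theorem chk_good {fixed : List ℕ} {b allowed : ℕ} {T : List (ℕ × ℕ)} (h : chkLevel fixed b allowed T = true)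
    {p : GolayPt} (hp : allowed.testBit (idx p) = true) (hf : ∀ f ∈ fixed, f < 24) :
    ∃ e ∈ T, ∃ k ∈ M24, Packs e.2 k ∧ (∀ f ∈ fixed, k (pt f) = pt f) ∧ k p = pt b := by
  rw [chkLevel, Bool.and_eq_true, List.all_eq_true] at h
  obtain ⟨h1, h2⟩ := h
  rw [← Nat.eq_of_beq_eq_true h2] at hp
  obtain ⟨e, he, h3⟩ := testBit_foldr T _ hp
  have h4 := h1 e he
  rw [Bool.and_eq_true, Bool.and_eq_true, List.all_eq_true] at h4
  obtain ⟨g, hg, hgp⟩ := exists_of_good h4.1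
  refine ⟨e, he, g, hg, hgp, fun f hf' => hgp.apply (hf f hf') (Nat.eq_of_beq_eq_true (h4.2.2 f hf')), ?_⟩
  have := hgp.apply (i := e.1) (by rw [h3]; exact idx_lt p) (Nat.eq_of_beq_eq_true h4.2.1)
  rwa [h3, pt_idx] at this

theorem exists_S4 {g : Equiv.Perm GolayPt} (hg : g ∈ M24) (h0 : g (pt 0) = pt 0) (h1 : g (pt 1) = pt 1)
    (h2 : g (pt 2) = pt 2) (h3 : g (pt 3) = pt 3) :
    ∃ e ∈ lev4, ∃ f ∈ lev5, ∃ h ∈ lev6, ∃ a b c, Packs h.2 a ∧ Packs f.2 b ∧ Packs e.2 c ∧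
      a ∈ M24 ∧ b ∈ M24 ∧ c ∈ M24 ∧ g = a * (b * c) := by
  classical
  have i0 : g⁻¹ (pt 0) = pt 0 := by rw [Equiv.Perm.inv_eq_iff_eq]; exact h0.symm
  have i1 : g⁻¹ (pt 1) = pt 1 := by rw [Equiv.Perm.inv_eq_iff_eq]; exact h1.symm
  have i2 : g⁻¹ (pt 2) = pt 2 := by rw [Equiv.Perm.inv_eq_iff_eq]; exact h2.symm
  have i3 : g⁻¹ (pt 3) = pt 3 := by rw [Equiv.Perm.inv_eq_iff_eq]; exact h3.symm
  have a4 : ∀ p : GolayPt, p ≠ pt 0 → p ≠ pt 1 → p ≠ pt 2 → p ≠ pt 3 →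
    (0xfffff0 : ℕ).testBit (idx p) = true := by decide
  obtain ⟨e, he, c, hc, hcp, hcf, hc4⟩ := chk_good level4 (p := g⁻¹ (pt 4)) (a4 _
    (by rw [← i0]; exact fun h => absurd (g⁻¹.injective h) (by decide))
    (by rw [← i1]; exact fun h => absurd (g⁻¹.injective h) (by decide))
    (by rw [← i2]; exact fun h => absurd (g⁻¹.injective h) (by decide))
    (by rw [← i3]; exact fun h => absurd (g⁻¹.injective h) (by decide))) (by simp)
  set g1 : Equiv.Perm GolayPt := c * g⁻¹ with hg1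
  have hg1M : g1 ∈ M24 := mul_mem hc (inv_mem hg)
  have j0 : g1 (pt 0) = pt 0 := by rw [hg1, Equiv.Perm.mul_apply, i0]; exact hcf 0 (by simp)
  have j1 : g1 (pt 1) = pt 1 := by rw [hg1, Equiv.Perm.mul_apply, i1]; exact hcf 1 (by simp)
  have j2 : g1 (pt 2) = pt 2 := by rw [hg1, Equiv.Perm.mul_apply, i2]; exact hcf 2 (by simp)
  have j3 : g1 (pt 3) = pt 3 := by rw [hg1, Equiv.Perm.mul_apply, i3]; exact hcf 3 (by simp)
  have j4 : g1 (pt 4) = pt 4 := by rw [hg1, Equiv.Perm.mul_apply]; exact hc4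
  have hO : g1 • O0 = O0 := by
    apply smul_octad_of_fix hg1M O0_mem five_sub_O0 five_card.ge
    intro p hp
    simp only [Finset.mem_insert, Finset.mem_singleton] at hp
    rcases hp with rfl | rfl | rfl | rfl | rfl <;> assumption
  have m7 : g1 (pt 7) ∈ O0 := by
    rw [← hO, mem_smul_iff, mem_O0]; tauto
  have a5 : ∀ p : GolayPt, p ∈ O0 → p ≠ pt 0 → p ≠ pt 1 → p ≠ pt 2 → p ≠ pt 3 → p ≠ pt 4 →
      (5248 : ℕ).testBit (idx p) = true := by
    intro p hp
    rw [mem_O0] at hp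
    revert hp p; decide
  obtain ⟨f, hf, b, hb, hbp, hbf, hb7⟩ := chk_good level5 (p := g1 (pt 7)) (a5 _ m7
    (by rw [← j0]; exact fun h => absurd (g1.injective h) (by decide))
    (by rw [← j1]; exact fun h => absurd (g1.injective h) (by decide))
    (by rw [← j2]; exact fun h => absurd (g1.injective h) (by decide))
    (by rw [← j3]; exact fun h => absurd (g1.injective h) (by decide))
    (by rw [← j4]; exact fun h => absurd (g1.injective h) (by decide))) (by simp)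
  set g2 : Equiv.Perm GolayPt := (b * g1)⁻¹ with hg2
  have hg2M : g2 ∈ M24 := inv_mem (mul_mem hb hg1M)
  have aux : ∀ x : GolayPt, b (g1 x) = x → g2 x = x := by
    intro x hx
    rw [hg2, Equiv.Perm.inv_eq_iff_eq, Equiv.Perm.mul_apply]; exact hx.symm
  have aux7 : b (g1 (pt 7)) = pt 7 := hb7
  obtain ⟨h, hh, ha, -⟩ := base_six hg2M (aux _ (by rw [j0]; exact hbf 0 (by simp)))
    (aux _ (by rw [j1]; exact hbf 1 (by simp))) (aux _ (by rw [j2]; exact hbf 2 (by simp)))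
    (aux _ (by rw [j3]; exact hbf 3 (by simp))) (aux _ (by rw [j4]; exact hbf 4 (by simp))) (aux _ aux7)
  refine ⟨e, he, f, hf, h, hh, g2, b, c, ha, hbp, hcp, hg2M, hb, hc, ?_⟩
  rw [hg2, hg1]; group

/-- every element fixing the points `0, 1, 2, 3` passes the check -/
theorem allS4_spec {p : ℕ → ℕ → ℕ → Bool} (hp : allS4 p = true) {g : Equiv.Perm GolayPt} (hg : g ∈ M24)
    (h0 : g (pt 0) = pt 0) (h1 : g (pt 1) = pt 1) (h2 : g (pt 2) = pt 2) (h3 : g (pt 3) = pt 3) :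
    ∃ P Q R a b c, p P Q R = true ∧ Packs P a ∧ Packs Q b ∧ Packs R c ∧ g = a * (b * c) := by
  obtain ⟨e, he, f, hf, h, hh, a, b, c, ha, hb, hc, _, _, _, hgc⟩ := exists_S4 hg h0 h1 h2 h3
  rw [allS4, List.all_eq_true] at hp
  have k1 := hp e he
  rw [List.all_eq_true] at k1
  have k2 := k1 f hf
  rw [List.all_eq_true] at k2
  exact ⟨_, _, _, a, b, c, k2 h hh, ha, hb, hc, hgc⟩

/-! ### Classification of elements of small prime order -/

def tstP (ot : ℕ → Bool) (tab : List (ℕ × ℕ × ℕ)) (T : ℕ) : Bool :=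
  or (not (ot T)) (tab.any fun e => Nat.beq e.1 T)

def tabOk (tab : List (ℕ × ℕ × ℕ)) : Bool :=
  tab.all fun e => and (good e.2.1) (conjB e.2.1 e.1 e.2.2)

theorem conj_packs {Q P R : ℕ} (h : conjB Q P R = true) {k g : Equiv.Perm GolayPt} (hQ : Packs Q k)
    (hP : Packs P g) : Packs R (k * g * k⁻¹) := by
  rw [conjB, List.all_eq_true] at h
  intro p
  have h1 := Nat.eq_of_beq_eq_true (h _ (mem_ixs.mpr (idx_lt (k⁻¹ p))))
  rw [Equiv.Perm.mul_apply, Equiv.Perm.mul_apply, hQ, hP, h1, ← hQ, app_inv]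

theorem classify {S : ℕ} (hS : good S = true) (ot : ℕ → Bool) (tab : List (ℕ × ℕ × ℕ))
    (hc : allS4 (fun P Q R => tstP ot tab (mulP (mulP S P) (mulP Q R))) = true) (htab : tabOk tab = true)
    {g : Equiv.Perm GolayPt} (hg : g ∈ M24) (h0 : g (pt 0) = pt (img S 0)) (h1 : g (pt 1) = pt (img S 1))
    (h2 : g (pt 2) = pt (img S 2)) (h3 : g (pt 3) = pt (img S 3)) (hot : ∀ T, Packs T g → ot T = true) :
    ∃ e ∈ tab, Packs e.1 g ∧ ∃ k ∈ M24, Packs e.2.1 k ∧ Packs e.2.2 (k * g * k⁻¹) := by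
  obtain ⟨s, hs, hsp⟩ := exists_of_good hS
  have aux : ∀ i < 24, g (pt i) = pt (img S i) → (s⁻¹ * g) (pt i) = pt i := by
    intro i hi h
    rw [Equiv.Perm.mul_apply, h, Equiv.Perm.inv_eq_iff_eq, hsp.apply hi rfl]
  obtain ⟨P, Q, R, a, b, c, hp, ha, hb, hc', hgc⟩ := allS4_spec hc (mul_mem (inv_mem hs) hg)
    (aux 0 (by norm_num) h0) (aux 1 (by norm_num) h1) (aux 2 (by norm_num) h2) (aux 3 (by norm_num) h3)
  have hT : Packs (mulP (mulP S P) (mulP Q R)) g := by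
    have h4 := (hsp.mul ha).mul (hb.mul hc')
    have h5 : s * a * (b * c) = g := by
      rw [mul_assoc, ← hgc]; group
    rwa [h5] at h4
  rw [tstP, hot _ hT, Bool.not_true, Bool.false_or, List.any_eq_true] at hp
  obtain ⟨e, he, h6⟩ := hp
  rw [← Nat.eq_of_beq_eq_true h6] at hT
  rw [tabOk, List.all_eq_true] at htab
  have h7 := htab e he
  rw [Bool.and_eq_true] at h7
  obtain ⟨k, hk, hkp⟩ := exists_of_good h7.1
  exact ⟨e, he, hT, k, hk, hkp, conj_packs h7.2 hkp hT⟩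

/-- iterated image -/
def iter (T : ℕ) : ℕ → ℕ → ℕ
  | 0, i => i
  | n + 1, i => iter T n (img T i)

def ordB (n T : ℕ) : Bool := ixs.all fun i => Nat.beq (iter T n i) i

theorem iter_spec {T : ℕ} {g : Equiv.Perm GolayPt} (h : Packs T g) : ∀ (n : ℕ) (p : GolayPt),
    iter T n (idx p) = idx ((g ^ n) p)
  | 0, p => rfl
  | n + 1, p => by rw [iter, ← h, iter_spec h n, pow_succ, Equiv.Perm.mul_apply]

theorem ordB_spec {n T : ℕ} {g : Equiv.Perm GolayPt} (h : Packs T g) (hn : g ^ n = 1) : ordB n T = true := by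
  rw [ordB, List.all_eq_true]
  intro i hi
  have h1 := iter_spec h n (pt i)
  rw [hn, idx_pt (mem_ixs.mp hi), Equiv.Perm.one_apply, idx_pt (mem_ixs.mp hi)] at h1
  rw [h1]; exact Nat.beq_refl _

def s2 : ℕ := 0x6a13622e4a3d4d18166c73e9710c01

def r2A : ℕ := 0x22df06a194a9e71b14d27255710c01

def r2B : ℕ := 0x299b29d1d07c6ac4a9683dae410c01

def ctab2 : List (ℕ × ℕ × ℕ) := [(0x22df06a194a9e71b14d27255710c01, 0xbdab49ca307b9ac5a928398a418820, r2A), (0x24e4db54eb4aa85839e68a19710c01, 0x934eb9ba340d6d783c066248810d45, r2A), (0x250d6825534316e6c64f2d4f710c01, 0x24d4d09c40aae16a0dcf6163749a48, r2A), (0x299b29d1d07c6ac4a9683dae410c01, 0xbdab49ca307b9ac5a928398a418820, r2B), (0x2a64d7d5c89c68431ed052eec10c01, 0x392749354f4160362ef5b45c208126, r2A), (0x2ae95435cf84647b10d3626ea10c01, 0x6aa2c4de800c08b28ce6b3a62abd12, r2A), (0x2b4c922dc7646cf9228a856f310c01, 0xb0137732057d0358a0925196710e6d, r2A), (0x2c926659ca245736c2a7452ef10c01,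 0xab55464cd75a4f1710a21c1f608248, r2A), (0x2d176519cc3c530acda47cae810c01, 0x609a3aac12386089be8575a2a32497, r2A), (0x2d6cb3a5c4544c8a3e4c9b6f010c01, 0x54289b82cc92e6f32035234b13b862, r2A), (0x2dab4849d3445aa5b12f21ae710c01, 0xb2a6f1a1220ae17394808b0cea4aad, r2B), (0x315b255164626af8cdc745ed010c01, 0xa4ce1b01927ddd58ac821c1a8514c9, r2A), (0x3390f6c132a5a6429e3555d6c10c01, 0x1b5d52c9687cd49832c788a8625c20, r2A), (0x34544432cf82cf2754b36dd3410c01, 0xa31e332e2e3b6569d6e944082080aa, r2A), (0x3ae0f94d55a1105b44cdba58e10c01, 0x6d911abe12618805d0b79a82971c43, r2A), (0x3b52b8199342ad1a3aafbc88510c01, 0x359e222157a1d651bab04c8208b1b3, r2A), (0x3be4d4d486b328e4166bbc15110c01, 0x5be0a4d181a8ca245cd2b00919b4ee, r2A), (0x412952b61173e4652cf74b27610c01, 0xb35f5200628b02e5160ba1ef349a48, r2A), (0x424e4729e58cd8d34ad7aae1410c01, 0xab87691a706a001ba4ef1128b644aa, r2A), (0x456c989a6e2c16a6b297249e710c01, 0x924c18c1847dda298c083d2aeb2caa,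 r2A), (0x49670abcd492d0471eed546cc10c01, 0x9d5442b2178a0e2905ae051e332576, r2A), (0x4b9874296f858958caf3a14cd10c01, 0x71569802efaa876204f43458244a6d, r2A), (0x4c5b2252ca39aa82c2ec7b97310c01, 0x53d315b2b3a48c23b4a3821d6b9001, r2A), (0x52e68ac0f26b1eeb5cd48a48510c01, 0x50ae0230f14c8c819681741f56cd76, r2A), (0x5424d5d596312919dd092bcee10c01, 0x2d93719aab81c8f12a6d4524e8b020, r2A), (0x556c682c9341d2595daf7519110c01, 0x415505b8d6b866f3c9a4052a964443, r2A), (0x594ec4112f81954bb633abad210c01, 0x7dda129a365a200ad18a9c8893b862, r2A), (0x5b9b2650c755ab3bbca48452810c01, 0x8b869a995099c4f63492a16e800576, r2A), (0x5c5e894ecdaa604b9dd4514cc10c01, 0x58ef59204c21e30b01cf0a8b46ccc9, r2A), (0x6224d3554959e977c61674c8510c01, 0x908d42a6e7b3e08591c3aaa2c081b3, r2A), (0x62d13a3c8d92a17b38d52a4f110c01, 0xa05d242a6f2aeb00588715c6d32591, r2A), (0x64969858f3410d7a968f8b54e10c01, 0x751a20c240256c79947742d4f8b126, r2A), (0x698b13ba8a64aef4c1649daa810c01,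 0x505d195d8da90af1cc54400f049acb, r2A), (0x6a22e596a64d2e7991f66424a10c01, 0x55e8e5ce1111cb5b04647b1a032512, r2A), (0x6a9c57c6489d6eb658f04928610c01, 0x782ecb490a592ad98685826263b862, r2A), (0x71a95834b345e4449d6f55a2c10c01, 0x28d917dcf542894b4d72689d049820, r2A), (0x7208c4a8ab35cf484a766be3510c01, 0xa0ee85c4053c2b2532c27b824325b3, r2A), (0x726b4448af85dac32ad33ae2410c01, 0x7148f14da95c54c942e3452a7b1820, r2B), (0x72db27d0a89deaab30d02262710c01, 0x95e8d5cea3b220522982745e732401, r2A), (0x73cea5b0a9b5c929d206aa22d10c01, 0xa88b709e6b1bd8e012c6525b144a90, r2A), (0x7418431cb64dd55435eb94e3410c01, 0x5a4886c4a60d9f7a541064d5210cee, r2A), (0x74d47b10a65dd8d7d509a423210c01, 0x7aa302dd60355b34b1c7a06c418a48, r2A), (0x75a4d9d4b07de875912861a2a10c01, 0x1b02b200d0509377d66829ecd8ba54, r2B), (0x7a54c29d0ebc094356d192e6d10c01, 0x9deb2b28706d1c803c82285678b0c9, r2A), (0x7aa958b665ba2492598e31e0b10c01, 0x754202c1423da928bd0b25c6c49a6d,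 r2A), (0x7d13672e11bccca932a52350710c01, 0x22c76050c9b85a58285194d8871eaf, r2A), (0x81e95735172ce4b61891b29e910c01, 0x549b3119c558d37245e7432d500690, r2A), (0x8258a8927773cf5352c56ad1210c01, 0xa237550a03266c5924e6d8f0abc43, r2A), (0x848cb2d9f78a12aa31ae2566710c01, 0x988aea0d2d30577392c0aaa0f9222c, r2A), (0x891f3a42f2a950b6254d31dd610c01, 0x1a60d9dc44a222009dcc2aa465d9f5, r2A), (0x89a4d456ef8168a4b173259c710c01, 0xb1a705356770e880c8057a45525d91, r2A), (0x89d1094ef4695e952d95b11c610c01, 0x52e0d7d4b39110110c14b1ae9645c7, r2A), (0x8a5b2852f3416a7312cf62dca10c01, 0x316c3209378857074d4ca1c0dabe48, r2A), (0x8aa086bef5916663d8945b1c910c01, 0x38aa86d1cf85e6658c32b248064545, r2A), (0x8aeb49caf0795a4b1cc8525cc10c01, 0x6b890622b37954b882470d2e910cd6, r2B), (0x8b26faa2eda1616218f24a9cb10c01, 0x4b0e5708d6535712564343e7700690, r2A), (0x8da957b6e89964c5a930399c410c01, 0xbc434b4115cab321d8e4428ab18b7, r2B), (0x910ae7dda89d229399905aab610c01,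 0x29aa86a9c39c8f788482601e95da90, r2A), (0x91a2525eac535d04bd6745a9310c01, 0x79e685d5a11428020ee933a568b0aa, r2A), (0x93dd135e8bb54a78110964daa10c01, 0xbba23510533b2c06a2140957249aaf, r2A), (0x9a487bb2112a152336cea2df510c01, 0x2068dbd4ee2b24f1a011989505d926, r2A), (0x9b295bb5ee8c2563a5455910610c01, 0x696e498203a082a7b8ebaa2d2644c9, r2A), (0x9b566ba50573ecaab2512520710c01, 0x91a744018f25d2a69431b42ab10dc7, r2A), (0xa19d7515a7256284cd6c85a4f10c01, 0x6d953340e8095cf226f592e808b062, r2A), (0xa32377baa89c8b652c9031da910c01, 0x181626a2d19c9e171cac326aaa42e4, r2A), (0xa40b74c6565b5c779266622aa10c01, 0x1e615c28e19932132c5429b125df5, r2A), (0xa9aee646443d0b34a16a7d9b010c01, 0x592d33d2152b44e4a0d255c6f64401, r2A), (0xa9ef1796889b5c622550b324b10c01, 0x1c856051710b66f3a8ac4560e326e4, r2A), (0xacee5b39a934a274120b63e8a10c01, 0x9a5aa350f20c1c4a8d0fb80a28b2cb, r2A), (0xb5c8a41ccf8258d2d1d39457510c01, 0x6454d342d245cee14c89a2c657d420,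 r2A), (0xb5db23d12c22eb07222a994cf10c01, 0x324ad64e42b55437dd048840b3ba90, r2A), (0xb5e13a2175699e489cb25392c10c01, 0x449c00a5e7508b7ac2c6a0d64645b3, r2A), (0xb9ab47ca289b9a749170658aa10c01, 0x50a6c6a200a9c8ea5a4188de64acb7, r2B), (0xba6959b6307ba4a332c822ca710c01, 0x8504343493532b103a47485ebb18b7, r2B), (0xbae4d8563343a8cb28cf3a4a410c01, 0x20525b2d868cef002aae3b50fa4862, r2B), (0xbd9b24522f83aa459d33518ac10c01, 0x9a04b72555690723dd912c1f4080d6, r2B)]

theorem ctab2_ok : tabOk ctab2 = true := by decide +kernel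

theorem s2_good : good s2 = true := by decide +kernel

theorem cls2_ok : allS4 (fun P Q R => tstP (ordB 2) ctab2 (mulP (mulP s2 P) (mulP Q R))) = true := by decide +kernel

def s3 : ℕ := 0x3ce88838776a8cf945365959520041

def r3A : ℕ := 0x8bcd6925d5a5d674326d540a418820

def r3B : ℕ := 0xae675324f45891755b010ee9050a6

def ctab3 : List (ℕ × ℕ × ℕ) := [(0x1956f3558e42a2d94274b24f720041, 0xa5d4c04d2b8b88dad872298223c10f, r3B), (0x1ba727a4f1ab0b63368b8215720041, 0x3591584cf47ae4e2454d125801dca1, r3B), (0x1c6869214549dd07d9736d59720041, 0x29cc3b2c4cabe125526e40221bb524, r3B), (0x29ecd45d3434e111bd8eaaa4b20041, 0x3d5500524828df1705869dc4bb11a9, r3B), (0x2a06cb9e566a54ba3cd08ba7520041, 0x699944a1e00b8a715ec382c928d553, r3B), (0x2b50e5526c1c8cb846e7ad92f20041, 0xb8871ab14474a896cca031c2bb21f0, r3B), (0x30df12d5c9951773c1536b11620041, 0xa8cb0905e4ba16a73531b4d86008f4, r3B), (0x33ef09d905939a35aa293d68c20041, 0x9a1361ad4f680b5088ec24a9033a37,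 r3A), (0x35c6a4b293920ef6c6055d9d520041, 0x49194bd8457546b31c33035528a1f0, r3B), (0x3a5c6b506dba90b2d6707c99120041, 0x2d1c41360c0da2032cf2ba4687aa75, r3B), (0x3c1068b94bab292b4eef4b46520041, 0x12988b9035925ed994f1a42ce58066, r3B), (0x3ca175b58fa8ec849a71a154e20041, 0x3a9b42d4044c666bb8231596c93e08, r3B), (0x431256ccd7b524f1d55089dcb20041, 0x4d643d183ab44a2d9c694521bc10f, r3B), (0x43d32395c361a76add6a6c69020041, 0x2d10c045733b8627861735a5553524, r3B), (0x459338ca957b8acb8e0b3b4ca20041, 0x481c868d7109285956f313ed033147, r3A), (0x48e887ba6b894d0634f5baa5620041, 0x781552b822bd927a11138356334592, r3B), (0x4a2d75c2517cdac72a95198a720041, 0x8adb7540d521ca160dc8a080fb4a69, r3A), (0x4dce38b0af5c94e81ad54367420041, 0x72d070b4b262464882cf81af414eaa, r3B), (0x52e45824edb0e747a2b73458e20041, 0x74de74a22da8c9455a0b9304605ca1, r3B), (0x540b3424667324fbadb4ad8f120041, 0x752159c867b86255d98a409e603524, r3B), (0x555b075d8831ec97ca349ac6520041,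 0x1c642499540b595b826721576721f0, r3B), (0x58cb2a4ea643d2d55d8e81e3620041, 0x7b27411eae19924441a05d9528dca1, r3B), (0x5ce16a5e2e355ac90d28395ea20041, 0x83cf6a182a6b003adca222d0e8ca69, r3A), (0x5dceaa0de874589b4da62c2b220041, 0x54ce01a6379320fa9901116846b976, r3B), (0x61975bc4ed829f3a25d69206520041, 0x6ca084bac01d0c479c515b2e50d553, r3B), (0x6417193d4998ea66d2c545cee20041, 0x33517930248d1e381535502623b976, r3B), (0x652ed9407329ed573cc95a15120041, 0x80d007582b91ccfa46aa14d972b524, r3B), (0x69df532ee8a42335486e2b2c920041, 0x9195382e29a9188758ad1bc01b9e82, r3B), (0x6a8c82d2d34ddd51c4f27b20b20041, 0x2027651f248cd7ac1a22162a9aece, r3B), (0x6b249ace0f8d8ae520eba0ee620041, 0x6c427b960f4309230c40a592e5ceaa, r3B), (0x731b75d9158d2123946f9a8c920041, 0x484c43dd60b34651224ea3e1162a75, r3B), (0x736351be8a61972b26072dd1320041, 0x9d10f2b2068a8f210c096d481bb976, r3B), (0x73d4c68cd6820e58a6b79ae9220041, 0x7d5c260c8a9a2346d970924e605ca1,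 r3B), (0x7a9c8b1ab78468564c6d91d6920041, 0xa01131b5e23c2b16182a492572aece, r3B), (0x7ce8e519633d50d2da4cba63020041, 0xb91d649d030ad9283691289e604eaa, r3B), (0x7d91499a324adcc6aae51c2a720041, 0x486c3234089c6e27164f32e9583147, r3A), (0x81987a8ef15d9534168f4b9b220041, 0x18a2e614c069e7222969b52a1bbe08, r3B), (0x82467429aea5d9192ca67ced520041, 0x12de405d5469eb3285c648ed044a2c, r3B), (0x82d834aac59b4e68a1f2756f420041, 0x93dc51a60c31c5643404a2e21baa75, r3B), (0x8aaf62b6b29ae083d18970de620041, 0xa814379e748345121992485172d9cb, r3B), (0x8b6535156763d2ebd2c3342a820041, 0x3af2604c43d2c21c5734b4b553e08, r3B), (0x8cd4381df6bd5884b8ad3497420041, 0x992234894dab1d67c90ba1e06006e5, r3B), (0x92ed03b4ac54ef4a9a2373d2820041, 0x586f04ba6f112c82d2a369d4604592, r3B), (0x945d4b22706a4cc58eb73bcaa20041, 0x72aa53dd825990124a111b4134d1f6, r3A), (0x954ec72934414708dd66b3e6d20041, 0xa349541caa0423308ae648dec92ece, r3B), (0x99deb844b76a6b46395640e4620041,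 0x8da0690a8c7cd001d54e590ed4dca1, r3B), (0x9a22b65643515f7335c7b513020041, 0x1cb5306f2725639d882a29b1621f0, r3B), (0x9daab33d3474a23829a83dcac20041, 0xb14317b2b73aa0b700c21d08d44d32, r3A), (0xa16af6c4d0bb96c9a9361c90720041, 0x430ad7d4c258683b100a9c0e995dd1, r3A), (0xa260d3d90a19af19d64c595cf20041, 0x2d6d73a86b8a426a3a601348c93e08, r3B), (0xa49477b1d55a0769c0b1ba4cd20041, 0x2da1762ea88ccce93c4a09e801a48d, r3B), (0xa99b61c167546e97150c951f320041, 0x3cd0b5e818886a3cab32a18e591a9, r3B), (0xaba65bca30b3d23a290d3996c20041, 0xb45eaa1065bba4d381331058859ab0, r3A), (0xad18a49df22ac773591383a2d20041, 0x7c51220d6670ab0a312d01eca986e5, r3B), (0xb162f62daa3c2a64ba43a4ee820041, 0x441574aea60826d70ed2291f161e82, r3B), (0xb3a69616071de5542cca8d1af20041, 0x3882e2c12d051178b2d222de332a75, r3B), (0xb44ce1a2ec3b685ac9ea4ae1320041, 0x30ec98a0173b48173e9012cac94eaa, r3B), (0xbc8d4ab9ab7d9032a9313ce0c20041, 0x45a14399625cf0788aa1ae86acd32,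 r3A), (0xbd2b19aec92c1ec40dd2399aa20041, 0xc8091da6d8a2e279d74291cc55606, r3A), (0xbd4a974a06a366c5a9e81c6c720041, 0x5e28a8d3359a05105a4549c765a8f, r3A)]

theorem ctab3_ok : tabOk ctab3 = true := by decide +kernel

theorem s3_good : good s3 = true := by decide +kernel

theorem cls3_ok : allS4 (fun P Q R => tstP (ordB 3) ctab3 (mulP (mulP s3 P) (mulP Q R))) = true := by decide +kernel

def s5 : ℕ := 0xb82d5a4e5183dcd62d4941cc520c41

def r5A : ℕ := 0x2deb34d9b1a21cc928d03bd6020c41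

def ctab5 : List (ℕ × ℕ × ℕ) := [(0x2deb34d9b1a21cc928d03bd6020c41, 0xbdab49ca307b9ac5a928398a418820, r5A), (0x32e14745f69c92c428b53b6e020c41, 0x2a695835d34464c32acf3aee418820, r5A), (0x43ecea55704966c32a513dda020c41, 0x7008648e070be6c8d44853697b4965, r5A), (0x4d9f22de0b450cc9a9cd3d62020c41, 0x5b017716110d8676aa42a911479933, r5A), (0x59a758b909836cc7aaf43c8a020c41, 0x7810e80a2998c8ca54cd504eb2ded2, r5A), (0x6c9d684cb48aeacba9e93990020c41, 0x44e34324afbb60a71ed26556020c41, r5A), (0x745a832eb794caca292f3c2c020c41, 0x90891ba06b7581581d8d514264ce8f, r5A), (0x7a131ad0d3b5e0c5a9ae3964020c41, 0x5da917c1a69152aa9e776390020c41, r5A), (0x84cd76c9285c5ecb2aa53ba8020c41, 0x34909b55af2c6e75b1d45426101062, r5A), (0x8ba4f59a856c2ecaaac83cd2020c41, 0x9a006185317c28c255c7509ab2ded2, r5A), (0x936299c2f571a8c2a9163ade020c41, 0x8dd0bab60e9a4aa79e5661a8020c41, r5A), (0x9c165936cf3390c4aa973c6a020c41, 0x418408452fa1dac1d48e54c37b4965,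 r5A), (0xa56e643e2d2a64c72a6b3da0020c41, 0xb2e57145886821521c23515d3a3cc9, r5A), (0xad0ab7a1d2bd9ac8aa063a66020c41, 0x78e844b431308ea0320eaa272596f6, r5A), (0xb250db96667d56c82a323d1c020c41, 0x6b8568920b606f529d035480f32674, r5A), (0xb9690b264eabe2c6a9733a0c020c41, 0x612111decd43a5559ca250413a3cc9, r5A)]

theorem ctab5_ok : tabOk ctab5 = true := by decide +kernel

theorem s5_good : good s5 = true := by decide +kernel

theorem cls5_ok : allS4 (fun P Q R => tstP (ordB 5) ctab5 (mulP (mulP s5 P) (mulP Q R))) = true := by decide +kernel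

def s7 : ℕ := 0xb82d5a4e5183dcd62d4941cc520c41

def r7A : ℕ := 0x2d2ef74973ab4cc81d360450a20c41

def r7B : ℕ := 0x2da34ba51232e07aaa6f039ac20c41

def ctab7 : List (ℕ × ℕ × ℕ) := [(0x2d2ef74973ab4cc81d360450a20c41, 0xbdab49ca307b9ac5a928398a418820, r7A), (0x2da34ba51232e07aaa6f039ac20c41, 0xbdab49ca307b9ac5a928398a418820, r7B), (0x339058aef0a3da0b2a696564720c41, 0x15895014297d18e448ea98ef05c4cd, r7A), (0x342762d64d5ddcc88128551e720c41, 0x7acae6de759222a49ed461a0418820, r7B), (0x425f7999aeb2e4c89e95040aa20c41, 0xb5de894d6da9a0c8a8b43b92418820, r7A), (0x446efb49b59acca4820e3d0ac20c41, 0xa3acb9a5a8854cab9caf6464418820, r7A), (0x450d2abdb672ee082933644a720c41, 0x994c86d977a3e01ab24e0452751062, r7A), (0x45930944b77b68ca82665396720c41, 0xad02e1918b53cd602451920f0696f3, r7B), (0x4966ebda2f942a05a9066368720c41, 0xaaa8079122186cd64ae5720f382e26, r7A), (0x4a2d534e327c1cc69cb702e8a20c41, 0x33a7051183908290562db9d6fa5905, r7A),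 (0x4b6b67ba373426a401723968c20c41, 0x78d22521943d891baea5900266ba70, r7A), (0x4dd68b1693745a77aa5501a0c20c41, 0xbcc824b432382d1650a342a155b8cf, r7B), (0x5d2469dcaeb21ea801353c5ac20c41, 0x822364adee2b6e399246652a2080ea, r7A), (0x5d634925b779600b31c63cd0a20c41, 0x8766c0875258f0a257a1671aadc6, r7B), (0x6ba347a5669220c982b7558a720c41, 0x2a496009900cdb43a0778c9555b8cf, r7B), (0x6c2ef9c90eb14c0a2a356256720c41, 0xa0ec14b0a4129eb04ae88d4e66ba70, r7A), (0x6ce91941777a12772ac6054ac20c41, 0x910f61cc0a2c4d7587584545bcd32, r7B), (0x6da093516fba220ab2723b8aa20c41, 0x7510c012af309728c0e3b054d2de69, r7B), (0x736574be708d8cc580b4522a720c41, 0x2c1f7a99767364aa02333a50c20c41, r7B), (0x73e116a6cb2d68a902e839a6c20c41, 0xbc7629e84a89135380c926f05c4cd, r7A), (0x7c6ae2ceed5cac0832883a4ca20c41, 0x101578342c194ef22276a2651aadc6, r7B), (0x7d90582e51499ac71eb404eea20c41, 0x530238ce0b3b6497500279896416f5, r7A), (0x815d3356927a6ca581173b62c20c41,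 0x1bce542ae44829162c2295aa66ba70, r7A), (0x81968a962e9d1ac901f655d2720c41, 0x7c48b19d4613a96634352a0179a650, r7B), (0x8490b9b636ad0a732aee03d2c20c41, 0x2c10eb4a8d899225aaef1d66101d84, r7B), (0x85da572235b51607b2533992a20c41, 0x5ba2c186953110d79402b28f79a650, r7B), (0x8aeb6339327d2602a9b76220720c41, 0xb0921b9e8a602ad1c9e87149382e26, r7A), (0x8bd6899616aa5a0bb0ce3ca8a20c41, 0x95da45093329ec88440ca04755b8cf, r7B), (0x942ae6ccc543ec78a92b052ec20c41, 0x722d7aad2f6962092a900ccc761062, r7B), (0x9596d8a1f0a5caa702a93cccc20c41, 0x5485171dac311741bc204ce16416f5, r7A), (0x9b5e6849c9a56e75a8b1022cc20c41, 0x8adb2452ef816acb28d33a5c418820, r7B), (0x9c9346c2ab2da207a8c865dc720c41, 0x158e91d14fba093ac80c804ab899ae, r7A), (0xa16b693a06bc66c59d0f0352a20c41, 0x501877362b21a6995843a40282deaf, r7A), (0xa5cad9ad36ac10c7824e51a2720c41, 0x695905081724e541c429ad8eb719e8, r7B), (0xa99342c2686ba2ab824b3becc20c41, 0xa8aec020f62254e7b4b490c3382e26,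 r7A), (0xaade64cad08cee06b114395ca20c41, 0x38c096d84a0958e21a12a4eef446ab, r7B), (0xabe30452655b92092aed61ac720c41, 0x2cd11a1acb74aa36b2ef1260101d44, r7A), (0xade896c66b2ba0c31de804aca20c41, 0x510e0a22d5125f2bac2c81471335d3, r7A), (0xb14cf4deb08ba47429b402e6c20c41, 0x92481bc076129ab3d0a0ab26e33d11, r7B), (0xb21e68cab44baec281705366720c41, 0x798b59daeb6d10a90a0e0c5203b083, r7B), (0xb36f2a1ab1839e05b0a93a26a20c41, 0x381934dc831582653e0da16488d56e, r7B), (0xb3d345c1cd44e2c91ee501aaa20c41, 0x2284c71a113cd696d460bc82fa5905, r7A), (0xba5d52d9ed59a67a2a080464c20c41, 0x50911385c45bd85ad874698179a650, r7B), (0xbc2d3439eb69aa08b1253d24a20c41, 0xa3d0113166a9e2d71543b00979a650, r7B), (0xbcd05a2cc98c9aaa81d03d9ec20c41, 0x90603144ee51997595b3480957d2c8, r7A), (0xbd2ae5cde829acc4822d5424720c41, 0xa3d4601c752391609451bad934ca0d, r7B), (0xbd4a88b4d0a496c99ec9039ea20c41, 0x4d6f69c5d24196c80df4234a2080ea, r7A), (0xbd9ab494d48490072ab164de720c41,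 0x6486b0b8f134c948244ab01a82deaf, r7A)]

theorem ctab7_ok : tabOk ctab7 = true := by decide +kernel

theorem s7_good : good s7 = true := by decide +kernel

theorem cls7_ok : allS4 (fun P Q R => tstP (ordB 7) ctab7 (mulP (mulP s7 P) (mulP Q R))) = true := by decide +kernel


theorem frame_conj {g : Equiv.Perm GolayPt} {x0 x1 x2 x3 x4 : GolayPt} (hnd : [x0, x1, x2, x3, x4].Nodup) :
    ∃ k ∈ M24, ∀ i j : ℕ, i < 5 → j < 5 → g ([x0, x1, x2, x3, x4].getD i x0) = [x0, x1, x2, x3, x4].getD j x0 →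
      (k * g * k⁻¹) (pt i) = pt j := by
  obtain ⟨k, hk, e0, e1, e2, e3, e4⟩ := frame5 hnd
  refine ⟨k, hk, fun i j hi hj h => ?_⟩
  have key : ∀ i < 5, k ([x0, x1, x2, x3, x4].getD i x0) = pt i := by
    intro i hi
    interval_cases i <;> assumption
  have h1 : k⁻¹ (pt i) = [x0, x1, x2, x3, x4].getD i x0 := by
    rw [Equiv.Perm.inv_eq_iff_eq, key i hi]
  rw [Equiv.Perm.mul_apply, Equiv.Perm.mul_apply, h1, h, key j hj]

theorem exists_moved {g : Equiv.Perm GolayPt} (hg : g ∈ M24) (h1 : g ≠ 1) (l : List GolayPt) (hl : l.length ≤ 14) :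
    ∃ a, a ∉ l ∧ g a ≠ a := by
  classical
  by_contra hc
  push Not at hc
  apply h1
  apply eq_one_of_fix_ten hg ((l.toFinset)ᶜ)
  · rw [Finset.card_compl]
    have := l.toFinset_card_le
    have h24 : Fintype.card GolayPt = 24 := by decide
    omega
  · intro p hp
    rw [Finset.mem_compl, List.mem_toFinset] at hp
    exact hc p hp

theorem class2 {g : Equiv.Perm GolayPt} (hg : g ∈ M24) (h2 : g ^ 2 = 1) (h1 : g ≠ 1) :
    ∃ k ∈ M24, ∃ e ∈ ctab2, Packs e.1 (k * g * k⁻¹) ∧ ∃ k ∈ M24, Packs e.2.2 (k * g * k⁻¹) := by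
  have hgg : ∀ x, g (g x) = x := fun x => by
    have := congrArg (fun (f : Equiv.Perm GolayPt) => f x) h2
    simpa [pow_two] using this
  obtain ⟨a, -, ha⟩ := exists_moved hg h1 [] (by simp)
  obtain ⟨c, hc, hc'⟩ := exists_moved hg h1 [a, g a] (by simp)
  obtain ⟨e, he, -⟩ := exists_moved hg h1 [a, g a, c, g c] (by simp)
  simp only [List.mem_cons, List.not_mem_nil, or_false, not_or] at hc he
  have hcg : g c ≠ a := fun h => hc.2 (by rw [← h, hgg])
  have hcg' : g c ≠ g a := fun h => hc.1 (g.injective h)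
  obtain ⟨k, hk, hkg⟩ := frame_conj (g := g) (x0 := a) (x1 := g a) (x2 := c) (x3 := g c) (x4 := e) (by
    simp only [List.nodup_cons, List.mem_cons, List.not_mem_nil, or_false, not_or, List.nodup_nil, and_true,
      not_false_eq_true]
    exact ⟨⟨fun h => ha h.symm, fun h => hc.1 h.symm, fun h => hcg h.symm, fun h => he.1 h.symm⟩,
      ⟨fun h => hc.2 h.symm, fun h => hcg' h.symm, fun h => he.2.1 h.symm⟩,
      ⟨fun h => hc' h.symm, fun h => he.2.2.1 h.symm⟩, fun h => he.2.2.2 h.symm⟩)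
  have hk2 : (k * g * k⁻¹) ^ 2 = 1 := by rw [conj_pow, h2]; group
  obtain ⟨e, he, h3, k', hk', -, h4⟩ := classify s2_good (ordB 2) ctab2 cls2_ok ctab2_ok
    (mul_mem (mul_mem hk hg) (inv_mem hk)) (hkg 0 1 (by norm_num) (by norm_num) rfl)
    (hkg 1 0 (by norm_num) (by norm_num) (hgg a)) (hkg 2 3 (by norm_num) (by norm_num) rfl)
    (hkg 3 2 (by norm_num) (by norm_num) (hgg c)) (fun T hT => ordB_spec hT hk2)
  refine ⟨k, hk, e, he, h3, k' * k, mul_mem hk' hk, ?_⟩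
  have : k' * k * g * (k' * k)⁻¹ = k' * (k * g * k⁻¹) * k'⁻¹ := by group
  rw [this]; exact h4

theorem class3 {g : Equiv.Perm GolayPt} (hg : g ∈ M24) (h2 : g ^ 3 = 1) (h1 : g ≠ 1) :
    ∃ k ∈ M24, ∃ e ∈ ctab3, Packs e.1 (k * g * k⁻¹) ∧ ∃ k ∈ M24, Packs e.2.2 (k * g * k⁻¹) := by
  have hgg : ∀ x, g (g (g x)) = x := fun x => by
    have := congrArg (fun (f : Equiv.Perm GolayPt) => f x) h2
    simpa [pow_succ] using this
  obtain ⟨a, -, ha⟩ := exists_moved hg h1 [] (by simp)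
  obtain ⟨c, hc, hc'⟩ := exists_moved hg h1 [a, g a, g (g a)] (by simp)
  simp only [List.mem_cons, List.not_mem_nil, or_false, not_or] at hc
  have hcg : g c ≠ a := fun h => hc.2.2 (by rw [← h, hgg])
  have hcg' : g c ≠ g a := fun h => hc.1 (g.injective h)
  have hcg2 : g c ≠ g (g a) := fun h => hc.2.1 (g.injective h)
  have ha2 : g (g a) ≠ a := fun h => ha (by rw [← h, hgg]; exact h.symm)
  have ha3 : g (g a) ≠ g a := fun h => ha (g.injective h)
  obtain ⟨k, hk, hkg⟩ := frame_conj (g := g) (x0 := a) (x1 := g a) (x2 := g (g a)) (x3 := c) (x4 := g c) (by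
    simp only [List.nodup_cons, List.mem_cons, List.not_mem_nil, or_false, not_or, List.nodup_nil, and_true,
      not_false_eq_true]
    exact ⟨⟨fun h => ha h.symm, fun h => ha2 h.symm, fun h => hc.1 h.symm, fun h => hcg h.symm⟩,
      ⟨fun h => ha3 h.symm, fun h => hc.2.1 h.symm, fun h => hcg' h.symm⟩,
      ⟨fun h => hc.2.2 h.symm, fun h => hcg2 h.symm⟩, fun h => hc' h.symm⟩)
  have hk2 : (k * g * k⁻¹) ^ 3 = 1 := by rw [conj_pow, h2]; group
  obtain ⟨e, he, h3, k', hk', -, h4⟩ := classify s3_good (ordB 3) ctab3 cls3_ok ctab3_ok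
    (mul_mem (mul_mem hk hg) (inv_mem hk)) (hkg 0 1 (by norm_num) (by norm_num) rfl)
    (hkg 1 2 (by norm_num) (by norm_num) rfl) (hkg 2 0 (by norm_num) (by norm_num) (hgg a))
    (hkg 3 4 (by norm_num) (by norm_num) rfl) (fun T hT => ordB_spec hT hk2)
  refine ⟨k, hk, e, he, h3, k' * k, mul_mem hk' hk, ?_⟩
  have : k' * k * g * (k' * k)⁻¹ = k' * (k * g * k⁻¹) * k'⁻¹ := by group
  rw [this]; exact h4


theorem pow_fix {g : Equiv.Perm GolayPt} {p : ℕ} (hp : p.Prime) (hgp : g ^ p = 1) {a : GolayPt} {m : ℕ}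
    (hm : ¬ p ∣ m) (h : (g ^ m) a = a) : g a = a := by
  have h1 : Function.IsPeriodicPt g p a := by
    show g^[p] a = a
    rw [Equiv.Perm.iterate_eq_pow, hgp, Equiv.Perm.one_apply]
  have h2 : Function.IsPeriodicPt g m a := by
    show g^[m] a = a
    rw [Equiv.Perm.iterate_eq_pow, h]
  have h3 := h1.gcd h2
  rw [(Nat.Prime.coprime_iff_not_dvd hp).mpr hm] at h3
  exact h3

theorem orbit5_nodup {g : Equiv.Perm GolayPt} {p : ℕ} (hp : p.Prime) (h5 : 5 ≤ p) (hgp : g ^ p = 1) {a : GolayPt}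
    (ha : g a ≠ a) : [a, g a, g (g a), g (g (g a)), g (g (g (g a)))].Nodup := by
  have h1 : [a, g a, g (g a), g (g (g a)), g (g (g (g a)))] = [0, 1, 2, 3, 4].map (fun i => (g ^ i) a) := by
    simp [pow_succ]
  rw [h1, List.nodup_map_iff_inj_on (by decide)]
  have key : ∀ i j : ℕ, i < j → j < 5 → (g ^ i) a ≠ (g ^ j) a := by
    intro i j hij hj h
    apply ha
    apply pow_fix hp hgp (m := j - i)
    · intro hd
      have := Nat.le_of_dvd (by omega) hd
      omega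
    · have : g ^ j = g ^ i * g ^ (j - i) := by rw [← pow_add]; congr 1; omega
      rw [this, Equiv.Perm.mul_apply] at h
      exact ((g ^ i).injective h).symm
  have hlt : ∀ i ∈ [0, 1, 2, 3, 4], i < 5 := by decide
  intro i hi j hj h
  rcases lt_trichotomy i j with h2 | h2 | h2
  · exact absurd h (key i j h2 (hlt j hj))
  · exact h2
  · exact absurd h.symm (key j i h2 (hlt i hi))

theorem class5 {g : Equiv.Perm GolayPt} (hg : g ∈ M24) (h2 : g ^ 5 = 1) (h1 : g ≠ 1) :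
    ∃ k ∈ M24, ∃ e ∈ ctab5, Packs e.1 (k * g * k⁻¹) ∧ ∃ k ∈ M24, Packs e.2.2 (k * g * k⁻¹) := by
  obtain ⟨a, -, ha⟩ := exists_moved hg h1 [] (by simp)
  obtain ⟨k, hk, hkg⟩ := frame_conj (g := g) (x0 := a) (x1 := g a) (x2 := g (g a)) (x3 := g (g (g a)))
    (x4 := g (g (g (g a)))) (orbit5_nodup (p := 5) (by norm_num) le_rfl h2 ha)
  have hk2 : (k * g * k⁻¹) ^ 5 = 1 := by rw [conj_pow, h2]; group
  obtain ⟨e, he, h3, k', hk', -, h4⟩ := classify s5_good (ordB 5) ctab5 cls5_ok ctab5_ok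
    (mul_mem (mul_mem hk hg) (inv_mem hk)) (hkg 0 1 (by norm_num) (by norm_num) rfl)
    (hkg 1 2 (by norm_num) (by norm_num) rfl) (hkg 2 3 (by norm_num) (by norm_num) rfl)
    (hkg 3 4 (by norm_num) (by norm_num) rfl) (fun T hT => ordB_spec hT hk2)
  refine ⟨k, hk, e, he, h3, k' * k, mul_mem hk' hk, ?_⟩
  have : k' * k * g * (k' * k)⁻¹ = k' * (k * g * k⁻¹) * k'⁻¹ := by group
  rw [this]; exact h4

theorem class7 {g : Equiv.Perm GolayPt} (hg : g ∈ M24) (h2 : g ^ 7 = 1) (h1 : g ≠ 1) :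
    ∃ k ∈ M24, ∃ e ∈ ctab7, Packs e.1 (k * g * k⁻¹) ∧ ∃ k ∈ M24, Packs e.2.2 (k * g * k⁻¹) := by
  obtain ⟨a, -, ha⟩ := exists_moved hg h1 [] (by simp)
  obtain ⟨k, hk, hkg⟩ := frame_conj (g := g) (x0 := a) (x1 := g a) (x2 := g (g a)) (x3 := g (g (g a)))
    (x4 := g (g (g (g a)))) (orbit5_nodup (p := 7) (by norm_num) (by norm_num) h2 ha)
  have hk2 : (k * g * k⁻¹) ^ 7 = 1 := by rw [conj_pow, h2]; group
  obtain ⟨e, he, h3, k', hk', -, h4⟩ := classify s7_good (ordB 7) ctab7 cls7_ok ctab7_ok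
    (mul_mem (mul_mem hk hg) (inv_mem hk)) (hkg 0 1 (by norm_num) (by norm_num) rfl)
    (hkg 1 2 (by norm_num) (by norm_num) rfl) (hkg 2 3 (by norm_num) (by norm_num) rfl)
    (hkg 3 4 (by norm_num) (by norm_num) rfl) (fun T hT => ordB_spec hT hk2)
  refine ⟨k, hk, e, he, h3, k' * k, mul_mem hk' hk, ?_⟩
  have : k' * k * g * (k' * k)⁻¹ = k' * (k * g * k⁻¹) * k'⁻¹ := by group
  rw [this]; exact h4

/-! ### Representatives -/

/-- the points fixed by a packed permutation form the set with mask `m` -/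
def chkFixP (T m : ℕ) : Bool := ixs.all fun i => (m.testBit i == Nat.beq (img T i) i)

theorem fix_eq {T m : ℕ} (h : chkFixP T m = true) {g : Equiv.Perm GolayPt} (hT : Packs T g) :
    (Finset.univ.filter fun p => g p = p) = toFS m := by
  rw [chkFixP, List.all_eq_true] at h
  ext p
  have h1 := h (idx p) (mem_ixs.mpr (idx_lt p))
  rw [beq_iff_eq, ← hT] at h1
  rw [Finset.mem_filter, mem_toFS, h1]
  constructor
  · rintro ⟨-, h2⟩; rw [h2]; exact Nat.beq_refl _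
  · intro h2; exact ⟨Finset.mem_univ _, idx_injective (Nat.eq_of_beq_eq_true h2)⟩

theorem fix_conj (k g : Equiv.Perm GolayPt) :
    (Finset.univ.filter fun p => (k * g * k⁻¹) p = p) = k • (Finset.univ.filter fun p => g p = p) := by
  ext p
  rw [Finset.mem_smul_finset, Finset.mem_filter]
  constructor
  · rintro ⟨-, h⟩
    refine ⟨k⁻¹ p, Finset.mem_filter.mpr ⟨Finset.mem_univ _, ?_⟩, app_inv k p⟩
    apply k.injective
    have h' : k (g (k⁻¹ p)) = p := h
    rw [h', app_inv]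
  · rintro ⟨q, hq, rfl⟩
    rw [Finset.mem_filter] at hq
    refine ⟨Finset.mem_univ _, ?_⟩
    have h2 : k⁻¹ (k • q) = q := by rw [Equiv.Perm.inv_eq_iff_eq]; rfl
    rw [Equiv.Perm.mul_apply, Equiv.Perm.mul_apply, h2, hq.2]; rfl

theorem card_fix_conj (k g : Equiv.Perm GolayPt) :
    (Finset.univ.filter fun p => (k * g * k⁻¹) p = p).card = (Finset.univ.filter fun p => g p = p).card := by
  rw [fix_conj, card_smul']

end CfsgLib.Golay
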