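import Mathlib
import Cfsg.Agent.Lib.Golay

/-!
Packed permutations of the 24 points, a strong generating set, and the frame theorem.
-/

set_option autoImplicit false

namespace CfsgLib.Golay

open Cfsg
open scoped Pointwise

/-! ### The group and packed permutations -/

theorem mem_M24_iff {g : Equiv.Perm GolayPt} : g ∈ M24 ↔
    ∀ s ∈ supports (golayCode : Set (GolayPt → ZMod 2)), g • s ∈ supports (golayCode : Set (GolayPt → ZMod 2)) := by
  constructor
  · intro hg s hs
    have h : g • supports (golayCode : Set (GolayPt → ZMod 2)) = supports (golayCode : Set (GolayPt → ZMod 2)) := hg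
    rw [← h]; exact Set.smul_mem_smul_set hs
  · intro h
    show g • supports (golayCode : Set (GolayPt → ZMod 2)) = supports (golayCode : Set (GolayPt → ZMod 2))
    apply Set.eq_of_subset_of_ncard_le
    · rintro _ ⟨s, hs, rfl⟩; exact h s hs
    · rw [Set.ncard_smul_set]
    · exact Set.toFinite _

theorem M24_smul_supports {g : Equiv.Perm GolayPt} (hg : g ∈ M24) {s : Finset GolayPt} :
    g • s ∈ supports (golayCode : Set (GolayPt → ZMod 2)) ↔ s ∈ supports (golayCode : Set (GolayPt → ZMod 2)) := by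
  constructor
  · intro h
    have := mem_M24_iff.mp (inv_mem hg) _ h
    rwa [inv_smul_smul] at this
  · exact mem_M24_iff.mp hg s

theorem card_smul' (g : Equiv.Perm GolayPt) (s : Finset GolayPt) : (g • s).card = s.card :=
  Finset.card_smul_finset g s

theorem smul_mem_octads {g : Equiv.Perm GolayPt} (hg : g ∈ M24) {s : Finset GolayPt} :
    g • s ∈ octads ↔ s ∈ octads := by
  simp only [octads, wordsOfWeight, Set.mem_setOf_eq, M24_smul_supports hg, card_smul']

theorem smul_mem_dodecads {g : Equiv.Perm GolayPt} (hg : g ∈ M24) {s : Finset GolayPt} :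
    g • s ∈ dodecads ↔ s ∈ dodecads := by
  simp only [dodecads, wordsOfWeight, Set.mem_setOf_eq, M24_smul_supports hg, card_smul']

/-- `[0, …, 23]` -/
def ixs : List ℕ := [0, 1, 2, 3, 4, 5, 6, 7, 8, 9, 10, 11, 12, 13, 14, 15, 16, 17, 18, 19, 20, 21, 22, 23]

theorem mem_ixs {i : ℕ} : i ∈ ixs ↔ i < 24 := by
  constructor
  · intro h; simp [ixs] at h; omega
  · intro h
    have key : ∀ i : Fin 24, (i : ℕ) ∈ ixs := by decide
    exact key ⟨i, h⟩

/-- image of an index under a packed permutation (5 bits per entry) -/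
def img (P i : ℕ) : ℕ := Nat.land (Nat.shiftRight P (Nat.mul 5 i)) 31

/-- image of a mask under a packed permutation, accumulating -/
def actL (P m : ℕ) : List ℕ → ℕ → ℕ
  | [], acc => acc
  | i :: is, acc => actL P m is (Nat.lor acc (Nat.shiftLeft (Nat.land (Nat.shiftRight m i) 1) (img P i)))

/-- image of a mask under a packed permutation -/
def act (P m : ℕ) : ℕ := actL P m ixs 0

theorem testBit_bit (m i k j : ℕ) :
    (Nat.shiftLeft (Nat.land (Nat.shiftRight m i) 1) k).testBit j = true ↔ m.testBit i = true ∧ k = j := by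
  have h1 : Nat.land (Nat.shiftRight m i) 1 = (m.testBit i).toNat := by
    rw [Nat.toNat_testBit]
    show (m >>> i) &&& 1 = _
    rw [Nat.and_one_is_mod, Nat.shiftRight_eq_div_pow]
  show (Nat.land (Nat.shiftRight m i) 1 <<< k).testBit j = true ↔ _
  rw [h1, Nat.testBit_shiftLeft]
  cases m.testBit i with
  | false => simp
  | true =>
    simp only [Bool.toNat_true, Bool.and_eq_true, decide_eq_true_eq, true_and]
    constructor
    · rintro ⟨h2, h3⟩
      by_contra h4
      have : j - k ≠ 0 := by omega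
      obtain ⟨n, hn⟩ := Nat.exists_eq_succ_of_ne_zero this
      rw [hn] at h3
      simp [Nat.testBit_succ] at h3
    · rintro rfl; simp

theorem testBit_actL (P m : ℕ) (is : List ℕ) : ∀ acc j, (actL P m is acc).testBit j = true ↔
    (acc.testBit j = true ∨ ∃ i ∈ is, m.testBit i = true ∧ img P i = j) := by
  induction is with
  | nil => intro acc j; simp [actL]
  | cons i is ih =>
    intro acc j
    rw [actL, ih]
    have : (Nat.lor acc (Nat.shiftLeft (Nat.land (Nat.shiftRight m i) 1) (img P i))).testBit j = true ↔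
        acc.testBit j = true ∨ (m.testBit i = true ∧ img P i = j) := by
      show (acc ||| _).testBit j = true ↔ _
      rw [Nat.testBit_or, Bool.or_eq_true, testBit_bit]
    rw [this]
    constructor
    · rintro ((h | h) | ⟨k, hk, h⟩)
      · exact Or.inl h
      · exact Or.inr ⟨i, List.mem_cons_self .., h⟩
      · exact Or.inr ⟨k, List.mem_cons_of_mem _ hk, h⟩
    · rintro (h | ⟨k, hk, h⟩)
      · exact Or.inl (Or.inl h)
      · rw [List.mem_cons] at hk
        rcases hk with rfl | hk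
        · exact Or.inl (Or.inr h)
        · exact Or.inr ⟨k, hk, h⟩

theorem testBit_act {P m j : ℕ} : (act P m).testBit j = true ↔ ∃ i < 24, m.testBit i = true ∧ img P i = j := by
  rw [act, testBit_actL]
  simp only [mem_ixs, Nat.zero_testBit, Bool.false_eq_true, false_or]

/-- `P` packs the permutation `g` -/
def Packs (P : ℕ) (g : Equiv.Perm GolayPt) : Prop := ∀ p, idx (g p) = img P (idx p)

theorem Packs.act_lt {P : ℕ} {g : Equiv.Perm GolayPt} (h : Packs P g) (m : ℕ) : act P m < 2 ^ 24 := by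
  apply Nat.lt_pow_two_of_testBit
  intro j hj
  by_contra hc
  rw [Bool.not_eq_false, testBit_act] at hc
  obtain ⟨i, hi, _, h2⟩ := hc
  have := h (pt i)
  rw [idx_pt hi, h2] at this
  have h3 := idx_lt (g (pt i))
  omega

theorem Packs.mask_smul {P : ℕ} {g : Equiv.Perm GolayPt} (h : Packs P g) (s : Finset GolayPt) :
    mask (g • s) = act P (mask s) := by
  apply ext_mask (mask_lt _) (h.act_lt _)
  intro q
  rw [Bool.eq_iff_iff, testBit_mask, decide_eq_true_eq, testBit_act, Finset.mem_smul_finset]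
  constructor
  · rintro ⟨p, hp, rfl⟩
    refine ⟨idx p, idx_lt p, ?_, (h p).symm⟩
    rw [testBit_mask]; exact decide_eq_true hp
  · rintro ⟨i, hi, h1, h2⟩
    refine ⟨pt i, ?_, ?_⟩
    · rw [← idx_pt hi, testBit_mask] at h1
      exact of_decide_eq_true h1
    · apply idx_injective
      rw [Equiv.Perm.smul_def, h, idx_pt hi, h2]

theorem Packs.eq {P : ℕ} {g g' : Equiv.Perm GolayPt} (h : Packs P g) (h' : Packs P g') : g = g' := by
  ext1 p
  apply idx_injective
  rw [h, h']

theorem Packs.apply {P : ℕ} {g : Equiv.Perm GolayPt} (h : Packs P g) {i j : ℕ} (hi : i < 24) (hij : img P i = j) :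
    g (pt i) = pt j := by
  rw [← pt_idx (g (pt i)), h, idx_pt hi, hij]

theorem Packs.apply' {P : ℕ} {g : Equiv.Perm GolayPt} (h : Packs P g) (p : GolayPt) :
    g p = pt (img P (idx p)) := by
  rw [← h, pt_idx]

/-- the packed permutation is valid and preserves the code -/
def good (P : ℕ) : Bool :=
  and (ixs.all fun i => Nat.blt (img P i) 24) (and (Nat.beq (act P 0xffffff) 0xffffff)
    (rows.all fun r => isCode (act P r)))

/-- the packed permutation is valid -/
def okP (P : ℕ) : Bool :=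
  and (ixs.all fun i => Nat.blt (img P i) 24) (Nat.beq (act P 0xffffff) 0xffffff)

theorem exists_packs {P : ℕ} (h : okP P = true) : ∃ g, Packs P g := by
  rw [okP, Bool.and_eq_true, List.all_eq_true] at h
  obtain ⟨h1, h2⟩ := h
  have h1' : ∀ i < 24, img P i < 24 := fun i hi => by
    have := h1 i (mem_ixs.mpr hi)
    exact Nat.le_of_ble_eq_true this
  have h2' := Nat.eq_of_beq_eq_true h2
  let f : GolayPt → GolayPt := fun p => pt (img P (idx p))
  have hs : Function.Surjective f := by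
    intro q
    have h3 : (act P 0xffffff).testBit (idx q) = true := by
      rw [h2']
      have : ∀ p : GolayPt, (0xffffff : ℕ).testBit (idx p) = true := by decide
      exact this q
    rw [testBit_act] at h3
    obtain ⟨i, hi, _, h4⟩ := h3
    refine ⟨pt i, ?_⟩
    show pt (img P (idx (pt i))) = q
    rw [idx_pt hi, h4, pt_idx]
  have hb : Function.Bijective f := ⟨Finite.injective_iff_surjective.mpr hs, hs⟩
  refine ⟨Equiv.ofBijective f hb, fun p => ?_⟩
  show idx (pt (img P (idx p))) = _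
  rw [idx_pt (h1' _ (idx_lt p))]

theorem mem_M24_of_rows {g : Equiv.Perm GolayPt} (h : ∀ r ∈ rows, isCode (mask (g • toFS r)) = true) :
    g ∈ M24 := by
  rw [mem_M24_iff]
  have key : ∀ (rs : List ℕ), (∀ r ∈ rs, InC r ∧ isCode (mask (g • toFS r)) = true) →
      ∀ j acc, InC acc → isCode (mask (g • toFS acc)) = true → isCode (mask (g • toFS (encL rs j acc))) = true := by
    intro rs
    induction rs with
    | nil => intro _ j acc _ h; exact h
    | cons r rs ih =>
      intro hrs j acc h1 h2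
      have h1' : Nat.land j 1 = j % 2 := Nat.and_one_is_mod j
      have h3 : Nat.mul r (Nat.land j 1) = r * (j % 2) := by rw [← h1']; rfl
      rw [encL, h3]
      have hr := hrs r (List.mem_cons_self ..)
      rcases Nat.mod_two_eq_zero_or_one j with hj | hj
      · rw [hj, Nat.mul_zero]
        have : Nat.xor acc 0 = acc := Nat.xor_zero acc
        rw [this]
        exact ih (fun r hr => hrs r (List.mem_cons_of_mem _ hr)) _ _ h1 h2
      · rw [hj, Nat.mul_one]
        apply ih (fun r hr => hrs r (List.mem_cons_of_mem _ hr)) _ _ (h1.xor hr.1)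
        show isCode (mask (g • toFS (acc ^^^ r))) = true
        rw [toFS_xor, Finset.smul_finset_symmDiff, mask_xor]
        exact isCode_xor h2 hr.2
  intro s hs
  rw [mem_supports_iff] at hs ⊢
  rw [isCode_iff, enc_eq_encL (lt_of_le_of_lt Nat.and_le_right (by norm_num))] at hs
  have := key rows (fun r hr => ⟨InC_row hr, h r hr⟩) (mask s &&& 4095) 0 InC_zero (by
    rw [toFS_zero, Finset.smul_finset_empty, mask_empty]; exact isCode_zero)
  rw [hs, toFS_mask] at this
  exact this

theorem row_lt {r : ℕ} (hr : r ∈ rows) : r < 2 ^ 24 := (InC_row hr).1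

theorem mem_M24_of_packs {P : ℕ} {g : Equiv.Perm GolayPt} (h : Packs P g)
    (hr : rows.all (fun r => isCode (act P r)) = true) : g ∈ M24 := by
  apply mem_M24_of_rows
  intro r hr'
  rw [h.mask_smul, mask_toFS (row_lt hr')]
  rw [List.all_eq_true] at hr
  exact hr r hr'

theorem exists_of_good {P : ℕ} (h : good P = true) : ∃ g ∈ M24, Packs P g := by
  rw [good, Bool.and_eq_true, Bool.and_eq_true] at h
  obtain ⟨g, hg⟩ := exists_packs (P := P) (by rw [okP, Bool.and_eq_true]; exact ⟨h.1, h.2.1⟩)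
  exact ⟨g, mem_M24_of_packs hg h.2.2, hg⟩

/-- packing of a concrete permutation -/
def packOf (f : GolayPt → GolayPt) : List ℕ → ℕ
  | [] => 0
  | i :: is => Nat.add (idx (f (pt i))) (Nat.shiftLeft (packOf f is) 5)

/-- check that `P` packs `f` -/
def packsCheck (P : ℕ) (f : GolayPt → GolayPt) : Bool := ixs.all fun i => Nat.beq (idx (f (pt i))) (img P i)

theorem packs_of_check {P : ℕ} {g : Equiv.Perm GolayPt} (h : packsCheck P g = true) : Packs P g := by
  intro p
  rw [packsCheck, List.all_eq_true] at h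
  have := Nat.eq_of_beq_eq_true (h (idx p) (mem_ixs.mpr (idx_lt p)))
  rwa [pt_idx] at this

/-! ### A strong generating set -/

def lev0 : List (ℕ × ℕ) := [(0, 0xbdab49ca307b9ac5a928398a418820), (1, 0xbd6939460f7358b525073148310416), (2, 0xbd2728c1ee6b16a4a0e629062082d5), (3, 0xbce5183dcd62d4941cc520c4105ab4), (4, 0xba8c4816ab748ec6d1e898d2014436), (5, 0xb98902d56e91d8da3d131a402886ca), (6, 0xbc4734d9866d1c77c96a400b008895), (7, 0xb8e69b30cda38ef92d4801601112b1), (8, 0xab1e675cab82832412601d2224b4f6), (9, 0x559b349c4f8d4640b8106150b950d7), (10, 0xbb44a649017d2a9702135d8c728e24), (11, 0xad946230480c0b3038725c4ef6a697), (12, 0xaa8c4609018166070e4b89ded4d2f6), (13, 0xa988c120302cc0e1c9713bda9a5eca), (14, 0xb150b0d6331012419cd47a98d74257), (15, 0xa55251ac2703c92b3451540ce62277), (16, 0xa24a3584e07925668a2a819cc44ef5), (17, 0xb05881c814116668ad243c1f573557), (18, 0xbc894501a7755e884d8b484d110cb6), (19, 0xb928a034eeabd109b16909a22196d2), (20, 0xbd14069dd57a21362d21344432da44),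 (21, 0xb5c0b395a348a26a05e49b24883955), (22, 0xb01672b469144d40bc936491072ab7), (23, 0x5883388a1c8f5140b46cd317aed7)]

def lev1 : List (ℕ × ℕ) := [(1, 0xbdab49ca307b9ac5a928398a418820), (2, 0x1c28e49eb1359a254a64415ebb8580), (3, 0x2d56774e246d997352431220a0bd20), (4, 0xbb05641a4a21e0f4d623a356171660), (5, 0xaacd65428323c493c6e86c82c71660), (6, 0x2a2d45a61591cd38894d204777b980), (7, 0x5d58e39ae344a916944a0cc90b3d20), (8, 0x3560750ec88d0b390961235377b980), (9, 0x2557269d514a2e6a082c83c7671660), (10, 0x7920e54e343a0a9a864d5b2e335840), (11, 0x8ba54389562a6640b2f5441a332de0), (12, 0xbc5d69a2952c1a191d2b23cca1b040), (13, 0xb0e7479dc411837aa60d2b17152240), (14, 0x93a081d497784ea6d986a444b49660), (15, 0x85d2e322cb09583a4e2d78955910e0), (16, 0x20d5192e8145eb37898db1d26740a0), (17, 0x75e8a608234c6a533e565a0ed24e00), (18, 0x31df54860c6da885aa511dc4471660), (19, 0x149260da6a8de8369d68854857b980), (20, 0x48941b4a2333cecbc1b55948e45260), (21, 0x2443493c773aab06998b1251671660), (22,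 0x3862c526e3249b0a9a8813d7671660), (23, 0x90f6bad101264aace266b8af1d180)]

def lev2 : List (ℕ × ℕ) := [(2, 0xbdab49ca307b9ac5a928398a418820), (3, 0x21537b3cd19b95280d6ca9d0d15020), (4, 0x4b08aa4970895c67cc683d9a2bd420), (5, 0xa367228d0749190b2e2a7d45733820), (6, 0x31dd524ed1549e98316d40ae32d020), (7, 0x7a2f251a6d23ac71c191126ab2d020), (8, 0x7c6d25ddc7854c953082436632d020), (9, 0x941d58cee4699e838c4a4aecc2d020), (10, 0x2426c5c9b53a4d1b0948bd1e570c20), (11, 0x79d9522ac39a0c9138b7941b15d020), (12, 0x7b583926b634d0251e37811cb2d020), (13, 0x558f381a488b84b624746bc85bd420), (14, 0x9d08a648cf189cb826366a0e5bd420), (15, 0x33da482a4715e2caa1cb4cec32d020), (16, 0x9562a590c23d9ac7a2704bae32d020), (17, 0x1dd663a8562499389609721afa5420), (18, 0x61cc4a8937815d69be515a86d45020), (19, 0x62a6f1392b80eb76c887b45062d020), (20, 0x929827c6e8696697546b240c7b5020), (21, 0x4a043751668de4722a76830af6d420), (22, 0x90a6f53aed21aa95b21141ec32d020), (23, 0x1224e190f664d4b8a60f6d0c5bd420)]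

def lev3 : List (ℕ × ℕ) := [(3, 0xbdab49ca307b9ac5a928398a418820), (4, 0xb18f4714896356854e357cae380820), (5, 0x5b6514412e259472d5f4bb07330820), (6, 0x899c7bbe706b2555a12428e8ab0820), (7, 0xa2dac91ae7b24a824e2e1d55078820), (8, 0x249afb31c95a0a755623bc29330820), (9, 0x6d9549be2491eec3546572d1048820), (10, 0x7a888ab8b79b69690e075c58930820), (11, 0xaad85834f154df41a2d2726e430820), (12, 0xa1e246554535d63921cd9d93078820), (13, 0x9c12b2d8ef6dc748b94c24aa830820), (14, 0x55af3a198558eb1935d04bc8838820), (15, 0x8c8975b5861d208395c9abe6ab0820), (16, 0x9bd515caa3b1e042d189736e830820), (17, 0x5561492c76790ad9a6ee8998838820), (18, 0x41a3738eb45d9d37c9904b54428820), (19, 0x6c6b71cca9b30ee5120ba49e830820), (20, 0xa9583712f694d515b68f4c0c838820), (21, 0x93069ada179c56e790a7a354830820), (22, 0x98d858b6f0955ee5912aa58e830820), (23, 0x1bcd55dc90a2a71736454d98838820)]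

def lev4 : List (ℕ × ℕ) := [(4, 0xbdab49ca307b9ac5a928398a418820), (5, 0x3aeb2bb58572a884bed19989018820), (6, 0x89df3ac2eda150655992591c918820), (7, 0x434cb75a71bc12aab245251e718820), (8, 0xbbeb23b5ca6169682d0434e2918820), (9, 0xba91094e346b9e63d8955b0a918820), (10, 0x72eb4848b345da7b10cf6262a18820), (11, 0x69cae7de489d63622d503328918820), (12, 0x735f0b22eb4c664a32a63c8aa18820), (13, 0xb5d879a8d07a4952c9c8a456d18820), (14, 0x53e4d355895928543a768c0f718820), (15, 0x5cef1616ca225d4855e7920cd18820), (16, 0x5d51064d24399ee6968abcad118820), (17, 0x396c9918946b173ba2357b95018820), (18, 0x74147590a9b5d94449e66ce3518820), (19, 0xa59d7215ac556305bd2741a5318820), (20, 0x6a14473291bc8e67da055cea918820), (21, 0xa988c7a9b3848e5b39288ae9718820), (22, 0xb11132bd378ae123d18eaa8cd18820), (23, 0x242b45c8f6329a59b9098bd9718820)]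

def lev5 : List (ℕ × ℕ) := [(7, 0xbdab49ca307b9ac5a928398a418820), (10, 0xbb5135bdd63160aa1ea964a2418820), (12, 0xbc12ba18ad946c79b11553dc418820)]

def lev6 : List (ℕ × ℕ) := [(5, 0xbdab49ca307b9ac5a928398a418820), (6, 0x5c613a22d56a5ecba9d2394c418820), (8, 0x7d6c971a11bcd6c6aa853c90418820), (9, 0xb5de894d6da9a0c8a8b43b92418820), (11, 0x33a70abd349590c2aa2d3dd6418820), (13, 0x94dd1b5e89354ac42a0b3bda418820), (14, 0x8adb2452ef816acb28d33a5c418820), (15, 0x451368ae6e2c0cc92ab73b5e418820), (16, 0x9c8cbbd90573d2ca29b13d60418820), (17, 0x71a4d7d4a89de8c4a9703da2418820), (18, 0x6c22e496b65d2ec7aa663a24418820), (19, 0x835662a5f78a2ccaaa4e3d26418820), (20, 0xabee5339abb4a2c829093ce8418820), (21, 0xa20b75c6464b5cc9a9f63c2a418820), (22, 0x4950f6c0d2a2e6c72af53c6c418820), (23, 0x2a695835d34464c32acf3aee418820)]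


/-- check a level: the entries `(x, P)` fix the points of `fixed`, map `x` to `b`, and cover `allowed` -/
def chkLevel (fixed : List ℕ) (b allowed : ℕ) (T : List (ℕ × ℕ)) : Bool :=
  and (T.all fun e => and (good e.2) (and (Nat.beq (img e.2 e.1) b)
    (fixed.all fun f => Nat.beq (img e.2 f) f)))
  (Nat.beq (T.foldr (fun e acc => Nat.lor acc (Nat.shiftLeft 1 e.1)) 0) allowed)

theorem testBit_foldr (T : List (ℕ × ℕ)) (j : ℕ) :
    (T.foldr (fun e acc => Nat.lor acc (Nat.shiftLeft 1 e.1)) 0).testBit j = true → ∃ e ∈ T, e.1 = j := by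
  induction T with
  | nil => intro h; simp at h
  | cons e T ih =>
    intro h
    rw [List.foldr_cons] at h
    have h' : ((T.foldr (fun e acc => Nat.lor acc (Nat.shiftLeft 1 e.1)) 0) ||| (1 <<< e.1)).testBit j = true := h
    rw [Nat.testBit_or, Bool.or_eq_true] at h'
    rcases h' with h | h
    · obtain ⟨e', he', h2⟩ := ih h
      exact ⟨e', List.mem_cons_of_mem _ he', h2⟩
    · refine ⟨e, List.mem_cons_self .., ?_⟩
      rw [Nat.testBit_shiftLeft, Bool.and_eq_true, decide_eq_true_eq] at h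
      obtain ⟨h1, h2⟩ := h
      by_contra hne
      have : j - e.1 ≠ 0 := by omega
      obtain ⟨n, hn⟩ := Nat.exists_eq_succ_of_ne_zero this
      rw [hn] at h2
      simp [Nat.testBit_succ] at h2

theorem chkLevel_spec {fixed : List ℕ} {b allowed : ℕ} {T : List (ℕ × ℕ)} (h : chkLevel fixed b allowed T = true)
    (hf : ∀ f ∈ fixed, f < 24) {p : GolayPt} (hp : allowed.testBit (idx p) = true) :
    ∃ g ∈ M24, (∀ f ∈ fixed, g (pt f) = pt f) ∧ g p = pt b := by
  rw [chkLevel, Bool.and_eq_true, List.all_eq_true] at h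
  obtain ⟨h1, h2⟩ := h
  rw [← Nat.eq_of_beq_eq_true h2] at hp
  obtain ⟨e, he, h3⟩ := testBit_foldr T _ hp
  have h4 := h1 e he
  rw [Bool.and_eq_true, Bool.and_eq_true, List.all_eq_true] at h4
  obtain ⟨g, hg, hgp⟩ := exists_of_good h4.1
  refine ⟨g, hg, fun f hf' => hgp.apply (hf f hf') (Nat.eq_of_beq_eq_true (h4.2.2 f hf')), ?_⟩
  have := hgp.apply (i := e.1) (by rw [h3]; exact idx_lt p) (Nat.eq_of_beq_eq_true h4.2.1)
  rwa [h3, pt_idx] at this

theorem level0 : chkLevel [] 0 0xffffff lev0 = true := by decide +kernel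
theorem level1 : chkLevel [0] 1 0xfffffe lev1 = true := by decide +kernel
theorem level2 : chkLevel [0, 1] 2 0xfffffc lev2 = true := by decide +kernel
theorem level3 : chkLevel [0, 1, 2] 3 0xfffff8 lev3 = true := by decide +kernel
theorem level4 : chkLevel [0, 1, 2, 3] 4 0xfffff0 lev4 = true := by decide +kernel
theorem level5 : chkLevel [0, 1, 2, 3, 4] 7 5248 lev5 = true := by decide +kernel
theorem level6 : chkLevel [0, 1, 2, 3, 4, 7] 5 16771936 lev6 = true := by decide +kernel

/-! ### Octads: the Steiner property -/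

/-- the base octad -/
def O0 : Finset GolayPt := toFS 5279

theorem mask_O0 : mask O0 = 5279 := mask_toFS (by norm_num)

theorem O0_mem : O0 ∈ octads := by
  rw [mem_octads_iff, mask_O0]; decide +kernel

theorem eq_of_five {o o' : Finset GolayPt} (ho : o ∈ octads) (ho' : o' ∈ octads) (h : 5 ≤ (o ∩ o').card) :
    o = o' := by
  have h1 : (symmDiff o o').card ≤ 6 := by
    have h2 : (symmDiff o o').card = (o \ o').card + (o' \ o).card := by
      rw [symmDiff_def, Finset.sup_eq_union, Finset.card_union_of_disjoint disjoint_sdiff_sdiff]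
    have h3 := Finset.card_sdiff_add_card_inter o o'
    have h4 := Finset.card_sdiff_add_card_inter o' o
    rw [Finset.inter_comm] at h4
    have h5 : o.card = 8 := ho.2
    have h6 : o'.card = 8 := ho'.2
    omega
  have h2 := supports_card (symmDiff_mem ho.1 ho'.1)
  have h3 : (symmDiff o o').card = 0 := by omega
  rw [Finset.card_eq_zero] at h3
  exact symmDiff_eq_bot.mp h3

/-! ### Frames -/

theorem M24_mul {g h : Equiv.Perm GolayPt} (hg : g ∈ M24) (hh : h ∈ M24) : g * h ∈ M24 := mul_mem hg hh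

theorem frame5 {x0 x1 x2 x3 x4 : GolayPt} (hnd : [x0, x1, x2, x3, x4].Nodup) :
    ∃ g ∈ M24, g x0 = pt 0 ∧ g x1 = pt 1 ∧ g x2 = pt 2 ∧ g x3 = pt 3 ∧ g x4 = pt 4 := by
  simp only [List.nodup_cons, List.mem_cons, List.not_mem_nil, or_false, not_or, List.nodup_nil, and_true,
    not_false_eq_true] at hnd
  obtain ⟨⟨h01, h02, h03, h04⟩, ⟨h12, h13, h14⟩, ⟨h23, h24⟩, h34⟩ := hnd
  obtain ⟨g0, hg0, _, e0⟩ := chkLevel_spec level0 (by simp) (p := x0)
    ((by decide : ∀ p : GolayPt, (0xffffff : ℕ).testBit (idx p) = true) x0)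
  have a1 : ∀ p : GolayPt, p ≠ pt 0 → (0xfffffe : ℕ).testBit (idx p) = true := by decide
  have a2 : ∀ p : GolayPt, p ≠ pt 0 → p ≠ pt 1 → (0xfffffc : ℕ).testBit (idx p) = true := by decide
  have a3 : ∀ p : GolayPt, p ≠ pt 0 → p ≠ pt 1 → p ≠ pt 2 → (0xfffff8 : ℕ).testBit (idx p) = true := by decide
  have a4 : ∀ p : GolayPt, p ≠ pt 0 → p ≠ pt 1 → p ≠ pt 2 → p ≠ pt 3 →
    (0xfffff0 : ℕ).testBit (idx p) = true := by decide
  obtain ⟨g1, hg1, f1, e1⟩ := chkLevel_spec level1 (by simp) (p := g0 x1) (a1 _ (by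
    rw [← e0]; exact fun h => h01 (g0.injective h).symm))
  have f10 : g1 (g0 x0) = pt 0 := by rw [e0]; exact f1 0 (by simp)
  obtain ⟨g2, hg2, f2, e2⟩ := chkLevel_spec level2 (by simp) (p := g1 (g0 x2)) (a2 _
    (by rw [← f10]; exact fun h => h02 (g0.injective (g1.injective h)).symm)
    (by rw [← e1]; exact fun h => h12 (g0.injective (g1.injective h)).symm))
  have f20 : g2 (g1 (g0 x0)) = pt 0 := by rw [f10]; exact f2 0 (by simp)
  have f21 : g2 (g1 (g0 x1)) = pt 1 := by rw [e1]; exact f2 1 (by simp)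
  obtain ⟨g3, hg3, f3, e3⟩ := chkLevel_spec level3 (by simp) (p := g2 (g1 (g0 x3))) (a3 _
    (by rw [← f20]; exact fun h => h03 (g0.injective (g1.injective (g2.injective h))).symm)
    (by rw [← f21]; exact fun h => h13 (g0.injective (g1.injective (g2.injective h))).symm)
    (by rw [← e2]; exact fun h => h23 (g0.injective (g1.injective (g2.injective h))).symm))
  have f30 : g3 (g2 (g1 (g0 x0))) = pt 0 := by rw [f20]; exact f3 0 (by simp)
  have f31 : g3 (g2 (g1 (g0 x1))) = pt 1 := by rw [f21]; exact f3 1 (by simp)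
  have f32 : g3 (g2 (g1 (g0 x2))) = pt 2 := by rw [e2]; exact f3 2 (by simp)
  obtain ⟨g4, hg4, f4, e4⟩ := chkLevel_spec level4 (by simp) (p := g3 (g2 (g1 (g0 x4)))) (a4 _
    (by rw [← f30]; exact fun h => h04 (g0.injective (g1.injective (g2.injective (g3.injective h)))).symm)
    (by rw [← f31]; exact fun h => h14 (g0.injective (g1.injective (g2.injective (g3.injective h)))).symm)
    (by rw [← f32]; exact fun h => h24 (g0.injective (g1.injective (g2.injective (g3.injective h)))).symm)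
    (by rw [← e3]; exact fun h => h34 (g0.injective (g1.injective (g2.injective (g3.injective h)))).symm))
  refine ⟨g4 * (g3 * (g2 * (g1 * g0))), M24_mul hg4 (M24_mul hg3 (M24_mul hg2 (M24_mul hg1 hg0))), ?_, ?_, ?_, ?_, ?_⟩
  · simp only [Equiv.Perm.mul_apply]; rw [f30]; exact f4 0 (by simp)
  · simp only [Equiv.Perm.mul_apply]; rw [f31]; exact f4 1 (by simp)
  · simp only [Equiv.Perm.mul_apply]; rw [f32]; exact f4 2 (by simp)
  · simp only [Equiv.Perm.mul_apply]; rw [e3]; exact f4 3 (by simp)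
  · simp only [Equiv.Perm.mul_apply]; exact e4

theorem mem_O0 (p : GolayPt) : p ∈ O0 ↔ p = pt 0 ∨ p = pt 1 ∨ p = pt 2 ∨ p = pt 3 ∨ p = pt 4 ∨ p = pt 7 ∨
    p = pt 10 ∨ p = pt 12 := by
  rw [O0, mem_toFS]; revert p; decide

theorem five_sub_O0 : ({pt 0, pt 1, pt 2, pt 3, pt 4} : Finset GolayPt) ⊆ O0 := by
  intro p hp
  simp only [Finset.mem_insert, Finset.mem_singleton] at hp
  rw [mem_O0]; tauto

theorem five_card : ({pt 0, pt 1, pt 2, pt 3, pt 4} : Finset GolayPt).card = 5 := by decide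

theorem eq_O0 {o : Finset GolayPt} (ho : o ∈ octads) (h : ({pt 0, pt 1, pt 2, pt 3, pt 4} : Finset GolayPt) ⊆ o) :
    o = O0 := by
  apply eq_of_five ho O0_mem
  rw [← five_card]
  exact Finset.card_le_card (Finset.subset_inter h five_sub_O0)

theorem mem_smul_iff {g : Equiv.Perm GolayPt} {s : Finset GolayPt} {p : GolayPt} : g p ∈ g • s ↔ p ∈ s :=
  Finset.smul_mem_smul_finset_iff g

theorem frame {x0 x1 x2 x3 x4 x5 x6 : GolayPt} {o : Finset GolayPt} (ho : o ∈ octads) (h0 : x0 ∈ o) (h1 : x1 ∈ o)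
    (h2 : x2 ∈ o) (h3 : x3 ∈ o) (h4 : x4 ∈ o) (h5 : x5 ∈ o) (hnd : [x0, x1, x2, x3, x4, x5].Nodup) (h6 : x6 ∉ o) :
    ∃ g ∈ M24, g • o = O0 ∧ g x0 = pt 0 ∧ g x1 = pt 1 ∧ g x2 = pt 2 ∧ g x3 = pt 3 ∧ g x4 = pt 4 ∧ g x5 = pt 7 ∧
      g x6 = pt 5 := by
  have hnd' := hnd
  simp only [List.nodup_cons, List.mem_cons, List.not_mem_nil, or_false, not_or, List.nodup_nil, and_true,
    not_false_eq_true] at hnd
  obtain ⟨⟨h01, h02, h03, h04, h05⟩, ⟨h12, h13, h14, h15⟩, ⟨h23, h24, h25⟩, ⟨h34, h35⟩, h45⟩ := hnd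
  obtain ⟨g, hg, e0, e1, e2, e3, e4⟩ := frame5 (x0 := x0) (x1 := x1) (x2 := x2) (x3 := x3) (x4 := x4) (by
    have h := hnd'.sublist (List.sublist_append_left [x0, x1, x2, x3, x4] [x5])
    exact h)
  have ho1 : g • o = O0 := by
    apply eq_O0 ((smul_mem_octads hg).mpr ho)
    intro p hp
    simp only [Finset.mem_insert, Finset.mem_singleton] at hp
    rcases hp with rfl | rfl | rfl | rfl | rfl
    · rw [← e0]; exact mem_smul_iff.mpr h0
    · rw [← e1]; exact mem_smul_iff.mpr h1
    · rw [← e2]; exact mem_smul_iff.mpr h2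
    · rw [← e3]; exact mem_smul_iff.mpr h3
    · rw [← e4]; exact mem_smul_iff.mpr h4
  have h5' : g x5 ∈ O0 := by rw [← ho1]; exact mem_smul_iff.mpr h5
  have h6' : g x6 ∉ O0 := by rw [← ho1]; exact fun h => h6 (mem_smul_iff.mp h)
  have a5 : ∀ p : GolayPt, p ∈ O0 → p ≠ pt 0 → p ≠ pt 1 → p ≠ pt 2 → p ≠ pt 3 → p ≠ pt 4 →
      (5248 : ℕ).testBit (idx p) = true := by
    intro p hp n0 n1 n2 n3 n4
    rw [mem_O0] at hp
    rcases hp with h | h | h | h | h | rfl | rfl | rfl
    · exact absurd h n0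
    · exact absurd h n1
    · exact absurd h n2
    · exact absurd h n3
    · exact absurd h n4
    · decide
    · decide
    · decide
  have a6 : ∀ p : GolayPt, p ∉ O0 → (16771936 : ℕ).testBit (idx p) = true := by
    intro p hp
    rw [O0, mem_toFS] at hp
    revert hp p; decide
  obtain ⟨g5, hg5, f5, e5⟩ := chkLevel_spec level5 (by simp) (a5 _ h5'
    (by rw [← e0]; exact fun h => h05 (g.injective h).symm)
    (by rw [← e1]; exact fun h => h15 (g.injective h).symm)
    (by rw [← e2]; exact fun h => h25 (g.injective h).symm)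
    (by rw [← e3]; exact fun h => h35 (g.injective h).symm)
    (by rw [← e4]; exact fun h => h45 (g.injective h).symm))
  have ho5 : g5 • O0 = O0 := by
    apply eq_O0 ((smul_mem_octads hg5).mpr O0_mem)
    intro p hp
    simp only [Finset.mem_insert, Finset.mem_singleton] at hp
    rcases hp with rfl | rfl | rfl | rfl | rfl
    · rw [← f5 0 (by simp)]; exact mem_smul_iff.mpr (by rw [mem_O0]; tauto)
    · rw [← f5 1 (by simp)]; exact mem_smul_iff.mpr (by rw [mem_O0]; tauto)
    · rw [← f5 2 (by simp)]; exact mem_smul_iff.mpr (by rw [mem_O0]; tauto)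
    · rw [← f5 3 (by simp)]; exact mem_smul_iff.mpr (by rw [mem_O0]; tauto)
    · rw [← f5 4 (by simp)]; exact mem_smul_iff.mpr (by rw [mem_O0]; tauto)
  have h6'' : g5 (g x6) ∉ O0 := by rw [← ho5]; exact fun h => h6' (mem_smul_iff.mp h)
  obtain ⟨g6, hg6, f6, e6⟩ := chkLevel_spec level6 (by simp) (a6 _ h6'')
  have ho6 : g6 • O0 = O0 := by
    apply eq_O0 ((smul_mem_octads hg6).mpr O0_mem)
    intro p hp
    simp only [Finset.mem_insert, Finset.mem_singleton] at hp
    rcases hp with rfl | rfl | rfl | rfl | rfl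
    · rw [← f6 0 (by simp)]; exact mem_smul_iff.mpr (by rw [mem_O0]; tauto)
    · rw [← f6 1 (by simp)]; exact mem_smul_iff.mpr (by rw [mem_O0]; tauto)
    · rw [← f6 2 (by simp)]; exact mem_smul_iff.mpr (by rw [mem_O0]; tauto)
    · rw [← f6 3 (by simp)]; exact mem_smul_iff.mpr (by rw [mem_O0]; tauto)
    · rw [← f6 4 (by simp)]; exact mem_smul_iff.mpr (by rw [mem_O0]; tauto)
  refine ⟨g6 * (g5 * g), M24_mul hg6 (M24_mul hg5 hg), ?_, ?_, ?_, ?_, ?_, ?_, ?_, ?_⟩
  · rw [mul_smul, mul_smul, ho1, ho5, ho6]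
  · simp only [Equiv.Perm.mul_apply]; rw [e0, f5 0 (by simp)]; exact f6 0 (by simp)
  · simp only [Equiv.Perm.mul_apply]; rw [e1, f5 1 (by simp)]; exact f6 1 (by simp)
  · simp only [Equiv.Perm.mul_apply]; rw [e2, f5 2 (by simp)]; exact f6 2 (by simp)
  · simp only [Equiv.Perm.mul_apply]; rw [e3, f5 3 (by simp)]; exact f6 3 (by simp)
  · simp only [Equiv.Perm.mul_apply]; rw [e4, f5 4 (by simp)]; exact f6 4 (by simp)
  · simp only [Equiv.Perm.mul_apply]; rw [e5]; exact f6 7 (by simp)
  · simp only [Equiv.Perm.mul_apply]; exact e6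

/-- closure certificate: everything is fixed -/
def chkFix : List (ℕ × List ℕ) → ℕ → Bool
  | [], F => Nat.beq F 0xffffff
  | (p, os) :: l, F => and (and (Nat.blt p 24) (os.all fun o => and (isCode o) (and (Nat.beq (pop o) 8)
      (Nat.ble 5 (pop (Nat.land o F))))))
      (and (Nat.beq (Nat.land (os.foldr Nat.land 0xffffff) (Nat.xor 0xffffff F)) (Nat.shiftLeft 1 p))
        (chkFix l (Nat.lor F (Nat.shiftLeft 1 p))))

theorem testBit_one_shiftLeft (p j : ℕ) : (1 <<< p).testBit j = decide (p = j) := by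
  rw [Nat.one_shiftLeft, Nat.testBit_two_pow]

theorem smul_inter' (g : Equiv.Perm GolayPt) (s t : Finset GolayPt) : g • (s ∩ t) = g • s ∩ g • t :=
  Finset.smul_finset_inter

theorem smul_eq_of_fix {g : Equiv.Perm GolayPt} {s : Finset GolayPt} (h : ∀ p ∈ s, g p = p) : g • s = s := by
  apply Finset.eq_of_subset_of_card_le
  · intro q hq
    rw [Finset.mem_smul_finset] at hq
    obtain ⟨p, hp, rfl⟩ := hq
    rw [Equiv.Perm.smul_def, h p hp]; exact hp
  · rw [card_smul']

theorem smul_octad_of_fix {g : Equiv.Perm GolayPt} (hg : g ∈ M24) {o t : Finset GolayPt} (ho : o ∈ octads)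
    (ht : t ⊆ o) (hc : 5 ≤ t.card) (h : ∀ p ∈ t, g p = p) : g • o = o := by
  apply eq_of_five ((smul_mem_octads hg).mpr ho) ho
  refine hc.trans (Finset.card_le_card ?_)
  intro p hp
  rw [Finset.mem_inter]
  refine ⟨?_, ht hp⟩
  rw [← h p hp]; exact mem_smul_iff.mpr (ht hp)

theorem chkFix_spec {g : Equiv.Perm GolayPt} (hg : g ∈ M24) (l : List (ℕ × List ℕ)) : ∀ F, F < 2 ^ 24 →
    (∀ p, F.testBit (idx p) = true → g p = p) → chkFix l F = true → g = 1 := by
  induction l with
  | nil =>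
    intro F _ hF h
    ext1 p
    apply hF
    rw [Nat.eq_of_beq_eq_true h]
    revert p; decide
  | cons a l ih =>
    obtain ⟨p, os⟩ := a
    intro F hF24 hF h
    rw [chkFix, Bool.and_eq_true, Bool.and_eq_true, Bool.and_eq_true, List.all_eq_true] at h
    obtain ⟨⟨h0, h1⟩, h2, h3⟩ := h
    have hp : p < 24 := Nat.le_of_ble_eq_true h0
    have h2' := Nat.eq_of_beq_eq_true h2
    have hinv : ∀ os : List ℕ, (∀ o ∈ os, (isCode o && (Nat.beq (pop o) 8 && Nat.ble 5 (pop (Nat.land o F)))) = true) →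
        g • toFS (os.foldr Nat.land 0xffffff) = toFS (os.foldr Nat.land 0xffffff) := by
      intro os
      induction os with
      | nil =>
        intro _
        have : toFS 0xffffff = Finset.univ := by
          ext q; rw [mem_toFS]; revert q; decide
        rw [List.foldr_nil, this, Finset.smul_finset_univ]
      | cons o os ih2 =>
        intro hos
        rw [List.foldr_cons]
        have e : Nat.land o (os.foldr Nat.land 0xffffff) = o &&& os.foldr Nat.land 0xffffff := rfl
        rw [e, toFS_land, smul_inter', ih2 (fun x hx => hos x (List.mem_cons_of_mem _ hx))]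
        congr 1
        have ho := hos o (List.mem_cons_self ..)
        rw [Bool.and_eq_true, Bool.and_eq_true] at ho
        obtain ⟨ho1, ho2, ho3⟩ := ho
        have ho24 : o < 2 ^ 24 := (InC_of_isCode ho1).1
        have hoct : toFS o ∈ octads := by
          rw [mem_octads_iff, mask_toFS ho24]; exact ⟨ho1, Nat.eq_of_beq_eq_true ho2⟩
        refine smul_octad_of_fix hg hoct (t := toFS (o &&& F)) ?_ ?_ ?_
        · rw [toFS_land]; exact Finset.inter_subset_left
        · rw [card_toFS (lt_of_le_of_lt Nat.and_le_left ho24)]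
          exact Nat.le_of_ble_eq_true ho3
        · intro q hq
          rw [toFS_land, Finset.mem_inter] at hq
          exact hF q (mem_toFS.mp hq.2)
    have hA := hinv os h1
    have hgp : g (pt p) = pt p := by
      have m1 : (Nat.land (os.foldr Nat.land 0xffffff) (Nat.xor 0xffffff F)).testBit (idx (pt p)) = true := by
        rw [h2']
        show (1 <<< p).testBit _ = true
        rw [testBit_one_shiftLeft, idx_pt hp]; simp
      have m2 : (os.foldr Nat.land 0xffffff).testBit (idx (pt p)) = true ∧ F.testBit (idx (pt p)) = false := by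
        have : ((os.foldr Nat.land 0xffffff) &&& (0xffffff ^^^ F)).testBit (idx (pt p)) = true := m1
        rw [Nat.testBit_and, Bool.and_eq_true, Nat.testBit_xor] at this
        refine ⟨this.1, ?_⟩
        have k : (0xffffff : ℕ).testBit (idx (pt p)) = true := by
          rw [idx_pt hp]
          have key : ∀ i : Fin 24, (0xffffff : ℕ).testBit i = true := by decide
          exact key ⟨p, hp⟩
        rw [k] at this
        simpa using this.2
      have m3 : g (pt p) ∈ toFS (os.foldr Nat.land 0xffffff) := by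
        rw [← hA]; exact mem_smul_iff.mpr (mem_toFS.mpr m2.1)
      have m4 : F.testBit (idx (g (pt p))) = false := by
        rw [← Bool.not_eq_true]
        intro hc
        have := g.injective (hF _ hc)
        rw [this] at hc
        rw [hc] at m2
        exact absurd m2.2 (by simp)
      have m5 : (Nat.land (os.foldr Nat.land 0xffffff) (Nat.xor 0xffffff F)).testBit (idx (g (pt p))) = true := by
        show ((os.foldr Nat.land 0xffffff) &&& (0xffffff ^^^ F)).testBit (idx (g (pt p))) = true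
        rw [Nat.testBit_and, Nat.testBit_xor, mem_toFS.mp m3, m4]
        have : (0xffffff : ℕ).testBit (idx (g (pt p))) = true := by
          generalize g (pt p) = q
          revert q; decide
        rw [this]; rfl
      rw [h2'] at m5
      have m6 : (1 <<< p).testBit (idx (g (pt p))) = true := m5
      rw [testBit_one_shiftLeft, decide_eq_true_eq] at m6
      conv_rhs => rw [m6]
      rw [pt_idx]
    apply ih _ ?_ ?_ h3
    · refine Nat.or_lt_two_pow hF24 ?_
      show 1 <<< p < 2 ^ 24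
      rw [Nat.one_shiftLeft]
      exact Nat.pow_lt_pow_right (by norm_num) hp
    · intro q hq
      have hq' : (F ||| 1 <<< p).testBit (idx q) = true := hq
      rw [Nat.testBit_or, Bool.or_eq_true, testBit_one_shiftLeft, decide_eq_true_eq] at hq'
      rcases hq' with hq' | hq'
      · exact hF q hq'
      · have : q = pt p := by rw [hq', pt_idx]
        rw [this]; exact hgp

def fixCert : List (ℕ × List ℕ) := [(6, [2162811, 4325622]), (8, [1065303, 8421811]), (9, [786999, 21116]), (10, [1573998, 5279]), (11, [1116327, 272595]), (12, [45159, 1577201]), (13, [8663097, 5255258]), (14, [8536111, 806987]), (15, [8966165, 2207772]), (16, [4845570, 1302533]), (17, [1302533, 2605066]), (20, [1302533]), (18, [13938692, 2605066]), (21, [2605066]), (19, [4845570, 9347075]), (22, [4845570]), (23, [])]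

/-- an element fixing the base points is trivial -/
theorem eq_one_of_base {g : Equiv.Perm GolayPt} (hg : g ∈ M24) (h0 : g (pt 0) = pt 0) (h1 : g (pt 1) = pt 1)
    (h2 : g (pt 2) = pt 2) (h3 : g (pt 3) = pt 3) (h4 : g (pt 4) = pt 4) (h7 : g (pt 7) = pt 7)
    (h5 : g (pt 5) = pt 5) : g = 1 := by
  apply chkFix_spec hg fixCert 191 (by norm_num) ?_ (by decide +kernel)
  have : ∀ p : GolayPt, (191 : ℕ).testBit (idx p) = true → p = pt 0 ∨ p = pt 1 ∨ p = pt 2 ∨ p = pt 3 ∨ p = pt 4 ∨
    p = pt 7 ∨ p = pt 5 := by decide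
  intro p hp
  rcases this p hp with rfl | rfl | rfl | rfl | rfl | rfl | rfl <;> assumption

theorem frame_unique {g h : Equiv.Perm GolayPt} (hg : g ∈ M24) (hh : h ∈ M24) {x0 x1 x2 x3 x4 x5 x6 : GolayPt}
    {o : Finset GolayPt} (ho : o ∈ octads) (h0 : x0 ∈ o) (h1 : x1 ∈ o)
    (h2 : x2 ∈ o) (h3 : x3 ∈ o) (h4 : x4 ∈ o) (h5 : x5 ∈ o) (hnd : [x0, x1, x2, x3, x4, x5].Nodup) (h6 : x6 ∉ o)
    (e0 : g x0 = h x0) (e1 : g x1 = h x1) (e2 : g x2 = h x2) (e3 : g x3 = h x3) (e4 : g x4 = h x4)
    (e5 : g x5 = h x5) (e6 : g x6 = h x6) : g = h := by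
  obtain ⟨k, hk, _, k0, k1, k2, k3, k4, k5, k6⟩ := frame ho h0 h1 h2 h3 h4 h5 hnd h6
  have key : ∀ x y, k x = y → g x = h x → (k * (h⁻¹ * g) * k⁻¹) y = y := by
    intro x y hxy hx
    subst hxy
    simp only [Equiv.Perm.mul_apply, Equiv.Perm.inv_def, Equiv.symm_apply_apply]
    rw [hx, Equiv.symm_apply_apply]
  have : k * (h⁻¹ * g) * k⁻¹ = 1 := by
    apply eq_one_of_base (M24_mul (M24_mul hk (M24_mul (inv_mem hh) hg)) (inv_mem hk))
    · exact key _ _ k0 e0
    · exact key _ _ k1 e1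
    · exact key _ _ k2 e2
    · exact key _ _ k3 e3
    · exact key _ _ k4 e4
    · exact key _ _ k5 e5
    · exact key _ _ k6 e6
  have h2 : h⁻¹ * g = 1 := by
    have := congrArg (fun x => k⁻¹ * x * k) this
    simpa [mul_assoc] using this
  exact (inv_mul_eq_one.mp h2).symm

/-! ### Lists of points -/

theorem exists_not_mem (l : List GolayPt) (h : l.length < 24) : ∃ p, p ∉ l := by
  by_contra hc
  push Not at hc
  have h1 : (Finset.univ : Finset GolayPt) ⊆ l.toFinset := fun p _ => List.mem_toFinset.mpr (hc p)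
  have h2 := Finset.card_le_card h1
  have h3 := List.toFinset_card_le l
  have h4 : (Finset.univ : Finset GolayPt).card = 24 := by decide
  omega

theorem exists_extend (n : ℕ) (hn : n ≤ 24) (l : List GolayPt) (hl : l.Nodup) (hle : l.length ≤ n) :
    ∃ l' : List GolayPt, (l ++ l').Nodup ∧ (l ++ l').length = n := by
  induction n with
  | zero =>
    refine ⟨[], by simpa using hl, ?_⟩
    simp at hle ⊢; exact hle
  | succ n ih =>
    rcases Nat.lt_or_ge l.length (n + 1) with h | h
    · obtain ⟨l', h1, h2⟩ := ih (by omega) (by omega)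
      obtain ⟨p, hp⟩ := exists_not_mem (l ++ l') (by omega)
      refine ⟨l' ++ [p], ?_, ?_⟩
      · rw [← List.append_assoc, List.nodup_append]
        refine ⟨h1, by simp, ?_⟩
        intro a ha b hb
        rw [List.mem_singleton] at hb
        subst hb
        exact fun h => hp (h ▸ ha)
      · rw [← List.append_assoc, List.length_append, h2]; rfl
    · exact ⟨[], by simpa using hl, by simp; omega⟩

/-- 5-transitivity in list form -/
theorem trans_list {l l' : List GolayPt} (h : l.Nodup) (h' : l'.Nodup) (hl : l.length = l'.length)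
    (h5 : l.length ≤ 5) : ∃ g ∈ M24, l.map g = l' := by
  obtain ⟨m, hm1, hm2⟩ := exists_extend 5 (by norm_num) l h h5
  obtain ⟨m', hm1', hm2'⟩ := exists_extend 5 (by norm_num) l' h' (hl ▸ h5)
  have key : ∀ L : List GolayPt, L.Nodup → L.length = 5 → ∃ g ∈ M24, L.map g = [pt 0, pt 1, pt 2, pt 3, pt 4] := by
    intro L hL hL5
    match L, hL5 with
    | [a, b, c, d, e], _ =>
      obtain ⟨g, hg, e0, e1, e2, e3, e4⟩ := frame5 hL
      exact ⟨g, hg, by simp [e0, e1, e2, e3, e4]⟩
  obtain ⟨g, hg, hgl⟩ := key _ hm1 hm2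
  obtain ⟨g', hg', hgl'⟩ := key _ hm1' hm2'
  refine ⟨g'⁻¹ * g, M24_mul (inv_mem hg') hg, ?_⟩
  have h1 : (l ++ m).map (g'⁻¹ * g) = l' ++ m' := by
    have : (l ++ m).map (g'⁻¹ * g) = ((l ++ m).map g).map ⇑(g'⁻¹) := by
      rw [List.map_map]; rfl
    rw [this, hgl, ← hgl', List.map_map]
    have : (⇑(g'⁻¹) ∘ ⇑g') = id := by
      funext x; simp
    rw [this, List.map_id]
  rw [List.map_append] at h1
  exact List.append_inj_left h1 (by rw [List.length_map, hl])

theorem octad_through_five {s : Finset GolayPt} (hs : s.card = 5) : ∃ o ∈ octads, s ⊆ o := by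
  have h1 : s.toList.Nodup := s.nodup_toList
  have h2 : s.toList.length = 5 := by rw [Finset.length_toList, hs]
  obtain ⟨g, hg, hgl⟩ := trans_list h1 (l' := [pt 0, pt 1, pt 2, pt 3, pt 4]) (by decide) h2 h2.le
  refine ⟨g⁻¹ • O0, (smul_mem_octads (inv_mem hg)).mpr O0_mem, ?_⟩
  intro p hp
  rw [Finset.mem_inv_smul_finset_iff]
  apply five_sub_O0
  have : g p ∈ s.toList.map g := List.mem_map_of_mem (Finset.mem_toList.mpr hp)
  rw [hgl] at this
  simpa using this

theorem steiner : IsSteinerSystem 5 8 octads := by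
  refine ⟨fun b hb => hb.2, fun s hs => ?_⟩
  obtain ⟨o, ho, hso⟩ := octad_through_five hs
  refine ⟨o, ⟨ho, hso⟩, ?_⟩
  rintro o' ⟨ho', hso'⟩
  exact eq_of_five ho' ho (by rw [← hs]; exact Finset.card_le_card (Finset.subset_inter hso' hso))

/-- octad through five points given as a list -/
theorem octad_through_list {l : List GolayPt} (hl : l.Nodup) (h5 : l.length = 5) :
    ∃ o ∈ octads, ∀ p ∈ l, p ∈ o := by
  obtain ⟨o, ho, h⟩ := octad_through_five (s := l.toFinset) (by rw [List.toFinset_card_of_nodup hl, h5])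
  exact ⟨o, ho, fun p hp => h (List.mem_toFinset.mpr hp)⟩

/-! ### Orders -/

theorem card_eq_of_orbit {G β : Type*} [Group G] [MulAction G β] (H K : Subgroup G) (x : β) (O : Set β)
    (hK : ∀ g, g ∈ K ↔ g ∈ H ∧ g • x = x) (hO : ∀ y, y ∈ O ↔ ∃ g ∈ H, g • x = y) :
    Nat.card H = O.ncard * Nat.card K := by
  have h1 : (MulAction.stabilizer H x).index = (MulAction.orbit H x).ncard := MulAction.index_stabilizer H x
  have h2 := Subgroup.index_mul_card (MulAction.stabilizer H x)
  have h3 : MulAction.orbit H x = O := by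
    ext y
    rw [hO, MulAction.mem_orbit_iff]
    constructor
    · rintro ⟨⟨g, hg⟩, h⟩; exact ⟨g, hg, h⟩
    · rintro ⟨g, hg, h⟩; exact ⟨⟨g, hg⟩, h⟩
  have hKH : K ≤ H := fun g hg => ((hK g).mp hg).1
  have h4 : MulAction.stabilizer H x = K.subgroupOf H := by
    ext ⟨g, hg⟩
    rw [MulAction.mem_stabilizer_iff, Subgroup.mem_subgroupOf, hK]
    constructor
    · intro h; exact ⟨hg, h⟩
    · intro h; exact h.2
  rw [h4, Nat.card_congr (Subgroup.subgroupOfEquivOfLe hKH).toEquiv] at h2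
  rw [← h2, ← h3, ← h1, h4]

/-- elements of `M24` fixing the listed points -/
def PS (l : List GolayPt) : Subgroup (Equiv.Perm GolayPt) where
  carrier := {g | g ∈ M24 ∧ ∀ p ∈ l, g p = p}
  one_mem' := ⟨one_mem _, fun p _ => rfl⟩
  mul_mem' := by
    rintro a b ⟨ha, ha'⟩ ⟨hb, hb'⟩
    refine ⟨mul_mem ha hb, fun p hp => ?_⟩
    rw [Equiv.Perm.mul_apply, hb' p hp, ha' p hp]
  inv_mem' := by
    rintro a ⟨ha, ha'⟩
    refine ⟨inv_mem ha, fun p hp => ?_⟩
    rw [Equiv.Perm.inv_eq_iff_eq]; exact (ha' p hp).symm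

theorem mem_PS {l : List GolayPt} {g : Equiv.Perm GolayPt} : g ∈ PS l ↔ g ∈ M24 ∧ ∀ p ∈ l, g p = p := Iff.rfl

theorem card_PS_step (l : List GolayPt) (p : GolayPt) (n : ℕ) (O : Set GolayPt) (hn : O.ncard = n)
    (hO : ∀ q, q ∈ O ↔ ∃ g ∈ PS l, g p = q) : Nat.card (PS l) = n * Nat.card (PS (p :: l)) := by
  rw [← hn]
  apply card_eq_of_orbit (PS l) (PS (p :: l)) p O _ hO
  intro g
  rw [mem_PS, mem_PS]
  constructor
  · rintro ⟨h1, h2⟩
    exact ⟨⟨h1, fun q hq => h2 q (List.mem_cons_of_mem _ hq)⟩, h2 p (List.mem_cons_self ..)⟩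
  · rintro ⟨⟨h1, h2⟩, h3⟩
    refine ⟨h1, fun q hq => ?_⟩
    rw [List.mem_cons] at hq
    rcases hq with rfl | hq
    · exact h3
    · exact h2 q hq

theorem ncard_toFS {m : ℕ} (hm : m < 2 ^ 24) : ((toFS m : Finset GolayPt) : Set GolayPt).ncard = pop m := by
  rw [Set.ncard_coe_finset, card_toFS hm]

theorem orbit_step {l : List GolayPt} (h : l.Nodup) (h4 : l.length ≤ 4) {p : GolayPt} (hp : p ∉ l) (q : GolayPt) :
    q ∈ {q : GolayPt | q ∉ l} ↔ ∃ g ∈ PS l, g p = q := by
  constructor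
  · intro hq
    obtain ⟨g, hg, hgl⟩ := trans_list (l := p :: l) (l' := q :: l) (List.nodup_cons.mpr ⟨hp, h⟩)
      (List.nodup_cons.mpr ⟨hq, h⟩) (by simp) (by rw [List.length_cons]; omega)
    rw [List.map_cons, List.cons.injEq] at hgl
    refine ⟨g, ⟨hg, ?_⟩, hgl.1⟩
    have h2 := hgl.2
    intro r hr
    exact List.map_inj_left.mp (h2.trans (List.map_id l).symm) r hr
  · rintro ⟨g, ⟨hg, hgl⟩, rfl⟩
    show g p ∉ l
    intro hc
    have := hgl _ hc
    exact hp (g.injective this ▸ hc)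

theorem ncard_not_mem {l : List GolayPt} (h : l.Nodup) : {q : GolayPt | q ∉ l}.ncard = 24 - l.length := by
  have h1 : {q : GolayPt | q ∉ l} = ((l.toFinset)ᶜ : Finset GolayPt) := by
    ext q; simp
  rw [h1, Set.ncard_coe_finset, Finset.card_compl, List.toFinset_card_of_nodup h]
  rfl

theorem card_PS_cons {l : List GolayPt} (h : l.Nodup) (h4 : l.length ≤ 4) {p : GolayPt} (hp : p ∉ l) :
    Nat.card (PS l) = (24 - l.length) * Nat.card (PS (p :: l)) :=
  card_PS_step l p _ _ (ncard_not_mem h) (orbit_step h h4 hp)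

/-- the base frame -/
theorem PS_base : PS [pt 5, pt 7, pt 4, pt 3, pt 2, pt 1, pt 0] = ⊥ := by
  rw [eq_bot_iff]
  rintro g ⟨hg, h⟩
  rw [Subgroup.mem_bot]
  exact eq_one_of_base hg (h _ (by simp)) (h _ (by simp)) (h _ (by simp)) (h _ (by simp)) (h _ (by simp))
    (h _ (by simp)) (h _ (by simp))

theorem frame_trans {x0 x1 x2 x3 x4 x5 x6 y0 y1 y2 y3 y4 y5 y6 : GolayPt} {o o' : Finset GolayPt} (ho : o ∈ octads)
    (h0 : x0 ∈ o) (h1 : x1 ∈ o) (h2 : x2 ∈ o) (h3 : x3 ∈ o) (h4 : x4 ∈ o) (h5 : x5 ∈ o)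
    (hnd : [x0, x1, x2, x3, x4, x5].Nodup) (h6 : x6 ∉ o)
    (ho' : o' ∈ octads) (k0 : y0 ∈ o') (k1 : y1 ∈ o') (k2 : y2 ∈ o') (k3 : y3 ∈ o') (k4 : y4 ∈ o') (k5 : y5 ∈ o')
    (knd : [y0, y1, y2, y3, y4, y5].Nodup) (k6 : y6 ∉ o') :
    ∃ g ∈ M24, g • o = o' ∧ g x0 = y0 ∧ g x1 = y1 ∧ g x2 = y2 ∧ g x3 = y3 ∧ g x4 = y4 ∧ g x5 = y5 ∧ g x6 = y6 := by
  obtain ⟨g, hg, e, e0, e1, e2, e3, e4, e5, e6⟩ := frame ho h0 h1 h2 h3 h4 h5 hnd h6
  obtain ⟨k, hk, f, f0, f1, f2, f3, f4, f5, f6⟩ := frame ho' k0 k1 k2 k3 k4 k5 knd k6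
  have key : ∀ x y z, g x = z → k y = z → (k⁻¹ * g) x = y := by
    intro x y z h1 h2
    rw [Equiv.Perm.mul_apply, h1, ← h2, Equiv.Perm.inv_def, Equiv.symm_apply_apply]
  exact ⟨k⁻¹ * g, M24_mul (inv_mem hk) hg, by rw [mul_smul, e, ← f, inv_smul_smul],
    key _ _ _ e0 f0, key _ _ _ e1 f1, key _ _ _ e2 f2, key _ _ _ e3 f3, key _ _ _ e4 f4, key _ _ _ e5 f5,
    key _ _ _ e6 f6⟩

/-- extract a duplicate-free list of given length from a finset -/
theorem exists_list_of_le_card {α : Type*} {s : Finset α} {n : ℕ} (h : n ≤ s.card) :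
    ∃ l : List α, l.Nodup ∧ l.length = n ∧ ∀ x ∈ l, x ∈ s := by
  refine ⟨s.toList.take n, s.nodup_toList.sublist (List.take_sublist _ _), ?_, ?_⟩
  · rw [List.length_take, Finset.length_toList]; omega
  · intro x hx; exact Finset.mem_toList.mp (List.mem_of_mem_take hx)

theorem exists_not_mem_octad {o : Finset GolayPt} (ho : o ∈ octads) : ∃ p, p ∉ o := by
  by_contra hc
  push Not at hc
  have : o = Finset.univ := Finset.eq_univ_iff_forall.mpr hc
  have h8 : o.card = 8 := ho.2
  rw [this] at h8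
  revert h8; decide

theorem exists_octad_frame {o : Finset GolayPt} (ho : o ∈ octads) : ∃ x0 x1 x2 x3 x4 x5 x6,
    x0 ∈ o ∧ x1 ∈ o ∧ x2 ∈ o ∧ x3 ∈ o ∧ x4 ∈ o ∧ x5 ∈ o ∧ [x0, x1, x2, x3, x4, x5].Nodup ∧ x6 ∉ o := by
  have h8 : o.card = 8 := ho.2
  obtain ⟨l, h1, h2, h3⟩ := exists_list_of_le_card (s := o) (n := 6) (by omega)
  obtain ⟨x6, h6⟩ := exists_not_mem_octad ho
  match l, h2 with
  | [x0, x1, x2, x3, x4, x5], _ =>
    exact ⟨x0, x1, x2, x3, x4, x5, x6, h3 _ (by simp), h3 _ (by simp), h3 _ (by simp), h3 _ (by simp),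
      h3 _ (by simp), h3 _ (by simp), h1, h6⟩

theorem octads_transitive {o o' : Finset GolayPt} (ho : o ∈ octads) (ho' : o' ∈ octads) : ∃ g ∈ M24, g • o = o' := by
  obtain ⟨x0, x1, x2, x3, x4, x5, x6, h0, h1, h2, h3, h4, h5, h, h6⟩ := exists_octad_frame ho
  obtain ⟨y0, y1, y2, y3, y4, y5, y6, k0, k1, k2, k3, k4, k5, k, k6⟩ := exists_octad_frame ho'
  obtain ⟨g, hg, e, _⟩ := frame_trans ho h0 h1 h2 h3 h4 h5 h h6 ho' k0 k1 k2 k3 k4 k5 k k6
  exact ⟨g, hg, e⟩

/-- `PS` of six points of an octad and of a frame -/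
theorem PS_frame {x0 x1 x2 x3 x4 x5 x6 : GolayPt} {o : Finset GolayPt} (ho : o ∈ octads)
    (h0 : x0 ∈ o) (h1 : x1 ∈ o) (h2 : x2 ∈ o) (h3 : x3 ∈ o) (h4 : x4 ∈ o) (h5 : x5 ∈ o)
    (hnd : [x0, x1, x2, x3, x4, x5].Nodup) (h6 : x6 ∉ o) : PS [x6, x5, x4, x3, x2, x1, x0] = ⊥ := by
  rw [eq_bot_iff]
  rintro g ⟨hg, h⟩
  rw [Subgroup.mem_bot]
  apply frame_unique hg (one_mem _) ho h0 h1 h2 h3 h4 h5 hnd h6 <;>
  · rw [Equiv.Perm.one_apply]; exact h _ (by simp)

theorem smul_octad_of_list {g : Equiv.Perm GolayPt} (hg : g ∈ M24) {o : Finset GolayPt} (ho : o ∈ octads)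
    {l : List GolayPt} (hl : l.Nodup) (hlo : ∀ p ∈ l, p ∈ o) (h5 : 5 ≤ l.length) (h : ∀ p ∈ l, g p = p) :
    g • o = o :=
  smul_octad_of_fix hg ho (t := l.toFinset) (fun p hp => hlo p (List.mem_toFinset.mp hp))
    (by rw [List.toFinset_card_of_nodup hl]; exact h5) (fun p hp => h p (List.mem_toFinset.mp hp))

theorem card_PS_six {x0 x1 x2 x3 x4 x5 : GolayPt} {o : Finset GolayPt} (ho : o ∈ octads)
    (h0 : x0 ∈ o) (h1 : x1 ∈ o) (h2 : x2 ∈ o) (h3 : x3 ∈ o) (h4 : x4 ∈ o) (h5 : x5 ∈ o)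
    (hnd : [x0, x1, x2, x3, x4, x5].Nodup) : Nat.card (PS [x5, x4, x3, x2, x1, x0]) = 16 := by
  obtain ⟨x6, h6⟩ := exists_not_mem_octad ho
  rw [card_PS_step [x5, x4, x3, x2, x1, x0] x6 16 {q : GolayPt | q ∉ o}, PS_frame ho h0 h1 h2 h3 h4 h5 hnd h6,
    Subgroup.card_bot]
  · have : {q : GolayPt | q ∉ o} = (oᶜ : Finset GolayPt) := by ext q; simp
    have h8 : o.card = 8 := ho.2
    rw [this, Set.ncard_coe_finset, Finset.card_compl, h8]; rfl
  · intro q
    constructor
    · intro hq
      obtain ⟨g, hg, _, e0, e1, e2, e3, e4, e5, e6⟩ := frame_trans ho h0 h1 h2 h3 h4 h5 hnd h6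
        ho h0 h1 h2 h3 h4 h5 hnd hq
      refine ⟨g, ⟨hg, ?_⟩, e6⟩
      intro p hp
      simp only [List.mem_cons, List.not_mem_nil, or_false] at hp
      rcases hp with rfl | rfl | rfl | rfl | rfl | rfl <;> assumption
    · rintro ⟨g, ⟨hg, h⟩, rfl⟩
      have : g • o = o := by
        apply smul_octad_of_list hg ho hnd _ (by simp) _
        · intro p hp
          simp only [List.mem_cons, List.not_mem_nil, or_false] at hp
          rcases hp with rfl | rfl | rfl | rfl | rfl | rfl <;> assumption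
        · intro p hp
          apply h
          simp only [List.mem_cons, List.not_mem_nil, or_false] at hp ⊢
          tauto
      show g x6 ∉ o
      rw [← this]; exact fun h => h6 (mem_smul_iff.mp h)

theorem card_PS_five {x0 x1 x2 x3 x4 : GolayPt} (hnd : [x0, x1, x2, x3, x4].Nodup) :
    Nat.card (PS [x4, x3, x2, x1, x0]) = 48 := by
  obtain ⟨o, ho, h⟩ := octad_through_list hnd rfl
  have h0 := h x0 (by simp)
  have h1 := h x1 (by simp)
  have h2 := h x2 (by simp)
  have h3 := h x3 (by simp)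
  have h4 := h x4 (by simp)
  have h8 : o.card = 8 := ho.2
  have hc : ({x0, x1, x2, x3, x4} : Finset GolayPt).card = 5 := by
    have := List.toFinset_card_of_nodup hnd
    simpa using this
  obtain ⟨x5, hx5⟩ : (o \ {x0, x1, x2, x3, x4}).Nonempty := by
    rw [← Finset.card_pos]
    have := Finset.le_card_sdiff {x0, x1, x2, x3, x4} o
    omega
  rw [Finset.mem_sdiff] at hx5
  have hnd6 : ∀ y, y ∉ ({x0, x1, x2, x3, x4} : Finset GolayPt) → [x0, x1, x2, x3, x4, y].Nodup := by
    intro y hy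
    have : [x0, x1, x2, x3, x4, y] = [x0, x1, x2, x3, x4] ++ [y] := rfl
    rw [this, List.nodup_append]
    refine ⟨hnd, by simp, ?_⟩
    intro a ha b hb hab
    rw [List.mem_singleton] at hb
    subst hab; subst hb
    apply hy
    simpa using ha
  obtain ⟨x6, h6⟩ := exists_not_mem_octad ho
  rw [card_PS_step [x4, x3, x2, x1, x0] x5 3 {q : GolayPt | q ∈ o \ {x0, x1, x2, x3, x4}},
    card_PS_six ho h0 h1 h2 h3 h4 hx5.1 (hnd6 x5 hx5.2)]
  · have : {q : GolayPt | q ∈ o \ {x0, x1, x2, x3, x4}} = ((o \ {x0, x1, x2, x3, x4} : Finset GolayPt) : Set GolayPt) := by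
      ext q; simp
    rw [this, Set.ncard_coe_finset, Finset.card_sdiff_of_subset, hc, h8]
    intro p hp
    simp only [Finset.mem_insert, Finset.mem_singleton] at hp
    rcases hp with rfl | rfl | rfl | rfl | rfl <;> assumption
  · intro q
    constructor
    · intro hq
      have hq' : q ∈ o \ {x0, x1, x2, x3, x4} := hq
      rw [Finset.mem_sdiff] at hq'
      obtain ⟨g, hg, _, e0, e1, e2, e3, e4, e5, e6⟩ := frame_trans ho h0 h1 h2 h3 h4 hx5.1 (hnd6 x5 hx5.2) h6
        ho h0 h1 h2 h3 h4 hq'.1 (hnd6 q hq'.2) h6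
      refine ⟨g, ⟨hg, ?_⟩, e5⟩
      intro p hp
      simp only [List.mem_cons, List.not_mem_nil, or_false] at hp
      rcases hp with rfl | rfl | rfl | rfl | rfl <;> assumption
    · rintro ⟨g, ⟨hg, h⟩, rfl⟩
      have : g • o = o := by
        apply smul_octad_of_list hg ho hnd _ (by simp) _
        · intro p hp
          simp only [List.mem_cons, List.not_mem_nil, or_false] at hp
          rcases hp with rfl | rfl | rfl | rfl | rfl <;> assumption
        · intro p hp
          apply h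
          simp only [List.mem_cons, List.not_mem_nil, or_false] at hp ⊢
          tauto
      show g x5 ∈ o \ {x0, x1, x2, x3, x4}
      rw [Finset.mem_sdiff]
      refine ⟨?_, ?_⟩
      · rw [← this]; exact mem_smul_iff.mpr hx5.1
      · intro hc
        have h9 : g (g x5) = g x5 := by
          apply h
          simp only [Finset.mem_insert, Finset.mem_singleton] at hc
          simp only [List.mem_cons, List.not_mem_nil, or_false]
          tauto
        have h10 := g.injective h9
        rw [h10] at hc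
        exact hx5.2 hc

/-- orders of pointwise stabilizers of at most five points -/
theorem card_PS {l : List GolayPt} (hl : l.Nodup) (h5 : l.length ≤ 5) :
    Nat.card (PS l) * Nat.descFactorial 24 l.length = 244823040 := by
  obtain ⟨n, hn⟩ : ∃ n, n = 5 - l.length := ⟨_, rfl⟩
  induction n generalizing l with
  | zero =>
    have hl5 : l.length = 5 := by omega
    match l, hl5 with
    | [a, b, c, d, e], _ =>
      have := card_PS_five (x0 := e) (x1 := d) (x2 := c) (x3 := b) (x4 := a) (by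
        have := List.nodup_reverse.mpr hl
        simpa using this)
      rw [this]
      simp [Nat.descFactorial]
  | succ n ih =>
    obtain ⟨p, hp⟩ := exists_not_mem l (by omega)
    have h1 := ih (l := p :: l) (List.nodup_cons.mpr ⟨hp, hl⟩) (by rw [List.length_cons]; omega)
      (by rw [List.length_cons]; omega)
    rw [card_PS_cons hl (by omega) hp]
    rw [List.length_cons, Nat.descFactorial_succ] at h1
    rw [← h1]; ring

theorem PS_nil : PS [] = M24 := by
  ext g; rw [mem_PS]; simp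

theorem card_M24 : Nat.card M24 = 244823040 := by
  have := card_PS (l := []) List.nodup_nil (by simp)
  rw [PS_nil] at this
  simpa using this

end CfsgLib.Golay
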