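import Mathlib

/-!
Simplicity criteria for finite permutation groups.
-/

set_option autoImplicit false

namespace CfsgLib.SimpleCrit

variable {G : Type*} [Group G]

/-- a nontrivial normal subgroup of a group acting 2-transitively and faithfully on the invariant set `O` is
transitive on `O` -/
theorem transitive_of_normal {α : Type*} [MulAction G α] (O : Set α)
    (hf : ∀ g : G, (∀ a ∈ O, g • a = a) → g = 1) (hO : ∀ g : G, ∀ a ∈ O, g • a ∈ O)
    (h2 : ∀ a ∈ O, ∀ b ∈ O, ∀ c ∈ O, ∀ d ∈ O, a ≠ b → c ≠ d → ∃ g : G, g • a = c ∧ g • b = d)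
    {N : Subgroup G} (hN : N.Normal) (hN1 : N ≠ ⊥) {u v : α} (hu : u ∈ O) (hv : v ∈ O) : ∃ n ∈ N, n • u = v := by
  obtain ⟨⟨n, hn⟩, hn1'⟩ := (Subgroup.ne_bot_iff_exists_ne_one (H := N)).mp hN1
  have hn1 : n ≠ 1 := fun h => hn1' (Subtype.ext h)
  obtain ⟨x, hxO, hx⟩ : ∃ x ∈ O, n • x ≠ x := by
    by_contra hc
    push Not at hc
    exact hn1 (hf n hc)
  by_cases huv : u = v
  · exact ⟨1, one_mem _, by rw [one_smul, huv]⟩
  · obtain ⟨g, h3, h4⟩ := h2 x hxO (n • x) (hO n x hxO) u hu v hv (Ne.symm hx) huv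
    refine ⟨g * n * g⁻¹, hN.conj_mem n hn g, ?_⟩
    rw [← h3, ← h4, mul_smul, inv_smul_smul, mul_smul]

/-- the degree divides the order of a transitive subgroup -/
theorem ncard_dvd_of_transitive {α : Type*} [MulAction G α] (O : Set α) (hO : ∀ g : G, ∀ a ∈ O, g • a ∈ O)
    {N : Subgroup G} {u : α} (hu : u ∈ O) (h : ∀ v ∈ O, ∃ n ∈ N, n • u = v) : O.ncard ∣ Nat.card N := by
  have h1 : (MulAction.stabilizer N u).index = (MulAction.orbit N u).ncard := MulAction.index_stabilizer N u
  have h2 : MulAction.orbit N u = O := by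
    ext y
    rw [MulAction.mem_orbit_iff]
    constructor
    · rintro ⟨⟨g, hg⟩, rfl⟩; exact hO g u hu
    · intro hy
      obtain ⟨n, hn, hny⟩ := h y hy
      exact ⟨⟨n, hn⟩, hny⟩
  rw [← h2, ← h1]
  exact Subgroup.index_dvd_card _

/-- a 2-transitive group (on `O`) with simple point stabilizer whose degree is not a prime power is simple -/
theorem simple_of_two_transitive [Finite G] {α : Type*} [MulAction G α] (O : Set α)
    (hf : ∀ g : G, (∀ a ∈ O, g • a = a) → g = 1) (hO : ∀ g : G, ∀ a ∈ O, g • a ∈ O)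
    (h2 : ∀ a ∈ O, ∀ b ∈ O, ∀ c ∈ O, ∀ d ∈ O, a ≠ b → c ≠ d → ∃ g : G, g • a = c ∧ g • b = d) {a : α} (ha : a ∈ O)
    (hs : IsSimpleGroup (MulAction.stabilizer G a)) (hα : ¬ IsPrimePow O.ncard) : IsSimpleGroup G := by
  haveI : Nontrivial G := by
    obtain ⟨x, y, hxy⟩ := hs.toNontrivial
    exact ⟨⟨x, y, fun h => hxy (Subtype.ext h)⟩⟩
  refine ⟨fun N hN => ?_⟩
  by_cases hN1 : N = ⊥
  · exact Or.inl hN1
  right
  have htr := fun {u v : α} (hu : u ∈ O) (hv : v ∈ O) => transitive_of_normal O hf hO h2 hN hN1 hu hv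
  haveI : (N.subgroupOf (MulAction.stabilizer G a)).Normal := hN.subgroupOf _
  rcases hs.eq_bot_or_eq_top_of_normal (N.subgroupOf (MulAction.stabilizer G a)) inferInstance with h | h
  · exfalso
    have hreg : ∀ n ∈ N, n • a = a → n = 1 := by
      intro n hn hna
      have : (⟨n, hna⟩ : MulAction.stabilizer G a) ∈ N.subgroupOf (MulAction.stabilizer G a) := hn
      rw [h, Subgroup.mem_bot] at this
      exact congrArg Subtype.val this
    have hinj : ∀ m ∈ N, ∀ n ∈ N, m • a = n • a → m = n := by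
      intro m hm n hn hmn
      have := hreg (n⁻¹ * m) (N.mul_mem (N.inv_mem hn) hm) (by rw [mul_smul, hmn, inv_smul_smul])
      exact (inv_mul_eq_one.mp this).symm
    have hcard : Nat.card N = O.ncard := by
      rw [← Nat.card_coe_set_eq]
      apply Nat.card_congr
      refine Equiv.ofBijective (fun n : N => (⟨(n : G) • a, hO _ _ ha⟩ : O)) ⟨?_, ?_⟩
      · intro m n hmn
        exact Subtype.ext (hinj _ m.2 _ n.2 (congrArg Subtype.val hmn))
      · rintro ⟨v, hv⟩
        obtain ⟨n, hn, hnv⟩ := htr ha hv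
        exact ⟨⟨n, hn⟩, Subtype.ext hnv⟩
    have hNcard : Nat.card N ≠ 1 := by
      intro hc
      exact hN1 (Subgroup.eq_bot_of_card_eq _ hc)
    obtain ⟨q, hq, hqN⟩ := Nat.exists_prime_and_dvd hNcard
    haveI : Fact q.Prime := ⟨hq⟩
    obtain ⟨x, hx⟩ := exists_prime_orderOf_dvd_card' q hqN
    have hxne : (x : G) ≠ 1 := by
      intro hc
      rw [← Subgroup.orderOf_coe, hc, orderOf_one] at hx
      exact hq.one_lt.ne hx
    have hall : ∀ y : N, y ^ q = 1 := by
      intro y
      by_cases hy : y = 1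
      · rw [hy, one_pow]
      have hy' : (y : G) ≠ 1 := fun h => hy (Subtype.ext h)
      obtain ⟨g, h3, h4⟩ := h2 a ha ((x : G) • a) (hO _ _ ha) a ha ((y : G) • a) (hO _ _ ha)
        (fun h => hxne (hreg _ x.2 h.symm)) (fun h => hy' (hreg _ y.2 h.symm))
      have h5 : g * x * g⁻¹ = y := by
        apply hinj _ (hN.conj_mem _ x.2 g) _ y.2
        have : g⁻¹ • a = a := by rw [inv_smul_eq_iff, h3]
        rw [mul_smul, this, mul_smul, h4]
      apply Subtype.ext
      rw [Subgroup.coe_pow, ← h5, conj_pow, ← Subgroup.coe_pow, ← hx, pow_orderOf_eq_one]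
      simp
    have hp : IsPGroup q N := fun y => ⟨1, by rw [pow_one]; exact hall y⟩
    obtain ⟨k, hk⟩ := IsPGroup.iff_card.mp hp
    apply hα
    rw [← hcard, hk]
    refine ⟨q, k, hq.prime, Nat.pos_of_ne_zero ?_, rfl⟩
    rintro rfl
    rw [pow_zero] at hk
    exact hNcard hk
  · rw [eq_top_iff]
    intro g _
    obtain ⟨n, hn, hna⟩ := htr ha (hO g a ha)
    have : n⁻¹ * g ∈ MulAction.stabilizer G a := by
      rw [MulAction.mem_stabilizer_iff, mul_smul, ← hna, inv_smul_smul]
    have h3 : (⟨n⁻¹ * g, this⟩ : MulAction.stabilizer G a) ∈ N.subgroupOf (MulAction.stabilizer G a) := by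
      rw [h]; exact Subgroup.mem_top _
    have h4 : n⁻¹ * g ∈ N := h3
    have := N.mul_mem hn h4
    rwa [mul_inv_cancel_left] at this

/-- criterion through a subgroup of prime order -/
theorem simple_of_sylow [Finite G] {p r : ℕ} (hp : p.Prime) (hr : r.Prime) (h2 : ¬ p ^ 2 ∣ Nat.card G)
    (hpG : p ∣ Nat.card G)
    (hNP : ∀ P : Subgroup G, Nat.card P = p → Nat.card (Subgroup.normalizer (P : Set G)) = p * r)
    (H : ∀ N : Subgroup G, N.Normal → N ≠ ⊥ → p ∣ Nat.card N) (hG : Nat.card G ≠ p * r) :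
    IsSimpleGroup G := by
  haveI : Fact p.Prime := ⟨hp⟩
  haveI : Nontrivial G := by
    rw [← Finite.one_lt_card_iff_nontrivial]
    exact lt_of_lt_of_le hp.one_lt (Nat.le_of_dvd Nat.card_pos hpG)
  refine ⟨fun N hN => ?_⟩
  by_cases hN1 : N = ⊥
  · exact Or.inl hN1
  right
  have hpN := H N hN hN1
  obtain ⟨P⟩ : Nonempty (Sylow p N) := inferInstance
  have hPc : Nat.card P = p := by
    obtain ⟨k, hk⟩ := IsPGroup.iff_card.mp P.isPGroup'
    have h3 : k < 2 := by
      by_contra hc
      apply h2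
      have h4 : p ^ 2 ∣ Nat.card P := by rw [hk]; exact pow_dvd_pow p (by omega)
      exact (h4.trans (Subgroup.card_subgroup_dvd_card _)).trans (Subgroup.card_subgroup_dvd_card _)
    have h5 : k ≠ 0 := by
      rintro rfl
      have := P.dvd_card_of_dvd_card hpN
      rw [hk, pow_zero] at this
      exact hp.one_lt.ne' (Nat.dvd_one.mp this)
    have h6 : k = 1 := by omega
    rw [hk, h6, pow_one]
  set P' : Subgroup G := (P : Subgroup N).map N.subtype with hP'
  have hP'c : Nat.card P' = p := by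
    rw [hP', Subgroup.card_map_of_injective N.subtype_injective]; exact hPc
  have hP'N : P' ≤ N := Subgroup.map_subtype_le _
  have hfr : Subgroup.normalizer (P' : Set G) ⊔ N = ⊤ := Sylow.normalizer_sup_eq_top P
  have hKc := hNP P' hP'c
  set K : Subgroup G := Subgroup.normalizer (P' : Set G) with hK
  have hPK : P' ≤ K := Subgroup.le_normalizer
  have hidx : N.relIndex K = N.index := by
    rw [← Subgroup.relIndex_sup_right, hfr, Subgroup.relIndex_top_right]
  have h3 : Nat.card (K ⊓ N : Subgroup G) * N.relIndex K = p * r := by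
    rw [← hKc, ← Subgroup.inf_relIndex_left, ← Subgroup.relIndex_bot_left, ← Subgroup.relIndex_bot_left]
    exact Subgroup.relIndex_mul_relIndex _ _ _ bot_le inf_le_left
  have h4 : p ∣ Nat.card (K ⊓ N : Subgroup G) := by
    rw [← hP'c]; exact Subgroup.card_dvd_of_le (le_inf hPK hP'N)
  obtain ⟨m, hm⟩ := h4
  have h5 : m * N.relIndex K = r := by
    have : p * (m * N.relIndex K) = p * r := by rw [← mul_assoc, ← hm, h3]
    exact Nat.eq_of_mul_eq_mul_left hp.pos this
  rcases (Nat.dvd_prime hr).mp ⟨m, by rw [← h5, mul_comm]⟩ with h6 | h6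
  · rw [hidx] at h6
    exact Subgroup.index_eq_one.mp h6
  · exfalso
    have hm1 : m = 1 := by
      rw [h6] at h5
      exact Nat.eq_of_mul_eq_mul_right hr.pos (by rw [h5, one_mul])
    rw [hm1, mul_one] at hm
    -- the normalizer of `P` in `N` is `P`
    have hKN : (K ⊓ N : Subgroup G) = P' :=
      (Subgroup.eq_of_le_of_card_ge (le_inf hPK hP'N) (by rw [hm, hP'c])).symm
    have hPabel : ∀ x ∈ (P : Subgroup N), ∀ y ∈ (P : Subgroup N), x * y = y * x := by
      haveI : IsCyclic P := isCyclic_of_prime_card hPc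
      intro x hx y hy
      have := (IsCyclic.commutative (α := P)).is_comm.comm ⟨x, hx⟩ ⟨y, hy⟩
      exact congrArg Subtype.val this
    have hPn : Subgroup.normalizer ((P : Subgroup N) : Set N) ≤ Subgroup.centralizer (P : Set N) := by
      intro x hx
      have hxP : x ∈ (P : Subgroup N) := by
        have : (x : G) ∈ (K ⊓ N : Subgroup G) := by
          refine ⟨?_, x.2⟩
          show (x : G) ∈ Subgroup.normalizer (P' : Set G)
          rw [Subgroup.mem_normalizer_iff]
          intro g
          rw [Subgroup.mem_normalizer_iff] at hx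
          constructor
          · rintro ⟨y, hy, rfl⟩
            exact ⟨x * y * x⁻¹, (hx y).mp hy, rfl⟩
          · rintro ⟨y, hy, hyg⟩
            refine ⟨x⁻¹ * y * x, ?_, ?_⟩
            · have := (hx (x⁻¹ * y * x)).mpr (by
                have : x * (x⁻¹ * y * x) * x⁻¹ = y := by group
                rw [this]; exact hy)
              exact this
            · have : (y : G) = (x : G) * g * (x : G)⁻¹ := hyg
              show ((x : G)⁻¹ * (y : G) * (x : G)) = g
              rw [this]; group
        rw [hKN] at this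
        obtain ⟨y, hy, hyx⟩ := this
        have : y = x := Subtype.ext hyx
        rw [← this]; exact hy
      rw [Subgroup.mem_centralizer_iff]
      intro y hy
      exact hPabel y hy x hxP
    have hcomp := MonoidHom.ker_transferSylow_isComplement' P hPn
    set L : Subgroup N := (MonoidHom.transferSylow P hPn).ker with hL
    have hLc : Nat.card L * p = Nat.card N := by
      rw [← hPc]; exact hcomp.card_mul
    have hLp : ¬ p ∣ Nat.card L := by
      rintro ⟨t, ht⟩
      apply h2
      have : p ^ 2 ∣ Nat.card N := ⟨t, by rw [← hLc, ht]; ring⟩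
      exact this.trans (Subgroup.card_subgroup_dvd_card _)
    have hLi : L.index = p := by
      have := L.index_mul_card
      rw [← hLc, mul_comm] at this
      exact Nat.eq_of_mul_eq_mul_left Nat.card_pos this
    have hmem : ∀ x : N, x ^ Nat.card L = 1 → x ∈ L := by
      intro x hx
      rw [← QuotientGroup.eq_one_iff]
      have e1 : (x : N ⧸ L) ^ Nat.card L = 1 := by
        rw [← QuotientGroup.mk_pow, hx]; rfl
      have e2 : (x : N ⧸ L) ^ p = 1 := by
        have : (x : N ⧸ L) ^ L.index = 1 := pow_card_eq_one'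
        rwa [hLi] at this
      have hco : Nat.Coprime (Nat.card L) p := ((Nat.Prime.coprime_iff_not_dvd hp).mpr hLp).symm
      have e3 : orderOf (x : N ⧸ L) ∣ 1 := by
        rw [← hco]
        exact Nat.dvd_gcd (orderOf_dvd_of_pow_eq_one e1) (orderOf_dvd_of_pow_eq_one e2)
      exact orderOf_eq_one_iff.mp (Nat.dvd_one.mp e3)
    have hLn : (L.map N.subtype).Normal := by
      refine ⟨?_⟩
      rintro _ ⟨y, hy, rfl⟩ g
      refine ⟨⟨g * y * g⁻¹, hN.conj_mem _ y.2 g⟩, ?_, rfl⟩
      apply hmem
      apply Subtype.ext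
      show (g * (y : G) * g⁻¹) ^ Nat.card L = 1
      rw [conj_pow]
      have : (y : G) ^ Nat.card L = 1 := by
        have h7 : (⟨y, hy⟩ : L) ^ Nat.card L = 1 := pow_card_eq_one'
        exact congrArg (fun z : L => ((z : N) : G)) h7
      rw [this]; simp
    have hLb : L.map N.subtype = ⊥ := by
      by_contra hc
      have := H _ hLn hc
      rw [Subgroup.card_map_of_injective N.subtype_injective] at this
      exact hLp this
    have hL1 : Nat.card L = 1 := by
      rw [← Subgroup.card_map_of_injective N.subtype_injective, hLb, Subgroup.card_bot]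
    rw [hL1, one_mul] at hLc
    apply hG
    have := N.index_mul_card
    rw [← this, ← hLc, ← hidx, h6, mul_comm]

/-- the order of the normalizer of a Sylow subgroup of prime order -/
theorem normalizer_card [Finite G] {p : ℕ} (hp : p.Prime) (h2 : ¬ p ^ 2 ∣ Nat.card G) (P : Subgroup G)
    (hP : Nat.card P = p) : ∃ n, n * Nat.card (Subgroup.normalizer (P : Set G)) = Nat.card G ∧ n % p = 1 ∧
      Nat.card (Subgroup.normalizer (P : Set G)) ∣ Nat.card (Subgroup.centralizer (P : Set G)) * (p - 1) := by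
  haveI : Fact p.Prime := ⟨hp⟩
  have hfac : (Nat.card G).factorization p = 1 := by
    have h3 : p ∣ Nat.card G := by rw [← hP]; exact Subgroup.card_subgroup_dvd_card P
    have h4 : 1 ≤ (Nat.card G).factorization p := (hp.dvd_iff_one_le_factorization Nat.card_pos.ne').mp h3
    have h5 : ¬ 2 ≤ (Nat.card G).factorization p := by
      rw [← hp.pow_dvd_iff_le_factorization Nat.card_pos.ne']; exact h2
    omega
  let S : Sylow p G := Sylow.ofCard P (by rw [hP, hfac, pow_one])
  have hS : (S : Subgroup G) = P := rfl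
  refine ⟨Nat.card (Sylow p G), ?_, ?_, ?_⟩
  · rw [Sylow.card_eq_index_normalizer S]
    exact Subgroup.index_mul_card _
  · have := card_sylow_modEq_one p G
    rw [Nat.ModEq, Nat.mod_eq_of_lt hp.one_lt] at this
    exact this
  · have hcyc : IsCyclic P := isCyclic_of_prime_card hP
    have h3 : (Subgroup.normalizerMonoidHom P).ker = (Subgroup.centralizer (P : Set G)).subgroupOf (Subgroup.normalizer (P : Set G)) :=
      Subgroup.normalizerMonoidHom_ker P
    have h4 := Subgroup.card_eq_card_quotient_mul_card_subgroup (Subgroup.normalizerMonoidHom P).ker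
    have h5 : Nat.card (Subgroup.normalizer (P : Set G) ⧸ (Subgroup.normalizerMonoidHom P).ker) ∣ Nat.card (MulAut P) := by
      rw [Nat.card_congr (QuotientGroup.quotientKerEquivRange _).toEquiv]
      exact Subgroup.card_subgroup_dvd_card _
    have h6 : Nat.card (MulAut P) = p - 1 := by
      rw [IsCyclic.card_mulAut, hP, Nat.totient_prime hp]
    have h7 : Nat.card (Subgroup.normalizerMonoidHom P).ker = Nat.card (Subgroup.centralizer (P : Set G)) := by
      rw [h3]
      exact Nat.card_congr (Subgroup.subgroupOfEquivOfLe (Subgroup.centralizer_le_normalizer _)).toEquiv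
    rw [h4, h7, mul_comm]
    apply mul_dvd_mul_left
    rw [← h6]; exact h5

/-- a group acting semiregularly at a point with all images in `O` has order at most `|O|` -/
theorem card_le_of_semiregular {α : Type*} [MulAction G α] (C : Subgroup G) (x : α) (O : Set α) (hO : O.Finite)
    (h1 : ∀ c ∈ C, c • x ∈ O) (h2 : ∀ c ∈ C, c • x = x → c = 1) : Nat.card C ≤ O.ncard := by
  rw [← Nat.card_coe_set_eq]
  haveI : Finite O := hO
  apply Nat.card_le_card_of_injective (fun c : C => (⟨(c : G) • x, h1 c c.2⟩ : O))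
  intro a b hab
  have hab' : (a : G) • x = (b : G) • x := congrArg Subtype.val hab
  have := h2 ((b : G)⁻¹ * a) (C.mul_mem (C.inv_mem b.2) a.2) (by rw [mul_smul, hab', inv_smul_smul])
  exact Subtype.ext (inv_mul_eq_one.mp this).symm

theorem simple_of_fix [Finite G] {α : Type*} [DecidableEq α] [MulAction G α] (O : Finset α)
    (hO : ∀ g : G, ∀ a ∈ O, g • a ∈ O)
    (h2 : ∀ a ∈ O, ∀ b ∈ O, ∀ c ∈ O, ∀ d ∈ O, a ≠ b → c ≠ d → ∃ g : G, g • a = c ∧ g • b = d)
    {p r : ℕ} (hp : p.Prime) (hr : r.Prime) (hpO : p ∣ O.card) (hO0 : O.card ≠ 0)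
    (hfix : ∀ g : G, ∀ F ⊆ O, p ≤ F.card → (∀ x ∈ F, g • x = x) → g = 1) (hp2 : ¬ p ^ 2 ∣ Nat.card G)
    (hnum : ∀ c ≤ O.card, p ∣ c → c ≠ 0 → ∀ n N, n * N = Nat.card G → n % p = 1 → N ∣ c * (p - 1) → N = p * r)
    (hG : Nat.card G ≠ p * r) : IsSimpleGroup G := by
  classical
  haveI : Fact p.Prime := ⟨hp⟩
  have hpO' : p ≤ O.card := Nat.le_of_dvd (Nat.pos_of_ne_zero hO0) hpO
  have hf : ∀ g : G, (∀ a ∈ (O : Set α), g • a = a) → g = 1 := fun g h => hfix g O subset_rfl hpO' h
  have hO' : ∀ g : G, ∀ a ∈ (O : Set α), g • a ∈ (O : Set α) := hO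
  obtain ⟨u, hu⟩ : O.Nonempty := Finset.card_ne_zero.mp hO0
  have H : ∀ N : Subgroup G, N.Normal → N ≠ ⊥ → p ∣ Nat.card N := by
    intro N hN hN1
    have h3 := ncard_dvd_of_transitive (O : Set α) hO' (N := N) (u := u) hu
      (fun v hv => transitive_of_normal (O : Set α) hf hO' h2 hN hN1 hu hv)
    rw [Set.ncard_coe_finset] at h3
    exact hpO.trans h3
  have hGnt : (⊤ : Subgroup G) ≠ ⊥ := by
    intro hc
    have h3 : Nat.card G = 1 := by rw [← Subgroup.card_top, hc, Subgroup.card_bot]
    -- 2-transitivity gives a nontrivial element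
    have h4 : 1 < O.card := lt_of_lt_of_le hp.one_lt hpO'
    obtain ⟨a, ha, b, hb, hab⟩ := Finset.one_lt_card.mp h4
    obtain ⟨g, hg, _⟩ := h2 a ha b hb b hb a ha hab hab.symm
    haveI : Subsingleton G := (Nat.card_eq_one_iff_unique.mp h3).1
    have : g = 1 := Subsingleton.elim _ _
    rw [this, one_smul] at hg
    exact hab hg
  have hpG : p ∣ Nat.card G := by
    have := H ⊤ inferInstance hGnt
    rwa [Subgroup.card_top] at this
  refine simple_of_sylow hp hr hp2 hpG ?_ H hG
  intro P hP
  have hsemi : ∀ g ∈ P, ∀ x ∈ O, g • x = x → g = 1 := by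
    intro g hg x hx hgx
    by_contra hg1
    have hPz : P = Subgroup.zpowers g := by
      symm
      apply Subgroup.eq_of_le_of_card_ge (by rwa [Subgroup.zpowers_le])
      rw [hP, Nat.card_zpowers]
      have h3 : orderOf g ∣ p := by
        rw [← hP]; exact Subgroup.orderOf_dvd_natCard P hg
      rcases (Nat.dvd_prime hp).mp h3 with h4 | h4
      · exact absurd (orderOf_eq_one_iff.mp h4) hg1
      · exact h4.ge
    have hPx : ∀ k ∈ P, k • x = x := by
      intro k hk
      rw [hPz, Subgroup.mem_zpowers_iff] at hk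
      obtain ⟨i, rfl⟩ := hk
      have : g ∈ MulAction.stabilizer G x := hgx
      exact (Subgroup.zpow_mem _ this i)
    let S : SubMulAction P α := ⟨(O : Set α), fun k {a} ha => hO (k : G) a ha⟩
    have hPp : IsPGroup p P := IsPGroup.of_card (n := 1) (by rw [hP, pow_one])
    haveI : Finite S := Finite.of_equiv (O : Set α) (Equiv.refl _)
    have h3 := hPp.card_modEq_card_fixedPoints S
    have h4 : Nat.card S = O.card := by
      have : Nat.card S = Nat.card (O : Set α) := rfl
      rw [this, Nat.card_coe_set_eq, Set.ncard_coe_finset]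
    rw [h4] at h3
    have h5 : p ∣ Nat.card (MulAction.fixedPoints P S) := (Nat.modEq_zero_iff_dvd.mp (h3.symm.trans (Nat.modEq_zero_iff_dvd.mpr hpO)))
    have h6 : Nat.card (MulAction.fixedPoints P S) ≠ 0 := by
      rw [Nat.card_ne_zero]
      exact ⟨⟨⟨⟨x, hx⟩, fun k => Subtype.ext (hPx k k.2)⟩⟩, inferInstance⟩
    have h7 : p ≤ Nat.card (MulAction.fixedPoints P S) := Nat.le_of_dvd (Nat.pos_of_ne_zero h6) h5
    let F : Finset α := (Set.toFinite ((fun z : S => (z : α)) '' (MulAction.fixedPoints P S))).toFinset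
    have hFc : F.card = Nat.card (MulAction.fixedPoints P S) := by
      rw [← Set.ncard_eq_toFinset_card _ (Set.toFinite _), Set.ncard_image_of_injective _ Subtype.val_injective,
        Nat.card_coe_set_eq]
    have hFO : F ⊆ O := by
      intro z hz
      rw [Set.Finite.mem_toFinset] at hz
      obtain ⟨z', _, rfl⟩ := hz
      exact z'.2
    apply hg1
    apply hfix g F hFO (by rw [hFc]; exact h7)
    intro z hz
    rw [Set.Finite.mem_toFinset] at hz
    obtain ⟨z', hz', rfl⟩ := hz
    exact congrArg Subtype.val (hz' ⟨g, hg⟩)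
  have hC1 : Nat.card (Subgroup.centralizer (P : Set G)) ≤ (O : Set α).ncard := by
    apply card_le_of_semiregular _ u _ O.finite_toSet (fun c _ => hO c u hu)
    intro c hc hcu
    rw [Subgroup.mem_centralizer_iff] at hc
    have : Fintype P := Fintype.ofFinite P
    let F : Finset α := Finset.univ.image (fun k : P => (k : G) • u)
    have hFc : F.card = p := by
      rw [Finset.card_image_of_injective, Finset.card_univ, ← Nat.card_eq_fintype_card, hP]
      intro a b hab
      have hab' : (a : G) • u = (b : G) • u := hab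
      have := hsemi ((b : G)⁻¹ * a) (P.mul_mem (P.inv_mem b.2) a.2) u hu (by rw [mul_smul, hab', inv_smul_smul])
      exact Subtype.ext (inv_mul_eq_one.mp this).symm
    apply hfix c F
    · intro z hz
      rw [Finset.mem_image] at hz
      obtain ⟨k, _, rfl⟩ := hz
      exact hO _ _ hu
    · rw [hFc]
    · intro z hz
      rw [Finset.mem_image] at hz
      obtain ⟨k, _, rfl⟩ := hz
      rw [← mul_smul, ← hc k k.2, mul_smul, hcu]
  have hC2 : p ∣ Nat.card (Subgroup.centralizer (P : Set G)) := by
    rw [← hP]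
    apply Subgroup.card_dvd_of_le
    haveI : IsCyclic P := isCyclic_of_prime_card hP
    intro x hx
    rw [Subgroup.mem_centralizer_iff]
    intro y hy
    have := (IsCyclic.commutative (α := P)).is_comm.comm ⟨y, hy⟩ ⟨x, hx⟩
    exact congrArg Subtype.val this
  obtain ⟨n, h3, h4, h5⟩ := normalizer_card hp hp2 P hP
  rw [Set.ncard_coe_finset] at hC1
  exact hnum _ hC1 hC2 Nat.card_pos.ne' n _ h3 h4 h5

end CfsgLib.SimpleCrit
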