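import Mathlib
import Cfsg.Prelude.Def_Sporadic_a

/-!
Counting in Steiner systems.
-/

set_option autoImplicit false

namespace CfsgLib.Steiner

open Cfsg Finset

variable {α : Type*} [Fintype α] [DecidableEq α] {t k : ℕ} {B : Set (Finset α)}

/-- blocks as a finset -/
noncomputable def bl (B : Set (Finset α)) : Finset (Finset α) := by
  classical exact univ.filter (· ∈ B)

theorem mem_bl {B : Set (Finset α)} {b : Finset α} : b ∈ bl B ↔ b ∈ B := by
  classical
  simp [bl]

theorem coe_bl (B : Set (Finset α)) : (↑(bl B) : Set (Finset α)) = B := by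
  ext b; simp [mem_bl]

theorem ncard_filter (P : Finset α → Prop) [DecidablePred P] :
    {b : Finset α | b ∈ B ∧ P b}.ncard = ((bl B).filter P).card := by
  rw [← Set.ncard_coe_finset]
  congr 1
  ext b; simp [mem_bl]

/-- number of `j`-element extensions `s ⊆ T ⊆ b` -/
theorem card_between {s b : Finset α} (hs : s ⊆ b) (n : ℕ) (hn : s.card ≤ n) :
    (univ.filter (fun T : Finset α => s ⊆ T ∧ T ⊆ b ∧ T.card = n)).card =
      (b.card - s.card).choose (n - s.card) := by
  rw [← card_sdiff_of_subset hs, ← card_powersetCard]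
  symm
  apply card_bij' (fun U _ => U ∪ s) (fun T _ => T \ s)
  · intro U hU
    rw [mem_powersetCard] at hU
    rw [mem_filter]
    have hd : Disjoint U s := by
      apply Disjoint.mono_left hU.1; exact sdiff_disjoint
    refine ⟨mem_univ _, subset_union_right, union_subset (hU.1.trans sdiff_subset) hs, ?_⟩
    rw [card_union_of_disjoint hd, hU.2]; omega
  · intro T hT
    rw [mem_filter] at hT
    rw [mem_powersetCard]
    exact ⟨sdiff_subset_sdiff hT.2.2.1 (Subset.refl _), by rw [card_sdiff_of_subset hT.2.1, hT.2.2.2]⟩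
  · intro U hU
    rw [mem_powersetCard] at hU
    have hd : Disjoint U s := by
      apply Disjoint.mono_left hU.1; exact sdiff_disjoint
    rw [union_sdiff_right]
    exact sdiff_eq_self_of_disjoint hd
  · intro T hT
    rw [mem_filter] at hT
    exact sdiff_union_of_subset hT.2.1

/-- number of blocks containing `s` times `choose (k-i) (t-i)`. -/
theorem card_containing_mul (hB : IsSteinerSystem t k B) (s : Finset α) (hs : s.card ≤ t) :
    ((bl B).filter (fun b => s ⊆ b)).card * (k - s.card).choose (t - s.card) =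
      (Fintype.card α - s.card).choose (t - s.card) := by
  classical
  have h1 : (univ.filter (fun T : Finset α => s ⊆ T ∧ T ⊆ univ ∧ T.card = t)).card =
      ∑ b ∈ (bl B).filter (fun b => s ⊆ b), (univ.filter (fun T : Finset α => s ⊆ T ∧ T ⊆ b ∧ T.card = t)).card := by
    rw [← card_biUnion]
    · congr 1
      ext T
      simp only [mem_filter, mem_univ, true_and, mem_biUnion, mem_bl]
      constructor
      · rintro ⟨h1, h2, h3⟩
        obtain ⟨b, ⟨hb, hTb⟩, -⟩ := hB.2 T h3
        exact ⟨b, ⟨hb, h1.trans hTb⟩, h1, hTb, h3⟩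
      · rintro ⟨b, ⟨hb, hsb⟩, h1, h2, h3⟩
        exact ⟨h1, subset_univ _, h3⟩
    · intro b hb c hc hbc
      rw [Function.onFun, disjoint_left]
      intro T hT hT'
      rw [mem_filter] at hT hT'
      simp only [coe_filter, Set.mem_setOf_eq, mem_bl] at hb hc
      exact hbc ((hB.2 T hT.2.2.2).unique ⟨hb.1, hT.2.2.1⟩ ⟨hc.1, hT'.2.2.1⟩)
  rw [card_between (subset_univ s) t hs, card_univ] at h1
  rw [h1, Finset.sum_congr rfl (g := fun _ => (k - s.card).choose (t - s.card)), sum_const, smul_eq_mul]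
  intro b hb
  rw [mem_filter, mem_bl] at hb
  rw [card_between hb.2 t hs, hB.1 b hb.1]

theorem le_of_steiner (hB : IsSteinerSystem t k B) (ht : t ≤ Fintype.card α) : t ≤ k := by
  obtain ⟨T, hT⟩ := Finset.exists_subset_card_eq (s := (univ : Finset α)) (n := t) (by rw [card_univ]; exact ht)
  obtain ⟨b, ⟨hb, hTb⟩, -⟩ := hB.2 T hT.2
  rw [← hT.2, ← hB.1 b hb]
  exact card_le_card hTb

/-- number of blocks through `i` points -/
def lam (v t k i : ℕ) : ℕ := (v - i).choose (t - i) / (k - i).choose (t - i)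

theorem card_containing (hB : IsSteinerSystem t k B) (s : Finset α) (hs : s.card ≤ t) (htk : t ≤ k) :
    ((bl B).filter (fun b => s ⊆ b)).card = lam (Fintype.card α) t k s.card := by
  have h1 := card_containing_mul hB s hs
  have hpos : 0 < (k - s.card).choose (t - s.card) := Nat.choose_pos (by omega)
  rw [lam, ← h1, Nat.mul_div_cancel _ hpos]

/-- the basic double count -/
theorem sum_choose (hB : IsSteinerSystem t k B) (htk : t ≤ k) (s u : Finset α) (hd : Disjoint s u) (j : ℕ)
    (hj : s.card + j ≤ t) :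
    ∑ c ∈ (bl B).filter (fun b => s ⊆ b), (u ∩ c).card.choose j =
      u.card.choose j * lam (Fintype.card α) t k (s.card + j) := by
  classical
  have h1 : ∀ c : Finset α, (u ∩ c).card.choose j = ∑ J ∈ powersetCard j u, if J ⊆ c then 1 else 0 := by
    intro c
    rw [← card_powersetCard, ← card_filter]
    congr 1
    ext J
    simp only [mem_powersetCard, mem_filter, subset_inter_iff]
    tauto
  rw [Finset.sum_congr rfl (fun c _ => h1 c), sum_comm]
  rw [Finset.sum_congr rfl (g := fun _ => lam (Fintype.card α) t k (s.card + j)), sum_const, smul_eq_mul,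
    card_powersetCard]
  intro J hJ
  rw [mem_powersetCard] at hJ
  rw [← card_filter, filter_filter]
  have hdJ : Disjoint s J := hd.mono_right hJ.1
  have h2 : (s ∪ J).card = s.card + j := by rw [card_union_of_disjoint hdJ, hJ.2]
  rw [← h2, ← card_containing hB (s ∪ J) (by omega) htk]
  congr 1
  ext c
  simp only [mem_filter, union_subset_iff]

/-- two distinct blocks meet in fewer than `t` points -/
theorem card_inter_lt (hB : IsSteinerSystem t k B) {b c : Finset α} (hb : b ∈ B) (hc : c ∈ B) (hbc : b ≠ c) :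
    (b ∩ c).card < t := by
  by_contra h
  push Not at h
  obtain ⟨T, hT⟩ := Finset.exists_subset_card_eq h
  exact hbc ((hB.2 T hT.2).unique ⟨hb, hT.1.trans inter_subset_left⟩ ⟨hc, hT.1.trans inter_subset_right⟩)

/-- weighted sums by values -/
theorem sum_by_value {ι : Type*} [DecidableEq ι] (F : Finset ι) (f : ι → ℕ) (N : ℕ) (hN : ∀ c ∈ F, f c < N) (g : ℕ → ℕ) :
    ∑ c ∈ F, g (f c) = ∑ r ∈ range N, (F.filter (fun c => f c = r)).card * g r := by
  rw [← Finset.sum_fiberwise_of_maps_to (t := range N) (g := f) (fun c hc => mem_range.mpr (hN c hc))]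
  apply Finset.sum_congr rfl
  intro r _
  rw [Finset.sum_congr rfl (g := fun _ => g r), sum_const, smul_eq_mul]
  intro c hc
  rw [mem_filter] at hc
  rw [hc.2]

/-- intersection equations for the other blocks, relative to a block -/
theorem block_eq (hB : IsSteinerSystem t k B) (htk : t ≤ k) {b : Finset α} (hb : b ∈ B) (j : ℕ) (hj : j ≤ t) :
    ∑ r ∈ range t, (((bl B).erase b).filter (fun c => (b ∩ c).card = r)).card * r.choose j + k.choose j =
      k.choose j * lam (Fintype.card α) t k j := by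
  classical
  have h1 := sum_choose hB htk ∅ b (disjoint_empty_left _) j (by simpa using hj)
  rw [card_empty, zero_add, hB.1 b hb] at h1
  rw [← h1]
  have h2 : (bl B).filter (fun c => ∅ ⊆ c) = bl B := by
    ext c; simp
  rw [h2, ← sum_erase_add _ _ (mem_bl.mpr hb), inter_self, hB.1 b hb]
  congr 1
  symm
  apply sum_by_value ((bl B).erase b) (fun c => (b ∩ c).card) t _ (fun r => r.choose j)
  intro c hc
  rw [mem_erase, mem_bl] at hc
  exact card_inter_lt hB hb hc.2 hc.1.symm

/-- intersection equations relative to an arbitrary set -/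
theorem set_eq (hB : IsSteinerSystem t k B) (htk : t ≤ k) (u : Finset α) (j : ℕ) (hj : j ≤ t) :
    ∑ r ∈ range (u.card + 1), ((bl B).filter (fun c => (u ∩ c).card = r)).card * r.choose j =
      u.card.choose j * lam (Fintype.card α) t k j := by
  classical
  have h1 := sum_choose hB htk ∅ u (disjoint_empty_left _) j (by simpa using hj)
  rw [card_empty, zero_add] at h1
  rw [← h1]
  have h2 : (bl B).filter (fun c => ∅ ⊆ c) = bl B := by
    ext c; simp
  rw [h2]
  symm
  apply sum_by_value (bl B) (fun c => (u ∩ c).card) (u.card + 1) _ (fun r => r.choose j)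
  intro c _
  exact Nat.lt_succ_of_le (card_le_card inter_subset_left)

/-- intersection equations for blocks through `s ⊆ b`, relative to the rest of the block `b` -/
theorem block_eq' (hB : IsSteinerSystem t k B) (htk : t ≤ k) {b : Finset α} (hb : b ∈ B) (s : Finset α) (hs : s ⊆ b)
    (j : ℕ) (hj : s.card + j ≤ t) :
    ∑ r ∈ range (t - s.card), ((((bl B).filter (fun c => s ⊆ c)).erase b).filter
      (fun c => ((b \ s) ∩ c).card = r)).card * r.choose j + (k - s.card).choose j =
      (k - s.card).choose j * lam (Fintype.card α) t k (s.card + j) := by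
  classical
  have h1 := sum_choose hB htk s (b \ s) disjoint_sdiff j hj
  rw [card_sdiff_of_subset hs, hB.1 b hb] at h1
  rw [← h1]
  have hbm : b ∈ (bl B).filter (fun c => s ⊆ c) := by rw [mem_filter, mem_bl]; exact ⟨hb, hs⟩
  rw [← sum_erase_add _ _ hbm]
  have h3 : (b \ s ∩ b).card = k - s.card := by
    rw [inter_eq_left.mpr sdiff_subset, card_sdiff_of_subset hs, hB.1 b hb]
  rw [h3]
  congr 1
  symm
  apply sum_by_value (((bl B).filter (fun c => s ⊆ c)).erase b) (fun c => ((b \ s) ∩ c).card) (t - s.card) _ (fun r => r.choose j)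
  intro c hc
  rw [mem_erase, mem_filter, mem_bl] at hc
  have h4 := card_inter_lt hB hb hc.2.1 hc.1.symm
  have h5 : (b ∩ c).card = s.card + ((b \ s) ∩ c).card := by
    rw [← card_union_of_disjoint]
    · congr 1
      ext x
      simp only [mem_inter, mem_union, mem_sdiff]
      constructor
      · rintro ⟨h, h'⟩
        by_cases hx : x ∈ s
        · exact Or.inl hx
        · exact Or.inr ⟨⟨h, hx⟩, h'⟩
      · rintro (h | ⟨⟨h, -⟩, h'⟩)
        · exact ⟨hs h, hc.2.2 h⟩
        · exact ⟨h, h'⟩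
    · exact disjoint_of_subset_right inter_subset_left disjoint_sdiff
  omega

/-- abstract form of `block_eq` -/
theorem block_eqs (hB : IsSteinerSystem t k B) (htk : t ≤ k) {b : Finset α} (hb : b ∈ B) :
    ∃ x : ℕ → ℕ, (∀ r, x r = (((bl B).erase b).filter (fun c => (b ∩ c).card = r)).card) ∧
      (∀ j ≤ t, ∑ r ∈ range t, x r * r.choose j + k.choose j = k.choose j * lam (Fintype.card α) t k j) ∧
      ∀ c ∈ B, b ≠ c → 0 < x (b ∩ c).card := by
  refine ⟨fun r => (((bl B).erase b).filter (fun c => (b ∩ c).card = r)).card, fun r => rfl,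
    fun j hj => block_eq hB htk hb j hj, ?_⟩
  intro c hc hbc
  apply Finset.card_pos.mpr
  exact ⟨c, by rw [Finset.mem_filter, Finset.mem_erase, mem_bl]; exact ⟨⟨hbc.symm, hc⟩, rfl⟩⟩

/-- abstract form of `set_eq` -/
theorem set_eqs (hB : IsSteinerSystem t k B) (htk : t ≤ k) (u : Finset α) :
    ∃ x : ℕ → ℕ, (∀ r, x r = ((bl B).filter (fun c => (u ∩ c).card = r)).card) ∧
      (∀ j ≤ t, ∑ r ∈ range (u.card + 1), x r * r.choose j = u.card.choose j * lam (Fintype.card α) t k j) ∧
      ∀ c ∈ B, 0 < x (u ∩ c).card := by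
  refine ⟨fun r => ((bl B).filter (fun c => (u ∩ c).card = r)).card, fun r => rfl,
    fun j hj => set_eq hB htk u j hj, ?_⟩
  intro c hc
  apply Finset.card_pos.mpr
  exact ⟨c, by rw [Finset.mem_filter, mem_bl]; exact ⟨hc, rfl⟩⟩

/-- abstract form of `block_eq'` -/
theorem block_eqs' (hB : IsSteinerSystem t k B) (htk : t ≤ k) {b : Finset α} (hb : b ∈ B) (s : Finset α) (hs : s ⊆ b) :
    ∃ x : ℕ → ℕ, (∀ r, x r = ((((bl B).filter (fun c => s ⊆ c)).erase b).filter
      (fun c => ((b \ s) ∩ c).card = r)).card) ∧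
      (∀ j, s.card + j ≤ t → ∑ r ∈ range (t - s.card), x r * r.choose j + (k - s.card).choose j =
      (k - s.card).choose j * lam (Fintype.card α) t k (s.card + j)) :=
  ⟨fun r => ((((bl B).filter (fun c => s ⊆ c)).erase b).filter
      (fun c => ((b \ s) ∩ c).card = r)).card, fun r => rfl, fun j hj => block_eq' hB htk hb s hs j hj⟩

section S5_8_24
variable (hα : Fintype.card α = 24) (hB : IsSteinerSystem 5 8 B)
include hα hB

theorem x_5_8_24 {b : Finset α} (hb : b ∈ B) : ∃ x : ℕ → ℕ,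
    (∀ r, x r = (((bl B).erase b).filter (fun c => (b ∩ c).card = r)).card) ∧
    (∀ c ∈ B, b ≠ c → 0 < x (b ∩ c).card) ∧ x 0 = 30 ∧ x 1 = 0 ∧ x 2 = 448 ∧ x 3 = 0 ∧ x 4 = 280 := by
  obtain ⟨x, hx, h, h'⟩ := block_eqs hB (by norm_num) hb
  rw [hα] at h
  have h0 := h 0 (by norm_num)
  have h1 := h 1 (by norm_num)
  have h2 := h 2 (by norm_num)
  have h3 := h 3 (by norm_num)
  have h4 := h 4 (by norm_num)
  simp only [Finset.sum_range_succ, Finset.sum_range_zero, Nat.choose, lam] at h0 h1 h2 h3 h4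
  norm_num [Nat.choose] at h0 h1 h2 h3 h4
  refine ⟨x, hx, h', ?_, ?_, ?_, ?_, ?_⟩ <;> omega

theorem inter_5_8_24 {b c : Finset α} (hb : b ∈ B) (hc : c ∈ B) (hbc : b ≠ c) :
    (b ∩ c).card = 0 ∨ (b ∩ c).card = 2 ∨ (b ∩ c).card = 4 := by
  obtain ⟨x, hx, h', h0, h1, h2, h3, h4⟩ := x_5_8_24 hα hB hb
  have hlt := card_inter_lt hB hb hc hbc
  have h5 := h' c hc hbc
  have : (b ∩ c).card = 0 ∨ (b ∩ c).card = 1 ∨ (b ∩ c).card = 2 ∨ (b ∩ c).card = 3 ∨ (b ∩ c).card = 4 := by omega
  rcases this with h | h | h | h | h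
  · exact Or.inl h
  · rw [h, h1] at h5; omega
  · exact Or.inr (Or.inl h)
  · rw [h, h3] at h5; omega
  · exact Or.inr (Or.inr h)

theorem even_inter_5_8_24 {b c : Finset α} (hb : b ∈ B) (hc : c ∈ B) : Even (b ∩ c).card := by
  by_cases hbc : b = c
  · subst hbc; rw [inter_self, hB.1 b hb]; decide
  · rcases inter_5_8_24 hα hB hb hc hbc with h | h | h <;> rw [h] <;> decide

end S5_8_24

section S4_7_23
variable (hα : Fintype.card α = 23) (hB : IsSteinerSystem 4 7 B)
include hα hB

theorem x_4_7_23 {b : Finset α} (hb : b ∈ B) : ∃ x : ℕ → ℕ,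
    (∀ r, x r = (((bl B).erase b).filter (fun c => (b ∩ c).card = r)).card) ∧
    (∀ c ∈ B, b ≠ c → 0 < x (b ∩ c).card) ∧ x 0 = 0 ∧ x 1 = 112 ∧ x 2 = 0 ∧ x 3 = 140 := by
  obtain ⟨x, hx, h, h'⟩ := block_eqs hB (by norm_num) hb
  rw [hα] at h
  have h0 := h 0 (by norm_num)
  have h1 := h 1 (by norm_num)
  have h2 := h 2 (by norm_num)
  have h3 := h 3 (by norm_num)
  simp only [Finset.sum_range_succ, Finset.sum_range_zero, Nat.choose, lam] at h0 h1 h2 h3
  norm_num [Nat.choose] at h0 h1 h2 h3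
  refine ⟨x, hx, h', ?_, ?_, ?_, ?_⟩ <;> omega

theorem inter_4_7_23 {b c : Finset α} (hb : b ∈ B) (hc : c ∈ B) (hbc : b ≠ c) :
    (b ∩ c).card = 1 ∨ (b ∩ c).card = 3 := by
  obtain ⟨x, hx, h', h0, h1, h2, h3⟩ := x_4_7_23 hα hB hb
  have hlt := card_inter_lt hB hb hc hbc
  have h5 := h' c hc hbc
  have : (b ∩ c).card = 0 ∨ (b ∩ c).card = 1 ∨ (b ∩ c).card = 2 ∨ (b ∩ c).card = 3 := by omega
  rcases this with h | h | h | h
  · rw [h, h0] at h5; omega
  · exact Or.inl h
  · rw [h, h2] at h5; omega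
  · exact Or.inr h

end S4_7_23

section S3_6_22
variable (hα : Fintype.card α = 22) (hB : IsSteinerSystem 3 6 B)
include hα hB

theorem x_3_6_22 {b : Finset α} (hb : b ∈ B) : ∃ x : ℕ → ℕ,
    (∀ r, x r = (((bl B).erase b).filter (fun c => (b ∩ c).card = r)).card) ∧
    (∀ c ∈ B, b ≠ c → 0 < x (b ∩ c).card) ∧ x 0 = 16 ∧ x 1 = 0 ∧ x 2 = 60 := by
  obtain ⟨x, hx, h, h'⟩ := block_eqs hB (by norm_num) hb
  rw [hα] at h
  have h0 := h 0 (by norm_num)
  have h1 := h 1 (by norm_num)
  have h2 := h 2 (by norm_num)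
  simp only [Finset.sum_range_succ, Finset.sum_range_zero, Nat.choose, lam] at h0 h1 h2
  norm_num [Nat.choose] at h0 h1 h2
  refine ⟨x, hx, h', ?_, ?_, ?_⟩ <;> omega

theorem inter_3_6_22 {b c : Finset α} (hb : b ∈ B) (hc : c ∈ B) (hbc : b ≠ c) :
    (b ∩ c).card = 0 ∨ (b ∩ c).card = 2 := by
  obtain ⟨x, hx, h', h0, h1, h2⟩ := x_3_6_22 hα hB hb
  have hlt := card_inter_lt hB hb hc hbc
  have h5 := h' c hc hbc
  have : (b ∩ c).card = 0 ∨ (b ∩ c).card = 1 ∨ (b ∩ c).card = 2 := by omega
  rcases this with h | h | h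
  · exact Or.inl h
  · rw [h, h1] at h5; omega
  · exact Or.inr h

end S3_6_22

section S5_6_12
variable (hα : Fintype.card α = 12) (hB : IsSteinerSystem 5 6 B)
include hα hB

theorem x_5_6_12 {b : Finset α} (hb : b ∈ B) : ∃ x : ℕ → ℕ,
    (∀ r, x r = (((bl B).erase b).filter (fun c => (b ∩ c).card = r)).card) ∧
    (∀ c ∈ B, b ≠ c → 0 < x (b ∩ c).card) ∧ x 0 = 1 ∧ x 1 = 0 ∧ x 2 = 45 ∧ x 3 = 40 ∧ x 4 = 45 := by
  obtain ⟨x, hx, h, h'⟩ := block_eqs hB (by norm_num) hb
  rw [hα] at h
  have h0 := h 0 (by norm_num)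
  have h1 := h 1 (by norm_num)
  have h2 := h 2 (by norm_num)
  have h3 := h 3 (by norm_num)
  have h4 := h 4 (by norm_num)
  simp only [Finset.sum_range_succ, Finset.sum_range_zero, Nat.choose, lam] at h0 h1 h2 h3 h4
  norm_num [Nat.choose] at h0 h1 h2 h3 h4
  refine ⟨x, hx, h', ?_, ?_, ?_, ?_, ?_⟩ <;> omega

theorem inter_5_6_12 {b c : Finset α} (hb : b ∈ B) (hc : c ∈ B) (hbc : b ≠ c) :
    (b ∩ c).card = 0 ∨ (b ∩ c).card = 2 ∨ (b ∩ c).card = 3 ∨ (b ∩ c).card = 4 := by
  obtain ⟨x, hx, h', h0, h1, h2, h3, h4⟩ := x_5_6_12 hα hB hb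
  have hlt := card_inter_lt hB hb hc hbc
  have h5 := h' c hc hbc
  by_contra hcon
  push Not at hcon
  have h6 : (b ∩ c).card = 1 := by omega
  rw [h6, h1] at h5; omega

end S5_6_12

end CfsgLib.Steiner
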