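import Mathlib
import Cfsg.Agent.Lib.GolayPerm
import Cfsg.Agent.Lib.SimpleCrit
import Cfsg.Agent.Lib.Steiner

/-!
Simplicity of the groups `PS l`, transfer to subgroups of `M24`.
-/

set_option autoImplicit false

namespace CfsgLib.Golay

open Cfsg
open scoped Pointwise

/-- transfer between subgroups of `M24` and subgroups of the symmetric group -/
def subEquiv (K : Subgroup ↥M24) (L : Subgroup (Equiv.Perm GolayPt))
    (h : ∀ g (hg : g ∈ M24), (⟨g, hg⟩ : M24) ∈ K ↔ g ∈ L) (hL : ∀ g ∈ L, g ∈ M24) : K ≃* L where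
  toFun g := ⟨(g : M24), (h _ g.1.2).mp g.2⟩
  invFun g := ⟨⟨g, hL _ g.2⟩, (h _ (hL _ g.2)).mpr g.2⟩
  left_inv _ := rfl
  right_inv _ := rfl
  map_mul' _ _ := rfl

theorem card_subEquiv {K : Subgroup ↥M24} {L : Subgroup (Equiv.Perm GolayPt)}
    (h : ∀ g (hg : g ∈ M24), (⟨g, hg⟩ : M24) ∈ K ↔ g ∈ L) (hL : ∀ g ∈ L, g ∈ M24) : Nat.card K = Nat.card L :=
  Nat.card_congr (subEquiv K L h hL).toEquiv

theorem isSimple_of_equiv {A B : Type*} [Group A] [Group B] (e : A ≃* B) (h : IsSimpleGroup B) : IsSimpleGroup A := by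
  haveI : Nontrivial A := by
    obtain ⟨x, y, hxy⟩ := h.toNontrivial
    exact ⟨⟨e.symm x, e.symm y, fun h => hxy (e.symm.injective h)⟩⟩
  exact IsSimpleGroup.isSimpleGroup_of_surjective e.symm.toMonoidHom e.symm.surjective

theorem octads_steiner_bl : IsSteinerSystem 5 8 octads := steiner

/-- an element with at least ten fixed points is trivial -/
theorem eq_one_of_fix_ten {g : Equiv.Perm GolayPt} (hg : g ∈ M24) (F : Finset GolayPt) (hF : 10 ≤ F.card)
    (h : ∀ p ∈ F, g p = p) : g = 1 := by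
  classical
  obtain ⟨l, hl, hl4, hlF⟩ := exists_list_of_le_card (s := F) (n := 4) (by omega)
  match l, hl4 with
  | [a, b, c, d], _ =>
    set T : Finset GolayPt := [a, b, c, d].toFinset with hT
    have hTc : T.card = 4 := by rw [hT, List.toFinset_card_of_nodup hl]; rfl
    have hTF : T ⊆ F := fun p hp => hlF p (List.mem_toFinset.mp hp)
    have hex : ∀ x, x ∉ T → ∃ o ∈ octads, insert x T ⊆ o := fun x hx =>
      octad_through_five (by rw [Finset.card_insert_of_notMem hx, hTc])
    choose! φ hφ1 hφ2 using hex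
    have h1 : ((CfsgLib.Steiner.bl octads).filter fun o => T ⊆ o).card = 5 := by
      rw [CfsgLib.Steiner.card_containing steiner T (by omega) (by norm_num), hTc]
      decide
    obtain ⟨x, hx, y, hy, hxy, hxyo⟩ := Finset.exists_ne_map_eq_of_card_lt_of_maps_to
      (s := F \ T) (t := (CfsgLib.Steiner.bl octads).filter fun o => T ⊆ o) (f := φ) (by
        rw [h1, Finset.card_sdiff_of_subset hTF, hTc]; omega) (by
        intro x hx
        rw [Finset.mem_coe, Finset.mem_sdiff] at hx
        rw [Finset.mem_coe, Finset.mem_filter, CfsgLib.Steiner.mem_bl]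
        exact ⟨hφ1 x hx.2, (Finset.subset_insert _ _).trans (hφ2 x hx.2)⟩)
    rw [Finset.mem_sdiff] at hx hy
    have ho := hφ1 x hx.2
    have hTo : T ⊆ φ x := (Finset.subset_insert _ _).trans (hφ2 x hx.2)
    have hxo : x ∈ φ x := hφ2 x hx.2 (Finset.mem_insert_self _ _)
    have hyo : y ∈ φ x := by rw [hxyo]; exact hφ2 y hy.2 (Finset.mem_insert_self _ _)
    obtain ⟨z, hz, hzo⟩ : ∃ z ∈ F, z ∉ φ x := by
      by_contra hc
      push Not at hc
      have := Finset.card_le_card (show F ⊆ φ x from hc)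
      have h8 : (φ x).card = 8 := ho.2
      omega
    have hmem : ∀ p ∈ [a, b, c, d], p ∈ φ x := fun p hp => hTo (List.mem_toFinset.mpr hp)
    have hnd : [a, b, c, d, x, y].Nodup := by
      have : [a, b, c, d, x, y] = [a, b, c, d] ++ [x, y] := rfl
      rw [this, List.nodup_append]
      refine ⟨hl, by simp [hxy], ?_⟩
      intro p hp q hq hpq
      subst hpq
      simp only [List.mem_cons, List.not_mem_nil, or_false] at hq
      rcases hq with rfl | rfl
      · exact hx.2 (List.mem_toFinset.mpr hp)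
      · exact hy.2 (List.mem_toFinset.mpr hp)
    apply frame_unique hg (one_mem _) ho (hmem a (by simp)) (hmem b (by simp)) (hmem c (by simp))
      (hmem d (by simp)) hxo hyo hnd hzo
    · exact h _ (hlF _ (by simp))
    · exact h _ (hlF _ (by simp))
    · exact h _ (hlF _ (by simp))
    · exact h _ (hlF _ (by simp))
    · exact h _ hx.1
    · exact h _ hy.1
    · exact h _ hz

theorem PS_trans {l : List GolayPt} (hl : l.Nodup) {m m' : List GolayPt} (hm : m.Nodup) (hm' : m'.Nodup)
    (hlm : ∀ p ∈ m, p ∉ l) (hlm' : ∀ p ∈ m', p ∉ l) (h : m.length = m'.length) (h5 : l.length + m.length ≤ 5) :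
    ∃ g ∈ PS l, m.map g = m' := by
  obtain ⟨g, hg, hgl⟩ := trans_list (l := l ++ m) (l' := l ++ m')
    (List.nodup_append.mpr ⟨hl, hm, fun a ha b hb hab => hlm b hb (hab ▸ ha)⟩)
    (List.nodup_append.mpr ⟨hl, hm', fun a ha b hb hab => hlm' b hb (hab ▸ ha)⟩) (by simp [h])
    (by rw [List.length_append]; exact h5)
  rw [List.map_append] at hgl
  have h1 := List.append_inj_left hgl (by simp)
  have h2 := List.append_inj_right hgl (by simp)
  exact ⟨g, ⟨hg, fun r hr => List.map_inj_left.mp (h1.trans (List.map_id l).symm) r hr⟩, h2⟩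

theorem PS_apply_not_mem {l : List GolayPt} {g : Equiv.Perm GolayPt} (hg : g ∈ PS l) {a : GolayPt} (ha : a ∉ l) :
    g a ∉ l := by
  intro hc
  have := hg.2 _ hc
  exact ha (g.injective this ▸ hc)

/-- simplicity of `PS l` for short lists by the Sylow criterion -/
theorem simple_PS_sylow {l : List GolayPt} (hl : l.Nodup) (h3 : l.length ≤ 3) {p r : ℕ} (hp : p.Prime)
    (hr : r.Prime) (hpO : p ∣ 24 - l.length) (hpl : 10 ≤ l.length + p) (hp2 : ¬ p ^ 2 ∣ Nat.card (PS l))
    (hnum : ∀ c ≤ 24 - l.length, p ∣ c → c ≠ 0 → ∀ n N, n * N = Nat.card (PS l) → n % p = 1 →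
      N ∣ c * (p - 1) → N = p * r)
    (hG : Nat.card (PS l) ≠ p * r) : IsSimpleGroup (PS l) := by
  classical
  have hOc : ((l.toFinset)ᶜ : Finset GolayPt).card = 24 - l.length := by
    rw [Finset.card_compl, List.toFinset_card_of_nodup hl]; rfl
  have hmem : ∀ a, a ∈ (l.toFinset)ᶜ ↔ a ∉ l := by intro a; simp
  apply CfsgLib.SimpleCrit.simple_of_fix (α := GolayPt) ((l.toFinset)ᶜ) ?_ ?_ hp hr
  · rw [hOc]; exact hpO
  · rw [hOc]; omega
  · rintro ⟨g, hg⟩ F hF hpF hgF
    have : g = 1 := by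
      apply eq_one_of_fix_ten hg.1 (F ∪ l.toFinset)
      · rw [Finset.card_union_of_disjoint, List.toFinset_card_of_nodup hl]
        · omega
        · rw [Finset.disjoint_left]
          intro a ha hal
          exact (hmem a).mp (hF ha) (List.mem_toFinset.mp hal)
      · intro x hx
        rw [Finset.mem_union] at hx
        rcases hx with hx | hx
        · exact hgF x hx
        · exact hg.2 x (List.mem_toFinset.mp hx)
    exact Subtype.ext this
  · exact hp2
  · rw [hOc]; exact hnum
  · exact hG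
  · rintro ⟨g, hg⟩ a ha
    rw [hmem] at ha ⊢
    exact PS_apply_not_mem hg ha
  · intro a ha b hb c hc d hd hab hcd
    rw [hmem] at ha hb hc hd
    obtain ⟨g, hg, hgm⟩ := PS_trans hl (m := [a, b]) (m' := [c, d]) (by simp [hab]) (by simp [hcd])
      (by simp [ha, hb]) (by simp [hc, hd]) rfl (by simp; omega)
    simp only [List.map_cons, List.map_nil, List.cons.injEq, and_true] at hgm
    exact ⟨⟨g, hg⟩, hgm.1, hgm.2⟩

theorem card_PS_nil : Nat.card (PS []) = 244823040 := by rw [PS_nil, card_M24]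

theorem card_PS_one (p : GolayPt) : Nat.card (PS [p]) = 10200960 := by
  have := card_PS (l := [p]) (by simp) (by simp)
  simp [Nat.descFactorial] at this; omega

theorem card_PS_two {p q : GolayPt} (h : p ≠ q) : Nat.card (PS [p, q]) = 443520 := by
  have := card_PS (l := [p, q]) (by simp [h]) (by simp)
  simp [Nat.descFactorial] at this; omega

/-- `M23` is simple -/
theorem simple_PS_one (p : GolayPt) : IsSimpleGroup (PS [p]) := by
  apply simple_PS_sylow (by simp) (by simp) (p := 23) (r := 11) (by norm_num) (by norm_num) (by simp) (by simp)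
  · rw [card_PS_one]; norm_num
  · rw [card_PS_one]
    intro c hc hpc hc0 n N h1 h2 h3
    have hc' : c = 23 := by
      obtain ⟨k, rfl⟩ := hpc
      simp at hc
      have : k ≠ 0 := by rintro rfl; simp at hc0
      omega
    subst hc'
    have hN : N ∈ Nat.divisors 506 := by
      rw [Nat.mem_divisors]; exact ⟨by simpa using h3, by norm_num⟩
    have hd : Nat.divisors 506 = {1, 2, 11, 22, 23, 46, 253, 506} := by decide +kernel
    rw [hd] at hN
    simp only [Finset.mem_insert, Finset.mem_singleton] at hN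
    rcases hN with rfl | rfl | rfl | rfl | rfl | rfl | rfl | rfl <;> omega
  · rw [card_PS_one]; norm_num

/-- `M22` is simple -/
theorem simple_PS_two {p q : GolayPt} (h : p ≠ q) : IsSimpleGroup (PS [p, q]) := by
  apply simple_PS_sylow (by simp [h]) (by simp) (p := 11) (r := 5) (by norm_num) (by norm_num) (by simp) (by simp)
  · rw [card_PS_two h]; norm_num
  · rw [card_PS_two h]
    intro c hc hpc hc0 n N h1 h2 h3
    have hc' : c = 11 ∨ c = 22 := by
      obtain ⟨k, rfl⟩ := hpc
      simp at hc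
      have : k ≠ 0 := by rintro rfl; simp at hc0
      omega
    have hN : N ∈ Nat.divisors 220 := by
      rw [Nat.mem_divisors]
      refine ⟨?_, by norm_num⟩
      rcases hc' with rfl | rfl
      · exact h3.trans (by norm_num)
      · simpa using h3
    have hd : Nat.divisors 220 = {1, 2, 4, 5, 10, 11, 20, 22, 44, 55, 110, 220} := by decide +kernel
    rw [hd] at hN
    simp only [Finset.mem_insert, Finset.mem_singleton] at hN
    rcases hN with rfl | rfl | rfl | rfl | rfl | rfl | rfl | rfl | rfl | rfl | rfl | rfl <;> omega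
  · rw [card_PS_two h]; norm_num

/-- `M24` is simple -/
theorem simple_M24 : IsSimpleGroup M24 := by
  haveI : Finite M24 := inferInstance
  apply CfsgLib.SimpleCrit.simple_of_two_transitive (G := M24) (α := GolayPt) Set.univ (a := none) ?_ ?_ ?_ trivial
  · apply isSimple_of_equiv (subEquiv _ (PS [none]) _ (fun g hg => hg.1)) (simple_PS_one none)
    intro g hg
    rw [MulAction.mem_stabilizer_iff, mem_PS]
    constructor
    · intro h; exact ⟨hg, fun p hp => by rw [List.mem_singleton] at hp; rw [hp]; exact h⟩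
    · intro h; exact h.2 none (by simp)
  · rw [Set.ncard_univ, Nat.card_eq_fintype_card]
    have : Fintype.card GolayPt = 24 := by decide
    rw [this]
    rw [isPrimePow_nat_iff_bounded]
    decide +kernel
  · rintro ⟨g, hg⟩ h
    apply Subtype.ext
    ext1 x
    exact h x trivial
  · intro g a _; trivial
  · intro a _ b _ c _ d _ hab hcd
    obtain ⟨g, hg, hgm⟩ := trans_list (l := [a, b]) (l' := [c, d]) (by simp [hab]) (by simp [hcd]) rfl (by simp)
    simp only [List.map_cons, List.map_nil, List.cons.injEq, and_true] at hgm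
    exact ⟨⟨g, hg⟩, hgm.1, hgm.2⟩

/-- permutations preserving the octads preserve the code -/
theorem mem_M24_of_octads {g : Equiv.Perm GolayPt} (h : ∀ o ∈ octads, g • o ∈ octads) : g ∈ M24 := by
  apply mem_M24_of_rows
  intro r hr
  have h1 : toFS r ∈ octads := by
    rw [mem_octads_iff, mask_toFS (row_lt hr)]
    have key : rows.all (fun r => and (isCode r) (Nat.beq (pop r) 8)) = true := by decide +kernel
    rw [List.all_eq_true] at key
    have := key r hr
    rw [Bool.and_eq_true] at this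
    exact ⟨this.1, Nat.eq_of_beq_eq_true this.2⟩
  exact (mem_octads_iff.mp (h _ h1)).1

/-- elements of `M24` fixing six points of the base octad -/
theorem base_six {g : Equiv.Perm GolayPt} (hg : g ∈ M24) (h0 : g (pt 0) = pt 0) (h1 : g (pt 1) = pt 1)
    (h2 : g (pt 2) = pt 2) (h3 : g (pt 3) = pt 3) (h4 : g (pt 4) = pt 4) (h7 : g (pt 7) = pt 7) :
    ∃ e ∈ lev6, Packs e.2 g ∧ g (pt e.1) = pt 5 := by
  have hO : g • O0 = O0 := by
    apply smul_octad_of_fix hg O0_mem five_sub_O0 five_card.ge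
    intro p hp
    simp only [Finset.mem_insert, Finset.mem_singleton] at hp
    rcases hp with rfl | rfl | rfl | rfl | rfl <;> assumption
  have h5 : g⁻¹ (pt 5) ∉ O0 := by
    intro hc
    have : g (g⁻¹ (pt 5)) ∈ g • O0 := mem_smul_iff.mpr hc
    rw [hO, Equiv.Perm.inv_def, Equiv.apply_symm_apply] at this
    revert this
    rw [O0, mem_toFS]; decide
  have a6 : ∀ p : GolayPt, p ∉ O0 → (16771936 : ℕ).testBit (idx p) = true := by
    intro p hp
    rw [O0, mem_toFS] at hp
    revert hp p; decide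
  have key := level6
  rw [chkLevel, Bool.and_eq_true, List.all_eq_true] at key
  obtain ⟨k1, k2⟩ := key
  have h6 := a6 _ h5
  rw [← Nat.eq_of_beq_eq_true k2] at h6
  obtain ⟨e, he, h7'⟩ := testBit_foldr lev6 _ h6
  have h8 := k1 e he
  rw [Bool.and_eq_true, Bool.and_eq_true, List.all_eq_true] at h8
  obtain ⟨k, hk, hkp⟩ := exists_of_good h8.1
  have hkf : ∀ f ∈ [0, 1, 2, 3, 4, 7], k (pt f) = pt f := fun f hf =>
    hkp.apply (by revert hf f; decide) (Nat.eq_of_beq_eq_true (h8.2.2 f hf))
  have hk5 : k (pt e.1) = pt 5 := hkp.apply (by rw [h7']; exact idx_lt _) (Nat.eq_of_beq_eq_true h8.2.1)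
  have hpe : pt e.1 = g⁻¹ (pt 5) := by rw [h7', pt_idx]
  have hg5 : g (pt e.1) = pt 5 := by rw [hpe, Equiv.Perm.inv_def, Equiv.apply_symm_apply]
  have : g = k := by
    have m0 : pt 0 ∈ O0 := by rw [mem_O0]; tauto
    have m1 : pt 1 ∈ O0 := by rw [mem_O0]; tauto
    have m2 : pt 2 ∈ O0 := by rw [mem_O0]; tauto
    have m3 : pt 3 ∈ O0 := by rw [mem_O0]; tauto
    have m4 : pt 4 ∈ O0 := by rw [mem_O0]; tauto
    have m7 : pt 7 ∈ O0 := by rw [mem_O0]; tauto
    apply frame_unique hg hk O0_mem m0 m1 m2 m3 m4 m7 (by decide) (x6 := pt e.1) (by rw [hpe]; exact h5)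
    · rw [h0, hkf 0 (by simp)]
    · rw [h1, hkf 1 (by simp)]
    · rw [h2, hkf 2 (by simp)]
    · rw [h3, hkf 3 (by simp)]
    · rw [h4, hkf 4 (by simp)]
    · rw [h7, hkf 7 (by simp)]
    · rw [hg5, hk5]
  refine ⟨e, he, ?_, hg5⟩
  rw [this]; exact hkp

theorem lev6_check : lev6.all (fun e => and (and (Nat.beq (img e.2 10) 10) (Nat.beq (img e.2 12) 12))
    (ixs.all fun i => Nat.beq (img e.2 (img e.2 i)) i)) = true := by decide +kernel

/-- six fixed points of an octad: the octad is fixed pointwise and the element is an involution -/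
theorem fix_octad {g : Equiv.Perm GolayPt} (hg : g ∈ M24) {x0 x1 x2 x3 x4 x5 : GolayPt}
    {o : Finset GolayPt} (ho : o ∈ octads) (h0 : x0 ∈ o) (h1 : x1 ∈ o)
    (h2 : x2 ∈ o) (h3 : x3 ∈ o) (h4 : x4 ∈ o) (h5 : x5 ∈ o) (hnd : [x0, x1, x2, x3, x4, x5].Nodup)
    (e0 : g x0 = x0) (e1 : g x1 = x1) (e2 : g x2 = x2) (e3 : g x3 = x3) (e4 : g x4 = x4) (e5 : g x5 = x5) :
    (∀ p ∈ o, g p = p) ∧ g * g = 1 := by
  obtain ⟨x6, h6⟩ := exists_not_mem_octad ho
  obtain ⟨k, hk, hko, k0, k1, k2, k3, k4, k5, k6⟩ := frame ho h0 h1 h2 h3 h4 h5 hnd h6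
  have key : ∀ x y, k x = y → g x = x → (k * g * k⁻¹) y = y := by
    intro x y hxy hx
    subst hxy
    simp only [Equiv.Perm.mul_apply, Equiv.Perm.inv_def, Equiv.symm_apply_apply]
    rw [hx]
  obtain ⟨e, he, hep, _⟩ := base_six (M24_mul (M24_mul hk hg) (inv_mem hk)) (key _ _ k0 e0) (key _ _ k1 e1)
    (key _ _ k2 e2) (key _ _ k3 e3) (key _ _ k4 e4) (key _ _ k5 e5)
  have hc := lev6_check
  rw [List.all_eq_true] at hc
  have hc := hc e he
  rw [Bool.and_eq_true, Bool.and_eq_true, List.all_eq_true] at hc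
  have f10 := hep.apply (i := 10) (j := 10) (by norm_num) (Nat.eq_of_beq_eq_true hc.1.1)
  have f12 := hep.apply (i := 12) (j := 12) (by norm_num) (Nat.eq_of_beq_eq_true hc.1.2)
  have back : ∀ y, (k * g * k⁻¹) y = y → g (k⁻¹ y) = k⁻¹ y := by
    intro y hy
    simp only [Equiv.Perm.mul_apply, Equiv.Perm.inv_def] at hy ⊢
    rw [Equiv.eq_symm_apply]; exact hy
  constructor
  · intro p hp
    have hp' : k p ∈ O0 := by rw [← hko]; exact mem_smul_iff.mpr hp
    have hpk : k⁻¹ (k p) = p := by simp [Equiv.Perm.inv_def]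
    rw [← hpk]
    apply back
    rw [mem_O0] at hp'
    rcases hp' with h | h | h | h | h | h | h | h
    · rw [h]; exact key _ _ k0 e0
    · rw [h]; exact key _ _ k1 e1
    · rw [h]; exact key _ _ k2 e2
    · rw [h]; exact key _ _ k3 e3
    · rw [h]; exact key _ _ k4 e4
    · rw [h]; exact key _ _ k5 e5
    · rw [h]; exact f10
    · rw [h]; exact f12
  · have h2 : (k * g * k⁻¹) * (k * g * k⁻¹) = 1 := by
      ext1 p
      apply idx_injective
      rw [Equiv.Perm.mul_apply, hep, hep, Equiv.Perm.one_apply]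
      exact Nat.eq_of_beq_eq_true (hc.2 _ (mem_ixs.mpr (idx_lt p)))
    have h3 : g * g = k⁻¹ * ((k * g * k⁻¹) * (k * g * k⁻¹)) * k := by group
    rw [h3, h2]; group

end CfsgLib.Golay
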