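import Mathlib
import Cfsg.Agent.Lib.GolayM

/-!
Dodecads and their stabilizers.
-/

set_option autoImplicit false

namespace CfsgLib.Golay

open Cfsg
open scoped Pointwise

/-! ### General tables -/

/-- check a table: entries `(x, P)` with `P` good, satisfying `pred`, mapping `x` to `b`, covering `allowed` -/
def chkTab (pred : ℕ → Bool) (b allowed : ℕ) (T : List (ℕ × ℕ)) : Bool :=
  and (T.all fun e => and (good e.2) (and (Nat.beq (img e.2 e.1) b) (pred e.2)))
  (Nat.beq (T.foldr (fun e acc => Nat.lor acc (Nat.shiftLeft 1 e.1)) 0) allowed)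

theorem chkTab_spec {pred : ℕ → Bool} {b allowed : ℕ} {T : List (ℕ × ℕ)} (h : chkTab pred b allowed T = true)
    {p : GolayPt} (hp : allowed.testBit (idx p) = true) :
    ∃ g ∈ M24, ∃ P, Packs P g ∧ pred P = true ∧ g p = pt b := by
  rw [chkTab, Bool.and_eq_true, List.all_eq_true] at h
  obtain ⟨h1, h2⟩ := h
  rw [← Nat.eq_of_beq_eq_true h2] at hp
  obtain ⟨e, he, h3⟩ := testBit_foldr T _ hp
  have h4 := h1 e he
  rw [Bool.and_eq_true, Bool.and_eq_true] at h4
  obtain ⟨g, hg, hgp⟩ := exists_of_good h4.1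
  refine ⟨g, hg, e.2, hgp, h4.2.2, ?_⟩
  have := hgp.apply (i := e.1) (by rw [h3]; exact idx_lt p) (Nat.eq_of_beq_eq_true h4.2.1)
  rwa [h3, pt_idx] at this

/-- fixes the listed points and masks -/
def fixes (fixed masks : List ℕ) (P : ℕ) : Bool :=
  and (fixed.all fun f => Nat.beq (img P f) f) (masks.all fun m => Nat.beq (act P m) m)

theorem fixes_pt {fixed masks : List ℕ} {P : ℕ} (h : fixes fixed masks P = true) {g : Equiv.Perm GolayPt}
    (hg : Packs P g) {f : ℕ} (hf : f ∈ fixed) (hf24 : f < 24) : g (pt f) = pt f := by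
  rw [fixes, Bool.and_eq_true, List.all_eq_true] at h
  exact hg.apply hf24 (Nat.eq_of_beq_eq_true (h.1 f hf))

theorem fixes_mask {fixed masks : List ℕ} {P : ℕ} (h : fixes fixed masks P = true) {g : Equiv.Perm GolayPt}
    (hg : Packs P g) {m : ℕ} (hm : m ∈ masks) (hm24 : m < 2 ^ 24) : g • toFS m = toFS m := by
  rw [fixes, Bool.and_eq_true, List.all_eq_true, List.all_eq_true] at h
  rw [← toFS_mask (g • toFS m), hg.mask_smul, mask_toFS hm24, Nat.eq_of_beq_eq_true (h.2 m hm)]

/-- orbit check: every codeword satisfying `cond` is mapped to `tgt` by one of the good permutations of the table -/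
def orbCheck (cond : ℕ → Bool) (pred : ℕ → Bool) (tab : List ℕ) (tgt : ℕ) : Bool :=
  and (tab.all fun P => and (good P) (pred P))
   (allC (fun m => or (not (cond m)) (tab.any fun P => Nat.beq (act P m) tgt)) rows 0)

theorem orbCheck_spec {cond pred : ℕ → Bool} {tab : List ℕ} {tgt : ℕ} (h : orbCheck cond pred tab tgt = true)
    {s : Finset GolayPt} (hs : s ∈ supports (golayCode : Set (GolayPt → ZMod 2))) (hc : cond (mask s) = true) :
    ∃ g ∈ M24, ∃ P, Packs P g ∧ pred P = true ∧ g • s = toFS tgt := by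
  rw [orbCheck, Bool.and_eq_true, List.all_eq_true] at h
  obtain ⟨h1, h2⟩ := h
  have h3 := forall_code _ h2 hs
  rw [hc] at h3
  simp only [Bool.not_true, Bool.false_or, List.any_eq_true] at h3
  obtain ⟨P, hP, h4⟩ := h3
  have h5 := h1 P hP
  rw [Bool.and_eq_true] at h5
  obtain ⟨g, hg, hgp⟩ := exists_of_good h5.1
  refine ⟨g, hg, P, hgp, h5.2, ?_⟩
  rw [← toFS_mask (g • s), hgp.mask_smul, Nat.eq_of_beq_eq_true h4]

/-! ### Dodecads -/

/-- the base dodecad -/
def D0 : Finset GolayPt := toFS 0x7a0bf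

theorem mask_D0 : mask D0 = 0x7a0bf := mask_toFS (by norm_num)

theorem D0_mem : D0 ∈ dodecads := by
  rw [mem_dodecads_iff, mask_D0]; decide +kernel

theorem card_symmDiff' (s t : Finset GolayPt) : (symmDiff s t).card + 2 * (s ∩ t).card = s.card + t.card := by
  have h2 : (symmDiff s t).card = (s \ t).card + (t \ s).card := by
    rw [symmDiff_def, Finset.sup_eq_union, Finset.card_union_of_disjoint disjoint_sdiff_sdiff]
  have h3 := Finset.card_sdiff_add_card_inter s t
  have h4 := Finset.card_sdiff_add_card_inter t s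
  rw [Finset.inter_comm] at h4
  omega

theorem octad_inter_dodecad {o d : Finset GolayPt} (ho : o ∈ octads) (hd : d ∈ dodecads) :
    (o ∩ d).card = 2 ∨ (o ∩ d).card = 4 ∨ (o ∩ d).card = 6 := by
  have h1 := supports_card (symmDiff_mem ho.1 hd.1)
  have h2 := card_symmDiff' o d
  have h3 : o.card = 8 := ho.2
  have h4 : d.card = 12 := hd.2
  have h5 : (o ∩ d).card ≤ 8 := by rw [← h3]; exact Finset.card_le_card Finset.inter_subset_left
  omega

theorem compl_mem_dodecads {d : Finset GolayPt} (hd : d ∈ dodecads) : dᶜ ∈ dodecads := by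
  refine ⟨?_, ?_⟩
  · have h1 : dᶜ = symmDiff (Finset.univ) d := by
      ext p; simp [Finset.mem_symmDiff]
    rw [h1]
    apply symmDiff_mem _ hd.1
    have h2 : Finset.univ = toFS 0xffffff := by
      ext q; rw [mem_toFS]; revert q; decide
    rw [h2]; exact InC_ones.2
  · have h4 : d.card = 12 := hd.2
    rw [Finset.card_compl, h4]; rfl

theorem smul_compl (g : Equiv.Perm GolayPt) (s : Finset GolayPt) : g • sᶜ = (g • s)ᶜ := by
  ext p
  rw [Finset.mem_compl, ← Equiv.apply_symm_apply g p, mem_smul_iff, mem_smul_iff, Finset.mem_compl]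

theorem base_dod {d : Finset GolayPt} (hd : d ∈ dodecads) (h : d ∩ O0 = toFS 159) (h5 : pt 5 ∈ d) :
    ∃ g ∈ M24, g • d = D0 ∧ g (pt 0) = pt 0 ∧ g (pt 1) = pt 1 ∧ g (pt 2) = pt 2 ∧ g (pt 3) = pt 3 ∧
      g (pt 4) = pt 4 ∧ g (pt 7) = pt 7 := by
  have key : orbCheck (fun m => and (Nat.beq (pop m) 12) (and (Nat.beq (Nat.land m 5279) 159)
      (Nat.beq (Nat.land m 32) 32))) (fixes [0, 1, 2, 3, 4, 7] []) (lev6.map Prod.snd) 0x7a0bf = true := by
    decide +kernel
  have h1 := mem_dodecads_iff.mp hd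
  have h2 : Nat.land (mask d) 5279 = 159 := by
    have : mask (d ∩ O0) = mask d &&& 5279 := by rw [mask_inter, mask_O0]
    rw [h, mask_toFS (by norm_num)] at this
    exact this.symm
  have h3 : Nat.land (mask d) 32 = 32 := by
    show mask d &&& 32 = 32
    have h4 : (32 : ℕ) = mask {pt 5} := by decide +kernel
    rw [h4, ← mask_inter, Finset.inter_singleton_of_mem h5]
  obtain ⟨g, hg, P, hP, hPf, hgd⟩ := orbCheck_spec key hd.1 (by
    rw [Bool.and_eq_true, Bool.and_eq_true, h1.2, h2, h3]; decide)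
  exact ⟨g, hg, hgd, fixes_pt hPf hP (by simp) (by norm_num), fixes_pt hPf hP (by simp) (by norm_num),
    fixes_pt hPf hP (by simp) (by norm_num), fixes_pt hPf hP (by simp) (by norm_num),
    fixes_pt hPf hP (by simp) (by norm_num), fixes_pt hPf hP (by simp) (by norm_num)⟩

theorem dod_frame {d : Finset GolayPt} (hd : d ∈ dodecads) {x0 x1 x2 x3 x4 : GolayPt} (h0 : x0 ∈ d) (h1 : x1 ∈ d)
    (h2 : x2 ∈ d) (h3 : x3 ∈ d) (h4 : x4 ∈ d) (hnd : [x0, x1, x2, x3, x4].Nodup) :
    ∃ g ∈ M24, g • d = D0 ∧ g x0 = pt 0 ∧ g x1 = pt 1 ∧ g x2 = pt 2 ∧ g x3 = pt 3 ∧ g x4 = pt 4 := by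
  obtain ⟨o, ho, hlo⟩ := octad_through_list hnd rfl
  have hd12 : d.card = 12 := hd.2
  have h8 : o.card = 8 := ho.2
  set T : Finset GolayPt := [x0, x1, x2, x3, x4].toFinset with hT
  have hTc : T.card = 5 := by rw [hT, List.toFinset_card_of_nodup hnd]; rfl
  have hTo : T ⊆ o ∩ d := by
    intro p hp
    rw [hT, List.mem_toFinset] at hp
    rw [Finset.mem_inter]
    refine ⟨hlo p hp, ?_⟩
    simp only [List.mem_cons, List.not_mem_nil, or_false] at hp
    rcases hp with rfl | rfl | rfl | rfl | rfl <;> assumption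
  have h6 : (o ∩ d).card = 6 := by
    have := Finset.card_le_card hTo
    rcases octad_inter_dodecad ho hd with h | h | h <;> omega
  obtain ⟨x5, hx5⟩ : ((o ∩ d) \ T).Nonempty := by
    rw [← Finset.card_pos, Finset.card_sdiff_of_subset hTo]; omega
  rw [Finset.mem_sdiff, Finset.mem_inter] at hx5
  obtain ⟨x6, hx6⟩ : (d \ o).Nonempty := by
    rw [← Finset.card_pos]
    have := Finset.card_sdiff_add_card_inter d o
    rw [Finset.inter_comm] at this
    omega
  rw [Finset.mem_sdiff] at hx6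
  have hnd6 : [x0, x1, x2, x3, x4, x5].Nodup := by
    have : [x0, x1, x2, x3, x4, x5] = [x0, x1, x2, x3, x4] ++ [x5] := rfl
    rw [this, List.nodup_append]
    refine ⟨hnd, by simp, ?_⟩
    intro a ha b hb hab
    rw [List.mem_singleton] at hb
    subst hab; subst hb
    exact hx5.2 (List.mem_toFinset.mpr ha)
  obtain ⟨g, hg, hgo, e0, e1, e2, e3, e4, e5, e6⟩ := frame ho (hlo _ (by simp)) (hlo _ (by simp)) (hlo _ (by simp))
    (hlo _ (by simp)) (hlo _ (by simp)) hx5.1.1 hnd6 hx6.2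
  have hgd : g • d ∈ dodecads := (smul_mem_dodecads hg).mpr hd
  have hint : g • d ∩ O0 = toFS 159 := by
    rw [← hgo, ← smul_inter']
    symm
    apply Finset.eq_of_subset_of_card_le
    · intro p hp
      have : ∀ p : GolayPt, (159 : ℕ).testBit (idx p) = true → p = pt 0 ∨ p = pt 1 ∨ p = pt 2 ∨ p = pt 3 ∨
        p = pt 4 ∨ p = pt 7 := by decide
      rcases this p (mem_toFS.mp hp) with h | h | h | h | h | h
      · rw [h, ← e0]; exact mem_smul_iff.mpr (Finset.mem_inter.mpr ⟨h0, hlo _ (by simp)⟩)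
      · rw [h, ← e1]; exact mem_smul_iff.mpr (Finset.mem_inter.mpr ⟨h1, hlo _ (by simp)⟩)
      · rw [h, ← e2]; exact mem_smul_iff.mpr (Finset.mem_inter.mpr ⟨h2, hlo _ (by simp)⟩)
      · rw [h, ← e3]; exact mem_smul_iff.mpr (Finset.mem_inter.mpr ⟨h3, hlo _ (by simp)⟩)
      · rw [h, ← e4]; exact mem_smul_iff.mpr (Finset.mem_inter.mpr ⟨h4, hlo _ (by simp)⟩)
      · rw [h, ← e5]; exact mem_smul_iff.mpr (Finset.mem_inter.mpr ⟨hx5.1.2, hx5.1.1⟩)
    · rw [card_smul', Finset.inter_comm, h6]; decide +kernel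
  obtain ⟨k, hk, hkd, k0, k1, k2, k3, k4, _⟩ := base_dod hgd hint (by rw [← e6]; exact mem_smul_iff.mpr hx6.1)
  refine ⟨k * g, M24_mul hk hg, ?_, ?_, ?_, ?_, ?_, ?_⟩
  · rw [mul_smul, hkd]
  · rw [Equiv.Perm.mul_apply, e0, k0]
  · rw [Equiv.Perm.mul_apply, e1, k1]
  · rw [Equiv.Perm.mul_apply, e2, k2]
  · rw [Equiv.Perm.mul_apply, e3, k3]
  · rw [Equiv.Perm.mul_apply, e4, k4]

/-- an element fixing the base dodecad and five of its points is trivial -/
theorem base_dod_unique {g : Equiv.Perm GolayPt} (hg : g ∈ M24) (hd : g • D0 = D0) (h0 : g (pt 0) = pt 0)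
    (h1 : g (pt 1) = pt 1) (h2 : g (pt 2) = pt 2) (h3 : g (pt 3) = pt 3) (h4 : g (pt 4) = pt 4) : g = 1 := by
  have hO : g • O0 = O0 := by
    apply smul_octad_of_fix hg O0_mem five_sub_O0 five_card.ge
    intro p hp
    simp only [Finset.mem_insert, Finset.mem_singleton] at hp
    rcases hp with rfl | rfl | rfl | rfl | rfl <;> assumption
  have h7 : g (pt 7) = pt 7 := by
    have hint : D0 ∩ O0 = toFS 159 := by
      have h9 : (0x7a0bf &&& 5279 : ℕ) = 159 := by decide +kernel
      rw [D0, O0, ← toFS_land, h9]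
    have m7 : pt 7 ∈ D0 ∩ O0 := by rw [hint, mem_toFS]; decide
    have h8 : g (pt 7) ∈ D0 ∩ O0 := by
      have := mem_smul_iff (g := g).mpr m7
      rwa [smul_inter', hd, hO] at this
    rw [hint] at h8
    have : ∀ p : GolayPt, (159 : ℕ).testBit (idx p) = true → p = pt 0 ∨ p = pt 1 ∨ p = pt 2 ∨ p = pt 3 ∨
        p = pt 4 ∨ p = pt 7 := by decide
    rcases this _ (mem_toFS.mp h8) with h | h | h | h | h | h
    · rw [← h0] at h; exact absurd (g.injective h) (by decide)
    · rw [← h1] at h; exact absurd (g.injective h) (by decide)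
    · rw [← h2] at h; exact absurd (g.injective h) (by decide)
    · rw [← h3] at h; exact absurd (g.injective h) (by decide)
    · rw [← h4] at h; exact absurd (g.injective h) (by decide)
    · exact h
  obtain ⟨e, he, hep, _⟩ := base_six hg h0 h1 h2 h3 h4 h7
  have key : lev6.all (fun e => or (not (Nat.beq (act e.2 0x7a0bf) 0x7a0bf))
    (ixs.all fun i => Nat.beq (img e.2 i) i)) = true := by decide +kernel
  rw [List.all_eq_true] at key
  have h9 := key e he
  have h10 : act e.2 0x7a0bf = 0x7a0bf := by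
    have := hep.mask_smul D0
    rw [hd, mask_D0] at this
    exact this.symm
  rw [h10] at h9
  simp only [Nat.beq_refl, Bool.not_true, Bool.false_or, List.all_eq_true] at h9
  ext1 p
  apply idx_injective
  rw [hep, Equiv.Perm.one_apply]
  exact Nat.eq_of_beq_eq_true (h9 _ (mem_ixs.mpr (idx_lt p)))

theorem exists_extend_in (s : Finset GolayPt) (n : ℕ) (hn : n ≤ s.card) (l : List GolayPt) (hl : l.Nodup)
    (hls : ∀ p ∈ l, p ∈ s) (hle : l.length ≤ n) :
    ∃ l' : List GolayPt, (l ++ l').Nodup ∧ (l ++ l').length = n ∧ ∀ p ∈ l ++ l', p ∈ s := by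
  induction n with
  | zero =>
    refine ⟨[], by simpa using hl, ?_, by simpa using hls⟩
    simp at hle ⊢; exact hle
  | succ n ih =>
    rcases Nat.lt_or_ge l.length (n + 1) with h | h
    · obtain ⟨l', h1, h2, h3⟩ := ih (by omega) (by omega)
      obtain ⟨p, hp⟩ : (s \ (l ++ l').toFinset).Nonempty := by
        rw [← Finset.card_pos]
        have h4 := Finset.le_card_sdiff (l ++ l').toFinset s
        rw [List.toFinset_card_of_nodup h1, h2] at h4
        omega
      rw [Finset.mem_sdiff, List.mem_toFinset] at hp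
      refine ⟨l' ++ [p], ?_, ?_, ?_⟩
      · rw [← List.append_assoc, List.nodup_append]
        refine ⟨h1, by simp, ?_⟩
        intro a ha b hb
        rw [List.mem_singleton] at hb
        subst hb
        exact fun h => hp.2 (h ▸ ha)
      · rw [← List.append_assoc, List.length_append, h2]; rfl
      · rw [← List.append_assoc]
        intro q hq
        rw [List.mem_append, List.mem_singleton] at hq
        rcases hq with hq | rfl
        · exact h3 q hq
        · exact hp.1
    · exact ⟨[], by simpa using hl, by simp; omega, by simpa using hls⟩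

theorem map_inv_mul {g g' : Equiv.Perm GolayPt} {L L' M : List GolayPt} (h : L.map g = M) (h' : L'.map g' = M) :
    L.map (g'⁻¹ * g) = L' := by
  have : L.map (g'⁻¹ * g) = (L.map g).map ⇑(g'⁻¹) := by rw [List.map_map]; rfl
  rw [this, h, ← h', List.map_map]
  have : (⇑(g'⁻¹) ∘ ⇑g') = id := by funext x; simp
  rw [this, List.map_id]

/-- 5-transitivity on the dodecads and their points -/
theorem dod_trans {d d' : Finset GolayPt} (hd : d ∈ dodecads) (hd' : d' ∈ dodecads) {l l' : List GolayPt}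
    (hl : l.Nodup) (hl' : l'.Nodup) (hld : ∀ p ∈ l, p ∈ d) (hld' : ∀ p ∈ l', p ∈ d') (h : l.length = l'.length)
    (h5 : l.length ≤ 5) : ∃ g ∈ M24, g • d = d' ∧ l.map g = l' := by
  have c : d.card = 12 := hd.2
  have c' : d'.card = 12 := hd'.2
  obtain ⟨m, hm1, hm2, hm3⟩ := exists_extend_in d 5 (by omega) l hl hld h5
  obtain ⟨m', hm1', hm2', hm3'⟩ := exists_extend_in d' 5 (by omega) l' hl' hld' (h ▸ h5)
  have key : ∀ d ∈ dodecads, ∀ L : List GolayPt, L.Nodup → L.length = 5 → (∀ p ∈ L, p ∈ d) →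
      ∃ g ∈ M24, g • d = D0 ∧ L.map g = [pt 0, pt 1, pt 2, pt 3, pt 4] := by
    intro d hd L hL hL5 hLd
    match L, hL5 with
    | [a, b, c, e, f], _ =>
      obtain ⟨g, hg, hgd, e0, e1, e2, e3, e4⟩ := dod_frame hd (hLd _ (by simp)) (hLd _ (by simp)) (hLd _ (by simp))
        (hLd _ (by simp)) (hLd _ (by simp)) hL
      exact ⟨g, hg, hgd, by simp [e0, e1, e2, e3, e4]⟩
  obtain ⟨g, hg, hgd, hgl⟩ := key d hd _ hm1 hm2 hm3
  obtain ⟨g', hg', hgd', hgl'⟩ := key d' hd' _ hm1' hm2' hm3'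
  refine ⟨g'⁻¹ * g, M24_mul (inv_mem hg') hg, by rw [mul_smul, hgd, ← hgd', inv_smul_smul], ?_⟩
  have h1 := map_inv_mul hgl hgl'
  rw [List.map_append] at h1
  exact List.append_inj_left h1 (by rw [List.length_map, h])

theorem dod_unique {d : Finset GolayPt} (hd : d ∈ dodecads) {g : Equiv.Perm GolayPt} (hg : g ∈ M24) (hgd : g • d = d)
    {l : List GolayPt} (hl : l.Nodup) (hld : ∀ p ∈ l, p ∈ d) (h5 : l.length = 5) (h : ∀ p ∈ l, g p = p) : g = 1 := by
  obtain ⟨k, hk, hkd, hkl⟩ := dod_trans hd D0_mem (l' := [pt 0, pt 1, pt 2, pt 3, pt 4]) hl (by decide) hld (by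
    intro p hp
    rw [D0, mem_toFS]
    simp only [List.mem_cons, List.not_mem_nil, or_false] at hp
    rcases hp with rfl | rfl | rfl | rfl | rfl <;> decide) h5 h5.le
  have hf : ∀ q ∈ [pt 0, pt 1, pt 2, pt 3, pt 4], (k * g * k⁻¹) q = q := by
    intro q hq
    rw [← hkl, List.mem_map] at hq
    obtain ⟨p, hp, rfl⟩ := hq
    simp only [Equiv.Perm.mul_apply, Equiv.Perm.inv_def, Equiv.symm_apply_apply]
    rw [h p hp]
  have h1 : k * g * k⁻¹ = 1 := by
    apply base_dod_unique (M24_mul (M24_mul hk hg) (inv_mem hk))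
    · rw [mul_smul, mul_smul, ← hkd, inv_smul_smul, hgd]
    · exact hf _ (by simp)
    · exact hf _ (by simp)
    · exact hf _ (by simp)
    · exact hf _ (by simp)
    · exact hf _ (by simp)
  have h2 : g = k⁻¹ * (k * g * k⁻¹) * k := by group
  rw [h2, h1]; group

/-- the stabilizer of a set and pointwise stabilizer of a list -/
def PSd (d : Finset GolayPt) (l : List GolayPt) : Subgroup (Equiv.Perm GolayPt) where
  carrier := {g | g ∈ M24 ∧ g • d = d ∧ ∀ p ∈ l, g p = p}
  one_mem' := ⟨one_mem _, one_smul _ _, fun p _ => rfl⟩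
  mul_mem' := by
    rintro a b ⟨ha, ha'', ha'⟩ ⟨hb, hb'', hb'⟩
    refine ⟨mul_mem ha hb, by rw [mul_smul, hb'', ha''], fun p hp => ?_⟩
    rw [Equiv.Perm.mul_apply, hb' p hp, ha' p hp]
  inv_mem' := by
    rintro a ⟨ha, ha'', ha'⟩
    refine ⟨inv_mem ha, by rw [inv_smul_eq_iff, ha''], fun p hp => ?_⟩
    rw [Equiv.Perm.inv_eq_iff_eq]; exact (ha' p hp).symm

theorem mem_PSd {d : Finset GolayPt} {l : List GolayPt} {g : Equiv.Perm GolayPt} :
    g ∈ PSd d l ↔ g ∈ M24 ∧ g • d = d ∧ ∀ p ∈ l, g p = p := Iff.rfl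

theorem PSd_compl (d : Finset GolayPt) (l : List GolayPt) : PSd dᶜ l = PSd d l := by
  ext g
  rw [mem_PSd, mem_PSd, smul_compl, compl_inj_iff]

theorem card_PSd_step (d : Finset GolayPt) (l : List GolayPt) (p : GolayPt) (n : ℕ) (O : Set GolayPt)
    (hn : O.ncard = n) (hO : ∀ q, q ∈ O ↔ ∃ g ∈ PSd d l, g p = q) :
    Nat.card (PSd d l) = n * Nat.card (PSd d (p :: l)) := by
  rw [← hn]
  apply card_eq_of_orbit (PSd d l) (PSd d (p :: l)) p O _ hO
  intro g
  rw [mem_PSd, mem_PSd]
  constructor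
  · rintro ⟨h1, h1', h2⟩
    exact ⟨⟨h1, h1', fun q hq => h2 q (List.mem_cons_of_mem _ hq)⟩, h2 p (List.mem_cons_self ..)⟩
  · rintro ⟨⟨h1, h1', h2⟩, h3⟩
    refine ⟨h1, h1', fun q hq => ?_⟩
    rw [List.mem_cons] at hq
    rcases hq with rfl | hq
    · exact h3
    · exact h2 q hq

theorem PSd_trans {d : Finset GolayPt} (hd : d ∈ dodecads) {l : List GolayPt} (hl : l.Nodup)
    (hld : ∀ p ∈ l, p ∈ d) {m m' : List GolayPt} (hm : m.Nodup) (hm' : m'.Nodup)
    (hmd : ∀ p ∈ m, p ∈ d) (hmd' : ∀ p ∈ m', p ∈ d)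
    (hlm : ∀ p ∈ m, p ∉ l) (hlm' : ∀ p ∈ m', p ∉ l) (h : m.length = m'.length) (h5 : l.length + m.length ≤ 5) :
    ∃ g ∈ PSd d l, m.map g = m' := by
  obtain ⟨g, hg, hgd, hgl⟩ := dod_trans hd hd (l := l ++ m) (l' := l ++ m')
    (List.nodup_append.mpr ⟨hl, hm, fun a ha b hb hab => hlm b hb (hab ▸ ha)⟩)
    (List.nodup_append.mpr ⟨hl, hm', fun a ha b hb hab => hlm' b hb (hab ▸ ha)⟩)
    (fun p hp => (List.mem_append.mp hp).elim (hld p) (hmd p))
    (fun p hp => (List.mem_append.mp hp).elim (hld p) (hmd' p)) (by simp [h])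
    (by rw [List.length_append]; exact h5)
  rw [List.map_append] at hgl
  have h1 := List.append_inj_left hgl (by simp)
  have h2 := List.append_inj_right hgl (by simp)
  exact ⟨g, ⟨hg, hgd, fun r hr => List.map_inj_left.mp (h1.trans (List.map_id l).symm) r hr⟩, h2⟩

theorem PSd_apply_mem {d : Finset GolayPt} {l : List GolayPt} {g : Equiv.Perm GolayPt} (hg : g ∈ PSd d l)
    {a : GolayPt} (ha : a ∈ d) : g a ∈ d := by
  have := mem_smul_iff (g := g).mpr ha
  rwa [hg.2.1] at this

theorem PSd_apply_not_mem {d : Finset GolayPt} {l : List GolayPt} {g : Equiv.Perm GolayPt} (hg : g ∈ PSd d l)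
    {a : GolayPt} (ha : a ∉ l) : g a ∉ l := by
  intro hc
  have := hg.2.2 _ hc
  exact ha (g.injective this ▸ hc)

theorem card_PSd {d : Finset GolayPt} (hd : d ∈ dodecads) {l : List GolayPt} (hl : l.Nodup)
    (hld : ∀ p ∈ l, p ∈ d) (h5 : l.length ≤ 5) : Nat.card (PSd d l) * Nat.descFactorial 12 l.length = 95040 := by
  obtain ⟨n, hn⟩ : ∃ n, n = 5 - l.length := ⟨_, rfl⟩
  have hd12 : d.card = 12 := hd.2
  induction n generalizing l with
  | zero =>
    have hl5 : l.length = 5 := by omega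
    have : PSd d l = ⊥ := by
      rw [eq_bot_iff]
      rintro g ⟨hg, hgd, h⟩
      rw [Subgroup.mem_bot]
      exact dod_unique hd hg hgd hl hld hl5 h
    rw [this, Subgroup.card_bot, hl5]
    simp [Nat.descFactorial]
  | succ n ih =>
    have hsub : l.toFinset ⊆ d := fun p hp => hld p (List.mem_toFinset.mp hp)
    obtain ⟨p, hp⟩ : (d \ l.toFinset).Nonempty := by
      rw [← Finset.card_pos, Finset.card_sdiff_of_subset hsub, List.toFinset_card_of_nodup hl]
      omega
    rw [Finset.mem_sdiff, List.mem_toFinset] at hp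
    have h1 := ih (l := p :: l) (List.nodup_cons.mpr ⟨hp.2, hl⟩) (by
      intro q hq
      rw [List.mem_cons] at hq
      rcases hq with rfl | hq
      · exact hp.1
      · exact hld q hq) (by rw [List.length_cons]; omega)
      (by rw [List.length_cons]; omega)
    rw [card_PSd_step d l p (12 - l.length) (d \ l.toFinset : Finset GolayPt)]
    · rw [List.length_cons, Nat.descFactorial_succ] at h1
      rw [← h1]; ring
    · rw [Set.ncard_coe_finset, Finset.card_sdiff_of_subset hsub, List.toFinset_card_of_nodup hl, hd12]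
    · intro q
      rw [Finset.mem_coe, Finset.mem_sdiff, List.mem_toFinset]
      constructor
      · intro hq
        obtain ⟨g, hg, hgm⟩ := PSd_trans hd hl hld (m := [p]) (m' := [q]) (by simp) (by simp) (by simp [hp.1])
          (by simp [hq.1]) (by simp [hp.2]) (by simp [hq.2]) rfl (by simp; omega)
        simp only [List.map_cons, List.map_nil, List.cons.injEq, and_true] at hgm
        exact ⟨g, hg, hgm⟩
      · rintro ⟨g, hg, rfl⟩
        exact ⟨PSd_apply_mem hg hp.1, PSd_apply_not_mem hg hp.2⟩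

theorem card_PSd_nil {d : Finset GolayPt} (hd : d ∈ dodecads) : Nat.card (PSd d []) = 95040 := by
  have := card_PSd hd (l := []) (by simp) (by simp) (by simp)
  simpa using this

theorem card_PSd_one {d : Finset GolayPt} (hd : d ∈ dodecads) {p : GolayPt} (hp : p ∈ d) :
    Nat.card (PSd d [p]) = 7920 := by
  have := card_PSd hd (l := [p]) (by simp) (by simp [hp]) (by simp)
  simp [Nat.descFactorial] at this; omega

/-- `M11` is simple -/
theorem simple_PSd_one {d : Finset GolayPt} (hd : d ∈ dodecads) {p : GolayPt} (hp : p ∈ d) :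
    IsSimpleGroup (PSd d [p]) := by
  classical
  have hd12 : d.card = 12 := hd.2
  have hOc : (d.erase p).card = 11 := by rw [Finset.card_erase_of_mem hp, hd12]
  apply CfsgLib.SimpleCrit.simple_of_fix (α := GolayPt) (d.erase p) (p := 11) (r := 5) ?_ ?_ (by norm_num) (by norm_num)
  · rw [hOc]
  · rw [hOc]; norm_num
  · rintro ⟨g, hg⟩ F hF hpF hgF
    have hFe : F = d.erase p := Finset.eq_of_subset_of_card_le hF (by rw [hOc]; exact hpF)
    apply Subtype.ext
    have hall : ∀ q ∈ d, g q = q := by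
      intro q hq
      by_cases hqp : q = p
      · rw [hqp]; exact hg.2.2 p (by simp)
      · exact hgF q (by rw [hFe]; exact Finset.mem_erase.mpr ⟨hqp, hq⟩)
    obtain ⟨l, hl, hl5, hld⟩ := exists_list_of_le_card (s := d) (n := 5) (by omega)
    exact dod_unique hd hg.1 hg.2.1 hl hld hl5 (fun q hq => hall q (hld q hq))
  · rw [card_PSd_one hd hp]; norm_num
  · rw [card_PSd_one hd hp, hOc]
    intro c hc hpc hc0 n N h1 h2 h3
    have hc' : c = 11 := by
      obtain ⟨k, rfl⟩ := hpc
      have : k ≠ 0 := by rintro rfl; simp at hc0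
      omega
    subst hc'
    have hN : N ∈ Nat.divisors 110 := by
      rw [Nat.mem_divisors]; exact ⟨by simpa using h3, by norm_num⟩
    have hd : Nat.divisors 110 = {1, 2, 5, 10, 11, 22, 55, 110} := by decide +kernel
    rw [hd] at hN
    simp only [Finset.mem_insert, Finset.mem_singleton] at hN
    rcases hN with rfl | rfl | rfl | rfl | rfl | rfl | rfl | rfl <;> omega
  · rw [card_PSd_one hd hp]; norm_num
  · rintro ⟨g, hg⟩ a ha
    rw [Finset.mem_erase] at ha ⊢
    exact ⟨fun h => PSd_apply_not_mem hg (a := a) (by simpa using ha.1) (by simpa using h), PSd_apply_mem hg ha.2⟩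
  · intro a ha b hb c hc e he hab hce
    rw [Finset.mem_erase] at ha hb hc he
    obtain ⟨g, hg, hgm⟩ := PSd_trans hd (l := [p]) (by simp) (by simp [hp]) (m := [a, b]) (m' := [c, e])
      (by simp [hab]) (by simp [hce]) (by simp [ha, hb]) (by simp [hc, he])
      (by simp [ha.1, hb.1]) (by simp [hc.1, he.1]) rfl (by simp)
    simp only [List.map_cons, List.map_nil, List.cons.injEq, and_true] at hgm
    exact ⟨⟨g, hg⟩, hgm.1, hgm.2⟩

/-- `M12` is simple -/
theorem simple_PSd_nil {d : Finset GolayPt} (hd : d ∈ dodecads) : IsSimpleGroup (PSd d []) := by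
  classical
  have hd12 : d.card = 12 := hd.2
  obtain ⟨p, hp⟩ : d.Nonempty := by rw [← Finset.card_pos, hd12]; norm_num
  apply CfsgLib.SimpleCrit.simple_of_two_transitive (G := PSd d []) (α := GolayPt) (d : Set GolayPt) (a := p) ?_ ?_ ?_ hp
  · have e : (MulAction.stabilizer (PSd d []) p) ≃* PSd d [p] :=
      { toFun := fun g => ⟨(g : PSd d []), g.1.2.1, g.1.2.2.1, fun q hq => by
          rw [List.mem_singleton] at hq; rw [hq]; exact g.2⟩
        invFun := fun g => ⟨⟨g, g.2.1, g.2.2.1, by simp⟩, g.2.2.2 p (by simp)⟩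
        left_inv := fun _ => rfl
        right_inv := fun _ => rfl
        map_mul' := fun _ _ => rfl }
    exact isSimple_of_equiv e (simple_PSd_one hd hp)
  · rw [Set.ncard_coe_finset, hd12, isPrimePow_nat_iff_bounded]
    decide +kernel
  · rintro ⟨g, hg⟩ h
    apply Subtype.ext
    obtain ⟨l, hl, hl5, hld⟩ := exists_list_of_le_card (s := d) (n := 5) (by omega)
    exact dod_unique hd hg.1 hg.2.1 hl hld hl5 (fun q hq => h q (hld q hq))
  · rintro ⟨g, hg⟩ a ha
    exact PSd_apply_mem hg ha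
  · intro a ha b hb c hc e he hab hce
    obtain ⟨g, hg, hgm⟩ := PSd_trans hd (l := []) (by simp) (by simp) (m := [a, b]) (m' := [c, e])
      (by simp [hab]) (by simp [hce]) (by simp [Finset.mem_coe.mp ha, Finset.mem_coe.mp hb])
      (by simp [Finset.mem_coe.mp hc, Finset.mem_coe.mp he])
      (by simp) (by simp) rfl (by simp)
    simp only [List.map_cons, List.map_nil, List.cons.injEq, and_true] at hgm
    exact ⟨⟨g, hg⟩, hgm.1, hgm.2⟩

/-! ### Transfer of counts -/

theorem ncard_transfer (g : Equiv.Perm GolayPt) (P Q : Finset GolayPt → Prop) (h : ∀ s, P s ↔ Q (g • s)) :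
    {s | P s}.ncard = {s | Q s}.ncard := by
  have : {s | Q s} = g • {s | P s} := by
    ext s
    rw [Set.mem_smul_set_iff_inv_smul_mem]
    show Q s ↔ P (g⁻¹ • s)
    rw [h, smul_inv_smul]
  rw [this, Set.ncard_smul_set]

/-- three points of the base dodecad: transitivity outside -/
def tab3 : List (ℕ × ℕ) := [(6, 0xbdab49ca307b9ac5a928398a418820), (8, 0x5d6ee60e0f6d229b4d46920e428820), (9, 0xaadd7616443d228b4cca825af18820), (10, 0x759749c23225ceca99096a86f28820), (11, 0x4258ab91f12ccf4356ce92e0d18820), (12, 0xbda8b49c6493a06ab1137aa2d28820), (14, 0x62a69a49e78189743aab8d9a328820), (19, 0xa55d7344ed7ac73b254c2221228820), (20, 0x4a18673c911cdb452ed78564728820), (21, 0x9a0ccbb6438a5eb552ce3d49028820), (22, 0x61a68a408d929ee4dd758d8e518820), (23, 0x32933591b03b24e45eb41d9f128820)]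

theorem base_compl_trans {x : GolayPt} (hx : x ∉ D0) : ∃ g ∈ M24, g • D0 = D0 ∧ g (pt 0) = pt 0 ∧
    g (pt 1) = pt 1 ∧ g (pt 2) = pt 2 ∧ g x = pt 6 := by
  have key : chkTab (fixes [0, 1, 2] [0x7a0bf]) 6 16277312 tab3 = true := by decide +kernel
  have hx' : (16277312 : ℕ).testBit (idx x) = true := by
    rw [D0, mem_toFS] at hx
    revert hx x; decide
  obtain ⟨g, hg, P, hP, hPf, hgx⟩ := chkTab_spec key hx'
  exact ⟨g, hg, fixes_mask hPf hP (by simp) (by norm_num), fixes_pt hPf hP (by simp) (by norm_num),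
    fixes_pt hPf hP (by simp) (by norm_num), fixes_pt hPf hP (by simp) (by norm_num), hgx⟩

/-- transitivity on configurations: dodecad, three points in it, one point outside -/
theorem dod_trans3 {d d' : Finset GolayPt} (hd : d ∈ dodecads) (hd' : d' ∈ dodecads) {p q r x p' q' r' x' : GolayPt}
    (hp : p ∈ d) (hq : q ∈ d) (hr : r ∈ d) (h : [p, q, r].Nodup) (hx : x ∉ d)
    (hp' : p' ∈ d') (hq' : q' ∈ d') (hr' : r' ∈ d') (h' : [p', q', r'].Nodup) (hx' : x' ∉ d') :
    ∃ g ∈ M24, g • d = d' ∧ g p = p' ∧ g q = q' ∧ g r = r' ∧ g x = x' := by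
  have key : ∀ (d : Finset GolayPt) (_ : d ∈ dodecads) (p q r x : GolayPt), p ∈ d → q ∈ d → r ∈ d →
      [p, q, r].Nodup → x ∉ d →
      ∃ g ∈ M24, g • d = D0 ∧ [p, q, r, x].map g = [pt 0, pt 1, pt 2, pt 6] := by
    intro d hd p q r x hp hq hr hnd hx
    obtain ⟨g, hg, hgd, hgl⟩ := dod_trans hd D0_mem (l := [p, q, r]) (l' := [pt 0, pt 1, pt 2]) hnd (by decide)
      (by simp [hp, hq, hr]) (by
        intro p hp
        rw [D0, mem_toFS]
        simp only [List.mem_cons, List.not_mem_nil, or_false] at hp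
        rcases hp with rfl | rfl | rfl <;> decide) rfl (by simp)
    obtain ⟨k, hk, hkd, k0, k1, k2, kx⟩ := base_compl_trans (x := g x) (by
      rw [← hgd]; exact fun h => hx (mem_smul_iff.mp h))
    simp only [List.map_cons, List.map_nil, List.cons.injEq, and_true] at hgl
    refine ⟨k * g, M24_mul hk hg, by rw [mul_smul, hgd, hkd], ?_⟩
    simp only [List.map_cons, List.map_nil, Equiv.Perm.mul_apply, hgl.1, hgl.2.1, hgl.2.2, k0, k1, k2, kx]
  obtain ⟨g, hg, hgd, hgl⟩ := key d hd p q r x hp hq hr h hx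
  obtain ⟨k, hk, hkd, hkl⟩ := key d' hd' p' q' r' x' hp' hq' hr' h' hx'
  have h1 := map_inv_mul hgl hkl
  simp only [List.map_cons, List.map_nil, List.cons.injEq, and_true] at h1
  exact ⟨k⁻¹ * g, M24_mul (inv_mem hk) hg, by rw [mul_smul, hgd, ← hkd, inv_smul_smul], h1⟩

end CfsgLib.Golay
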