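import Mathlib
import Cfsg.Agent.Lib.GolayDod

/-!
Transitivity of `M24` on pairs of octads and pairs of dodecads.
-/

set_option autoImplicit false

namespace CfsgLib.Golay

open Cfsg
open scoped Pointwise

def tabP2 : List ℕ := [0xbdab49ca307b9ac5a928398a418820, 0xabee5339abb4a2c829093ce8418820, 0x8adb2452ef816acb28d33a5c418820, 0x451368ae6e2c0cc92ab73b5e418820, 0x835662a5f78a2ccaaa4e3d26418820, 0xa20b75c6464b5cc9a9f63c2a418820]

def tabP0 : List ℕ := [0xbdab49ca307b9ac5a928398a418820, 0x4b5f5a2e4874e23b320655ca720820, 0x8bcd6925d5a5d674326d540a418820, 0x4de2b4565434dec80ece3b4aa20820, 0x952168de757a5ac41dcb518a320820, 0x9ae86b212dbc9c379eb0644aa20820, 0x93aed5c26faa6ca30e91620a720820, 0x9bcd4bb930b490a5b22d3d4a320820, 0x9d50e851376c8cc8a9761bca720820, 0x919b7ada715a6077310f1d0aa20820, 0x9c5c86993684a87a8df752cac20820, 0x922d07b66b8a6e3a28d53b8ac20820, 0x4daaf74646a4d676aae8640a320820, 0x7520f4cee6b450a69e4b654a418820, 0x4c17133e4e44eaab9db41d8ac20820]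

def tabP4x : List ℕ := [0xbdab49ca307b9ac5a928398a418820, 0x8bcd6925d5a5d674326d540a418820, 0x7520f4cee6b450a69e4b654a418820]

def tabP2x : List ℕ := [0xbdab49ca307b9ac5a928398a418820, 0x74a685c2f6345eca9289534a718820, 0xb99b28523343aaa4b16f258a718820, 0x822d2bb973351ec4aa35234a338820, 0x8bcd6925d5a5d674326d540a418820, 0x599a87469694124ab2ef54ca338820, 0xa4a668de0d42eaa791c9658a338820, 0x8a2c6a2dcd95d247aa1564ca718820, 0x5cd31b228e7c1acb92b2198aa38820, 0x7520f4cee6b450a69e4b654a418820]

def tabP0x : List ℕ := [0xbdab49ca307b9ac5a928398a418820, 0x822d2bb973351ec4aa35234a338820, 0xb99b28523343aaa4b16f258a718820, 0x8bcd6925d5a5d674326d540a418820, 0x7520f4cee6b450a69e4b654a418820, 0x8cd2b699d4adeca811f23a0ac18820, 0x735f0b22eb4c664a32a63c8aa18820, 0x74a685c2f6345eca9289534a718820, 0x8c169ad9d26dccc99d1423caa18820, 0x7551333ee95c607929b6250ac18820, 0x8a2c6a2dcd95d247aa1564ca718820, 0xbae957b6289ba44b1cd0524ac18820, 0xa4a668de0d42eaa791c9658a338820, 0xba64d4562f83a87312d362caa18820,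 0x599a87469694124ab2ef54ca338820]

def tabD6 : List ℕ := [0xbdab49ca307b9ac5a928398a418820, 0x44ea67164f6da0ca2ae93ae2220c20, 0x5d2f6636271d613724ca921e520820, 0x61a68a408d929ee4dd758d8e518820, 0xbbaab9bda595a2aa310939a0320820, 0x75d4cb1df19245559a68851a520c20, 0x62a69a49e78189743aab8d9a328820, 0xa9a6853da43d217b396c8a64510c20, 0x7254bb484d3dde6655138522428c20, 0x45ab4736112ce4a331373ade410c20, 0x5d6ee60e0f6d229b4d46920e428820, 0xad27651e12799ae45d8b8a48228c20]

/-- list form of `frame`: the first six entries in the octad `o`, the last one outside -/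
theorem frame_list {o : Finset GolayPt} (ho : o ∈ octads) {l : List GolayPt} (hl : l.Nodup) (h6 : l.length = 6)
    (hlo : ∀ p ∈ l, p ∈ o) {x : GolayPt} (hx : x ∉ o) :
    ∃ g ∈ M24, g • o = O0 ∧ l.map g = [pt 0, pt 1, pt 2, pt 3, pt 4, pt 7] ∧ g x = pt 5 := by
  match l, h6 with
  | [a, b, c, d, e, f], _ =>
    obtain ⟨g, hg, h, e0, e1, e2, e3, e4, e5, e6⟩ := frame ho (hlo a (by simp)) (hlo b (by simp)) (hlo c (by simp))
      (hlo d (by simp)) (hlo e (by simp)) (hlo f (by simp)) hl hx
    exact ⟨g, hg, h, by simp [e0, e1, e2, e3, e4, e5], e6⟩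

/-- extend a list inside a finset by elements of another finset -/
theorem exists_app (s : Finset GolayPt) (l : List GolayPt) (hl : l.Nodup) (n : ℕ) (hn : n ≤ s.card)
    (hd : ∀ p ∈ l, p ∉ s) :
    ∃ l' : List GolayPt, (l ++ l').Nodup ∧ l'.length = n ∧ ∀ p ∈ l', p ∈ s := by
  obtain ⟨l', h1, h2, h3⟩ := exists_list_of_le_card (s := s) (n := n) hn
  exact ⟨l', List.nodup_append.mpr ⟨hl, h1, fun a ha b hb hab => hd a ha (hab ▸ h3 b hb)⟩, h2, h3⟩

theorem octad_inter_octad {o o' : Finset GolayPt} (ho : o ∈ octads) (ho' : o' ∈ octads) (h : o ≠ o') :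
    (o ∩ o').card = 0 ∨ (o ∩ o').card = 2 ∨ (o ∩ o').card = 4 := by
  have h1 := supports_card (symmDiff_mem ho.1 ho'.1)
  have h2 := card_symmDiff' o o'
  have h3 : o.card = 8 := ho.2
  have h4 : o'.card = 8 := ho'.2
  have h5 : (o ∩ o').card ≤ 8 := by rw [← h3]; exact Finset.card_le_card Finset.inter_subset_left
  have h6 : (symmDiff o o').card ≠ 0 := by
    intro hc
    rw [Finset.card_eq_zero] at hc
    exact h (symmDiff_eq_bot.mp hc)
  omega

theorem octad_cond {o : Finset GolayPt} (ho : o ∈ octads) {a : ℕ} (h : mask (o ∩ O0) = a) (b : Bool)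
    (h5 : decide (pt 5 ∈ o) = b) :
    (Nat.beq (pop (mask o)) 8 && (Nat.beq (Nat.land (mask o) 5279) a && (Nat.beq (Nat.land (mask o) 32) (cond b 32 0)))) = true := by
  rw [Bool.and_eq_true, Bool.and_eq_true]
  refine ⟨?_, ?_, ?_⟩
  · rw [(mem_octads_iff.mp ho).2]; rfl
  · rw [mask_inter, mask_O0] at h
    have : Nat.land (mask o) 5279 = a := h
    rw [this]; exact Nat.beq_refl _
  · have h4 : (32 : ℕ) = mask {pt 5} := by decide +kernel
    have h6 : Nat.land (mask o) 32 = mask (o ∩ {pt 5}) := by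
      rw [mask_inter, ← h4]; rfl
    rw [h6]
    cases b with
    | true =>
      rw [Finset.inter_singleton_of_mem (of_decide_eq_true h5), ← h4]; rfl
    | false =>
      rw [Finset.inter_singleton_of_notMem (of_decide_eq_false h5), mask_empty]; rfl

/-- compute the mask of the image of an intersection from a list -/
theorem mask_of_list {g : Equiv.Perm GolayPt} {s : Finset GolayPt} {l : List GolayPt} (hl : l.Nodup)
    (hls : ∀ p ∈ l, p ∈ s) (hc : s.card = l.length) {m : List GolayPt} (h : l.map g = m) {a : ℕ}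
    (ha : mask m.toFinset = a) : mask (g • s) = a := by
  rw [← ha, ← h]
  congr 1
  symm
  apply Finset.eq_of_subset_of_card_le
  · intro p hp
    rw [List.mem_toFinset, List.mem_map] at hp
    obtain ⟨q, hq, rfl⟩ := hp
    exact mem_smul_iff.mpr (hls q hq)
  · rw [card_smul', hc, List.toFinset_card_of_nodup (hl.map g.injective), List.length_map]

theorem eq_of_list {o o' : Finset GolayPt} (ho : o ∈ octads) (ho' : o' ∈ octads) {l : List GolayPt} (hl : l.Nodup)
    (h5 : l.length = 5) (h1 : ∀ p ∈ l, p ∈ o) (h2 : ∀ p ∈ l, p ∈ o') : o = o' := by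
  apply eq_of_five ho ho'
  rw [← h5, ← List.toFinset_card_of_nodup hl]
  apply Finset.card_le_card
  intro p hp
  rw [List.mem_toFinset] at hp
  exact Finset.mem_inter.mpr ⟨h1 p hp, h2 p hp⟩

theorem map_mem_smul {g : Equiv.Perm GolayPt} {l m : List GolayPt} (h : l.map g = m) {s : Finset GolayPt}
    (hs : ∀ p ∈ l, p ∈ s) : ∀ q ∈ m, q ∈ g • s := by
  intro q hq
  rw [← h, List.mem_map] at hq
  obtain ⟨p, hp, rfl⟩ := hq
  exact mem_smul_iff.mpr (hs p hp)

theorem map_mul' {g k : Equiv.Perm GolayPt} {l m : List GolayPt} (h : l.map g = m) : l.map (k * g) = m.map k := by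
  rw [← h, List.map_map]; rfl

theorem card_sdiff_octad {o s : Finset GolayPt} (ho : o ∈ octads) : (o \ s).card + (o ∩ s).card = 8 := by
  rw [Finset.card_sdiff_add_card_inter]; exact ho.2

theorem app_left {α : Type*} {f : α → α} {l l' m m' : List α} (h : (l ++ l').map f = m ++ m') (hl : l.length = m.length) :
    l.map f = m := by
  rw [List.map_append] at h
  exact List.append_inj_left h (by rw [List.length_map, hl])

theorem app_right {α : Type*} {f : α → α} {l l' m m' : List α} (h : (l ++ l').map f = m ++ m') (hl : l.length = m.length) :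
    l'.map f = m' := by
  rw [List.map_append] at h
  exact List.append_inj_right h (by rw [List.length_map, hl])

/-- octads meeting in four points -/
theorem pair4 {o o' : Finset GolayPt} (ho : o ∈ octads) (ho' : o' ∈ octads) (h : (o ∩ o').card = 4)
    {l : List GolayPt} (hl : l.Nodup) (h4 : l.length = 4) (hlo : ∀ p ∈ l, p ∈ o ∩ o') :
    ∃ g ∈ M24, g • o = O0 ∧ g • o' = toFS 0x82402f ∧ l.map g = [pt 0, pt 1, pt 2, pt 3] := by
  have c1 := card_sdiff_octad (s := o') ho
  have c2 := card_sdiff_octad (s := o) ho'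
  rw [Finset.inter_comm] at c2
  obtain ⟨l', hl', h2, hl'o⟩ := exists_app (o \ o') l hl 2 (by omega) (by
    intro p hp hc
    exact (Finset.mem_sdiff.mp hc).2 (Finset.mem_inter.mp (hlo p hp)).2)
  obtain ⟨x, hx⟩ : (o' \ o).Nonempty := by rw [← Finset.card_pos]; omega
  rw [Finset.mem_sdiff] at hx
  obtain ⟨g, hg, hgo, hgl, hgx⟩ := frame_list ho hl' (by rw [List.length_append]; omega) (by
    intro p hp
    rw [List.mem_append] at hp
    rcases hp with hp | hp
    · exact (Finset.mem_inter.mp (hlo p hp)).1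
    · exact (Finset.mem_sdiff.mp (hl'o p hp)).1) hx.2
  have hgl4 := app_left (m := [pt 0, pt 1, pt 2, pt 3]) hgl (by rw [h4]; rfl)
  refine ⟨g, hg, hgo, ?_, hgl4⟩
  have hO4 : toFS 0x82402f ∈ octads := by
    rw [mem_octads_iff, mask_toFS (by norm_num)]; decide +kernel
  apply eq_of_list ((smul_mem_octads hg).mpr ho') hO4 (l := [pt 0, pt 1, pt 2, pt 3, pt 5]) (by decide) rfl
  · intro q hq
    have hq' : q ∈ [pt 0, pt 1, pt 2, pt 3] ∨ q = pt 5 := by
      simp only [List.mem_cons, List.not_mem_nil, or_false] at hq ⊢; tauto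
    rcases hq' with hq | rfl
    · exact map_mem_smul hgl4 (fun p hp => (Finset.mem_inter.mp (hlo p hp)).2) q hq
    · rw [← hgx]; exact mem_smul_iff.mpr hx.1
  · decide +kernel

/-- octads meeting in two points -/
theorem pair2 {o o' : Finset GolayPt} (ho : o ∈ octads) (ho' : o' ∈ octads) (h : (o ∩ o').card = 2)
    {x y : GolayPt} (hx : x ∈ o ∩ o') (hy : y ∈ o ∩ o') (hxy : x ≠ y) :
    ∃ g ∈ M24, g • o = O0 ∧ g • o' = toFS 0x38c023 ∧ g x = pt 0 ∧ g y = pt 1 := by
  have hl : [x, y].Nodup := by simp [hxy]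
  have hlo : ∀ p ∈ [x, y], p ∈ o ∩ o' := by simp [Finset.mem_inter.mp hx, Finset.mem_inter.mp hy]
  have c1 := card_sdiff_octad (s := o') ho
  have c2 := card_sdiff_octad (s := o) ho'
  rw [Finset.inter_comm] at c2
  obtain ⟨l', hl', h2, hl'o⟩ := exists_app (o \ o') [x, y] hl 4 (by omega) (by
    intro p hp hc
    exact (Finset.mem_sdiff.mp hc).2 (Finset.mem_inter.mp (hlo p hp)).2)
  obtain ⟨z, hz⟩ : (o' \ o).Nonempty := by rw [← Finset.card_pos]; omega
  rw [Finset.mem_sdiff] at hz
  obtain ⟨g, hg, hgo, hgl, hgz⟩ := frame_list ho hl' (by rw [List.length_append, h2]; rfl) (by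
    intro p hp
    rw [List.mem_append] at hp
    rcases hp with hp | hp
    · exact (Finset.mem_inter.mp (hlo p hp)).1
    · exact (Finset.mem_sdiff.mp (hl'o p hp)).1) hz.2
  have hgl2 := app_left (m := [pt 0, pt 1]) hgl rfl
  have key : orbCheck (fun m => and (Nat.beq (pop m) 8) (and (Nat.beq (Nat.land m 5279) 3)
      (Nat.beq (Nat.land m 32) (cond true 32 0)))) (fixes [0, 1] [5279]) tabP2 0x38c023 = true := by
    decide +kernel
  have hm : mask (g • o' ∩ O0) = 3 := by
    rw [← hgo, ← smul_inter', Finset.inter_comm]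
    exact mask_of_list hl hlo h hgl2 (by decide +kernel)
  obtain ⟨k, hk, P, hP, hPf, hkd⟩ := orbCheck_spec key ((smul_mem_octads hg).mpr ho').1
    (octad_cond ((smul_mem_octads hg).mpr ho') hm true (by
      apply decide_eq_true; rw [← hgz]; exact mem_smul_iff.mpr hz.1))
  simp only [List.map_cons, List.map_nil, List.cons.injEq, and_true] at hgl2
  refine ⟨k * g, M24_mul hk hg, ?_, by rw [mul_smul, hkd], ?_, ?_⟩
  · rw [mul_smul, hgo]; exact fixes_mask hPf hP (by simp) (by norm_num)
  · rw [Equiv.Perm.mul_apply, hgl2.1]; exact fixes_pt hPf hP (by simp) (by norm_num)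
  · rw [Equiv.Perm.mul_apply, hgl2.2]; exact fixes_pt hPf hP (by simp) (by norm_num)

/-- disjoint octads -/
theorem pair0 {o o' : Finset GolayPt} (ho : o ∈ octads) (ho' : o' ∈ octads) (h : (o ∩ o').card = 0) :
    ∃ g ∈ M24, g • o = O0 ∧ g • o' = toFS 0xb66020 := by
  have c1 := card_sdiff_octad (s := o') ho
  have c2 := card_sdiff_octad (s := o) ho'
  rw [Finset.inter_comm] at c2
  obtain ⟨l, hl, h6, hlo⟩ := exists_list_of_le_card (s := o) (n := 6) (by rw [ho.2]; norm_num)
  obtain ⟨z, hz⟩ : (o' \ o).Nonempty := by rw [← Finset.card_pos]; omega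
  rw [Finset.mem_sdiff] at hz
  obtain ⟨g, hg, hgo, hgl, hgz⟩ := frame_list ho hl h6 hlo hz.2
  have key : orbCheck (fun m => and (Nat.beq (pop m) 8) (and (Nat.beq (Nat.land m 5279) 0)
      (Nat.beq (Nat.land m 32) (cond true 32 0)))) (fixes [] [5279]) tabP0 0xb66020 = true := by
    decide +kernel
  have hm : mask (g • o' ∩ O0) = 0 := by
    rw [← hgo, ← smul_inter', Finset.inter_comm, Finset.card_eq_zero.mp h, Finset.smul_finset_empty, mask_empty]
  obtain ⟨k, hk, P, hP, hPf, hkd⟩ := orbCheck_spec key ((smul_mem_octads hg).mpr ho').1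
    (octad_cond ((smul_mem_octads hg).mpr ho') hm true (by
      apply decide_eq_true; rw [← hgz]; exact mem_smul_iff.mpr hz.1))
  refine ⟨k * g, M24_mul hk hg, ?_, by rw [mul_smul, hkd]⟩
  rw [mul_smul, hgo]; exact fixes_mask hPf hP (by simp) (by norm_num)

/-- octads meeting in four points, with a point in the intersection and a point outside both -/
theorem pair4x {o o' : Finset GolayPt} (ho : o ∈ octads) (ho' : o' ∈ octads) (h : (o ∩ o').card = 4)
    {x z : GolayPt} (hx : x ∈ o ∩ o') (hz : z ∉ o) (hz' : z ∉ o') :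
    ∃ g ∈ M24, g • o = O0 ∧ g • o' = toFS 0x34200f ∧ g x = pt 0 ∧ g z = pt 5 := by
  obtain ⟨l1, n1, len1, m1⟩ := exists_extend_in (o ∩ o') 4 h.ge [x] (by simp) (by simpa using hx) (by simp)
  have c1 := card_sdiff_octad (s := o') ho
  obtain ⟨l', hl', h2, hl'o⟩ := exists_app (o \ o') ([x] ++ l1) n1 2 (by omega) (by
    intro p hp hc
    exact (Finset.mem_sdiff.mp hc).2 (Finset.mem_inter.mp (m1 p hp)).2)
  obtain ⟨g, hg, hgo, hgl, hgz⟩ := frame_list ho hl' (by rw [List.length_append, len1, h2]) (by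
    intro p hp
    rw [List.mem_append] at hp
    rcases hp with hp | hp
    · exact (Finset.mem_inter.mp (m1 p hp)).1
    · exact (Finset.mem_sdiff.mp (hl'o p hp)).1) hz
  have hgl2 := app_left (m := [pt 0, pt 1, pt 2, pt 3]) hgl (by rw [len1]; rfl)
  have key : orbCheck (fun m => and (Nat.beq (pop m) 8) (and (Nat.beq (Nat.land m 5279) 15)
      (Nat.beq (Nat.land m 32) (cond false 32 0)))) (fixes [0, 5] [5279]) tabP4x 0x34200f = true := by
    decide +kernel
  have hm : mask (g • o' ∩ O0) = 15 := by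
    rw [← hgo, ← smul_inter', Finset.inter_comm]
    exact mask_of_list n1 m1 (by rw [h, len1]) hgl2 (by decide +kernel)
  obtain ⟨k, hk, P, hP, hPf, hkd⟩ := orbCheck_spec key ((smul_mem_octads hg).mpr ho').1
    (octad_cond ((smul_mem_octads hg).mpr ho') hm false (by
      apply decide_eq_false; rw [← hgz]; exact fun h => hz' (mem_smul_iff.mp h)))
  rw [List.singleton_append, List.map_cons, List.cons.injEq] at hgl2
  refine ⟨k * g, M24_mul hk hg, ?_, by rw [mul_smul, hkd], ?_, ?_⟩
  · rw [mul_smul, hgo]; exact fixes_mask hPf hP (by simp) (by norm_num)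
  · rw [Equiv.Perm.mul_apply, hgl2.1]; exact fixes_pt hPf hP (by simp) (by norm_num)
  · rw [Equiv.Perm.mul_apply, hgz]; exact fixes_pt hPf hP (by simp) (by norm_num)

/-- octads meeting in two points, with a point in the intersection and a point outside both -/
theorem pair2x {o o' : Finset GolayPt} (ho : o ∈ octads) (ho' : o' ∈ octads) (h : (o ∩ o').card = 2)
    {x z : GolayPt} (hx : x ∈ o ∩ o') (hz : z ∉ o) (hz' : z ∉ o') :
    ∃ g ∈ M24, g • o = O0 ∧ g • o' = toFS 0x8ea003 ∧ g x = pt 0 ∧ g z = pt 5 := by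
  obtain ⟨l1, n1, len1, m1⟩ := exists_extend_in (o ∩ o') 2 h.ge [x] (by simp) (by simpa using hx) (by simp)
  have c1 := card_sdiff_octad (s := o') ho
  obtain ⟨l', hl', h2, hl'o⟩ := exists_app (o \ o') ([x] ++ l1) n1 4 (by omega) (by
    intro p hp hc
    exact (Finset.mem_sdiff.mp hc).2 (Finset.mem_inter.mp (m1 p hp)).2)
  obtain ⟨g, hg, hgo, hgl, hgz⟩ := frame_list ho hl' (by rw [List.length_append, len1, h2]) (by
    intro p hp
    rw [List.mem_append] at hp
    rcases hp with hp | hp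
    · exact (Finset.mem_inter.mp (m1 p hp)).1
    · exact (Finset.mem_sdiff.mp (hl'o p hp)).1) hz
  have hgl2 := app_left (m := [pt 0, pt 1]) hgl (by rw [len1]; rfl)
  have key : orbCheck (fun m => and (Nat.beq (pop m) 8) (and (Nat.beq (Nat.land m 5279) 3)
      (Nat.beq (Nat.land m 32) (cond false 32 0)))) (fixes [0, 5] [5279]) tabP2x 0x8ea003 = true := by
    decide +kernel
  have hm : mask (g • o' ∩ O0) = 3 := by
    rw [← hgo, ← smul_inter', Finset.inter_comm]
    exact mask_of_list n1 m1 (by rw [h, len1]) hgl2 (by decide +kernel)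
  obtain ⟨k, hk, P, hP, hPf, hkd⟩ := orbCheck_spec key ((smul_mem_octads hg).mpr ho').1
    (octad_cond ((smul_mem_octads hg).mpr ho') hm false (by
      apply decide_eq_false; rw [← hgz]; exact fun h => hz' (mem_smul_iff.mp h)))
  rw [List.singleton_append, List.map_cons, List.cons.injEq] at hgl2
  refine ⟨k * g, M24_mul hk hg, ?_, by rw [mul_smul, hkd], ?_, ?_⟩
  · rw [mul_smul, hgo]; exact fixes_mask hPf hP (by simp) (by norm_num)
  · rw [Equiv.Perm.mul_apply, hgl2.1]; exact fixes_pt hPf hP (by simp) (by norm_num)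
  · rw [Equiv.Perm.mul_apply, hgz]; exact fixes_pt hPf hP (by simp) (by norm_num)

/-- disjoint octads with a point outside both -/
theorem pair0x {o o' : Finset GolayPt} (ho : o ∈ octads) (ho' : o' ∈ octads) (h : (o ∩ o').card = 0)
    {z : GolayPt} (hz : z ∉ o) (hz' : z ∉ o') :
    ∃ g ∈ M24, g • o = O0 ∧ g • o' = toFS 0xecc040 ∧ g z = pt 5 := by
  obtain ⟨l, hl, h6, hlo⟩ := exists_list_of_le_card (s := o) (n := 6) (by rw [ho.2]; norm_num)
  obtain ⟨g, hg, hgo, hgl, hgz⟩ := frame_list ho hl h6 hlo hz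
  have key : orbCheck (fun m => and (Nat.beq (pop m) 8) (and (Nat.beq (Nat.land m 5279) 0)
      (Nat.beq (Nat.land m 32) (cond false 32 0)))) (fixes [5] [5279]) tabP0x 0xecc040 = true := by
    decide +kernel
  have hm : mask (g • o' ∩ O0) = 0 := by
    rw [← hgo, ← smul_inter', Finset.inter_comm, Finset.card_eq_zero.mp h, Finset.smul_finset_empty, mask_empty]
  obtain ⟨k, hk, P, hP, hPf, hkd⟩ := orbCheck_spec key ((smul_mem_octads hg).mpr ho').1
    (octad_cond ((smul_mem_octads hg).mpr ho') hm false (by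
      apply decide_eq_false; rw [← hgz]; exact fun h => hz' (mem_smul_iff.mp h)))
  refine ⟨k * g, M24_mul hk hg, ?_, by rw [mul_smul, hkd], ?_⟩
  · rw [mul_smul, hgo]; exact fixes_mask hPf hP (by simp) (by norm_num)
  · rw [Equiv.Perm.mul_apply, hgz]; exact fixes_pt hPf hP (by simp) (by norm_num)

/-- combine two normalisations -/
theorem combine {o o' o₁ o₁' A B : Finset GolayPt} {g k : Equiv.Perm GolayPt} (hg : g ∈ M24) (hk : k ∈ M24)
    (h1 : g • o = A) (h2 : g • o' = B) (h3 : k • o₁ = A) (h4 : k • o₁' = B) :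
    k⁻¹ * g ∈ M24 ∧ (k⁻¹ * g) • o = o₁ ∧ (k⁻¹ * g) • o' = o₁' :=
  ⟨M24_mul (inv_mem hk) hg, by rw [mul_smul, h1, ← h3, inv_smul_smul], by rw [mul_smul, h2, ← h4, inv_smul_smul]⟩

theorem combine_pt {x y a : GolayPt} {g k : Equiv.Perm GolayPt} (h1 : g x = a) (h2 : k y = a) : (k⁻¹ * g) x = y := by
  rw [Equiv.Perm.mul_apply, h1, ← h2, Equiv.Perm.inv_def, Equiv.symm_apply_apply]

/-! ### Counting -/

theorem count_code {P : Finset GolayPt → Prop} (p : ℕ → Bool) {n : ℕ}
    (hP : ∀ s, P s ↔ s ∈ supports (golayCode : Set (GolayPt → ZMod 2)) ∧ p (mask s) = true)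
    (h : cntC p rows 0 = n) : {s | P s}.ncard = n := by
  rw [← h, ← ncard_code]
  congr 1
  ext s
  exact hP s

theorem inter_card_eq {a : ℕ} (ha : a < 2 ^ 24) (s : Finset GolayPt) : (toFS a ∩ s).card = pop (Nat.land a (mask s)) := by
  rw [card_eq_pop, mask_inter, mask_toFS ha]; rfl

theorem inter_card_eq' {a : ℕ} (ha : a < 2 ^ 24) (s : Finset GolayPt) : (s ∩ toFS a).card = pop (Nat.land a (mask s)) := by
  rw [Finset.inter_comm]; exact inter_card_eq ha s

theorem mem_pt_iff {i : ℕ} (hi : i < 24) {s : Finset GolayPt} : pt i ∈ s ↔ (mask s).testBit i = true := by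
  have := testBit_mask s (pt i)
  rw [idx_pt hi] at this
  rw [this, decide_eq_true_eq]

theorem octads_iff' {s : Finset GolayPt} : s ∈ octads ↔
    s ∈ supports (golayCode : Set (GolayPt → ZMod 2)) ∧ Nat.beq (pop (mask s)) 8 = true := by
  rw [mem_octads_iff, mem_supports_iff, Nat.beq_eq]

theorem dodecads_iff' {s : Finset GolayPt} : s ∈ dodecads ↔
    s ∈ supports (golayCode : Set (GolayPt → ZMod 2)) ∧ Nat.beq (pop (mask s)) 12 = true := by
  rw [mem_dodecads_iff, mem_supports_iff, Nat.beq_eq]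

/-- the number of sets with given size and given intersection with a fixed set -/
theorem ncard_inter (s : Finset GolayPt) (k j : ℕ) (hj : j ≤ k) :
    {y : Finset GolayPt | y.card = k ∧ (s ∩ y).card = j}.ncard = s.card.choose j * (24 - s.card).choose (k - j) := by
  have h1 : {y : Finset GolayPt | y.card = k ∧ (s ∩ y).card = j} =
      ((Finset.powersetCard j s ×ˢ Finset.powersetCard (k - j) sᶜ).image (fun z => z.1 ∪ z.2) : Finset (Finset GolayPt)) := by
    ext y
    simp only [Set.mem_setOf_eq, Finset.coe_image, Set.mem_image, Finset.mem_coe, Finset.mem_product,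
      Finset.mem_powersetCard, Prod.exists]
    constructor
    · rintro ⟨h1, h2⟩
      refine ⟨s ∩ y, y \ s, ⟨⟨Finset.inter_subset_left, h2⟩, ?_, ?_⟩, ?_⟩
      · intro p hp; rw [Finset.mem_sdiff] at hp; rw [Finset.mem_compl]; exact hp.2
      · have := Finset.card_sdiff_add_card_inter y s
        rw [Finset.inter_comm, h2, h1] at this; omega
      · ext p; simp only [Finset.mem_union, Finset.mem_inter, Finset.mem_sdiff]; tauto
    · rintro ⟨a, b, ⟨⟨ha, hac⟩, hb, hbc⟩, rfl⟩
      have hd : Disjoint a b := by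
        rw [Finset.disjoint_left]
        intro p hpa hpb
        exact (Finset.mem_compl.mp (hb hpb)) (ha hpa)
      refine ⟨by rw [Finset.card_union_of_disjoint hd, hac, hbc]; omega, ?_⟩
      rw [← hac]
      congr 1
      ext p
      simp only [Finset.mem_inter, Finset.mem_union]
      constructor
      · rintro ⟨h1, h2 | h2⟩
        · exact h2
        · exact absurd h1 (Finset.mem_compl.mp (hb h2))
      · intro h; exact ⟨ha h, Or.inl h⟩
  rw [h1, Set.ncard_coe_finset, Finset.card_image_of_injOn, Finset.card_product, Finset.card_powersetCard,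
    Finset.card_powersetCard, Finset.card_compl]
  · rfl
  · rintro ⟨a, b⟩ hab ⟨a', b'⟩ hab' h
    simp only [Finset.coe_product, Set.mem_prod, Finset.mem_coe, Finset.mem_powersetCard] at hab hab' h
    have ha : a = s ∩ (a ∪ b) := by
      ext p
      simp only [Finset.mem_inter, Finset.mem_union]
      constructor
      · intro h; exact ⟨hab.1.1 h, Or.inl h⟩
      · rintro ⟨h1, h2 | h2⟩
        · exact h2
        · exact absurd h1 (Finset.mem_compl.mp (hab.2.1 h2))
    have ha' : a' = s ∩ (a' ∪ b') := by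
      ext p
      simp only [Finset.mem_inter, Finset.mem_union]
      constructor
      · intro h; exact ⟨hab'.1.1 h, Or.inl h⟩
      · rintro ⟨h1, h2 | h2⟩
        · exact h2
        · exact absurd h1 (Finset.mem_compl.mp (hab'.2.1 h2))
    have hb : b = (a ∪ b) \ s := by
      ext p
      simp only [Finset.mem_sdiff, Finset.mem_union]
      constructor
      · intro h; exact ⟨Or.inr h, Finset.mem_compl.mp (hab.2.1 h)⟩
      · rintro ⟨h1 | h1, h2⟩
        · exact absurd (hab.1.1 h1) h2
        · exact h1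
    have hb' : b' = (a' ∪ b') \ s := by
      ext p
      simp only [Finset.mem_sdiff, Finset.mem_union]
      constructor
      · intro h; exact ⟨Or.inr h, Finset.mem_compl.mp (hab'.2.1 h)⟩
      · rintro ⟨h1 | h1, h2⟩
        · exact absurd (hab'.1.1 h1) h2
        · exact h1
    rw [h] at ha hb
    rw [Prod.mk.injEq]
    exact ⟨ha.trans ha'.symm, hb.trans hb'.symm⟩

/-! ### Pairs of dodecads -/

theorem dodecad_inter_dodecad {d d' : Finset GolayPt} (hd : d ∈ dodecads) (hd' : d' ∈ dodecads) :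
    (d ∩ d').card = 0 ∨ (d ∩ d').card = 4 ∨ (d ∩ d').card = 6 ∨ (d ∩ d').card = 8 ∨ (d ∩ d').card = 12 := by
  have h1 := supports_card (symmDiff_mem hd.1 hd'.1)
  have h2 := card_symmDiff' d d'
  have h3 : d.card = 12 := hd.2
  have h4 : d'.card = 12 := hd'.2
  omega

theorem symmDiff_octad {d d' : Finset GolayPt} (hd : d ∈ dodecads) (hd' : d' ∈ dodecads) (h : (d ∩ d').card = 8) :
    symmDiff d d' ∈ octads := by
  refine ⟨symmDiff_mem hd.1 hd'.1, ?_⟩
  have h2 := card_symmDiff' d d'
  have h3 : d.card = 12 := hd.2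
  have h4 : d'.card = 12 := hd'.2
  omega

theorem smul_symmDiff' (g : Equiv.Perm GolayPt) (s t : Finset GolayPt) : g • symmDiff s t = symmDiff (g • s) (g • t) :=
  Finset.smul_finset_symmDiff

/-- the octad meeting the base dodecad in the first four points is unique -/
theorem octad_D0_four {o : Finset GolayPt} (ho : o ∈ octads) (h : mask (o ∩ D0) = 15) : o = toFS 0x400a4f := by
  have key : allC (fun m => or (not (and (Nat.beq (pop m) 8) (Nat.beq (Nat.land m 0x7a0bf) 15)))
    (Nat.beq m 0x400a4f)) rows 0 = true := by decide +kernel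
  have h1 := forall_code _ key ho.1
  rw [mask_inter, mask_D0] at h
  have h2 : Nat.land (mask o) 0x7a0bf = 15 := h
  rw [(mem_octads_iff.mp ho).2, h2] at h1
  have h3 : mask o = 0x400a4f := Nat.eq_of_beq_eq_true (by simpa using h1)
  rw [← h3, toFS_mask]

theorem mem_D0_base : ∀ p ∈ [pt 0, pt 1, pt 2, pt 3, pt 4], p ∈ D0 := by decide +kernel

/-- dodecads meeting in eight points, with a point in the intersection -/
theorem dpair8 {d d' : Finset GolayPt} (hd : d ∈ dodecads) (hd' : d' ∈ dodecads) (h : (d ∩ d').card = 8)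
    {x : GolayPt} (hx : x ∈ d) (hx' : x ∈ d') :
    ∃ g ∈ M24, g • d = D0 ∧ g • d' = symmDiff D0 (toFS 0x400a4f) ∧ g x = pt 4 := by
  have ho := symmDiff_octad hd hd' h
  have hod : symmDiff d d' ∩ d = d \ d' := by
    ext p; simp only [Finset.mem_inter, Finset.mem_symmDiff, Finset.mem_sdiff]; tauto
  have hc : (d \ d').card = 4 := by
    have := Finset.card_sdiff_add_card_inter d d'
    have h3 : d.card = 12 := hd.2
    omega
  obtain ⟨l, hl, h4, hld⟩ := exists_list_of_le_card (s := d \ d') (n := 4) hc.ge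
  have hnd : (l ++ [x]).Nodup := List.nodup_append.mpr ⟨hl, by simp, fun a ha b hb hab => by
    rw [List.mem_singleton] at hb
    subst hab; subst hb
    exact (Finset.mem_sdiff.mp (hld _ ha)).2 hx'⟩
  obtain ⟨g, hg, hgd, hgl⟩ := dod_trans hd D0_mem (l' := [pt 0, pt 1, pt 2, pt 3] ++ [pt 4]) hnd (by decide) (by
    intro p hp
    rw [List.mem_append, List.mem_singleton] at hp
    rcases hp with hp | rfl
    · exact (Finset.mem_sdiff.mp (hld p hp)).1
    · exact hx) mem_D0_base (by simp [h4]) (by simp [h4])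
  have hgl1 := app_left hgl (by rw [h4]; rfl)
  have hgl2 := app_right hgl (by rw [h4]; rfl)
  have hgo : g • symmDiff d d' = toFS 0x400a4f := by
    apply octad_D0_four ((smul_mem_octads hg).mpr ho)
    rw [← hgd, ← smul_inter', hod]
    exact mask_of_list hl hld (by rw [hc, h4]) hgl1 (by decide +kernel)
  refine ⟨g, hg, hgd, ?_, by simpa using hgl2⟩
  rw [← hgo, ← hgd, ← smul_symmDiff', symmDiff_symmDiff_cancel_left]

/-- dodecads meeting in four points, with a point in the intersection -/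
theorem dpair4 {d d' : Finset GolayPt} (hd : d ∈ dodecads) (hd' : d' ∈ dodecads) (h : (d ∩ d').card = 4)
    {x : GolayPt} (hx : x ∈ d) (hx' : x ∈ d') :
    ∃ g ∈ M24, g • d = D0 ∧ g • d' = (symmDiff D0 (toFS 0x400a4f))ᶜ ∧ g x = pt 0 := by
  have hdc := compl_mem_dodecads hd'
  have hc : (d ∩ d'ᶜ).card = 8 := by
    have := Finset.card_sdiff_add_card_inter d d'
    have h3 : d.card = 12 := hd.2
    rw [← Finset.sdiff_eq_inter_compl]
    omega
  have ho := symmDiff_octad hd hdc hc
  have hod : symmDiff d d'ᶜ ∩ d = d ∩ d' := by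
    ext p; simp only [Finset.mem_inter, Finset.mem_symmDiff, Finset.mem_compl]; tauto
  obtain ⟨l, hl, h4, hld⟩ := exists_extend_in (d ∩ d') 4 h.ge [x] (by simp) (by simp [hx, hx']) (by simp)
  obtain ⟨g, hg, hgd, hgl⟩ := dod_trans hd D0_mem (l' := [pt 0, pt 1, pt 2, pt 3]) hl (by decide) (by
    intro p hp
    exact (Finset.mem_inter.mp (hld p hp)).1) (by decide +kernel) (by rw [h4]; rfl) (by omega)
  have hgo : g • symmDiff d d'ᶜ = toFS 0x400a4f := by
    apply octad_D0_four ((smul_mem_octads hg).mpr ho)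
    rw [← hgd, ← smul_inter', hod]
    exact mask_of_list hl hld (by rw [h, h4]) hgl (by decide +kernel)
  refine ⟨g, hg, hgd, ?_, ?_⟩
  · rw [eq_compl_comm, ← smul_compl, ← hgo, ← hgd, ← smul_symmDiff', symmDiff_symmDiff_cancel_left]
  · rw [List.singleton_append, List.map_cons, List.cons.injEq] at hgl
    exact hgl.1

/-- dodecads meeting in six points, with a point in the intersection -/
theorem dpair6 {d d' : Finset GolayPt} (hd : d ∈ dodecads) (hd' : d' ∈ dodecads) (h : (d ∩ d').card = 6)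
    {x : GolayPt} (hx : x ∈ d) (hx' : x ∈ d') :
    ∃ g ∈ M24, g • d = D0 ∧ g • d' = toFS 0xc8117f ∧ g x = pt 0 := by
  obtain ⟨l, hl, h5, hld⟩ := exists_extend_in (d ∩ d') 5 (by omega) [x] (by simp) (by simp [hx, hx']) (by simp)
  obtain ⟨g, hg, hgd, hgl⟩ := dod_trans hd D0_mem (l' := [pt 0, pt 1, pt 2, pt 3, pt 4]) hl (by decide) (by
    intro p hp
    exact (Finset.mem_inter.mp (hld p hp)).1) (by decide +kernel) (by rw [h5]; rfl) (by omega)
  have key : orbCheck (fun m => and (Nat.beq (pop m) 12) (and (Nat.beq (Nat.land m 31) 31)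
      (Nat.beq (pop (Nat.land 0x7a0bf m)) 6))) (fixes [0] [0x7a0bf]) tabD6 0xc8117f = true := by
    decide +kernel
  have hgd' := (smul_mem_dodecads hg).mpr hd'
  obtain ⟨k, hk, P, hP, hPf, hkd⟩ := orbCheck_spec key hgd'.1 (by
    rw [Bool.and_eq_true, Bool.and_eq_true]
    refine ⟨(dodecads_iff'.mp hgd').2, ?_, ?_⟩
    · have h1 : mask (g • d' ∩ toFS 31) = 31 := by
        have h2 : toFS 31 = [pt 0, pt 1, pt 2, pt 3, pt 4].toFinset := by decide +kernel
        have h3 : toFS 31 ⊆ g • d' := by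
          intro q hq
          rw [h2, List.mem_toFinset] at hq
          exact map_mem_smul hgl (fun p hp => (Finset.mem_inter.mp (hld p hp)).2) q hq
        rw [Finset.inter_eq_right.mpr h3, mask_toFS (by norm_num)]
      rw [mask_inter, mask_toFS (by norm_num)] at h1
      have h4 : Nat.land (mask (g • d')) 31 = 31 := h1
      rw [h4]; rfl
    · rw [← inter_card_eq (by norm_num)]
      have : toFS 0x7a0bf = g • d := hgd.symm
      rw [this, ← smul_inter', card_smul', h]; rfl)
  rw [List.singleton_append, List.map_cons, List.cons.injEq] at hgl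
  refine ⟨k * g, M24_mul hk hg, ?_, by rw [mul_smul, hkd], ?_⟩
  · rw [mul_smul, hgd]; exact fixes_mask hPf hP (by simp) (by norm_num)
  · rw [Equiv.Perm.mul_apply, hgl.1]; exact fixes_pt hPf hP (by simp) (by norm_num)

end CfsgLib.Golay
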