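import Mathlib
import Cfsg.Agent.Lib.GolayPairs
import Cfsg.Agent.Lib.CoatomCrit

/-!
Orbits of `M24` on pairs of duads and triads.
-/

set_option autoImplicit false

namespace CfsgLib.Golay

open Cfsg
open scoped Pointwise

theorem smul_of_list {g : Equiv.Perm GolayPt} {s t : Finset GolayPt} {l m : List GolayPt} (hl : l.Nodup)
    (hls : ∀ p ∈ l, p ∈ s) (hc : s.card = l.length) (h : l.map g = m) (hmt : ∀ p ∈ m, p ∈ t)
    (hct : t.card = l.length) : g • s = t := by
  apply Finset.eq_of_subset_of_card_le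
  · intro q hq
    rw [Finset.mem_smul_finset] at hq
    obtain ⟨p, hp, rfl⟩ := hq
    apply hmt
    rw [← h]
    apply List.mem_map_of_mem
    have : s = l.toFinset := by
      symm
      apply Finset.eq_of_subset_of_card_le
      · intro x hx; exact hls x (List.mem_toFinset.mp hx)
      · rw [List.toFinset_card_of_nodup hl, hc]
    rw [this, List.mem_toFinset] at hp
    exact hp
  · rw [card_smul', hc, hct]

/-- all elements of a finset as a duplicate-free list -/
theorem exists_list_eq (s : Finset GolayPt) : ∃ l : List GolayPt, l.Nodup ∧ l.length = s.card ∧ (∀ x, x ∈ l ↔ x ∈ s) :=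
  ⟨s.toList, s.nodup_toList, Finset.length_toList s, fun _ => Finset.mem_toList⟩

theorem seven_trans_in {l l' : List GolayPt} (hl : l.Nodup) (hl' : l'.Nodup) (h6 : l.length = 6) (h6' : l'.length = 6)
    {o o' : Finset GolayPt} (ho : o ∈ octads) (ho' : o' ∈ octads) (h : ∀ p ∈ l, p ∈ o) (h' : ∀ p ∈ l', p ∈ o') :
    ∃ g ∈ M24, l.map g = l' ∧ g • o = o' := by
  obtain ⟨x, hx⟩ := exists_not_mem_octad ho
  obtain ⟨x', hx'⟩ := exists_not_mem_octad ho'
  obtain ⟨g, hg, hgo, hgl, _⟩ := frame_list ho hl h6 h hx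
  obtain ⟨k, hk, hko, hkl, _⟩ := frame_list ho' hl' h6' h' hx'
  exact ⟨k⁻¹ * g, M24_mul (inv_mem hk) hg, map_inv_mul hgl hkl, by rw [mul_smul, hgo, ← hko, inv_smul_smul]⟩

/-- six points not in an octad -/
theorem six_trans_out {l l' : List GolayPt} (hl : l.Nodup) (hl' : l'.Nodup) (h6 : l.length = 6) (h6' : l'.length = 6)
    (h : ¬ ∃ o ∈ octads, ∀ p ∈ l, p ∈ o) (h' : ¬ ∃ o ∈ octads, ∀ p ∈ l', p ∈ o) :
    ∃ g ∈ M24, l.map g = l' := by
  have key : ∀ l : List GolayPt, l.Nodup → l.length = 6 → (¬ ∃ o ∈ octads, ∀ p ∈ l, p ∈ o) →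
      ∃ g ∈ M24, l.map g = [pt 0, pt 1, pt 2, pt 3, pt 4, pt 5] := by
    intro l hl h6 h
    match l, h6 with
    | [a, b, c, d, e, f], _ =>
      have hl5 : [a, b, c, d, e].Nodup := hl.sublist (List.sublist_append_left [a, b, c, d, e] [f])
      obtain ⟨o, ho, h5⟩ := octad_through_list hl5 rfl
      have hf : f ∉ o := by
        intro hc
        apply h
        refine ⟨o, ho, fun p hp => ?_⟩
        have : p ∈ [a, b, c, d, e] ∨ p = f := by
          simp only [List.mem_cons, List.not_mem_nil, or_false] at hp ⊢; tauto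
        rcases this with h1 | rfl
        · exact h5 p h1
        · exact hc
      obtain ⟨l', h1, h2, h3⟩ := exists_extend_in o 6 (by rw [ho.2]; norm_num) [a, b, c, d, e] hl5 h5 (by simp)
      obtain ⟨g, hg, _, hgl, hgx⟩ := frame_list ho h1 h2 h3 hf
      have := app_left (m := [pt 0, pt 1, pt 2, pt 3, pt 4]) (m' := [pt 7]) hgl rfl
      refine ⟨g, hg, ?_⟩
      have e : [a, b, c, d, e, f] = [a, b, c, d, e] ++ [f] := rfl
      rw [e, List.map_append, this, List.map_singleton, hgx]; rfl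
  obtain ⟨g, hg, hgl⟩ := key l hl h6 h
  obtain ⟨k, hk, hkl⟩ := key l' hl' h6' h'
  exact ⟨k⁻¹ * g, M24_mul (inv_mem hk) hg, map_inv_mul hgl hkl⟩

/-- disjoint triads with the same octad property -/
theorem triad_disj {T U U' : Finset GolayPt} (hT : T.card = 3) (hU : U.card = 3) (hU' : U'.card = 3)
    (h : Disjoint T U) (h' : Disjoint T U') (hiff : (∃ o ∈ octads, T ∪ U ⊆ o) ↔ (∃ o ∈ octads, T ∪ U' ⊆ o)) :
    ∃ g ∈ M24, g • T = T ∧ g • U = U' := by
  obtain ⟨l, hl, hl3, hlT⟩ := exists_list_eq T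
  obtain ⟨m, hm, hm3, hmU⟩ := exists_list_eq U
  obtain ⟨m', hm', hm3', hmU'⟩ := exists_list_eq U'
  have n1 : (l ++ m).Nodup := List.nodup_append.mpr ⟨hl, hm, fun a ha b hb hab =>
    Finset.disjoint_left.mp h ((hlT a).mp ha) (by subst hab; exact (hmU a).mp hb)⟩
  have n2 : (l ++ m').Nodup := List.nodup_append.mpr ⟨hl, hm', fun a ha b hb hab =>
    Finset.disjoint_left.mp h' ((hlT a).mp ha) (by subst hab; exact (hmU' a).mp hb)⟩
  have e1 : ∀ o : Finset GolayPt, T ∪ U ⊆ o ↔ ∀ p ∈ l ++ m, p ∈ o := by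
    intro o
    constructor
    · intro h p hp
      apply h
      rw [List.mem_append, hlT, hmU] at hp
      rwa [Finset.mem_union]
    · intro h p hp
      apply h
      rw [List.mem_append, hlT, hmU]
      rwa [Finset.mem_union] at hp
  have e2 : ∀ o : Finset GolayPt, T ∪ U' ⊆ o ↔ ∀ p ∈ l ++ m', p ∈ o := by
    intro o
    constructor
    · intro h p hp
      apply h
      rw [List.mem_append, hlT, hmU'] at hp
      rwa [Finset.mem_union]
    · intro h p hp
      apply h
      rw [List.mem_append, hlT, hmU']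
      rwa [Finset.mem_union] at hp
  have len1 : (l ++ m).length = 6 := by rw [List.length_append]; omega
  have len2 : (l ++ m').length = 6 := by rw [List.length_append]; omega
  have fin : ∀ g : Equiv.Perm GolayPt, (l ++ m).map g = l ++ m' → g • T = T ∧ g • U = U' := by
    intro g hgl
    have g1 := app_left hgl rfl
    have g2 := app_right hgl rfl
    exact ⟨smul_of_list hl (fun p hp => (hlT p).mp hp) hl3.symm g1 (fun p hp => (hlT p).mp hp) hl3.symm,
      smul_of_list hm (fun p hp => (hmU p).mp hp) hm3.symm g2 (fun p hp => (hmU' p).mp hp) (by omega)⟩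
  by_cases hin : ∃ o ∈ octads, T ∪ U ⊆ o
  · obtain ⟨o, ho, hoT⟩ := hin
    obtain ⟨o', ho', hoT'⟩ := hiff.mp ⟨o, ho, hoT⟩
    obtain ⟨g, hg, hgl, _⟩ := seven_trans_in n1 n2 len1 len2 ho ho' ((e1 o).mp hoT) ((e2 o').mp hoT')
    exact ⟨g, hg, fin g hgl⟩
  · have hout : ¬ ∃ o ∈ octads, T ∪ U' ⊆ o := fun h => hin (hiff.mpr h)
    obtain ⟨g, hg, hgl⟩ := six_trans_out n1 n2 len1 len2 (by
      rintro ⟨o, ho, h⟩; exact hin ⟨o, ho, (e1 o).mpr h⟩) (by
      rintro ⟨o, ho, h⟩; exact hout ⟨o, ho, (e2 o).mpr h⟩)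
    exact ⟨g, hg, fin g hgl⟩

/-- sets of size at most three with large intersection -/
theorem small_trans {T U U' : Finset GolayPt} (hU : U.card = T.card) (hU' : U'.card = T.card)
    (h : (T ∩ U).card = (T ∩ U').card) (h5 : 2 * T.card - (T ∩ U).card ≤ 5) : ∃ g ∈ M24, g • T = T ∧ g • U = U' := by
  obtain ⟨a, ha, ha3, haT⟩ := exists_list_eq (T ∩ U)
  obtain ⟨b, hb, hb3, hbT⟩ := exists_list_eq (T \ U)
  obtain ⟨c, hc, hc3, hcT⟩ := exists_list_eq (U \ T)
  obtain ⟨a', ha', ha3', haT'⟩ := exists_list_eq (T ∩ U')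
  obtain ⟨b', hb', hb3', hbT'⟩ := exists_list_eq (T \ U')
  obtain ⟨c', hc', hc3', hcT'⟩ := exists_list_eq (U' \ T)
  have k1 := Finset.card_sdiff_add_card_inter T U
  have k2 := Finset.card_sdiff_add_card_inter U T
  have k3 := Finset.card_sdiff_add_card_inter T U'
  have k4 := Finset.card_sdiff_add_card_inter U' T
  rw [Finset.inter_comm] at k2 k4
  have n1 : (a ++ (b ++ c)).Nodup := by
    rw [List.nodup_append, List.nodup_append]
    refine ⟨ha, ⟨hb, hc, ?_⟩, ?_⟩
    · intro x hx y hy hxy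
      subst hxy
      have h1 := (hbT x).mp hx
      have h2 := (hcT x).mp hy
      rw [Finset.mem_sdiff] at h1 h2
      exact h1.2 h2.1
    · intro x hx y hy hxy
      subst hxy
      have h1 := (haT x).mp hx
      rw [Finset.mem_inter] at h1
      rw [List.mem_append, hbT, hcT, Finset.mem_sdiff, Finset.mem_sdiff] at hy
      tauto
  have n2 : (a' ++ (b' ++ c')).Nodup := by
    rw [List.nodup_append, List.nodup_append]
    refine ⟨ha', ⟨hb', hc', ?_⟩, ?_⟩
    · intro x hx y hy hxy
      subst hxy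
      have h1 := (hbT' x).mp hx
      have h2 := (hcT' x).mp hy
      rw [Finset.mem_sdiff] at h1 h2
      exact h1.2 h2.1
    · intro x hx y hy hxy
      subst hxy
      have h1 := (haT' x).mp hx
      rw [Finset.mem_inter] at h1
      rw [List.mem_append, hbT', hcT', Finset.mem_sdiff, Finset.mem_sdiff] at hy
      tauto
  obtain ⟨g, hg, hgl⟩ := trans_list n1 n2 (by simp only [List.length_append]; omega)
    (by simp only [List.length_append]; omega)
  have g1 := app_left hgl (by omega)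
  have g2 := app_right hgl (by omega)
  have g3 := app_left g2 (by omega)
  have g4 := app_right g2 (by omega)
  refine ⟨g, hg, ?_, ?_⟩
  · apply smul_of_list (l := a ++ b) (m := a' ++ b')
    · exact n1.sublist (by rw [← List.append_assoc]; exact List.sublist_append_left _ _)
    · intro p hp
      rw [List.mem_append, haT, hbT, Finset.mem_inter, Finset.mem_sdiff] at hp; tauto
    · rw [List.length_append]; omega
    · rw [List.map_append, g1, g3]
    · intro p hp
      rw [List.mem_append, haT', hbT', Finset.mem_inter, Finset.mem_sdiff] at hp; tauto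
    · rw [List.length_append]; omega
  · apply smul_of_list (l := a ++ c) (m := a' ++ c')
    · rw [List.nodup_append]
      refine ⟨ha, hc, ?_⟩
      intro x hx y hy hxy
      subst hxy
      have h1 := (haT x).mp hx
      have h2 := (hcT x).mp hy
      rw [Finset.mem_inter] at h1
      rw [Finset.mem_sdiff] at h2
      exact h2.2 h1.1
    · intro p hp
      rw [List.mem_append, haT, hcT, Finset.mem_inter, Finset.mem_sdiff] at hp; tauto
    · rw [List.length_append]; omega
    · rw [List.map_append, g1, g4]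
    · intro p hp
      rw [List.mem_append, haT', hcT', Finset.mem_inter, Finset.mem_sdiff] at hp; tauto
    · rw [List.length_append]; omega

theorem ncard_disjoint_triads {T : Finset GolayPt} (hT : T.card = 3) :
    {U : Finset GolayPt | U.card = 3 ∧ Disjoint T U ∧ (∃ o ∈ octads, T ∪ U ⊆ o)}.ncard = 210 := by
  classical
  have h1 : {U : Finset GolayPt | U.card = 3 ∧ Disjoint T U ∧ (∃ o ∈ octads, T ∪ U ⊆ o)} =
      (((CfsgLib.Steiner.bl octads).filter fun o => T ⊆ o).biUnion fun o => Finset.powersetCard 3 (o \ T) :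
        Finset (Finset GolayPt)) := by
    ext U
    simp only [Set.mem_setOf_eq, Finset.coe_biUnion, Set.mem_iUnion, Finset.mem_coe, Finset.mem_filter,
      CfsgLib.Steiner.mem_bl, Finset.mem_powersetCard, exists_prop]
    constructor
    · rintro ⟨hU, hd, o, ho, hs⟩
      refine ⟨o, ⟨ho, Finset.union_subset_left hs⟩, ?_, hU⟩
      intro p hp
      rw [Finset.mem_sdiff]
      exact ⟨hs (Finset.mem_union_right _ hp), fun hc => Finset.disjoint_left.mp hd hc hp⟩
    · rintro ⟨o, ⟨ho, hTo⟩, hU, hUc⟩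
      refine ⟨hUc, ?_, o, ho, ?_⟩
      · rw [Finset.disjoint_left]
        intro p hp hpU
        exact (Finset.mem_sdiff.mp (hU hpU)).2 hp
      · intro p hp
        rw [Finset.mem_union] at hp
        rcases hp with hp | hp
        · exact hTo hp
        · exact (Finset.mem_sdiff.mp (hU hp)).1
  rw [h1, Set.ncard_coe_finset, Finset.card_biUnion]
  · rw [Finset.sum_congr rfl (g := fun _ => 10), Finset.sum_const, CfsgLib.Steiner.card_containing steiner T (by omega) (by norm_num), hT]
    · decide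
    · intro o ho
      rw [Finset.mem_filter, CfsgLib.Steiner.mem_bl] at ho
      rw [Finset.card_powersetCard, Finset.card_sdiff_of_subset ho.2, hT, ho.1.2]; rfl
  · intro o ho o' ho' hne
    rw [Finset.mem_coe, Finset.mem_filter, CfsgLib.Steiner.mem_bl] at ho ho'
    rw [Function.onFun, Finset.disjoint_left]
    intro U hU hU'
    rw [Finset.mem_powersetCard] at hU hU'
    apply hne
    apply eq_of_five ho.1 ho'.1
    have h2 : T ∪ U ⊆ o ∩ o' := by
      intro p hp
      rw [Finset.mem_union] at hp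
      rw [Finset.mem_inter]
      rcases hp with hp | hp
      · exact ⟨ho.2 hp, ho'.2 hp⟩
      · exact ⟨(Finset.mem_sdiff.mp (hU.1 hp)).1, (Finset.mem_sdiff.mp (hU'.1 hp)).1⟩
    have h3 : Disjoint T U := by
      rw [Finset.disjoint_left]
      intro p hp hpU
      exact (Finset.mem_sdiff.mp (hU.1 hpU)).2 hp
    have h4 := Finset.card_le_card h2
    rw [Finset.card_union_of_disjoint h3, hT, hU.2] at h4
    omega

theorem ncard_disjoint_triads' {T : Finset GolayPt} (hT : T.card = 3) :
    {U : Finset GolayPt | U.card = 3 ∧ Disjoint T U ∧ ¬ (∃ o ∈ octads, T ∪ U ⊆ o)}.ncard = 1120 := by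
  have h1 := ncard_inter T 3 0 (by norm_num)
  have h2 : {y : Finset GolayPt | y.card = 3 ∧ (T ∩ y).card = 0} =
      {U : Finset GolayPt | U.card = 3 ∧ Disjoint T U ∧ (∃ o ∈ octads, T ∪ U ⊆ o)} ∪
      {U : Finset GolayPt | U.card = 3 ∧ Disjoint T U ∧ ¬ (∃ o ∈ octads, T ∪ U ⊆ o)} := by
    ext U
    simp only [Set.mem_setOf_eq, Set.mem_union, Finset.card_eq_zero, ← Finset.disjoint_iff_inter_eq_empty]
    by_cases h : ∃ o ∈ octads, T ∪ U ⊆ o
    · constructor
      · rintro ⟨h3, h4⟩; exact Or.inl ⟨h3, h4, h⟩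
      · rintro (⟨h3, h4, _⟩ | ⟨h3, h4, _⟩) <;> exact ⟨h3, h4⟩
    · constructor
      · rintro ⟨h3, h4⟩; exact Or.inr ⟨h3, h4, h⟩
      · rintro (⟨h3, h4, _⟩ | ⟨h3, h4, _⟩) <;> exact ⟨h3, h4⟩
  rw [h2, Set.ncard_union_eq, ncard_disjoint_triads hT, hT] at h1
  · have h3 : Nat.choose 3 0 * Nat.choose (24 - 3) (3 - 0) = 1330 := by decide
    omega
  · rw [Set.disjoint_left]
    rintro U ⟨_, _, h3⟩ ⟨_, _, h4⟩
    exact h4 h3

end CfsgLib.Golay
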