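import Mathlib
import Cfsg.Prelude.Def_SporadicCombinatorics
import Cfsg.Agent.Lib.GolayTriads

/-!
Sextets and trios.
-/

set_option autoImplicit false

namespace CfsgLib.Golay

open Cfsg
open scoped Pointwise

/-! ### Sextets -/

/-- the sextet of a tetrad -/
noncomputable def sext (t : Finset GolayPt) : Finset (Finset GolayPt) := by
  classical
  exact insert t (((CfsgLib.Steiner.bl octads).filter fun o => t ⊆ o).image fun o => o \ t)

theorem mem_sext {t u : Finset GolayPt} : u ∈ sext t ↔ u = t ∨ ∃ o ∈ octads, t ⊆ o ∧ o \ t = u := by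
  classical
  rw [sext, Finset.mem_insert, Finset.mem_image]
  apply or_congr_right
  constructor
  · rintro ⟨o, ho, h⟩
    rw [Finset.mem_filter, CfsgLib.Steiner.mem_bl] at ho
    exact ⟨o, ho.1, ho.2, h⟩
  · rintro ⟨o, ho, h1, h⟩
    exact ⟨o, by rw [Finset.mem_filter, CfsgLib.Steiner.mem_bl]; exact ⟨ho, h1⟩, h⟩

theorem card_octads_four {t : Finset GolayPt} (ht : t.card = 4) :
    ((CfsgLib.Steiner.bl octads).filter fun o => t ⊆ o).card = 5 := by
  rw [CfsgLib.Steiner.card_containing steiner t (by omega) (by norm_num), ht]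
  decide

theorem sdiff_inj {t o o' : Finset GolayPt} (h : t ⊆ o) (h' : t ⊆ o') (he : o \ t = o' \ t) : o = o' := by
  rw [← Finset.sdiff_union_of_subset h, he, Finset.sdiff_union_of_subset h']

theorem card_sext {t : Finset GolayPt} (ht : t.card = 4) : (sext t).card = 6 := by
  classical
  rw [sext, Finset.card_insert_of_notMem, Finset.card_image_of_injOn, card_octads_four ht]
  · intro o ho o' ho' he
    rw [Finset.mem_coe, Finset.mem_filter] at ho ho'
    exact sdiff_inj ho.2 ho'.2 he
  · rw [Finset.mem_image]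
    rintro ⟨o, ho, he⟩
    obtain ⟨x, hx⟩ : t.Nonempty := by rw [← Finset.card_pos]; omega
    have h3 : x ∈ o \ t := by rw [he]; exact hx
    exact (Finset.mem_sdiff.mp h3).2 hx

theorem sext_card_four {t : Finset GolayPt} (ht : t.card = 4) {u : Finset GolayPt} (hu : u ∈ sext t) : u.card = 4 := by
  rw [mem_sext] at hu
  rcases hu with rfl | ⟨o, ho, hto, rfl⟩
  · exact ht
  · rw [Finset.card_sdiff_of_subset hto, ht, ho.2]

theorem sext_union {t : Finset GolayPt} (ht : t.card = 4) {u v : Finset GolayPt} (hu : u ∈ sext t) (hv : v ∈ sext t)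
    (huv : u ≠ v) : u ∪ v ∈ octads := by
  rw [mem_sext] at hu hv
  rcases hu with rfl | ⟨o, ho, hto, rfl⟩
  · rcases hv with rfl | ⟨o, ho, hto, rfl⟩
    · exact absurd rfl huv
    · rw [Finset.union_sdiff_of_subset hto]; exact ho
  · rcases hv with rfl | ⟨o', ho', hto', rfl⟩
    · rw [Finset.sdiff_union_of_subset hto]; exact ho
    · have hoo : o ≠ o' := fun h => huv (by rw [h])
      have h1 : 4 ≤ (o ∩ o').card := by
        rw [← ht]; exact Finset.card_le_card (Finset.subset_inter hto hto')
      have h2 : (o ∩ o').card = 4 := by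
        rcases octad_inter_octad ho ho' hoo with h | h | h <;> omega
      have h3 : o ∩ o' = t := (Finset.eq_of_subset_of_card_le (Finset.subset_inter hto hto') (by omega)).symm
      have h4 : (o \ t) ∪ (o' \ t) = symmDiff o o' := by
        rw [← h3]; ext p; simp only [Finset.mem_union, Finset.mem_sdiff, Finset.mem_inter, Finset.mem_symmDiff]; tauto
      rw [h4]
      refine ⟨symmDiff_mem ho.1 ho'.1, ?_⟩
      have h5 := card_symmDiff' o o'
      have h6 : o.card = 8 := ho.2
      have h7 : o'.card = 8 := ho'.2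
      omega

theorem sext_mem {t : Finset GolayPt} (ht : t.card = 4) : sext t ∈ sextets :=
  ⟨card_sext ht, fun _ hu => sext_card_four ht hu, fun _ hu _ hv huv => sext_union ht hu hv huv⟩

theorem self_mem_sext (t : Finset GolayPt) : t ∈ sext t := mem_sext.mpr (Or.inl rfl)

theorem sextet_disjoint {S : Finset (Finset GolayPt)} (hS : S ∈ sextets) {t u : Finset GolayPt} (ht : t ∈ S)
    (hu : u ∈ S) (h : t ≠ u) : Disjoint t u := by
  have h1 : (t ∪ u).card = 8 := (hS.2.2 t ht u hu h).2
  have h2 := Finset.card_union_add_card_inter t u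
  rw [h1, hS.2.1 t ht, hS.2.1 u hu] at h2
  rw [Finset.disjoint_iff_inter_eq_empty, ← Finset.card_eq_zero]; omega

theorem sextet_eq_sext {S : Finset (Finset GolayPt)} (hS : S ∈ sextets) {t : Finset GolayPt} (ht : t ∈ S) :
    S = sext t := by
  have h4 := hS.2.1 t ht
  apply Finset.eq_of_subset_of_card_le
  · intro u hu
    rw [mem_sext]
    by_cases h : u = t
    · exact Or.inl h
    · right
      refine ⟨t ∪ u, hS.2.2 t ht u hu (Ne.symm h), Finset.subset_union_left, ?_⟩
      rw [Finset.union_sdiff_left]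
      exact Finset.sdiff_eq_self_of_disjoint (sextet_disjoint hS hu ht h)
  · rw [card_sext h4, hS.1]

theorem existsUnique_sextet {t : Finset GolayPt} (ht : t.card = 4) :
    ∃! S : Finset (Finset GolayPt), S ∈ sextets ∧ t ∈ S := by
  refine ⟨sext t, ⟨sext_mem ht, self_mem_sext t⟩, ?_⟩
  rintro S ⟨hS, htS⟩
  exact sextet_eq_sext hS htS

theorem ncard_sextets : sextets.ncard = 1771 := by
  classical
  have hfin : sextets.Finite := Set.toFinite _
  have h1 : (Finset.powersetCard 4 (Finset.univ : Finset GolayPt)) = hfin.toFinset.biUnion id := by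
    ext t
    simp only [Finset.mem_powersetCard, Finset.subset_univ, true_and, Finset.mem_biUnion, Set.Finite.mem_toFinset, id]
    constructor
    · intro ht; exact ⟨sext t, sext_mem ht, self_mem_sext t⟩
    · rintro ⟨S, hS, ht⟩; exact hS.2.1 t ht
  have h2 := congrArg Finset.card h1
  rw [Finset.card_powersetCard, Finset.card_biUnion, Finset.sum_congr rfl (g := fun _ => 6), Finset.sum_const] at h2
  · rw [Set.ncard_eq_toFinset_card _ hfin]
    have h3 : (Finset.univ : Finset GolayPt).card.choose 4 = 10626 := by decide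
    rw [h3, smul_eq_mul] at h2
    omega
  · intro S hS
    rw [Set.Finite.mem_toFinset] at hS
    exact hS.1
  · intro S hS S' hS' hne
    rw [Finset.mem_coe, Set.Finite.mem_toFinset] at hS hS'
    rw [Function.onFun, Finset.disjoint_left]
    intro t ht ht'
    exact hne ((sextet_eq_sext hS ht).trans (sextet_eq_sext hS' ht').symm)

theorem smul_sdiff' (g : Equiv.Perm GolayPt) (s t : Finset GolayPt) : g • (s \ t) = g • s \ g • t :=
  Finset.smul_finset_sdiff

theorem smul_union' (g : Equiv.Perm GolayPt) (s t : Finset GolayPt) : g • (s ∪ t) = g • s ∪ g • t :=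
  Finset.smul_finset_union

theorem mem_smul_fam {g : Equiv.Perm GolayPt} {S : Finset (Finset GolayPt)} {t : Finset GolayPt} :
    g • t ∈ g • S ↔ t ∈ S := Finset.smul_mem_smul_finset_iff g

theorem smul_mem_sextets {g : Equiv.Perm GolayPt} (hg : g ∈ M24) {S : Finset (Finset GolayPt)} (hS : S ∈ sextets) :
    g • S ∈ sextets := by
  refine ⟨by rw [Finset.card_smul_finset, hS.1], ?_, ?_⟩
  · intro t ht
    rw [Finset.mem_smul_finset] at ht
    obtain ⟨u, hu, rfl⟩ := ht
    rw [card_smul']; exact hS.2.1 u hu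
  · intro t ht u hu htu
    rw [Finset.mem_smul_finset] at ht hu
    obtain ⟨t, ht, rfl⟩ := ht
    obtain ⟨u, hu, rfl⟩ := hu
    rw [← smul_union']
    exact (smul_mem_octads hg).mpr (hS.2.2 t ht u hu (fun h => htu (by rw [h])))

theorem smul_sext {g : Equiv.Perm GolayPt} (hg : g ∈ M24) {t : Finset GolayPt} (ht : t.card = 4) :
    g • sext t = sext (g • t) :=
  sextet_eq_sext (smul_mem_sextets hg (sext_mem ht)) (mem_smul_fam.mpr (self_mem_sext t))

theorem sextet_covers {S : Finset (Finset GolayPt)} (hS : S ∈ sextets) (p : GolayPt) : ∃ t ∈ S, p ∈ t := by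
  classical
  have h1 : (S.biUnion id).card = 24 := by
    rw [Finset.card_biUnion, Finset.sum_congr rfl (g := fun _ => 4), Finset.sum_const, hS.1]; · rfl
    · intro t ht; exact hS.2.1 t ht
    · intro t ht u hu h; exact sextet_disjoint hS ht hu h
  have h2 : S.biUnion id = Finset.univ := by
    rw [← Finset.card_eq_iff_eq_univ, h1]; rfl
  have : p ∈ S.biUnion id := by rw [h2]; exact Finset.mem_univ p
  rw [Finset.mem_biUnion] at this
  exact this

/-! ### Trios -/

theorem third_octad {o o' : Finset GolayPt} (ho : o ∈ octads) (ho' : o' ∈ octads) (h : Disjoint o o') :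
    (o ∪ o')ᶜ ∈ octads := by
  have h2 : Finset.univ = toFS 0xffffff := by
    ext q; rw [mem_toFS]; revert q; decide
  have h1 : (o ∪ o')ᶜ = symmDiff Finset.univ (symmDiff o o') := by
    ext p
    have h3 : p ∈ o → p ∉ o' := fun hp => Finset.disjoint_left.mp h hp
    simp only [Finset.mem_compl, Finset.mem_union, Finset.mem_symmDiff, Finset.mem_univ, true_and, not_true_eq_false,
      and_false, or_false]
    tauto
  refine ⟨?_, ?_⟩
  · rw [h1]; apply symmDiff_mem
    · rw [h2]; exact InC_ones.2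
    · exact symmDiff_mem ho.1 ho'.1
  · rw [Finset.card_compl, Finset.card_union_of_disjoint h, ho.2, ho'.2]; rfl

/-- number of octads disjoint from a given octad through a given outside point -/
theorem ncard_disjoint_through {o : Finset GolayPt} (ho : o ∈ octads) {z : GolayPt} (hz : z ∉ o) :
    {o' : Finset GolayPt | o' ∈ octads ∧ Disjoint o o' ∧ z ∈ o'}.ncard = 15 := by
  obtain ⟨l, hl, h6, hlo⟩ := exists_list_of_le_card (s := o) (n := 6) (by rw [ho.2]; norm_num)
  obtain ⟨g, hg, hgo, _, hgz⟩ := frame_list ho hl h6 hlo hz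
  rw [ncard_transfer g _ (fun o' => o' ∈ octads ∧ Disjoint O0 o' ∧ pt 5 ∈ o')]
  · apply count_code (fun m => and (Nat.beq (pop m) 8) (and (Nat.beq (pop (Nat.land 5279 m)) 0) (Nat.testBit m 5))) _
      (by decide +kernel)
    intro s
    rw [octads_iff', Bool.and_eq_true, Bool.and_eq_true, and_assoc, mem_pt_iff (by norm_num),
      Finset.disjoint_iff_inter_eq_empty, ← Finset.card_eq_zero, O0, inter_card_eq (by norm_num), Nat.beq_eq, Nat.beq_eq]
  · intro s
    rw [smul_mem_octads hg, ← hgo, ← hgz, mem_smul_iff, Finset.disjoint_iff_inter_eq_empty,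
      Finset.disjoint_iff_inter_eq_empty, ← smul_inter', Finset.smul_finset_eq_empty]

theorem trio_eq {T : Finset (Finset GolayPt)} (hT : T ∈ trios) {o o' : Finset GolayPt} (ho : o ∈ T) (ho' : o' ∈ T)
    (h : o ≠ o') : T = {o, o', (o ∪ o')ᶜ} := by
  obtain ⟨o'', h1, h2, h3⟩ : ∃ o'' ∈ T, o'' ≠ o ∧ o'' ≠ o' := by
    have : ((T.erase o).erase o').Nonempty := by
      rw [← Finset.card_pos, Finset.card_erase_of_mem (Finset.mem_erase.mpr ⟨h.symm, ho'⟩),
        Finset.card_erase_of_mem ho, hT.1]; norm_num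
    obtain ⟨x, hx⟩ := this
    rw [Finset.mem_erase, Finset.mem_erase] at hx
    exact ⟨x, hx.2.2, hx.2.1, hx.1⟩
  have h4 : o'' = (o ∪ o')ᶜ := by
    apply Finset.eq_of_subset_of_card_le
    · intro p hp
      rw [Finset.mem_compl, Finset.mem_union]
      rintro (hc | hc)
      · exact Finset.disjoint_left.mp (hT.2.2 _ h1 _ ho h2) hp hc
      · exact Finset.disjoint_left.mp (hT.2.2 _ h1 _ ho' h3) hp hc
    · rw [(third_octad (hT.2.1 o ho) (hT.2.1 o' ho') (hT.2.2 _ ho _ ho' h)).2, (hT.2.1 _ h1).2]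
  symm
  apply Finset.eq_of_subset_of_card_le
  · intro x hx
    simp only [Finset.mem_insert, Finset.mem_singleton] at hx
    rcases hx with rfl | rfl | rfl
    · exact ho
    · exact ho'
    · rw [← h4]; exact h1
  · rw [hT.1, ← h4, Finset.card_eq_three.mpr ⟨o, o', o'', h, h2.symm, h3.symm, rfl⟩]

theorem mem_trios_of {o o' : Finset GolayPt} (ho : o ∈ octads) (ho' : o' ∈ octads) (h : Disjoint o o') :
    ({o, o', (o ∪ o')ᶜ} : Finset (Finset GolayPt)) ∈ trios := by
  have hne : ∀ a b : Finset GolayPt, a ∈ octads → Disjoint a b → a ≠ b := by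
    rintro a _ ha hd rfl
    have h8 : a.card = 8 := ha.2
    rw [disjoint_self, Finset.bot_eq_empty] at hd
    rw [hd] at h8; simp at h8
  have d1 : Disjoint o (o ∪ o')ᶜ := by
    rw [Finset.disjoint_left]; intro p hp hc
    rw [Finset.mem_compl, Finset.mem_union] at hc; tauto
  have d2 : Disjoint o' (o ∪ o')ᶜ := by
    rw [Finset.disjoint_left]; intro p hp hc
    rw [Finset.mem_compl, Finset.mem_union] at hc; tauto
  refine ⟨Finset.card_eq_three.mpr ⟨_, _, _, hne _ _ ho h, hne _ _ ho d1, hne _ _ ho' d2, rfl⟩, ?_, ?_⟩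
  · intro x hx
    simp only [Finset.mem_insert, Finset.mem_singleton] at hx
    rcases hx with rfl | rfl | rfl
    · exact ho
    · exact ho'
    · exact third_octad ho ho' h
  · intro x hx y hy hxy
    simp only [Finset.mem_insert, Finset.mem_singleton] at hx hy
    rcases hx with rfl | rfl | rfl <;> rcases hy with rfl | rfl | rfl
    · exact absurd rfl hxy
    · exact h
    · exact d1
    · exact h.symm
    · exact absurd rfl hxy
    · exact d2
    · exact d1.symm
    · exact d2.symm
    · exact absurd rfl hxy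

theorem trio_covers {T : Finset (Finset GolayPt)} (hT : T ∈ trios) (p : GolayPt) : ∃ t ∈ T, p ∈ t := by
  classical
  have h1 : (T.biUnion id).card = 24 := by
    rw [Finset.card_biUnion, Finset.sum_congr rfl (g := fun _ => 8), Finset.sum_const, hT.1]; · rfl
    · intro t ht; exact (hT.2.1 t ht).2
    · intro t ht u hu h; exact hT.2.2 t ht u hu h
  have h2 : T.biUnion id = Finset.univ := by
    rw [← Finset.card_eq_iff_eq_univ, h1]; rfl
  have : p ∈ T.biUnion id := by rw [h2]; exact Finset.mem_univ p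
  rw [Finset.mem_biUnion] at this
  exact this

theorem ncard_trios_through {o : Finset GolayPt} (ho : o ∈ octads) : {T | T ∈ trios ∧ o ∈ T}.ncard = 15 := by
  obtain ⟨z, hz⟩ := exists_not_mem_octad ho
  rw [← ncard_disjoint_through ho hz]
  symm
  have h1 : {T | T ∈ trios ∧ o ∈ T} = (fun o' => ({o, o', (o ∪ o')ᶜ} : Finset (Finset GolayPt))) ''
      {o' : Finset GolayPt | o' ∈ octads ∧ Disjoint o o' ∧ z ∈ o'} := by
    ext T
    constructor
    · rintro ⟨hT, hoT⟩
      obtain ⟨o', ho', hzo'⟩ := trio_covers hT z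
      have hne : o ≠ o' := by rintro rfl; exact hz hzo'
      exact ⟨o', ⟨hT.2.1 o' ho', hT.2.2 o hoT o' ho' hne, hzo'⟩, (trio_eq hT hoT ho' hne).symm⟩
    · rintro ⟨o', ⟨h1, h2, h3⟩, rfl⟩
      exact ⟨mem_trios_of ho h1 h2, by simp⟩
  rw [h1, Set.ncard_image_of_injOn]
  rintro a ⟨ha, ha2, ha3⟩ b ⟨hb, hb2, hb3⟩ hab
  have hab' : ({o, a, (o ∪ a)ᶜ} : Finset (Finset GolayPt)) = {o, b, (o ∪ b)ᶜ} := hab
  have h2 : a ∈ ({o, b, (o ∪ b)ᶜ} : Finset (Finset GolayPt)) := by rw [← hab']; simp
  simp only [Finset.mem_insert, Finset.mem_singleton] at h2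
  rcases h2 with h2 | h2 | h2
  · rw [h2] at ha3; exact absurd ha3 hz
  · exact h2
  · rw [h2, Finset.mem_compl, Finset.mem_union] at ha3
    exact absurd (Or.inr hb3) ha3

theorem ncard_octads_through (p : GolayPt) : {o : Finset GolayPt | o ∈ octads ∧ p ∈ o}.ncard = 253 := by
  obtain ⟨g, hg, hgl⟩ := trans_list (l := [p]) (l' := [pt 0]) (by simp) (by simp) rfl (by simp)
  simp only [List.map_cons, List.map_nil, List.cons.injEq, and_true] at hgl
  rw [ncard_transfer g _ (fun o' => o' ∈ octads ∧ pt 0 ∈ o')]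
  · apply count_code (fun m => and (Nat.beq (pop m) 8) (Nat.testBit m 0)) _ (by decide +kernel)
    intro s
    rw [octads_iff', Bool.and_eq_true, and_assoc, mem_pt_iff (by norm_num)]
  · intro s
    rw [smul_mem_octads hg, ← hgl, mem_smul_iff]

theorem ncard_trios : trios.ncard = 3795 := by
  classical
  have hfin : ({o : Finset GolayPt | o ∈ octads ∧ pt 0 ∈ o}).Finite := Set.toFinite _
  have h1 : trios = (hfin.toFinset.biUnion fun o => (Set.toFinite {T | T ∈ trios ∧ o ∈ T}).toFinset :
      Finset (Finset (Finset GolayPt))) := by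
    ext T
    simp only [Finset.coe_biUnion, Set.mem_iUnion, Finset.mem_coe, Set.Finite.mem_toFinset, Set.mem_setOf_eq,
      exists_prop]
    constructor
    · intro hT
      obtain ⟨o, ho, hp⟩ := trio_covers hT (pt 0)
      exact ⟨o, ⟨hT.2.1 o ho, hp⟩, hT, ho⟩
    · rintro ⟨o, _, hT, _⟩; exact hT
  rw [h1, Set.ncard_coe_finset, Finset.card_biUnion, Finset.sum_congr rfl (g := fun _ => 15), Finset.sum_const]
  · rw [← Set.ncard_eq_toFinset_card _ hfin, ncard_octads_through]; rfl
  · intro o ho
    rw [Set.Finite.mem_toFinset] at ho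
    rw [← Set.ncard_eq_toFinset_card _ (Set.toFinite _)]
    exact ncard_trios_through ho.1
  · intro o ho o' ho' hne
    rw [Finset.mem_coe, Set.Finite.mem_toFinset] at ho ho'
    rw [Function.onFun, Finset.disjoint_left]
    intro T hT hT'
    rw [Set.Finite.mem_toFinset] at hT hT'
    exact Finset.disjoint_left.mp (hT.1.2.2 o hT.2 o' hT'.2 hne) ho.2 ho'.2

end CfsgLib.Golay
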