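import Mathlib
import Cfsg.Agent.Lib.GolaySext

/-!
Orbits of a sextet stabilizer on sextets.
-/

set_option autoImplicit false

namespace CfsgLib.Golay

open Cfsg
open scoped Pointwise

/-- number of pairs of tetrads meeting in `k` points -/
def nInt (k : ℕ) (X S : Finset (Finset GolayPt)) : ℕ := ∑ u ∈ X, ∑ t ∈ S, if (u ∩ t).card = k then 1 else 0

theorem nInt_smul (g : Equiv.Perm GolayPt) (k : ℕ) (X S : Finset (Finset GolayPt)) :
    nInt k (g • X) (g • S) = nInt k X S := by
  have h1 : ∀ (Y : Finset (Finset GolayPt)) (f : Finset GolayPt → ℕ), ∑ u ∈ g • Y, f u = ∑ u ∈ Y, f (g • u) := by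
    intro Y f
    have : g • Y = Y.image (fun u => g • u) := rfl
    rw [this, Finset.sum_image]
    intro a _ b _ hab
    exact (MulAction.injective g) hab
  rw [nInt, h1, nInt]
  apply Finset.sum_congr rfl
  intro u _
  rw [h1]
  apply Finset.sum_congr rfl
  intro t _
  rw [← smul_inter', card_smul']

/-- the base sextet -/
noncomputable def S0 : Finset (Finset GolayPt) := sext (toFS 15)

theorem toFS_card_four (m : ℕ) (hm : m < 2 ^ 24) (h : pop m = 4) : (toFS m).card = 4 := by
  rw [card_toFS hm, h]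

/-- explicit sextets -/
def chkSext (l : List ℕ) : Bool :=
  and (Nat.beq l.length 6) (and (l.all fun m => and (Nat.blt m (2 ^ 24)) (Nat.beq (pop m) 4))
    (l.all fun m => l.all fun n => or (Nat.beq m n) (and (isCode (Nat.lor m n)) (Nat.beq (pop (Nat.lor m n)) 8))))

theorem chkSext_spec {l : List ℕ} (h : chkSext l = true) (hnd : l.Nodup) : (l.map toFS).toFinset ∈ sextets := by
  rw [chkSext, Bool.and_eq_true, Bool.and_eq_true, List.all_eq_true, List.all_eq_true] at h
  obtain ⟨h1, h2, h3⟩ := h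
  have h1' : l.length = 6 := Nat.eq_of_beq_eq_true h1
  have h24 : ∀ m ∈ l, m < 2 ^ 24 := fun m hm => by
    have := h2 m hm
    rw [Bool.and_eq_true] at this
    exact Nat.le_of_ble_eq_true this.1
  have hinj : ∀ m ∈ l, ∀ n ∈ l, toFS m = toFS n → m = n := fun m hm n hn h => toFS_inj (h24 m hm) (h24 n hn) h
  refine ⟨?_, ?_, ?_⟩
  · rw [List.toFinset_card_of_nodup (List.Nodup.map_on (fun m hm n hn => hinj m hm n hn) hnd), List.length_map, h1']
  · intro t ht
    rw [List.mem_toFinset, List.mem_map] at ht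
    obtain ⟨m, hm, rfl⟩ := ht
    have := h2 m hm
    rw [Bool.and_eq_true] at this
    exact toFS_card_four m (h24 m hm) (Nat.eq_of_beq_eq_true this.2)
  · intro t ht u hu htu
    rw [List.mem_toFinset, List.mem_map] at ht hu
    obtain ⟨m, hm, rfl⟩ := ht
    obtain ⟨n, hn, rfl⟩ := hu
    have h4 := h3 m hm
    rw [List.all_eq_true] at h4
    have h5 := h4 n hn
    rw [Bool.or_eq_true, Bool.and_eq_true] at h5
    rcases h5 with h5 | ⟨h5, h6⟩
    · exact absurd (by rw [Nat.eq_of_beq_eq_true h5]) htu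
    · rw [← toFS_lor, mem_octads_iff, mask_toFS (Nat.or_lt_two_pow (h24 m hm) (h24 n hn))]
      exact ⟨h5, Nat.eq_of_beq_eq_true h6⟩

def lS : List ℕ := [0xf, 0x342000, 0x824020, 0x98100, 0x1490, 0x400a40]
def lA : List ℕ := [0x17, 0xc12000, 0x104140, 0xc0220, 0x1488, 0x228800]
def lB : List ℕ := [0x93, 0xb4000, 0x808120, 0x700200, 0x140c, 0x42840]
def lC : List ℕ := [0x33, 0x210048, 0x808180, 0xc0204, 0x122400, 0x405800]

theorem sext_explicit {l : List ℕ} (h : chkSext l = true) (hnd : l.Nodup) {m : ℕ} (hm : m ∈ l) :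
    sext (toFS m) = (l.map toFS).toFinset :=
  (sextet_eq_sext (chkSext_spec h hnd) (by rw [List.mem_toFinset]; exact List.mem_map_of_mem hm)).symm

theorem nInt_explicit {l l' : List ℕ} (h : chkSext l = true) (h' : chkSext l' = true) (hnd : l.Nodup) (hnd' : l'.Nodup)
    (k n : ℕ) (hn : (l.map fun a => (l'.map fun b => cond (Nat.beq (pop (Nat.land a b)) k) 1 0).sum).sum = n) :
    nInt k (l.map toFS).toFinset (l'.map toFS).toFinset = n := by
  have g : ∀ l : List ℕ, chkSext l = true → l.Nodup → (∀ a ∈ l, a < 2 ^ 24) ∧ (l.map toFS).Nodup := by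
    intro l h hnd
    rw [chkSext, Bool.and_eq_true, Bool.and_eq_true, List.all_eq_true, List.all_eq_true] at h
    have h24 : ∀ m ∈ l, m < 2 ^ 24 := fun m hm => by
      have := h.2.1 m hm
      rw [Bool.and_eq_true] at this
      exact Nat.le_of_ble_eq_true this.1
    exact ⟨h24, List.Nodup.map_on (fun m hm n hn h => toFS_inj (h24 m hm) (h24 n hn) h) hnd⟩
  obtain ⟨g1, g2⟩ := g l h hnd
  obtain ⟨g3, g4⟩ := g l' h' hnd'
  rw [nInt, List.sum_toFinset _ g2, ← hn, List.map_map]
  congr 1
  apply List.map_congr_left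
  intro a ha
  show ∑ t ∈ (l'.map toFS).toFinset, (if (toFS a ∩ t).card = k then 1 else 0) = _
  rw [List.sum_toFinset _ g4, List.map_map]
  congr 1
  apply List.map_congr_left
  intro b hb
  show (if (toFS a ∩ toFS b).card = k then 1 else 0) = _
  have h3 : (toFS a ∩ toFS b).card = pop (Nat.land a b) := by
    rw [← toFS_land, card_toFS (lt_of_le_of_lt Nat.and_le_left (g1 a ha))]; rfl
  rw [h3]
  by_cases h4 : pop (Nat.land a b) = k
  · rw [if_pos h4, h4, Nat.beq_refl]; rfl
  · rw [if_neg h4]
    have : Nat.beq (pop (Nat.land a b)) k = false := by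
      rw [← Bool.not_eq_true]; exact fun h => h4 (Nat.eq_of_beq_eq_true h)
    rw [this]; rfl

theorem S0_eq : S0 = (lS.map toFS).toFinset := sext_explicit (by decide +kernel) (by decide) (by decide)
theorem A_eq : sext (toFS 0x17) = (lA.map toFS).toFinset := sext_explicit (by decide +kernel) (by decide) (by decide)
theorem B_eq : sext (toFS 0x93) = (lB.map toFS).toFinset := sext_explicit (by decide +kernel) (by decide) (by decide)
theorem C_eq : sext (toFS 0x33) = (lC.map toFS).toFinset := sext_explicit (by decide +kernel) (by decide) (by decide)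

theorem n3S : nInt 3 S0 S0 = 0 ∧ nInt 2 S0 S0 = 0 := by
  rw [S0_eq]
  exact ⟨nInt_explicit (by decide +kernel) (by decide +kernel) (by decide) (by decide) _ _ (by decide +kernel),
    nInt_explicit (by decide +kernel) (by decide +kernel) (by decide) (by decide) _ _ (by decide +kernel)⟩
theorem n3A : nInt 3 (sext (toFS 0x17)) S0 = 2 ∧ nInt 2 (sext (toFS 0x17)) S0 = 0 := by
  rw [S0_eq, A_eq]
  exact ⟨nInt_explicit (by decide +kernel) (by decide +kernel) (by decide) (by decide) _ _ (by decide +kernel),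
    nInt_explicit (by decide +kernel) (by decide +kernel) (by decide) (by decide) _ _ (by decide +kernel)⟩
theorem n3B : nInt 3 (sext (toFS 0x93)) S0 = 0 ∧ nInt 2 (sext (toFS 0x93)) S0 = 12 := by
  rw [S0_eq, B_eq]
  exact ⟨nInt_explicit (by decide +kernel) (by decide +kernel) (by decide) (by decide) _ _ (by decide +kernel),
    nInt_explicit (by decide +kernel) (by decide +kernel) (by decide) (by decide) _ _ (by decide +kernel)⟩
theorem n3C : nInt 3 (sext (toFS 0x33)) S0 = 0 ∧ nInt 2 (sext (toFS 0x33)) S0 = 4 := by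
  rw [S0_eq, C_eq]
  exact ⟨nInt_explicit (by decide +kernel) (by decide +kernel) (by decide) (by decide) _ _ (by decide +kernel),
    nInt_explicit (by decide +kernel) (by decide +kernel) (by decide) (by decide) _ _ (by decide +kernel)⟩

theorem exists_two {S X : Finset (Finset GolayPt)} (hS : S ∈ sextets) (hX : X ∈ sextets) :
    ∃ v ∈ X, ∃ t ∈ S, 2 ≤ (v ∩ t).card := by
  classical
  by_contra hc
  push Not at hc
  obtain ⟨t, ht⟩ : S.Nonempty := by rw [← Finset.card_pos, hS.1]; norm_num
  obtain ⟨y, hy⟩ : t.Nonempty := by rw [← Finset.card_pos, hS.2.1 t ht]; norm_num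
  obtain ⟨v, hv, hyv⟩ := sextet_covers hX y
  -- `v` meets every `t'`
  have key : ∀ t' ∈ S, (v ∩ t').Nonempty := by
    intro t' ht'
    by_cases htt : t = t'
    · rw [← htt]; exact ⟨y, Finset.mem_inter.mpr ⟨hyv, hy⟩⟩
    · have ho := hS.2.2 t ht t' ht' htt
      have hd := sextet_disjoint hS ht ht' htt
      have hsplit : ∀ u ∈ X, (u ∩ (t ∪ t')).card = (u ∩ t).card + (u ∩ t').card := by
        intro u _
        rw [Finset.inter_union_distrib_left, Finset.card_union_of_disjoint]
        exact Finset.disjoint_of_subset_left Finset.inter_subset_right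
          (Finset.disjoint_of_subset_right Finset.inter_subset_right hd)
      have hsum : ∑ u ∈ X, (u ∩ (t ∪ t')).card = 8 := by
        rw [← ho.2, ← Finset.card_biUnion]
        · congr 1
          ext p
          simp only [Finset.mem_biUnion, Finset.mem_inter]
          constructor
          · rintro ⟨u, _, _, h⟩; exact h
          · intro h
            obtain ⟨u, hu, hpu⟩ := sextet_covers hX p
            exact ⟨u, hu, hpu, h⟩
        · intro u hu u' hu' huu
          exact Finset.disjoint_of_subset_left Finset.inter_subset_left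
            (Finset.disjoint_of_subset_right Finset.inter_subset_left (sextet_disjoint hX hu hu' huu))
      have hpar : ∀ u ∈ X, u ≠ v → ((u ∩ (t ∪ t')).card + (v ∩ (t ∪ t')).card) % 2 = 0 := by
        intro u hu huv
        have h1 := hX.2.2 u hu v hv huv
        have h2 : ((u ∪ v) ∩ (t ∪ t')).card = (u ∩ (t ∪ t')).card + (v ∩ (t ∪ t')).card := by
          rw [Finset.union_inter_distrib_right, Finset.card_union_of_disjoint]
          exact Finset.disjoint_of_subset_left Finset.inter_subset_left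
            (Finset.disjoint_of_subset_right Finset.inter_subset_left (sextet_disjoint hX hu hv huv))
        rw [← h2]
        have h3 := CfsgLib.Steiner.even_inter_5_8_24 (by decide) steiner h1 ho
        exact Nat.even_iff.mp h3
      by_contra hne
      rw [Finset.not_nonempty_iff_eq_empty] at hne
      have hv1 : (v ∩ (t ∪ t')).card = 1 := by
        rw [hsplit v hv, hne, Finset.card_empty, add_zero]
        have h1 := hc v hv t ht
        have h2 : 0 < (v ∩ t).card := Finset.card_pos.mpr ⟨y, Finset.mem_inter.mpr ⟨hyv, hy⟩⟩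
        omega
      have hall : ∀ u ∈ X, (u ∩ (t ∪ t')).card = 1 := by
        intro u hu
        by_cases huv : u = v
        · rw [huv]; exact hv1
        · have h1 := hpar u hu huv
          have h2 := hc u hu t ht
          have h3 := hc u hu t' ht'
          have h4 := hsplit u hu
          omega
      rw [Finset.sum_congr rfl hall, Finset.sum_const, hX.1] at hsum
      simp at hsum
  have h1 : (S.biUnion fun t' => v ∩ t').card ≤ 4 := by
    rw [← hX.2.1 v hv]
    apply Finset.card_le_card
    intro p hp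
    rw [Finset.mem_biUnion] at hp
    obtain ⟨t', _, hp⟩ := hp
    exact (Finset.mem_inter.mp hp).1
  rw [Finset.card_biUnion] at h1
  · have h2 : ∑ _t' ∈ S, 1 ≤ ∑ t' ∈ S, (v ∩ t').card :=
      Finset.sum_le_sum fun t' ht' => Finset.card_pos.mpr (key t' ht')
    rw [Finset.sum_const, hS.1] at h2
    simp at h2
    omega
  · intro a ha b hb hab
    exact Finset.disjoint_of_subset_left Finset.inter_subset_right
      (Finset.disjoint_of_subset_right Finset.inter_subset_right (sextet_disjoint hS ha hb hab))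

theorem toFS15 : toFS 15 = {pt 0, pt 1, pt 2, pt 3} := by decide +kernel
theorem toFS17 : toFS 0x17 = {pt 0, pt 1, pt 2, pt 4} := by decide +kernel
theorem toFS93 : toFS 0x93 = {pt 0, pt 1, pt 4, pt 7} := by decide +kernel
theorem toFS33 : toFS 0x33 = {pt 0, pt 1, pt 4, pt 5} := by decide +kernel

theorem smul_four (g : Equiv.Perm GolayPt) (a b c d : GolayPt) :
    g • ({a, b, c, d} : Finset GolayPt) = {g a, g b, g c, g d} := by
  rw [Finset.smul_finset_insert, Finset.smul_finset_insert, Finset.smul_finset_insert, Finset.smul_finset_singleton]; rfl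

/-- normal forms for pairs of sextets -/
theorem sextet_pair {S X : Finset (Finset GolayPt)} (hS : S ∈ sextets) (hX : X ∈ sextets) (hne : X ≠ S) :
    ∃ g ∈ M24, g • S = S0 ∧ (g • X = sext (toFS 0x17) ∨ g • X = sext (toFS 0x93) ∨ g • X = sext (toFS 0x33)) := by
  obtain ⟨v, hv, t, ht, h2⟩ := exists_two hS hX
  have hvc := hX.2.1 v hv
  have htc := hS.2.1 t ht
  have hXv := sextet_eq_sext hX hv
  have hSt := sextet_eq_sext hS ht
  have h4 : (v ∩ t).card ≤ 4 := by rw [← hvc]; exact Finset.card_le_card Finset.inter_subset_left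
  have k1 := Finset.card_sdiff_add_card_inter v t
  have k2 := Finset.card_sdiff_add_card_inter t v
  rw [Finset.inter_comm] at k2
  have hcases : (v ∩ t).card = 4 ∨ (v ∩ t).card = 3 ∨ (v ∩ t).card = 2 := by omega
  rcases hcases with h | h | h
  · exfalso
    have e1 : v ∩ t = v := Finset.eq_of_subset_of_card_le Finset.inter_subset_left (by rw [h, hvc])
    have e2 : v ∩ t = t := Finset.eq_of_subset_of_card_le Finset.inter_subset_right (by rw [h, htc])
    apply hne
    rw [hXv, hSt, ← e1, e2]
  · obtain ⟨a, b, c, hab, hac, hbc, he⟩ := Finset.card_eq_three.mp h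
    obtain ⟨d, hd⟩ := Finset.card_eq_one.mp (show (t \ v).card = 1 by omega)
    obtain ⟨e, hee⟩ := Finset.card_eq_one.mp (show (v \ t).card = 1 by omega)
    have hte : t = {a, b, c, d} := by
      rw [← Finset.sdiff_union_inter t v, Finset.inter_comm, hd, he, Finset.union_comm]; simp only [Finset.insert_union, Finset.singleton_union]
    have hve : v = {a, b, c, e} := by
      rw [← Finset.sdiff_union_inter v t, hee, he, Finset.union_comm]; simp only [Finset.insert_union, Finset.singleton_union]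
    have md : d ∈ t ∧ d ∉ v := Finset.mem_sdiff.mp (by rw [hd]; simp)
    have me : e ∈ v ∧ e ∉ t := Finset.mem_sdiff.mp (by rw [hee]; simp)
    rw [hte, hve] at md me
    simp only [Finset.mem_insert, Finset.mem_singleton, not_or] at md me
    have hnd : [a, b, c, d, e].Nodup := by
      simp only [List.nodup_cons, List.mem_cons, List.not_mem_nil, or_false, not_or, List.nodup_nil, and_true,
        not_false_eq_true]
      refine ⟨⟨hab, hac, Ne.symm md.2.1, Ne.symm me.2.1⟩, ⟨hbc, Ne.symm md.2.2.1, Ne.symm me.2.2.1⟩,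
        ⟨Ne.symm md.2.2.2.1, Ne.symm me.2.2.2.1⟩, ?_⟩
      exact Ne.symm me.2.2.2.2
    obtain ⟨g, hg, hgl⟩ := trans_list hnd (l' := [pt 0, pt 1, pt 2, pt 3, pt 4]) (by decide) rfl (by simp)
    simp only [List.map_cons, List.map_nil, List.cons.injEq, and_true] at hgl
    obtain ⟨e0, e1, e2, e3, e4⟩ := hgl
    refine ⟨g, hg, ?_, Or.inl ?_⟩
    · rw [hSt, smul_sext hg htc, hte, smul_four, e0, e1, e2, e3, S0, toFS15]
    · rw [hXv, smul_sext hg hvc, hve, smul_four, e0, e1, e2, e4, toFS17]
  · obtain ⟨a, b, hab, he⟩ := Finset.card_eq_two.mp h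
    obtain ⟨c, d, hcd, hd⟩ := Finset.card_eq_two.mp (show (t \ v).card = 2 by omega)
    obtain ⟨e, f, hef, hee⟩ := Finset.card_eq_two.mp (show (v \ t).card = 2 by omega)
    have hte : t = {a, b, c, d} := by
      rw [← Finset.sdiff_union_inter t v, Finset.inter_comm, hd, he, Finset.union_comm]; simp only [Finset.insert_union, Finset.singleton_union]
    have hve : v = {a, b, e, f} := by
      rw [← Finset.sdiff_union_inter v t, hee, he, Finset.union_comm]; simp only [Finset.insert_union, Finset.singleton_union]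
    have ma : a ∈ v ∧ a ∈ t := Finset.mem_inter.mp (by rw [he]; simp)
    have mb : b ∈ v ∧ b ∈ t := Finset.mem_inter.mp (by rw [he]; simp)
    have mc : c ∈ t ∧ c ∉ v := Finset.mem_sdiff.mp (by rw [hd]; simp)
    have md : d ∈ t ∧ d ∉ v := Finset.mem_sdiff.mp (by rw [hd]; simp)
    have me : e ∈ v ∧ e ∉ t := Finset.mem_sdiff.mp (by rw [hee]; simp)
    have mf : f ∈ v ∧ f ∉ t := Finset.mem_sdiff.mp (by rw [hee]; simp)
    have hnd : [a, b, c, d, e, f].Nodup := by
      simp only [List.nodup_cons, List.mem_cons, List.not_mem_nil, or_false, not_or, List.nodup_nil, and_true,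
        not_false_eq_true]
      refine ⟨⟨hab, ?_, ?_, ?_, ?_⟩, ⟨?_, ?_, ?_, ?_⟩, ⟨hcd, ?_, ?_⟩, ⟨?_, ?_⟩, hef⟩
      · rintro rfl; exact mc.2 ma.1
      · rintro rfl; exact md.2 ma.1
      · rintro rfl; exact me.2 ma.2
      · rintro rfl; exact mf.2 ma.2
      · rintro rfl; exact mc.2 mb.1
      · rintro rfl; exact md.2 mb.1
      · rintro rfl; exact me.2 mb.2
      · rintro rfl; exact mf.2 mb.2
      · rintro rfl; exact me.2 mc.1
      · rintro rfl; exact mf.2 mc.1
      · rintro rfl; exact me.2 md.1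
      · rintro rfl; exact mf.2 md.1
    by_cases hin : ∃ o ∈ octads, ∀ p ∈ [a, b, c, d, e, f], p ∈ o
    · obtain ⟨o, ho, hlo⟩ := hin
      obtain ⟨g, hg, hgl, _⟩ := seven_trans_in hnd (l' := [pt 0, pt 1, pt 2, pt 3, pt 4, pt 7]) (by decide) rfl rfl ho
        O0_mem hlo (by decide +kernel)
      simp only [List.map_cons, List.map_nil, List.cons.injEq, and_true] at hgl
      obtain ⟨e0, e1, e2, e3, e4, e5⟩ := hgl
      refine ⟨g, hg, ?_, Or.inr (Or.inl ?_)⟩
      · rw [hSt, smul_sext hg htc, hte, smul_four, e0, e1, e2, e3, S0, toFS15]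
      · rw [hXv, smul_sext hg hvc, hve, smul_four, e0, e1, e4, e5, toFS93]
    · obtain ⟨g, hg, hgl⟩ := six_trans_out hnd (l' := [pt 0, pt 1, pt 2, pt 3, pt 4, pt 5]) (by decide) rfl rfl hin (by
        rintro ⟨o, ho, hlo⟩
        have h5 : o = O0 := eq_of_list ho O0_mem (l := [pt 0, pt 1, pt 2, pt 3, pt 4]) (by decide) rfl
          (fun p hp => hlo p (by simp at hp ⊢; tauto)) (by decide +kernel)
        have h6 := hlo (pt 5) (by simp)
        rw [h5] at h6
        revert h6; decide +kernel)
      simp only [List.map_cons, List.map_nil, List.cons.injEq, and_true] at hgl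
      obtain ⟨e0, e1, e2, e3, e4, e5⟩ := hgl
      refine ⟨g, hg, ?_, Or.inr (Or.inr ?_)⟩
      · rw [hSt, smul_sext hg htc, hte, smul_four, e0, e1, e2, e3, S0, toFS15]
      · rw [hXv, smul_sext hg hvc, hve, smul_four, e0, e1, e4, e5, toFS33]

/-- the class of a sextet relative to `S` -/
noncomputable def scls (S X : Finset (Finset GolayPt)) : ℕ := by
  classical
  exact if X = S then 0 else if nInt 3 X S = 2 then 1 else if nInt 2 X S = 12 then 2 else 3

theorem scls_spec {S X : Finset (Finset GolayPt)} (hS : S ∈ sextets) (hX : X ∈ sextets) :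
    (scls S X = 0 ∧ X = S ∧ nInt 3 X S = 0 ∧ nInt 2 X S = 0) ∨
    (scls S X = 1 ∧ (nInt 3 X S = 2 ∧ nInt 2 X S = 0) ∧ ∃ g ∈ M24, g • S = S0 ∧ g • X = sext (toFS 0x17)) ∨
    (scls S X = 2 ∧ (nInt 3 X S = 0 ∧ nInt 2 X S = 12) ∧ ∃ g ∈ M24, g • S = S0 ∧ g • X = sext (toFS 0x93)) ∨
    (scls S X = 3 ∧ (nInt 3 X S = 0 ∧ nInt 2 X S = 4) ∧ ∃ g ∈ M24, g • S = S0 ∧ g • X = sext (toFS 0x33)) := by
  by_cases h : X = S
  · left
    obtain ⟨t, ht⟩ : S.Nonempty := by rw [← Finset.card_pos, hS.1]; norm_num
    obtain ⟨l, hl, hl4, hlt⟩ := exists_list_eq t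
    have htc := hS.2.1 t ht
    obtain ⟨g, hg, hgl⟩ := trans_list hl (l' := [pt 0, pt 1, pt 2, pt 3]) (by decide) (by rw [hl4, htc]; rfl) (by omega)
    have hgt : g • t = toFS 15 := smul_of_list hl (fun p hp => (hlt p).mp hp) hl4.symm hgl (by decide +kernel) (by
      rw [hl4, htc]; decide +kernel)
    have hgS : g • S = S0 := by rw [sextet_eq_sext hS ht, smul_sext hg htc, hgt]; rfl
    refine ⟨by rw [scls, if_pos h], h, ?_, ?_⟩
    · rw [h, ← nInt_smul g, hgS]; exact n3S.1
    · rw [h, ← nInt_smul g, hgS]; exact n3S.2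
  · right
    obtain ⟨g, hg, h1, h2 | h2 | h2⟩ := sextet_pair hS hX h
    · left
      have e3 : nInt 3 X S = 2 := by rw [← nInt_smul g, h1, h2]; exact n3A.1
      have e2 : nInt 2 X S = 0 := by rw [← nInt_smul g, h1, h2]; exact n3A.2
      refine ⟨by rw [scls, if_neg h, if_pos e3], ⟨e3, e2⟩, g, hg, h1, h2⟩
    · right; left
      have e3 : nInt 3 X S = 0 := by rw [← nInt_smul g, h1, h2]; exact n3B.1
      have e2 : nInt 2 X S = 12 := by rw [← nInt_smul g, h1, h2]; exact n3B.2
      refine ⟨by rw [scls, if_neg h, if_neg (by omega), if_pos e2], ⟨e3, e2⟩, g, hg, h1, h2⟩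
    · right; right
      have e3 : nInt 3 X S = 0 := by rw [← nInt_smul g, h1, h2]; exact n3C.1
      have e2 : nInt 2 X S = 4 := by rw [← nInt_smul g, h1, h2]; exact n3C.2
      refine ⟨by rw [scls, if_neg h, if_neg (by omega), if_neg (by omega)], ⟨e3, e2⟩, g, hg, h1, h2⟩

/-- total counts -/
theorem sum_nInt {S : Finset (Finset GolayPt)} (hS : S ∈ sextets) (k : ℕ) (hk : k ≤ 4) :
    ∑ X ∈ (Set.toFinite sextets).toFinset, nInt k X S = 6 * (Nat.choose 4 k * Nat.choose 20 (4 - k)) := by
  classical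
  have h1 : ∑ X ∈ (Set.toFinite sextets).toFinset, nInt k X S =
      ∑ u ∈ Finset.powersetCard 4 (Finset.univ : Finset GolayPt), ∑ t ∈ S, if (u ∩ t).card = k then 1 else 0 := by
    have h2 : (Finset.powersetCard 4 (Finset.univ : Finset GolayPt)) = (Set.toFinite sextets).toFinset.biUnion id := by
      ext t
      simp only [Finset.mem_powersetCard, Finset.subset_univ, true_and, Finset.mem_biUnion, Set.Finite.mem_toFinset, id]
      constructor
      · intro ht; exact ⟨sext t, sext_mem ht, self_mem_sext t⟩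
      · rintro ⟨S, hS, ht⟩; exact hS.2.1 t ht
    rw [h2, Finset.sum_biUnion]
    · rfl
    · intro S hS S' hS' hne
      rw [Finset.mem_coe, Set.Finite.mem_toFinset] at hS hS'
      rw [Function.onFun, Finset.disjoint_left]
      intro t ht ht'
      exact hne ((sextet_eq_sext hS ht).trans (sextet_eq_sext hS' ht').symm)
  rw [h1, Finset.sum_comm, Finset.sum_congr rfl (g := fun _ => Nat.choose 4 k * Nat.choose 20 (4 - k)),
    Finset.sum_const, hS.1, smul_eq_mul]
  intro t ht
  rw [← Finset.card_filter]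
  have h3 := ncard_inter t 4 k hk
  rw [hS.2.1 t ht] at h3
  have h5 : 24 - 4 = 20 := rfl
  rw [h5] at h3
  rw [← h3, ← Set.ncard_coe_finset]
  congr 1
  ext u
  simp only [Finset.coe_filter, Finset.mem_powersetCard, Finset.subset_univ, true_and, Set.mem_setOf_eq]
  rw [Finset.inter_comm]

theorem class_counts {S : Finset (Finset GolayPt)} (hS : S ∈ sextets) :
    {X | X ∈ sextets ∧ scls S X = 0}.ncard = 1 ∧ {X | X ∈ sextets ∧ scls S X = 1}.ncard = 240 ∧
    {X | X ∈ sextets ∧ scls S X = 2}.ncard = 90 ∧ {X | X ∈ sextets ∧ scls S X = 3}.ncard = 1440 := by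
  classical
  set F := (Set.toFinite sextets).toFinset with hF
  have hFm : ∀ X, X ∈ F ↔ X ∈ sextets := fun X => by rw [hF, Set.Finite.mem_toFinset]
  have hFc : F.card = 1771 := by rw [hF, ← Set.ncard_eq_toFinset_card _ (Set.toFinite _)]; exact ncard_sextets
  have hset : ∀ i, {X | X ∈ sextets ∧ scls S X = i}.ncard = (F.filter fun X => scls S X = i).card := by
    intro i
    rw [← Set.ncard_coe_finset]
    congr 1
    ext X
    simp only [Finset.coe_filter, hFm, Set.mem_setOf_eq]
  rw [hset, hset, hset, hset]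
  have h0 : (F.filter fun X => scls S X = 0).card = 1 := by
    rw [Finset.card_eq_one]
    refine ⟨S, ?_⟩
    ext X
    rw [Finset.mem_filter, hFm, Finset.mem_singleton]
    constructor
    · rintro ⟨h1, h2⟩
      rcases scls_spec hS h1 with h | h | h | h
      · exact h.2.1
      · rw [h.1] at h2; omega
      · rw [h.1] at h2; omega
      · rw [h.1] at h2; omega
    · rintro rfl
      exact ⟨hS, by rw [scls, if_pos rfl]⟩
  have hpart : ∀ f : Finset (Finset GolayPt) → ℕ, ∑ X ∈ F, f X = ∑ X ∈ F.filter (fun X => scls S X = 0), f X +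
      ∑ X ∈ F.filter (fun X => scls S X = 1), f X + ∑ X ∈ F.filter (fun X => scls S X = 2), f X +
      ∑ X ∈ F.filter (fun X => scls S X = 3), f X := by
    intro f
    have h1 : ∀ X ∈ F, scls S X ∈ Finset.range 4 := by
      intro X hX
      rw [Finset.mem_range]
      rcases scls_spec hS ((hFm X).mp hX) with h | h | h | h <;> rw [h.1] <;> norm_num
    rw [← Finset.sum_fiberwise_of_maps_to h1]
    simp only [Finset.sum_range_succ, Finset.sum_range_zero, zero_add]
  have hconst : ∀ (i k c : ℕ), (∀ X ∈ sextets, scls S X = i → nInt k X S = c) →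
      ∑ X ∈ F.filter (fun X => scls S X = i), nInt k X S = c * (F.filter (fun X => scls S X = i)).card := by
    intro i k c h
    rw [Finset.sum_congr rfl (g := fun _ => c), Finset.sum_const, smul_eq_mul, mul_comm]
    intro X hX
    rw [Finset.mem_filter, hFm] at hX
    exact h X hX.1 hX.2
  have val : ∀ X ∈ sextets, ∀ i, scls S X = i →
      (i = 0 → nInt 3 X S = 0 ∧ nInt 2 X S = 0) ∧ (i = 1 → nInt 3 X S = 2 ∧ nInt 2 X S = 0) ∧
      (i = 2 → nInt 3 X S = 0 ∧ nInt 2 X S = 12) ∧ (i = 3 → nInt 3 X S = 0 ∧ nInt 2 X S = 4) := by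
    intro X hX i hi
    rcases scls_spec hS hX with h | h | h | h
    · rw [h.1] at hi; subst hi
      exact ⟨fun _ => h.2.2, fun h => by omega, fun h => by omega, fun h => by omega⟩
    · rw [h.1] at hi; subst hi
      exact ⟨fun h => by omega, fun _ => h.2.1, fun h => by omega, fun h => by omega⟩
    · rw [h.1] at hi; subst hi
      exact ⟨fun h => by omega, fun h => by omega, fun _ => h.2.1, fun h => by omega⟩
    · rw [h.1] at hi; subst hi
      exact ⟨fun h => by omega, fun h => by omega, fun h => by omega, fun _ => h.2.1⟩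
  have e1 := hpart (fun _ => 1)
  simp only [Finset.sum_const, smul_eq_mul, mul_one] at e1
  have e3 := hpart (fun X => nInt 3 X S)
  have e2 := hpart (fun X => nInt 2 X S)
  rw [sum_nInt hS 3 (by norm_num), hconst 0 3 0 (fun X hX h => ((val X hX 0 h).1 rfl).1),
    hconst 1 3 2 (fun X hX h => ((val X hX 1 h).2.1 rfl).1), hconst 2 3 0 (fun X hX h => ((val X hX 2 h).2.2.1 rfl).1),
    hconst 3 3 0 (fun X hX h => ((val X hX 3 h).2.2.2 rfl).1)] at e3
  rw [sum_nInt hS 2 (by norm_num), hconst 0 2 0 (fun X hX h => ((val X hX 0 h).1 rfl).2),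
    hconst 1 2 0 (fun X hX h => ((val X hX 1 h).2.1 rfl).2), hconst 2 2 12 (fun X hX h => ((val X hX 2 h).2.2.1 rfl).2),
    hconst 3 2 4 (fun X hX h => ((val X hX 3 h).2.2.2 rfl).2)] at e2
  have c1 : Nat.choose 4 3 * Nat.choose 20 (4 - 3) = 80 := by decide
  have c2 : Nat.choose 4 2 * Nat.choose 20 (4 - 2) = 1140 := by decide
  rw [c1] at e3
  rw [c2] at e2
  rw [hFc, h0] at e1
  refine ⟨h0, ?_, ?_, ?_⟩ <;> omega

end CfsgLib.Golay
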