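import Mathlib
import Cfsg.Agent.Lib.GolayElt
import Cfsg.Agent.Lib.GolaySextOrb
import Cfsg.Agent.Lib.GolayTrio

/-!
Counting invariant octads, dodecads, trios and sextets of a packed permutation.
-/

set_option autoImplicit false

namespace CfsgLib.Golay

open Cfsg
open scoped Pointwise

/-! ### Codewords -/

theorem fixed_code {T n w : ℕ} {g : Equiv.Perm GolayPt} (hT : Packs T g)
    (h : cntC (fun m => and (Nat.beq (pop m) w) (Nat.beq (act T m) m)) rows 0 = n) :
    {o : Finset GolayPt | o ∈ wordsOfWeight (golayCode : Set (GolayPt → ZMod 2)) w ∧ g • o = o}.ncard = n := by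
  apply count_code (fun m => and (Nat.beq (pop m) w) (Nat.beq (act T m) m)) _ h
  intro s
  rw [wordsOfWeight, Set.mem_setOf_eq, Bool.and_eq_true, Nat.beq_eq, Nat.beq_eq, ← hT.mask_smul, card_eq_pop,
    and_assoc]
  have : g • s = s ↔ mask (g • s) = mask s :=
    ⟨fun h => by rw [h], fun h => by rw [← toFS_mask (g • s), h, toFS_mask]⟩
  rw [this]

/-! ### Trios -/

theorem trio_count' (Φ : Finset (Finset GolayPt) → Prop) (p : ℕ → Bool) (h : ∀ i < 3795, (Φ (tr i) ↔ p i = true)) :
    {X | X ∈ trios ∧ Φ X}.ncard = cntLt 3795 p := by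
  rw [cntLt_spec, ← Set.ncard_coe_finset]
  symm
  apply Set.ncard_congr (fun i _ => tr i)
  · intro i hi
    rw [Finset.mem_coe, Finset.mem_filter, Finset.mem_range] at hi
    exact ⟨tr_mem hi.1, (h i hi.1).mpr hi.2⟩
  · intro i j hi hj hij
    rw [Finset.mem_coe, Finset.mem_filter, Finset.mem_range] at hi hj
    exact tr_inj hi.1 hj.1 hij
  · rintro X ⟨hX, hz⟩
    obtain ⟨i, hi, rfl⟩ := exists_tr hX
    refine ⟨i, ?_, rfl⟩
    rw [Finset.mem_coe, Finset.mem_filter, Finset.mem_range]
    exact ⟨hi, (h i hi).mp hz⟩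

def fixTrio (T a b c : ℕ) : Bool := and (mem3 (act T a) a b c) (mem3 (act T b) a b c)

theorem fixed_trio {T n : ℕ} {g : Equiv.Perm GolayPt} (hg : g ∈ M24) (hT : Packs T g)
    (h : cntLt 3795 (fun i => fixTrio T (tA i) (tB i) (tC i)) = n) :
    {X | X ∈ trios ∧ g • X = X}.ncard = n := by
  rw [← h]
  apply trio_count'
  intro i hi
  obtain ⟨ha, hb, hc⟩ := tOk_lt hi
  have mA : toFS (tA i) ∈ tr i := by rw [tr, trio3]; simp
  have mB : toFS (tB i) ∈ tr i := by rw [tr, trio3]; simp
  rw [fixTrio, Bool.and_eq_true]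
  have e1 : ∀ m < 2 ^ 24, (mem3 (act T m) (tA i) (tB i) (tC i) = true ↔ g • toFS m ∈ tr i) := by
    intro m hm
    rw [tr, mem_trio3 ha hb hc, hT.mask_smul, mask_toFS hm]
  rw [e1 _ ha, e1 _ hb]
  constructor
  · intro h1
    exact ⟨by rw [← h1]; exact mem_smul_fam.mpr mA, by rw [← h1]; exact mem_smul_fam.mpr mB⟩
  · rintro ⟨h1, h2⟩
    refine smul_trio_eq hg (tr_mem hi) (tr_mem hi) mA mB ?_ h1 h2
    intro h3
    have := toFS_inj ha hb h3
    have h4 := (t_spec hi).2.2.2.1
    omega

/-! ### Sextets -/

/-- count the `k`-subsets of `l` joined to `acc` -/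
def cntK (p : ℕ → Bool) : ℕ → List ℕ → ℕ → ℕ
  | 0, _, acc => cond (p acc) 1 0
  | _ + 1, [], _ => 0
  | k + 1, b :: l, acc => Nat.add (cntK p (k + 1) l acc) (cntK p k l (Nat.lor acc (Nat.shiftLeft 1 b)))

theorem mask_insert {b : ℕ} (hb : b < 24) (s : Finset GolayPt) :
    mask (insert (pt b) s) = Nat.lor (mask s) (Nat.shiftLeft 1 b) := by
  have h2 : Nat.lor (mask s) (Nat.shiftLeft 1 b) = (mask s ||| 1 <<< b) := rfl
  rw [h2]
  have h3 : (1 <<< b) < 2 ^ 24 := by
    rw [Nat.one_shiftLeft]; exact Nat.pow_lt_pow_right (by norm_num) hb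
  apply ext_mask (mask_lt _) (Nat.or_lt_two_pow (mask_lt _) h3)
  intro p
  rw [testBit_mask, Nat.testBit_or, testBit_mask, Bool.eq_iff_iff, decide_eq_true_eq, Bool.or_eq_true,
    decide_eq_true_eq, Finset.mem_insert, Nat.one_shiftLeft, Nat.testBit_two_pow, decide_eq_true_eq]
  constructor
  · rintro (rfl | h)
    · right; exact (idx_pt hb).symm
    · left; exact h
  · rintro (h | h)
    · right; exact h
    · left; rw [h, pt_idx]

theorem cntK_spec (p : ℕ → Bool) : ∀ (l : List ℕ) (k : ℕ) (s : Finset GolayPt), l.Nodup → (∀ b ∈ l, b < 24) →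
    cntK p k l (mask s) = (((l.map pt).toFinset.powersetCard k).filter fun u => p (mask (s ∪ u)) = true).card := by
  intro l
  induction l with
  | nil =>
    intro k s _ _
    cases k with
    | zero =>
      simp only [cntK, List.map_nil, List.toFinset_nil, Finset.powersetCard_zero]
      rw [Finset.filter_singleton, Finset.union_empty]
      cases p (mask s) <;> simp
    | succ k =>
      simp only [cntK, List.map_nil, List.toFinset_nil]
      rw [Finset.powersetCard_eq_empty.mpr (by simp)]
      simp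
  | cons b l ih =>
    intro k s hnd hlt
    rw [List.nodup_cons] at hnd
    have hb : b < 24 := hlt b (by simp)
    have hl : ∀ c ∈ l, c < 24 := fun c hc => hlt c (by simp [hc])
    cases k with
    | zero =>
      simp only [cntK, Finset.powersetCard_zero]
      rw [Finset.filter_singleton, Finset.union_empty]
      cases p (mask s) <;> simp
    | succ k =>
      have hnot : pt b ∉ (l.map pt).toFinset := by
        rw [List.mem_toFinset, List.mem_map]
        rintro ⟨c, hc, h⟩
        have h1 := congrArg idx h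
        rw [idx_pt (hl c hc), idx_pt hb] at h1
        exact hnd.1 (h1 ▸ hc)
      have e1 : cntK p (k + 1) (b :: l) (mask s) =
          cntK p (k + 1) l (mask s) + cntK p k l (mask (insert (pt b) s)) := by
        rw [mask_insert hb]; rfl
      rw [e1, ih (k + 1) s hnd.2 hl, ih k _ hnd.2 hl, List.map_cons, List.toFinset_cons,
        Finset.powersetCard_succ_insert hnot, Finset.filter_union, Finset.card_union_of_disjoint]
      · have e2 : (((l.map pt).toFinset.powersetCard k).filter fun u => p (mask (insert (pt b) s ∪ u)) = true).card =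
          ((((l.map pt).toFinset.powersetCard k).image (insert (pt b))).filter
            fun u => p (mask (s ∪ u)) = true).card := by
          have hq : ∀ u : Finset GolayPt, insert (pt b) s ∪ u = s ∪ insert (pt b) u := by
            intro u; rw [Finset.insert_union, Finset.union_insert]
          apply Finset.card_bij (fun u _ => insert (pt b) u)
          · intro u hu
            rw [Finset.mem_filter] at hu ⊢
            refine ⟨Finset.mem_image_of_mem _ hu.1, ?_⟩
            rw [← hq]; exact hu.2
          · intro u hu v hv huv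
            rw [Finset.mem_filter, Finset.mem_powersetCard] at hu hv
            have hu' : pt b ∉ u := fun h => hnot (hu.1.1 h)
            have hv' : pt b ∉ v := fun h => hnot (hv.1.1 h)
            rw [← Finset.erase_insert hu', huv, Finset.erase_insert hv']
          · intro v hv
            rw [Finset.mem_filter, Finset.mem_image] at hv
            obtain ⟨⟨u, hu, rfl⟩, h2⟩ := hv
            refine ⟨u, ?_, rfl⟩
            rw [Finset.mem_filter]
            refine ⟨hu, ?_⟩
            rw [hq]; exact h2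
        rw [e2]
      · rw [Finset.disjoint_left]
        intro u hu hv
        rw [Finset.mem_filter, Finset.mem_powersetCard] at hu
        rw [Finset.mem_filter, Finset.mem_image] at hv
        obtain ⟨⟨v, -, rfl⟩, -⟩ := hv
        exact hnot (hu.1.1 (Finset.mem_insert_self _ _))

def ix1 : List ℕ := [1, 2, 3, 4, 5, 6, 7, 8, 9, 10, 11, 12, 13, 14, 15, 16, 17, 18, 19, 20, 21, 22, 23]

theorem ix1_eq : (ix1.map pt).toFinset = {pt 0}ᶜ := by decide

theorem sextet_count (Φ : Finset (Finset GolayPt) → Prop) (p : ℕ → Bool)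
    (h : ∀ t : Finset GolayPt, t.card = 4 → (Φ (sext t) ↔ p (mask t) = true)) :
    {X | X ∈ sextets ∧ Φ X}.ncard = cntK p 3 ix1 1 := by
  have e0 : (1 : ℕ) = mask {pt 0} := by decide +kernel
  rw [show cntK p 3 ix1 1 = cntK p 3 ix1 (mask {pt 0}) by rw [← e0],
    cntK_spec p ix1 3 {pt 0} (by decide) (by decide), ix1_eq, ← Set.ncard_coe_finset]
  symm
  have hc : ∀ u : Finset GolayPt, u ⊆ {pt 0}ᶜ → u.card = 3 → ({pt 0} ∪ u : Finset GolayPt).card = 4 := by
    intro u hu hc
    rw [Finset.card_union_of_disjoint, hc, Finset.card_singleton]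
    rw [Finset.disjoint_left]
    intro x hx hxu
    exact Finset.mem_compl.mp (hu hxu) hx
  apply Set.ncard_congr (fun u _ => sext ({pt 0} ∪ u))
  · intro u hu
    rw [Finset.mem_coe, Finset.mem_filter, Finset.mem_powersetCard] at hu
    exact ⟨sext_mem (hc u hu.1.1 hu.1.2), (h _ (hc u hu.1.1 hu.1.2)).mpr hu.2⟩
  · intro u v hu hv huv
    rw [Finset.mem_coe, Finset.mem_filter, Finset.mem_powersetCard] at hu hv
    have h1 : ({pt 0} ∪ u : Finset GolayPt) = {pt 0} ∪ v := by
      by_contra hne
      have h2 := sextet_disjoint (sext_mem (hc u hu.1.1 hu.1.2)) (self_mem_sext _)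
        (by rw [huv]; exact self_mem_sext _) hne
      rw [Finset.disjoint_left] at h2
      exact h2 (a := pt 0) (by simp) (by simp)
    have h3 : ∀ w : Finset GolayPt, w ⊆ {pt 0}ᶜ → ({pt 0} ∪ w : Finset GolayPt) \ {pt 0} = w := by
      intro w hw
      ext x
      simp only [Finset.mem_sdiff, Finset.mem_union, Finset.mem_singleton]
      constructor
      · rintro ⟨h4 | h4, h5⟩
        · exact absurd h4 h5
        · exact h4
      · intro h4
        exact ⟨Or.inr h4, fun h5 => Finset.mem_compl.mp (hw h4) (Finset.mem_singleton.mpr h5)⟩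
    rw [← h3 u hu.1.1, h1, h3 v hv.1.1]
  · rintro X ⟨hX, hz⟩
    obtain ⟨t, ht, h0⟩ := sextet_covers hX (pt 0)
    have hXt := sextet_eq_sext hX ht
    have ht4 : t.card = 4 := hX.2.1 t ht
    have htu : ({pt 0} ∪ t \ {pt 0} : Finset GolayPt) = t := by
      rw [Finset.union_sdiff_of_subset]; simpa using h0
    refine ⟨t \ {pt 0}, ?_, ?_⟩
    · rw [Finset.mem_coe, Finset.mem_filter, Finset.mem_powersetCard, htu]
      refine ⟨⟨?_, ?_⟩, ?_⟩
      · intro x hx
        rw [Finset.mem_sdiff] at hx
        exact Finset.mem_compl.mpr hx.2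
      · rw [Finset.card_sdiff_of_subset (by simpa using h0), ht4, Finset.card_singleton]
      · rw [← h t ht4, ← hXt]; exact hz
    · show sext ({pt 0} ∪ t \ {pt 0}) = X
      rw [htu, ← hXt]

theorem sext_eq_iff {t u : Finset GolayPt} (ht : t.card = 4) (hu : u.card = 4) :
    sext t = sext u ↔ isCode (mask t ^^^ mask u) = true := by
  rw [← mask_xor, ← mem_supports_iff]
  constructor
  · intro h
    have h1 : u ∈ sext t := by rw [h]; exact self_mem_sext u
    by_cases htu : t = u
    · rw [htu, symmDiff_self]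
      rw [mem_supports_iff]
      show isCode (mask ∅) = true
      rw [mask_empty]; exact isCode_zero
    · have h2 := sextet_disjoint (sext_mem ht) (self_mem_sext t) h1 htu
      have h3 := sext_union ht (self_mem_sext t) h1 htu
      rw [h2.symmDiff_eq_sup]
      exact h3.1
  · intro h
    have hc := supports_card h
    have h1 : (symmDiff t u).card = (t \ u).card + (u \ t).card := by
      rw [symmDiff_def, Finset.sup_eq_union, Finset.card_union_of_disjoint disjoint_sdiff_sdiff]
    have h2 := Finset.card_sdiff_add_card_inter t u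
    have h3 := Finset.card_sdiff_add_card_inter u t
    rw [Finset.inter_comm] at h3
    by_cases h8 : (symmDiff t u).card = 0
    · rw [Finset.card_eq_zero] at h8
      rw [symmDiff_eq_bot.mp h8]
    · have h9 : (t ∩ u).card = 0 := by omega
      have h10 : Disjoint t u := by rw [Finset.disjoint_iff_inter_eq_empty]; exact Finset.card_eq_zero.mp h9
      apply sextet_eq_sext (sext_mem ht)
      rw [mem_sext]
      right
      refine ⟨t ∪ u, ?_, Finset.subset_union_left, ?_⟩
      · rw [← Finset.sup_eq_union, ← h10.symmDiff_eq_sup]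
        exact ⟨h, by omega⟩
      · rw [Finset.union_sdiff_cancel_left h10]

theorem fixed_sextet {T n : ℕ} {g : Equiv.Perm GolayPt} (hg : g ∈ M24) (hT : Packs T g)
    (h : cntK (fun m => isCode (Nat.xor (act T m) m)) 3 ix1 1 = n) :
    {X | X ∈ sextets ∧ g • X = X}.ncard = n := by
  rw [← h]
  apply sextet_count
  intro t ht
  rw [smul_sext hg ht, sext_eq_iff (by rw [card_smul', ht]) ht, hT.mask_smul]
  rfl

/-! ### Transfer along conjugation -/

theorem fixed_code_conj {k : Equiv.Perm GolayPt} (hk : k ∈ M24) (g : Equiv.Perm GolayPt) (w : ℕ) :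
    {o : Finset GolayPt | o ∈ wordsOfWeight (golayCode : Set (GolayPt → ZMod 2)) w ∧ g • o = o}.ncard =
    {o : Finset GolayPt | o ∈ wordsOfWeight (golayCode : Set (GolayPt → ZMod 2)) w ∧ (k * g * k⁻¹) • o = o}.ncard := by
  apply ncard_transfer k
  intro s
  have h1 : (k * g * k⁻¹) • k • s = k • g • s := by
    rw [smul_smul, smul_smul]; congr 1; group
  rw [h1, smul_left_cancel_iff]
  apply and_congr_left'
  simp only [wordsOfWeight, Set.mem_setOf_eq, M24_smul_supports hk, card_smul']

theorem fixed_fam_conj {A : Set (Finset (Finset GolayPt))}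
    {k : Equiv.Perm GolayPt} (hA : ∀ X, k • X ∈ A ↔ X ∈ A) (g : Equiv.Perm GolayPt) :
    {X | X ∈ A ∧ g • X = X}.ncard = {X | X ∈ A ∧ (k * g * k⁻¹) • X = X}.ncard := by
  apply ncard_fam_transfer k
  intro s
  have h1 : (k * g * k⁻¹) • k • s = k • g • s := by
    rw [smul_smul, smul_smul]; congr 1; group
  rw [h1, smul_left_cancel_iff, hA]

theorem trios_smul_iff {k : Equiv.Perm GolayPt} (hk : k ∈ M24) (X : Finset (Finset GolayPt)) :
    k • X ∈ trios ↔ X ∈ trios :=
  ⟨fun h => by have := smul_mem_trios (inv_mem hk) h; rwa [inv_smul_smul] at this, fun h => smul_mem_trios hk h⟩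

theorem sextets_smul_iff {k : Equiv.Perm GolayPt} (hk : k ∈ M24) (X : Finset (Finset GolayPt)) :
    k • X ∈ sextets ↔ X ∈ sextets :=
  ⟨fun h => by have := smul_mem_sextets (inv_mem hk) h; rwa [inv_smul_smul] at this, fun h => smul_mem_sextets hk h⟩

end CfsgLib.Golay
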