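import Mathlib
import Cfsg.Agent.Lib.GolayCnt
import Cfsg.Agent.Lib.GolayEnum

/-!
Explicit enumerations of subgroups of `M24`.
-/

set_option autoImplicit false

namespace CfsgLib.Golay

open Cfsg
open scoped Pointwise

theorem sorted_nodup {L : List ℕ} (hs : sortedB L = true) : L.Nodup :=
  (sortedB_spec L hs).1.imp (fun h => ne_of_lt h)

theorem packs_inj {P Q : ℕ} {g : Equiv.Perm GolayPt} (hP : P < 2 ^ 120) (hQ : Q < 2 ^ 120) (h : Packs P g)
    (h' : Packs Q g) : P = Q := by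
  apply eq_of_img hP hQ
  intro i hi
  have h1 := h (pt i)
  have h2 := h' (pt i)
  rw [idx_pt hi] at h1 h2
  rw [← h1, ← h2]

/-- the cardinality of an enumerated set of permutations -/
theorem card_of_enum (H : Subgroup (Equiv.Perm GolayPt)) (L : List ℕ) (hs : sortedB L = true)
    (h : ∀ P ∈ L, ∃ g ∈ H, Packs P g) (hH : ∀ g ∈ H, ∃ P ∈ L, Packs P g) : Nat.card H = L.length := by
  classical
  obtain ⟨-, hlt⟩ := sortedB_spec L hs
  choose! f hf1 hf2 using h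
  have h1 : Function.Bijective (fun P : {P // P ∈ L} => (⟨f P.1, hf1 P.1 P.2⟩ : H)) := by
    constructor
    · rintro ⟨P, hP⟩ ⟨Q, hQ⟩ hPQ
      have h2 : f P = f Q := congrArg Subtype.val hPQ
      apply Subtype.ext
      exact packs_inj (hlt P hP) (hlt Q hQ) (hf2 P hP) (by rw [h2]; exact hf2 Q hQ)
    · rintro ⟨g, hg⟩
      obtain ⟨P, hP, hPg⟩ := hH g hg
      exact ⟨⟨P, hP⟩, Subtype.ext ((hf2 P hP).eq hPg)⟩
  rw [← Nat.card_congr (Equiv.ofBijective _ h1), Nat.card_eq_fintype_card]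
  have h3 : Fintype.card {P // P ∈ L} = L.toFinset.card := by
    rw [Fintype.card_of_subtype]
    intro x; exact List.mem_toFinset
  rw [h3, List.toFinset_card_of_nodup (sorted_nodup hs)]

/-- check a transversal: entries `(x, P)` with `P` good, satisfying `q`, mapping `b` to `x`, covering `cov` -/
def chkTr (q : ℕ → Bool) (b cov : ℕ) (T : List (ℕ × ℕ)) : Bool :=
  and (T.all fun e => and (good e.2) (and (q e.2) (Nat.beq (img e.2 b) e.1)))
  (Nat.beq (T.foldr (fun e acc => Nat.lor acc (Nat.shiftLeft 1 e.1)) 0) cov)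

theorem chkTr_spec {q : ℕ → Bool} {b cov : ℕ} {T : List (ℕ × ℕ)} (h : chkTr q b cov T = true) (hb : b < 24)
    {p : GolayPt} (hp : cov.testBit (idx p) = true) : ∃ P, ∃ g ∈ M24, q P = true ∧ Packs P g ∧ g (pt b) = p := by
  rw [chkTr, Bool.and_eq_true, List.all_eq_true] at h
  obtain ⟨h1, h2⟩ := h
  rw [← Nat.eq_of_beq_eq_true h2] at hp
  obtain ⟨e, he, h3⟩ := testBit_foldr T _ hp
  have h4 := h1 e he
  rw [Bool.and_eq_true, Bool.and_eq_true] at h4
  obtain ⟨g, hg, hgp⟩ := exists_of_good h4.1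
  refine ⟨e.2, g, hg, h4.2.1, hgp, ?_⟩
  rw [hgp.apply hb (Nat.eq_of_beq_eq_true h4.2.2), h3, pt_idx]

/-- the centraliser of a permutation in `M24` -/
def CM (t : Equiv.Perm GolayPt) : Subgroup (Equiv.Perm GolayPt) where
  carrier := {g | g ∈ M24 ∧ g * t = t * g}
  one_mem' := ⟨one_mem _, by simp⟩
  mul_mem' := by
    rintro a b ⟨ha, ha'⟩ ⟨hb, hb'⟩
    exact ⟨mul_mem ha hb, by rw [mul_assoc, hb', ← mul_assoc, ha', mul_assoc]⟩
  inv_mem' := by
    rintro a ⟨ha, ha'⟩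
    refine ⟨inv_mem ha, ?_⟩
    rw [inv_mul_eq_iff_eq_mul, ← mul_assoc, ha', mul_inv_cancel_right]

theorem mem_CM {t g : Equiv.Perm GolayPt} : g ∈ CM t ↔ g ∈ M24 ∧ g * t = t * g := Iff.rfl

/-- elements of a subgroup fixing given points -/
def Fx (H : Subgroup (Equiv.Perm GolayPt)) (l : List GolayPt) : Subgroup (Equiv.Perm GolayPt) where
  carrier := {g | g ∈ H ∧ ∀ p ∈ l, g p = p}
  one_mem' := ⟨one_mem _, fun _ _ => rfl⟩
  mul_mem' := by
    rintro a b ⟨ha, ha'⟩ ⟨hb, hb'⟩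
    refine ⟨mul_mem ha hb, fun p hp => ?_⟩
    rw [Equiv.Perm.mul_apply, hb' p hp, ha' p hp]
  inv_mem' := by
    rintro a ⟨ha, ha'⟩
    refine ⟨inv_mem ha, fun p hp => ?_⟩
    rw [Equiv.Perm.inv_eq_iff_eq]; exact (ha' p hp).symm

theorem mem_Fx {H : Subgroup (Equiv.Perm GolayPt)} {l : List GolayPt} {g : Equiv.Perm GolayPt} :
    g ∈ Fx H l ↔ g ∈ H ∧ ∀ p ∈ l, g p = p := Iff.rfl

theorem card_Fx_step (H : Subgroup (Equiv.Perm GolayPt)) (l : List GolayPt) (p : GolayPt) {m : ℕ} (hm : m < 2 ^ 24)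
    (hO : ∀ q, m.testBit (idx q) = true ↔ ∃ g ∈ Fx H l, g p = q) :
    Nat.card (Fx H l) = pop m * Nat.card (Fx H (p :: l)) := by
  rw [← ncard_toFS hm]
  apply card_eq_of_orbit (Fx H l) (Fx H (p :: l)) p
  · intro g
    rw [mem_Fx, mem_Fx]
    constructor
    · rintro ⟨h1, h2⟩
      exact ⟨⟨h1, fun q hq => h2 q (List.mem_cons_of_mem _ hq)⟩, h2 p (List.mem_cons_self ..)⟩
    · rintro ⟨⟨h1, h2⟩, h3⟩
      refine ⟨h1, fun q hq => ?_⟩
      rw [List.mem_cons] at hq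
      rcases hq with rfl | hq
      · exact h3
      · exact h2 q hq
  · intro q
    rw [Finset.mem_coe, mem_toFS]
    exact hO q

theorem Fx_nil (H : Subgroup (Equiv.Perm GolayPt)) : Fx H [] = H := by
  ext g; rw [mem_Fx]; simp

end CfsgLib.Golay
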