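import Mathlib
import Cfsg.Agent.Lib.GolaySext

/-!
The stabilizer of an octad.
-/

set_option autoImplicit false

namespace CfsgLib.Golay

open Cfsg
open scoped Pointwise

/-- restriction to an invariant set -/
def res (o : Finset GolayPt) (H : Subgroup (Equiv.Perm GolayPt)) (hH : ∀ g ∈ H, g • o = o) :
    H →* Equiv.Perm ↥o where
  toFun g := (g : Equiv.Perm GolayPt).subtypePerm (fun x => by
    have h := hH g g.2
    constructor
    · intro hx; rw [← h] at hx; exact mem_smul_iff.mp hx
    · intro hx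
      have := mem_smul_iff (g := (g : Equiv.Perm GolayPt)).mpr hx
      rwa [h] at this)
  map_one' := rfl
  map_mul' _ _ := rfl

theorem res_apply {o : Finset GolayPt} {H : Subgroup (Equiv.Perm GolayPt)} (hH : ∀ g ∈ H, g • o = o) (g : H) (x : ↥o) :
    ((res o H hH g x : ↥o) : GolayPt) = (g : Equiv.Perm GolayPt) x := rfl

theorem card_PSd_octad {o : Finset GolayPt} (ho : o ∈ octads) : Nat.card (PSd o []) = 322560 := by
  have h1 := card_eq_of_orbit M24 (PSd o []) o octads (fun g => by
    rw [mem_PSd]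
    constructor
    · rintro ⟨h1, h2, _⟩; exact ⟨h1, h2⟩
    · rintro ⟨h1, h2⟩; exact ⟨h1, h2, by simp⟩) (fun y => by
    constructor
    · intro hy; exact octads_transitive ho hy
    · rintro ⟨g, hg, rfl⟩; exact (smul_mem_octads hg).mpr ho)
  have h2 : octads.ncard = 759 := by
    rw [octads, ncard_words]; decide +kernel
  rw [card_M24, h2] at h1
  omega

/-- the pointwise stabilizer of an octad -/
theorem card_fix_octad {o : Finset GolayPt} (ho : o ∈ octads) (K : Subgroup (Equiv.Perm GolayPt))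
    (hK : ∀ g, g ∈ K ↔ g ∈ M24 ∧ ∀ p ∈ o, g p = p) : Nat.card K = 16 := by
  obtain ⟨x0, x1, x2, x3, x4, x5, x6, h0, h1, h2, h3, h4, h5, h, h6⟩ := exists_octad_frame ho
  have key : K = PS [x5, x4, x3, x2, x1, x0] := by
    ext g
    rw [hK, mem_PS]
    constructor
    · rintro ⟨k1, k2⟩
      refine ⟨k1, fun p hp => k2 p ?_⟩
      simp only [List.mem_cons, List.not_mem_nil, or_false] at hp
      rcases hp with rfl | rfl | rfl | rfl | rfl | rfl <;> assumption
    · rintro ⟨k1, k2⟩
      exact ⟨k1, (fix_octad k1 ho h0 h1 h2 h3 h4 h5 h (k2 _ (by simp)) (k2 _ (by simp)) (k2 _ (by simp)) (k2 _ (by simp)) (k2 _ (by simp)) (k2 _ (by simp))).1⟩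
  rw [key]
  exact card_PS_six ho h0 h1 h2 h3 h4 h5 h

theorem card_range_res {o : Finset GolayPt} {H : Subgroup (Equiv.Perm GolayPt)} (hH : ∀ g ∈ H, g • o = o) (n : ℕ)
    (hn : Nat.card (res o H hH).ker * n = Nat.card H) : Nat.card (res o H hH).range = n := by
  have h1 := Subgroup.card_eq_card_quotient_mul_card_subgroup (res o H hH).ker
  rw [Nat.card_congr (QuotientGroup.quotientKerEquivRange (res o H hH)).toEquiv, ← hn, mul_comm] at h1
  exact (Nat.eq_of_mul_eq_mul_right Nat.card_pos h1).symm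

theorem range_eq_alternating {o : Finset GolayPt} (ho : o ∈ octads) {R : Subgroup (Equiv.Perm ↥o)}
    (hR : Nat.card R = 20160) : R = alternatingGroup ↥o := by
  apply Equiv.Perm.eq_alternatingGroup_of_index_eq_two
  have h1 := R.index_mul_card
  have h2 : Nat.card (Equiv.Perm ↥o) = 40320 := by
    rw [Nat.card_perm, Nat.card_eq_fintype_card, Fintype.card_coe, ho.2]; rfl
  rw [hR, h2] at h1
  omega

theorem range_res_octad {o : Finset GolayPt} (ho : o ∈ octads) :
    (res o (PSd o []) (fun _ hg => hg.2.1)).range = alternatingGroup ↥o := by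
  apply range_eq_alternating ho
  apply card_range_res
  rw [card_PSd_octad ho]
  have h1 : Nat.card (res o (PSd o []) (fun _ hg => hg.2.1)).ker = 16 := by
    let K : Subgroup (Equiv.Perm GolayPt) := (res o (PSd o []) (fun _ hg => hg.2.1)).ker.map (PSd o []).subtype
    have hK : Nat.card K = Nat.card (res o (PSd o []) (fun _ hg => hg.2.1)).ker :=
      Subgroup.card_map_of_injective (PSd o []).subtype_injective
    rw [← hK]
    apply card_fix_octad ho
    intro g
    constructor
    · rintro ⟨⟨g, hg⟩, hk, rfl⟩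
      refine ⟨hg.1, fun p hp => ?_⟩
      have h2 := congrArg (fun f : Equiv.Perm ↥o => ((f ⟨p, hp⟩ : ↥o) : GolayPt)) (MonoidHom.mem_ker.mp hk)
      exact h2
    · rintro ⟨h1, h2⟩
      have hg : g ∈ PSd o [] := ⟨h1, smul_eq_of_fix h2, by simp⟩
      refine ⟨⟨g, hg⟩, ?_, rfl⟩
      rw [SetLike.mem_coe, MonoidHom.mem_ker]
      ext x : 2
      exact h2 x x.2
  rw [h1]

end CfsgLib.Golay
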