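import Mathlib
import Cfsg.Prelude.Def_KGroupFacts
import Cfsg.Agent.Lib.GolayElt2
import Cfsg.Agent.Lib.GolayDod
import Cfsg.Agent.S5394

/-!
Automorphisms of subgroups of `M24`: generation by two elements, relations and candidates.
-/

set_option autoImplicit false

namespace CfsgLib.Golay

open Cfsg
open scoped Pointwise

/-! ### Straight-line programs -/

/-- check a straight-line program; each step `(i, j, P)` states `P = acc[i] ∘ acc[j]` -/
def slpB : List ℕ → List (ℕ × ℕ × ℕ) → Bool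
  | _, [] => true
  | acc, o :: ops => and (and (Nat.blt o.1 acc.length) (Nat.blt o.2.1 acc.length))
      (and (mulB (acc.getD o.1 0) (acc.getD o.2.1 0) o.2.2) (slpB (o.2.2 :: acc) ops))

def slpA : List ℕ → List (ℕ × ℕ × ℕ) → List ℕ
  | acc, [] => acc
  | acc, o :: ops => slpA (o.2.2 :: acc) ops

theorem packs_of_mulB {P Q R : ℕ} (h : mulB P Q R = true) {a b : Equiv.Perm GolayPt} (hP : Packs P a) (hQ : Packs Q b) :
    Packs R (a * b) := by
  rw [mulB, List.all_eq_true] at h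
  intro p
  rw [Equiv.Perm.mul_apply, hP, hQ]
  exact Nat.eq_of_beq_eq_true (h _ (mem_ixs.mpr (idx_lt p)))

theorem slp_spec (H : Subgroup (Equiv.Perm GolayPt)) : ∀ (ops : List (ℕ × ℕ × ℕ)) (acc : List ℕ),
    (∀ P ∈ acc, ∃ h ∈ H, Packs P h) → slpB acc ops = true → ∀ P ∈ slpA acc ops, ∃ h ∈ H, Packs P h
  | [], acc, hacc, _ => hacc
  | o :: ops, acc, hacc, h => by
      rw [slpB, Bool.and_eq_true, Bool.and_eq_true, Bool.and_eq_true] at h
      obtain ⟨⟨h1, h2⟩, h3, h4⟩ := h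
      have h1' : o.1 < acc.length := Nat.le_of_ble_eq_true h1
      have h2' : o.2.1 < acc.length := Nat.le_of_ble_eq_true h2
      apply slp_spec H ops (o.2.2 :: acc) _ h4
      intro P hP
      rw [List.mem_cons] at hP
      rcases hP with rfl | hP
      · rw [List.getD_eq_getElem _ _ h1', List.getD_eq_getElem _ _ h2'] at h3
        obtain ⟨a, ha, haP⟩ := hacc _ (List.getElem_mem h1')
        obtain ⟨b, hb, hbP⟩ := hacc _ (List.getElem_mem h2')
        exact ⟨a * b, mul_mem ha hb, packs_of_mulB h3 haP hbP⟩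
      · exact hacc P hP

/-- a transversal inside a list of packed permutations -/
def chkH (acc prev : List ℕ) (b cov : ℕ) (T : List (ℕ × ℕ)) : Bool :=
  and (T.all fun e => and (acc.any fun P => Nat.beq P e.2) (and (Nat.beq (img e.2 e.1) b)
    (prev.all fun f => Nat.beq (img e.2 f) f)))
  (Nat.beq (T.foldr (fun e acc => Nat.lor acc (Nat.shiftLeft 1 e.1)) 0) cov)

theorem card_Fx_ge {H : Subgroup (Equiv.Perm GolayPt)} {acc prev : List ℕ} (hacc : ∀ P ∈ acc, ∃ h ∈ H, Packs P h)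
    {b cov : ℕ} {T : List (ℕ × ℕ)} (h : chkH acc prev b cov T = true) (hb : b < 24) (hprev : ∀ f ∈ prev, f < 24)
    (hcov : cov < 2 ^ 24) : pop cov * Nat.card (Fx H ((b :: prev).map pt)) ≤ Nat.card (Fx H (prev.map pt)) := by
  have h1 := card_eq_of_orbit (Fx H (prev.map pt)) (Fx H ((b :: prev).map pt)) (pt b)
    {q | ∃ g ∈ Fx H (prev.map pt), g • pt b = q} (by
      intro g
      rw [mem_Fx, mem_Fx, List.map_cons]
      constructor
      · rintro ⟨h1, h2⟩
        exact ⟨⟨h1, fun q hq => h2 q (List.mem_cons_of_mem _ hq)⟩, h2 _ (List.mem_cons_self ..)⟩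
      · rintro ⟨⟨h1, h2⟩, h3⟩
        refine ⟨h1, fun q hq => ?_⟩
        rw [List.mem_cons] at hq
        rcases hq with rfl | hq
        · exact h3
        · exact h2 q hq) (fun y => Iff.rfl)
  rw [h1]
  apply Nat.mul_le_mul_right
  rw [← ncard_toFS hcov]
  apply Set.ncard_le_ncard _ (Set.toFinite _)
  intro q hq
  rw [Finset.mem_coe, mem_toFS] at hq
  rw [chkH, Bool.and_eq_true, List.all_eq_true] at h
  obtain ⟨h2, h3⟩ := h
  rw [← Nat.eq_of_beq_eq_true h3] at hq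
  obtain ⟨e, he, h4⟩ := testBit_foldr T _ hq
  have h5 := h2 e he
  rw [Bool.and_eq_true, Bool.and_eq_true, List.any_eq_true, List.all_eq_true] at h5
  obtain ⟨⟨P, hP, hPe⟩, h6, h7⟩ := h5
  obtain ⟨g, hg, hgP⟩ := hacc P hP
  rw [Nat.eq_of_beq_eq_true hPe] at hgP
  have hgq : g q = pt b := by
    have := hgP.apply (i := e.1) (by rw [h4]; exact idx_lt q) (Nat.eq_of_beq_eq_true h6)
    rwa [h4, pt_idx] at this
  refine ⟨g⁻¹, inv_mem (mem_Fx.mpr ⟨hg, ?_⟩), ?_⟩
  · intro p hp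
    rw [List.mem_map] at hp
    obtain ⟨f, hf, rfl⟩ := hp
    exact hgP.apply (hprev f hf) (Nat.eq_of_beq_eq_true (h7 f hf))
  · show g⁻¹ (pt b) = q
    rw [Equiv.Perm.inv_eq_iff_eq]; exact hgq.symm

/-- a chain of transversals -/
def chainB (acc : List ℕ) : List ℕ → List (ℕ × List (ℕ × ℕ)) → Bool
  | _, [] => true
  | prev, L :: Ls => and (Nat.blt L.1 24) (and (chkH acc prev L.1
      (L.2.foldr (fun e acc => Nat.lor acc (Nat.shiftLeft 1 e.1)) 0) L.2)
      (and (Nat.blt (L.2.foldr (fun e acc => Nat.lor acc (Nat.shiftLeft 1 e.1)) 0) (2 ^ 24)) (chainB acc (L.1 :: prev) Ls)))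

def chainN : List (ℕ × List (ℕ × ℕ)) → ℕ
  | [] => 1
  | L :: Ls => Nat.mul (pop (L.2.foldr (fun e acc => Nat.lor acc (Nat.shiftLeft 1 e.1)) 0)) (chainN Ls)

theorem chain_card {H : Subgroup (Equiv.Perm GolayPt)} {acc : List ℕ} (hacc : ∀ P ∈ acc, ∃ h ∈ H, Packs P h) :
    ∀ (Ls : List (ℕ × List (ℕ × ℕ))) (prev : List ℕ), (∀ f ∈ prev, f < 24) → chainB acc prev Ls = true →
      chainN Ls ≤ Nat.card (Fx H (prev.map pt))
  | [], prev, _, _ => Nat.card_pos
  | L :: Ls, prev, hprev, h => by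
      rw [chainB, Bool.and_eq_true, Bool.and_eq_true, Bool.and_eq_true] at h
      obtain ⟨h1, h2, h3, h4⟩ := h
      have h1' : L.1 < 24 := Nat.le_of_ble_eq_true h1
      have h3' := Nat.le_of_ble_eq_true h3
      have h5 := chain_card hacc Ls (L.1 :: prev) (by
        intro f hf; rw [List.mem_cons] at hf; rcases hf with rfl | hf; exacts [h1', hprev f hf]) h4
      have h6 := card_Fx_ge hacc h2 h1' hprev (by exact h3')
      calc chainN (L :: Ls) = pop _ * chainN Ls := rfl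
        _ ≤ pop _ * Nat.card (Fx H ((L.1 :: prev).map pt)) := Nat.mul_le_mul_left _ h5
        _ ≤ _ := h6

theorem gen_of_chain {G H : Subgroup (Equiv.Perm GolayPt)} (hHG : H ≤ G) {x t : Equiv.Perm GolayPt} (hx : x ∈ H) (ht : t ∈ H)
    {X T : ℕ} (hX : Packs X x) (hT : Packs T t) {ops : List (ℕ × ℕ × ℕ)} {I : ℕ} (hI : Packs I 1)
    {Ls : List (ℕ × List (ℕ × ℕ))}
    (h1 : slpB [T, X, I] ops = true) (h2 : chainB (slpA [T, X, I] ops) [] Ls = true) (h3 : Nat.card G = chainN Ls) : H = G := by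
  have hacc : ∀ P ∈ slpA [T, X, I] ops, ∃ h ∈ H, Packs P h := by
    apply slp_spec H ops [T, X, I] _ h1
    intro P hP
    simp only [List.mem_cons, List.not_mem_nil, or_false] at hP
    rcases hP with rfl | rfl | rfl
    · exact ⟨t, ht, hT⟩
    · exact ⟨x, hx, hX⟩
    · exact ⟨1, one_mem _, hI⟩
  apply Subgroup.eq_of_le_of_card_ge hHG
  have := chain_card hacc Ls [] (by simp) h2
  rw [List.map_nil, Fx_nil] at this
  rw [h3]; exact this

/-! ### Words -/

/-- value of the word `x^{a₁} t x^{a₂} t …` -/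
def wv {G : Type*} [Group G] (x t : G) : List ℕ → G
  | [] => 1
  | a :: w => x ^ a * (t * wv x t w)

/-- the word applied to an index; `XL` lists the powers of `x`, exponents are multiplied by `k` modulo `p` -/
def wI (XL : List ℕ) (p k T : ℕ) : List ℕ → ℕ → ℕ
  | [], i => i
  | a :: w, i => img (XL.getD (Nat.mod (Nat.mul k a) p) 0) (img T (wI XL p k T w i))

def wIn (XL : List ℕ) (p k T : ℕ) (w : List ℕ) : ℕ → ℕ → ℕ
  | 0, i => i
  | n + 1, i => wIn XL p k T w n (wI XL p k T w i)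

def relB (XL : List ℕ) (p k T : ℕ) (r : List ℕ × ℕ) : Bool :=
  ixs.all fun i => Nat.beq (wIn XL p k T r.1 r.2 i) i

theorem wI_spec {XL : List ℕ} {p k T : ℕ} {x u t : Equiv.Perm GolayPt} (hp : 0 < p)
    (hXL : ∀ a < p, Packs (XL.getD a 0) (x ^ a)) (hxp : x ^ p = 1) (hu : u = x ^ k) (hT : Packs T t) :
    ∀ (w : List ℕ) (q : GolayPt), wI XL p k T w (idx q) = idx (wv u t w q)
  | [], q => rfl
  | a :: w, q => by
      have h1 := hXL _ (Nat.mod_lt (k * a) hp)
      have h2 : x ^ ((k * a) % p) = u ^ a := by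
        rw [hu, ← pow_mul]
        conv_rhs => rw [← Nat.mod_add_div (k * a) p, pow_add, pow_mul x p, hxp, one_pow, mul_one]
      rw [h2] at h1
      have h3 : wI XL p k T (a :: w) (idx q) = img (XL.getD ((k * a) % p) 0) (img T (wI XL p k T w (idx q))) := rfl
      rw [h3, wI_spec hp hXL hxp hu hT w q, ← hT, ← h1, wv, Equiv.Perm.mul_apply, Equiv.Perm.mul_apply]

theorem wIn_spec {XL : List ℕ} {p k T : ℕ} {x u t : Equiv.Perm GolayPt} (hp : 0 < p)
    (hXL : ∀ a < p, Packs (XL.getD a 0) (x ^ a)) (hxp : x ^ p = 1) (hu : u = x ^ k) (hT : Packs T t) (w : List ℕ) :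
    ∀ (n : ℕ) (q : GolayPt), wIn XL p k T w n (idx q) = idx (((wv u t w) ^ n) q)
  | 0, q => rfl
  | n + 1, q => by
      rw [wIn, wI_spec hp hXL hxp hu hT w q, wIn_spec hp hXL hxp hu hT w n, pow_succ, Equiv.Perm.mul_apply]

theorem relB_iff {XL : List ℕ} {p k T : ℕ} {x u t : Equiv.Perm GolayPt} (hp : 0 < p)
    (hXL : ∀ a < p, Packs (XL.getD a 0) (x ^ a)) (hxp : x ^ p = 1) (hu : u = x ^ k) (hT : Packs T t) (r : List ℕ × ℕ) :
    relB XL p k T r = true ↔ (wv u t r.1) ^ r.2 = 1 := by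
  rw [relB, List.all_eq_true]
  constructor
  · intro h
    ext1 q
    apply idx_injective
    rw [← wIn_spec hp hXL hxp hu hT]
    exact Nat.eq_of_beq_eq_true (h _ (mem_ixs.mpr (idx_lt q)))
  · intro h i hi
    have h1 := wIn_spec hp hXL hxp hu hT r.1 r.2 (pt i)
    rw [h, idx_pt (mem_ixs.mp hi), Equiv.Perm.one_apply, idx_pt (mem_ixs.mp hi)] at h1
    rw [h1]; exact Nat.beq_refl _

theorem map_wv {G H : Type*} [Group G] [Group H] (f : G →* H) (x t : G) : ∀ w, f (wv x t w) = wv (f x) (f t) w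
  | [] => map_one f
  | a :: w => by rw [wv, wv, map_mul, map_pow, map_mul, map_wv f x t w]

/-- powers of a packed permutation -/
def powL (X p : ℕ) (XL : List ℕ) : Bool :=
  (List.range p).all fun a => ixs.all fun i => Nat.beq (img (XL.getD a 0) i) (iter X a i)

theorem powL_spec {X p : ℕ} {XL : List ℕ} (h : powL X p XL = true) {x : Equiv.Perm GolayPt} (hX : Packs X x) :
    ∀ a < p, Packs (XL.getD a 0) (x ^ a) := by
  intro a ha q
  rw [powL, List.all_eq_true] at h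
  have h1 := h a (List.mem_range.mpr ha)
  rw [List.all_eq_true] at h1
  rw [← iter_spec hX a q]
  exact (Nat.eq_of_beq_eq_true (h1 _ (mem_ixs.mpr (idx_lt q)))).symm

/-! ### Candidates for an involution with an octad of fixed points -/

def covB (XL : List ℕ) (cand : List (ℕ × ℕ × ℕ)) : Bool :=
  allC (fun m => or (not (Nat.beq (pop m) 8)) (XL.any fun X => cand.any fun e => Nat.beq e.1 (act X m))) rows 0

def candB (cand : List (ℕ × ℕ × ℕ)) : Bool :=
  cand.all fun e => and (and (Nat.blt e.1 (2 ^ 24)) (good e.2.1)) (and (Nat.beq (act e.2.1 0x149f) e.1)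
    (ixs.all fun i => Nat.beq (img e.2.2 (img e.2.1 i)) i))

theorem base_six' {g : Equiv.Perm GolayPt} (hg : g ∈ M24) (hf : ∀ p ∈ O0, g p = p) : ∃ e ∈ lev6, Packs e.2 g := by
  have m : ∀ i ∈ [0, 1, 2, 3, 4, 7], pt i ∈ O0 := by
    intro i hi; rw [mem_O0]; simp only [List.mem_cons, List.not_mem_nil, or_false] at hi
    rcases hi with rfl | rfl | rfl | rfl | rfl | rfl <;> tauto
  obtain ⟨e, he, hP, -⟩ := base_six hg (hf _ (m 0 (by simp))) (hf _ (m 1 (by simp))) (hf _ (m 2 (by simp)))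
    (hf _ (m 3 (by simp))) (hf _ (m 4 (by simp))) (hf _ (m 7 (by simp)))
  exact ⟨e, he, hP⟩

theorem cand_spec {XL : List ℕ} {p : ℕ} {cand : List (ℕ × ℕ × ℕ)} (hcov : covB XL cand = true) (hcand : candB cand = true)
    {x : Equiv.Perm GolayPt} (hlen : XL.length = p) (hXL : ∀ a < p, Packs (XL.getD a 0) (x ^ a)) (hxM : x ∈ M24)
    {t : Equiv.Perm GolayPt} (ht : t ∈ M24) (hF : (Finset.univ.filter fun q => t q = q) ∈ octads) :
    ∃ i : ℕ, ∃ e ∈ cand, ∃ f ∈ lev6, Packs (mulP e.2.1 (mulP f.2 e.2.2)) (x ^ i * t * (x ^ i)⁻¹) := by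
  set F := (Finset.univ.filter fun q => t q = q) with hFdef
  have h1 := forall_code _ hcov hF.1
  rw [(mem_octads_iff.mp hF).2, Nat.beq_refl, Bool.not_true, Bool.false_or, List.any_eq_true] at h1
  obtain ⟨X, hX, h2⟩ := h1
  rw [List.any_eq_true] at h2
  obtain ⟨e, he, h3⟩ := h2
  obtain ⟨i, hi, rfl⟩ := List.getElem_of_mem hX
  have hXi := hXL i (by rw [← hlen]; exact hi)
  rw [List.getD_eq_getElem _ _ hi] at hXi
  have h4 : (x ^ i) • F = toFS e.1 := by
    rw [← toFS_mask ((x ^ i) • F), hXi.mask_smul, Nat.eq_of_beq_eq_true h3]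
  have h5 := List.all_eq_true.mp hcand e he
  simp only [Bool.and_eq_true, List.all_eq_true, Nat.beq_eq] at h5
  obtain ⟨⟨-, h6⟩, h7, h8⟩ := h5
  obtain ⟨g, hg, hgP⟩ := exists_of_good h6
  have hgi : Packs e.2.2 g⁻¹ := by
    intro q
    have h9 := h8 (idx (g⁻¹ q)) (mem_ixs.mpr (idx_lt _))
    rw [← hgP, app_inv] at h9
    exact h9.symm
  have hgO : g • O0 = toFS e.1 := by
    rw [← toFS_mask (g • O0), hgP.mask_smul, mask_O0, h7]
  set t' := x ^ i * t * (x ^ i)⁻¹ with ht'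
  have ht'M : t' ∈ M24 := mul_mem (mul_mem (pow_mem hxM i) ht) (inv_mem (pow_mem hxM i))
  have hfix : ∀ q ∈ toFS e.1, t' q = q := by
    intro q hq
    rw [← h4, hFdef, ← fix_conj] at hq
    exact (Finset.mem_filter.mp hq).2
  obtain ⟨f, hf, hfP⟩ := base_six' (g := g⁻¹ * t' * g) (mul_mem (mul_mem (inv_mem hg) ht'M) hg) (by
    intro q hq
    have h9 : g q ∈ toFS e.1 := by rw [← hgO]; exact mem_smul_iff.mpr hq
    rw [Equiv.Perm.mul_apply, Equiv.Perm.mul_apply, hfix _ h9, Equiv.Perm.inv_eq_iff_eq])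
  refine ⟨i, e, he, f, hf, ?_⟩
  have h10 := hgP.mul (hfP.mul hgi)
  have h11 : g * (g⁻¹ * t' * g * g⁻¹) = t' := by group
  rwa [h11] at h10

/-! ### Automorphisms -/

theorem aut_norm {G : Type*} [Group G] [Finite G] {p : ℕ} (hp : p.Prime) (hp2 : ¬ p ^ 2 ∣ Nat.card G) {x : G}
    (hx : orderOf x = p) (φ : G ≃* G) : ∃ g : G, ∃ k < p, k ≠ 0 ∧ g * φ x * g⁻¹ = x ^ k := by
  classical
  haveI : Fact p.Prime := ⟨hp⟩
  have hpd : p ∣ Nat.card G := by rw [← hx]; exact orderOf_dvd_natCard x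
  have hfac : (Nat.card G).factorization p = 1 := by
    have h1 := (Nat.Prime.dvd_iff_one_le_factorization hp Nat.card_pos.ne').mp hpd
    have h2 : ¬ 2 ≤ (Nat.card G).factorization p := by
      intro h
      exact hp2 ((Nat.Prime.pow_dvd_iff_le_factorization hp Nat.card_pos.ne').mpr h)
    omega
  have hφ : orderOf (φ x) = p := by rw [MulEquiv.orderOf_eq, hx]
  have hP : Nat.card (Subgroup.zpowers x) = p ^ (Nat.card G).factorization p := by
    rw [Nat.card_zpowers, hx, hfac, pow_one]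
  have hQ : Nat.card (Subgroup.zpowers (φ x)) = p ^ (Nat.card G).factorization p := by
    rw [Nat.card_zpowers, hφ, hfac, pow_one]
  let P : Sylow p G := Sylow.ofCard _ hP
  let Q : Sylow p G := Sylow.ofCard _ hQ
  obtain ⟨g, hg⟩ := MulAction.exists_smul_eq G Q P
  have hmem : g * φ x * g⁻¹ ∈ Subgroup.zpowers x := by
    have h1 : φ x ∈ (Q : Subgroup G) := Subgroup.mem_zpowers _
    have h2 : g * φ x * g⁻¹ ∈ ((g • Q : Sylow p G) : Subgroup G) := by
      rw [Sylow.coe_subgroup_smul]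
      exact ⟨φ x, h1, rfl⟩
    rw [hg] at h2
    exact h2
  rw [← mem_powers_iff_mem_zpowers, mem_powers_iff_mem_range_orderOf, hx, Finset.mem_image] at hmem
  obtain ⟨k, hk, hk2⟩ := hmem
  refine ⟨g, k, Finset.mem_range.mp hk, ?_, hk2.symm⟩
  rintro rfl
  rw [pow_zero] at hk2
  have : φ x = 1 := by
    have e : φ x = g⁻¹ * (g * φ x * g⁻¹) * g := by group
    rw [e, ← hk2]; group
  rw [this, orderOf_one] at hφ
  exact hp.one_lt.ne hφ

theorem aut_norm2 {G : Type*} [Group G] [Finite G] {p : ℕ} (hp : p.Prime) (hp2 : ¬ p ^ 2 ∣ Nat.card G) {x y : G}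
    (hx : orderOf x = p) {s : ℕ} (hy : y * x * y⁻¹ = x ^ s)
    (hs : ∀ k < p, k ≠ 0 → ∃ j < p, (s ^ j * k) % p = 1 ∨ (s ^ j * k) % p = p - 1)
    (φ : G ≃* G) : ∃ g : G, ∃ k ∈ [1, p - 1], g * φ x * g⁻¹ = x ^ k := by
  obtain ⟨g, k, hk, hk0, h⟩ := aut_norm hp hp2 hx φ
  obtain ⟨j, hj, h2⟩ := hs k hk hk0
  have key : ∀ j, y ^ j * x * (y ^ j)⁻¹ = x ^ (s ^ j) := by
    intro j
    induction j with
    | zero => simp
    | succ j ih =>
      have : y ^ (j + 1) * x * (y ^ (j + 1))⁻¹ = y * (y ^ j * x * (y ^ j)⁻¹) * y⁻¹ := by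
        rw [pow_succ']; group
      rw [this, ih, ← conj_pow, hy, ← pow_mul, pow_succ']
  have h3 : y ^ j * g * φ x * (y ^ j * g)⁻¹ = x ^ ((s ^ j * k) % p) := by
    have : y ^ j * g * φ x * (y ^ j * g)⁻¹ = y ^ j * (g * φ x * g⁻¹) * (y ^ j)⁻¹ := by group
    rw [this, h, ← conj_pow, key, ← pow_mul]
    conv_rhs => rw [← hx, pow_mod_orderOf]
  refine ⟨y ^ j * g, (s ^ j * k) % p, ?_, h3⟩
  rcases h2 with h2 | h2 <;> rw [h2] <;> simp

/-- the check over all candidates: only the pairs in `sol` satisfy the relations -/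
noncomputable def solB (mem : ℕ → Bool) (XL : List ℕ) (p : ℕ) (cand : List (ℕ × ℕ × ℕ)) (rels : List (List ℕ × ℕ)) (sol : List (ℕ × ℕ)) : Bool :=
  cand.all fun e => lev6.all fun f => or (Nat.beq f.1 5)
    (or (not (mem (mulP e.2.1 (mulP f.2 e.2.2)))) ([1, p - 1].all fun k =>
      or (not (rels.all fun r => relB XL p k (mulP e.2.1 (mulP f.2 e.2.2)) r))
        (sol.any fun s => and (Nat.beq s.1 k) (Nat.beq s.2 (mulP e.2.1 (mulP f.2 e.2.2))))))

theorem aut_solve {G : Subgroup (Equiv.Perm GolayPt)} (hGM : G ≤ M24) {p : ℕ} (hp : p.Prime)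
    (hp2 : ¬ p ^ 2 ∣ Nat.card G) {x t y : G} (hx : orderOf x = p) {s : ℕ} (hy : y * x * y⁻¹ = x ^ s)
    (hs : ∀ k < p, k ≠ 0 → ∃ j < p, (s ^ j * k) % p = 1 ∨ (s ^ j * k) % p = p - 1)
    {X T : ℕ} {XL : List ℕ} (hX : Packs X x) (hpow : powL X p XL = true) (hlen : XL.length = p) (hT : Packs T t)
    {mem : ℕ → Bool} (hmem : ∀ T (g : Equiv.Perm GolayPt), g ∈ G → Packs T g → mem T = true)
    {cand : List (ℕ × ℕ × ℕ)} (hcov : covB XL cand = true) (hcand : candB cand = true)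
    {rels : List (List ℕ × ℕ)} (hrel : (rels.all fun r => relB XL p 1 T r) = true)
    {sol : List (ℕ × ℕ)} (hsol : solB mem XL p cand rels sol = true) (φ : G ≃* G)
    (hφ : (Finset.univ.filter fun q => ((φ t : G) : Equiv.Perm GolayPt) q = q) ∈ octads) :
    ∃ g : G, ∃ kT ∈ sol, g * φ x * g⁻¹ = x ^ kT.1 ∧ Packs kT.2 ((g * φ t * g⁻¹ : G) : Equiv.Perm GolayPt) := by
  obtain ⟨g, k, hk, hgx⟩ := aut_norm2 hp hp2 hx hy hs φ
  set t₁ : G := g * φ t * g⁻¹ with ht₁
  have hF : (Finset.univ.filter fun q => (t₁ : Equiv.Perm GolayPt) q = q) ∈ octads := by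
    have h1 : (t₁ : Equiv.Perm GolayPt) = (g : Equiv.Perm GolayPt) * (φ t : G) * (g : Equiv.Perm GolayPt)⁻¹ := rfl
    rw [h1, fix_conj]
    exact (smul_mem_octads (hGM g.2)).mpr hφ
  have hXL := powL_spec hpow hX
  have hxp : (x : Equiv.Perm GolayPt) ^ p = 1 := by
    have : x ^ p = 1 := by rw [← hx]; exact pow_orderOf_eq_one x
    exact congrArg Subtype.val this
  obtain ⟨i, e, he, f, hf, hP⟩ := cand_spec hcov hcand hlen hXL (hGM x.2) (hGM t₁.2) hF
  set T' := mulP e.2.1 (mulP f.2 e.2.2) with hT'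
  set t₂ : G := x ^ i * t₁ * (x ^ i)⁻¹ with ht₂
  have hP' : Packs T' (t₂ : Equiv.Perm GolayPt) := hP
  have hgx2 : (x ^ i * g) * φ x * (x ^ i * g)⁻¹ = x ^ k := by
    have : (x ^ i * g) * φ x * (x ^ i * g)⁻¹ = x ^ i * (g * φ x * g⁻¹) * (x ^ i)⁻¹ := by group
    rw [this, hgx]
    have h1 : x ^ i * x ^ k = x ^ k * x ^ i := by rw [← pow_add, ← pow_add, add_comm]
    rw [h1, mul_inv_cancel_right]
  have hgt2 : (x ^ i * g) * φ t * (x ^ i * g)⁻¹ = t₂ := by rw [ht₂, ht₁]; group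
  have h1 := List.all_eq_true.mp hsol e he
  rw [List.all_eq_true] at h1
  have h2 := h1 f hf
  rw [Bool.or_eq_true] at h2
  have hne : ¬ (Nat.beq f.1 5 = true) := by
    intro h5
    have key : lev6.all (fun f => or (not (Nat.beq f.1 5)) (ixs.all fun i => Nat.beq (img f.2 i) i)) = true := by decide +kernel
    have h6 := List.all_eq_true.mp key f hf
    rw [h5, Bool.not_true, Bool.false_or, List.all_eq_true] at h6
    -- then `t₂ = 1`, contradiction with the fixed points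
    have h7 := List.all_eq_true.mp hcand e he
    simp only [Bool.and_eq_true, List.all_eq_true, Nat.beq_eq] at h7
    obtain ⟨⟨-, h8⟩, -, h9⟩ := h7
    obtain ⟨c, hc, hcP⟩ := exists_of_good h8
    have hci : Packs e.2.2 c⁻¹ := by
      intro q
      have h9 := h9 (idx (c⁻¹ q)) (mem_ixs.mpr (idx_lt _))
      rw [← hcP, app_inv] at h9
      exact h9.symm
    have hf1 : Packs f.2 1 := fun q => (Nat.eq_of_beq_eq_true (h6 (idx q) (mem_ixs.mpr (idx_lt q)))).symm
    have h10 : (t₂ : Equiv.Perm GolayPt) = 1 := by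
      have h11 := hP'.eq (hcP.mul (hf1.mul hci))
      rw [h11]; group
    have h12 : t₂ = 1 := Subtype.ext h10
    rw [← hgt2] at h12
    have h13 : φ t = 1 := by
      have e : φ t = (x ^ i * g)⁻¹ * ((x ^ i * g) * φ t * (x ^ i * g)⁻¹) * (x ^ i * g) := by group
      rw [e, h12]; group
    rw [h13] at hφ
    have h14 := card_octad hφ
    have h15 : (Finset.univ.filter fun q => ((1 : G) : Equiv.Perm GolayPt) q = q) = Finset.univ := by
      ext q; simp
    rw [h15] at h14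
    have h24 : (Finset.univ : Finset GolayPt).card = 24 := by decide
    omega
  have h3 := h2.resolve_left hne
  rw [hmem T' t₂ t₂.2 hP', Bool.not_true, Bool.false_or, List.all_eq_true] at h3
  have h4 := h3 k hk
  rw [Bool.or_eq_true] at h4
  have hrels : (rels.all fun r => relB XL p k T' r) = true := by
    rw [List.all_eq_true] at hrel ⊢
    intro r hr
    have h5 := hrel r hr
    rw [relB_iff hp.pos hXL hxp (pow_one _).symm hT] at h5
    rw [relB_iff (x := (x : Equiv.Perm GolayPt)) (u := ((x ^ k : G) : Equiv.Perm GolayPt)) hp.pos hXL hxp rfl hP']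
    have h6 : (wv x t r.1) ^ r.2 = 1 := by
      apply Subtype.ext
      have h7 := map_wv G.subtype x t r.1
      show G.subtype ((wv x t r.1) ^ r.2) = 1
      rw [map_pow, h7]; exact h5
    have h8 : (wv (x ^ k) t₂ r.1) ^ r.2 = 1 := by
      have h9 := map_wv ((MulAut.conj (x ^ i * g)).toMonoidHom.comp φ.toMonoidHom) x t r.1
      have e1 : ((MulAut.conj (x ^ i * g)).toMonoidHom.comp φ.toMonoidHom) x = x ^ k := hgx2
      have e2 : ((MulAut.conj (x ^ i * g)).toMonoidHom.comp φ.toMonoidHom) t = t₂ := hgt2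
      rw [e1, e2] at h9
      rw [← h9, ← map_pow, h6, map_one]
    have h10 := map_wv G.subtype (x ^ k) t₂ r.1
    have h11 : G.subtype ((wv (x ^ k) t₂ r.1) ^ r.2) = 1 := by rw [h8, map_one]
    rw [map_pow, h10] at h11
    exact h11
  have h5 := h4.resolve_left (by rw [hrels]; simp)
  rw [List.any_eq_true] at h5
  obtain ⟨kT, hkT, h6⟩ := h5
  rw [Bool.and_eq_true, Nat.beq_eq, Nat.beq_eq] at h6
  refine ⟨x ^ i * g, kT, hkT, ?_, ?_⟩
  · rw [h6.1]; exact hgx2
  · rw [h6.2, hgt2]; exact hP'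

end CfsgLib.Golay
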