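import Mathlib
import Cfsg.Agent.Lib.GolayOutT
import Cfsg.Agent.Lib.GolayM
import Cfsg.Agent.S5522

/-!
Outer automorphism groups of the Mathieu groups: common arguments.
-/

set_option autoImplicit false

namespace CfsgLib.Golay

open Cfsg
open scoped Pointwise

theorem out_eq_one {G : Type*} [Group G] (h : ∀ φ : MulAut G, φ ∈ Cfsg.Inn G) : Nat.card (Cfsg.Out G) = 1 := by
  have h1 : Cfsg.Inn G = ⊤ := by rw [eq_top_iff]; intro φ _; exact h φ
  show (Cfsg.Inn G).index = 1
  rw [h1]; exact Subgroup.index_top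

theorem out_eq_two {G : Type*} [Group G] (α : MulAut G) (hα : α ∉ Cfsg.Inn G)
    (h : ∀ φ ψ : MulAut G, φ ∉ Cfsg.Inn G → ψ ∉ Cfsg.Inn G → φ * ψ⁻¹ ∈ Cfsg.Inn G) : Nat.card (Cfsg.Out G) = 2 := by
  show (Cfsg.Inn G).index = 2
  rw [Subgroup.index_eq_two_iff]
  refine ⟨α⁻¹, fun b => ?_⟩
  by_cases hb : b ∈ Cfsg.Inn G
  · right
    refine ⟨hb, fun hc => hα ?_⟩
    have h1 := mul_mem (inv_mem hb) hc
    rw [inv_mul_cancel_left] at h1
    exact inv_mem_iff.mp h1
  · left
    exact ⟨h b α hb hα, hb⟩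

theorem inner_of_agree {G : Type*} [Group G] {x t : G} (hgen : Subgroup.closure {x, t} = ⊤) (φ ψ : MulAut G) (g g' : G)
    (h1 : g * φ x * g⁻¹ = g' * ψ x * g'⁻¹) (h2 : g * φ t * g⁻¹ = g' * ψ t * g'⁻¹) : φ * ψ⁻¹ ∈ Cfsg.Inn G := by
  have h3 : (MulAut.conj g * φ : MulAut G).toMonoidHom = (MulAut.conj g' * ψ : MulAut G).toMonoidHom := by
    apply MonoidHom.eq_of_eqOn_dense hgen
    intro a ha
    rcases ha with rfl | ha
    · exact h1
    · rw [Set.mem_singleton_iff] at ha
      subst ha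
      exact h2
  have h4 : MulAut.conj g * φ = MulAut.conj g' * ψ := by
    ext a; exact DFunLike.congr_fun h3 a
  refine ⟨g⁻¹ * g', ?_⟩
  rw [map_mul, map_inv]
  have h5 : φ = (MulAut.conj g)⁻¹ * (MulAut.conj g' * ψ) := by rw [← h4, inv_mul_cancel_left]
  rw [h5]; group

theorem inner_of_fix {G : Type*} [Group G] {x t : G} (hgen : Subgroup.closure {x, t} = ⊤) (φ : MulAut G) (g : G)
    (h1 : g * φ x * g⁻¹ = x) (h2 : g * φ t * g⁻¹ = t) : φ ∈ Cfsg.Inn G := by
  have := inner_of_agree hgen φ 1 g 1 (by rw [h1]; simp) (by rw [h2]; simp)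
  simpa using this

def idP : ℕ := 984818244535754528103549039458486304

theorem packs_one : Packs idP (1 : Equiv.Perm GolayPt) := by
  have key : (ixs.all fun i => Nat.beq (img idP i) i) = true := by decide +kernel
  intro q
  exact (Nat.eq_of_beq_eq_true (List.all_eq_true.mp key _ (mem_ixs.mpr (idx_lt q)))).symm

theorem gen_top {G : Subgroup (Equiv.Perm GolayPt)} {x t : G} {X T : ℕ} (hX : Packs X x) (hT : Packs T t)
    {ops : List (ℕ × ℕ × ℕ)} {Ls : List (ℕ × List (ℕ × ℕ))}
    (h1 : slpB [T, X, idP] ops = true) (h2 : chainB (slpA [T, X, idP] ops) [] Ls = true)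
    (h3 : Nat.card G = chainN Ls) : Subgroup.closure {x, t} = (⊤ : Subgroup G) := by
  have h4 : (Subgroup.closure {x, t}).map G.subtype = G := by
    apply gen_of_chain _ (x := x) (t := t) _ _ hX hT packs_one h1 h2 h3
    · rintro _ ⟨a, -, rfl⟩; exact a.2
    · exact ⟨x, Subgroup.subset_closure (Set.mem_insert _ _), rfl⟩
    · exact ⟨t, Subgroup.subset_closure (Set.mem_insert_of_mem _ rfl), rfl⟩
  rw [eq_top_iff]
  intro a _
  have h5 : (a : Equiv.Perm GolayPt) ∈ (Subgroup.closure {x, t}).map G.subtype := by rw [h4]; exact a.2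
  obtain ⟨b, hb, hba⟩ := h5
  rwa [Subtype.ext hba] at hb

theorem orderOf_packs {P p : ℕ} (hp : p.Prime) {g : Equiv.Perm GolayPt} (hP : Packs P g) (h : ordB p P = true)
    (h1 : (ixs.any fun i => not (Nat.beq (img P i) i)) = true) : orderOf g = p := by
  haveI : Fact p.Prime := ⟨hp⟩
  apply orderOf_eq_prime
  · ext1 q
    apply idx_injective
    rw [← iter_spec hP p q, Equiv.Perm.one_apply]
    exact Nat.eq_of_beq_eq_true (List.all_eq_true.mp h _ (mem_ixs.mpr (idx_lt q)))
  · rintro rfl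
    rw [List.any_eq_true] at h1
    obtain ⟨i, hi, h2⟩ := h1
    have h3 := hP (pt i)
    rw [Equiv.Perm.one_apply, idx_pt (mem_ixs.mp hi)] at h3
    rw [← h3] at h2
    simp at h2

theorem smul_toFS_iff {P m n : ℕ} {g : Equiv.Perm GolayPt} (hP : Packs P g) (hm : m < 2 ^ 24) (hn : n < 2 ^ 24) :
    g • toFS m = toFS n ↔ act P m = n := by
  have h := hP.mask_smul (toFS m)
  rw [mask_toFS hm] at h
  constructor
  · intro h1; rw [h1, mask_toFS hn] at h; exact h.symm
  · intro h1
    rw [← toFS_mask (g • toFS m), h, h1]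

/-! ### Octad type -/

theorem octad_of_fix {G : Subgroup (Equiv.Perm GolayPt)} (hGM : G ≤ M24) (a : GolayPt) (ha : ∀ g ∈ G, g a = a)
    {t : G} (ht : orderOf t = 2) (φ : MulAut G) :
    (Finset.univ.filter fun q => ((φ t : G) : Equiv.Perm GolayPt) q = q) ∈ octads := by
  have h2 : orderOf ((φ t : G) : Equiv.Perm GolayPt) = 2 := by
    rw [Subgroup.orderOf_coe, MulEquiv.orderOf_eq, ht]
  rcases Cfsg.Agent.S5394.cls (hGM (φ t).2) h2 with ⟨_, _, _, h⟩ | ⟨_, _, _, h⟩
  · exact absurd (ha _ (φ t).2) (h a)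
  · exact h

theorem card_fix5 {v : Equiv.Perm GolayPt} (hv : v ∈ M24) (h5 : orderOf v = 5) : (Finset.univ.filter fun q => v q = q).card = 4 := by
  have h1 : v ≠ 1 := by rintro rfl; simp at h5
  obtain ⟨k, -, e, he, h, -⟩ := class5 hv (by rw [← h5]; exact pow_orderOf_eq_one v) h1
  have key : (ctab5.all fun e => (Nat.beq (pop (ixs.foldr (fun i acc => if Nat.beq (img e.1 i) i then Nat.lor acc (Nat.shiftLeft 1 i) else acc) 0)) 4
    && chkFixP e.1 (ixs.foldr (fun i acc => if Nat.beq (img e.1 i) i then Nat.lor acc (Nat.shiftLeft 1 i) else acc) 0)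
    && Nat.blt (ixs.foldr (fun i acc => if Nat.beq (img e.1 i) i then Nat.lor acc (Nat.shiftLeft 1 i) else acc) 0) (2 ^ 24))) = true := by
    decide +kernel
  have h2 := List.all_eq_true.mp key e he
  rw [Bool.and_eq_true, Bool.and_eq_true] at h2
  obtain ⟨⟨h3, h4⟩, h6⟩ := h2
  have h7 := fix_eq h4 h
  rw [fix_conj] at h7
  have h8 := congrArg Finset.card h7
  rw [card_smul', card_toFS (Nat.le_of_ble_eq_true h6), Nat.eq_of_beq_eq_true h3] at h8
  exact h8

/-- an involution fixing an octad pointwise commutes with no element of order `5` -/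
theorem no5 {t v : Equiv.Perm GolayPt} (htF : (Finset.univ.filter fun q => t q = q) ∈ octads) (hv : v ∈ M24) (h5 : orderOf v = 5)
    (hc : Commute t v) : False := by
  classical
  set F := Finset.univ.filter fun q => t q = q with hF
  set V := Finset.univ.filter fun q => v q = q with hV
  have hv4 : V.card = 4 := card_fix5 hv h5
  have hvF : v • F = F := by
    rw [hF, ← fix_conj, hc.symm.eq, mul_inv_cancel_right]
  have hmod := Cfsg.Agent.S5522.fix_mod (by norm_num : Nat.Prime 5) (by rw [← h5]; exact pow_orderOf_eq_one v) hvF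
  have h8 : F.card = 8 := card_octad htF
  have h9 : F.filter (fun x => v x = x) ⊆ V := by
    intro q hq; exact Finset.mem_filter.mpr ⟨Finset.mem_univ _, (Finset.mem_filter.mp hq).2⟩
  have h10 : (F.filter fun x => v x = x).card ≤ 4 := by rw [← hv4]; exact Finset.card_le_card h9
  rw [h8] at hmod
  have h11 : (F.filter fun x => v x = x).card = 3 := by
    unfold Nat.ModEq at hmod
    omega
  have h12 : (V \ F.filter fun x => v x = x).card = 1 := by
    rw [Finset.card_sdiff_of_subset h9, hv4, h11]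
  rw [Finset.card_eq_one] at h12
  obtain ⟨a, ha⟩ := h12
  have haV : a ∈ V \ F.filter fun x => v x = x := by rw [ha]; exact Finset.mem_singleton_self _
  rw [Finset.mem_sdiff] at haV
  have hva : v a = a := (Finset.mem_filter.mp haV.1).2
  have haF : a ∉ F := fun h => haV.2 (Finset.mem_filter.mpr ⟨h, hva⟩)
  have hta : t a ∈ V \ F.filter fun x => v x = x := by
    rw [Finset.mem_sdiff]
    have h13 : v (t a) = t a := by
      have := congrArg (fun f : Equiv.Perm GolayPt => f a) hc.eq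
      simp only [Equiv.Perm.mul_apply] at this
      rw [hva] at this
      exact this.symm
    refine ⟨Finset.mem_filter.mpr ⟨Finset.mem_univ _, h13⟩, fun h14 => haF ?_⟩
    have h15 := (Finset.mem_filter.mp (Finset.mem_filter.mp h14).1).2
    exact Finset.mem_filter.mpr ⟨Finset.mem_univ _, t.injective h15⟩
  rw [ha, Finset.mem_singleton] at hta
  exact haF (Finset.mem_filter.mpr ⟨Finset.mem_univ _, hta⟩)

theorem octad_of_no5 {G : Subgroup (Equiv.Perm GolayPt)} (hGM : G ≤ M24)
    (hfpf : ∀ u ∈ G, orderOf u = 2 → (∀ p, u p ≠ p) → ∃ v ∈ G, orderOf v = 5 ∧ Commute u v)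
    {t : G} (ht : orderOf t = 2) (htF : (Finset.univ.filter fun q => (t : Equiv.Perm GolayPt) q = q) ∈ octads) (φ : MulAut G) :
    (Finset.univ.filter fun q => ((φ t : G) : Equiv.Perm GolayPt) q = q) ∈ octads := by
  have h2 : orderOf ((φ t : G) : Equiv.Perm GolayPt) = 2 := by
    rw [Subgroup.orderOf_coe, MulEquiv.orderOf_eq, ht]
  rcases Cfsg.Agent.S5394.cls (hGM (φ t).2) h2 with ⟨_, _, _, h⟩ | ⟨_, _, _, h⟩
  · exfalso
    obtain ⟨v, hv, h5, hc⟩ := hfpf _ (φ t).2 h2 h
    set w : G := φ.symm ⟨v, hv⟩ with hw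
    have hw5 : orderOf w = 5 := by
      rw [hw, MulEquiv.orderOf_eq, ← Subgroup.orderOf_coe]; exact h5
    have hcw : Commute t w := by
      have h1 : Commute (φ t) (⟨v, hv⟩ : G) := Subtype.ext hc
      have h3 := h1.map φ.symm.toMonoidHom
      have e : φ.symm.toMonoidHom (φ t) = t := φ.symm_apply_apply t
      rw [e] at h3
      exact h3
    exact no5 htF (hGM w.2) (by rw [Subgroup.orderOf_coe]; exact hw5) (congrArg Subtype.val hcw : (t : Equiv.Perm GolayPt) * w = w * t)
  · exact h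

end CfsgLib.Golay
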