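import Cfsg.Agent.Lib.GolayPairs
import Cfsg.Agent.Lib.GolayTriads
import Cfsg.Agent.Lib.GolayOct

/-!
# Stabilizers of pairs of octads, hexads, six-sets
-/

set_option autoImplicit false

namespace CfsgLib.Golay

open Cfsg
open scoped Pointwise

theorem app_inv (k : Equiv.Perm GolayPt) (p : GolayPt) : k (k⁻¹ p) = p := k.apply_symm_apply p

theorem inter_comm_card (o o' : Finset GolayPt) : (o ∩ o').card = (o' ∩ o).card := by rw [Finset.inter_comm]

/-- the stabilizer of an octad is transitive on the octads with given intersection -/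
theorem pairTrans {o o' o₁ : Finset GolayPt} (ho : o ∈ octads) (ho' : o' ∈ octads) (ho₁ : o₁ ∈ octads)
    (h : (o ∩ o').card = (o ∩ o₁).card) : ∃ g ∈ M24, g • o = o ∧ g • o' = o₁ := by
  by_cases hne : o = o'
  · subst hne
    have h8 : o.card = 8 := (mem_octads_iff.mp ho).2 ▸ card_eq_pop o
    have h1 : (o ∩ o₁).card = 8 := by rw [← h, Finset.inter_self, h8]
    have h2 := eq_of_five ho ho₁ (by omega)
    subst h2
    exact ⟨1, M24.one_mem, one_smul _ _, one_smul _ _⟩
  rcases octad_inter_octad ho ho' hne with h0 | h2 | h4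
  · obtain ⟨g, hg, e1, e2⟩ := pair0 ho ho' h0
    obtain ⟨k, hk, f1, f2⟩ := pair0 ho ho₁ (h ▸ h0)
    exact ⟨_, combine hg hk e1 e2 f1 f2⟩
  · obtain ⟨x, y, hxy, hs⟩ := Finset.card_eq_two.mp h2
    obtain ⟨x', y', hxy', hs'⟩ := Finset.card_eq_two.mp (h ▸ h2)
    obtain ⟨g, hg, e1, e2, -⟩ := pair2 ho ho' h2 (x := x) (y := y) (by rw [hs]; simp) (by rw [hs]; simp) hxy
    obtain ⟨k, hk, f1, f2, -⟩ := pair2 ho ho₁ (h ▸ h2) (x := x') (y := y') (by rw [hs']; simp) (by rw [hs']; simp) hxy'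
    exact ⟨_, combine hg hk e1 e2 f1 f2⟩
  · obtain ⟨l, hl, h4l, hlo⟩ := exists_list_of_le_card (s := o ∩ o') (n := 4) h4.ge
    obtain ⟨l', hl', h4l', hlo'⟩ := exists_list_of_le_card (s := o ∩ o₁) (n := 4) (h ▸ h4).ge
    obtain ⟨g, hg, e1, e2, -⟩ := pair4 ho ho' h4 hl h4l hlo
    obtain ⟨k, hk, f1, f2, -⟩ := pair4 ho ho₁ (h ▸ h4) hl' h4l' hlo'
    exact ⟨_, combine hg hk e1 e2 f1 f2⟩

theorem card_octad {o : Finset GolayPt} (ho : o ∈ octads) : o.card = 8 := (mem_octads_iff.mp ho).2 ▸ card_eq_pop o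

theorem inter_smul_card (g : Equiv.Perm GolayPt) (s t : Finset GolayPt) : (g • s ∩ g • t).card = (s ∩ t).card := by
  rw [← smul_inter', card_smul']

theorem octads_count (k n : ℕ) (h : cntC (fun m => and (Nat.beq (pop m) 8) (Nat.beq (pop (Nat.land 5279 m)) k)) rows 0 = n)
    {o : Finset GolayPt} (ho : o ∈ octads) : {y : Finset GolayPt | y ∈ octads ∧ (o ∩ y).card = k}.ncard = n := by
  obtain ⟨g, hg, hgo⟩ := octads_transitive ho O0_mem
  rw [ncard_transfer g (fun y => y ∈ octads ∧ (o ∩ y).card = k) (fun y => y ∈ octads ∧ (O0 ∩ y).card = k) (by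
    intro s
    rw [smul_mem_octads hg, ← hgo, inter_smul_card])]
  refine count_code (p := fun m => and (Nat.beq (pop m) 8) (Nat.beq (pop (Nat.land 5279 m)) k)) ?_ h
  intro s
  rw [octads_iff', Bool.and_eq_true, and_assoc]
  refine and_congr Iff.rfl (and_congr Iff.rfl ?_)
  have h1 : (O0 ∩ s).card = pop (Nat.land 5279 (mask s)) := by
    have h2 := inter_card_eq (a := 5279) (by norm_num) s
    rw [← h2]
    congr 2
  rw [h1]
  exact Nat.beq_eq.symm ▸ Iff.rfl

theorem count0 {o : Finset GolayPt} (ho : o ∈ octads) : {y : Finset GolayPt | y ∈ octads ∧ (o ∩ y).card = 0}.ncard = 30 :=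
  octads_count 0 30 (by decide +kernel) ho
theorem count4 {o : Finset GolayPt} (ho : o ∈ octads) : {y : Finset GolayPt | y ∈ octads ∧ (o ∩ y).card = 4}.ncard = 280 :=
  octads_count 4 280 (by decide +kernel) ho
theorem count2 {o : Finset GolayPt} (ho : o ∈ octads) : {y : Finset GolayPt | y ∈ octads ∧ (o ∩ y).card = 2}.ncard = 448 :=
  octads_count 2 448 (by decide +kernel) ho

/-- joint stabilizer of two sets -/
def JS (s t : Finset GolayPt) : Subgroup (Equiv.Perm GolayPt) := PSd s [] ⊓ MulAction.stabilizer (Equiv.Perm GolayPt) t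

theorem mem_JS {s t : Finset GolayPt} {g : Equiv.Perm GolayPt} : g ∈ JS s t ↔ g ∈ M24 ∧ g • s = s ∧ g • t = t := by
  unfold JS
  rw [Subgroup.mem_inf, mem_PSd, MulAction.mem_stabilizer_iff]
  simp [and_assoc]

theorem JS_le (s t : Finset GolayPt) : ∀ g ∈ JS s t, g ∈ M24 := fun _ hg => (mem_JS.mp hg).1

theorem card_JS_octads {o o' : Finset GolayPt} (ho : o ∈ octads) (ho' : o' ∈ octads) :
    Nat.card (PSd o []) = {y : Finset GolayPt | y ∈ octads ∧ (o ∩ y).card = (o ∩ o').card}.ncard * Nat.card (JS o o') := by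
  apply card_eq_of_orbit (PSd o []) (JS o o') o'
  · intro g
    rw [mem_JS, mem_PSd]
    simp [and_assoc]
  · intro y
    constructor
    · rintro ⟨hy, hc⟩
      obtain ⟨g, hg, h1, h2⟩ := pairTrans ho ho' hy hc.symm
      exact ⟨g, mem_PSd.mpr ⟨hg, h1, by simp⟩, h2⟩
    · rintro ⟨g, hg, rfl⟩
      rw [mem_PSd] at hg
      refine ⟨(smul_mem_octads hg.1).mpr ho', ?_⟩
      conv_lhs => rw [← hg.2.1]
      rw [inter_smul_card]

theorem stab_mem_iff (s t : Finset GolayPt) (g : Equiv.Perm GolayPt) (hg : g ∈ M24) :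
    (⟨g, hg⟩ : M24) ∈ (MulAction.stabilizer Cfsg.M24 s ⊓ MulAction.stabilizer Cfsg.M24 t) ↔ g ∈ JS s t := by
  rw [mem_JS, Subgroup.mem_inf, MulAction.mem_stabilizer_iff, MulAction.mem_stabilizer_iff]
  constructor
  · rintro ⟨h1, h2⟩; exact ⟨hg, h1, h2⟩
  · rintro ⟨-, h1, h2⟩; exact ⟨h1, h2⟩

noncomputable def stabEquiv (s t : Finset GolayPt) : (MulAction.stabilizer Cfsg.M24 s ⊓ MulAction.stabilizer Cfsg.M24 t : Subgroup M24) ≃* JS s t :=
  subEquiv _ _ (stab_mem_iff s t) (JS_le s t)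

theorem card_stab (s t : Finset GolayPt) : Nat.card (MulAction.stabilizer Cfsg.M24 s ⊓ MulAction.stabilizer Cfsg.M24 t : Subgroup M24) = Nat.card (JS s t) :=
  card_subEquiv (stab_mem_iff s t) (JS_le s t)

/-- a bijective restriction gives an isomorphism with the symmetric group -/
theorem iso_of_res {s : Finset GolayPt} {n : ℕ} (hs : s.card = n) {H : Subgroup (Equiv.Perm GolayPt)} (hH : ∀ g ∈ H, g • s = s)
    (hinj : ∀ g ∈ H, (∀ p ∈ s, g p = p) → g = 1)
    (hsurj : Nat.card H = n.factorial ∨ ∀ σ : Equiv.Perm ↥s, ∃ g ∈ H, ∀ p : ↥s, g p = σ p) : Nonempty (H ≃* Equiv.Perm (Fin n)) := by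
  have h1 : Function.Injective (res s H hH) := by
    rw [injective_iff_map_eq_one]
    intro g hg
    apply Subtype.ext
    apply hinj g g.2
    intro p hp
    have := res_apply hH g ⟨p, hp⟩
    rw [hg] at this
    exact this.symm
  have h2 : Function.Surjective (res s H hH) := by
    rcases hsurj with h | h
    · have h3 : Nat.card (Equiv.Perm ↥s) = n.factorial := by
        rw [Nat.card_eq_fintype_card, Fintype.card_perm, Fintype.card_coe, hs]
      haveI : Finite H := inferInstance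
      exact ((Nat.bijective_iff_injective_and_card _).mpr ⟨h1, by rw [h, h3]⟩).2
    · intro σ
      obtain ⟨g, hg, hσ⟩ := h σ
      refine ⟨⟨g, hg⟩, ?_⟩
      refine Equiv.ext fun p => Subtype.ext ?_
      rw [res_apply hH]
      exact hσ p
  have e : ↥s ≃ Fin n := (Fintype.equivFinOfCardEq (by rw [Fintype.card_coe, hs]))
  exact ⟨(MulEquiv.ofBijective _ ⟨h1, h2⟩).trans e.permCongrHom⟩

/-- realizing a permutation of `s` from its action on all but one of the points -/
theorem perm_of_list {s : Finset GolayPt} {n : ℕ} (hs : s.card = n + 1) {H : Subgroup (Equiv.Perm GolayPt)} (hH : ∀ g ∈ H, g • s = s)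
    (htr : ∀ l l' : List GolayPt, l.Nodup → l'.Nodup → l.length = n → l'.length = n → (∀ p ∈ l, p ∈ s) → (∀ p ∈ l', p ∈ s) → ∃ g ∈ H, l.map g = l')
    (σ : Equiv.Perm ↥s) : ∃ g ∈ H, ∀ p : ↥s, g p = σ p := by
  obtain ⟨l, hl, hn, -⟩ := exists_list_of_le_card (s := (Finset.univ : Finset ↥s)) (n := n) (by rw [Finset.card_univ, Fintype.card_coe, hs]; omega)
  have hinj : Function.Injective (fun p : ↥s => (p : GolayPt)) := Subtype.val_injective
  have hinj' : Function.Injective (fun p : ↥s => ((σ p : ↥s) : GolayPt)) := hinj.comp σ.injective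
  obtain ⟨g, hg, hgl⟩ := htr (l.map (fun p : ↥s => (p : GolayPt))) (l.map (fun p : ↥s => ((σ p : ↥s) : GolayPt)))
    (hl.map hinj) (hl.map hinj') (by simpa using hn) (by simpa using hn) (by
      intro p hp
      obtain ⟨q, -, rfl⟩ := List.mem_map.mp hp
      exact q.2) (by
      intro p hp
      obtain ⟨q, -, rfl⟩ := List.mem_map.mp hp
      exact (σ q).2)
  have hgp : ∀ p ∈ l, g p = σ p := by
    intro p hp
    rw [List.map_map] at hgl
    exact List.map_inj_left.mp hgl p hp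
  refine ⟨g, hg, ?_⟩
  intro x
  by_cases hx : x ∈ l
  · exact hgp x hx
  have hgx : g x ∈ s := by
    have h := hH g hg
    have h1 : g x ∈ g • s := mem_smul_iff.mpr x.2
    exact h.le h1
  obtain ⟨y, hy⟩ : ∃ y, σ y = ⟨g x, hgx⟩ := σ.surjective _
  have hyl : y ∉ l := by
    intro h
    have h1 := hgp y h
    rw [hy] at h1
    exact hx (by rw [← Subtype.ext (g.injective h1)]; exact h)
  have hxy : y = x := by
    by_contra hne
    have h1 : (l.toFinset ∪ {y, x}).card = n + 2 := by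
      rw [Finset.card_union_of_disjoint, List.toFinset_card_of_nodup hl, hn, Finset.card_pair hne]
      rw [Finset.disjoint_left]
      intro z hz hz'
      rw [List.mem_toFinset] at hz
      rw [Finset.mem_insert, Finset.mem_singleton] at hz'
      rcases hz' with rfl | rfl
      · exact hyl hz
      · exact hx hz
    have h2 := Finset.card_le_univ (l.toFinset ∪ {y, x})
    rw [h1, Fintype.card_coe, hs] at h2
    omega
  rw [hxy] at hy
  rw [hy]

/-- a permutation of the code group fixing six points of an octad and stabilizing an octad meeting it in two points -/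
theorem fix_six_pair {o o' : Finset GolayPt} (ho : o ∈ octads) (ho' : o' ∈ octads) (h2 : (o ∩ o').card = 2)
    {g : Equiv.Perm GolayPt} (hg : g ∈ M24) (hgo' : g • o' = o') (hfix : ∀ p ∈ o \ o', g p = p) : g = 1 := by
  obtain ⟨x, y, hxy, hs⟩ := Finset.card_eq_two.mp h2
  obtain ⟨k, hk, e1, e2, e3, e4⟩ := pair2 ho ho' h2 (x := x) (y := y) (by rw [hs]; simp) (by rw [hs]; simp) hxy
  obtain ⟨g', hg'⟩ : ∃ g', g' = k * g * k⁻¹ := ⟨_, rfl⟩
  have hg'M : g' ∈ M24 := by rw [hg']; exact M24.mul_mem (M24.mul_mem hk hg) (M24.inv_mem hk)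
  have hfix' : ∀ p ∈ O0 \ toFS 0x38c023, g' p = p := by
    intro p hp
    have h3 : k⁻¹ p ∈ o \ o' := by
      rw [← e1, ← e2, ← smul_sdiff', ] at hp
      have h4 : k (k⁻¹ p) ∈ k • (o \ o') := by rw [app_inv]; exact hp
      exact mem_smul_iff.mp h4
    rw [hg', Equiv.Perm.mul_apply, Equiv.Perm.mul_apply, hfix _ h3, app_inv]
  have hst : g' • toFS 0x38c023 = toFS 0x38c023 := by
    rw [hg', ← e2, smul_smul, inv_mul_cancel_right, mul_smul, hgo']
  have hmem : ∀ i ∈ [2, 3, 4, 7, 10, 12], g' (pt i) = pt i := by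
    intro i hi
    apply hfix'
    rw [Finset.mem_sdiff, mem_O0, mem_toFS]
    fin_cases hi <;> simp [idx_pt] <;> decide +kernel
  have hO : ∀ p ∈ O0, g' p = p := by
    refine (fix_octad hg'M O0_mem (x0 := pt 2) (x1 := pt 3) (x2 := pt 4) (x3 := pt 7) (x4 := pt 10) (x5 := pt 12) ?_ ?_ ?_ ?_ ?_ ?_ ?_ ?_ ?_ ?_ ?_ ?_ ?_).1
    all_goals first
      | (rw [mem_O0]; simp; done)
      | (apply hmem; simp; done)
      | decide
  have hm : ∀ i ∈ [0, 1, 2, 3, 4, 7], g' (pt i) = pt i := by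
    intro i hi
    apply hO
    rw [mem_O0]
    fin_cases hi <;> simp
  obtain ⟨e, he, hPe, hee⟩ := base_six hg'M (hm 0 (by simp)) (hm 1 (by simp)) (hm 2 (by simp)) (hm 3 (by simp)) (hm 4 (by simp)) (hm 7 (by simp))
  have hchk : lev6.all (fun e => or (not (Nat.beq (act e.2 0x38c023) 0x38c023)) (Nat.beq (img e.2 5) 5)) = true := by decide +kernel
  have h5 := List.all_eq_true.mp hchk e he
  have h6 : act e.2 0x38c023 = 0x38c023 := by
    have h7 := hPe.mask_smul (toFS 0x38c023)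
    rw [hst, mask_toFS (by norm_num)] at h7
    exact h7.symm
  rw [h6] at h5
  have h7 : img e.2 5 = 5 := by simpa using h5
  have h8 : g' (pt 5) = pt 5 := hPe.apply (by norm_num) h7
  have h9 := eq_one_of_base hg'M (hm 0 (by simp)) (hm 1 (by simp)) (hm 2 (by simp)) (hm 3 (by simp)) (hm 4 (by simp)) (hm 7 (by simp)) h8
  rw [hg'] at h9
  have h10 : g = k⁻¹ * (k * g * k⁻¹) * k := by group
  rw [h10, h9]; group

end CfsgLib.Golay
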