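import Mathlib
import Cfsg.Agent.Lib.GolayOutI
import Cfsg.Agent.Lib.PGrp

/-!
Explicit Sylow 2-subgroups of the Mathieu groups: polycyclic presentations, enumeration,
normalizers and strongly closed subgroups.
-/

set_option autoImplicit false

namespace CfsgLib.Golay

open Cfsg
open scoped Pointwise

/-- group generated by packed permutations -/
def cl (gens : List ℕ) : Subgroup (Equiv.Perm GolayPt) := Subgroup.closure {h | ∃ P ∈ gens, Packs P h}

theorem mem_cl_of {gens : List ℕ} {P : ℕ} (hP : P ∈ gens) {h : Equiv.Perm GolayPt} (hh : Packs P h) : h ∈ cl gens :=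
  Subgroup.subset_closure ⟨P, hP, hh⟩

theorem cl_mono {gens : List ℕ} {g : ℕ} : cl gens ≤ cl (g :: gens) := by
  apply Subgroup.closure_mono
  rintro h ⟨P, hP, hh⟩
  exact ⟨P, List.mem_cons_of_mem _ hP, hh⟩

def wokB (gens w : List ℕ) : Bool := w.all fun i => Nat.blt i gens.length

noncomputable def wP (gens : List ℕ) : List ℕ → ℕ
  | [] => idP
  | i :: w => mulP (gens.getD i 0) (wP gens w)

theorem wP_mem {gens : List ℕ} (hg : ∀ P ∈ gens, ∃ h, Packs P h) :
    ∀ w : List ℕ, wokB gens w = true → ∃ h ∈ cl gens, Packs (wP gens w) h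
  | [], _ => ⟨1, one_mem _, packs_one⟩
  | i :: w, h => by
      rw [wokB, List.all_cons, Bool.and_eq_true] at h
      have h1 : i < gens.length := Nat.le_of_ble_eq_true h.1
      obtain ⟨a, ha⟩ := hg _ (List.getElem_mem h1)
      obtain ⟨b, hb, hbP⟩ := wP_mem hg w h.2
      refine ⟨a * b, mul_mem (mem_cl_of (List.getElem_mem h1) ha) hb, ?_⟩
      rw [wP, List.getD_eq_getElem _ _ h1]
      exact ha.mul hbP

noncomputable def cjB (g : ℕ) (all : List ℕ) : List ℕ → List (List ℕ) → Bool
  | [], _ => true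
  | _ :: _, [] => false
  | P :: Ps, w :: ws => and (and (wokB all w) (conjB g P (wP all w))) (cjB g all Ps ws)

theorem cjB_spec {g : ℕ} {all : List ℕ} (hall : ∀ P ∈ all, ∃ h, Packs P h) {a : Equiv.Perm GolayPt} (ha : Packs g a) :
    ∀ (Ps : List ℕ) (ws : List (List ℕ)), cjB g all Ps ws = true → ∀ P ∈ Ps, ∀ h, Packs P h → a * h * a⁻¹ ∈ cl all
  | [], _, _ => by simp
  | _ :: _, [], h => by rw [cjB] at h; exact absurd h (by simp)
  | P :: Ps, w :: ws, h => by
      rw [cjB, Bool.and_eq_true, Bool.and_eq_true] at h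
      intro Q hQ x hx
      rw [List.mem_cons] at hQ
      rcases hQ with rfl | hQ
      · obtain ⟨b, hb, hbP⟩ := wP_mem hall w h.1.1
        rw [conjB_spec h.1.2 ha hx hbP]; exact hb
      · exact cjB_spec hall ha Ps ws h.2 Q hQ x hx

def mB (g : ℕ) : List ℕ → List ℕ → Bool
  | [], [] => true
  | [], _ :: _ => false
  | _ :: _, [] => false
  | P :: Ps, R :: Rs => and (mulB P g R) (mB g Ps Rs)

theorem mB_left {g : ℕ} : ∀ (Ps Rs : List ℕ), mB g Ps Rs = true → ∀ P ∈ Ps, ∃ R ∈ Rs, mulB P g R = true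
  | [], _, _ => by simp
  | _ :: _, [], h => by rw [mB] at h; exact absurd h (by simp)
  | P :: Ps, R :: Rs, h => by
      rw [mB, Bool.and_eq_true] at h
      intro Q hQ
      rw [List.mem_cons] at hQ
      rcases hQ with rfl | hQ
      · exact ⟨R, List.mem_cons_self .., h.1⟩
      · obtain ⟨R', hR', h2⟩ := mB_left Ps Rs h.2 Q hQ
        exact ⟨R', List.mem_cons_of_mem _ hR', h2⟩

theorem mB_right {g : ℕ} : ∀ (Ps Rs : List ℕ), mB g Ps Rs = true → ∀ R ∈ Rs, ∃ P ∈ Ps, mulB P g R = true
  | _, [], _ => by simp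
  | [], _ :: _, h => by rw [mB] at h; exact absurd h (by simp)
  | P :: Ps, R :: Rs, h => by
      rw [mB, Bool.and_eq_true] at h
      intro Q hQ
      rw [List.mem_cons] at hQ
      rcases hQ with rfl | hQ
      · exact ⟨P, List.mem_cons_self .., h.1⟩
      · obtain ⟨R', hR', h2⟩ := mB_right Ps Rs h.2 Q hQ
        exact ⟨R', List.mem_cons_of_mem _ hR', h2⟩

theorem eqP_of_packs {P Q : ℕ} {g : Equiv.Perm GolayPt} (hP : Packs P g) (hQ : Packs Q g) : eqP P Q = true := by
  rw [eqP, List.all_eq_true]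
  intro i hi
  rw [Nat.beq_eq, ← idx_pt (mem_ixs.mp hi), ← hP, ← hQ]

structure PC (gens L : List ℕ) (n : ℕ) : Prop where
  ex : ∀ P ∈ gens, ∃ h, Packs P h
  enum : ∀ x ∈ cl gens, ∃ P ∈ L, Packs P x
  all : ∀ P ∈ L, ∃ x ∈ cl gens, Packs P x
  card : Nat.card (cl gens) = 2 ^ n

theorem PC.nil : PC [] [idP] 0 := by
  have h : cl [] = ⊥ := by
    rw [cl, Subgroup.closure_eq_bot_iff]
    rintro x ⟨P, hP, -⟩
    simp at hP
  refine ⟨by simp, ?_, ?_, ?_⟩
  · intro x hx
    rw [h, Subgroup.mem_bot] at hx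
    subst hx
    exact ⟨idP, List.mem_singleton_self _, packs_one⟩
  · intro P hP
    rw [List.mem_singleton] at hP
    subst hP
    exact ⟨1, one_mem _, packs_one⟩
  · rw [h, pow_zero]; exact Subgroup.card_bot

theorem PC.step {gens L : List ℕ} {n : ℕ} (h : PC gens L n) {g : ℕ} {a : Equiv.Perm GolayPt} (ha : Packs g a)
    {sq : List ℕ} (h1 : wokB gens sq = true) (h2 : mulB g g (wP gens sq) = true)
    {cj : List (List ℕ)} (h3 : cjB g gens gens cj = true) {M : List ℕ} (h4 : mB g L M = true)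
    (h5 : (L.all fun P => not (eqP P g)) = true) : PC (g :: gens) (L ++ M) (n + 1) := by
  obtain ⟨s, hs, hsP⟩ := wP_mem h.ex sq h1
  have haa : a * a ∈ cl gens := by rw [mulB_spec h2 ha ha hsP]; exact hs
  have hconj : ∀ x ∈ cl gens, a * x * a⁻¹ ∈ cl gens := by
    intro x hx
    have h6 : cl gens ≤ (cl gens).comap (MulAut.conj a).toMonoidHom := by
      rw [cl, Subgroup.closure_le]
      rintro y ⟨P, hP, hy⟩
      exact cjB_spec h.ex ha gens cj h3 P hP y hy
    exact h6 hx
  have hconj' : ∀ x ∈ cl gens, a⁻¹ * x * a ∈ cl gens := by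
    intro x hx
    have e : a⁻¹ * x * a = (a * a)⁻¹ * (a * x * a⁻¹) * (a * a) := by group
    rw [e]
    exact mul_mem (mul_mem (inv_mem haa) (hconj x hx)) haa
  have han : a ∉ cl gens := by
    intro hc
    obtain ⟨P, hP, hPa⟩ := h.enum a hc
    have h6 := List.all_eq_true.mp h5 P hP
    rw [eqP_of_packs hPa ha] at h6
    simp at h6
  let K : Subgroup (Equiv.Perm GolayPt) :=
    { carrier := {x | x ∈ cl gens ∨ x * a⁻¹ ∈ cl gens}
      one_mem' := Or.inl (one_mem _)
      mul_mem' := by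
        rintro x y (hx | hx) (hy | hy)
        · exact Or.inl (mul_mem hx hy)
        · right; rw [mul_assoc]; exact mul_mem hx hy
        · right
          have e : x * y * a⁻¹ = (x * a⁻¹) * (a * y * a⁻¹) := by group
          rw [e]; exact mul_mem hx (hconj y hy)
        · left
          have e : x * y = (x * a⁻¹) * (a * (y * a⁻¹) * a⁻¹) * (a * a) := by group
          rw [e]; exact mul_mem (mul_mem hx (hconj _ hy)) haa
      inv_mem' := by
        rintro x (hx | hx)
        · exact Or.inl (inv_mem hx)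
        · right
          have e : x⁻¹ * a⁻¹ = (a⁻¹ * (x * a⁻¹)⁻¹ * a) * (a * a)⁻¹ := by group
          rw [e]; exact mul_mem (hconj' _ (inv_mem hx)) (inv_mem haa) }
  have hK : cl (g :: gens) = K := by
    apply le_antisymm
    · rw [cl, Subgroup.closure_le]
      rintro x ⟨P, hP, hx⟩
      rw [List.mem_cons] at hP
      rcases hP with rfl | hP
      · right
        rw [hx.eq ha, mul_inv_cancel]; exact one_mem _
      · exact Or.inl (mem_cl_of hP hx)
    · rintro x (hx | hx)
      · exact cl_mono hx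
      · have e : x = x * a⁻¹ * a := by group
        rw [e]; exact mul_mem (cl_mono hx) (mem_cl_of (List.mem_cons_self ..) ha)
  refine ⟨?_, ?_, ?_, ?_⟩
  · intro P hP
    rw [List.mem_cons] at hP
    rcases hP with rfl | hP
    · exact ⟨a, ha⟩
    · exact h.ex P hP
  · intro x hx
    rw [hK] at hx
    rcases hx with hx | hx
    · obtain ⟨P, hP, hPx⟩ := h.enum x hx
      exact ⟨P, List.mem_append_left _ hP, hPx⟩
    · obtain ⟨P, hP, hPx⟩ := h.enum _ hx
      obtain ⟨R, hR, h6⟩ := mB_left L M h4 P hP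
      refine ⟨R, List.mem_append_right _ hR, ?_⟩
      have h7 := packs_of_mulB h6 hPx ha
      rwa [inv_mul_cancel_right] at h7
  · intro P hP
    rw [List.mem_append] at hP
    rcases hP with hP | hP
    · obtain ⟨x, hx, hxP⟩ := h.all P hP
      exact ⟨x, cl_mono hx, hxP⟩
    · obtain ⟨Q, hQ, h6⟩ := mB_right L M h4 P hP
      obtain ⟨x, hx, hxQ⟩ := h.all Q hQ
      exact ⟨x * a, mul_mem (cl_mono hx) (mem_cl_of (List.mem_cons_self ..) ha), packs_of_mulB h6 hxQ ha⟩
  · have h6 : Nat.card K = Nat.card (Bool × cl gens) := by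
      symm
      apply Nat.card_congr
      refine Equiv.ofBijective (fun p : Bool × cl gens => (⟨if p.1 then p.2 * a else p.2, ?_⟩ : K)) ⟨?_, ?_⟩
      · rcases p with ⟨b, x⟩
        cases b
        · exact Or.inl x.2
        · right
          show (x : Equiv.Perm GolayPt) * a * a⁻¹ ∈ cl gens
          rw [mul_inv_cancel_right]; exact x.2
      · rintro ⟨b, x⟩ ⟨b', x'⟩ hxy
        have h7 := congrArg Subtype.val hxy
        cases b <;> cases b'
        · have h8 : (x : Equiv.Perm GolayPt) = x' := h7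
          rw [Subtype.ext h8]
        · exfalso
          have h8 : (x : Equiv.Perm GolayPt) = x' * a := h7
          apply han
          have e : a = (x' : Equiv.Perm GolayPt)⁻¹ * x := by rw [h8]; group
          rw [e]; exact mul_mem (inv_mem x'.2) x.2
        · exfalso
          have h8 : (x : Equiv.Perm GolayPt) * a = x' := h7
          apply han
          have e : a = (x : Equiv.Perm GolayPt)⁻¹ * x' := by rw [← h8]; group
          rw [e]; exact mul_mem (inv_mem x.2) x'.2
        · have h8 : (x : Equiv.Perm GolayPt) * a = x' * a := h7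
          rw [Subtype.ext (mul_right_cancel h8)]
      · rintro ⟨x, hx⟩
        rcases hx with hx | hx
        · exact ⟨(false, ⟨x, hx⟩), rfl⟩
        · refine ⟨(true, ⟨x * a⁻¹, hx⟩), Subtype.ext ?_⟩
          show x * a⁻¹ * a = x
          rw [inv_mul_cancel_right]
    rw [hK, h6, Nat.card_prod, h.card]
    simp [pow_succ, mul_comm]

/-- entries `(g, square, conjugates, new elements)` -/
noncomputable def pcB : List ℕ → List ℕ → List (ℕ × List ℕ × List (List ℕ) × List ℕ) → Bool
  | _, _, [] => true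
  | gens, L, e :: es => and (and (good e.1) (and (wokB gens e.2.1) (mulB e.1 e.1 (wP gens e.2.1))))
      (and (and (cjB e.1 gens gens e.2.2.1) (mB e.1 L e.2.2.2)) (and (L.all fun P => not (eqP P e.1))
        (pcB (e.1 :: gens) (L ++ e.2.2.2) es)))

def pcG : List ℕ → List (ℕ × List ℕ × List (List ℕ) × List ℕ) → List ℕ
  | gens, [] => gens
  | gens, e :: es => pcG (e.1 :: gens) es

def pcL : List ℕ → List (ℕ × List ℕ × List (List ℕ) × List ℕ) → List ℕ
  | L, [] => L
  | L, e :: es => pcL (L ++ e.2.2.2) es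

theorem pc_spec : ∀ (es : List (ℕ × List ℕ × List (List ℕ) × List ℕ)) (gens L : List ℕ) (n : ℕ), PC gens L n →
    pcB gens L es = true → PC (pcG gens es) (pcL L es) (n + es.length)
  | [], _, _, _, h, _ => h
  | e :: es, gens, L, n, h, hb => by
      rw [pcB, Bool.and_eq_true, Bool.and_eq_true, Bool.and_eq_true, Bool.and_eq_true, Bool.and_eq_true,
        Bool.and_eq_true] at hb
      obtain ⟨⟨h1, h2, h3⟩, ⟨h4, h5⟩, h6, h7⟩ := hb
      obtain ⟨a, -, ha⟩ := exists_of_good h1
      have h8 := pc_spec es (e.1 :: gens) (L ++ e.2.2.2) (n + 1) (h.step ha h2 h3 h4 h5 h6) h7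
      have e1 : n + (e :: es).length = n + 1 + es.length := by rw [List.length_cons]; ring
      rw [e1]
      exact h8

theorem pcG_mem : ∀ (es : List (ℕ × List ℕ × List (List ℕ) × List ℕ)) (gens : List ℕ) (P : ℕ), P ∈ gens → P ∈ pcG gens es
  | [], _, _, h => h
  | e :: es, gens, P, h => pcG_mem es (e.1 :: gens) P (List.mem_cons_of_mem _ h)

/-! ### Orbits of stabilizers -/

def fixesB (l : List ℕ) (P : ℕ) : Bool := l.all fun i => Nat.beq (img P i) i

def orbM (L l : List ℕ) (q : ℕ) : ℕ :=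
  L.foldr (fun P acc => bif fixesB l P then Nat.lor acc (Nat.shiftLeft 1 (img P q)) else acc) 0

theorem testBit_orbM {L l : List ℕ} {q j : ℕ} : (orbM L l q).testBit j = true ↔ ∃ P ∈ L, fixesB l P = true ∧ img P q = j := by
  induction L with
  | nil => simp [orbM]
  | cons P L ih =>
    have h1 : orbM (P :: L) l q = bif fixesB l P then Nat.lor (orbM L l q) (Nat.shiftLeft 1 (img P q)) else orbM L l q := rfl
    rw [h1]
    cases hf : fixesB l P with
    | false =>
      rw [cond_false, ih]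
      constructor
      · rintro ⟨Q, hQ, h⟩; exact ⟨Q, List.mem_cons_of_mem _ hQ, h⟩
      · rintro ⟨Q, hQ, h⟩
        rw [List.mem_cons] at hQ
        rcases hQ with rfl | hQ
        · rw [hf] at h; exact absurd h.1 (by simp)
        · exact ⟨Q, hQ, h⟩
    | true =>
      rw [cond_true]
      have h2 : (Nat.lor (orbM L l q) (Nat.shiftLeft 1 (img P q))).testBit j = ((orbM L l q) ||| (1 <<< (img P q))).testBit j := rfl
      rw [h2, Nat.testBit_or, Bool.or_eq_true, ih, Nat.one_shiftLeft, Nat.testBit_two_pow, decide_eq_true_eq]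
      constructor
      · rintro (⟨Q, hQ, h⟩ | h)
        · exact ⟨Q, List.mem_cons_of_mem _ hQ, h⟩
        · exact ⟨P, List.mem_cons_self .., hf, h⟩
      · rintro ⟨Q, hQ, h⟩
        rw [List.mem_cons] at hQ
        rcases hQ with rfl | hQ
        · exact Or.inr h.2
        · exact Or.inl ⟨Q, hQ, h⟩

theorem fixesB_iff {l : List ℕ} (hl : ∀ i ∈ l, i < 24) {P : ℕ} {x : Equiv.Perm GolayPt} (hP : Packs P x) :
    fixesB l P = true ↔ ∀ i ∈ l, x (pt i) = pt i := by
  rw [fixesB, List.all_eq_true]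
  constructor
  · intro h i hi
    exact hP.apply (hl i hi) (Nat.eq_of_beq_eq_true (h i hi))
  · intro h i hi
    have h1 := hP (pt i)
    rw [h i hi, idx_pt (hl i hi)] at h1
    rw [Nat.beq_eq]; exact h1.symm

section norm
variable {S0 : Subgroup (Equiv.Perm GolayPt)} {L : List ℕ}

theorem mem_orb (h1 : ∀ x ∈ S0, ∃ P ∈ L, Packs P x) (h2 : ∀ P ∈ L, ∃ x ∈ S0, Packs P x) {l : List ℕ}
    (hl : ∀ i ∈ l, i < 24) {q : ℕ} (hq : q < 24) (j : ℕ) :
    (orbM L l q).testBit j = true ↔ ∃ x ∈ S0, (∀ i ∈ l, x (pt i) = pt i) ∧ idx (x (pt q)) = j := by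
  rw [testBit_orbM]
  constructor
  · rintro ⟨P, hP, h3, h4⟩
    obtain ⟨x, hx, hxP⟩ := h2 P hP
    refine ⟨x, hx, (fixesB_iff hl hxP).mp h3, ?_⟩
    rw [hxP, idx_pt hq, h4]
  · rintro ⟨x, hx, h3, h4⟩
    obtain ⟨P, hP, hxP⟩ := h1 x hx
    refine ⟨P, hP, (fixesB_iff hl hxP).mpr h3, ?_⟩
    rw [hxP, idx_pt hq] at h4
    exact h4

theorem orbM_lt (h1 : ∀ x ∈ S0, ∃ P ∈ L, Packs P x) (h2 : ∀ P ∈ L, ∃ x ∈ S0, Packs P x) {l : List ℕ}
    (hl : ∀ i ∈ l, i < 24) {q : ℕ} (hq : q < 24) : orbM L l q < 2 ^ 24 := by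
  apply Nat.lt_pow_two_of_testBit
  intro j hj
  by_contra hc
  rw [Bool.not_eq_false, mem_orb h1 h2 hl hq] at hc
  obtain ⟨x, -, -, h3⟩ := hc
  have := idx_lt (x (pt q))
  omega

theorem orb_eq (h1 : ∀ x ∈ S0, ∃ P ∈ L, Packs P x) (h2 : ∀ P ∈ L, ∃ x ∈ S0, Packs P x) {l : List ℕ}
    (hl : ∀ i ∈ l, i < 24) {g : Equiv.Perm GolayPt} (hg : ∀ x, x ∈ S0 ↔ g * x * g⁻¹ ∈ S0)
    (hgl : ∀ i ∈ l, g (pt i) = pt i) (p : GolayPt) :
    pop (orbM L l (idx (g p))) = pop (orbM L l (idx p)) := by
  have h3 : toFS (orbM L l (idx (g p))) = g • toFS (orbM L l (idx p)) := by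
    ext j
    rw [mem_toFS, mem_orb h1 h2 hl (idx_lt _), Finset.mem_smul_finset, pt_idx]
    constructor
    · rintro ⟨x, hx, hxl, hxj⟩
      refine ⟨g⁻¹ j, ?_, ?_⟩
      · rw [mem_toFS, mem_orb h1 h2 hl (idx_lt _), pt_idx]
        refine ⟨g⁻¹ * x * g, ?_, ?_, ?_⟩
        · rw [hg]
          have e : g * (g⁻¹ * x * g) * g⁻¹ = x := by group
          rw [e]; exact hx
        · intro i hi
          rw [Equiv.Perm.mul_apply, Equiv.Perm.mul_apply, hgl i hi, hxl i hi, Equiv.Perm.inv_eq_iff_eq, hgl i hi]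
        · rw [Equiv.Perm.mul_apply, Equiv.Perm.mul_apply, idx_injective hxj]
      · show g (g⁻¹ j) = j
        exact g.apply_symm_apply j
    · rintro ⟨k, hk, hkj⟩
      rw [mem_toFS, mem_orb h1 h2 hl (idx_lt _), pt_idx] at hk
      obtain ⟨x, hx, hxl, hxj⟩ := hk
      refine ⟨g * x * g⁻¹, (hg x).mp hx, ?_, ?_⟩
      · intro i hi
        have h4 : g⁻¹ (pt i) = pt i := by rw [Equiv.Perm.inv_eq_iff_eq]; exact (hgl i hi).symm
        rw [Equiv.Perm.mul_apply, Equiv.Perm.mul_apply, h4, hxl i hi, hgl i hi]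
      · have h4 : g⁻¹ (g p) = p := g.symm_apply_apply p
        rw [Equiv.Perm.mul_apply, Equiv.Perm.mul_apply, h4, idx_injective hxj]
        exact congrArg idx hkj
  rw [← card_toFS (orbM_lt h1 h2 hl (idx_lt _)), h3, card_smul', card_toFS (orbM_lt h1 h2 hl (idx_lt _))]

/-- chain of base points; each entry lists the subsets of previous points used to separate orbits -/
def normB (L : List ℕ) (INV : ℕ) : List ℕ → List (ℕ × List (List ℕ)) → Bool
  | _, [] => true
  | prev, e :: es => and (Nat.blt e.1 24) (and (e.2.all fun l => l.all fun i => prev.any fun j => Nat.beq i j)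
      (and (ixs.all fun q => or (or (prev.any fun j => Nat.beq j q) (or (Bool.xor (INV.testBit q) (INV.testBit e.1))
        ((orbM L prev e.1).testBit q))) (e.2.any fun l => not (Nat.beq (pop (orbM L l q)) (pop (orbM L l e.1)))))
        (normB L INV (e.1 :: prev) es)))

theorem norm_spec (h1 : ∀ x ∈ S0, ∃ P ∈ L, Packs P x) (h2 : ∀ P ∈ L, ∃ x ∈ S0, Packs P x) {INV : ℕ}
    (hS : ∀ s ∈ S0, ∀ q, INV.testBit (idx (s q)) = INV.testBit (idx q)) :
    ∀ (es : List (ℕ × List (List ℕ))) (prev : List ℕ), (∀ i ∈ prev, i < 24) → normB L INV prev es = true →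
      ∀ g : Equiv.Perm GolayPt, (∀ x, x ∈ S0 ↔ g * x * g⁻¹ ∈ S0) → (∀ i ∈ prev, g (pt i) = pt i) →
        (∀ q, INV.testBit (idx (g q)) = INV.testBit (idx q)) →
          ∃ s ∈ S0, (∀ i ∈ prev, (s * g) (pt i) = pt i) ∧ ∀ e ∈ es, (s * g) (pt e.1) = pt e.1
  | [], prev, _, _, g, _, hgp, _ => ⟨1, one_mem _, by simpa using hgp, by simp⟩
  | e :: es, prev, hprev, hb, g, hg, hgp, hgI => by
      rw [normB, Bool.and_eq_true, Bool.and_eq_true, Bool.and_eq_true] at hb
      obtain ⟨h3, h4, h5, h6⟩ := hb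
      have h3' : e.1 < 24 := Nat.le_of_ble_eq_true h3
      have hclaim : (orbM L prev e.1).testBit (idx (g (pt e.1))) = true := by
        have h7 := List.all_eq_true.mp h5 (idx (g (pt e.1))) (mem_ixs.mpr (idx_lt _))
        rw [Bool.or_eq_true, Bool.or_eq_true, Bool.or_eq_true] at h7
        rcases h7 with (h7 | h7 | h7) | h7
        · rw [List.any_eq_true] at h7
          obtain ⟨j, hj, h8⟩ := h7
          rw [Nat.beq_eq] at h8
          have h9 : g (pt e.1) = pt j := by rw [h8, pt_idx]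
          rw [← hgp j hj] at h9
          have h10 : pt e.1 = pt j := g.injective h9
          have h11 := congrArg idx h10
          rw [idx_pt h3', idx_pt (hprev j hj)] at h11
          rw [mem_orb h1 h2 hprev h3']
          refine ⟨1, one_mem _, fun i _ => rfl, ?_⟩
          rw [Equiv.Perm.one_apply, h11, hgp j hj]
        · exfalso
          have h8 := hgI (pt e.1)
          rw [idx_pt h3'] at h8
          rw [h8, Bool.xor_self] at h7
          exact absurd h7 (by simp)
        · exact h7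
        · exfalso
          rw [List.any_eq_true] at h7
          obtain ⟨l, hl, h8⟩ := h7
          have hlp : ∀ i ∈ l, i ∈ prev := by
            intro i hi
            have h9 := List.all_eq_true.mp (List.all_eq_true.mp h4 l hl) i hi
            rw [List.any_eq_true] at h9
            obtain ⟨j, hj, h10⟩ := h9
            rw [Nat.beq_eq] at h10
            rw [h10]; exact hj
          have h9 := orb_eq h1 h2 (l := l) (fun i hi => hprev i (hlp i hi)) hg (fun i hi => hgp i (hlp i hi)) (pt e.1)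
          rw [idx_pt h3'] at h9
          rw [h9] at h8
          simp at h8
      rw [mem_orb h1 h2 hprev h3'] at hclaim
      obtain ⟨x, hx, hxl, hxj⟩ := hclaim
      have h7 := idx_injective hxj
      -- `x⁻¹ g` fixes `e.1`
      have hxg : ∀ i ∈ e.1 :: prev, (x⁻¹ * g) (pt i) = pt i := by
        intro i hi
        rw [List.mem_cons] at hi
        rw [Equiv.Perm.mul_apply, Equiv.Perm.inv_eq_iff_eq]
        rcases hi with rfl | hi
        · exact h7.symm
        · rw [hgp i hi, hxl i hi]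
      obtain ⟨s, hs, h8, h9⟩ := norm_spec h1 h2 hS es (e.1 :: prev) (by
          intro i hi; rw [List.mem_cons] at hi; rcases hi with rfl | hi; exacts [h3', hprev i hi]) h6 (x⁻¹ * g)
        (by
          intro y
          rw [hg y]
          constructor
          · intro hy
            have e1 : x⁻¹ * g * y * (x⁻¹ * g)⁻¹ = x⁻¹ * (g * y * g⁻¹) * x := by group
            rw [e1]; exact mul_mem (mul_mem (inv_mem hx) hy) hx
          · intro hy
            have e1 : g * y * g⁻¹ = x * (x⁻¹ * g * y * (x⁻¹ * g)⁻¹) * x⁻¹ := by group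
            rw [e1]; exact mul_mem (mul_mem hx hy) (inv_mem hx)) hxg
        (by
          intro q
          rw [Equiv.Perm.mul_apply, hS _ (inv_mem hx), hgI])
      refine ⟨s * x⁻¹, mul_mem hs (inv_mem hx), ?_, ?_⟩
      · intro i hi
        rw [mul_assoc]; exact h8 i (List.mem_cons_of_mem _ hi)
      · intro f hf
        rw [List.mem_cons] at hf
        rw [mul_assoc]
        rcases hf with rfl | hf
        · exact h8 _ (List.mem_cons_self ..)
        · exact h9 f hf

end norm

/-! ### Strongly closed subgroups -/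

/-- entries `(g, k, w)`: `g = k * w * k⁻¹` with `w` a word in the previous generators -/
noncomputable def scB (memB : ℕ → Bool) : List ℕ → List (ℕ × ℕ × List ℕ) → Bool
  | _, [] => true
  | gens, e :: es => and (and (good e.2.1) (memB e.2.1)) (and (and (wokB gens e.2.2) (conjB e.2.1 (wP gens e.2.2) e.1))
      (scB memB (e.1 :: gens) es))

def scG : List ℕ → List (ℕ × ℕ × List ℕ) → List ℕ
  | gens, [] => gens
  | gens, e :: es => scG (e.1 :: gens) es

theorem scG_mem : ∀ (es : List (ℕ × ℕ × List ℕ)) (gens : List ℕ) (P : ℕ), P ∈ gens → P ∈ scG gens es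
  | [], _, _, h => h
  | e :: es, gens, P, h => scG_mem es (e.1 :: gens) P (List.mem_cons_of_mem _ h)

theorem sc_spec {G S0 T : Subgroup (Equiv.Perm GolayPt)} {memB : ℕ → Bool}
    (hmem : ∀ P h, h ∈ M24 → Packs P h → memB P = true → h ∈ G)
    (hT : ∀ x ∈ T, ∀ k ∈ G, k * x * k⁻¹ ∈ S0 → k * x * k⁻¹ ∈ T) :
    ∀ (es : List (ℕ × ℕ × List ℕ)) (gens : List ℕ), (∀ P ∈ gens, ∃ h, Packs P h) → scB memB gens es = true →
      (∀ P ∈ scG gens es, ∃ h ∈ S0, Packs P h) → cl gens ≤ T → cl (scG gens es) ≤ T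
  | [], _, _, _, _, h => h
  | e :: es, gens, hex, hb, hS, h => by
      rw [scB, Bool.and_eq_true, Bool.and_eq_true, Bool.and_eq_true, Bool.and_eq_true] at hb
      obtain ⟨⟨h1, h2⟩, ⟨h3, h4⟩, h5⟩ := hb
      obtain ⟨a, haS, haP⟩ := hS e.1 (scG_mem es (e.1 :: gens) e.1 (List.mem_cons_self ..))
      obtain ⟨k, hk, hkP⟩ := exists_of_good h1
      obtain ⟨w, hw, hwP⟩ := wP_mem hex e.2.2 h3
      have h6 := conjB_spec h4 hkP hwP haP
      have haT : a ∈ T := by
        rw [← h6]
        exact hT w (h hw) k (hmem _ _ hk hkP h2) (by rw [h6]; exact haS)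
      apply sc_spec hmem hT es (e.1 :: gens) _ h5 hS
      · rw [cl, Subgroup.closure_le]
        rintro x ⟨P, hP, hx⟩
        rw [List.mem_cons] at hP
        rcases hP with rfl | hP
        · rw [hx.eq haP]; exact haT
        · exact h (mem_cl_of hP hx)
      · intro P hP
        rw [List.mem_cons] at hP
        rcases hP with rfl | hP
        · exact ⟨a, haP⟩
        · exact hex P hP

def commuB (P g : ℕ) : Bool := ixs.all fun i => Nat.beq (img P (img g i)) (img g (img P i))

theorem commuB_of {P g : ℕ} {x a : Equiv.Perm GolayPt} (hP : Packs P x) (ha : Packs g a) (h : x * a = a * x) :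
    commuB P g = true := by
  rw [commuB, List.all_eq_true]
  intro i hi
  rw [Nat.beq_eq, ← idx_pt (mem_ixs.mp hi), ← ha, ← hP, ← hP, ← ha]
  have := congrArg (fun f : Equiv.Perm GolayPt => f (pt i)) h
  exact congrArg idx this

/-- every element commuting with all generators is `1` or `z` -/
def cenB (L gens : List ℕ) (z : ℕ) : Bool :=
  L.all fun P => or (or (eqP P idP) (eqP P z)) (gens.any fun g => not (commuB P g))

theorem z_mem {gens L : List ℕ} {n z : ℕ} (h : PC gens L n) (hc : cenB L gens z = true)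
    {T : Subgroup (Equiv.Perm GolayPt)} (hT : T ≤ cl gens) (hT1 : T ≠ ⊥)
    (hTn : ∀ x ∈ T, ∀ k ∈ cl gens, k * x * k⁻¹ ∈ T) : ∀ a, Packs z a → a ∈ T := by
  intro a ha
  have hp : IsPGroup 2 (cl gens) := IsPGroup.of_card h.card
  have hN : (T.subgroupOf (cl gens)).Normal := by
    refine ⟨fun x hx k => ?_⟩
    rw [Subgroup.mem_subgroupOf] at hx ⊢
    exact hTn _ hx k k.2
  have hne : T.subgroupOf (cl gens) ≠ ⊥ := by
    intro hbot
    apply hT1
    rw [Subgroup.subgroupOf_eq_bot, disjoint_iff] at hbot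
    rw [← hbot]; exact (inf_eq_left.mpr hT).symm
  have h1 := CfsgLib.PGrp.inf_center_ne_bot hp hN hne
  obtain ⟨x, hx1⟩ := Subgroup.ne_bot_iff_exists_ne_one.mp h1
  · obtain ⟨P, hP, hPx⟩ := h.enum x (x : cl gens).2
    have hxT : ((x : cl gens) : Equiv.Perm GolayPt) ∈ T := (Subgroup.mem_inf.mp x.2).1
    have hxc := (Subgroup.mem_inf.mp x.2).2
    have h2 := List.all_eq_true.mp hc P hP
    rw [Bool.or_eq_true, Bool.or_eq_true] at h2
    rcases h2 with (h2 | h2) | h2
    · exfalso
      have h3 := eqP_spec h2 hPx packs_one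
      apply hx1
      exact Subtype.ext (Subtype.ext h3)
    · have h3 := eqP_spec h2 hPx ha
      rw [← h3]; exact hxT
    · exfalso
      rw [List.any_eq_true] at h2
      obtain ⟨g, hg, h3⟩ := h2
      obtain ⟨b, hb⟩ := h.ex g hg
      have h4 : ((x : cl gens) : Equiv.Perm GolayPt) * b = b * x := by
        have h5 := Subgroup.mem_center_iff.mp hxc ⟨b, mem_cl_of hg hb⟩
        exact (congrArg Subtype.val h5).symm
      rw [commuB_of hPx hb h4] at h3
      simp at h3

end CfsgLib.Golay
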