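import Mathlib
import Cfsg.Agent.Lib.H3Misc
import Cfsg.Agent.Lib.Transfer
import Cfsg.Agent.Lib.Coprime
import Cfsg.Agent.Lib.ThompsonNPC
import Cfsg.Agent.Lib.H5Fpf
import Cfsg.Agent.Lib.Core2
import Cfsg.Agent.Lib.Tate
import Cfsg.Agent.Lib.H7CN1
import Cfsg.Agent.S0078

/-!
# Nilpotent maximal subgroups (Deskins, Janko, Thompson)
-/

set_option autoImplicit false
set_option linter.style.haveILetI false

open Subgroup
open scoped Pointwise

namespace CfsgLib.H3Desk

universe u

theorem coatom_map {G H : Type*} [Group G] [Group H] (f : G →* H) (hf : Function.Surjective f) {M : Subgroup G} (hM : IsCoatom M)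
    (hk : f.ker ≤ M) : IsCoatom (M.map f) := by
  have hc : (M.map f).comap f = M := by rw [comap_map_eq, sup_eq_left.2 hk]
  refine ⟨?_, fun K hK => ?_⟩
  · intro h
    rw [h, comap_top] at hc
    exact hM.1 hc.symm
  · have h1 : M < K.comap f := by
      rw [← hc]
      exact (comap_lt_comap_of_surjective hf).2 hK
    have h2 := hM.2 _ h1
    rw [← map_comap_eq_self_of_surjective hf K, h2, ← MonoidHom.range_eq_map, MonoidHom.range_eq_top.2 hf]

theorem solv_inf {G : Type*} [Group G] {ι : Type*} [Finite ι] (K : ι → Subgroup G) (h : ∀ i, ∃ n, derivedSeries G n ≤ K i) :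
    ∃ n, derivedSeries G n ≤ ⨅ i, K i := by
  choose n hn using h
  obtain ⟨N, hN⟩ := (Set.finite_range n).bddAbove
  exact ⟨N, le_iInf fun i => (derivedSeries_antitone G (hN ⟨i, rfl⟩)).trans (hn i)⟩

/-- `M` is a nilpotent maximal subgroup without nontrivial normal subgroups of `G` inside. -/
structure CF {G : Type*} [Group G] (M : Subgroup G) : Prop where
  coatom : IsCoatom M
  nil : Group.IsNilpotent M
  core : ∀ N : Subgroup G, N.Normal → N ≤ M → N = ⊥

namespace CF

variable {G : Type u} [Group G] [Finite G] {M : Subgroup G}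

theorem norm (h : CF M) {X : Subgroup G} (hXM : X ≤ M) (hX : X ≠ ⊥) (hMX : M ≤ normalizer (X : Set G)) :
    normalizer (X : Set G) = M := by
  rcases hMX.eq_or_lt with h1 | h1
  · exact h1.symm
  · exact absurd (h.core X (normalizer_eq_top_iff.1 (h.coatom.2 _ h1)) hXM) hX

theorem exists_sylow (h : CF M) {p : ℕ} [hp : Fact p.Prime] (hpM : p ∣ Nat.card M) :
    ∃ S : Sylow p G, (S : Subgroup G) ≤ M ∧ (S : Subgroup G) ≠ ⊥ ∧ M ≤ normalizer ((S : Subgroup G) : Set G) := by
  obtain ⟨P, hP⟩ := CfsgLib.Coprime.exists_isSyl p M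
  have hPp := hP.isPGroup
  have hPb : P ≠ ⊥ := by
    rintro rfl
    have := hP.2
    rw [card_bot] at this
    have h1 := hp.out.factorization_pos_of_dvd Nat.card_pos.ne' hpM
    have h2 := Nat.one_lt_pow h1.ne' hp.out.one_lt
    omega
  have hMP : M ≤ normalizer (P : Set G) := by
    rw [← normal_subgroupOf_iff_le_normalizer hP.1]
    exact (Group.isNilpotent_of_finite_tfae.out 0 3 rfl rfl).1 h.nil p inferInstance hP.toSylow
  obtain ⟨S, hPS⟩ := hPp.exists_le_sylow
  have hPS' : P = S := by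
    by_contra hne
    have hlt : P < (S : Subgroup G) := lt_of_le_of_ne hPS hne
    have h1 := CfsgLib.Coprime.exists_normalizer_gt S.2 hlt
    rw [h.norm hP.1 hPb hMP] at h1
    exact h1.ne (CfsgLib.Coprime.isSyl_of_le hP inf_le_right (S.2.to_le inf_le_left) h1.le)
  exact ⟨S, hPS' ▸ hP.1, hPS' ▸ hPb, hPS' ▸ hMP⟩

theorem npc_odd (h : CF M) {p : ℕ} [hp : Fact p.Prime] (hpM : p ∣ Nat.card M) (hp2 : p ≠ 2) : CfsgLib.NPC.NPC p G := by
  obtain ⟨S, hSM, hSb, hMS⟩ := h.exists_sylow hpM
  have hnpM : CfsgLib.NPC.NPC p M := CfsgLib.H5Fpf.npc_of_nilpotent h.nil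
  rw [CfsgLib.ThompsonNPC.thompson hp2 S]
  constructor
  · rw [h.norm ((CfsgLib.JSub.J_le p (S : Subgroup G)).trans hSM) (CfsgLib.JSub.J_ne_bot S.2 hSb)
      (hMS.trans (CfsgLib.JSub.normalizer_le_normalizer_J p (S : Subgroup G)))]
    exact hnpM
  · have h1 := CfsgLib.JSub.centralizer_le_normalizer (CfsgLib.JSub.Z (S : Subgroup G))
    rw [h.norm ((CfsgLib.JSub.Z_le _).trans hSM) (CfsgLib.JSub.Z_ne_bot S.2 hSb)
      (hMS.trans (CfsgLib.JSub.normalizer_le_normalizer_Z _))] at h1
    exact hnpM.of_le h1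

theorem mem_normalizer_of_conj {X : Subgroup G} {g : G} (h : ∀ x ∈ X, g * x * g⁻¹ ∈ X) : g ∈ normalizer (X : Set G) :=
  mem_normalizer_fintype h

theorem commutator_le_left' (S : Subgroup G) : ⁅S, S⁆ ≤ S := by
  rw [commutator_le]
  intro a ha b hb
  exact S.mul_mem (S.mul_mem (S.mul_mem ha hb) (S.inv_mem ha)) (S.inv_mem hb)

variable {p : ℕ} [hp : Fact p.Prime]

theorem isSyl_of {S : Sylow p G} (hSM : (S : Subgroup G) ≤ M) : CfsgLib.Coprime.IsSyl p (S : Subgroup G) M := by
  obtain ⟨P, hP⟩ := CfsgLib.Coprime.exists_isSyl p M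
  obtain ⟨T, hPT⟩ := hP.isPGroup.exists_le_sylow
  refine ⟨hSM, le_antisymm ?_ ?_⟩
  · obtain ⟨k, hk⟩ := IsPGroup.iff_card.1 S.2
    rw [hk]
    refine Nat.pow_le_pow_right hp.out.pos ?_
    rw [← hp.out.pow_dvd_iff_le_factorization Nat.card_pos.ne', ← hk]
    exact card_dvd_of_le hSM
  · rw [← hP.2]
    calc Nat.card P ≤ Nat.card (T : Subgroup G) := card_le_of_le hPT
      _ = Nat.card (S : Subgroup G) := by rw [T.card_eq_multiplicity, S.card_eq_multiplicity]

theorem npc_cl2 (h : CF M) (S : Sylow p G) (hSM : (S : Subgroup G) ≤ M) (hSb : (S : Subgroup G) ≠ ⊥)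
    (hMS : M ≤ normalizer ((S : Subgroup G) : Set G))
    (hcl : ⁅(S : Subgroup G), (S : Subgroup G)⁆ ≤ centralizer ((S : Subgroup G) : Set G)) : CfsgLib.NPC.NPC p G := by
  set Z : Subgroup G := (S : Subgroup G) ⊓ centralizer ((S : Subgroup G) : Set G) with hZ
  have hZb : Z ≠ ⊥ := CfsgLib.JSub.Z_ne_bot S.2 hSb
  have hNZ : normalizer (Z : Set G) = M := h.norm (inf_le_left.trans hSM) hZb (hMS.trans (CfsgLib.JSub.normalizer_le_normalizer_Z _))
  have hSyM : CfsgLib.Coprime.IsSyl p (S : Subgroup G) M := isSyl_of hSM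
  have hSS : ⁅(S : Subgroup G), (S : Subgroup G)⁆ ≤ Z := le_inf (commutator_le_left' _) hcl
  have hmem : ∀ X : Subgroup G, X ≤ (S : Subgroup G) → Z ≤ X → M ≤ normalizer (X : Set G) := by
    intro X hXS hZX
    refine CfsgLib.H7CN1.le_of_syl_of_pprime hSyM ?_ ?_
    · intro s hs
      refine mem_normalizer_of_conj fun x hx => ?_
      have h1 : s * x * s⁻¹ * x⁻¹ ∈ X := hZX (hSS (commutator_mem_commutator hs (hXS hx)))
      have h2 := X.mul_mem h1 hx
      rwa [inv_mul_cancel_right] at h2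
    · intro c hc hpc
      refine mem_normalizer_of_conj fun x hx => ?_
      have h1 := CfsgLib.H7CN1.nil_comm h.nil hp.out S.2 hSM hc hpc x (hXS hx)
      rw [h1, mul_inv_cancel_right]
      exact hx
  have hMb : M ≠ ⊥ := fun hb => hSb (le_bot_iff.1 (hb ▸ hSM))
  have hNM : normalizer (M : Set G) = M := h.norm le_rfl hMb le_normalizer
  have hpn : ∀ Q : Sylow p G, Z ≤ (Q : Subgroup G) → (Q : Subgroup G) ⊓ centralizer ((Q : Subgroup G) : Set G) = Z := by
    intro Q hZQ
    obtain ⟨g, rfl⟩ := MulAction.exists_smul_eq G S Q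
    have hcoe : ((g • S : Sylow p G) : Subgroup G) = MulAut.conj g • (S : Subgroup G) := rfl
    set ZQ : Subgroup G := ((g • S : Sylow p G) : Subgroup G) ⊓ centralizer (((g • S : Sylow p G) : Subgroup G) : Set G) with hZQd
    have hZQ' : ZQ = MulAut.conj g • Z := by
      ext x
      rw [CfsgLib.SZ.mem_conj_iff, hZ, hZQd, mem_inf, mem_inf, hcoe, CfsgLib.SZ.mem_conj_iff, mem_centralizer_iff, mem_centralizer_iff]
      refine and_congr_right fun _ => ⟨fun h2 y hy => ?_, fun h2 y hy => ?_⟩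
      · have h3 := h2 (g * y * g⁻¹) (CfsgLib.SZ.conj_mem_conj hy)
        calc y * (g⁻¹ * x * g) = g⁻¹ * (g * y * g⁻¹ * x) * g := by group
          _ = g⁻¹ * (x * (g * y * g⁻¹)) * g := by rw [h3]
          _ = _ := by group
      · have h3 := h2 _ (CfsgLib.SZ.mem_conj_iff.mp hy)
        calc y * x = g * (g⁻¹ * y * g * (g⁻¹ * x * g)) * g⁻¹ := by group
          _ = g * (g⁻¹ * x * g * (g⁻¹ * y * g)) * g⁻¹ := by rw [h3]
          _ = _ := by group
    have hZQM : ZQ ≤ M := by
      rw [← hNZ]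
      refine le_trans ?_ (CfsgLib.JSub.centralizer_le_normalizer Z)
      exact inf_le_right.trans (centralizer_le hZQ)
    have hZQS : ZQ ≤ (S : Subgroup G) := by
      have hp1 : IsPGroup p ZQ := (g • S : Sylow p G).2.to_le inf_le_left
      have hp2 : IsPGroup p (ZQ ⊔ (S : Subgroup G) : Subgroup G) := hp1.to_sup_of_normal_right' S.2 (hZQM.trans hMS)
      have h3 := S.3 hp2 le_sup_right
      exact le_sup_left.trans h3.le
    have hcM : MulAut.conj g • M = M := by
      set W : Subgroup G := Z ⊔ ZQ with hW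
      have hWS : W ≤ (S : Subgroup G) := sup_le inf_le_left hZQS
      have h1 : M ≤ normalizer (W : Set G) := hmem W hWS le_sup_left
      have h2 : MulAut.conj g • M ≤ normalizer (W : Set G) := by
        have h3 : M ≤ normalizer ((MulAut.conj g⁻¹ • W : Subgroup G) : Set G) := by
          apply hmem
          · intro x hx
            rw [CfsgLib.SZ.mem_conj_iff, inv_inv] at hx
            have h4 : W ≤ MulAut.conj g • (S : Subgroup G) := sup_le hZQ inf_le_left
            have h5 := CfsgLib.SZ.mem_conj_iff.1 (h4 hx)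
            have h6 : g⁻¹ * (g * x * g⁻¹) * g = x := by group
            rwa [h6] at h5
          · intro x hx
            rw [CfsgLib.SZ.mem_conj_iff, inv_inv]
            refine le_sup_right (a := Z) ?_
            rw [hZQ']
            exact CfsgLib.SZ.conj_mem_conj hx
        intro y hy
        rw [CfsgLib.SZ.mem_conj_iff] at hy
        refine mem_normalizer_of_conj fun x hx => ?_
        have h4 := (mem_normalizer_iff.1 (h3 hy) (g⁻¹ * x * g)).1 (by
          rw [CfsgLib.SZ.mem_conj_iff]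
          have h6 : g⁻¹⁻¹ * (g⁻¹ * x * g) * g⁻¹ = x := by group
          rw [h6]; exact hx)
        rw [CfsgLib.SZ.mem_conj_iff] at h4
        have h6 : g⁻¹⁻¹ * (g⁻¹ * y * g * (g⁻¹ * x * g) * (g⁻¹ * y * g)⁻¹) * g⁻¹ = y * x * y⁻¹ := by group
        rwa [h6] at h4
      have hWb : W ≠ ⊥ := fun hb => hZb (le_bot_iff.1 (hb ▸ le_sup_left))
      rw [h.norm (hWS.trans hSM) hWb h1] at h2
      exact eq_of_le_of_card_ge h2 (CfsgLib.SZ.card_conj g M).ge
    have hgM : g ∈ M := by
      rw [← hNM]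
      refine mem_normalizer_of_conj fun x hx => ?_
      rw [← hcM]
      exact CfsgLib.SZ.conj_mem_conj hx
    rw [hZQ']
    rw [← hNZ] at hgM
    ext x
    rw [CfsgLib.SZ.mem_conj_iff]
    have h4 := mem_normalizer_iff.1 ((normalizer (Z : Set G)).inv_mem hgM) x
    rw [inv_inv] at h4
    exact h4.symm
  have h78 := Cfsg.Agent.S0078.result S hpn M hNZ.le
  obtain ⟨K, hKn, hKc, k, hK⟩ : CfsgLib.NPC.NPC p M := CfsgLib.H5Fpf.npc_of_nilpotent h.nil
  have hKM : Cfsg.pResidual p M ≤ K := by
    rw [Cfsg.pResidual, closure_le]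
    intro x hx
    exact CfsgLib.NPC.mem_of_coprime hK hx
  have hN : (S : Subgroup G) ⊓ Cfsg.pResidual p G = ⊥ := by
    rw [h78, eq_bot_iff]
    rintro x ⟨hx1, y, hy, rfl⟩
    have h1 : (orderOf (y : G)).Coprime p := by
      rw [orderOf_coe]
      have h2 : orderOf y ∣ Nat.card K := by
        have h3 := orderOf_dvd_natCard (⟨y, hKM hy⟩ : K)
        rwa [orderOf_mk] at h3
      exact Nat.Coprime.coprime_dvd_left h2 hKc
    obtain ⟨j, hj⟩ := S.2 ⟨_, hx1⟩
    rw [mem_bot]
    exact CfsgLib.ThompsonNPC.eq_one_of_p_and_coprime ⟨j, by simpa [Subtype.ext_iff] using hj⟩ h1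
  have hNn : (Cfsg.pResidual p G).Normal := CfsgLib.Transfer.pResidual_normal p
  refine ⟨Cfsg.pResidual p G, hNn, ?_, CfsgLib.Transfer.pResidual_index p⟩
  by_contra hc
  have hdvd : p ∣ Nat.card (Cfsg.pResidual p G) := by
    by_contra hnd
    exact hc ((Nat.Prime.coprime_iff_not_dvd hp.out).2 hnd).symm
  obtain ⟨x, hx⟩ := exists_prime_orderOf_dvd_card' p hdvd
  have hxp : IsPGroup p (zpowers (x : G)) := by
    rw [← orderOf_coe] at hx
    exact IsPGroup.of_card (n := 1) (by rw [Nat.card_zpowers, hx, pow_one])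
  obtain ⟨Q, hQ⟩ := hxp.exists_le_sylow
  obtain ⟨g, rfl⟩ := MulAction.exists_smul_eq G S Q
  have hxQ : (x : G) ∈ MulAut.conj g • (S : Subgroup G) := hQ (mem_zpowers _)
  rw [CfsgLib.SZ.mem_conj_iff] at hxQ
  have h5 : g⁻¹ * x * g ∈ (S : Subgroup G) ⊓ Cfsg.pResidual p G := by
    refine ⟨hxQ, ?_⟩
    have := hNn.conj_mem x x.2 g⁻¹
    rwa [inv_inv] at this
  rw [hN, mem_bot] at h5
  have h6 : (x : G) = 1 := by
    have : (x : G) = g * (g⁻¹ * x * g) * g⁻¹ := by group
    rw [this, h5]; group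
  rw [← orderOf_coe, h6, orderOf_one] at hx
  exact hp.out.one_lt.ne hx

end CF

/-- The class-two condition on the `2`-elements of a nilpotent group. -/
def Two (M : Type*) [Group M] : Prop :=
  ∀ a b c : M, (∃ k, a ^ 2 ^ k = 1) → (∃ k, b ^ 2 ^ k = 1) → (∃ k, c ^ 2 ^ k = 1) →
    c * (a * b * a⁻¹ * b⁻¹) = a * b * a⁻¹ * b⁻¹ * c

theorem exists_lift_two {X Y : Type*} [Group X] [Group Y] [Finite X] (f : X →* Y) (hf : Function.Surjective f) {y : Y} {k : ℕ}
    (hy : y ^ 2 ^ k = 1) : ∃ x : X, f x = y ∧ ∃ k, x ^ 2 ^ k = 1 := by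
  obtain ⟨x, rfl⟩ := hf y
  obtain ⟨j, m, hm, hx⟩ := Nat.exists_eq_two_pow_mul_odd (orderOf_pos x).ne'
  rcases Nat.eq_zero_or_pos k with rfl | hk
  · refine ⟨1, ?_, 0, by simp⟩
    rw [map_one]
    simpa using hy.symm
  have hcop : Nat.Coprime m (2 ^ k) := (Nat.coprime_pow_right_iff hk _ _).2 (Nat.coprime_two_right.2 hm)
  obtain ⟨m', -, hm'⟩ := Nat.exists_mul_mod_eq_one_of_coprime hcop (Nat.one_lt_two_pow hk.ne')
  refine ⟨x ^ (m * m'), ?_, j, ?_⟩
  · rw [map_pow]
    have h1 : f x ^ (m * m') = f x ^ 1 := by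
      rw [pow_eq_pow_iff_modEq]
      refine Nat.ModEq.of_dvd (orderOf_dvd_of_pow_eq_one hy) ?_
      rw [Nat.ModEq, hm', Nat.mod_eq_of_lt (Nat.one_lt_two_pow hk.ne')]
    rw [h1, pow_one]
  · rw [← pow_mul, show m * m' * 2 ^ j = 2 ^ j * m * m' by ring, ← hx, pow_mul, pow_orderOf_eq_one, one_pow]

theorem Two.map {X Y : Type*} [Group X] [Group Y] [Finite X] (f : X →* Y) (hf : Function.Surjective f) (h : Two X) : Two Y := by
  rintro a b c ⟨i, hi⟩ ⟨j, hj⟩ ⟨k, hk⟩
  obtain ⟨x, rfl, hx⟩ := exists_lift_two f hf hi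
  obtain ⟨y, rfl, hy⟩ := exists_lift_two f hf hj
  obtain ⟨z, rfl, hz⟩ := exists_lift_two f hf hk
  have := congrArg f (h x y z hx hy hz)
  simpa only [map_mul, map_inv] using this

/-- **Deskins–Janko–Thompson.** A finite group with a nilpotent maximal subgroup whose Sylow 2-subgroup has class at most two
is solvable. -/
theorem solvable_aux (n : ℕ) : ∀ {G : Type u} [Group G] [Finite G], Nat.card G ≤ n →
    ∀ M : Subgroup G, IsCoatom M → Group.IsNilpotent M → Two M → Group.IsSolvable G := by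
  induction n with
  | zero => intro G _ _ h; exact absurd h (by have := Nat.card_pos (α := G); omega)
  | succ n ih =>
    intro G _ _ hn M hM hnil htwo
    by_cases hcore : ∃ N : Subgroup G, N.Normal ∧ N ≤ M ∧ N ≠ ⊥
    · obtain ⟨N, hN, hNM, hNb⟩ := hcore
      have hNs : Group.IsSolvable N := CfsgLib.SZ.isSolvable_of_le hNM (by infer_instance)
      refine CfsgLib.Core2.solvable_ext N hNs ?_
      have hcQ : Nat.card (G ⧸ N) < Nat.card G := by
        have h1 := N.card_eq_card_quotient_mul_card_subgroup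
        have h2 : 1 < Nat.card N := by
          rw [Nat.one_lt_iff_ne_zero_and_ne_one]
          exact ⟨Nat.card_pos.ne', fun h => hNb (card_eq_one.1 h)⟩
        have h3 : 0 < Nat.card (G ⧸ N) := Nat.card_pos
        nlinarith
      refine ih (by omega) (M.map (QuotientGroup.mk' N)) (coatom_map _ (QuotientGroup.mk'_surjective N) hM
        (by rw [QuotientGroup.ker_mk']; exact hNM)) ?_ ?_
      · exact Group.nilpotent_of_surjective ((QuotientGroup.mk' N).subgroupMap M) ((QuotientGroup.mk' N).subgroupMap_surjective M)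
      · exact htwo.map _ ((QuotientGroup.mk' N).subgroupMap_surjective M)
    · have hcf : CF M := ⟨hM, hnil, fun N hN hNM => by
        by_contra h
        exact hcore ⟨N, hN, hNM, h⟩⟩
      have hnpc : ∀ p : (Nat.card M).primeFactors, CfsgLib.NPC.NPC p G := by
        rintro ⟨p, hp⟩
        obtain ⟨hpp, hpM, -⟩ := Nat.mem_primeFactors.1 hp
        haveI := Fact.mk hpp
        change CfsgLib.NPC.NPC p G
        by_cases hp2 : p = 2
        · subst hp2
          obtain ⟨S, hSM, hSb, hMS⟩ := hcf.exists_sylow hpM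
          refine hcf.npc_cl2 S hSM hSb hMS ?_
          rw [commutator_le]
          intro a ha b hb
          rw [mem_centralizer_iff]
          intro c hc
          have hel : ∀ x ∈ (S : Subgroup G), ∀ hx : x ∈ M, ∃ k, (⟨x, hx⟩ : M) ^ 2 ^ k = 1 := by
            intro x hx hxM
            obtain ⟨k, hk⟩ := S.2 ⟨x, hx⟩
            refine ⟨k, ?_⟩
            rw [Subtype.ext_iff] at hk ⊢
            exact hk
          have h1 := htwo ⟨a, hSM ha⟩ ⟨b, hSM hb⟩ ⟨c, hSM hc⟩ (hel _ ha _) (hel _ hb _) (hel _ hc _)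
          rw [Subtype.ext_iff] at h1
          exact h1
        · exact hcf.npc_odd hpM hp2
      choose K hKn hKc hKi using hnpc
      set L := ⨅ p, K p with hL
      haveI hLn : L.Normal := normal_iInf_normal hKn
      have hcop : (Nat.card M).Coprime (Nat.card L) := by
        rw [Nat.Coprime.eq_1]
        by_contra hne
        obtain ⟨r, hr, hrd⟩ := Nat.exists_prime_and_dvd hne
        have hrM := hrd.trans (Nat.gcd_dvd_left _ _)
        have hrL := hrd.trans (Nat.gcd_dvd_right _ _)
        have hmem : r ∈ (Nat.card M).primeFactors := Nat.mem_primeFactors.2 ⟨hr, hrM, Nat.card_pos.ne'⟩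
        have h1 : L ≤ K ⟨r, hmem⟩ := iInf_le K ⟨r, hmem⟩
        have h2 := hrL.trans (card_dvd_of_le h1)
        exact hr.one_lt.ne' (Nat.dvd_one.1 ((hKc ⟨r, hmem⟩) ▸ Nat.dvd_gcd h2 dvd_rfl))
      by_cases hLb : L = ⊥
      · have h1 : ∀ p, ∃ n, derivedSeries G n ≤ K p := by
          intro p
          haveI := hKn p
          obtain ⟨k, hk⟩ := hKi p
          haveI : Fact (p : ℕ).Prime := ⟨(Nat.mem_primeFactors.1 p.2).1⟩
          have hpg : IsPGroup p (G ⧸ K p) := IsPGroup.of_card (by rw [← index_eq_card]; exact hk)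
          haveI := hpg.isNilpotent
          have hs : Group.IsSolvable (G ⧸ K p) := inferInstance
          obtain ⟨n, hn⟩ := hs.solvable
          refine ⟨n, ?_⟩
          have h2 := map_derivedSeries_le_derivedSeries (QuotientGroup.mk' (K p)) n
          rw [hn, le_bot_iff, Subgroup.map_eq_bot_iff, QuotientGroup.ker_mk'] at h2
          exact h2
        obtain ⟨n, hn⟩ := solv_inf K h1
        rw [← hL, hLb, le_bot_iff] at hn
        exact ⟨⟨n, hn⟩⟩
      · have hLc : Nat.card L ≠ 1 := fun h => hLb (card_eq_one.1 h)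
        obtain ⟨q, hq, hqL⟩ := Nat.exists_prime_and_dvd hLc
        haveI := Fact.mk hq
        have hact : CfsgLib.Coprime.CopAct M L := ⟨normalizer_eq_top (H := L) ▸ le_top, hcop, Or.inl inferInstance⟩
        obtain ⟨Q, hQ, hMQ⟩ := hact.exists_isSyl q
        have hQb : Q ≠ ⊥ := by
          rintro rfl
          have := hQ.2
          rw [card_bot] at this
          have h1 := hq.factorization_pos_of_dvd Nat.card_pos.ne' hqL
          have h2 := Nat.one_lt_pow h1.ne' hq.one_lt
          omega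
        have hQM : ¬ Q ≤ M := by
          intro h
          apply hQb
          rw [eq_bot_iff]
          exact (le_inf h hQ.1).trans (CfsgLib.Coprime.CopAct.inf_eq_bot hact).le
        have hQn : Q.Normal := by
          rw [← normalizer_eq_top_iff]
          apply hM.2
          refine lt_of_le_of_ne hMQ ?_
          intro h
          exact hQM (h ▸ le_normalizer)
        have hQs : Group.IsSolvable Q := by
          haveI := hQ.isPGroup.isNilpotent
          infer_instance
        refine CfsgLib.Core2.solvable_ext Q hQs ?_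
        have hsup : M ⊔ Q = ⊤ := by
          apply hM.2
          exact lt_of_le_of_ne le_sup_left (fun h => hQM (h ▸ le_sup_right))
        have hsurj : Function.Surjective ((QuotientGroup.mk' Q).comp M.subtype) := by
          intro y
          obtain ⟨g, rfl⟩ := QuotientGroup.mk'_surjective Q y
          have : g ∈ M ⊔ Q := hsup ▸ mem_top g
          rw [mem_sup_of_normal_right] at this
          obtain ⟨m, hm, q, hq, rfl⟩ := this
          refine ⟨⟨m, hm⟩, ?_⟩
          rw [map_mul, (CfsgLib.Core2.mk_eq_one_iff Q q).2 hq, mul_one]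
          rfl
        exact Group.isSolvable_of_surjective hsurj

theorem solvable {G : Type*} [Group G] [Finite G] {M : Subgroup G} (hM : IsCoatom M) (hnil : Group.IsNilpotent M)
    (htwo : Two M) : Group.IsSolvable G :=
  solvable_aux _ le_rfl M hM hnil htwo

theorem two_of_comm {M : Type*} [Group M] (h : ∀ a b : M, a * b = b * a) : Two M := by
  intro a b c _ _ _
  have h1 : a * b * a⁻¹ * b⁻¹ = 1 := by rw [h a b]; group
  rw [h1, one_mul, mul_one]

/-- A finite group with an abelian maximal subgroup is solvable. -/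
theorem solvable_of_abelian {G : Type*} [Group G] [Finite G] {M : Subgroup G} (hM : IsCoatom M)
    (h : ∀ a ∈ M, ∀ b ∈ M, a * b = b * a) : Group.IsSolvable G := by
  have hc : ∀ a b : M, a * b = b * a := fun a b => Subtype.ext (h a a.2 b b.2)
  letI : CommGroup M := { (inferInstance : Group M) with mul_comm := hc }
  exact solvable hM inferInstance (two_of_comm hc)

end CfsgLib.H3Desk
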