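import Mathlib
import Cfsg.Agent.Lib.H3Desk
import Cfsg.Agent.Lib.CharBasic3
import Cfsg.Agent.Lib.FrobAct2
import Cfsg.Agent.Lib.Core

/-!
# Groups with maximal centralizers
-/

set_option autoImplicit false
set_option linter.style.haveILetI false

open Subgroup
open scoped Pointwise

namespace CfsgLib.H3CMax

universe u

section Elem
variable {G : Type u} [Group G]

theorem exists_pow_mul {x y : G} (hxy : x * y = y * x) (hc : (orderOf x).Coprime (orderOf y)) :
    ∃ n : ℕ, (x * y) ^ n = x := by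
  obtain ⟨n, hn1, hn2⟩ := Nat.chineseRemainder hc 1 0
  refine ⟨n, ?_⟩
  have h1 : Commute x y := hxy
  rw [h1.mul_pow]
  have h2 : x ^ n = x := by
    conv_rhs => rw [← pow_one x]
    exact pow_eq_pow_iff_modEq.2 hn1
  have h3 : y ^ n = 1 := by
    rw [← pow_zero y]
    exact pow_eq_pow_iff_modEq.2 hn2
  rw [h2, h3, mul_one]

theorem centralizer_mul_le {x y : G} (hxy : x * y = y * x) (hc : (orderOf x).Coprime (orderOf y)) :
    centralizer ({x * y} : Set G) ≤ centralizer ({x} : Set G) := by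
  obtain ⟨n, hn⟩ := exists_pow_mul hxy hc
  intro g hg
  have h1 := mem_centralizer_singleton_iff.1 hg
  apply mem_centralizer_singleton_iff.2
  have h2 : Commute g (x * y) := h1
  have h3 := h2.pow_right n
  rw [hn] at h3
  exact h3

/-- two elements of coprime orders with central commutator commute -/
theorem comm_of_central {x y : G} {r s : ℕ} (hrs : r.Coprime s) (hx : x ^ r = 1) (hy : y ^ s = 1)
    (hz : x * y * x⁻¹ * y⁻¹ ∈ center G) : x * y = y * x := by
  set c := x * y * x⁻¹ * y⁻¹ with hc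
  have hcc : ∀ g, c * g = g * c := fun g => (mem_center_iff.1 hz g).symm
  have h1 : x * y * x⁻¹ = c * y := by rw [hc]; group
  have h2 : c ^ s = 1 := by
    have h3 : (x * y * x⁻¹) ^ s = 1 := by rw [conj_pow, hy, mul_one, mul_inv_cancel]
    rw [h1, (show Commute c y from hcc y).mul_pow, hy, mul_one] at h3
    exact h3
  have h4 : y * x * y⁻¹ = c⁻¹ * x := by rw [hc]; group
  have h5 : c ^ r = 1 := by
    have h3 : (y * x * y⁻¹) ^ r = 1 := by rw [conj_pow, hx, mul_one, mul_inv_cancel]
    have h6 : Commute c⁻¹ x := (show Commute c x from hcc x).inv_left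
    rw [h4, h6.mul_pow, hx, mul_one, inv_pow, inv_eq_one] at h3
    exact h3
  have h6 : c = 1 := by
    rw [← orderOf_eq_one_iff]
    exact Nat.eq_one_of_dvd_coprimes hrs (orderOf_dvd_of_pow_eq_one h5) (orderOf_dvd_of_pow_eq_one h2)
  rw [h6, one_mul] at h1
  calc x * y = x * y * x⁻¹ * x := by group
    _ = y * x := by rw [h1]

end Elem

/-- lifting of `p`-elements -/
theorem exists_lift {X Y : Type*} [Group X] [Group Y] [Finite X] {p : ℕ} (hp : p.Prime) (f : X →* Y) (hf : Function.Surjective f)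
    {y : Y} {k : ℕ} (hy : y ^ p ^ k = 1) : ∃ x : X, f x = y ∧ ∃ k, x ^ p ^ k = 1 := by
  obtain ⟨x, rfl⟩ := hf y
  obtain ⟨j, m, hm, hx⟩ := Nat.exists_eq_pow_mul_and_not_dvd (orderOf_pos x).ne' p hp.ne_one
  rcases Nat.eq_zero_or_pos k with rfl | hk
  · refine ⟨1, ?_, 0, by simp⟩
    rw [map_one]
    simpa using hy.symm
  have hcop : Nat.Coprime m (p ^ k) := (Nat.coprime_pow_right_iff hk _ _).2 ((Nat.Prime.coprime_iff_not_dvd hp).2 hm).symm
  obtain ⟨m', -, hm'⟩ := Nat.exists_mul_mod_eq_one_of_coprime hcop (Nat.one_lt_pow hk.ne' hp.one_lt)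
  refine ⟨x ^ (m * m'), ?_, j, ?_⟩
  · rw [map_pow]
    have h1 : f x ^ (m * m') = f x ^ 1 := by
      rw [pow_eq_pow_iff_modEq]
      refine Nat.ModEq.of_dvd (orderOf_dvd_of_pow_eq_one hy) ?_
      rw [Nat.ModEq, hm', Nat.mod_eq_of_lt (Nat.one_lt_pow hk.ne' hp.one_lt)]
    rw [h1, pow_one]
  · rw [← pow_mul, show m * m' * p ^ j = p ^ j * m * m' by ring, ← hx, pow_mul, pow_orderOf_eq_one, one_pow]

theorem two_primes {r s : ℕ} (n : ℕ) : n ≠ 0 → (∀ q : ℕ, q.Prime → q ∣ n → q = r ∨ q = s) → ∃ a b, n = r ^ a * s ^ b := by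
  induction n using Nat.strong_induction_on with
  | _ n ih =>
    intro hn h
    by_cases h1 : n = 1
    · exact ⟨0, 0, by simpa using h1⟩
    have hq := Nat.minFac_prime h1
    obtain ⟨m, hm⟩ := Nat.minFac_dvd n
    have hm0 : m ≠ 0 := by rintro rfl; rw [mul_zero] at hm; exact hn hm
    have hlt : m < n := by
      conv_rhs => rw [hm]
      have := hq.one_lt
      have := Nat.pos_of_ne_zero hm0
      nlinarith
    obtain ⟨a, b, hab⟩ := ih m hlt hm0 (fun q hq1 hq2 => h q hq1 (by rw [hm]; exact dvd_mul_of_dvd_right hq2 _))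
    rcases h _ hq (Nat.minFac_dvd n) with h2 | h2
    · refine ⟨a + 1, b, ?_⟩
      rw [hm, hab]
      conv_lhs => rw [h2]
      ring
    · refine ⟨a, b + 1, ?_⟩
      rw [hm, hab]
      conv_lhs => rw [h2]
      ring

theorem solvable_of_pGroup {G : Type u} [Group G] [Finite G] {p : ℕ} (hp : p.Prime) (h : IsPGroup p G) : Group.IsSolvable G := by
  haveI := Fact.mk hp
  haveI := h.isNilpotent
  infer_instance

/-- Lemma B -/
theorem solvable_of_maxSylow {Q : Type u} [Group Q] [Finite Q]
    (ha : ∀ (r s : ℕ), r.Prime → s.Prime → r ≠ s → ∀ x y : Q, (∃ k, x ^ r ^ k = 1) → (∃ k, y ^ s ^ k = 1) → x * y = y * x →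
      x = 1 ∨ y = 1)
    (hb : ∀ (p : ℕ) [Fact p.Prime] (S : Sylow p Q), (S : Subgroup Q) ≠ ⊥ → IsCoatom (S : Subgroup Q) ∧ ¬ IsCyclic (S : Subgroup Q)) :
    Group.IsSolvable Q := by
  classical
  by_cases h1 : ∃ r, r.Prime ∧ Cfsg.pCore r Q ≠ ⊥
  · obtain ⟨r, hr, hrc⟩ := h1
    haveI := Fact.mk hr
    have hVn : (Cfsg.pCore r Q).Normal := CfsgLib.Core.pCore_normal r Q
    have key : ∀ s : ℕ, s.Prime → s ∣ Nat.card Q → s = r ∨ s = 2 := by
      intro s hs hsQ
      haveI := Fact.mk hs
      by_contra hcon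
      push Not at hcon
      obtain ⟨S⟩ : Nonempty (Sylow s Q) := inferInstance
      have hSb : (S : Subgroup Q) ≠ ⊥ := S.ne_bot_of_dvd_card hsQ
      have hfp : CfsgLib.FrobAct.Fpf (S : Subgroup Q) (Cfsg.pCore r Q) := by
        refine CfsgLib.FrobAct.Fpf.of_forall (by rw [normalizer_eq_top]; exact le_top) fun a haS ha1 v hv hav => ?_
        obtain ⟨i, hi⟩ := S.2 ⟨a, haS⟩
        obtain ⟨j, hj⟩ := CfsgLib.Core.pCore_isPGroup r Q ⟨v, hv⟩
        rcases ha r s hr hs (Ne.symm hcon.1) v a ⟨j, by simpa [Subtype.ext_iff] using hj⟩ ⟨i, by simpa [Subtype.ext_iff] using hi⟩ hav.symm with h | h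
        · exact h
        · exact absurd h ha1
      rcases hfp.cyclic_or_quaternion hrc S.2 with h | ⟨h, -⟩
      · exact (hb s S hSb).2 h
      · exact hcon.2 h
    have hcard : ∃ a b, Nat.card Q = r ^ a * 2 ^ b := two_primes _ Nat.card_pos.ne' key
    obtain ⟨a, b, hab⟩ := hcard
    exact CfsgLib.CharBasic.burnside_pq _ Q r 2 a b hr Nat.prime_two hab rfl
  · push Not at h1
    by_cases h2 : ∃ r, r.Prime ∧ r ≠ 2 ∧ r ∣ Nat.card Q
    · obtain ⟨r, hr, hr2, hrQ⟩ := h2
      haveI := Fact.mk hr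
      obtain ⟨S⟩ : Nonempty (Sylow r Q) := inferInstance
      have hSb : (S : Subgroup Q) ≠ ⊥ := S.ne_bot_of_dvd_card hrQ
      have hSc := (hb r S hSb).1
      have hN : ∀ X : Subgroup Q, X ≤ (S : Subgroup Q) → X ≠ ⊥ → (S : Subgroup Q) ≤ normalizer (X : Set Q) →
          normalizer (X : Set Q) = (S : Subgroup Q) := by
        intro X hXS hXb hSX
        rcases hSX.eq_or_lt with h | h
        · exact h.symm
        · have h3 := normalizer_eq_top_iff.1 (hSc.2 _ h)
          have h4 : X ≤ Cfsg.pCore r Q := CfsgLib.Core.le_pCore h3 (S.2.to_le hXS)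
          rw [h1 r hr] at h4
          exact absurd (le_bot_iff.1 h4) hXb
      have hnpc : CfsgLib.NPC.NPC r Q := by
        have hnS : CfsgLib.NPC.NPC r (S : Subgroup Q) := CfsgLib.NPC.npc_of_isPGroup S.2
        rw [CfsgLib.ThompsonNPC.thompson hr2 S]
        constructor
        · rw [hN _ (CfsgLib.JSub.J_le r (S : Subgroup Q)) (CfsgLib.JSub.J_ne_bot S.2 hSb)
            (le_normalizer.trans (CfsgLib.JSub.normalizer_le_normalizer_J r (S : Subgroup Q)))]
          exact hnS
        · have h3 := CfsgLib.JSub.centralizer_le_normalizer (CfsgLib.JSub.Z (S : Subgroup Q))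
          rw [hN _ (CfsgLib.JSub.Z_le _) (CfsgLib.JSub.Z_ne_bot S.2 hSb)
            (le_normalizer.trans (CfsgLib.JSub.normalizer_le_normalizer_Z _))] at h3
          exact hnS.of_le h3
      obtain ⟨K, hKn, hKc, k, hK⟩ := hnpc
      by_cases hKb : K = ⊥
      · refine solvable_of_pGroup hr (IsPGroup.of_card (n := k) ?_)
        rw [← hK, hKb, index_bot]
      · exfalso
        have hLc : Nat.card K ≠ 1 := fun h => hKb (card_eq_one.1 h)
        obtain ⟨q, hq, hqL⟩ := Nat.exists_prime_and_dvd hLc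
        haveI := Fact.mk hq
        have hcop : (Nat.card (S : Subgroup Q)).Coprime (Nat.card K) := by
          obtain ⟨n, hn⟩ := IsPGroup.iff_card.1 S.2
          rw [hn]
          exact (hKc.pow_right n).symm
        have hact : CfsgLib.Coprime.CopAct (S : Subgroup Q) K := ⟨normalizer_eq_top (H := K) ▸ le_top, hcop,
          Or.inl (solvable_of_pGroup hr S.2)⟩
        obtain ⟨T, hT, hST⟩ := hact.exists_isSyl q
        have hTb : T ≠ ⊥ := by
          rintro rfl
          have := hT.2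
          rw [card_bot] at this
          have h1 := hq.factorization_pos_of_dvd Nat.card_pos.ne' hqL
          have h2 := Nat.one_lt_pow h1.ne' hq.one_lt
          omega
        have hTS : ¬ T ≤ (S : Subgroup Q) := by
          intro h
          apply hTb
          rw [eq_bot_iff]
          exact (le_inf h hT.1).trans (CfsgLib.Coprime.CopAct.inf_eq_bot hact).le
        have hTn : T.Normal := by
          rw [← normalizer_eq_top_iff]
          apply hSc.2
          refine lt_of_le_of_ne hST ?_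
          intro h
          exact hTS (h ▸ le_normalizer)
        have h4 : T ≤ Cfsg.pCore q Q := CfsgLib.Core.le_pCore hTn hT.isPGroup
        rw [h1 q hq] at h4
        exact hTb (le_bot_iff.1 h4)
    · push Not at h2
      have hcard : ∃ b, Nat.card Q = 2 ^ b := by
        obtain ⟨a, b, hab⟩ := two_primes (r := 2) (s := 2) (Nat.card Q) Nat.card_pos.ne' (fun q hq hqd => by
          by_contra hcon
          rw [or_self] at hcon
          exact h2 q hq hcon hqd)
        exact ⟨a + b, by rw [hab, pow_add]⟩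
      obtain ⟨b, hb'⟩ := hcard
      exact solvable_of_pGroup Nat.prime_two (IsPGroup.of_card hb')

end CfsgLib.H3CMax
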