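import Mathlib
import Cfsg.Agent.Lib.H3Syl
import Cfsg.Prelude.Def_OddOrderLocal

/-!
# TI Hall subgroups of π-separable groups
-/

set_option autoImplicit false
set_option linter.style.haveILetI false

namespace CfsgLib.H3Ti

open Subgroup

universe u

variable {G : Type u} [Group G] [Finite G]

/-- the largest normal subgroup of order coprime to `m` -/
theorem pi_core (m : ℕ) {O : Subgroup G} (hO : O = sSup {K : Subgroup G | K.Normal ∧ (Nat.card K).Coprime m}) :
    O.Normal ∧ (Nat.card O).Coprime m ∧ ∀ K : Subgroup G, K.Normal → (Nat.card K).Coprime m → K ≤ O := by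
  classical
  have hfin : {K : Subgroup G | K.Normal ∧ (Nat.card K).Coprime m}.Finite := Set.toFinite _
  obtain ⟨K0, ⟨hK0n, hK0c⟩, hmax⟩ := hfin.exists_maximalFor (fun K : Subgroup G => Nat.card K) _ ⟨⊥, ⟨inferInstance, by simp⟩⟩
  have hle : ∀ K : Subgroup G, K.Normal → (Nat.card K).Coprime m → K ≤ K0 := by
    intro K hKn hKc
    haveI := hK0n
    haveI := hKn
    have h1 := CfsgLib.H3Misc.card_sup_mul_card_inf K0 K
    have h2 : (Nat.card (K0 ⊔ K : Subgroup G)).Coprime m := by
      refine Nat.Coprime.coprime_dvd_left (Dvd.intro _ h1) ?_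
      exact Nat.Coprime.mul_left hK0c hKc
    have h3 := hmax (j := K0 ⊔ K) ⟨inferInstance, h2⟩ (Subgroup.card_le_of_le le_sup_left)
    have h4 : K0 = K0 ⊔ K := Subgroup.eq_of_le_of_card_ge le_sup_left h3
    rw [h4]; exact le_sup_right
  have hOK : O = K0 := by
    rw [hO]
    exact le_antisymm (sSup_le fun K hK => hle K hK.1 hK.2) (le_sSup ⟨hK0n, hK0c⟩)
  subst hOK
  exact ⟨hK0n, hK0c, hle⟩

variable {H : Subgroup G}

/-- TI: the normalizer of a nontrivial subgroup of `H` normalizes `H` -/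
theorem norm_le (hTI : Cfsg.IsTISubset (H : Set G)) {P : Subgroup G} (hP : P ≤ H) (hP1 : P ≠ ⊥) :
    normalizer (P : Set G) ≤ normalizer (H : Set G) := by
  intro g hg
  by_contra hgn
  obtain ⟨x, hx, hx1⟩ := P.bot_or_exists_ne_one.resolve_left hP1
  exact hx1 (hTI g hgn x (hP hx) (hP ((mem_normalizer_iff.1 hg x).1 hx)))

theorem hall_of_TI (hTI : Cfsg.IsTISubset (H : Set G))
    (hHall : (Nat.card H).Coprime (H.subgroupOf (normalizer (H : Set G))).index) : (Nat.card H).Coprime H.index := by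
  rw [Nat.coprime_iff_gcd_eq_one]
  by_contra hne
  obtain ⟨p, hp, hpd⟩ := Nat.exists_prime_and_dvd hne
  haveI : Fact p.Prime := ⟨hp⟩
  have hpH : p ∣ Nat.card H := hpd.trans (Nat.gcd_dvd_left _ _)
  have hpi : p ∣ H.index := hpd.trans (Nat.gcd_dvd_right _ _)
  obtain ⟨S⟩ : Nonempty (Sylow p H) := inferInstance
  set P : Subgroup G := (S : Subgroup H).map H.subtype with hP
  have hPH : P ≤ H := by rintro _ ⟨x, -, rfl⟩; exact x.2
  have hPc : Nat.card P = p ^ (Nat.card H).factorization p := by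
    rw [← S.card_eq_multiplicity]
    exact (Nat.card_congr ((S : Subgroup H).equivMapOfInjective _ H.subtype_injective).toEquiv).symm
  have hfac : 0 < (Nat.card H).factorization p := hp.factorization_pos_of_dvd Nat.card_pos.ne' hpH
  have hP1 : P ≠ ⊥ := by
    intro h0
    rw [h0, card_bot] at hPc
    exact absurd hPc.symm (Nat.one_lt_pow hfac.ne' hp.one_lt).ne'
  have hdvd : p ^ ((Nat.card H).factorization p + 1) ∣ Nat.card G := by
    rw [← Subgroup.card_mul_index H, pow_succ]
    exact mul_dvd_mul (Nat.ordProj_dvd _ _) hpi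
  have h1 := Sylow.prime_dvd_card_quotient_normalizer hdvd hPc
  have h2 : p ^ ((Nat.card H).factorization p + 1) ∣ Nat.card (normalizer (P : Set G)) := by
    have h3 : Nat.card P * P.relIndex (normalizer (P : Set G)) = Nat.card (normalizer (P : Set G)) := CfsgLib.H3Syl.card_mul_relIndex le_normalizer
    rw [← h3, hPc, pow_succ]
    exact mul_dvd_mul dvd_rfl h1
  have h3 : Nat.card (normalizer (P : Set G)) ∣ Nat.card (normalizer (H : Set G)) := Subgroup.card_dvd_of_le (norm_le hTI hPH hP1)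
  have h4 : Nat.card H * (H.subgroupOf (normalizer (H : Set G))).index = Nat.card (normalizer (H : Set G)) := CfsgLib.H3Syl.card_mul_relIndex le_normalizer
  have h5 : p ^ ((Nat.card H).factorization p + 1) ∣ Nat.card H := by
    have hcop : Nat.Coprime (p ^ ((Nat.card H).factorization p + 1)) (H.subgroupOf (normalizer (H : Set G))).index :=
      Nat.Coprime.pow_left _ (hHall.coprime_dvd_left hpH)
    have h6 := h2.trans h3
    rw [← h4] at h6
    exact hcop.dvd_of_dvd_mul_right h6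
  exact Nat.pow_succ_factorization_not_dvd Nat.card_pos.ne' hp h5

theorem exists_layer (m : ℕ) {O : Subgroup G} [O.Normal] (hOm : ∀ K : Subgroup G, K.Normal → (Nat.card K).Coprime m → K ≤ O)
    (hOc : (Nat.card O).Coprime m) (hOt : O ≠ ⊤)
    (hsep : ∃ (n : ℕ) (M : Fin (n + 1) → Subgroup G), M 0 = ⊥ ∧ M (Fin.last n) = ⊤ ∧ Monotone M ∧ (∀ i, (M i).Normal) ∧
      ∀ i : Fin n, (∀ q : ℕ, q.Prime → q ∣ (M i.castSucc).relIndex (M i.succ) → q ∣ m) ∨
        ((M i.castSucc).relIndex (M i.succ)).Coprime m) :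
    ∃ R : Subgroup G, R.Normal ∧ O ≤ R ∧ R ≠ O ∧ ∀ q : ℕ, q.Prime → q ∣ O.relIndex R → q ∣ m := by
  obtain ⟨n, M, h0, hl, hmono, hn, hf⟩ := hsep
  obtain ⟨i, hi1, hi2⟩ : ∃ i : Fin n, M i.castSucc ≤ O ∧ ¬ M i.succ ≤ O := by
    by_contra hcon
    push Not at hcon
    have h1 : ∀ j, M j ≤ O := by
      intro j
      induction j using Fin.induction with
      | zero => rw [h0]; exact bot_le
      | succ i ih => exact hcon i ih
    apply hOt
    rw [← top_le_iff, ← hl]
    exact h1 _
  haveI := hn i.succ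
  have h1 : O.relIndex (O ⊔ M i.succ) ∣ (M i.castSucc).relIndex (M i.succ) := by
    rw [relIndex_sup_left]
    exact relIndex_dvd_of_le_left _ hi1
  rcases hf i with h2 | h2
  · refine ⟨O ⊔ M i.succ, inferInstance, le_sup_left, fun h3 => hi2 (h3 ▸ le_sup_right), fun q hq hqd => h2 q hq (hqd.trans h1)⟩
  · exfalso
    apply hi2
    refine le_sup_right.trans (hOm (O ⊔ M i.succ) inferInstance ?_)
    have h3 : Nat.card O * O.relIndex (O ⊔ M i.succ) = Nat.card (O ⊔ M i.succ : Subgroup G) := CfsgLib.H3Syl.card_mul_relIndex le_sup_left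
    rw [← h3]
    exact Nat.Coprime.mul_left hOc (h2.coprime_dvd_left h1)

theorem parts (hTI : Cfsg.IsTISubset (H : Set G)) (hH1 : H ≠ ⊥) (hHall : (Nat.card H).Coprime H.index)
    {O : Subgroup G} [O.Normal] (hOm : ∀ K : Subgroup G, K.Normal → (Nat.card K).Coprime (Nat.card H) → K ≤ O)
    (hOc : (Nat.card O).Coprime (Nat.card H))
    (hsep : ∃ (n : ℕ) (M : Fin (n + 1) → Subgroup G), M 0 = ⊥ ∧ M (Fin.last n) = ⊤ ∧ Monotone M ∧ (∀ i, (M i).Normal) ∧
      ∀ i : Fin n, (∀ q : ℕ, q.Prime → q ∣ (M i.castSucc).relIndex (M i.succ) → q ∣ Nat.card H) ∨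
        ((M i.castSucc).relIndex (M i.succ)).Coprime (Nat.card H)) :
    O ⊔ normalizer (H : Set G) = ⊤ ∧ (O ⊔ H).Normal := by
  have hinf : O ⊓ H = ⊥ := by
    apply Subgroup.card_eq_one.1
    have h1 := Nat.dvd_gcd (Subgroup.card_dvd_of_le (inf_le_left : O ⊓ H ≤ O)) (Subgroup.card_dvd_of_le (inf_le_right : O ⊓ H ≤ H))
    rw [hOc.gcd_eq_one] at h1
    exact Nat.dvd_one.1 h1
  have hOt : O ≠ ⊤ := by
    rintro rfl
    rw [top_inf_eq] at hinf
    exact hH1 hinf
  obtain ⟨R, hRn, hOR, hRO, hRq⟩ := exists_layer (Nat.card H) hOm hOc hOt hsep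
  haveI := hRn
  have hRle : R ≤ O ⊔ H := by
    have h1 : (O ⊔ H).relIndex R = 1 := by
      have h2 : (O ⊔ H).relIndex R ∣ O.relIndex R := relIndex_dvd_of_le_left _ le_sup_left
      have h3 : (O ⊔ H).relIndex R ∣ H.index := by
        have h4 := CfsgLib.H3Syl.relIndex_sup_norm (CfsgLib.H3Syl.le_norm_normal (K := R) (O ⊔ H))
        rw [← h4]
        exact (relIndex_dvd_index_of_le le_sup_left).trans (index_dvd_of_le le_sup_right)
      by_contra hne
      obtain ⟨q, hq, hqd⟩ := Nat.exists_prime_and_dvd hne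
      have h5 := Nat.dvd_gcd (hRq q hq (hqd.trans h2)) (hqd.trans h3)
      rw [hHall.gcd_eq_one] at h5
      exact hq.one_lt.ne' (Nat.dvd_one.1 h5)
    exact relIndex_eq_one.1 h1
  have hRH : R ⊓ H ≠ ⊥ := by
    intro h0
    apply hRO
    apply le_antisymm _ hOR
    intro r hr
    obtain ⟨o, ho, h, hh, rfl⟩ := mem_sup_of_normal_left.1 (hRle hr)
    have h1 : h ∈ R ⊓ H := by
      refine mem_inf.2 ⟨?_, hh⟩
      have h2 : o⁻¹ * (o * h) ∈ R := mul_mem (inv_mem (hOR ho)) hr
      rwa [inv_mul_cancel_left] at h2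
    rw [h0, mem_bot] at h1
    rw [h1, mul_one]; exact ho
  obtain ⟨p, hp, hpd⟩ := Nat.exists_prime_and_dvd (n := Nat.card (R ⊓ H : Subgroup G)) (fun h0 => hRH (Subgroup.card_eq_one.1 h0))
  haveI : Fact p.Prime := ⟨hp⟩
  have hpH : p ∣ Nat.card H := hpd.trans (Subgroup.card_dvd_of_le inf_le_right)
  obtain ⟨S⟩ : Nonempty (Sylow p (H.subgroupOf R)) := inferInstance
  have hidx : ¬ p ∣ (H.subgroupOf R).index := by
    intro h0
    have h4 := CfsgLib.H3Syl.relIndex_sup_norm (CfsgLib.H3Syl.le_norm_normal (K := R) H)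
    have h5 : (H.subgroupOf R).index ∣ H.index := by
      change H.relIndex R ∣ H.index
      rw [← h4]
      exact relIndex_dvd_index_of_le le_sup_left
    have h6 := Nat.dvd_gcd hpH (h0.trans h5)
    rw [hHall.gcd_eq_one] at h6
    exact hp.one_lt.ne' (Nat.dvd_one.1 h6)
  have hSidx : ¬ p ∣ ((S : Subgroup (H.subgroupOf R)).map (H.subgroupOf R).subtype).index := by
    intro h0
    rw [Subgroup.index_map_subtype] at h0
    rcases hp.dvd_mul.1 h0 with h1 | h1
    · exact S.not_dvd_index h1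
    · exact hidx h1
  have hSp : IsPGroup p ((S : Subgroup (H.subgroupOf R)).map (H.subgroupOf R).subtype) := S.2.map _
  set P : Sylow p R := hSp.toSylow hSidx with hPdef
  have hPle : (P : Subgroup R).map R.subtype ≤ H := by
    rintro _ ⟨x, ⟨y, -, rfl⟩, rfl⟩
    exact y.2
  have hP1 : (P : Subgroup R).map R.subtype ≠ ⊥ := by
    intro h0
    have h1 : (S : Subgroup (H.subgroupOf R)) = ⊥ := by
      have h2 : (P : Subgroup R) = ⊥ := (Subgroup.map_eq_bot_iff_of_injective _ R.subtype_injective).1 h0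
      exact (Subgroup.map_eq_bot_iff_of_injective _ (H.subgroupOf R).subtype_injective).1 h2
    apply S.not_dvd_index
    rw [h1, Subgroup.index_bot]
    refine hpd.trans (dvd_of_eq ?_)
    rw [inf_comm, ← Subgroup.subgroupOf_map_subtype]
    exact (Nat.card_congr ((H.subgroupOf R).equivMapOfInjective _ R.subtype_injective).toEquiv).symm
  have hF := Sylow.normalizer_sup_eq_top P
  have htop : O ⊔ normalizer (H : Set G) = ⊤ := by
    rw [eq_top_iff, ← hF]
    refine sup_le ((norm_le hTI hPle hP1).trans le_sup_right) (hRle.trans ?_)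
    exact sup_le_sup_left le_normalizer _
  refine ⟨htop, ?_⟩
  rw [← normalizer_eq_top_iff, eq_top_iff, ← htop]
  refine sup_le ?_ ?_
  · exact (le_sup_left.trans le_normalizer : O ≤ normalizer ((O ⊔ H : Subgroup G) : Set G))
  · intro g hg
    apply mem_normalizer_fintype
    intro n hn
    obtain ⟨o, ho, h, hh, rfl⟩ := mem_sup_of_normal_left.1 hn
    have e : g * (o * h) * g⁻¹ = (g * o * g⁻¹) * (g * h * g⁻¹) := by group
    rw [e]
    exact mul_mem (mem_sup_left ((inferInstance : O.Normal).conj_mem o ho g)) (mem_sup_right ((mem_normalizer_iff.1 hg h).1 hh))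

end CfsgLib.H3Ti
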