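import Mathlib
import Cfsg.Agent.Lib.DihLift
import Cfsg.Agent.Lib.SL2

set_option autoImplicit false

/-! Recognition of the alternating groups of degree 4, 5, the symmetric group of degree 4 and dihedral groups. -/
namespace CfsgLib.Mob1

universe u
variable {G : Type u} [Group G]

/-- the conjugation action on Sylow subgroups, as permutations of `Fin n` -/
theorem exists_perm_of_ker {n p : ℕ} [Finite G] (hn : Nat.card (Sylow p G) = n)
    (hker : ∀ z : G, (∀ P : Sylow p G, z • P = P) → z = 1) :
    ∃ f : G →* Equiv.Perm (Fin n), Function.Injective f := by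
  classical
  subst hn
  let e : Sylow p G ≃ Fin (Nat.card (Sylow p G)) := Finite.equivFin _
  refine ⟨e.permCongrHom.toMonoidHom.comp (MulAction.toPermHom G (Sylow p G)), ?_⟩
  rw [injective_iff_map_eq_one]
  intro z hz
  have h1 : MulAction.toPermHom G (Sylow p G) z = 1 := by
    apply e.permCongrHom.injective
    rw [map_one]
    exact hz
  apply hker z
  intro P
  exact DFunLike.congr_fun h1 P

theorem card_p3 [Finite G] (hc : Nat.card G = 12 ∨ Nat.card G = 24) : ∀ P : Sylow 3 G, Nat.card P = 3 := by
  intro P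
  rw [P.card_eq_multiplicity]
  rcases hc with h | h <;> rw [h]
  · have : (12 : ℕ).factorization 3 = 1 := by
      rw [show (12 : ℕ) = 3 * 4 from rfl, Nat.factorization_mul (by norm_num) (by norm_num)]
      simp [Nat.Prime.factorization Nat.prime_three, Nat.factorization_eq_zero_of_not_dvd (show ¬ 3 ∣ 4 by norm_num)]
    rw [this]; rfl
  · have : (24 : ℕ).factorization 3 = 1 := by
      rw [show (24 : ℕ) = 3 * 8 from rfl, Nat.factorization_mul (by norm_num) (by norm_num)]
      simp [Nat.Prime.factorization Nat.prime_three, Nat.factorization_eq_zero_of_not_dvd (show ¬ 3 ∣ 8 by norm_num)]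
    rw [this]; rfl

/-- a non-normal subgroup of order three -/
theorem sylow_ne_one [Finite G] (hc : Nat.card G = 12 ∨ Nat.card G = 24) {H : Subgroup G} (hH : Nat.card H = 3) (hn : ¬ H.Normal) :
    Nat.card (Sylow 3 G) ≠ 1 := by
  intro h1
  haveI : Fact (Nat.Prime 3) := ⟨Nat.prime_three⟩
  have hp : IsPGroup 3 H := IsPGroup.of_card (n := 1) (by rw [hH, pow_one])
  obtain ⟨P, hP⟩ := hp.exists_le_sylow
  have h2 : H = P := Subgroup.eq_of_le_of_card_ge hP (by rw [hH, card_p3 hc P])
  haveI : Subsingleton (Sylow 3 G) := (Nat.card_eq_one_iff_unique.1 h1).1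
  apply hn
  rw [h2]
  exact P.normal_of_subsingleton

theorem card_sylow_three [Finite G] (hc : Nat.card G = 12 ∨ Nat.card G = 24) (hn : Nat.card (Sylow 3 G) ≠ 1) :
    Nat.card (Sylow 3 G) = 4 ∧ ∀ P : Sylow 3 G, Nat.card P = 3 := by
  have h3 := card_p3 hc
  refine ⟨?_, h3⟩
  obtain ⟨P⟩ : Nonempty (Sylow 3 G) := inferInstance
  have h4 := P.card_dvd_index
  have h5 : Nat.card P * P.index = Nat.card G := P.card_mul_index
  rw [h3 P] at h5
  have h6 := card_sylow_modEq_one 3 G
  have h7 : P.index = 4 ∨ P.index = 8 := by omega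
  have h8 : Nat.card (Sylow 3 G) ∣ 8 := by
    rcases h7 with h | h
    · rw [h] at h4; exact h4.trans (by norm_num)
    · rw [h] at h4; exact h4
  have h9 : Nat.card (Sylow 3 G) ≤ 8 := Nat.le_of_dvd (by norm_num) h8
  unfold Nat.ModEq at h6
  interval_cases h : Nat.card (Sylow 3 G) <;> simp_all

theorem perm_four [Finite G] (hc : Nat.card G = 12 ∨ Nat.card G = 24) (hn : Nat.card (Sylow 3 G) ≠ 1)
    (h6 : ∀ g : G, orderOf g ≠ 6) : ∃ f : G →* Equiv.Perm (Fin 4), Function.Injective f := by
  obtain ⟨h4, h3⟩ := card_sylow_three hc hn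
  haveI : Fact (Nat.Prime 3) := ⟨Nat.prime_three⟩
  -- elements of the kernel have order dividing 6
  have hN : ∀ P : Sylow 3 G, Nat.card (Subgroup.normalizer (P : Set G)) ∣ 6 := by
    intro P
    have h := P.card_eq_card_quotient_normalizer
    rw [h4] at h
    have h' := (Subgroup.normalizer (P : Set G)).card_eq_card_quotient_mul_card_subgroup
    rw [← h] at h'
    have : Nat.card (Subgroup.normalizer (P : Set G)) = 3 ∨
      Nat.card (Subgroup.normalizer (P : Set G)) = 6 := by omega
    rcases this with h | h <;> rw [h]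
    norm_num
  have hmem : ∀ z : G, (∀ P : Sylow 3 G, z • P = P) → ∀ P : Sylow 3 G, z ∈ Subgroup.normalizer (P : Set G) := by
    intro z hz P
    exact Sylow.smul_eq_iff_mem_normalizer.1 (hz P)
  -- no element of order 3 in the kernel
  have hno3 : ∀ z : G, (∀ P : Sylow 3 G, z • P = P) → orderOf z ≠ 3 := by
    intro z hz h
    have hp : IsPGroup 3 (Subgroup.zpowers z) := by
      apply IsPGroup.of_card (n := 1)
      rw [Nat.card_zpowers, h, pow_one]
    have hle : ∀ P : Sylow 3 G, Subgroup.zpowers z ≤ P := by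
      intro P
      have h1 := hp.inf_normalizer_sylow P
      have h2 : Subgroup.zpowers z ≤ Subgroup.normalizer (P : Set G) := by
        rw [Subgroup.zpowers_le]; exact hmem z hz P
      rw [inf_eq_left.2 h2] at h1
      exact inf_eq_left.1 h1.symm
    have heq : ∀ P : Sylow 3 G, (P : Subgroup G) = Subgroup.zpowers z := by
      intro P
      symm
      apply Subgroup.eq_of_le_of_card_ge (hle P)
      rw [h3 P, Nat.card_zpowers, h]
    have hsub : Subsingleton (Sylow 3 G) := ⟨fun P Q => Sylow.ext ((heq P).trans (heq Q).symm)⟩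
    have := Finite.card_le_one_iff_subsingleton.2 hsub
    omega
  apply exists_perm_of_ker h4
  set Z : Subgroup G := (MulAction.toPermHom G (Sylow 3 G)).ker with hZ
  have hZmem : ∀ z : G, z ∈ Z ↔ ∀ P : Sylow 3 G, z • P = P := by
    intro z
    rw [hZ, MonoidHom.mem_ker]
    constructor
    · intro h P; exact DFunLike.congr_fun h P
    · intro h; ext P : 1; exact h P
  have hZ6 : Nat.card Z ∣ 6 := by
    obtain ⟨P⟩ : Nonempty (Sylow 3 G) := inferInstance
    refine dvd_trans (Subgroup.card_dvd_of_le (K := Subgroup.normalizer (P : Set G)) ?_) (hN P)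
    intro z hz
    exact hmem z ((hZmem z).1 hz) P
  have hZ3 : ¬ 3 ∣ Nat.card Z := by
    intro h
    obtain ⟨z, hz⟩ := exists_prime_orderOf_dvd_card' 3 h
    apply hno3 (z : G) ((hZmem _).1 z.2)
    rw [Subgroup.orderOf_coe, hz]
  have hZ2 : Nat.card Z = 1 ∨ Nat.card Z = 2 := by
    have h1 : Nat.card Z ≤ 6 := Nat.le_of_dvd (by norm_num) hZ6
    interval_cases h : Nat.card Z <;> simp_all
  rcases hZ2 with h1 | h2
  · intro z hz
    have := (Subgroup.card_eq_one.1 h1)
    have hz' := (hZmem z).2 hz
    rw [this, Subgroup.mem_bot] at hz'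
    exact hz'
  · exfalso
    haveI : Fact (Nat.Prime 2) := ⟨Nat.prime_two⟩
    obtain ⟨z, hz⟩ := exists_prime_orderOf_dvd_card' (G := Z) 2 (by rw [h2])
    have hz1 : orderOf (z : G) = 2 := by rw [Subgroup.orderOf_coe, hz]
    -- an element of order 3
    obtain ⟨g, hg⟩ := exists_prime_orderOf_dvd_card' (G := G) 3 (by rcases hc with h | h <;> rw [h] <;> norm_num)
    -- z is central
    have hcomm : Commute (z : G) g := by
      have hmemZ : g * z * g⁻¹ ∈ Z := (MonoidHom.normal_ker _).conj_mem _ z.2 g
      have hne : g * z * g⁻¹ ≠ 1 := by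
        intro h
        rw [mul_inv_eq_one] at h
        have : (z : G) = 1 := by
          have := congrArg (fun t => g⁻¹ * t) h
          simpa using this
        rw [this, orderOf_one] at hz1
        omega
      have hz0 : z ≠ 1 := by
        intro h
        rw [h] at hz
        rw [orderOf_one] at hz
        omega
      -- two elements of Z
      have h3 : ∀ w : Z, w = 1 ∨ w = z := by
        classical
        intro w
        haveI : Fintype Z := Fintype.ofFinite Z
        rw [Nat.card_eq_fintype_card] at h2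
        by_contra hcon
        push Not at hcon
        have : ({1, z, w} : Finset Z).card ≤ 2 := by
          rw [← h2]; exact Finset.card_le_univ _
        rw [Finset.card_eq_three.2 ⟨1, z, w, fun h => hz0 h.symm, fun h => hcon.1 h.symm, fun h => hcon.2 h.symm, rfl⟩] at this
        omega
      have h4 := (h3 ⟨_, hmemZ⟩).resolve_left (fun h => hne (congrArg Subtype.val h))
      have h5 : g * z * g⁻¹ = z := congrArg Subtype.val h4
      exact (mul_inv_eq_iff_eq_mul.1 h5).symm
    apply h6 ((z : G) * g)
    rw [hcomm.orderOf_mul_eq_mul_orderOf_of_coprime (by rw [hz1, hg]; norm_num), hz1, hg]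

theorem a4_of [Finite G] (hc : Nat.card G = 12) (hn : Nat.card (Sylow 3 G) ≠ 1) (h6 : ∀ g : G, orderOf g ≠ 6) :
    Nonempty (G ≃* alternatingGroup (Fin 4)) := by
  obtain ⟨f, hf⟩ := perm_four (Or.inl hc) hn h6
  apply CfsgLib.SL2.mulEquiv_alternatingGroup_of_injective f hf
  rw [hc]; rfl

theorem s4_of [Finite G] (hc : Nat.card G = 24) (hn : Nat.card (Sylow 3 G) ≠ 1) (h6 : ∀ g : G, orderOf g ≠ 6) :
    Nonempty (G ≃* Equiv.Perm (Fin 4)) := by
  obtain ⟨f, hf⟩ := perm_four (Or.inr hc) hn h6
  have hb : Function.Bijective f := by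
    rw [Nat.bijective_iff_injective_and_card]
    refine ⟨hf, ?_⟩
    rw [hc, Nat.card_eq_fintype_card, Fintype.card_perm, Fintype.card_fin]; rfl
  exact ⟨MulEquiv.ofBijective f hb⟩

end CfsgLib.Mob1
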