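import Mathlib
import Cfsg.Agent.Lib.Mob1

set_option autoImplicit false

/-! Recognition of the alternating group of degree 5 and of dihedral groups. -/
namespace CfsgLib.Mob2

open CfsgLib.Mob1

universe u
variable {G : Type u} [Group G]

section
variable [Finite G] (hc : Nat.card G = 60)
  (ho : ∀ g : G, orderOf g = 1 ∨ orderOf g = 2 ∨ orderOf g = 3 ∨ orderOf g = 5)

include hc in
theorem card_syl2 (V : Sylow 2 G) : Nat.card V = 4 := by
  rw [V.card_eq_multiplicity, hc]
  have : (60 : ℕ).factorization 2 = 2 := by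
    rw [show (60 : ℕ) = 2 ^ 2 * 15 from rfl, Nat.factorization_mul (by norm_num) (by norm_num), Nat.prime_two.factorization_pow]
    rw [Finsupp.add_apply, Finsupp.single_eq_same, Nat.factorization_eq_zero_of_not_dvd (show ¬ 2 ∣ 15 by norm_num)]
  rw [this]; rfl

include ho in
theorem sq_of_comm {t g : G} (ht : orderOf t = 2) (hg : Commute t g) : g ^ 2 = 1 := by
  rcases ho g with h | h | h | h
  · rw [orderOf_eq_one_iff] at h; rw [h, one_pow]
  · rw [← h, pow_orderOf_eq_one]
  · exfalso
    have h1 : orderOf (t * g) = 6 := by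
      rw [hg.orderOf_mul_eq_mul_orderOf_of_coprime (by rw [ht, h]; norm_num), ht, h]
    have h2 := ho (t * g)
    omega
  · exfalso
    have h1 : orderOf (t * g) = 10 := by
      rw [hg.orderOf_mul_eq_mul_orderOf_of_coprime (by rw [ht, h]; norm_num), ht, h]
    have h2 := ho (t * g)
    omega

include hc ho in
theorem sq_of_mem (V : Sylow 2 G) {v : G} (hv : v ∈ V) : v ^ 2 = 1 := by
  have h1 : orderOf v ∣ 4 := by
    have := orderOf_dvd_natCard (⟨v, hv⟩ : (V : Subgroup G))
    rw [card_syl2 hc V] at this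
    rwa [← Subgroup.orderOf_coe] at this
  rcases ho v with h | h | h | h
  · rw [orderOf_eq_one_iff] at h; rw [h, one_pow]
  · rw [← h, pow_orderOf_eq_one]
  · rw [h] at h1; norm_num at h1
  · rw [h] at h1; norm_num at h1

include hc ho in
theorem syl_eq (V : Sylow 2 G) {t : G} (ht : t ∈ V) (ht1 : t ≠ 1) :
    orderOf t = 2 ∧ (V : Subgroup G) = Subgroup.centralizer {t} := by
  have h2 : orderOf t = 2 := by
    have := sq_of_mem hc ho V ht
    exact orderOf_eq_prime this ht1
  refine ⟨h2, ?_⟩
  symm
  apply V.is_maximal'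
  · intro g
    refine ⟨1, ?_⟩
    have h3 : Commute t g := by
      have := g.2
      rw [Subgroup.mem_centralizer_singleton_iff] at this
      exact this.symm
    ext
    simpa using sq_of_comm ho h2 h3
  · intro v hv
    rw [Subgroup.mem_centralizer_singleton_iff]
    have h3 := sq_of_mem hc ho V hv
    have h4 := sq_of_mem hc ho V ht
    have h5 := sq_of_mem hc ho V (V.mul_mem ht hv)
    rw [pow_two] at h3 h4 h5
    calc v * t = (t * t) * v * t * (v * v) := by rw [h4, h3, one_mul, mul_one]
      _ = t * ((t * v) * (t * v)) * v := by group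
      _ = t * v := by rw [h5, mul_one]

include hc ho in
theorem card_syl_two (hcj : ∀ s t : G, orderOf s = 2 → orderOf t = 2 → IsConj s t) : Nat.card (Sylow 2 G) = 5 := by
  classical
  haveI : Fact (Nat.Prime 2) := ⟨Nat.prime_two⟩
  haveI : Fintype (Sylow 2 G) := Fintype.ofFinite _
  -- number of involutions
  obtain ⟨t, ht⟩ := exists_prime_orderOf_dvd_card' (G := G) 2 (by rw [hc]; norm_num)
  have hexV : ∀ s : G, orderOf s = 2 → ∃ V : Sylow 2 G, s ∈ V := by
    intro s hs
    have hp : IsPGroup 2 (Subgroup.zpowers s) := by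
      apply IsPGroup.of_card (n := 1)
      rw [Nat.card_zpowers, hs, pow_one]
    obtain ⟨V, hV⟩ := hp.exists_le_sylow
    exact ⟨V, hV (Subgroup.mem_zpowers s)⟩
  have h15 : {g : G | orderOf g = 2}.ncard = 15 := by
    obtain ⟨V, hV⟩ := hexV t ht
    have hV1 : t ≠ 1 := by intro h; rw [h, orderOf_one] at ht; omega
    have h1 := (syl_eq hc ho V hV hV1).2
    have h2 : Nat.card (Subgroup.centralizer {t}) = 4 := by
      rw [← h1]; exact card_syl2 hc V
    rw [Subgroup.nat_card_centralizer_nat_card_stabilizer] at h2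
    have h3 := (MulAction.stabilizer (ConjAct G) t).card_mul_index
    rw [h2, MulAction.index_stabilizer] at h3
    have h4 : MulAction.orbit (ConjAct G) t = {g : G | orderOf g = 2} := by
      ext g
      rw [ConjAct.mem_orbit_conjAct, Set.mem_ofPred_eq]
      constructor
      · intro h
        obtain ⟨c, hc⟩ := isConj_iff.1 h
        rw [← ht, ← hc]
        exact (orderOf_injective (MulAut.conj c).toMonoidHom (MulAut.conj c).injective g).symm
      · intro h; exact hcj _ _ h ht
    rw [h4] at h3
    have h5 : Nat.card (ConjAct G) = 60 := hc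
    omega
  have hcount : Nat.card {x : Sylow 2 G × G // x.2 ∈ x.1 ∧ x.2 ≠ 1} = 15 := by
    rw [← h15, ← Nat.card_coe_set_eq]
    apply Nat.card_eq_of_bijective (fun x => (⟨x.1.2, (syl_eq hc ho x.1.1 x.2.1 x.2.2).1⟩ : {g : G | orderOf g = 2}))
    constructor
    · intro x y hxy
      have h1 : x.1.2 = y.1.2 := congrArg Subtype.val hxy
      have h2 := (syl_eq hc ho x.1.1 x.2.1 x.2.2).2
      have h3 := (syl_eq hc ho y.1.1 y.2.1 y.2.2).2
      rw [← h1, ← h2] at h3
      apply Subtype.ext
      apply Prod.ext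
      · exact Sylow.ext h3.symm
      · exact h1
    · rintro ⟨s, hs⟩
      obtain ⟨V, hV⟩ := hexV s hs
      refine ⟨⟨(V, s), hV, ?_⟩, rfl⟩
      rintro (rfl : s = 1)
      rw [Set.mem_ofPred_eq, orderOf_one] at hs
      omega
  rw [Nat.card_congr (Equiv.subtypeProdEquivSigmaSubtype (fun (V : Sylow 2 G) (g : G) => g ∈ V ∧ g ≠ 1)), Nat.card_sigma] at hcount
  have h3 : ∀ V : Sylow 2 G, Nat.card {g : G // g ∈ V ∧ g ≠ 1} = 3 := by
    intro V
    have h4 : Nat.card V = 4 := card_syl2 hc V
    have h5 : Nat.card {g : G // g ∈ V ∧ g ≠ 1} = Nat.card {v : (V : Subgroup G) // v ≠ 1} := by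
      apply Nat.card_congr
      exact {
        toFun := fun x => ⟨⟨x.1, x.2.1⟩, fun h => x.2.2 (congrArg Subtype.val h)⟩
        invFun := fun x => ⟨x.1.1, x.1.2, fun h => x.2 (Subtype.ext h)⟩
        left_inv := fun x => rfl
        right_inv := fun x => rfl }
    rw [h5]
    haveI : Fintype (V : Subgroup G) := Fintype.ofFinite _
    have h6 := Fintype.card_subtype_compl (fun v : (V : Subgroup G) => v = 1)
    rw [Nat.card_eq_fintype_card]
    rw [Nat.card_eq_fintype_card] at h4
    simp only [ne_eq]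
    rw [h6, h4, Fintype.card_subtype_eq]
  simp only [h3, Finset.sum_const, Finset.card_univ, smul_eq_mul] at hcount
  rw [Nat.card_eq_fintype_card]
  omega

include hc ho in
theorem a5_of (hcj : ∀ s t : G, orderOf s = 2 → orderOf t = 2 → IsConj s t) : Nonempty (G ≃* alternatingGroup (Fin 5)) := by
  classical
  haveI : Fact (Nat.Prime 2) := ⟨Nat.prime_two⟩
  have h5 := card_syl_two hc ho hcj
  obtain ⟨f, hf⟩ : ∃ f : G →* Equiv.Perm (Fin 5), Function.Injective f := by
    apply exists_perm_of_ker h5
    intro z hz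
    have hmem : ∀ z : G, (∀ P : Sylow 2 G, z • P = P) → ∀ P : Sylow 2 G, z ∈ Subgroup.normalizer (P : Set G) := by
      intro z hz P
      exact Sylow.smul_eq_iff_mem_normalizer.1 (hz P)
    obtain ⟨V⟩ : Nonempty (Sylow 2 G) := inferInstance
    -- the kernel meets V trivially
    have hcap : ∀ w : G, w ∈ V → (∀ P : Sylow 2 G, w • P = P) → w = 1 := by
      intro w hw hwk
      by_contra hw1
      have hw2 := syl_eq hc ho V hw hw1
      have hp : IsPGroup 2 (Subgroup.zpowers w) := by
        apply IsPGroup.of_card (n := 1)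
        rw [Nat.card_zpowers, hw2.1, pow_one]
      have hall : ∀ P : Sylow 2 G, P = V := by
        intro P
        have h1 := hp.inf_normalizer_sylow P
        have h2 : Subgroup.zpowers w ≤ Subgroup.normalizer (P : Set G) := by
          rw [Subgroup.zpowers_le]; exact hmem w hwk P
        rw [inf_eq_left.2 h2] at h1
        have h3 : w ∈ P := inf_eq_left.1 h1.symm (Subgroup.mem_zpowers w)
        exact Sylow.ext ((syl_eq hc ho P h3 hw1).2.trans hw2.2.symm)
      have hsub : Subsingleton (Sylow 2 G) := ⟨fun P Q => (hall P).trans (hall Q).symm⟩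
      have := Finite.card_le_one_iff_subsingleton.2 hsub
      omega
    obtain ⟨t, htV, ht1⟩ : ∃ t : G, t ∈ V ∧ t ≠ 1 := by
      have h4 : Nat.card V = 4 := card_syl2 hc V
      have : (V : Subgroup G) ≠ ⊥ := by
        intro h
        have := Subgroup.card_eq_one.2 h
        omega
      obtain ⟨t, ht, ht1⟩ := ((V : Subgroup G).bot_or_exists_ne_one).resolve_left this
      exact ⟨t, ht, ht1⟩
    have hk : t * z * t⁻¹ * z⁻¹ = 1 := by
      apply hcap
      · have h1 : z * t⁻¹ * z⁻¹ ∈ (V : Subgroup G) := by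
          have := (Subgroup.mem_normalizer_iff.1 (hmem z hz V)) t⁻¹
          exact this.1 (inv_mem htV)
        have h2 : t * z * t⁻¹ * z⁻¹ = t * (z * t⁻¹ * z⁻¹) := by group
        rw [h2]
        exact V.mul_mem htV h1
      · intro P
        rw [mul_smul, mul_smul, mul_smul]
        have h1 : z⁻¹ • P = P := by rw [inv_smul_eq_iff, hz]
        have h2 : z • (t⁻¹ • P) = t⁻¹ • P := hz _
        rw [h1, h2, smul_inv_smul]
    have h2 : z ∈ V := by
      have := (syl_eq hc ho V htV ht1).2
      change z ∈ (V : Subgroup G)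
      rw [this, Subgroup.mem_centralizer_singleton_iff]
      rw [mul_inv_eq_one, mul_inv_eq_iff_eq_mul] at hk
      exact hk.symm
    exact hcap z h2 hz
  apply CfsgLib.SL2.mulEquiv_alternatingGroup_of_injective f hf
  rw [hc]; rfl

end

/-- recognition of dihedral groups -/
theorem dihedral_of [Finite G] (C : Subgroup G) (hC : IsCyclic C) {s : G} (hs : s ∉ C) (hi : C.index = 2) (hs2 : s * s = 1)
    (hinv : ∀ c ∈ C, s * c * s = c⁻¹) : Nonempty (G ≃* DihedralGroup (Nat.card C)) := by
  obtain ⟨⟨c, hc⟩, hgen⟩ := hC.exists_generator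
  have hz : Subgroup.zpowers c = C := by
    apply le_antisymm
    · rw [Subgroup.zpowers_le]; exact hc
    · intro x hx
      obtain ⟨k, hk⟩ := Subgroup.mem_zpowers_iff.1 (hgen ⟨x, hx⟩)
      rw [Subgroup.mem_zpowers_iff]
      exact ⟨k, congrArg Subtype.val hk⟩
  have ho : orderOf c = Nat.card C := by rw [← Nat.card_zpowers, hz]
  obtain ⟨e⟩ := CfsgLib.DihLift.closure_equiv (Nat.card C) c s ho hs2 (hinv c hc) (by rw [hz]; exact hs)
  have htop : Subgroup.closure ({c, s} : Set G) = ⊤ := by
    rw [eq_top_iff]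
    intro g _
    have h1 : C ≤ Subgroup.closure ({c, s} : Set G) := by
      rw [← hz, Subgroup.zpowers_le]
      exact Subgroup.subset_closure (by simp)
    have h2 : s ∈ Subgroup.closure ({c, s} : Set G) := Subgroup.subset_closure (by simp)
    by_cases hg : g ∈ C
    · exact h1 hg
    · have h3 : s * g ∈ C := by
        rw [Subgroup.mul_mem_iff_of_index_two hi]
        exact ⟨fun h => absurd h hs, fun h => absurd h hg⟩
      have h4 : g = s⁻¹ * (s * g) := by group
      rw [h4]
      exact Subgroup.mul_mem _ (inv_mem h2) (h1 h3)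
  exact ⟨((Subgroup.topEquiv.symm).trans (MulEquiv.subgroupCongr htop.symm)).trans e⟩

end CfsgLib.Mob2
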