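import Mathlib

set_option autoImplicit false

/-! The group of Moebius transformations of the projective line over a field. -/
namespace CfsgLib.Mob3

open OnePoint Matrix MulAction

universe u v
variable {K : Type u} [Field K] [DecidableEq K]

/-- the group of all Moebius transformations -/
noncomputable def mob (K : Type u) [Field K] [DecidableEq K] : Subgroup (Equiv.Perm (OnePoint K)) :=
  (MulAction.toPermHom (GL (Fin 2) K) (OnePoint K)).range

noncomputable def mk (a b c d : K) (h : a * d - b * c ≠ 0) : Equiv.Perm (OnePoint K) :=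
  MulAction.toPermHom (GL (Fin 2) K) (OnePoint K)
    (Matrix.GeneralLinearGroup.mkOfDetNeZero !![a, b; c, d] (by rwa [Matrix.det_fin_two_of]))

theorem mk_mem (a b c d : K) (h : a * d - b * c ≠ 0) : mk a b c d h ∈ mob K := ⟨_, rfl⟩

theorem mk_inf (a b c d : K) (h : a * d - b * c ≠ 0) :
    mk a b c d h ∞ = if c = 0 then ∞ else ((a / c : K) : OnePoint K) := by
  change (Matrix.GeneralLinearGroup.mkOfDetNeZero !![a, b; c, d] (by rwa [Matrix.det_fin_two_of]) : GL (Fin 2) K) • (∞ : OnePoint K) = _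
  rw [OnePoint.smul_infty_eq_ite]
  simp [Matrix.GeneralLinearGroup.mkOfDetNeZero]

theorem mk_coe (a b c d : K) (h : a * d - b * c ≠ 0) (x : K) :
    mk a b c d h (x : OnePoint K) = if c * x + d = 0 then ∞ else (((a * x + b) / (c * x + d) : K) : OnePoint K) := by
  change (Matrix.GeneralLinearGroup.mkOfDetNeZero !![a, b; c, d] (by rwa [Matrix.det_fin_two_of]) : GL (Fin 2) K) • (x : OnePoint K) = _
  rw [OnePoint.smul_some_eq_ite]
  simp [Matrix.GeneralLinearGroup.mkOfDetNeZero]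

theorem det_ne (M : GL (Fin 2) K) : M 0 0 * M 1 1 - M 0 1 * M 1 0 ≠ 0 := by
  have h := Matrix.isUnit_iff_isUnit_det (M : Matrix (Fin 2) (Fin 2) K) |>.1 M.isUnit
  rw [Matrix.det_fin_two] at h
  exact h.ne_zero

theorem exists_mk {g : Equiv.Perm (OnePoint K)} (hg : g ∈ mob K) : ∃ a b c d, ∃ h : a * d - b * c ≠ 0, g = mk a b c d h := by
  obtain ⟨M, rfl⟩ := hg
  refine ⟨M 0 0, M 0 1, M 1 0, M 1 1, det_ne M, ?_⟩
  unfold mk
  congr 1
  ext i j
  fin_cases i <;> fin_cases j <;> rfl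

/-- the affine map -/
noncomputable def aff (a b : K) (ha : a ≠ 0) : Equiv.Perm (OnePoint K) := mk a b 0 1 (by simpa using ha)

theorem aff_mem (a b : K) (ha : a ≠ 0) : aff a b ha ∈ mob K := mk_mem _ _ _ _ _

theorem aff_inf (a b : K) (ha : a ≠ 0) : aff a b ha ∞ = ∞ := by
  unfold aff; rw [mk_inf]; simp

theorem aff_coe (a b : K) (ha : a ≠ 0) (x : K) : aff a b ha (x : OnePoint K) = ((a * x + b : K) : OnePoint K) := by
  unfold aff; rw [mk_coe]; simp

theorem perm_ext {g h : Equiv.Perm (OnePoint K)} (h1 : g ∞ = h ∞) (h2 : ∀ x : K, g (x : OnePoint K) = h (x : OnePoint K)) : g = h := by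
  ext x : 1
  induction x using OnePoint.rec with
  | infty => exact h1
  | coe x => exact h2 x

theorem aff_mul (a b a' b' : K) (ha : a ≠ 0) (ha' : a' ≠ 0) :
    aff a b ha * aff a' b' ha' = aff (a * a') (a * b' + b) (mul_ne_zero ha ha') := by
  apply perm_ext
  · rw [Equiv.Perm.mul_apply, aff_inf, aff_inf, aff_inf]
  · intro x
    rw [Equiv.Perm.mul_apply, aff_coe, aff_coe, aff_coe]
    congr 1; ring

theorem aff_one : aff (1 : K) 0 one_ne_zero = 1 := by
  apply perm_ext
  · rw [aff_inf]; rfl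
  · intro x; rw [aff_coe]; simp

theorem aff_inj {a b a' b' : K} {ha : a ≠ 0} {ha' : a' ≠ 0} (h : aff a b ha = aff a' b' ha') : a = a' ∧ b = b' := by
  have h0 := DFunLike.congr_fun h ((0 : K) : OnePoint K)
  have h1 := DFunLike.congr_fun h ((1 : K) : OnePoint K)
  rw [aff_coe, aff_coe] at h0 h1
  have h0' := OnePoint.coe_injective h0
  have h1' := OnePoint.coe_injective h1
  have hb : b = b' := by simpa using h0'
  subst hb
  exact ⟨by simpa using h1', rfl⟩

theorem aff_congr {a b a' b' : K} {ha : a ≠ 0} (h1 : a = a') (h2 : b = b') : aff a b ha = aff a' b' (h1 ▸ ha) := by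
  subst h1; subst h2; rfl

theorem aff_inv (a b : K) (ha : a ≠ 0) : (aff a b ha)⁻¹ = aff a⁻¹ (-(a⁻¹ * b)) (inv_ne_zero ha) := by
  rw [inv_eq_iff_mul_eq_one, aff_mul, ← aff_one]
  apply aff_congr
  · field_simp
  · field_simp; ring

theorem fix_inf {g : Equiv.Perm (OnePoint K)} (hg : g ∈ mob K) (h : g ∞ = ∞) : ∃ a b, ∃ ha : a ≠ 0, g = aff a b ha := by
  obtain ⟨a, b, c, d, hd, rfl⟩ := exists_mk hg
  rw [mk_inf] at h
  have hc : c = 0 := by
    by_contra hc
    rw [if_neg hc] at h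
    exact OnePoint.coe_ne_infty _ h
  subst hc
  rw [mul_zero, sub_zero] at hd
  have ha := left_ne_zero_of_mul hd
  have hd' := right_ne_zero_of_mul hd
  refine ⟨a / d, b / d, div_ne_zero ha hd', ?_⟩
  apply perm_ext
  · rw [mk_inf, aff_inf]; simp
  · intro x
    rw [mk_coe, aff_coe, if_neg (by simpa using hd')]
    congr 1
    rw [zero_mul, zero_add]
    field_simp

/-- the map `x ↦ c / x` -/
noncomputable def iv (c : K) (hc : c ≠ 0) : Equiv.Perm (OnePoint K) := mk 0 c 1 0 (by simpa using hc)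

theorem iv_mem (c : K) (hc : c ≠ 0) : iv c hc ∈ mob K := mk_mem _ _ _ _ _

theorem iv_inf (c : K) (hc : c ≠ 0) : iv c hc ∞ = ((0 : K) : OnePoint K) := by
  unfold iv; rw [mk_inf]; simp

theorem iv_zero (c : K) (hc : c ≠ 0) : iv c hc ((0 : K) : OnePoint K) = ∞ := by
  unfold iv; rw [mk_coe]; simp

theorem iv_coe (c : K) (hc : c ≠ 0) {x : K} (hx : x ≠ 0) : iv c hc (x : OnePoint K) = ((c / x : K) : OnePoint K) := by
  unfold iv; rw [mk_coe]; simp [hx]

theorem iv_mul_self (c : K) (hc : c ≠ 0) : iv c hc * iv c hc = 1 := by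
  apply perm_ext
  · rw [Equiv.Perm.mul_apply, iv_inf, iv_zero]; rfl
  · intro x
    rw [Equiv.Perm.mul_apply]
    by_cases hx : x = 0
    · subst hx; rw [iv_zero, iv_inf]; rfl
    · rw [iv_coe c hc hx, iv_coe c hc (div_ne_zero hc hx)]
      change _ = (x : OnePoint K)
      congr 1
      field_simp

theorem iv_conj_aff (c : K) (hc : c ≠ 0) (a : K) (ha : a ≠ 0) :
    iv c hc * aff a 0 ha * iv c hc = aff a⁻¹ 0 (inv_ne_zero ha) := by
  apply perm_ext
  · rw [Equiv.Perm.mul_apply, Equiv.Perm.mul_apply, iv_inf, aff_coe, mul_zero, add_zero, iv_zero, aff_inf]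
  · intro x
    rw [Equiv.Perm.mul_apply, Equiv.Perm.mul_apply]
    by_cases hx : x = 0
    · subst hx; rw [iv_zero, aff_inf, iv_inf, aff_coe]; simp
    · rw [iv_coe c hc hx, aff_coe, aff_coe, iv_coe c hc (by rw [add_zero]; exact mul_ne_zero ha (div_ne_zero hc hx))]
      congr 1
      field_simp
      ring

theorem swap_form {g : Equiv.Perm (OnePoint K)} (hg : g ∈ mob K) (h1 : g ∞ = ((0 : K) : OnePoint K))
    (h2 : g ((0 : K) : OnePoint K) = ∞) : ∃ c, ∃ hc : c ≠ 0, g = iv c hc := by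
  have h3 : (iv (1 : K) one_ne_zero * g) ∞ = ∞ := by
    rw [Equiv.Perm.mul_apply, h1, iv_zero]
  obtain ⟨a, b, ha, h⟩ := fix_inf ((mob K).mul_mem (iv_mem 1 one_ne_zero) hg) h3
  have hb : b = 0 := by
    have h4 := DFunLike.congr_fun h ((0 : K) : OnePoint K)
    rw [Equiv.Perm.mul_apply, h2, iv_inf, aff_coe] at h4
    have := OnePoint.coe_injective h4
    simpa using this.symm
  subst hb
  refine ⟨a⁻¹, inv_ne_zero ha, ?_⟩
  have h5 : g = iv (1 : K) one_ne_zero * aff a 0 ha := by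
    rw [← h, ← mul_assoc, iv_mul_self, one_mul]
  rw [h5]
  apply perm_ext
  · rw [Equiv.Perm.mul_apply, aff_inf, iv_inf, iv_inf]
  · intro x
    rw [Equiv.Perm.mul_apply, aff_coe]
    by_cases hx : x = 0
    · subst hx; rw [mul_zero, add_zero, iv_zero, iv_zero]
    · rw [add_zero, iv_coe _ _ (mul_ne_zero ha hx), iv_coe _ _ hx]
      congr 1
      field_simp

theorem to_inf (x : OnePoint K) : ∃ h ∈ mob K, h x = ∞ := by
  induction x using OnePoint.rec with
  | infty => exact ⟨1, (mob K).one_mem, rfl⟩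
  | coe x =>
    refine ⟨iv 1 one_ne_zero * aff 1 (-x) one_ne_zero, (mob K).mul_mem (iv_mem _ _) (aff_mem _ _ _), ?_⟩
    rw [Equiv.Perm.mul_apply, aff_coe]
    have : (1 * x + -x : K) = 0 := by ring
    rw [this, iv_zero]

theorem to_inf_zero {x y : OnePoint K} (hxy : x ≠ y) : ∃ h ∈ mob K, h x = ∞ ∧ h y = ((0 : K) : OnePoint K) := by
  obtain ⟨h, hh, hx⟩ := to_inf x
  have hy : h y ≠ ∞ := by
    intro h'
    exact hxy (h.injective (hx.trans h'.symm))
  obtain ⟨b, hb⟩ := OnePoint.ne_infty_iff_exists.1 hy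
  refine ⟨aff 1 (-b) one_ne_zero * h, (mob K).mul_mem (aff_mem _ _ _) hh, ?_, ?_⟩
  · rw [Equiv.Perm.mul_apply, hx, aff_inf]
  · rw [Equiv.Perm.mul_apply, ← hb, aff_coe]
    congr 1; ring

theorem to_three {x y z : OnePoint K} (hxy : x ≠ y) (hxz : x ≠ z) (hyz : y ≠ z) :
    ∃ h ∈ mob K, h x = ∞ ∧ h y = ((0 : K) : OnePoint K) ∧ h z = ((1 : K) : OnePoint K) := by
  obtain ⟨h, hh, hx, hy⟩ := to_inf_zero hxy
  have hz : h z ≠ ∞ := by
    intro h'
    exact hxz (h.injective (hx.trans h'.symm))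
  obtain ⟨b, hb⟩ := OnePoint.ne_infty_iff_exists.1 hz
  have hb0 : b ≠ 0 := by
    rintro rfl
    exact hyz (h.injective (hy.trans hb))
  refine ⟨aff b⁻¹ 0 (inv_ne_zero hb0) * h, (mob K).mul_mem (aff_mem _ _ _) hh, ?_, ?_, ?_⟩
  · rw [Equiv.Perm.mul_apply, hx, aff_inf]
  · rw [Equiv.Perm.mul_apply, hy, aff_coe]; simp
  · rw [Equiv.Perm.mul_apply, ← hb, aff_coe]
    congr 1; field_simp; ring

theorem eq_one_of_fix_three {g : Equiv.Perm (OnePoint K)} (hg : g ∈ mob K) {x y z : OnePoint K} (hxy : x ≠ y) (hxz : x ≠ z) (hyz : y ≠ z)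
    (hx : g x = x) (hy : g y = y) (hz : g z = z) : g = 1 := by
  obtain ⟨h, hh, h1, h2, h3⟩ := to_three hxy hxz hyz
  have hc : h * g * h⁻¹ ∈ mob K := (mob K).mul_mem ((mob K).mul_mem hh hg) ((mob K).inv_mem hh)
  have hap : ∀ w w', h w = w' → g w = w → (h * g * h⁻¹) w' = w' := by
    intro w w' hw hgw
    rw [Equiv.Perm.mul_apply, Equiv.Perm.mul_apply, ← hw, ← Equiv.Perm.mul_apply h⁻¹, inv_mul_cancel, Equiv.Perm.one_apply, hgw]
  obtain ⟨a, b, ha, hab⟩ := fix_inf hc (hap _ _ h1 hx)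
  have h4 := hap _ _ h2 hy
  have h5 := hap _ _ h3 hz
  rw [hab, aff_coe] at h4 h5
  have h4' := OnePoint.coe_injective h4
  have h5' := OnePoint.coe_injective h5
  have hb : b = 0 := by simpa using h4'
  subst hb
  have ha1 : a = 1 := by simpa using h5'
  subst ha1
  rw [aff_one] at hab
  have := congrArg (fun t => h⁻¹ * t * h) hab
  simpa [mul_assoc] using this

theorem exists_fix [IsAlgClosed K] {g : Equiv.Perm (OnePoint K)} (hg : g ∈ mob K) : ∃ x, g x = x := by
  obtain ⟨a, b, c, d, hd, rfl⟩ := exists_mk hg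
  by_cases hc : c = 0
  · exact ⟨∞, by rw [mk_inf, if_pos hc]⟩
  · obtain ⟨x, hx⟩ := IsAlgClosed.exists_root (Polynomial.C c * Polynomial.X ^ 2 + Polynomial.C (d - a) * Polynomial.X + Polynomial.C (-b)) (by
      rw [Polynomial.degree_quadratic hc]; norm_num)
    rw [Polynomial.IsRoot.def] at hx
    simp only [Polynomial.eval_add, Polynomial.eval_mul, Polynomial.eval_C, Polynomial.eval_pow, Polynomial.eval_X] at hx
    refine ⟨(x : OnePoint K), ?_⟩
    have hne : c * x + d ≠ 0 := by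
      intro h
      apply hd
      have h1 : a * x + b = 0 := by linear_combination x * h - hx
      have : c * (a * d - b * c) = 0 := by
        have hd' : d = - (c * x) := by linear_combination h
        have hb' : b = - (a * x) := by linear_combination h1
        rw [hd', hb']; ring
      exact (mul_eq_zero.1 this).resolve_left hc
    rw [mk_coe, if_neg hne]
    congr 1
    rw [div_eq_iff hne]
    linear_combination -hx

end CfsgLib.Mob3
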