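import Mathlib
import Cfsg.Agent.Lib.Mob3
import Cfsg.Agent.Lib.Dick1

set_option autoImplicit false

/-! Unipotent elements and point stabilisers in finite groups of Moebius transformations. -/
namespace CfsgLib.Mob4

open OnePoint CfsgLib.Mob3

universe u v
variable {K : Type u} [Field K] [DecidableEq K]

/-- `g` is unipotent with fixed point `x` -/
def Uni (x : OnePoint K) (g : Equiv.Perm (OnePoint K)) : Prop := g ∈ mob K ∧ g x = x ∧ ∀ y, g y = y → g = 1 ∨ y = x

theorem conj_apply (h g : Equiv.Perm (OnePoint K)) (x : OnePoint K) : (h * g * h⁻¹) (h x) = h (g x) := by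
  rw [Equiv.Perm.mul_apply, ← Equiv.Perm.mul_apply h⁻¹, inv_mul_cancel, Equiv.Perm.one_apply, Equiv.Perm.mul_apply]

theorem uni_inf {g : Equiv.Perm (OnePoint K)} : Uni ∞ g ↔ ∃ b : K, g = aff 1 b one_ne_zero := by
  constructor
  · rintro ⟨h1, h2, h3⟩
    obtain ⟨a, b, ha, rfl⟩ := fix_inf h1 h2
    by_cases h : a = 1
    · subst h; exact ⟨b, rfl⟩
    · exfalso
      have h4 : 1 - a ≠ 0 := sub_ne_zero.2 (Ne.symm h)
      have h5 := h3 ((b / (1 - a) : K) : OnePoint K) (by
        rw [aff_coe]; congr 1; field_simp; ring)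
      rcases h5 with h5 | h5
      · rw [← aff_one] at h5
        exact h (aff_inj h5).1
      · exact OnePoint.coe_ne_infty _ h5
  · rintro ⟨b, rfl⟩
    refine ⟨aff_mem _ _ _, aff_inf _ _ _, ?_⟩
    intro y hy
    induction y using OnePoint.rec with
    | infty => exact Or.inr rfl
    | coe y =>
      left
      rw [aff_coe] at hy
      have := OnePoint.coe_injective hy
      have hb : b = 0 := by simpa using this
      subst hb
      exact aff_one

theorem uni_conj_of {h g : Equiv.Perm (OnePoint K)} (hh : h ∈ mob K) {x : OnePoint K} (hg : Uni x g) :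
    Uni (h x) (h * g * h⁻¹) := by
  refine ⟨(mob K).mul_mem ((mob K).mul_mem hh hg.1) ((mob K).inv_mem hh), ?_, ?_⟩
  · rw [conj_apply, hg.2.1]
  · intro y hy
    obtain ⟨z, rfl⟩ := h.surjective y
    rw [conj_apply] at hy
    rcases hg.2.2 z (h.injective hy) with h1 | h1
    · left; rw [h1, mul_one, mul_inv_cancel]
    · right; rw [h1]

theorem uni_conj {h g : Equiv.Perm (OnePoint K)} (hh : h ∈ mob K) {x : OnePoint K} :
    Uni (h x) (h * g * h⁻¹) ↔ Uni x g := by
  refine ⟨fun H => ?_, uni_conj_of hh⟩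
  have := uni_conj_of ((mob K).inv_mem hh) H
  rw [← Equiv.Perm.mul_apply, inv_mul_cancel, Equiv.Perm.one_apply, inv_inv] at this
  have h2 : h⁻¹ * (h * g * h⁻¹) * h = g := by group
  rwa [h2] at this

/-- reduction of a statement about a point to the point at infinity -/
theorem uni_iff {x : OnePoint K} {h : Equiv.Perm (OnePoint K)} (hh : h ∈ mob K) (hx : h x = ∞) {g : Equiv.Perm (OnePoint K)} :
    Uni x g ↔ ∃ b : K, h * g * h⁻¹ = aff 1 b one_ne_zero := by
  rw [← uni_conj hh, hx, uni_inf]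

/-- the group of unipotent elements at `x` -/
def U (x : OnePoint K) : Subgroup (Equiv.Perm (OnePoint K)) where
  carrier := {g | Uni x g}
  one_mem' := ⟨(mob K).one_mem, rfl, fun _ _ => Or.inl rfl⟩
  mul_mem' := by
    intro a b ha hb
    obtain ⟨h, hh, hx⟩ := to_inf x
    change Uni x a at ha
    change Uni x b at hb
    change Uni x (a * b)
    rw [uni_iff hh hx] at ha hb ⊢
    obtain ⟨s, hs⟩ := ha
    obtain ⟨t, ht⟩ := hb
    refine ⟨t + s, ?_⟩
    have : h * (a * b) * h⁻¹ = (h * a * h⁻¹) * (h * b * h⁻¹) := by group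
    rw [this, hs, ht, aff_mul]
    exact aff_congr (by ring) (by ring)
  inv_mem' := by
    intro a ha
    obtain ⟨h, hh, hx⟩ := to_inf x
    change Uni x a at ha
    change Uni x a⁻¹
    rw [uni_iff hh hx] at ha ⊢
    obtain ⟨s, hs⟩ := ha
    refine ⟨-s, ?_⟩
    have : h * a⁻¹ * h⁻¹ = (h * a * h⁻¹)⁻¹ := by group
    rw [this, hs, aff_inv]
    exact aff_congr (by simp) (by simp)

theorem mem_U {x : OnePoint K} {g : Equiv.Perm (OnePoint K)} : g ∈ U x ↔ Uni x g := Iff.rfl

theorem U_le_mob (x : OnePoint K) : U x ≤ mob K := fun _ hg => hg.1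

theorem fix_of_comm {x : OnePoint K} {g h : Equiv.Perm (OnePoint K)} (hg : g ∈ U x) (hg1 : g ≠ 1) (hc : Commute g h) : h x = x := by
  have h1 : g (h x) = h x := by
    rw [← Equiv.Perm.mul_apply, hc.eq, Equiv.Perm.mul_apply, hg.2.1]
  exact (hg.2.2 _ h1).resolve_left hg1

theorem eq_of_mem_U {x y : OnePoint K} {g : Equiv.Perm (OnePoint K)} (hg : g ∈ U x) (hg1 : g ≠ 1) (hy : g y = y) : y = x :=
  (hg.2.2 _ hy).resolve_left hg1

theorem U_comm {x : OnePoint K} {g h : Equiv.Perm (OnePoint K)} (hg : g ∈ U x) (hh : h ∈ U x) : Commute g h := by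
  obtain ⟨k, hk, hx⟩ := to_inf x
  rw [mem_U, uni_iff hk hx] at hg hh
  obtain ⟨s, hs⟩ := hg
  obtain ⟨t, ht⟩ := hh
  have h1 : (k * g * k⁻¹) * (k * h * k⁻¹) = (k * h * k⁻¹) * (k * g * k⁻¹) := by
    rw [hs, ht, aff_mul, aff_mul]
    exact aff_congr (by ring) (by ring)
  have h2 : k * (g * h) * k⁻¹ = k * (h * g) * k⁻¹ := by
    calc k * (g * h) * k⁻¹ = (k * g * k⁻¹) * (k * h * k⁻¹) := by group
      _ = (k * h * k⁻¹) * (k * g * k⁻¹) := h1
      _ = k * (h * g) * k⁻¹ := by group
  exact mul_left_cancel (mul_right_cancel h2)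

theorem aff_pow (a b : K) (ha : a ≠ 0) (n : ℕ) : ∃ c, (aff a b ha) ^ n = aff (a ^ n) c (pow_ne_zero n ha) := by
  induction n with
  | zero => exact ⟨0, by rw [pow_zero, ← aff_one]; exact aff_congr (pow_zero a).symm rfl⟩
  | succ n ih =>
    obtain ⟨c, hc⟩ := ih
    refine ⟨a ^ n * b + c, ?_⟩
    rw [pow_succ, hc, aff_mul]
    exact aff_congr (pow_succ _ _).symm rfl

theorem aff_one_pow (b : K) (n : ℕ) : (aff 1 b one_ne_zero) ^ n = aff 1 (n * b) one_ne_zero := by
  induction n with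
  | zero => rw [pow_zero, ← aff_one]; exact aff_congr rfl (by simp)
  | succ n ih =>
    rw [pow_succ, ih, aff_mul]
    exact aff_congr (by ring) (by push_cast; ring)

theorem conj_pow' (h g : Equiv.Perm (OnePoint K)) (n : ℕ) : h * g ^ n * h⁻¹ = (h * g * h⁻¹) ^ n := by
  rw [conj_pow]

theorem U_pow (p : ℕ) [CharP K p] {x : OnePoint K} {g : Equiv.Perm (OnePoint K)} (hg : g ∈ U x) : g ^ p = 1 := by
  obtain ⟨k, hk, hx⟩ := to_inf x
  rw [mem_U, uni_iff hk hx] at hg
  obtain ⟨s, hs⟩ := hg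
  have h1 : k * g ^ p * k⁻¹ = 1 := by
    rw [conj_pow', hs, aff_one_pow, ← aff_one]
    exact aff_congr rfl (by rw [CharP.cast_eq_zero, zero_mul])
  rw [mul_inv_eq_one] at h1
  exact mul_eq_left.1 h1

theorem U_of_pow (p : ℕ) [Fact p.Prime] [CharP K p] {x : OnePoint K} {g : Equiv.Perm (OnePoint K)} (hg : g ∈ mob K) (hx : g x = x)
    (k : ℕ) (h : g ^ p ^ k = 1) : g ∈ U x := by
  obtain ⟨l, hl, hlx⟩ := to_inf x
  rw [mem_U, uni_iff hl hlx]
  have h1 : (l * g * l⁻¹) ∞ = ∞ := by rw [← hlx, conj_apply, hx]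
  obtain ⟨a, b, ha, hab⟩ := fix_inf ((mob K).mul_mem ((mob K).mul_mem hl hg) ((mob K).inv_mem hl)) h1
  have h2 : (aff a b ha) ^ p ^ k = 1 := by
    rw [← hab, ← conj_pow', h, mul_one, mul_inv_cancel]
  obtain ⟨c, hc⟩ := aff_pow a b ha (p ^ k)
  rw [hc, ← aff_one] at h2
  have h3 := (aff_inj h2).1
  have h4 : a = 1 := by
    haveI : ExpChar K p := ExpChar.prime Fact.out
    have := (ExpChar.pow_prime_pow_mul_eq_one_iff p k 1 a).1 (by rw [mul_one]; exact h3)
    rwa [pow_one] at this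
  subst h4
  exact ⟨b, hab⟩

/-- the point stabiliser -/
def St (G : Subgroup (Equiv.Perm (OnePoint K))) (x : OnePoint K) : Subgroup (Equiv.Perm (OnePoint K)) :=
  G ⊓ MulAction.stabilizer (Equiv.Perm (OnePoint K)) x

theorem mem_St {G : Subgroup (Equiv.Perm (OnePoint K))} {x : OnePoint K} {g : Equiv.Perm (OnePoint K)} :
    g ∈ St G x ↔ g ∈ G ∧ g x = x := Iff.rfl

/-- the group of unipotent elements at `x` in `G` -/
def UU (G : Subgroup (Equiv.Perm (OnePoint K))) (x : OnePoint K) : Subgroup (Equiv.Perm (OnePoint K)) := G ⊓ U x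

theorem mem_UU {G : Subgroup (Equiv.Perm (OnePoint K))} {x : OnePoint K} {g : Equiv.Perm (OnePoint K)} :
    g ∈ UU G x ↔ g ∈ G ∧ g ∈ U x := Iff.rfl

theorem UU_le_St (G : Subgroup (Equiv.Perm (OnePoint K))) (x : OnePoint K) : UU G x ≤ St G x :=
  fun _ hg => ⟨hg.1, hg.2.2.1⟩

/-- conjugate subgroup -/
def cj (h : Equiv.Perm (OnePoint K)) (G : Subgroup (Equiv.Perm (OnePoint K))) : Subgroup (Equiv.Perm (OnePoint K)) :=
  G.map (MulAut.conj h).toMonoidHom

theorem mem_cj {h : Equiv.Perm (OnePoint K)} {G : Subgroup (Equiv.Perm (OnePoint K))} {g : Equiv.Perm (OnePoint K)} :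
    g ∈ cj h G ↔ h⁻¹ * g * h ∈ G := by
  constructor
  · rintro ⟨k, hk, rfl⟩
    have : h⁻¹ * ((MulAut.conj h).toMonoidHom k) * h = k := by
      change h⁻¹ * (h * k * h⁻¹) * h = k
      group
    rw [this]; exact hk
  · intro hg
    refine ⟨_, hg, ?_⟩
    change h * (h⁻¹ * g * h) * h⁻¹ = g
    group

theorem conj_mem_cj {h : Equiv.Perm (OnePoint K)} {G : Subgroup (Equiv.Perm (OnePoint K))} {g : Equiv.Perm (OnePoint K)}
    (hg : g ∈ G) : h * g * h⁻¹ ∈ cj h G := ⟨g, hg, rfl⟩

theorem cj_le_mob {h : Equiv.Perm (OnePoint K)} (hh : h ∈ mob K) {G : Subgroup (Equiv.Perm (OnePoint K))} (hG : G ≤ mob K) :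
    cj h G ≤ mob K := by
  intro g hg
  rw [mem_cj] at hg
  have h1 := (mob K).mul_mem ((mob K).mul_mem hh (hG hg)) ((mob K).inv_mem hh)
  have h2 : h * (h⁻¹ * g * h) * h⁻¹ = g := by group
  rwa [h2] at h1

noncomputable def cjEquiv (h : Equiv.Perm (OnePoint K)) (G : Subgroup (Equiv.Perm (OnePoint K))) : G ≃* cj h G :=
  G.equivMapOfInjective _ (MulAut.conj h).injective

theorem card_cj (h : Equiv.Perm (OnePoint K)) (G : Subgroup (Equiv.Perm (OnePoint K))) : Nat.card (cj h G) = Nat.card G :=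
  (Nat.card_congr (cjEquiv h G).toEquiv).symm

theorem cj_finite (h : Equiv.Perm (OnePoint K)) (G : Subgroup (Equiv.Perm (OnePoint K))) [Finite G] : Finite (cj h G) :=
  Finite.of_equiv G (cjEquiv h G).toEquiv

theorem cj_St (h : Equiv.Perm (OnePoint K)) (G : Subgroup (Equiv.Perm (OnePoint K))) (x : OnePoint K) :
    cj h (St G x) = St (cj h G) (h x) := by
  ext g
  rw [mem_cj, mem_St, mem_St, mem_cj]
  constructor
  · rintro ⟨h1, h2⟩
    refine ⟨h1, ?_⟩
    have := congrArg h h2
    rw [← Equiv.Perm.mul_apply] at this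
    have h3 : h * (h⁻¹ * g * h) = g * h := by group
    rwa [h3] at this
  · rintro ⟨h1, h2⟩
    refine ⟨h1, ?_⟩
    rw [Equiv.Perm.mul_apply, Equiv.Perm.mul_apply, h2, ← Equiv.Perm.mul_apply, inv_mul_cancel]
    rfl

theorem cj_UU {h : Equiv.Perm (OnePoint K)} (hh : h ∈ mob K) (G : Subgroup (Equiv.Perm (OnePoint K))) (x : OnePoint K) :
    cj h (UU G x) = UU (cj h G) (h x) := by
  ext g
  rw [mem_cj, mem_UU, mem_UU, mem_cj, mem_U, mem_U]
  have h1 : Uni (h x) g ↔ Uni x (h⁻¹ * g * h) := by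
    rw [← uni_conj hh (g := h⁻¹ * g * h)]
    have : h * (h⁻¹ * g * h) * h⁻¹ = g := by group
    rw [this]
  rw [h1]

/-- the structure of the stabiliser of the point at infinity -/
theorem st_inf (G : Subgroup (Equiv.Perm (OnePoint K))) (hG : G ≤ mob K) [Finite G] :
    ∃ T : Subgroup Kˣ, Nat.card (St G ∞) = Nat.card (UU G ∞) * Nat.card T ∧
      Nat.card T ∣ Nat.card (UU G ∞) - 1 ∧ (∀ a : Kˣ, a ∈ T ↔ ∃ b : K, aff (a : K) b a.ne_zero ∈ G) ∧
      (UU G ∞ = ⊥ → IsCyclic (St G ∞)) := by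
  classical
  have hex : ∀ g : St G (∞ : OnePoint K), ∃ a b, ∃ ha : a ≠ 0, (g : Equiv.Perm (OnePoint K)) = aff a b ha :=
    fun g => fix_inf (hG g.2.1) g.2.2
  choose α β hα hαβ using hex
  let χ : St G (∞ : OnePoint K) →* Kˣ :=
    { toFun := fun g => Units.mk0 (α g) (hα g)
      map_one' := by
        ext
        have h1 := hαβ 1
        rw [OneMemClass.coe_one, ← aff_one] at h1
        exact (aff_inj h1).1.symm
      map_mul' := by
        intro g h
        ext
        have h1 := hαβ (g * h)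
        rw [Subgroup.coe_mul, hαβ g, hαβ h, aff_mul] at h1
        exact (aff_inj h1).1.symm }
  have hχ : ∀ g, ((χ g : Kˣ) : K) = α g := fun g => rfl
  have hχaff : ∀ (a b : K) (ha : a ≠ 0) (h : aff a b ha ∈ St G ∞), ((χ ⟨aff a b ha, h⟩ : Kˣ) : K) = a := by
    intro a b ha h
    rw [hχ]
    exact (aff_inj (ha := ha) (hαβ ⟨aff a b ha, h⟩)).1.symm
  have hker : ∀ g : St G (∞ : OnePoint K), χ g = 1 ↔ (g : Equiv.Perm (OnePoint K)) ∈ UU G ∞ := by
    intro g
    constructor
    · intro h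
      refine ⟨g.2.1, ?_⟩
      change Uni ∞ _
      rw [uni_inf]
      refine ⟨β g, ?_⟩
      rw [hαβ g]
      exact aff_congr (by rw [← hχ, h]; rfl) rfl
    · rintro ⟨_, h⟩
      obtain ⟨b, hb⟩ := uni_inf.1 h
      ext
      rw [hχ]
      have := hαβ g
      rw [hb] at this
      exact (aff_inj this).1.symm
  haveI hfin : Finite (St G (∞ : OnePoint K)) := Finite.of_injective (Subgroup.inclusion inf_le_left) (Subgroup.inclusion_injective _)
  refine ⟨χ.range, ?_, ?_, ?_, ?_⟩
  · have h1 : Nat.card χ.ker = Nat.card (UU G (∞ : OnePoint K)) := by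
      apply Nat.card_congr
      exact {
        toFun := fun g => ⟨g.1.1, (hker g.1).1 (MonoidHom.mem_ker.1 g.2)⟩
        invFun := fun g => ⟨⟨g.1, UU_le_St G _ g.2⟩, MonoidHom.mem_ker.2 ((hker _).2 g.2)⟩
        left_inv := fun x => rfl
        right_inv := fun x => rfl }
    rw [← h1, ← Subgroup.index_ker χ]
    exact χ.ker.card_mul_index.symm
  · -- free action on the nonzero translations
    haveI : Finite (UU G (∞ : OnePoint K)) := Finite.of_injective (Subgroup.inclusion inf_le_left) (Subgroup.inclusion_injective _)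
    have hT : ∀ (t : χ.range) (b : K), aff 1 b one_ne_zero ∈ G → aff 1 (((t : Kˣ) : K) * b) one_ne_zero ∈ G := by
      rintro ⟨_, g, rfl⟩ b hb
      have h1 := G.mul_mem (G.mul_mem g.2.1 hb) (G.inv_mem g.2.1)
      rw [hαβ g, aff_inv, aff_mul, aff_mul] at h1
      have h2 : aff 1 (((χ g : Kˣ) : K) * b) one_ne_zero ∈ G := by
        have h3 : aff (1 : K) (((χ g : Kˣ) : K) * b) one_ne_zero =
            aff (α g * 1 * (α g)⁻¹) (α g * 1 * -((α g)⁻¹ * β g) + (α g * b + β g)) (mul_ne_zero (mul_ne_zero (hα g) one_ne_zero) (inv_ne_zero (hα g))) := by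
          apply aff_congr
          · have := hα g
            field_simp
          · have := hα g
            rw [hχ]
            field_simp
            ring
        rw [h3]; exact h1
      exact h2
    letI act : MulAction χ.range {b : K // b ≠ 0 ∧ aff 1 b one_ne_zero ∈ G} :=
      { smul := fun t b => ⟨((t : Kˣ) : K) * b.1, mul_ne_zero (t : Kˣ).ne_zero b.2.1, hT t b.1 b.2.2⟩
        one_smul := fun b => Subtype.ext (one_mul _)
        mul_smul := fun s t b => Subtype.ext (by
          change (((s * t : χ.range) : Kˣ) : K) * b.1 = ((s : Kˣ) : K) * (((t : Kˣ) : K) * b.1)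
          rw [Subgroup.coe_mul, Units.val_mul, mul_assoc]) }
    have e1 : {b : K // b ≠ 0 ∧ aff 1 b one_ne_zero ∈ G} ≃ {u : UU G (∞ : OnePoint K) // u ≠ 1} :=
      { toFun := fun b => ⟨⟨aff 1 b.1 one_ne_zero, b.2.2, uni_inf.2 ⟨b.1, rfl⟩⟩, fun h => b.2.1 (by
            have := congrArg Subtype.val h
            change aff 1 b.1 one_ne_zero = 1 at this
            rw [← aff_one] at this
            exact (aff_inj this).2)⟩
        invFun := fun u => ⟨(uni_inf.1 u.1.2.2).choose, by
            have h := (uni_inf.1 u.1.2.2).choose_spec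
            constructor
            · intro h0
              apply u.2
              apply Subtype.ext
              rw [h]
              rw [aff_congr rfl h0, aff_one]
              rfl
            · rw [← h]; exact u.1.2.1⟩
        left_inv := fun b => by
          apply Subtype.ext
          have h := (uni_inf.1 (uni_inf.2 ⟨b.1, rfl⟩ : Uni ∞ (aff 1 b.1 one_ne_zero))).choose_spec
          exact (aff_inj h).2.symm
        right_inv := fun u => by
          apply Subtype.ext
          apply Subtype.ext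
          exact (uni_inf.1 u.1.2.2).choose_spec.symm }
    haveI hf0 : Finite χ.range := Finite.of_surjective χ.rangeRestrict χ.rangeRestrict_surjective
    haveI hf1 : Finite {b : K // b ≠ 0 ∧ aff 1 b one_ne_zero ∈ G} := Finite.of_equiv _ e1.symm
    have h1 := CfsgLib.Dick.card_dvd_of_free (T := χ.range) (S := {b : K // b ≠ 0 ∧ aff 1 b one_ne_zero ∈ G}) (by
      intro t b h
      have h2 : ((t : Kˣ) : K) * b.1 = b.1 := congrArg Subtype.val h
      have h3 : ((t : Kˣ) : K) = 1 := by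
        have := b.2.1
        exact mul_right_cancel₀ this (by rw [h2, one_mul])
      apply Subtype.ext
      ext
      exact h3)
    rw [Nat.card_congr e1] at h1
    have h2 : Nat.card {u : UU G (∞ : OnePoint K) // u ≠ 1} = Nat.card (UU G (∞ : OnePoint K)) - 1 := by
      haveI : Fintype (UU G (∞ : OnePoint K)) := Fintype.ofFinite _
      have h6 := Fintype.card_subtype_compl (fun v : UU G (∞ : OnePoint K) => v = 1)
      rw [Nat.card_eq_fintype_card, Nat.card_eq_fintype_card]
      simp only [ne_eq]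
      rw [h6, Fintype.card_subtype_eq]
    rwa [h2] at h1
  · intro a
    constructor
    · rintro ⟨g, rfl⟩
      refine ⟨β g, ?_⟩
      have := hαβ g
      rw [aff_congr (hχ g) rfl, ← this]
      exact g.2.1
    · rintro ⟨b, hb⟩
      refine ⟨⟨aff a b a.ne_zero, hb, aff_inf _ _ _⟩, ?_⟩
      ext
      exact hχaff a b a.ne_zero ⟨hb, aff_inf _ _ _⟩
  · intro hbot
    have hinj : Function.Injective χ := by
      rw [injective_iff_map_eq_one]
      intro g hg
      rw [hker, hbot, Subgroup.mem_bot] at hg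
      exact Subtype.ext hg
    exact isCyclic_of_subgroup_isDomain ((Units.coeHom K).comp χ) (Units.val_injective.comp hinj)

end CfsgLib.Mob4
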