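import Mathlib
import Cfsg.Agent.Lib.Mob4

set_option autoImplicit false

/-! Sylow subgroups of finite groups of Moebius transformations in the characteristic. -/
namespace CfsgLib.Mob5

open OnePoint CfsgLib.Mob3 CfsgLib.Mob4

universe u v
variable {K : Type u} [Field K] [DecidableEq K]

theorem st_gen (G : Subgroup (Equiv.Perm (OnePoint K))) (hG : G ≤ mob K) [Finite G] (x : OnePoint K) :
    ∃ t : ℕ, 0 < t ∧ Nat.card (St G x) = Nat.card (UU G x) * t ∧
      t ∣ Nat.card (UU G x) - 1 ∧ (UU G x = ⊥ → IsCyclic (St G x)) := by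
  obtain ⟨h, hh, hx⟩ := to_inf x
  haveI := cj_finite h G
  obtain ⟨T, h1, h2, -, h4⟩ := st_inf (cj h G) (cj_le_mob hh hG)
  rw [← hx, ← cj_St, ← cj_UU hh, card_cj, card_cj] at h1
  rw [← hx, ← cj_UU hh, card_cj] at h2
  rw [← hx, ← cj_St, ← cj_UU hh] at h4
  haveI : Finite (St G x) := Finite.of_injective (Subgroup.inclusion inf_le_left) (Subgroup.inclusion_injective _)
  refine ⟨Nat.card T, ?_, h1, h2, ?_⟩
  · apply Nat.pos_of_ne_zero
    intro h0
    rw [h0, mul_zero] at h1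
    exact Nat.card_pos.ne' h1
  · intro hbot
    have h5 := h4 (by rw [hbot]; exact Subgroup.map_bot _)
    exact (cjEquiv h (St G x)).isCyclic.2 h5

theorem card_stab (G : Subgroup (Equiv.Perm (OnePoint K))) (x : OnePoint K) :
    Nat.card (MulAction.stabilizer G x) = Nat.card (St G x) := by
  apply Nat.card_congr
  exact {
    toFun := fun g => ⟨g.1.1, g.1.2, g.2⟩
    invFun := fun g => ⟨⟨g.1, g.2.1⟩, g.2.2⟩
    left_inv := fun x => rfl
    right_inv := fun x => rfl }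

section
variable (p : ℕ) [hp : Fact p.Prime] [CharP K p] {G : Subgroup (Equiv.Perm (OnePoint K))} (hG : G ≤ mob K) [Finite G]
  (hfix : ∀ g ∈ G, ∀ k : ℕ, g ^ p ^ k = 1 → ∃ x, g x = x)

include hp in
omit [Finite G] in
theorem UU_isPGroup (x : OnePoint K) : IsPGroup p ((UU G x).subgroupOf G) := by
  intro g
  refine ⟨1, ?_⟩
  have h1 : (g : G).1 ^ p = 1 := U_pow p (x := x) (by
    have := g.2
    rw [Subgroup.mem_subgroupOf] at this
    exact this.2)
  apply Subtype.ext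
  apply Subtype.ext
  rw [pow_one]
  exact h1

include hG hfix in
theorem syl_eq_UU (hpG : p ∣ Nat.card G) (Q : Sylow p G) : ∃ x, (Q : Subgroup G) = (UU G x).subgroupOf G ∧ UU G x ≠ ⊥ := by
  haveI hQ : Nontrivial Q := by
    have h1 : p ∣ Nat.card Q := Q.dvd_card_of_dvd_card hpG
    exact Finite.one_lt_card_iff_nontrivial.1 (lt_of_lt_of_le hp.out.one_lt (Nat.le_of_dvd Nat.card_pos h1))
  haveI hZ := Q.isPGroup'.center_nontrivial
  obtain ⟨z, hz⟩ := exists_ne (1 : Subgroup.center Q)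
  obtain ⟨k, hk⟩ := Q.isPGroup' (z : Q)
  have hk' : (((z : Q) : G) : Equiv.Perm (OnePoint K)) ^ p ^ k = 1 := by
    have := congrArg (fun t : Q => ((t : G) : Equiv.Perm (OnePoint K))) hk
    simpa using this
  obtain ⟨x, hx⟩ := hfix _ (((z : Q) : G)).2 k hk'
  have hzU : (((z : Q) : G) : Equiv.Perm (OnePoint K)) ∈ U x := U_of_pow p (hG ((z : Q) : G).2) hx k hk'
  have hz1 : (((z : Q) : G) : Equiv.Perm (OnePoint K)) ≠ 1 := by
    intro h
    apply hz
    apply Subtype.ext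
    apply Subtype.ext
    apply Subtype.ext
    exact h
  have hle : (Q : Subgroup G) ≤ (UU G x).subgroupOf G := by
    intro q hq
    rw [Subgroup.mem_subgroupOf]
    refine ⟨q.2, ?_⟩
    have hcomm : Commute (((z : Q) : G) : Equiv.Perm (OnePoint K)) (q : Equiv.Perm (OnePoint K)) := by
      have := Subgroup.mem_center_iff.1 z.2 ⟨q, hq⟩
      have := congrArg (fun t : Q => ((t : G) : Equiv.Perm (OnePoint K))) this
      exact this.symm
    have hqx : (q : Equiv.Perm (OnePoint K)) x = x := fix_of_comm hzU hz1 hcomm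
    obtain ⟨l, hl⟩ := Q.isPGroup' ⟨q, hq⟩
    have hl' : (q : Equiv.Perm (OnePoint K)) ^ p ^ l = 1 := by
      have := congrArg (fun t : Q => ((t : G) : Equiv.Perm (OnePoint K))) hl
      simpa using this
    exact U_of_pow p (hG q.2) hqx l hl'
  refine ⟨x, (Q.is_maximal' (UU_isPGroup p x) hle).symm, ?_⟩
  intro hbot
  have : (((z : Q) : G) : Equiv.Perm (OnePoint K)) ∈ UU G x := ⟨((z : Q) : G).2, hzU⟩
  rw [hbot, Subgroup.mem_bot] at this
  exact hz1 this

omit [Finite G] in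
theorem exists_ne_of_UU {x : OnePoint K} (hx : UU G x ≠ ⊥) : ∃ u ∈ UU G x, u ≠ 1 :=
  ((UU G x).bot_or_exists_ne_one).resolve_left hx

omit [Finite G] in
theorem eq_of_UU_eq {x y : OnePoint K} (hx : UU G x ≠ ⊥) (h : UU G x ≤ UU G y) : x = y := by
  obtain ⟨u, hu, hu1⟩ := exists_ne_of_UU hx
  exact (eq_of_mem_U hu.2 hu1 (h hu).2.2.1).symm

include hG hfix in
theorem UU_syl {x : OnePoint K} (hx : UU G x ≠ ⊥) : ∃ Q : Sylow p G, (Q : Subgroup G) = (UU G x).subgroupOf G := by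
  obtain ⟨Q, hQ⟩ := (UU_isPGroup (G := G) p x).exists_le_sylow
  have hpG : p ∣ Nat.card G := by
    obtain ⟨u, hu, hu1⟩ := exists_ne_of_UU hx
    have h1 : orderOf (⟨u, hu.1⟩ : G) = p := by
      apply orderOf_eq_prime
      · apply Subtype.ext
        exact U_pow p hu.2
      · intro h; exact hu1 (congrArg Subtype.val h)
    rw [← h1]
    exact orderOf_dvd_natCard _
  obtain ⟨y, hy, -⟩ := syl_eq_UU p hG hfix hpG Q
  refine ⟨Q, ?_⟩
  rw [hy]
  rw [hy] at hQ
  have h2 : UU G x ≤ UU G y := by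
    intro u hu
    have := hQ (show (⟨u, hu.1⟩ : G) ∈ (UU G x).subgroupOf G from hu)
    exact this
  rw [eq_of_UU_eq hx h2]

omit [Finite G] in
include hG in
theorem conj_UU {g : Equiv.Perm (OnePoint K)} (hg : g ∈ G) (x : OnePoint K) {u : Equiv.Perm (OnePoint K)} :
    u ∈ UU G x ↔ g * u * g⁻¹ ∈ UU G (g x) := by
  constructor
  · intro hu
    exact ⟨G.mul_mem (G.mul_mem hg hu.1) (G.inv_mem hg), uni_conj_of (hG hg) hu.2⟩
  · rintro ⟨h1, h2⟩
    refine ⟨?_, (uni_conj (hG hg)).1 h2⟩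
    have h3 := G.mul_mem (G.mul_mem (G.inv_mem hg) h1) hg
    have h4 : g⁻¹ * (g * u * g⁻¹) * g = u := by group
    rwa [h4] at h3

omit [Finite G] in
include hG in
theorem UU_ne_bot_smul {g : Equiv.Perm (OnePoint K)} (hg : g ∈ G) {x : OnePoint K} (hx : UU G x ≠ ⊥) : UU G (g x) ≠ ⊥ := by
  obtain ⟨u, hu, hu1⟩ := exists_ne_of_UU hx
  intro hbot
  have h1 := (conj_UU hG hg x).1 hu
  rw [hbot, Subgroup.mem_bot, mul_inv_eq_one] at h1
  exact hu1 (mul_eq_left.1 h1)

include hG hfix in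
theorem trans_Om {x y : OnePoint K} (hx : UU G x ≠ ⊥) (hy : UU G y ≠ ⊥) : ∃ g ∈ G, g x = y := by
  obtain ⟨Q, hQ⟩ := UU_syl p hG hfix hx
  obtain ⟨R, hR⟩ := UU_syl p hG hfix hy
  obtain ⟨g, hg⟩ := MulAction.exists_smul_eq G Q R
  refine ⟨g, g.2, ?_⟩
  obtain ⟨u, hu, hu1⟩ := exists_ne_of_UU hx
  have h1 : (⟨u, hu.1⟩ : G) ∈ (Q : Subgroup G) := by rw [hQ]; exact hu
  have h2 : g * ⟨u, hu.1⟩ * g⁻¹ ∈ (R : Subgroup G) := by
    rw [← hg, Sylow.coe_subgroup_smul]
    exact Subgroup.smul_mem_pointwise_smul _ (MulAut.conj g) _ h1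
  rw [hR] at h2
  have h3 : (g : Equiv.Perm (OnePoint K)) * u * (g : Equiv.Perm (OnePoint K))⁻¹ ∈ UU G y := h2
  have h4 := (conj_UU hG g.2 x).1 hu
  have h5 : (g : Equiv.Perm (OnePoint K)) * u * (g : Equiv.Perm (OnePoint K))⁻¹ ≠ 1 := by
    intro h
    rw [mul_inv_eq_one] at h
    exact hu1 (mul_eq_left.1 h)
  exact eq_of_mem_U h3.2 h5 h4.2.2.1

include hG in
omit hp [CharP K p] [Finite G] in
theorem card_UU_smul {g : Equiv.Perm (OnePoint K)} (hg : g ∈ G) (x : OnePoint K) :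
    Nat.card (UU G (g x)) = Nat.card (UU G x) := by
  symm
  apply Nat.card_congr
  exact {
    toFun := fun u => ⟨g * u.1 * g⁻¹, (conj_UU hG hg x).1 u.2⟩
    invFun := fun u => ⟨g⁻¹ * u.1 * g, by
      rw [conj_UU hG hg x]
      have : g * (g⁻¹ * u.1 * g) * g⁻¹ = u.1 := by group
      rw [this]; exact u.2⟩
    left_inv := fun u => Subtype.ext (by
      change g⁻¹ * (g * u.1 * g⁻¹) * g = u.1
      group)
    right_inv := fun u => Subtype.ext (by
      change g * (g⁻¹ * u.1 * g) * g⁻¹ = u.1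
      group) }

include hG hfix in
theorem orbit_eq {x : OnePoint K} (hx : UU G x ≠ ⊥) : MulAction.orbit G x = {y | UU G y ≠ ⊥} := by
  ext y
  constructor
  · rintro ⟨g, rfl⟩
    exact UU_ne_bot_smul hG g.2 hx
  · intro hy
    obtain ⟨g, hg, hgy⟩ := trans_Om p hG hfix hx hy
    exact ⟨⟨g, hg⟩, hgy⟩

include hG hfix in
theorem Om_finite {x : OnePoint K} (hx : UU G x ≠ ⊥) : Finite {y : OnePoint K | UU G y ≠ ⊥} := by
  rw [← orbit_eq p hG hfix hx]
  exact (Set.finite_range (fun g : G => g • x)).to_subtype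

include hG hfix in
theorem card_Om {x : OnePoint K} (hx : UU G x ≠ ⊥) :
    Nat.card {y : OnePoint K | UU G y ≠ ⊥} * Nat.card (St G x) = Nat.card G := by
  rw [← orbit_eq p hG hfix hx, ← card_stab, Nat.card_coe_set_eq, ← MulAction.index_stabilizer, mul_comm]
  exact (MulAction.stabilizer G x).card_mul_index

include hG hfix in
theorem dvd_Om {x : OnePoint K} (hx : UU G x ≠ ⊥) :
    Nat.card (UU G x) ∣ Nat.card {y : OnePoint K | UU G y ≠ ⊥} - 1 := by
  classical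
  haveI := Om_finite p hG hfix hx
  haveI : Finite (UU G x) := Finite.of_injective (Subgroup.inclusion inf_le_left) (Subgroup.inclusion_injective _)
  letI act : MulAction (UU G x) {y : OnePoint K // UU G y ≠ ⊥ ∧ y ≠ x} :=
    { smul := fun u y => ⟨(u : Equiv.Perm (OnePoint K)) y.1, UU_ne_bot_smul hG u.2.1 y.2.1, fun h => y.2.2 (by
          have h1 : (u : Equiv.Perm (OnePoint K)) y.1 = (u : Equiv.Perm (OnePoint K)) x := h.trans u.2.2.2.1.symm
          exact (u : Equiv.Perm (OnePoint K)).injective h1)⟩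
      one_smul := fun b => rfl
      mul_smul := fun s t b => rfl }
  haveI hf : Finite {y : OnePoint K // UU G y ≠ ⊥ ∧ y ≠ x} :=
    Finite.of_injective (fun y => (⟨y.1, y.2.1⟩ : {y : OnePoint K | UU G y ≠ ⊥})) (fun y z h => Subtype.ext (congrArg (fun t => t.1) h))
  have h1 := CfsgLib.Dick.card_dvd_of_free (T := UU G x) (S := {y : OnePoint K // UU G y ≠ ⊥ ∧ y ≠ x}) (by
    intro u y h
    by_contra hu1
    apply y.2.2
    exact eq_of_mem_U u.2.2 (fun h => hu1 (Subtype.ext h)) (congrArg Subtype.val h))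
  have h2 : Nat.card {y : OnePoint K // UU G y ≠ ⊥ ∧ y ≠ x} = Nat.card {y : OnePoint K | UU G y ≠ ⊥} - 1 := by
    have e : {y : OnePoint K // UU G y ≠ ⊥ ∧ y ≠ x} ≃ {z : {y : OnePoint K | UU G y ≠ ⊥} // ¬ z = ⟨x, hx⟩} :=
      { toFun := fun y => ⟨⟨y.1, y.2.1⟩, fun h => y.2.2 (congrArg Subtype.val h)⟩
        invFun := fun z => ⟨z.1.1, z.1.2, fun h => z.2 (Subtype.ext h)⟩
        left_inv := fun _ => rfl
        right_inv := fun _ => rfl }
    haveI : Fintype {y : OnePoint K | UU G y ≠ ⊥} := Fintype.ofFinite _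
    rw [Nat.card_congr e]
    have h6 := Fintype.card_subtype_compl (fun v : {y : OnePoint K | UU G y ≠ ⊥} => v = ⟨x, hx⟩)
    rw [Nat.card_eq_fintype_card, Nat.card_eq_fintype_card, h6, Fintype.card_subtype_eq]
  rwa [h2] at h1

include hG hfix in
theorem card_uni {x : OnePoint K} (hx : UU G x ≠ ⊥) :
    Nat.card {g : G // g ≠ 1 ∧ ∃ y, (g : Equiv.Perm (OnePoint K)) ∈ U y} =
      Nat.card {y : OnePoint K | UU G y ≠ ⊥} * (Nat.card (UU G x) - 1) := by
  classical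
  haveI := Om_finite p hG hfix hx
  haveI : Fintype {y : OnePoint K | UU G y ≠ ⊥} := Fintype.ofFinite _
  have e : {g : G // g ≠ 1 ∧ ∃ y, (g : Equiv.Perm (OnePoint K)) ∈ U y} ≃
      Σ y : {y : OnePoint K | UU G y ≠ ⊥}, {u : UU G y.1 // u ≠ 1} := by
    symm
    apply Equiv.ofBijective (fun z : (Σ y : {y : OnePoint K | UU G y ≠ ⊥}, {u : UU G y.1 // u ≠ 1}) =>
      (⟨⟨z.2.1.1, z.2.1.2.1⟩, fun h => z.2.2 (Subtype.ext (congrArg (fun t : G => (t : Equiv.Perm (OnePoint K))) h)), z.1.1, z.2.1.2.2⟩ :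
        {g : G // g ≠ 1 ∧ ∃ y, (g : Equiv.Perm (OnePoint K)) ∈ U y}))
    constructor
    · rintro ⟨⟨y, hy⟩, ⟨⟨u, hu⟩, hu1⟩⟩ ⟨⟨y', hy'⟩, ⟨⟨u', hu'⟩, hu1'⟩⟩ h
      have h1 : u = u' := congrArg (fun t => ((t : {g : G // g ≠ 1 ∧ ∃ y, (g : Equiv.Perm (OnePoint K)) ∈ U y}).1 : Equiv.Perm (OnePoint K))) h
      subst h1
      have h2 : y' = y := eq_of_mem_U hu.2 (fun h => hu1 (Subtype.ext h)) hu'.2.2.1
      subst h2
      rfl
    · rintro ⟨⟨g, hg⟩, hg1, y, hy⟩
      have hne : g ≠ 1 := fun h => hg1 (Subtype.ext h)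
      refine ⟨⟨⟨y, ?_⟩, ⟨⟨g, hg, hy⟩, fun h => hne (congrArg Subtype.val h)⟩⟩, rfl⟩
      intro hbot
      have : g ∈ UU G y := ⟨hg, hy⟩
      rw [hbot, Subgroup.mem_bot] at this
      exact hne this
  haveI hfU : ∀ y : OnePoint K, Finite (UU G y) := fun y =>
    Finite.of_injective (Subgroup.inclusion (inf_le_left : UU G y ≤ G)) (Subgroup.inclusion_injective _)
  haveI hfU' : ∀ y : {y : OnePoint K | UU G y ≠ ⊥}, Finite {u : UU G y.1 // u ≠ 1} := fun y => inferInstance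
  rw [Nat.card_congr e, Nat.card_sigma]
  have h3 : ∀ y : {y : OnePoint K | UU G y ≠ ⊥}, Nat.card {u : UU G y.1 // u ≠ 1} = Nat.card (UU G x) - 1 := by
    intro y
    obtain ⟨g, hg, hgy⟩ := trans_Om p hG hfix hx y.2
    rw [← card_UU_smul hG hg x, hgy]
    haveI : Fintype (UU G y.1) := Fintype.ofFinite _
    have h6 := Fintype.card_subtype_compl (fun v : UU G y.1 => v = 1)
    rw [Nat.card_eq_fintype_card, Nat.card_eq_fintype_card]
    simp only [ne_eq]
    rw [h6, Fintype.card_subtype_eq]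
  simp only [h3, Finset.sum_const, Finset.card_univ, smul_eq_mul, Nat.card_eq_fintype_card]

end

end CfsgLib.Mob5
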