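import Mathlib
import Cfsg.Agent.Lib.Mob5

set_option autoImplicit false

/-! Orbit counting for finite groups of Moebius transformations over an algebraically closed field. -/
namespace CfsgLib.Mob6

open OnePoint CfsgLib.Mob3 CfsgLib.Mob4 CfsgLib.Mob5

universe u v
variable {K : Type u} [Field K] [DecidableEq K]

theorem fix_uni {g : Equiv.Perm (OnePoint K)} (hg1 : g ≠ 1) {y : OnePoint K} (hy : g ∈ U y) : {x | g x = x} = {y} := by
  ext x
  constructor
  · intro hx
    exact eq_of_mem_U hy hg1 hx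
  · rintro rfl
    exact hy.2.1

theorem fix_two [IsAlgClosed K] {g : Equiv.Perm (OnePoint K)} (hg : g ∈ mob K) (hg1 : g ≠ 1) (hn : ¬ ∃ y, g ∈ U y) :
    ∃ x y, x ≠ y ∧ {z | g z = z} = {x, y} := by
  obtain ⟨x, hx⟩ := exists_fix hg
  have h1 : ∃ y, g y = y ∧ y ≠ x := by
    by_contra hcon
    push Not at hcon
    exact hn ⟨x, hg, hx, fun y hy => Or.inr (hcon y hy)⟩
  obtain ⟨y, hy, hyx⟩ := h1
  refine ⟨x, y, hyx.symm, ?_⟩
  ext z
  constructor
  · intro hz
    by_contra hcon
    rw [Set.mem_insert_iff, Set.mem_singleton_iff, not_or] at hcon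
    exact hg1 (eq_one_of_fix_three hg hyx.symm (Ne.symm hcon.1) (Ne.symm hcon.2) hx hy hz)
  · rintro (rfl | rfl)
    · exact hx
    · exact hy

/-- the set of points with nontrivial stabiliser -/
def XX (G : Subgroup (Equiv.Perm (OnePoint K))) : SubMulAction G (OnePoint K) where
  carrier := {x | ∃ g ∈ G, g ≠ 1 ∧ g x = x}
  smul_mem' := by
    rintro g x ⟨h, hh, h1, hx⟩
    refine ⟨(g : Equiv.Perm (OnePoint K)) * h * (g : Equiv.Perm (OnePoint K))⁻¹, G.mul_mem (G.mul_mem g.2 hh) (G.inv_mem g.2), ?_, ?_⟩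
    · intro h2
      rw [mul_inv_eq_one] at h2
      exact h1 (mul_eq_left.1 h2)
    · change ((g : Equiv.Perm (OnePoint K)) * h * (g : Equiv.Perm (OnePoint K))⁻¹) ((g : Equiv.Perm (OnePoint K)) x) = (g : Equiv.Perm (OnePoint K)) x
      rw [conj_apply, hx]

theorem mem_XX {G : Subgroup (Equiv.Perm (OnePoint K))} {x : OnePoint K} : x ∈ XX G ↔ ∃ g ∈ G, g ≠ 1 ∧ g x = x := Iff.rfl

theorem XX_finite [IsAlgClosed K] {G : Subgroup (Equiv.Perm (OnePoint K))} (hG : G ≤ mob K) [Finite G] : Finite (XX G) := by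
  have h1 : ((XX G : SubMulAction G (OnePoint K)) : Set (OnePoint K)) = ⋃ g : {g : G // g ≠ 1}, {x | (g.1 : Equiv.Perm (OnePoint K)) x = x} := by
    ext x
    rw [Set.mem_iUnion]
    constructor
    · rintro ⟨g, hg, h1, hx⟩
      exact ⟨⟨⟨g, hg⟩, fun h => h1 (congrArg Subtype.val h)⟩, hx⟩
    · rintro ⟨g, hx⟩
      exact ⟨g.1, g.1.2, fun h => g.2 (Subtype.ext h), hx⟩
  have h2 : ((XX G : SubMulAction G (OnePoint K)) : Set (OnePoint K)).Finite := by
    rw [h1]
    apply Set.finite_iUnion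
    intro g
    have hne : (g.1 : Equiv.Perm (OnePoint K)) ≠ 1 := fun h => g.2 (Subtype.ext h)
    by_cases hu : ∃ y, (g.1 : Equiv.Perm (OnePoint K)) ∈ U y
    · obtain ⟨y, hy⟩ := hu
      rw [fix_uni hne hy]
      exact Set.finite_singleton y
    · obtain ⟨x, y, -, h⟩ := fix_two (hG g.1.2) hne hu
      rw [h]
      exact Set.toFinite _
  exact h2.to_subtype

theorem card_fixedBy [IsAlgClosed K] {G : Subgroup (Equiv.Perm (OnePoint K))} (hG : G ≤ mob K) [Finite G] (g : G) (hg1 : g ≠ 1) :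
    Nat.card (MulAction.fixedBy (XX G) g) + Nat.card {_u : Unit // ∃ y, (g : Equiv.Perm (OnePoint K)) ∈ U y} = 2 := by
  have hne : (g : Equiv.Perm (OnePoint K)) ≠ 1 := fun h => hg1 (Subtype.ext h)
  have h1 : Nat.card (MulAction.fixedBy (XX G) g) = {x | (g : Equiv.Perm (OnePoint K)) x = x}.ncard := by
    rw [← Nat.card_coe_set_eq]
    apply Nat.card_congr
    exact {
      toFun := fun x => ⟨x.1.1, congrArg Subtype.val x.2⟩
      invFun := fun x => ⟨⟨x.1, g, g.2, hne, x.2⟩, Subtype.ext x.2⟩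
      left_inv := fun _ => rfl
      right_inv := fun _ => rfl }
  rw [h1]
  by_cases hu : ∃ y, (g : Equiv.Perm (OnePoint K)) ∈ U y
  · have h2 : Nat.card {_u : Unit // ∃ y, (g : Equiv.Perm (OnePoint K)) ∈ U y} = 1 := by
      rw [Nat.card_eq_one_iff_unique]
      exact ⟨⟨fun a b => Subtype.ext rfl⟩, ⟨⟨(), hu⟩⟩⟩
    obtain ⟨y, hy⟩ := hu
    rw [h2, fix_uni hne hy, Set.ncard_singleton]
  · have h2 : Nat.card {_u : Unit // ∃ y, (g : Equiv.Perm (OnePoint K)) ∈ U y} = 0 := by
      haveI : IsEmpty {_u : Unit // ∃ y, (g : Equiv.Perm (OnePoint K)) ∈ U y} := ⟨fun a => hu a.2⟩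
      exact Nat.card_of_isEmpty
    obtain ⟨x, y, hxy, h⟩ := fix_two (hG g.2) hne hu
    rw [h2, h, Set.ncard_pair hxy]

theorem orbits_data [IsAlgClosed K] {G : Subgroup (Equiv.Perm (OnePoint K))} (hG : G ≤ mob K) [Finite G] :
    ∃ (r : ℕ) (x : Fin r → OnePoint K), (∀ i, 2 ≤ Nat.card (St G (x i))) ∧ (∀ i j, (∃ g ∈ G, g (x i) = x j) → i = j) ∧
      (∀ y, (∃ g ∈ G, g ≠ 1 ∧ g y = y) → ∃ i, ∃ g ∈ G, g (x i) = y) ∧
      (∑ i, Nat.card G / Nat.card (St G (x i))) + 2 * (Nat.card G - 1) =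
        r * Nat.card G + Nat.card {g : G // g ≠ 1 ∧ ∃ y, (g : Equiv.Perm (OnePoint K)) ∈ U y} := by
  classical
  haveI := XX_finite hG
  haveI : Fintype (XX G) := Fintype.ofFinite _
  haveI : Fintype G := Fintype.ofFinite _
  have hb := MulAction.sum_card_fixedBy_eq_card_orbits_mul_card_group G (XX G)
  have hc := MulAction.card_eq_sum_card_group_div_card_stabilizer G (XX G)
  set Q := MulAction.orbitRel.Quotient G (XX G) with hQ
  let e : Q ≃ Fin (Fintype.card Q) := Fintype.equivFin Q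
  have hst : ∀ x : XX G, Nat.card (MulAction.stabilizer G x) = Nat.card (St G (x : OnePoint K)) := by
    intro x
    rw [← card_stab]
    apply Nat.card_congr
    exact {
      toFun := fun g => ⟨g.1, congrArg Subtype.val g.2⟩
      invFun := fun g => ⟨g.1, Subtype.ext g.2⟩
      left_inv := fun _ => rfl
      right_inv := fun _ => rfl }
  refine ⟨Fintype.card Q, fun i => ((e.symm i).out : XX G), ?_, ?_, ?_, ?_⟩
  · intro i
    obtain ⟨g, hg, h1, hx⟩ := ((e.symm i).out : XX G).2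
    haveI : Finite (St G (((e.symm i).out : XX G) : OnePoint K)) :=
      Finite.of_injective (Subgroup.inclusion (inf_le_left : St G _ ≤ G)) (Subgroup.inclusion_injective _)
    haveI : Nontrivial (St G (((e.symm i).out : XX G) : OnePoint K)) :=
      ⟨⟨⟨g, hg, hx⟩, 1, fun h => h1 (congrArg Subtype.val h)⟩⟩
    exact Finite.one_lt_card
  · rintro i j ⟨g, hg, h⟩
    have h1 : (Quotient.mk _ ((e.symm i).out : XX G) : Q) = Quotient.mk _ ((e.symm j).out : XX G) := by
      symm
      apply Quotient.sound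
      exact ⟨⟨g, hg⟩, Subtype.ext h⟩
    rw [Quotient.out_eq, Quotient.out_eq] at h1
    exact e.symm.injective h1
  · rintro y hy
    let z : XX G := ⟨y, hy⟩
    have h1 : (Quotient.mk _ ((e.symm (e (Quotient.mk _ z))).out : XX G) : Q) = Quotient.mk _ z := by
      rw [Quotient.out_eq, Equiv.symm_apply_apply]
    have h2 := Quotient.exact h1.symm
    obtain ⟨g, hg⟩ := h2
    exact ⟨e (Quotient.mk _ z), g, g.2, congrArg Subtype.val hg⟩
  · -- the counting
    have h1 : ∑ i : Fin (Fintype.card Q), Nat.card G / Nat.card (St G (((e.symm i).out : XX G) : OnePoint K)) = Fintype.card (XX G) := by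
      rw [hc, ← e.symm.sum_comp]
      apply Finset.sum_congr rfl
      intro i _
      rw [← hst, Nat.card_eq_fintype_card, Nat.card_eq_fintype_card]
    rw [h1, Nat.card_eq_fintype_card (α := G), ← hb]
    have h2 : Fintype.card (XX G) = Nat.card (MulAction.fixedBy (XX G) (1 : G)) := by
      rw [← Nat.card_eq_fintype_card]
      apply Nat.card_congr
      exact (Equiv.subtypeUnivEquiv (fun x => one_smul G x)).symm
    have h3 : ∑ g : G, Fintype.card (MulAction.fixedBy (XX G) g) = ∑ g : G, Nat.card (MulAction.fixedBy (XX G) g) := by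
      apply Finset.sum_congr rfl
      intro g _
      rw [Nat.card_eq_fintype_card]
    rw [h3, ← Finset.add_sum_erase _ _ (Finset.mem_univ (1 : G)), ← h2]
    have h4 : Nat.card {g : G // g ≠ 1 ∧ ∃ y, (g : Equiv.Perm (OnePoint K)) ∈ U y} =
        ∑ g ∈ Finset.univ.erase (1 : G), Nat.card {_u : Unit // ∃ y, (g : Equiv.Perm (OnePoint K)) ∈ U y} := by
      have h5 : ∀ g : G, Nat.card {_u : Unit // ∃ y, (g : Equiv.Perm (OnePoint K)) ∈ U y} = if (∃ y, (g : Equiv.Perm (OnePoint K)) ∈ U y) then 1 else 0 := by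
        intro g
        split_ifs with hu
        · rw [Nat.card_eq_one_iff_unique]
          exact ⟨⟨fun a b => Subtype.ext rfl⟩, ⟨⟨(), hu⟩⟩⟩
        · haveI : IsEmpty {_u : Unit // ∃ y, (g : Equiv.Perm (OnePoint K)) ∈ U y} := ⟨fun a => hu a.2⟩
          exact Nat.card_of_isEmpty
      simp only [h5]
      rw [← Finset.sum_filter, Finset.sum_const, smul_eq_mul, mul_one, Nat.card_eq_fintype_card, Fintype.card_subtype]
      congr 1
      ext g
      simp
    rw [h4, add_assoc, ← Finset.sum_add_distrib]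
    congr 1
    rw [Finset.sum_congr rfl (fun g hg => card_fixedBy hG g (Finset.ne_of_mem_erase hg)), Finset.sum_const,
      Finset.card_erase_of_mem (Finset.mem_univ _), Finset.card_univ, smul_eq_mul, mul_comm]

end CfsgLib.Mob6
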