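import Mathlib
import Cfsg.Agent.Lib.Mob6
import Cfsg.Agent.Lib.Mob2

set_option autoImplicit false

/-! Finite groups of Moebius transformations: dihedral groups; arithmetic. -/
namespace CfsgLib.Mob7

open OnePoint CfsgLib.Mob3 CfsgLib.Mob4 CfsgLib.Mob5 CfsgLib.Mob6

universe u v
variable {K : Type u} [Field K] [DecidableEq K]

/-- `G` is a group preserving `{x, y}` and containing an element which swaps `x` and `y` -/
def Dih (G : Subgroup (Equiv.Perm (OnePoint K))) (x y : OnePoint K) : Prop :=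
  x ≠ y ∧ (∀ g ∈ G, (g x = x ∧ g y = y) ∨ (g x = y ∧ g y = x)) ∧ ∃ g ∈ G, g x = y

theorem Dih.symm {G : Subgroup (Equiv.Perm (OnePoint K))} {x y : OnePoint K} (h : Dih G x y) : Dih G y x := by
  refine ⟨h.1.symm, ?_, ?_⟩
  · intro g hg
    rcases h.2.1 g hg with h1 | h1
    · exact Or.inl ⟨h1.2, h1.1⟩
    · exact Or.inr ⟨h1.2, h1.1⟩
  · obtain ⟨g, hg, hgx⟩ := h.2.2
    refine ⟨g, hg, ?_⟩
    rcases h.2.1 g hg with h1 | h1
    · exact absurd (h1.1.symm.trans hgx) h.1
    · exact h1.2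

theorem swap_sq {x y : OnePoint K} (hxy : x ≠ y) {g : Equiv.Perm (OnePoint K)} (hg : g ∈ mob K) (h1 : g x = y) (h2 : g y = x) :
    g * g = 1 := by
  obtain ⟨h, hh, hx, hy⟩ := to_inf_zero hxy
  have h3 : (h * g * h⁻¹) ∞ = ((0 : K) : OnePoint K) := by rw [← hx, conj_apply, h1, hy]
  have h4 : (h * g * h⁻¹) ((0 : K) : OnePoint K) = ∞ := by rw [← hy, conj_apply, h2, hx]
  obtain ⟨c, hc, hcg⟩ := swap_form ((mob K).mul_mem ((mob K).mul_mem hh hg) ((mob K).inv_mem hh)) h3 h4
  have h5 := iv_mul_self c hc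
  rw [← hcg] at h5
  have h6 : h * (g * g) * h⁻¹ = 1 := by
    rw [← h5]; group
  rw [mul_inv_eq_one] at h6
  exact mul_eq_left.1 h6

theorem fix_two_form {x y : OnePoint K} (hxy : x ≠ y) {g : Equiv.Perm (OnePoint K)} (hg : g ∈ mob K) (h1 : g x = x) (h2 : g y = y)
    {h : Equiv.Perm (OnePoint K)} (hh : h ∈ mob K) (hx : h x = ∞) (hy : h y = ((0 : K) : OnePoint K)) :
    ∃ a, ∃ ha : a ≠ 0, h * g * h⁻¹ = aff a 0 ha := by
  have h3 : (h * g * h⁻¹) ∞ = ∞ := by rw [← hx, conj_apply, h1]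
  have h4 : (h * g * h⁻¹) ((0 : K) : OnePoint K) = ((0 : K) : OnePoint K) := by rw [← hy, conj_apply, h2]
  obtain ⟨a, b, ha, hab⟩ := fix_inf ((mob K).mul_mem ((mob K).mul_mem hh hg) ((mob K).inv_mem hh)) h3
  rw [hab, aff_coe] at h4
  have hb : b = 0 := by
    have := OnePoint.coe_injective h4
    simpa using this
  subst hb
  exact ⟨a, ha, hab⟩

theorem swap_inv {x y : OnePoint K} (hxy : x ≠ y) {g c : Equiv.Perm (OnePoint K)} (hg : g ∈ mob K) (h1 : g x = y) (h2 : g y = x)
    (hc : c ∈ mob K) (h3 : c x = x) (h4 : c y = y) : g * c * g = c⁻¹ := by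
  obtain ⟨h, hh, hx, hy⟩ := to_inf_zero hxy
  have h5 : (h * g * h⁻¹) ∞ = ((0 : K) : OnePoint K) := by rw [← hx, conj_apply, h1, hy]
  have h6 : (h * g * h⁻¹) ((0 : K) : OnePoint K) = ∞ := by rw [← hy, conj_apply, h2, hx]
  obtain ⟨d, hd, hdg⟩ := swap_form ((mob K).mul_mem ((mob K).mul_mem hh hg) ((mob K).inv_mem hh)) h5 h6
  obtain ⟨a, ha, hac⟩ := fix_two_form hxy hc h3 h4 hh hx hy
  have h7 := iv_conj_aff d hd a ha
  rw [← hdg, ← hac] at h7
  have h8 : aff a⁻¹ 0 (inv_ne_zero ha) = (h * c * h⁻¹)⁻¹ := by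
    rw [hac, aff_inv]; exact aff_congr rfl (by simp)
  rw [h8] at h7
  have h9 : h * (g * c * g) * h⁻¹ = h * c⁻¹ * h⁻¹ := by
    calc h * (g * c * g) * h⁻¹ = h * g * h⁻¹ * (h * c * h⁻¹) * (h * g * h⁻¹) := by group
      _ = (h * c * h⁻¹)⁻¹ := h7
      _ = h * c⁻¹ * h⁻¹ := by group
  exact mul_left_cancel (mul_right_cancel h9)

theorem UU_bot_of_fix {G : Subgroup (Equiv.Perm (OnePoint K))} {x y : OnePoint K} (hxy : x ≠ y) (h : ∀ g ∈ St G x, g y = y) :
    UU G x = ⊥ := by
  rw [eq_bot_iff]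
  intro g hg
  rw [Subgroup.mem_bot]
  by_contra h1
  exact hxy (eq_of_mem_U hg.2 h1 (h g (UU_le_St G x hg))).symm

theorem Dih.iso {G : Subgroup (Equiv.Perm (OnePoint K))} (hG : G ≤ mob K) [Finite G] {x y : OnePoint K} (h : Dih G x y) :
    Nonempty (G ≃* DihedralGroup (Nat.card (St G x))) ∧ Nat.card G = 2 * Nat.card (St G x) ∧ UU G x = ⊥ ∧ IsCyclic (St G x) := by
  obtain ⟨hxy, h1, s, hs, hsx⟩ := h
  have hsy : s y = x := by
    rcases h1 s hs with h2 | h2
    · exact absurd (h2.1.symm.trans hsx) hxy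
    · exact h2.2
  have hfixy : ∀ g ∈ St G x, g y = y := by
    intro g hg
    rcases h1 g hg.1 with h2 | h2
    · exact h2.2
    · exact absurd (hg.2.symm.trans h2.1) hxy
  have hbot := UU_bot_of_fix hxy hfixy
  obtain ⟨t, -, -, -, hcyc⟩ := st_gen G hG x
  have hcyc' := hcyc hbot
  let e : (St G x).subgroupOf G ≃* St G x := Subgroup.subgroupOfEquivOfLe inf_le_left
  have hcyc2 : IsCyclic ((St G x).subgroupOf G) := e.isCyclic.2 hcyc'
  have hcard : Nat.card ((St G x).subgroupOf G) = Nat.card (St G x) := Nat.card_congr e.toEquiv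
  have hsn : (⟨s, hs⟩ : G) ∉ (St G x).subgroupOf G := by
    intro h
    have : s x = x := h.2
    exact hxy (this.symm.trans hsx)
  have hidx : ((St G x).subgroupOf G).index = 2 := by
    rw [Subgroup.index_eq_two_iff]
    refine ⟨⟨s, hs⟩, ?_⟩
    intro b
    rcases h1 b b.2 with h2 | h2
    · right
      refine ⟨⟨b.2, h2.1⟩, ?_⟩
      intro h3
      have : (b : Equiv.Perm (OnePoint K)) (s x) = x := h3.2
      rw [hsx, h2.2] at this
      exact hxy this.symm
    · left
      refine ⟨⟨G.mul_mem b.2 hs, ?_⟩, ?_⟩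
      · change (b : Equiv.Perm (OnePoint K)) (s x) = x
        rw [hsx, h2.2]
      · intro h3
        have : (b : Equiv.Perm (OnePoint K)) x = x := h3.2
        exact hxy (this.symm.trans h2.1)
  refine ⟨?_, ?_, hbot, hcyc'⟩
  · obtain ⟨e1⟩ := CfsgLib.Mob2.dihedral_of ((St G x).subgroupOf G) hcyc2 hsn hidx (Subtype.ext (swap_sq hxy (hG hs) hsx hsy)) (by
      intro c hc
      apply Subtype.ext
      exact swap_inv hxy (hG hs) hsx hsy (hG c.2) hc.2 (hfixy c hc))
    rw [hcard] at e1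
    exact ⟨e1⟩
  · have := ((St G x).subgroupOf G).card_mul_index
    rw [hidx, hcard] at this
    omega

/-- an orbit of length two gives a dihedral group -/
theorem dih_of_card {G : Subgroup (Equiv.Perm (OnePoint K))} [Finite G] {x : OnePoint K}
    (h : Nat.card G = 2 * Nat.card (St G x)) : ∃ y, Dih G x y := by
  have h1 : (MulAction.orbit G x).ncard = 2 := by
    have h2 := (MulAction.stabilizer G x).card_mul_index
    rw [MulAction.index_stabilizer, card_stab, h] at h2
    haveI : Finite (St G x) := Finite.of_injective (Subgroup.inclusion inf_le_left) (Subgroup.inclusion_injective _)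
    have h3 : 0 < Nat.card (St G x) := Nat.card_pos
    rw [mul_comm 2] at h2
    exact Nat.eq_of_mul_eq_mul_left h3 h2
  obtain ⟨a, b, hab, hset⟩ := Set.ncard_eq_two.1 h1
  have hx : x ∈ MulAction.orbit G x := MulAction.mem_orbit_self x
  obtain ⟨y, hxy, hy⟩ : ∃ y, x ≠ y ∧ MulAction.orbit G x = {x, y} := by
    rw [hset] at hx
    rcases hx with rfl | hx
    · exact ⟨b, hab, hset⟩
    · rw [Set.mem_singleton_iff] at hx
      subst hx
      exact ⟨a, hab.symm, by rw [hset, Set.pair_comm]⟩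
  refine ⟨y, hxy, ?_, ?_⟩
  · intro g hg
    have h3 : g x ∈ MulAction.orbit G x := ⟨⟨g, hg⟩, rfl⟩
    have h4 : y ∈ MulAction.orbit G x := by rw [hy]; simp
    obtain ⟨k, hk⟩ := h4
    have h5 : g y ∈ MulAction.orbit G x := ⟨⟨g, hg⟩ * k, by
      change (⟨g, hg⟩ * k : G) • x = g y
      rw [mul_smul]
      exact congrArg g hk⟩
    rw [hy] at h3 h5
    rcases h3 with h3 | h3
    · left
      refine ⟨h3, ?_⟩
      rcases h5 with h5 | h5
      · exact absurd (g.injective (h5.trans h3.symm)) hxy.symm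
      · exact h5
    · right
      rw [Set.mem_singleton_iff] at h3
      refine ⟨h3, ?_⟩
      rcases h5 with h5 | h5
      · exact h5
      · rw [Set.mem_singleton_iff] at h5
        exact absurd (g.injective (h5.trans h3.symm)) hxy.symm
  · have h4 : y ∈ MulAction.orbit G x := by rw [hy]; simp
    obtain ⟨k, hk⟩ := h4
    exact ⟨k, k.2, hk⟩

theorem fix_of_card {G : Subgroup (Equiv.Perm (OnePoint K))} [Finite G] {x : OnePoint K}
    (h : Nat.card G = Nat.card (St G x)) : ∀ g ∈ G, g x = x := by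
  have h1 : St G x = G := Subgroup.eq_of_le_of_card_ge inf_le_left h.le
  intro g hg
  rw [← h1] at hg
  exact hg.2

/-- a nontrivial stabiliser of a point with an orbit of length at least three is not normal -/
theorem not_normal {G : Subgroup (Equiv.Perm (OnePoint K))} (hG : G ≤ mob K) [Finite G] {x : OnePoint K} (hx : St G x ≠ ⊥)
    (h3 : 3 * Nat.card (St G x) ≤ Nat.card G) : ¬ ((St G x).subgroupOf G).Normal := by
  intro hn
  have h1 : 3 ≤ (MulAction.orbit G x).ncard := by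
    have h2 := (MulAction.stabilizer G x).card_mul_index
    rw [MulAction.index_stabilizer, card_stab] at h2
    haveI : Finite (St G x) := Finite.of_injective (Subgroup.inclusion inf_le_left) (Subgroup.inclusion_injective _)
    have h4 : 0 < Nat.card (St G x) := Nat.card_pos
    rw [← h2, mul_comm 3] at h3
    exact Nat.le_of_mul_le_mul_left h3 h4
  obtain ⟨a, b, c, ha, hb, hc, hab, hac, hbc⟩ := (Set.two_lt_ncard_iff (Set.finite_of_ncard_ne_zero (by omega))).1 (show 2 < (MulAction.orbit G x).ncard by omega)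
  obtain ⟨g, hg, hg1⟩ := (St G x).bot_or_exists_ne_one.resolve_left hx
  have hfix : ∀ y ∈ MulAction.orbit G x, g y = y := by
    rintro _ ⟨k, rfl⟩
    have h5 := hn.conj_mem ⟨g, hg.1⟩ hg k⁻¹
    have h6 : (((k⁻¹ * ⟨g, hg.1⟩ * k⁻¹⁻¹ : G)) : Equiv.Perm (OnePoint K)) x = x := h5.2
    have h7 := congrArg (k : Equiv.Perm (OnePoint K)) h6
    rw [inv_inv] at h7
    change (k : Equiv.Perm (OnePoint K)) (((k : Equiv.Perm (OnePoint K))⁻¹ * g * (k : Equiv.Perm (OnePoint K))) x) = (k : Equiv.Perm (OnePoint K)) x at h7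
    rw [← Equiv.Perm.mul_apply] at h7
    have h8 : (k : Equiv.Perm (OnePoint K)) * ((k : Equiv.Perm (OnePoint K))⁻¹ * g * (k : Equiv.Perm (OnePoint K))) = g * k := by group
    rw [h8] at h7
    exact h7
  exact hg1 (eq_one_of_fix_three (hG hg.1) hab hac hbc (hfix a ha) (hfix b hb) (hfix c hc))

/-- arithmetic in the tame case -/
theorem arith3 {a b c k l m N : ℕ} (ha : 2 ≤ a) (hab : a ≤ b) (hbc : b ≤ c) (h1 : a * k = N) (h2 : b * l = N) (h3 : c * m = N)
    (hN : 1 ≤ N) (h : k + l + m = N + 2) : m = 2 ∨ (N = 12 ∧ a = 2 ∧ b = 3 ∧ c = 3) ∨ (N = 24 ∧ a = 2 ∧ b = 3 ∧ c = 4) ∨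
      (N = 60 ∧ a = 2 ∧ b = 3 ∧ c = 5) := by
  have ha2 : a = 2 := by
    by_contra hne
    have h4 : 3 ≤ a := by omega
    have h5 : 3 * k ≤ N := by rw [← h1]; exact Nat.mul_le_mul_right k h4
    have h6 : 3 * l ≤ N := by rw [← h2]; exact Nat.mul_le_mul_right l (h4.trans hab)
    have h7 : 3 * m ≤ N := by rw [← h3]; exact Nat.mul_le_mul_right m ((h4.trans hab).trans hbc)
    omega
  subst ha2
  have hb3 : b ≤ 3 := by
    by_contra hne
    have h4 : 4 ≤ b := by omega
    have h6 : 4 * l ≤ N := by rw [← h2]; exact Nat.mul_le_mul_right l h4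
    have h7 : 4 * m ≤ N := by rw [← h3]; exact Nat.mul_le_mul_right m (h4.trans hbc)
    omega
  interval_cases b
  · left; omega
  · right
    have hc5 : c ≤ 5 := by
      by_contra hne
      have h4 : 6 ≤ c := by omega
      have h7 : 6 * m ≤ N := by rw [← h3]; exact Nat.mul_le_mul_right m h4
      omega
    interval_cases c <;> omega

/-- arithmetic in the wild case -/
theorem arithw {s t n k e o N : ℕ} (hs : 2 ≤ s) (ht : 0 < t) (hts : t ∣ s - 1) (hn : n = 1 + k * s) (hk : 1 ≤ k) (hN : n * (s * t) = N)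
    (heo : e * o = N) (ho : o = n * (s - 2) + 2) :
    (s = 2 ∧ o = 2) ∨ (3 ≤ s ∧ n = s + 1 ∧ (t = s - 1 ∨ 2 * t = s - 1)) ∨ (s = 3 ∧ n = 10 ∧ t = 2 ∧ N = 60 ∧ e = 5) := by
  by_cases hs2 : s = 2
  · left; subst hs2; simp at ho; exact ⟨rfl, ho⟩
  · right
    obtain ⟨r, rfl⟩ : ∃ r, s = r + 3 := ⟨s - 3, by omega⟩
    have e1 : r + 3 - 2 = r + 1 := by omega
    have e2 : r + 3 - 1 = r + 2 := by omega
    rw [e1] at ho
    rw [e2] at hts ⊢
    have htr : t ≤ r + 2 := Nat.le_of_dvd (by omega) hts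
    -- D = 1 + k (s - 2)
    have h1 : e * (1 + k * (r + 1)) = (1 + k * (r + 3)) * t := by
      have h2 : o = (r + 3) * (1 + k * (r + 1)) := by
        rw [ho, hn]; ring
      have h3 : (r + 3) * (e * (1 + k * (r + 1))) = (r + 3) * ((1 + k * (r + 3)) * t) := by
        calc (r + 3) * (e * (1 + k * (r + 1))) = e * o := by rw [h2]; ring
          _ = n * ((r + 3) * t) := by rw [heo, hN]
          _ = (r + 3) * ((1 + k * (r + 3)) * t) := by rw [hn]; ring
      exact Nat.eq_of_mul_eq_mul_left (by omega) h3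
    have hD : (1 + k * (r + 1)) ∣ 2 * t := by
      have h2 : (1 + k * (r + 1)) ∣ (1 + k * (r + 3)) * t := ⟨e, by rw [← h1]; ring⟩
      have h3 : (1 + k * (r + 3)) * t = (1 + k * (r + 1)) * t + k * (2 * t) := by ring
      rw [h3] at h2
      have h4 : (1 + k * (r + 1)) ∣ k * (2 * t) := (Nat.dvd_add_right (Dvd.intro _ rfl)).1 h2
      have h5 : Nat.Coprime (1 + k * (r + 1)) k := by
        rw [Nat.coprime_add_mul_left_left]
        exact Nat.coprime_one_left k
      exact h5.dvd_of_dvd_mul_left h4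
    have hle : 1 + k * (r + 1) ≤ 2 * t := Nat.le_of_dvd (by omega) hD
    have hk3 : k ≤ 3 := by
      by_contra hne
      have h4 : 4 ≤ k := by omega
      nlinarith [Nat.mul_le_mul_right (r + 1) h4]
    interval_cases k
    · left
      refine ⟨by omega, by omega, ?_⟩
      obtain ⟨m, hm⟩ := hts
      obtain ⟨l, hl⟩ := hD
      have h6 : 1 + 1 * (r + 1) = r + 2 := by ring
      rw [h6, hm] at hl
      have h7 : m * l = 2 := by
        have : t * 2 = t * (m * l) := by rw [← mul_assoc, mul_comm t 2]; exact hl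
        exact (Nat.eq_of_mul_eq_mul_left ht this).symm
      have h8 : m ∣ 2 := ⟨l, h7.symm⟩
      have h9 : m ≤ 2 := Nat.le_of_dvd (by norm_num) h8
      interval_cases m
      · simp at h7
      · left; omega
      · right; omega
    · exfalso
      have h6 : 1 + 2 * (r + 1) = 2 * r + 3 := by ring
      rw [h6] at hD
      have h7 : Nat.Coprime (2 * r + 3) 2 := by
        rw [Nat.coprime_two_right]
        exact ⟨r + 1, by ring⟩
      have h8 := Nat.le_of_dvd ht (h7.dvd_of_dvd_mul_left hD)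
      omega
    · right
      have hr : r = 0 := by omega
      subst hr
      have ht2 : t = 2 := by
        interval_cases t
        · norm_num at hD
        · rfl
      subst ht2
      refine ⟨rfl, by omega, rfl, by omega, by omega⟩

end CfsgLib.Mob7
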