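import Mathlib
import Cfsg.Agent.Lib.Mob7

set_option autoImplicit false

/-! Classification of finite groups of Moebius transformations over an algebraically closed field: the numerical part. -/
namespace CfsgLib.Mob8

open OnePoint CfsgLib.Mob3 CfsgLib.Mob4 CfsgLib.Mob5 CfsgLib.Mob6 CfsgLib.Mob7

universe u v

/-- involutions are conjugate in a group of order twice an odd number -/
theorem conj_of_odd {H : Type u} [Group H] [Finite H] {m : ℕ} (hm : Odd m) (hH : Nat.card H = 2 * m) {a b : H}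
    (ha : orderOf a = 2) (hb : orderOf b = 2) : ∃ h : H, h * a * h⁻¹ = b := by
  classical
  haveI : Fact (Nat.Prime 2) := ⟨Nat.prime_two⟩
  have hf : (Nat.card H).factorization 2 = 1 := by
    rw [hH, Nat.factorization_mul (by norm_num) (by rintro rfl; simp at hm), Finsupp.add_apply, Nat.Prime.factorization_self Nat.prime_two,
      Nat.factorization_eq_zero_of_not_dvd (by rw [← even_iff_two_dvd, Nat.not_even_iff_odd]; exact hm)]
  let A : Sylow 2 H := Sylow.ofCard (Subgroup.zpowers a) (by rw [Nat.card_zpowers, ha, hf, pow_one])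
  let B : Sylow 2 H := Sylow.ofCard (Subgroup.zpowers b) (by rw [Nat.card_zpowers, hb, hf, pow_one])
  obtain ⟨h, hh⟩ := MulAction.exists_smul_eq H A B
  refine ⟨h, ?_⟩
  have h1 : h * a * h⁻¹ ∈ (B : Subgroup H) := by
    rw [← hh, Sylow.coe_subgroup_smul]
    exact Subgroup.smul_mem_pointwise_smul _ (MulAut.conj h) _ (Subgroup.mem_zpowers a)
  change h * a * h⁻¹ ∈ Subgroup.zpowers b at h1
  rw [mem_zpowers_iff_mem_range_orderOf, hb] at h1
  obtain ⟨i, hi, hi2⟩ := Finset.mem_image.1 h1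
  rw [Finset.mem_range] at hi
  interval_cases i
  · exfalso
    rw [pow_zero] at hi2
    have h2 : a = 1 := mul_eq_left.1 (mul_inv_eq_one.1 hi2.symm)
    rw [h2, orderOf_one] at ha
    omega
  · rw [pow_one] at hi2
    exact hi2.symm

theorem add3 {a b c N : ℕ} (h : a + b + c + 2 * (N - 1) = 3 * N) (hN : 1 ≤ N) : a + b + c = N + 2 := by omega

variable {K : Type u} [Field K] [DecidableEq K]

theorem orbits_sorted [IsAlgClosed K] {G : Subgroup (Equiv.Perm (OnePoint K))} (hG : G ≤ mob K) [Finite G] :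
    ∃ (r : ℕ) (x : Fin r → OnePoint K), Monotone (fun i => Nat.card (St G (x i))) ∧
      (∀ i, 2 ≤ Nat.card (St G (x i))) ∧ (∀ i j, (∃ g ∈ G, g (x i) = x j) → i = j) ∧
      (∀ y, (∃ g ∈ G, g ≠ 1 ∧ g y = y) → ∃ i, ∃ g ∈ G, g (x i) = y) ∧
      (∑ i, Nat.card G / Nat.card (St G (x i))) + 2 * (Nat.card G - 1) =
        r * Nat.card G + Nat.card {g : G // g ≠ 1 ∧ ∃ y, (g : Equiv.Perm (OnePoint K)) ∈ U y} := by
  obtain ⟨r, x, h1, h2, h3, h4⟩ := orbits_data hG
  let σ := Tuple.sort (fun i => Nat.card (St G (x i)))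
  refine ⟨r, fun i => x (σ i), Tuple.monotone_sort (fun i => Nat.card (St G (x i))), fun i => h1 _, ?_, ?_, ?_⟩
  · intro i j h
    exact σ.injective (h2 _ _ h)
  · intro y hy
    obtain ⟨i, g, hg, hgi⟩ := h3 y hy
    refine ⟨σ.symm i, g, hg, ?_⟩
    change g (x (σ (σ.symm i))) = y
    rw [Equiv.apply_symm_apply]
    exact hgi
  · rw [← h4, Equiv.sum_comp σ (fun i => Nat.card G / Nat.card (St G (x i)))]

theorem conj_into [IsAlgClosed K] {G : Subgroup (Equiv.Perm (OnePoint K))} (hG : G ≤ mob K) {r : ℕ} {x : Fin r → OnePoint K}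
    (h : ∀ y, (∃ g ∈ G, g ≠ 1 ∧ g y = y) → ∃ i, ∃ g ∈ G, g (x i) = y) (g : G) (hg : g ≠ 1) :
    ∃ i, ∃ k : G, k * g * k⁻¹ ∈ (St G (x i)).subgroupOf G := by
  obtain ⟨y, hy⟩ := exists_fix (hG g.2)
  obtain ⟨i, k, hk, hki⟩ := h y ⟨g, g.2, fun h => hg (Subtype.ext h), hy⟩
  refine ⟨i, ⟨k, hk⟩⁻¹, ?_⟩
  rw [Subgroup.mem_subgroupOf]
  refine ⟨(⟨k, hk⟩⁻¹ * g * (⟨k, hk⟩ : G)⁻¹⁻¹).2, ?_⟩
  rw [inv_inv]
  change (k⁻¹ * (g : Equiv.Perm (OnePoint K)) * k) (x i) = x i
  rw [Equiv.Perm.mul_apply, hki, Equiv.Perm.mul_apply, hy, ← hki, ← Equiv.Perm.mul_apply, inv_mul_cancel]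
  rfl

theorem card_sub {G : Subgroup (Equiv.Perm (OnePoint K))} (x : OnePoint K) :
    Nat.card ((St G x).subgroupOf G) = Nat.card (St G x) :=
  Nat.card_congr (Subgroup.subgroupOfEquivOfLe inf_le_left : (St G x).subgroupOf G ≃* St G x).toEquiv

theorem order_dvd {G : Subgroup (Equiv.Perm (OnePoint K))} [Finite G] {x : OnePoint K} {g k : G} (h : k * g * k⁻¹ ∈ (St G x).subgroupOf G) :
    orderOf g ∣ Nat.card (St G x) := by
  have h1 := orderOf_dvd_natCard (⟨k * g * k⁻¹, h⟩ : (St G x).subgroupOf G)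
  rw [card_sub, ← Subgroup.orderOf_coe] at h1
  have h2 : orderOf (k * g * k⁻¹) = orderOf g := orderOf_injective (MulAut.conj k).toMonoidHom (MulAut.conj k).injective g
  rwa [← h2]

/-- the classification in the tame case -/
theorem tame [IsAlgClosed K] {G : Subgroup (Equiv.Perm (OnePoint K))} (hG : G ≤ mob K) [Finite G] (hU : ∀ x, UU G x = ⊥) :
    (∃ x, ∀ g ∈ G, g x = x) ∨ (∃ x y, Dih G x y) ∨ (Nat.card G = 12 ∧ Nonempty (G ≃* alternatingGroup (Fin 4))) ∨
      (Nat.card G = 24 ∧ Nonempty (G ≃* Equiv.Perm (Fin 4))) ∨ (Nat.card G = 60 ∧ Nonempty (G ≃* alternatingGroup (Fin 5))) := by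
  obtain ⟨r, x, h0, h1, h2, h3, h4⟩ := orbits_sorted hG
  have hu : Nat.card {g : G // g ≠ 1 ∧ ∃ y, (g : Equiv.Perm (OnePoint K)) ∈ U y} = 0 := by
    haveI : IsEmpty {g : G // g ≠ 1 ∧ ∃ y, (g : Equiv.Perm (OnePoint K)) ∈ U y} := ⟨fun g => by
      obtain ⟨y, hy⟩ := g.2.2
      have : (g.1 : Equiv.Perm (OnePoint K)) ∈ UU G y := ⟨g.1.2, hy⟩
      rw [hU, Subgroup.mem_bot] at this
      exact g.2.1 (Subtype.ext this)⟩
    exact Nat.card_of_isEmpty
  rw [hu, add_zero] at h4
  have hN : 1 ≤ Nat.card G := Nat.card_pos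
  have he : ∀ i, Nat.card (St G (x i)) * (Nat.card G / Nat.card (St G (x i))) = Nat.card G := by
    intro i
    exact Nat.mul_div_cancel' (Subgroup.card_dvd_of_le inf_le_left)
  have hr : r < 4 := by
    have h5 : ∑ i, (Nat.card G / Nat.card (St G (x i))) * 2 ≤ ∑ i : Fin r, Nat.card G := by
      apply Finset.sum_le_sum
      intro i _
      have := he i
      have h6 := h1 i
      calc Nat.card G / Nat.card (St G (x i)) * 2 ≤ Nat.card G / Nat.card (St G (x i)) * Nat.card (St G (x i)) := Nat.mul_le_mul_left _ h6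
        _ = Nat.card G := by rw [mul_comm]; exact this
    rw [← Finset.sum_mul, Finset.sum_const, Finset.card_univ, Fintype.card_fin, smul_eq_mul] at h5
    by_contra hcon
    have h6 : 4 * Nat.card G ≤ r * Nat.card G := Nat.mul_le_mul_right _ (by omega)
    omega
  interval_cases r
  · left
    simp at h4
    refine ⟨∞, ?_⟩
    intro g hg
    have h5 : Nat.card G = 1 := by omega
    rw [Subgroup.card_eq_one] at h5
    rw [h5, Subgroup.mem_bot] at hg
    rw [hg]; rfl
  · exfalso
    rw [Fin.sum_univ_one] at h4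
    have h5 := he 0
    have h6 := h1 0
    have h7 : 1 ≤ Nat.card G / Nat.card (St G (x 0)) := by
      apply Nat.pos_of_ne_zero
      intro h8
      rw [h8, mul_zero] at h5
      omega
    have h8 : Nat.card G = 1 := by omega
    rw [h8] at h5
    have := Nat.eq_one_of_mul_eq_one_right h5
    omega
  · left
    rw [Fin.sum_univ_two] at h4
    have h5 := he 0
    have h5' := he 1
    have h7 : 1 ≤ Nat.card G / Nat.card (St G (x 0)) := by
      apply Nat.pos_of_ne_zero
      intro h8
      rw [h8, mul_zero] at h5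
      omega
    have h7' : 1 ≤ Nat.card G / Nat.card (St G (x 1)) := by
      apply Nat.pos_of_ne_zero
      intro h8
      rw [h8, mul_zero] at h5'
      omega
    have h8 : Nat.card G / Nat.card (St G (x 0)) = 1 := by omega
    rw [h8, mul_one] at h5
    exact ⟨x 0, fix_of_card h5.symm⟩
  · right
    rw [Fin.sum_univ_three] at h4
    have h01 : Nat.card (St G (x 0)) ≤ Nat.card (St G (x 1)) := h0 (by decide)
    have h12 : Nat.card (St G (x 1)) ≤ Nat.card (St G (x 2)) := h0 (by decide)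
    have hcon : ∀ g : G, g ≠ 1 → ∃ i, orderOf g ∣ Nat.card (St G (x i)) := by
      intro g hg
      obtain ⟨i, k, hk⟩ := conj_into hG h3 g hg
      exact ⟨i, order_dvd hk⟩
    have hH : Nat.card (St G (x 1)) = 3 → 9 ≤ Nat.card G →
        ∃ H : Subgroup G, Nat.card H = 3 ∧ ¬ H.Normal := by
      intro h5 h6
      refine ⟨(St G (x 1)).subgroupOf G, by rw [card_sub, h5], not_normal hG ?_ (by omega)⟩
      intro hbot
      rw [hbot] at h5
      simp at h5
    rcases arith3 (h1 0) h01 h12 (he 0) (he 1) (he 2) hN (add3 h4 hN) with h5 | h5 | h5 | h5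
    · left
      have h6 := he 2
      rw [h5] at h6
      obtain ⟨y, hy⟩ := dih_of_card (G := G) (x := x 2) (by omega)
      exact ⟨x 2, y, hy⟩
    · right; left
      obtain ⟨hc, ha, hb, hc'⟩ := h5
      refine ⟨hc, ?_⟩
      obtain ⟨H, hH1, hH2⟩ := hH hb (by omega)
      apply CfsgLib.Mob1.a4_of hc (CfsgLib.Mob1.sylow_ne_one (Or.inl hc) hH1 hH2)
      intro g hg6
      obtain ⟨i, hi⟩ := hcon g (by rintro rfl; rw [orderOf_one] at hg6; omega)
      rw [hg6] at hi
      fin_cases i
      · have h9 : 6 ∣ Nat.card (St G (x 0)) := hi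
        rw [ha] at h9; omega
      · have h9 : 6 ∣ Nat.card (St G (x 1)) := hi
        rw [hb] at h9; omega
      · have h9 : 6 ∣ Nat.card (St G (x 2)) := hi
        rw [hc'] at h9; omega
    · right; right; left
      obtain ⟨hc, ha, hb, hc'⟩ := h5
      refine ⟨hc, ?_⟩
      obtain ⟨H, hH1, hH2⟩ := hH hb (by omega)
      apply CfsgLib.Mob1.s4_of hc (CfsgLib.Mob1.sylow_ne_one (Or.inr hc) hH1 hH2)
      intro g hg6
      obtain ⟨i, hi⟩ := hcon g (by rintro rfl; rw [orderOf_one] at hg6; omega)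
      rw [hg6] at hi
      fin_cases i
      · have h9 : 6 ∣ Nat.card (St G (x 0)) := hi
        rw [ha] at h9; omega
      · have h9 : 6 ∣ Nat.card (St G (x 1)) := hi
        rw [hb] at h9; omega
      · have h9 : 6 ∣ Nat.card (St G (x 2)) := hi
        rw [hc'] at h9; omega
    · right; right; right
      obtain ⟨hc, ha, hb, hc'⟩ := h5
      refine ⟨hc, ?_⟩
      apply CfsgLib.Mob2.a5_of hc
      · intro g
        by_cases hg : g = 1
        · left; rw [hg, orderOf_one]
        · obtain ⟨i, hi⟩ := hcon g hg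
          fin_cases i
          · have h9 : orderOf g ∣ Nat.card (St G (x 0)) := hi
            rw [ha] at h9
            rcases (Nat.dvd_prime Nat.prime_two).1 h9 with h | h <;> omega
          · have h9 : orderOf g ∣ Nat.card (St G (x 1)) := hi
            rw [hb] at h9
            rcases (Nat.dvd_prime Nat.prime_three).1 h9 with h | h <;> omega
          · have h9 : orderOf g ∣ Nat.card (St G (x 2)) := hi
            rw [hc'] at h9
            rcases (Nat.dvd_prime Nat.prime_five).1 h9 with h | h <;> omega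
      · have key : ∀ s : G, orderOf s = 2 → ∃ k : G, k * s * k⁻¹ ∈ (St G (x 0)).subgroupOf G := by
          intro s hs
          obtain ⟨i, k, hk⟩ := conj_into hG h3 s (by rintro rfl; rw [orderOf_one] at hs; omega)
          have h9 := order_dvd hk
          rw [hs] at h9
          fin_cases i
          · exact ⟨k, hk⟩
          · exfalso
            have h9' : 2 ∣ Nat.card (St G (x 1)) := h9
            rw [hb] at h9'; omega
          · exfalso
            have h9' : 2 ∣ Nat.card (St G (x 2)) := h9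
            rw [hc'] at h9'; omega
        intro s t hs ht
        obtain ⟨k, hk⟩ := key s hs
        obtain ⟨l, hl⟩ := key t ht
        have ho : ∀ (w v : G), orderOf (v * w * v⁻¹) = orderOf w := fun w v =>
          orderOf_injective (MulAut.conj v).toMonoidHom (MulAut.conj v).injective w
        obtain ⟨h, hh⟩ := conj_of_odd (H := (St G (x 0)).subgroupOf G) (m := 1) odd_one (by rw [card_sub, ha])
          (a := ⟨_, hk⟩) (b := ⟨_, hl⟩) (by rw [← Subgroup.orderOf_coe]; exact (ho s k).trans hs)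
          (by rw [← Subgroup.orderOf_coe]; exact (ho t l).trans ht)
        rw [isConj_iff]
        refine ⟨l⁻¹ * h * k, ?_⟩
        have h7 : (h : G) * (k * s * k⁻¹) * (h : G)⁻¹ = l * t * l⁻¹ := congrArg Subtype.val hh
        calc l⁻¹ * h * k * s * (l⁻¹ * h * k)⁻¹ = l⁻¹ * ((h : G) * (k * s * k⁻¹) * (h : G)⁻¹) * l := by group
          _ = t := by rw [h7]; group

end CfsgLib.Mob8
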