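import Mathlib
import Cfsg.Agent.Lib.Mob8

set_option autoImplicit false

/-! Classification of finite groups of Moebius transformations over an algebraically closed field: the wild case. -/
namespace CfsgLib.Mob9

open OnePoint CfsgLib.Mob3 CfsgLib.Mob4 CfsgLib.Mob5 CfsgLib.Mob6 CfsgLib.Mob7 CfsgLib.Mob8

universe u v
variable {K : Type u} [Field K] [DecidableEq K]

theorem U_of_comm {x : OnePoint K} {u g : Equiv.Perm (OnePoint K)} (hu : u ∈ U x) (hu1 : u ≠ 1) (hg : g ∈ mob K) (hc : Commute u g) :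
    g ∈ U x := by
  obtain ⟨k, hk, hx⟩ := to_inf x
  have hgx : g x = x := fix_of_comm hu hu1 hc
  rw [mem_U, uni_iff hk hx] at hu ⊢
  obtain ⟨s, hs⟩ := hu
  have h1 : (k * g * k⁻¹) ∞ = ∞ := by rw [← hx, conj_apply, hgx]
  obtain ⟨a, b, ha, hab⟩ := fix_inf ((mob K).mul_mem ((mob K).mul_mem hk hg) ((mob K).inv_mem hk)) h1
  have hs0 : s ≠ 0 := by
    rintro rfl
    rw [aff_one, mul_inv_eq_one] at hs
    exact hu1 (mul_eq_left.1 hs)
  have h2 : (k * u * k⁻¹) * (k * g * k⁻¹) = (k * g * k⁻¹) * (k * u * k⁻¹) := by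
    calc (k * u * k⁻¹) * (k * g * k⁻¹) = k * (u * g) * k⁻¹ := by group
      _ = k * (g * u) * k⁻¹ := by rw [hc.eq]
      _ = (k * g * k⁻¹) * (k * u * k⁻¹) := by group
  rw [hs, hab, aff_mul, aff_mul] at h2
  have h3 := (aff_inj h2).2
  have h4 : (a - 1) * s = 0 := by linear_combination -h3
  have ha1 : a = 1 := sub_eq_zero.1 ((mul_eq_zero.1 h4).resolve_right hs0)
  subst ha1
  exact ⟨b, hab⟩

theorem addw1 {n s N : ℕ} (h : n + 2 * (N - 1) = 1 * N + n * (s - 1)) (hs : 2 ≤ s) (hn : 1 ≤ n) {t : ℕ} (ht : 0 < t)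
    (hN : n * (s * t) = N) : n = 1 := by
  obtain ⟨r, rfl⟩ : ∃ r, s = r + 2 := ⟨s - 2, by omega⟩
  obtain ⟨q, rfl⟩ : ∃ q, t = q + 1 := ⟨t - 1, by omega⟩
  have h0 : 1 ≤ N := by rw [← hN]; exact Nat.succ_le_of_lt (by positivity)
  have h1 : r + 2 - 1 = r + 1 := by omega
  rw [h1] at h
  have h2 : N + n = n * (r + 1) + 2 := by omega
  rw [← hN] at h2
  have h3 : n * ((r + 2) * (q + 1)) = n * (r + 1) + n * (r * q + 2 * q + 1) := by ring
  rw [h3] at h2
  have h4 : n * (r * q + 2 * q + 1) + n = 2 := by omega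
  have h5 : n ≤ n * (r * q + 2 * q + 1) := Nat.le_mul_of_pos_right n (by positivity)
  omega

theorem addw2 {n o s N : ℕ} (h : n + o + 2 * (N - 1) = 2 * N + n * (s - 1)) (hs : 2 ≤ s) (hN : 1 ≤ N) : o = n * (s - 2) + 2 := by
  obtain ⟨r, rfl⟩ : ∃ r, s = r + 2 := ⟨s - 2, by omega⟩
  have h1 : r + 2 - 1 = r + 1 := by omega
  have h2 : r + 2 - 2 = r := by omega
  rw [h1] at h
  rw [h2]
  have h3 : n * (r + 1) = n * r + n := by ring
  rw [h3] at h
  omega

theorem addr {r n N s S : ℕ} (h : S + 2 * (N - 1) = r * N + n * (s - 1)) (hS : S * 2 ≤ 2 * n + (r - 1) * N) (hs : 2 ≤ s) (hN : 1 ≤ N)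
    (hn : 1 ≤ n) : r < 3 := by
  by_contra hcon
  obtain ⟨q, rfl⟩ : ∃ q, r = q + 3 := ⟨r - 3, by omega⟩
  have h1 : q + 3 - 1 = q + 2 := by omega
  rw [h1] at hS
  have h2 : n ≤ n * (s - 1) := Nat.le_mul_of_pos_right n (by omega)
  have h3 : (q + 3) * N = q * N + 3 * N := by ring
  have h4 : (q + 2) * N = q * N + 2 * N := by ring
  rw [h3] at h
  rw [h4] at hS
  omega

/-- the classification in the wild case -/
theorem wild [IsAlgClosed K] (p : ℕ) [hp : Fact p.Prime] [CharP K p] {G : Subgroup (Equiv.Perm (OnePoint K))} (hG : G ≤ mob K) [Finite G]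
    {x0 : OnePoint K} (hx : UU G x0 ≠ ⊥) :
    (∀ g ∈ G, g x0 = x0) ∨ (∃ x y, Dih G x y) ∨
      (3 ≤ Nat.card (UU G x0) ∧ Nat.card {y : OnePoint K | UU G y ≠ ⊥} = Nat.card (UU G x0) + 1 ∧
        (Nat.card (St G x0) = Nat.card (UU G x0) * (Nat.card (UU G x0) - 1) ∨
          2 * Nat.card (St G x0) = Nat.card (UU G x0) * (Nat.card (UU G x0) - 1))) ∨
      (Nat.card G = 60 ∧ p = 3 ∧ Nonempty (G ≃* alternatingGroup (Fin 5))) := by
  have hfix : ∀ g ∈ G, ∀ k : ℕ, g ^ p ^ k = 1 → ∃ x, g x = x := fun g hg k _ => exists_fix (hG hg)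
  obtain ⟨r, x, h1, h2, h3, h4⟩ := orbits_data hG
  rw [card_uni p hG hfix hx] at h4
  have hN : 1 ≤ Nat.card G := Nat.card_pos
  haveI hfU : Finite (UU G x0) := Finite.of_injective (Subgroup.inclusion (inf_le_left : UU G x0 ≤ G)) (Subgroup.inclusion_injective _)
  have hs : 2 ≤ Nat.card (UU G x0) := by
    haveI : Nontrivial (UU G x0) := (Subgroup.nontrivial_iff_ne_bot _).2 hx
    exact Finite.one_lt_card
  obtain ⟨t, ht, hst, hts, -⟩ := st_gen G hG x0
  have hOm := card_Om p hG hfix hx
  rw [hst] at hOm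
  haveI := Om_finite p hG hfix hx
  haveI : Nonempty {y : OnePoint K | UU G y ≠ ⊥} := ⟨⟨x0, hx⟩⟩
  have hn : 1 ≤ Nat.card {y : OnePoint K | UU G y ≠ ⊥} := Nat.card_pos
  obtain ⟨k, hk⟩ := dvd_Om p hG hfix hx
  -- the index of the wild orbit
  obtain ⟨i0, hi0⟩ : ∃ i, ∃ g ∈ G, g (x i) = x0 := by
    obtain ⟨u, hu, hu1⟩ := exists_ne_of_UU hx
    exact h3 x0 ⟨u, hu.1, hu1, hu.2.2.1⟩
  have hxi : UU G (x i0) ≠ ⊥ := by
    obtain ⟨g, hg, hgx⟩ := hi0
    have h5 := UU_ne_bot_smul hG (G.inv_mem hg) hx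
    rwa [← hgx, ← Equiv.Perm.mul_apply, inv_mul_cancel] at h5
  have ho0 : Nat.card G / Nat.card (St G (x i0)) = Nat.card {y : OnePoint K | UU G y ≠ ⊥} := by
    rw [← card_Om p hG hfix hxi]
    exact Nat.mul_div_cancel _ (lt_of_lt_of_le (by norm_num) (h1 i0))
  have he : ∀ i, Nat.card (St G (x i)) * (Nat.card G / Nat.card (St G (x i))) = Nat.card G := by
    intro i
    exact Nat.mul_div_cancel' (Subgroup.card_dvd_of_le inf_le_left)
  have hr0 : 1 ≤ r := by
    have := i0.2
    omega
  have hr : r < 3 := by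
    refine addr h4 ?_ hs hN hn
    rw [← Finset.add_sum_erase _ _ (Finset.mem_univ i0), ho0, add_mul, mul_comm _ 2, add_le_add_iff_left, Finset.sum_mul]
    have h5 : ∑ i ∈ Finset.univ.erase i0, (Nat.card G / Nat.card (St G (x i))) * 2 ≤ ∑ i ∈ Finset.univ.erase i0, Nat.card G := by
      apply Finset.sum_le_sum
      intro i _
      have := he i
      have h6 := h1 i
      calc Nat.card G / Nat.card (St G (x i)) * 2 ≤ Nat.card G / Nat.card (St G (x i)) * Nat.card (St G (x i)) := Nat.mul_le_mul_left _ h6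
        _ = Nat.card G := by rw [mul_comm]; exact this
    rwa [Finset.sum_const, Finset.card_erase_of_mem (Finset.mem_univ _), Finset.card_univ, Fintype.card_fin, smul_eq_mul] at h5
  have hfin : Nat.card {y : OnePoint K | UU G y ≠ ⊥} = 1 → ∀ g ∈ G, g x0 = x0 := by
    intro h5
    apply fix_of_card
    rw [← card_Om p hG hfix hx, h5, one_mul]
  have hr' : r = 1 ∨ r = 2 := by omega
  rcases hr' with rfl | rfl
  · left
    rw [Fin.sum_univ_one] at h4
    have hi : i0 = 0 := Subsingleton.elim _ _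
    rw [hi] at ho0
    rw [ho0] at h4
    exact hfin (addw1 h4 hs hn ht hOm)
  · obtain ⟨j, hj, hsum⟩ : ∃ j : Fin 2, j ≠ i0 ∧ ∑ i, Nat.card G / Nat.card (St G (x i)) =
        Nat.card {y : OnePoint K | UU G y ≠ ⊥} + Nat.card G / Nat.card (St G (x j)) := by
      rw [Fin.sum_univ_two]
      have : i0 = 0 ∨ i0 = 1 := by omega
      rcases this with h | h
      · refine ⟨1, by rw [h]; decide, ?_⟩
        rw [h] at ho0
        rw [ho0]
      · refine ⟨0, by rw [h]; decide, ?_⟩
        rw [h] at ho0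
        rw [ho0, add_comm]
    rw [hsum] at h4
    have ho := addw2 h4 hs hN
    by_cases hk0 : k = 0
    · left
      rw [hk0, mul_zero] at hk
      apply hfin
      omega
    rcases arithw hs ht hts (k := k) (n := Nat.card {y : OnePoint K | UU G y ≠ ⊥}) (by rw [mul_comm]; omega) (by omega) hOm (he j) ho with h5 | h5 | h5
    · right; left
      have h6 := he j
      rw [h5.2] at h6
      obtain ⟨y, hy⟩ := dih_of_card (G := G) (x := x j) (by rw [mul_comm]; exact h6.symm)
      exact ⟨x j, y, hy⟩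
    · right; right; left
      refine ⟨h5.1, h5.2.1, ?_⟩
      rw [hst]
      rcases h5.2.2 with h6 | h6
      · left; rw [h6]
      · right; rw [← h6]; ring
    · right; right; right
      obtain ⟨hs3, hn10, ht2, hN60, he5⟩ := h5
      refine ⟨hN60, ?_⟩
      have hp3 : p = 3 := by
        obtain ⟨u, hu, hu1⟩ := exists_ne_of_UU hx
        have h7 : orderOf (⟨u, hu⟩ : UU G x0) = p := by
          apply orderOf_eq_prime
          · apply Subtype.ext
            exact U_pow p hu.2
          · intro h; exact hu1 (congrArg Subtype.val h)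
        have h8 := orderOf_dvd_natCard (⟨u, hu⟩ : UU G x0)
        rw [h7, hs3] at h8
        exact (Nat.prime_dvd_prime_iff_eq hp.out Nat.prime_three).1 h8
      subst hp3
      refine ⟨rfl, ?_⟩
      have hs0 : Nat.card (St G x0) = 6 := by rw [hst, hs3, ht2]
      have hsi : Nat.card (St G (x i0)) = 6 := by
        have h7 := he i0
        rw [ho0, hn10, hN60] at h7
        omega
      have hcon : ∀ g : G, g ≠ 1 → (∃ k : G, k * g * k⁻¹ ∈ (St G (x i0)).subgroupOf G) ∨ (∃ k : G, k * g * k⁻¹ ∈ (St G (x j)).subgroupOf G) := by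
        intro g hg
        obtain ⟨i, k, hk⟩ := conj_into hG h3 g hg
        have : i = i0 ∨ i = j := by omega
        rcases this with h | h
        · left; rw [h] at hk; exact ⟨k, hk⟩
        · right; rw [h] at hk; exact ⟨k, hk⟩
      have ho : ∀ (w v : G), orderOf (v * w * v⁻¹) = orderOf w := fun w v =>
        orderOf_injective (MulAut.conj v).toMonoidHom (MulAut.conj v).injective w
      apply CfsgLib.Mob2.a5_of hN60
      · intro g
        by_cases hg : g = 1
        · left; rw [hg, orderOf_one]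
        · rcases hcon g hg with ⟨k, hk⟩ | ⟨k, hk⟩
          · have h9 := order_dvd hk
            rw [hsi] at h9
            have h10 : orderOf g ≠ 6 := by
              intro h6
              -- the square is unipotent
              have h11 : orderOf (k * g * k⁻¹) = 6 := by rw [ho]; exact h6
              set w : Equiv.Perm (OnePoint K) := ((k * g * k⁻¹ : G) : Equiv.Perm (OnePoint K)) with hw
              have hwo : orderOf w = 6 := by rw [← h11]; exact Subgroup.orderOf_coe _
              have hw2 : w ^ 2 ∈ U (x i0) := by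
                apply U_of_pow 3 ((mob K).pow_mem (hG (k * g * k⁻¹).2) 2) _ 1
                · rw [pow_one, ← pow_mul]
                  exact orderOf_dvd_iff_pow_eq_one.1 (by rw [hwo])
                · have : w (x i0) = x i0 := hk.2
                  rw [pow_two, Equiv.Perm.mul_apply, this, this]
              have hw21 : w ^ 2 ≠ 1 := by
                intro h
                have := orderOf_dvd_of_pow_eq_one h
                rw [hwo] at this
                omega
              have h12 := U_of_comm hw2 hw21 (hG (k * g * k⁻¹).2) ((Commute.refl w).pow_left 2)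
              have h13 := orderOf_dvd_of_pow_eq_one (U_pow 3 h12)
              have h14 : orderOf w ∣ 3 := h13
              rw [hwo] at h14
              omega
            have h11 : orderOf g ≤ 6 := Nat.le_of_dvd (by norm_num) h9
            interval_cases h : orderOf g <;> omega
          · have h9 := order_dvd hk
            rw [he5] at h9
            rcases (Nat.dvd_prime Nat.prime_five).1 h9 with h | h <;> omega
      · have key : ∀ s : G, orderOf s = 2 → ∃ k : G, k * s * k⁻¹ ∈ (St G (x i0)).subgroupOf G := by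
          intro s hs
          rcases hcon s (by rintro rfl; rw [orderOf_one] at hs; omega) with h | ⟨k, hk⟩
          · exact h
          · exfalso
            have h9 := order_dvd hk
            rw [hs, he5] at h9
            omega
        intro s t hs ht
        obtain ⟨k, hk⟩ := key s hs
        obtain ⟨l, hl⟩ := key t ht
        obtain ⟨h, hh⟩ := conj_of_odd (H := (St G (x i0)).subgroupOf G) (m := 3) (by decide) (by rw [card_sub, hsi])
          (a := ⟨_, hk⟩) (b := ⟨_, hl⟩) (by rw [← Subgroup.orderOf_coe]; exact (ho s k).trans hs)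
          (by rw [← Subgroup.orderOf_coe]; exact (ho t l).trans ht)
        rw [isConj_iff]
        refine ⟨l⁻¹ * h * k, ?_⟩
        have h7 : (h : G) * (k * s * k⁻¹) * (h : G)⁻¹ = l * t * l⁻¹ := congrArg Subtype.val hh
        calc l⁻¹ * h * k * s * (l⁻¹ * h * k)⁻¹ = l⁻¹ * ((h : G) * (k * s * k⁻¹) * (h : G)⁻¹) * l := by group
          _ = t := by rw [h7]; group

end CfsgLib.Mob9
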