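import Mathlib
import Cfsg.Agent.Lib.Mob9

set_option autoImplicit false

/-! `PGL(2,k)` and `PSL(2,k)` as groups of Moebius transformations over an extension field. -/
namespace CfsgLib.Mob10

open OnePoint Matrix CfsgLib.Mob3

universe u v w
variable (k : Type v) [Field k] (F : Type u) [Field F] [DecidableEq F] [Algebra k F]

/-- the action of `GL(2,k)` on the projective line over `F` -/
noncomputable def gm : GL (Fin 2) k →* Equiv.Perm (OnePoint F) :=
  (MulAction.toPermHom (GL (Fin 2) F) (OnePoint F)).comp (Matrix.GeneralLinearGroup.map (algebraMap k F))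

noncomputable def pm : Subgroup (Equiv.Perm (OnePoint F)) := (gm k F).range

noncomputable def sm : Subgroup (Equiv.Perm (OnePoint F)) := ((gm k F).comp Matrix.SpecialLinearGroup.toGL).range

variable {k F}

omit [DecidableEq F] [Algebra k F] [Field F] in
theorem det_ne' (M : GL (Fin 2) k) : M 0 0 * M 1 1 - M 0 1 * M 1 0 ≠ 0 := by
  have h := Matrix.isUnit_iff_isUnit_det (M : Matrix (Fin 2) (Fin 2) k) |>.1 M.isUnit
  rw [Matrix.det_fin_two] at h
  exact h.ne_zero

theorem map_det_ne (M : GL (Fin 2) k) : algebraMap k F (M 0 0) * algebraMap k F (M 1 1) - algebraMap k F (M 0 1) * algebraMap k F (M 1 0) ≠ 0 := by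
  have h := det_ne' M
  rw [← map_mul, ← map_mul, ← map_sub]
  intro h0
  exact h ((map_eq_zero (algebraMap k F)).1 h0)

theorem gm_eq (M : GL (Fin 2) k) : gm k F M = mk (algebraMap k F (M 0 0)) (algebraMap k F (M 0 1)) (algebraMap k F (M 1 0)) (algebraMap k F (M 1 1)) (map_det_ne M) := by
  unfold mk gm
  rw [MonoidHom.comp_apply]
  congr 1
  ext i j
  fin_cases i <;> fin_cases j <;> rfl

theorem mk_congr {a b c d a' b' c' d' : F} {h : a * d - b * c ≠ 0} (h1 : a = a') (h2 : b = b') (h3 : c = c') (h4 : d = d') :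
    mk a b c d h = mk a' b' c' d' (by subst h1; subst h2; subst h3; subst h4; exact h) := by
  subst h1; subst h2; subst h3; subst h4; rfl

theorem gm_ker (M : GL (Fin 2) k) : gm k F M = 1 ↔ M ∈ Subgroup.center (GL (Fin 2) k) := by
  rw [gm_eq, Matrix.GeneralLinearGroup.center_eq_range_scalar]
  have hinj := (algebraMap k F).injective
  constructor
  · intro h
    have h1 := DFunLike.congr_fun h ∞
    have h2 := DFunLike.congr_fun h ((0 : F) : OnePoint F)
    have h3 := DFunLike.congr_fun h ((1 : F) : OnePoint F)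
    rw [Equiv.Perm.one_apply, mk_inf] at h1
    rw [Equiv.Perm.one_apply, mk_coe] at h2 h3
    have h10 : M 1 0 = 0 := by
      by_contra hne
      rw [if_neg (fun h => hne ((map_eq_zero _).1 h))] at h1
      exact OnePoint.coe_ne_infty _ h1
    have hd := det_ne' M
    rw [h10, mul_zero, sub_zero] at hd
    have h00 := left_ne_zero_of_mul hd
    have h11 := right_ne_zero_of_mul hd
    have h11' : algebraMap k F (M 1 1) ≠ 0 := fun h => h11 ((map_eq_zero _).1 h)
    rw [h10, map_zero, zero_mul, zero_add, if_neg h11'] at h2 h3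
    have h4 := OnePoint.coe_injective h2
    have h5 := OnePoint.coe_injective h3
    rw [mul_zero, zero_add, div_eq_zero_iff] at h4
    have h01 : M 0 1 = 0 := (map_eq_zero _).1 (h4.resolve_right h11')
    rw [h01, map_zero, add_zero, mul_one, div_eq_one_iff_eq h11'] at h5
    have h6 : M 0 0 = M 1 1 := hinj h5
    refine ⟨Units.mk0 (M 0 0) h00, ?_⟩
    ext i j
    fin_cases i <;> fin_cases j <;> simp [h10, h01, h6]
  · rintro ⟨r, rfl⟩
    have e : ∀ (x : F) (hx : x ≠ 0), mk x 0 0 x (by simpa using hx) = 1 := by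
      intro x hx
      apply perm_ext
      · rw [mk_inf, if_pos rfl]; rfl
      · intro y
        rw [mk_coe, zero_mul, zero_add, if_neg hx, add_zero, mul_div_cancel_left₀ _ hx]; rfl
    have hr : algebraMap k F (r : k) ≠ 0 := fun h => r.ne_zero ((map_eq_zero _).1 h)
    rw [← e _ hr]
    apply mk_congr <;> simp

theorem gm_range_le : pm k F ≤ mob F := by
  rintro _ ⟨M, rfl⟩
  exact ⟨Matrix.GeneralLinearGroup.map (algebraMap k F) M, rfl⟩

theorem sm_le_pm : sm k F ≤ pm k F := by
  rintro _ ⟨M, rfl⟩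
  exact ⟨_, rfl⟩

theorem pm_iso : Nonempty (pm k F ≃* ProjGenLinGroup (Fin 2) k) := by
  have h1 : (gm k F).ker = Subgroup.center (GL (Fin 2) k) := by
    ext M
    rw [MonoidHom.mem_ker, gm_ker]
  have e : (GL (Fin 2) k ⧸ Subgroup.center (GL (Fin 2) k)) ≃* pm k F :=
    (QuotientGroup.quotientMulEquivOfEq h1.symm).trans (QuotientGroup.quotientKerEquivRange (gm k F))
  exact ⟨e.symm⟩

theorem sm_ker (A : Matrix.SpecialLinearGroup (Fin 2) k) : gm k F (Matrix.SpecialLinearGroup.toGL A) = 1 ↔ A ∈ Subgroup.center (Matrix.SpecialLinearGroup (Fin 2) k) := by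
  rw [gm_ker]
  constructor
  · intro h
    rw [Subgroup.mem_center_iff] at h ⊢
    intro B
    have h2 := h (Matrix.SpecialLinearGroup.toGL B)
    rw [← map_mul, ← map_mul] at h2
    exact Matrix.SpecialLinearGroup.toGL_injective h2
  · intro h
    rw [Matrix.SpecialLinearGroup.mem_center_iff] at h
    obtain ⟨r, hr, hA⟩ := h
    rw [Matrix.GeneralLinearGroup.center_eq_range_scalar]
    have hr0 : r ≠ 0 := by
      rintro rfl
      simp at hr
    refine ⟨Units.mk0 r hr0, ?_⟩
    ext i j
    have := congrFun (congrFun hA i) j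
    simpa using this

theorem sm_iso : Nonempty (sm k F ≃* ProjectiveSpecialLinearGroup (Fin 2) k) := by
  have h1 : ((gm k F).comp Matrix.SpecialLinearGroup.toGL).ker = Subgroup.center (Matrix.SpecialLinearGroup (Fin 2) k) := by
    ext M
    rw [MonoidHom.mem_ker, MonoidHom.comp_apply, sm_ker]
  have e : (Matrix.SpecialLinearGroup (Fin 2) k ⧸ Subgroup.center (Matrix.SpecialLinearGroup (Fin 2) k)) ≃* sm k F :=
    (QuotientGroup.quotientMulEquivOfEq h1.symm).trans (QuotientGroup.quotientKerEquivRange ((gm k F).comp Matrix.SpecialLinearGroup.toGL))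
  exact ⟨e.symm⟩

theorem isSquare_mul_of_not [Finite k] {a b : k} (ha : ¬ IsSquare a) (hb : ¬ IsSquare b) : IsSquare (a * b) := by
  classical
  haveI : Fintype k := Fintype.ofFinite k
  by_cases h2 : ringChar k = 2
  · exact FiniteField.isSquare_of_char_two h2 _
  · have ha0 : a ≠ 0 := by rintro rfl; exact ha (IsSquare.zero)
    have hb0 : b ≠ 0 := by rintro rfl; exact hb (IsSquare.zero)
    rw [← quadraticChar_one_iff_isSquare (mul_ne_zero ha0 hb0), map_mul,
      quadraticChar_neg_one_iff_not_isSquare.2 ha, quadraticChar_neg_one_iff_not_isSquare.2 hb]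
    norm_num

theorem gm_mem_sm_of_isSquare (M : GL (Fin 2) k) (h : IsSquare (Matrix.det (M : Matrix (Fin 2) (Fin 2) k))) : gm k F M ∈ sm k F := by
  obtain ⟨d, hd⟩ := h
  have hdet : Matrix.det (M : Matrix (Fin 2) (Fin 2) k) ≠ 0 := (Matrix.isUnit_iff_isUnit_det _ |>.1 M.isUnit).ne_zero
  have hd0 : d ≠ 0 := by rintro rfl; exact hdet (by rw [hd, mul_zero])
  let A : Matrix.SpecialLinearGroup (Fin 2) k := ⟨d⁻¹ • (M : Matrix (Fin 2) (Fin 2) k), by
    rw [Matrix.det_smul, Fintype.card_fin, hd]; field_simp⟩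
  have h1 : M = Matrix.GeneralLinearGroup.scalar (Fin 2) (Units.mk0 d hd0) * Matrix.SpecialLinearGroup.toGL A := by
    ext i j
    rw [Matrix.GeneralLinearGroup.coe_mul]
    have : ((Matrix.GeneralLinearGroup.scalar (Fin 2) (Units.mk0 d hd0) : GL (Fin 2) k) : Matrix (Fin 2) (Fin 2) k) = d • (1 : Matrix (Fin 2) (Fin 2) k) := by
      ext i j
      fin_cases i <;> fin_cases j <;> simp
    rw [this, Matrix.smul_mul, one_mul]
    change M i j = d * (d⁻¹ * M i j)
    rw [← mul_assoc, mul_inv_cancel₀ hd0, one_mul]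
  have h2 : gm k F (Matrix.GeneralLinearGroup.scalar (Fin 2) (Units.mk0 d hd0)) = 1 := by
    rw [gm_ker, Matrix.GeneralLinearGroup.center_eq_range_scalar]
    exact ⟨_, rfl⟩
  rw [h1, map_mul, h2, one_mul]
  exact ⟨A, rfl⟩

theorem sandwich [Finite k] {H : Subgroup (Equiv.Perm (OnePoint F))} (h1 : sm k F ≤ H) (h2 : H ≤ pm k F) : H = sm k F ∨ H = pm k F := by
  by_cases h : H ≤ sm k F
  · left; exact le_antisymm h h1
  · right
    obtain ⟨g, hg, hgs⟩ := SetLike.not_le_iff_exists.1 h
    obtain ⟨M, rfl⟩ := h2 hg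
    have hM : ¬ IsSquare (Matrix.det (M : Matrix (Fin 2) (Fin 2) k)) := fun h => hgs (gm_mem_sm_of_isSquare M h)
    apply le_antisymm h2
    rintro _ ⟨N, rfl⟩
    by_cases hN : IsSquare (Matrix.det (N : Matrix (Fin 2) (Fin 2) k))
    · exact h1 (gm_mem_sm_of_isSquare N hN)
    · have h3 : gm k F (N * M) ∈ sm k F := by
        apply gm_mem_sm_of_isSquare
        rw [Matrix.GeneralLinearGroup.coe_mul, Matrix.det_mul]
        exact isSquare_mul_of_not hN hM
      have h4 := H.mul_mem (h1 h3) (H.inv_mem hg)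
      rwa [map_mul, mul_inv_cancel_right] at h4

theorem aff_mem_pm {a b : k} (ha : a ≠ 0) (ha' : algebraMap k F a ≠ 0) : aff (algebraMap k F a) (algebraMap k F b) ha' ∈ pm k F := by
  refine ⟨Matrix.GeneralLinearGroup.mkOfDetNeZero !![a, b; 0, 1] (by rw [Matrix.det_fin_two_of]; simpa using ha), ?_⟩
  rw [gm_eq]
  unfold aff
  apply mk_congr <;> simp [Matrix.GeneralLinearGroup.mkOfDetNeZero]

theorem iv_mem_pm {c : k} (hc : c ≠ 0) (hc' : algebraMap k F c ≠ 0) : iv (algebraMap k F c) hc' ∈ pm k F := by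
  refine ⟨Matrix.GeneralLinearGroup.mkOfDetNeZero !![0, c; 1, 0] (by rw [Matrix.det_fin_two_of]; simpa using hc), ?_⟩
  rw [gm_eq]
  unfold iv
  apply mk_congr <;> simp [Matrix.GeneralLinearGroup.mkOfDetNeZero]

/-- upper unipotent -/
def up (b : k) : Matrix.SpecialLinearGroup (Fin 2) k := ⟨!![1, b; 0, 1], by rw [Matrix.det_fin_two_of]; ring⟩
/-- lower unipotent -/
def lo (b : k) : Matrix.SpecialLinearGroup (Fin 2) k := ⟨!![1, 0; b, 1], by rw [Matrix.det_fin_two_of]; ring⟩

theorem gm_toGL (A : Matrix.SpecialLinearGroup (Fin 2) k) : gm k F (Matrix.SpecialLinearGroup.toGL A) =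
    mk (algebraMap k F (A 0 0)) (algebraMap k F (A 0 1)) (algebraMap k F (A 1 0)) (algebraMap k F (A 1 1))
      (map_det_ne (Matrix.SpecialLinearGroup.toGL A)) := gm_eq _

theorem gm_up (b : k) : gm k F (Matrix.SpecialLinearGroup.toGL (up b)) = aff 1 (algebraMap k F b) one_ne_zero := by
  rw [gm_toGL]
  unfold aff
  apply mk_congr
  · exact map_one _
  · rfl
  · exact map_zero _
  · exact map_one _

theorem gm_lo (b : k) {c : F} (hc : c ≠ 0) : gm k F (Matrix.SpecialLinearGroup.toGL (lo b)) = iv c hc * aff 1 (c * algebraMap k F b) one_ne_zero * iv c hc := by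
  have e0 : gm k F (Matrix.SpecialLinearGroup.toGL (lo b)) = mk 1 0 (algebraMap k F b) 1 (by simp) := by
    rw [gm_toGL]
    apply mk_congr
    · exact map_one _
    · exact map_zero _
    · rfl
    · exact map_one _
  rw [e0]
  apply perm_ext
  · rw [mk_inf, Equiv.Perm.mul_apply, Equiv.Perm.mul_apply, iv_inf, aff_coe]
    rw [mul_zero, zero_add]
    by_cases hb : b = 0
    · subst hb
      rw [map_zero, mul_zero, iv_zero, if_pos rfl]
    · have hb' : algebraMap k F b ≠ 0 := fun h => hb ((map_eq_zero _).1 h)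
      rw [if_neg hb', iv_coe _ _ (mul_ne_zero hc hb')]
      congr 1
      field_simp
  · intro x
    rw [mk_coe, Equiv.Perm.mul_apply, Equiv.Perm.mul_apply]
    rw [one_mul, add_zero]
    by_cases hx : x = 0
    · subst hx
      rw [iv_zero, aff_inf, iv_inf, mul_zero, zero_add, if_neg one_ne_zero, zero_div]
    · rw [iv_coe _ _ hx, aff_coe, one_mul]
      by_cases hy : algebraMap k F b * x + 1 = 0
      · have h1 : c / x + c * algebraMap k F b = 0 := by
          have : c / x + c * algebraMap k F b = c / x * (algebraMap k F b * x + 1) := by field_simp; ring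
          rw [this, hy, mul_zero]
        rw [if_pos hy, h1, iv_zero]
      · have h1 : c / x + c * algebraMap k F b ≠ 0 := by
          have : c / x + c * algebraMap k F b = c / x * (algebraMap k F b * x + 1) := by field_simp; ring
          rw [this]
          exact mul_ne_zero (div_ne_zero hc hx) hy
        rw [if_neg hy, iv_coe _ _ h1]
        congr 1
        field_simp
        ring

theorem sl_gen {H : Subgroup (Matrix.SpecialLinearGroup (Fin 2) k)} (h1 : ∀ b, up b ∈ H) (h2 : ∀ b, lo b ∈ H) : H = ⊤ := by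
  rw [eq_top_iff]
  have key : ∀ A : Matrix.SpecialLinearGroup (Fin 2) k, A 1 0 ≠ 0 → A ∈ H := by
    intro A hA
    have hdet := A.2
    rw [Matrix.det_fin_two] at hdet
    have h3 : A = up ((A 0 0 - 1) / A 1 0) * lo (A 1 0) * up ((A 1 1 - 1) / A 1 0) := by
      ext i j
      rw [Matrix.SpecialLinearGroup.coe_mul, Matrix.SpecialLinearGroup.coe_mul]
      fin_cases i <;> fin_cases j
      · simp [up, lo, Matrix.mul_apply, Fin.sum_univ_two]
        field_simp
        ring
      · simp [up, lo, Matrix.mul_apply, Fin.sum_univ_two]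
        field_simp
        linear_combination -hdet
      · simp [up, lo, Matrix.mul_apply, Fin.sum_univ_two]
      · simp [up, lo, Matrix.mul_apply, Fin.sum_univ_two]
        field_simp
        ring
    rw [h3]
    exact H.mul_mem (H.mul_mem (h1 _) (h2 _)) (h1 _)
  intro A _
  by_cases hA : A 1 0 = 0
  · have hdet := A.2
    rw [Matrix.det_fin_two] at hdet
    have hd : A 1 1 ≠ 0 := by
      intro h
      rw [h, hA, mul_zero, mul_zero, sub_zero] at hdet
      exact zero_ne_one hdet
    have h3 : (A * lo 1).1 1 0 ≠ 0 := by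
      have : (A * lo 1).1 1 0 = A 1 1 := by
        change ((A * lo 1 : Matrix.SpecialLinearGroup (Fin 2) k) : Matrix (Fin 2) (Fin 2) k) 1 0 = _
        rw [Matrix.SpecialLinearGroup.coe_mul]
        simp [lo, Matrix.mul_apply, Fin.sum_univ_two, hA]
      rw [this]; exact hd
    have h4 := H.mul_mem (key _ h3) (H.inv_mem (h2 (1 : k)))
    rwa [mul_inv_cancel_right] at h4
  · exact key A hA

theorem sm_le_of {H : Subgroup (Equiv.Perm (OnePoint F))} (h1 : ∀ b : k, aff 1 (algebraMap k F b) one_ne_zero ∈ H)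
    {c : k} (hc : c ≠ 0) (hc' : algebraMap k F c ≠ 0) (h2 : iv (algebraMap k F c) hc' ∈ H) : sm k F ≤ H := by
  have h3 : H.comap ((gm k F).comp Matrix.SpecialLinearGroup.toGL) = ⊤ := by
    apply sl_gen
    · intro b
      rw [Subgroup.mem_comap, MonoidHom.comp_apply, gm_up]
      exact h1 b
    · intro b
      rw [Subgroup.mem_comap, MonoidHom.comp_apply, gm_lo b hc', ← map_mul]
      exact H.mul_mem (H.mul_mem h2 (h1 _)) h2
  rintro _ ⟨A, rfl⟩
  have : A ∈ H.comap ((gm k F).comp Matrix.SpecialLinearGroup.toGL) := by rw [h3]; exact Subgroup.mem_top _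
  exact this

end CfsgLib.Mob10
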