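import Mathlib
import Cfsg.Agent.Lib.Mob10

set_option autoImplicit false
set_option maxHeartbeats 400000

/-! Finite groups of Moebius transformations whose unipotent subgroups act regularly: subfield groups. -/
namespace CfsgLib.Mob11

open OnePoint CfsgLib.Mob3 CfsgLib.Mob4 CfsgLib.Mob5 CfsgLib.Mob10

universe u v
variable {F : Type u} [Field F] [DecidableEq F]

theorem aff_mem_pm' (k : Subfield F) {a b : F} (ha : a ∈ k) (hb : b ∈ k) (h0 : a ≠ 0) : aff a b h0 ∈ pm k F :=
  aff_mem_pm (k := k) (F := F) (a := ⟨a, ha⟩) (b := ⟨b, hb⟩) (fun h => h0 (congrArg Subtype.val h)) h0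

theorem iv_mem_pm' (k : Subfield F) {c : F} (hc : c ∈ k) (h0 : c ≠ 0) : iv c h0 ∈ pm k F :=
  iv_mem_pm (k := k) (F := F) (c := ⟨c, hc⟩) (fun h => h0 (congrArg Subtype.val h)) h0

theorem sm_le_of' (k : Subfield F) {H : Subgroup (Equiv.Perm (OnePoint F))} (h1 : ∀ b ∈ k, aff 1 b one_ne_zero ∈ H)
    {c : F} (hc : c ∈ k) (h0 : c ≠ 0) (h2 : iv c h0 ∈ H) : sm k F ≤ H :=
  sm_le_of (k := k) (F := F) (c := ⟨c, hc⟩) (fun b => h1 b.1 b.2) (fun h => h0 (congrArg Subtype.val h)) h0 h2

theorem final_part (k : Subfield F) [Finite k] {G : Subgroup (Equiv.Perm (OnePoint F))} (hG : G ≤ mob F)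
    (h1 : ∀ b ∈ k, aff 1 b one_ne_zero ∈ G) (h2 : ∀ (a b : F) (ha : a ≠ 0), aff a b ha ∈ G → a ∈ k ∧ b ∈ k)
    {c : F} (hc : c ∈ k) (h0 : c ≠ 0) (h3 : iv c h0 ∈ G) (h4 : ∀ g ∈ G, g ∞ ≠ ∞ → ∃ e ∈ k, g ∞ = ((e : F) : OnePoint F)) :
    G = sm k F ∨ G = pm k F := by
  apply sandwich (sm_le_of' k h1 hc h0 h3)
  have key : ∀ g ∈ G, g ∞ = ∞ → g ∈ pm k F := by
    intro g hg h
    obtain ⟨a, b, ha, rfl⟩ := fix_inf (hG hg) h
    obtain ⟨h5, h6⟩ := h2 a b ha hg
    exact aff_mem_pm' k h5 h6 ha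
  intro g hg
  by_cases h : g ∞ = ∞
  · exact key g hg h
  · obtain ⟨e, he, hge⟩ := h4 g hg h
    have h5 : aff 1 (-e) one_ne_zero ∈ G := h1 _ (k.neg_mem he)
    have h6 := key (iv c h0 * aff 1 (-e) one_ne_zero * g) (G.mul_mem (G.mul_mem h3 h5) hg) (by
      rw [Equiv.Perm.mul_apply, Equiv.Perm.mul_apply, hge, aff_coe]
      have : (1 * e + -e : F) = 0 := by ring
      rw [this, iv_zero])
    have h7 : iv c h0 ∈ pm k F := iv_mem_pm' k hc h0
    have h8 : aff 1 (-e) one_ne_zero ∈ pm k F := key _ h5 (aff_inf _ _ _)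
    have h9 := (pm k F).mul_mem ((pm k F).inv_mem ((pm k F).mul_mem h7 h8)) h6
    rwa [inv_mul_cancel_left] at h9

theorem card_opt {R : AddSubgroup F} {T : Subgroup Fˣ} [Finite R] (h : ∀ a ∈ T, (a : F) ∈ R) : Nat.card T + 1 ≤ Nat.card R := by
  have hinj : Function.Injective (fun o : Option T => (Option.elim o (0 : R) (fun a => ⟨((a : Fˣ) : F), h a a.2⟩) : R)) := by
    intro a b hab
    cases a with
    | none =>
      cases b with
      | none => rfl
      | some b =>
        exfalso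
        have : (0 : F) = ((b : Fˣ) : F) := congrArg Subtype.val hab
        exact (b : Fˣ).ne_zero this.symm
    | some a =>
      cases b with
      | none =>
        exfalso
        have : ((a : Fˣ) : F) = 0 := congrArg Subtype.val hab
        exact (a : Fˣ).ne_zero this
      | some b =>
        have : ((a : Fˣ) : F) = ((b : Fˣ) : F) := congrArg Subtype.val hab
        rw [Subtype.ext (Units.ext this)]
  have h1 : Finite (Option T) := Finite.of_injective _ hinj
  have h2 : Finite T := Finite.of_injective (Option.some : T → Option T) (Option.some_injective _)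
  have h3 := Nat.card_le_card_of_injective _ hinj
  rwa [Finite.card_option] at h3

section
variable (p : ℕ) [hp : Fact p.Prime] [CharP F p] {G : Subgroup (Equiv.Perm (OnePoint F))} (hG : G ≤ mob F) [Finite G]
  (hfix : ∀ g ∈ G, ∀ k : ℕ, g ^ p ^ k = 1 → ∃ x, g x = x)

include hG hfix in
theorem regular {x y z : OnePoint F} (hx : UU G x ≠ ⊥) (hy : UU G y ≠ ⊥) (hz : UU G z ≠ ⊥) (hyx : y ≠ x) (hzx : z ≠ x)
    (hn : Nat.card {y : OnePoint F | UU G y ≠ ⊥} = Nat.card (UU G x) + 1) : ∃ u ∈ UU G x, u y = z := by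
  classical
  haveI := Om_finite p hG hfix hx
  haveI : Finite (UU G x) := Finite.of_injective (Subgroup.inclusion (inf_le_left : UU G x ≤ G)) (Subgroup.inclusion_injective _)
  let S : Set (OnePoint F) := {y | UU G y ≠ ⊥} \ {x}
  have hS : S.Finite := Set.Finite.subset (Set.toFinite {y : OnePoint F | UU G y ≠ ⊥}) Set.diff_subset
  have hSc : S.ncard = Nat.card (UU G x) := by
    have h1 := Set.ncard_diff_singleton_of_mem (show x ∈ {y : OnePoint F | UU G y ≠ ⊥} from hx)
    rw [← Nat.card_coe_set_eq {y : OnePoint F | UU G y ≠ ⊥}, hn, Nat.add_sub_cancel] at h1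
    exact h1
  let f : UU G x → OnePoint F := fun u => (u : Equiv.Perm (OnePoint F)) y
  have hf : Function.Injective f := by
    intro u v huv
    by_contra hne
    have h1 : (v : Equiv.Perm (OnePoint F))⁻¹ * u ∈ U x := (U x).mul_mem ((U x).inv_mem v.2.2) u.2.2
    have h2 : (v : Equiv.Perm (OnePoint F))⁻¹ * u ≠ 1 := by
      intro h
      rw [inv_mul_eq_one] at h
      exact hne (Subtype.ext h.symm)
    apply hyx
    apply eq_of_mem_U h1 h2
    change (v : Equiv.Perm (OnePoint F))⁻¹ ((u : Equiv.Perm (OnePoint F)) y) = y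
    rw [show (u : Equiv.Perm (OnePoint F)) y = (v : Equiv.Perm (OnePoint F)) y from huv, ← Equiv.Perm.mul_apply, inv_mul_cancel]
    rfl
  have hr : Set.range f ⊆ S := by
    rintro _ ⟨u, rfl⟩
    refine ⟨UU_ne_bot_smul hG u.2.1 hy, ?_⟩
    intro h
    exact hyx ((u : Equiv.Perm (OnePoint F)).injective (h.trans u.2.2.2.1.symm))
  have hrc : (Set.range f).ncard = Nat.card (UU G x) := by
    rw [← Set.image_univ, Set.ncard_image_of_injective _ hf, Set.ncard_univ]
  have heq : Set.range f = S := Set.eq_of_subset_of_ncard_le hr (by rw [hrc, hSc]) hS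
  have hzS : z ∈ S := ⟨hz, hzx⟩
  rw [← heq] at hzS
  obtain ⟨u, hu⟩ := hzS
  exact ⟨u, u.2, hu⟩

include hG hfix in
theorem Wnorm (h0 : UU G ∞ ≠ ⊥) (h1 : UU G ((0 : F) : OnePoint F) ≠ ⊥) (h2 : UU G ((1 : F) : OnePoint F) ≠ ⊥)
    (hn : Nat.card {y : OnePoint F | UU G y ≠ ⊥} = Nat.card (UU G ∞) + 1)
    (hst : Nat.card (UU G ∞) * (Nat.card (UU G ∞) - 1) ≤ 2 * Nat.card (St G ∞)) :
    ∃ k : Subfield F, Nat.card k = Nat.card (UU G ∞) ∧ (G = sm k F ∨ G = pm k F) := by
  classical
  haveI := Om_finite p hG hfix h0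
  haveI hUf : Finite (UU G (∞ : OnePoint F)) := Finite.of_injective (Subgroup.inclusion (inf_le_left : UU G ∞ ≤ G)) (Subgroup.inclusion_injective _)
  -- the additive group
  let A : AddSubgroup F :=
    { carrier := {b | aff 1 b one_ne_zero ∈ G}
      zero_mem' := by
        change aff 1 0 one_ne_zero ∈ G
        rw [aff_one]; exact G.one_mem
      add_mem' := by
        intro a b ha hb
        change aff 1 (a + b) one_ne_zero ∈ G
        have := G.mul_mem ha hb
        rw [aff_mul] at this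
        rwa [aff_congr (show (1 : F) = 1 * 1 by ring) (show a + b = 1 * b + a by ring)]
      neg_mem' := by
        intro a ha
        change aff 1 (-a) one_ne_zero ∈ G
        have := G.inv_mem ha
        rw [aff_inv] at this
        rwa [aff_congr (show (1 : F) = 1⁻¹ by simp) (show -a = -(1⁻¹ * a) by simp)] }
  have hA : ∀ b, b ∈ A ↔ aff 1 b one_ne_zero ∈ G := fun b => Iff.rfl
  have hAmem : ∀ b : F, UU G (b : OnePoint F) ≠ ⊥ → b ∈ A := by
    intro b hb
    obtain ⟨u, hu, hub⟩ := regular p hG hfix h0 h1 hb (OnePoint.coe_ne_infty _) (OnePoint.coe_ne_infty _) hn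
    obtain ⟨c, hc⟩ := uni_inf.1 hu.2
    rw [hc, aff_coe, mul_zero, zero_add] at hub
    rw [hA, ← OnePoint.coe_injective hub, ← hc]
    exact hu.1
  have hone : (1 : F) ∈ A := hAmem 1 h2
  have hAcard : Nat.card A = Nat.card (UU G (∞ : OnePoint F)) := by
    apply Nat.card_eq_of_bijective (fun b : A => (⟨aff 1 b one_ne_zero, b.2, uni_inf.2 ⟨b, rfl⟩⟩ : UU G (∞ : OnePoint F)))
    constructor
    · intro a b hab
      exact Subtype.ext (aff_inj (ha := one_ne_zero) (ha' := one_ne_zero) (congrArg Subtype.val hab)).2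
    · rintro ⟨u, hu⟩
      obtain ⟨c, hc⟩ := uni_inf.1 hu.2
      refine ⟨⟨c, ?_⟩, Subtype.ext hc.symm⟩
      rw [hA, ← hc]; exact hu.1
  haveI hAfin : Finite A := Nat.finite_of_card_ne_zero (by rw [hAcard]; exact Nat.card_pos.ne')
  obtain ⟨T, hT1, -, hT3, -⟩ := st_inf G hG
  have hTaff : ∀ a ∈ T, aff (a : F) 0 a.ne_zero ∈ G := by
    intro a ha
    obtain ⟨b, hb⟩ := (hT3 a).1 ha
    have h3 : b ∈ A := by
      apply hAmem
      have h4 := UU_ne_bot_smul hG hb h1
      rwa [aff_coe, mul_zero, zero_add] at h4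
    have h5 := G.mul_mem (A.neg_mem h3 : aff 1 (-b) one_ne_zero ∈ G) hb
    rw [aff_mul] at h5
    rwa [aff_congr (show (a : F) = 1 * a by ring) (show (0 : F) = 1 * b + -b by ring)]
  have hTA : ∀ a ∈ T, ∀ b ∈ A, (a : F) * b ∈ A := by
    intro a ha b hb
    have h3 := G.mul_mem (G.mul_mem (hTaff a ha) hb) (G.inv_mem (hTaff a ha))
    rw [aff_inv, aff_mul, aff_mul] at h3
    rw [hA]
    have ha0 := a.ne_zero
    rwa [aff_congr (show (1 : F) = (a : F) * 1 * (a : F)⁻¹ by field_simp)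
      (show (a : F) * b = (a : F) * 1 * -((a : F)⁻¹ * 0) + ((a : F) * b + 0) by ring)]
  let R : Subring F := Subring.closure {x | ∃ a ∈ T, (a : F) = x}
  have hRA : ∀ r ∈ R, ∀ b ∈ A, r * b ∈ A := by
    intro r hr
    refine Subring.closure_induction (p := fun r _ => ∀ b ∈ A, r * b ∈ A) ?_ ?_ ?_ ?_ ?_ ?_ hr
    · rintro _ ⟨a, ha, rfl⟩ b hb
      exact hTA a ha b hb
    · intro b _; rw [zero_mul]; exact A.zero_mem
    · intro b hb; rwa [one_mul]
    · intro x y _ _ hx hy b hb
      rw [add_mul]; exact A.add_mem (hx b hb) (hy b hb)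
    · intro x _ hx b hb
      rw [neg_mul]; exact A.neg_mem (hx b hb)
    · intro x y _ _ hx hy b hb
      rw [mul_assoc]; exact hx _ (hy b hb)
  have hRle : R.toAddSubgroup ≤ A := by
    intro r hr
    have := hRA r hr 1 hone
    rwa [mul_one] at this
  have hReq : R.toAddSubgroup = A := by
    haveI hRfin : Finite R.toAddSubgroup := Finite.of_injective (AddSubgroup.inclusion hRle) (AddSubgroup.inclusion_injective _)
    obtain ⟨m, hm⟩ := AddSubgroup.card_dvd_of_le hRle
    have hRT : Nat.card T + 1 ≤ Nat.card R.toAddSubgroup := card_opt (fun a ha => Subring.subset_closure ⟨a, ha, rfl⟩)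
    have hs1 : 1 ≤ Nat.card (UU G (∞ : OnePoint F)) := Nat.card_pos
    rw [hT1] at hst
    have h3 : Nat.card (UU G (∞ : OnePoint F)) - 1 ≤ 2 * Nat.card T := by
      have : Nat.card (UU G (∞ : OnePoint F)) * (Nat.card (UU G (∞ : OnePoint F)) - 1) ≤ Nat.card (UU G (∞ : OnePoint F)) * (2 * Nat.card T) := by
        calc _ ≤ _ := hst
          _ = _ := by ring
      exact Nat.le_of_mul_le_mul_left this hs1
    rw [hAcard] at hm
    have hm1 : m = 1 := by
      have h4 : m < 2 := by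
        by_contra hcon
        have : 2 * Nat.card R.toAddSubgroup ≤ Nat.card R.toAddSubgroup * m := by
          rw [mul_comm]; exact Nat.mul_le_mul_left _ (by omega)
        omega
      have h5 : m ≠ 0 := by
        rintro rfl
        rw [mul_zero] at hm
        omega
      omega
    apply SetLike.coe_injective
    apply Set.eq_of_subset_of_ncard_le (show (R.toAddSubgroup : Set F) ⊆ A from hRle) _ (Set.toFinite (A : Set F))
    change Nat.card A ≤ Nat.card R.toAddSubgroup
    rw [hAcard, hm, hm1, mul_one]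
  have hRA' : ∀ x, x ∈ R ↔ x ∈ A := by
    intro x
    rw [← hReq]; rfl
  haveI hRfin : Finite R := Finite.of_injective (fun r : R => (⟨r, (hRA' _).1 r.2⟩ : A)) (fun a b h => Subtype.ext (congrArg (fun t : A => (t : F)) h))
  obtain ⟨k, hk⟩ : ∃ k : Subfield F, ∀ x, x ∈ k ↔ x ∈ A := by
    refine ⟨{ R with
      inv_mem' := ?_ }, hRA'⟩
    intro x hx
    change x⁻¹ ∈ R
    by_cases hx0 : x = 0
    · rw [hx0, inv_zero]; exact R.zero_mem
    · have hinj : Function.Injective (fun r : R => (⟨x, hx⟩ : R) * r) := by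
        intro a b hab
        have := congrArg Subtype.val hab
        exact Subtype.ext (mul_left_cancel₀ hx0 this)
      obtain ⟨y, hy⟩ := (Finite.injective_iff_surjective.1 hinj) 1
      have : x * y = 1 := congrArg Subtype.val hy
      rw [← eq_inv_of_mul_eq_one_right this]
      exact y.2
  refine ⟨k, ?_, ?_⟩
  · rw [← hAcard]
    exact Nat.card_congr (Equiv.subtypeEquivRight hk)
  · -- the swapping element
    obtain ⟨v, hv, hv1⟩ := regular p hG hfix h2 h0 h1 (OnePoint.coe_ne_infty _).symm (fun h => zero_ne_one (OnePoint.coe_injective h)) (by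
      rw [hn]
      obtain ⟨g, hg, hgx⟩ := trans_Om p hG hfix h0 h2
      rw [← hgx, card_UU_smul hG hg])
    have hv0 : v ((0 : F) : OnePoint F) ≠ ((0 : F) : OnePoint F) := by
      intro h
      exact OnePoint.coe_ne_infty _ (v.injective (h.trans hv1.symm))
    obtain ⟨u, hu, hu1⟩ := regular p hG hfix h1 (UU_ne_bot_smul hG hv.1 h1) h0 hv0 (OnePoint.coe_ne_infty _).symm (by
      rw [hn]
      obtain ⟨g, hg, hgx⟩ := trans_Om p hG hfix h0 h1
      rw [← hgx, card_UU_smul hG hg])
    have hwG : u * v ∈ G := G.mul_mem hu.1 hv.1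
    obtain ⟨c, hc, hcw⟩ := swap_form (hG hwG) (by
      rw [Equiv.Perm.mul_apply, hv1]
      exact hu.2.2.1) (by
      rw [Equiv.Perm.mul_apply]; exact hu1)
    rw [hcw] at hwG
    have hcA : c ∈ A := by
      apply hAmem
      have := UU_ne_bot_smul hG hwG h2
      rwa [iv_coe c hc one_ne_zero, div_one] at this
    have hck : c ∈ k := (hk c).2 hcA
    haveI hkfin : Finite k := Finite.of_injective (fun r : k => (⟨r, (hk _).1 r.2⟩ : A)) (fun a b h => Subtype.ext (congrArg (fun t : A => (t : F)) h))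
    apply final_part k hG (fun b hb => (hk b).1 hb) ?_ hck hc hwG
    · intro g hg h
      obtain ⟨e, he⟩ := OnePoint.ne_infty_iff_exists.1 h
      refine ⟨e, ?_, he.symm⟩
      rw [hk]
      apply hAmem
      have h4 := UU_ne_bot_smul hG hg h0
      rwa [← he] at h4
    · intro a b ha hg
      constructor
      · rw [hk, ← hRA']
        apply Subring.subset_closure
        exact ⟨Units.mk0 a ha, (hT3 _).2 ⟨b, hg⟩, rfl⟩
      · rw [hk]
        apply hAmem
        have h4 := UU_ne_bot_smul hG hg h1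
        rwa [aff_coe, mul_zero, zero_add] at h4

include hG hfix in
theorem W {x0 : OnePoint F} (hx : UU G x0 ≠ ⊥) (hs : 2 ≤ Nat.card (UU G x0))
    (hn : Nat.card {y : OnePoint F | UU G y ≠ ⊥} = Nat.card (UU G x0) + 1)
    (hst : Nat.card (UU G x0) * (Nat.card (UU G x0) - 1) ≤ 2 * Nat.card (St G x0)) :
    ∃ h ∈ mob F, ∃ k : Subfield F, Nat.card k = Nat.card (UU G x0) ∧ (cj h G = sm k F ∨ cj h G = pm k F) := by
  classical
  haveI := Om_finite p hG hfix hx
  obtain ⟨x, y, z, hx1, hy1, hz1, hxy, hxz, hyz⟩ := (Set.two_lt_ncard_iff (Set.toFinite {y : OnePoint F | UU G y ≠ ⊥})).1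
    (by rw [← Nat.card_coe_set_eq, hn]; omega)
  obtain ⟨h, hh, h1, h2, h3⟩ := to_three hxy hxz hyz
  haveI := cj_finite h G
  have hcard : ∀ w, UU G w ≠ ⊥ → Nat.card (UU G w) = Nat.card (UU G x0) := by
    intro w hw
    obtain ⟨g, hg, hgx⟩ := trans_Om p hG hfix hx hw
    rw [← hgx, card_UU_smul hG hg]
  have hcU : ∀ w, Nat.card (UU (cj h G) (h w)) = Nat.card (UU G w) := by
    intro w
    rw [← cj_UU hh, card_cj]
  have hbot : ∀ w, UU (cj h G) (h w) ≠ ⊥ ↔ UU G w ≠ ⊥ := by
    intro w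
    rw [← cj_UU hh, not_iff_not]
    unfold cj
    rw [Subgroup.map_eq_bot_iff_of_injective _ (MulAut.conj h).injective]
  have hOm : Nat.card {y : OnePoint F | UU (cj h G) y ≠ ⊥} = Nat.card {y : OnePoint F | UU G y ≠ ⊥} := by
    symm
    apply Nat.card_congr
    exact {
      toFun := fun w => ⟨h w.1, (hbot _).2 w.2⟩
      invFun := fun w => ⟨h⁻¹ w.1, by
        have := (hbot (h⁻¹ w.1)).1
        apply this
        rw [← Equiv.Perm.mul_apply, mul_inv_cancel]
        exact w.2⟩
      left_inv := fun w => Subtype.ext (by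
        change h⁻¹ (h w.1) = w.1
        rw [← Equiv.Perm.mul_apply, inv_mul_cancel]; rfl)
      right_inv := fun w => Subtype.ext (by
        change h (h⁻¹ w.1) = w.1
        rw [← Equiv.Perm.mul_apply, mul_inv_cancel]; rfl) }
  have hStx : Nat.card (St G x) = Nat.card (St G x0) := by
    have e1 := card_Om p hG hfix hx1
    have e2 := card_Om p hG hfix hx
    rw [← e2] at e1
    haveI : Nonempty {y : OnePoint F | UU G y ≠ ⊥} := ⟨⟨x0, hx⟩⟩
    exact Nat.eq_of_mul_eq_mul_left Nat.card_pos e1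
  obtain ⟨k, hk1, hk2⟩ := Wnorm p (cj_le_mob hh hG) (by
      intro g hg l hgl
      rw [mem_cj] at hg
      obtain ⟨w, hw⟩ := hfix _ hg l (by
        have : h⁻¹ * g * h = h⁻¹ * g * h⁻¹⁻¹ := by rw [inv_inv]
        rw [this, ← conj_pow', hgl]
        group)
      refine ⟨h w, ?_⟩
      have := congrArg h hw
      rw [← Equiv.Perm.mul_apply] at this
      have h8 : h * (h⁻¹ * g * h) = g * h := by group
      rwa [h8] at this) (G := cj h G)
    (by rw [← h1]; exact (hbot _).2 hx1) (by rw [← h2]; exact (hbot _).2 hy1) (by rw [← h3]; exact (hbot _).2 hz1)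
    (by rw [hOm, hn, ← h1, hcU, hcard x hx1])
    (by rw [← h1, hcU, hcard x hx1, ← cj_St, card_cj, hStx]; exact hst)
  refine ⟨h, hh, k, ?_, hk2⟩
  rw [hk1, ← h1, hcU, hcard x hx1]

end

end CfsgLib.Mob11
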