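import Mathlib
import Cfsg.Agent.Lib.Mob11

set_option autoImplicit false
set_option maxHeartbeats 400000

/-! Base change for groups of Moebius transformations, and the relation to `PSL(2,F)` and `PGL(2,F)`. -/
namespace CfsgLib.Mob12

open OnePoint CfsgLib.Mob3 CfsgLib.Mob4 CfsgLib.Mob5 CfsgLib.Mob10

universe u v w

theorem same_ker {A : Type u} {B₁ : Type v} {B₂ : Type w} [Group A] [Group B₁] [Group B₂] (f₁ : A →* B₁) (f₂ : A →* B₂)
    (hk : f₁.ker = f₂.ker) (s₁ : Function.Surjective f₁) (s₂ : Function.Surjective f₂) : ∃ φ : B₁ ≃* B₂, ∀ a, φ (f₁ a) = f₂ a := by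
  refine ⟨(QuotientGroup.quotientKerEquivOfSurjective f₁ s₁).symm.trans ((QuotientGroup.quotientMulEquivOfEq hk).trans
    (QuotientGroup.quotientKerEquivOfSurjective f₂ s₂)), ?_⟩
  intro a
  have h1 : (QuotientGroup.quotientKerEquivOfSurjective f₁ s₁).symm (f₁ a) = QuotientGroup.mk a := by
    rw [MulEquiv.symm_apply_eq]
    rfl
  rw [MulEquiv.trans_apply, h1]
  rfl

section
variable {k : Type v} [Field k] {F : Type u} [Field F] [DecidableEq F] [Algebra k F]

theorem pm_self : pm F F = mob F := by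
  apply le_antisymm gm_range_le
  rintro _ ⟨M, rfl⟩
  refine ⟨M, ?_⟩
  unfold gm
  rw [MonoidHom.comp_apply]
  congr 1

theorem gm_ker_eq : (gm k F).ker = Subgroup.center (GL (Fin 2) k) := by
  ext M
  rw [MonoidHom.mem_ker, gm_ker]

/-- a ring isomorphism does not change the groups -/
theorem congr_groups {k' : Type w} [Field k'] [Algebra k' F] (e : k ≃+* k') (he : ∀ x, algebraMap k' F (e x) = algebraMap k F x) :
    sm k F = sm k' F ∧ pm k F = pm k' F := by
  have h1 : ∀ M : GL (Fin 2) k, gm k F M = gm k' F (Matrix.GeneralLinearGroup.map (e : k →+* k') M) := by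
    intro M
    rw [gm_eq, gm_eq]
    apply mk_congr
    · exact (he _).symm
    · exact (he _).symm
    · exact (he _).symm
    · exact (he _).symm
  have h1' : ∀ M : GL (Fin 2) k', gm k' F M = gm k F (Matrix.GeneralLinearGroup.map (e.symm : k' →+* k) M) := by
    intro M
    rw [gm_eq, gm_eq]
    have he' : ∀ x, algebraMap k F (e.symm x) = algebraMap k' F x := by
      intro x
      rw [← he, e.apply_symm_apply]
    apply mk_congr
    · exact (he' _).symm
    · exact (he' _).symm
    · exact (he' _).symm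
    · exact (he' _).symm
  constructor
  · apply le_antisymm
    · rintro _ ⟨A, rfl⟩
      refine ⟨Matrix.SpecialLinearGroup.map (e : k →+* k') A, ?_⟩
      rw [MonoidHom.comp_apply, MonoidHom.comp_apply, h1]
      congr 1
      ext i j
      rfl
    · rintro _ ⟨A, rfl⟩
      refine ⟨Matrix.SpecialLinearGroup.map (e.symm : k' →+* k) A, ?_⟩
      rw [MonoidHom.comp_apply, MonoidHom.comp_apply, h1']
      congr 1
      ext i j
      rfl
  · apply le_antisymm
    · rintro _ ⟨M, rfl⟩
      rw [h1]; exact ⟨_, rfl⟩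
    · rintro _ ⟨M, rfl⟩
      rw [h1']; exact ⟨_, rfl⟩

end

theorem psl_congr {k : Type v} [Field k] {k' : Type w} [Field k'] (e : k ≃+* k') :
    Nonempty (Matrix.ProjectiveSpecialLinearGroup (Fin 2) k ≃* Matrix.ProjectiveSpecialLinearGroup (Fin 2) k') := by
  classical
  letI : Algebra k k' := (e : k →+* k').toAlgebra
  obtain ⟨e1⟩ := sm_iso (k := k) (F := k')
  obtain ⟨e2⟩ := sm_iso (k := k') (F := k')
  have h := (congr_groups (F := k') e (fun x => rfl)).1
  exact ⟨(e1.symm.trans (MulEquiv.subgroupCongr h)).trans e2⟩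

theorem pgl_congr {k : Type v} [Field k] {k' : Type w} [Field k'] (e : k ≃+* k') :
    Nonempty (Matrix.ProjGenLinGroup (Fin 2) k ≃* Matrix.ProjGenLinGroup (Fin 2) k') := by
  classical
  letI : Algebra k k' := (e : k →+* k').toAlgebra
  obtain ⟨e1⟩ := pm_iso (k := k) (F := k')
  obtain ⟨e2⟩ := pm_iso (k := k') (F := k')
  have h := (congr_groups (F := k') e (fun x => rfl)).2
  exact ⟨(e1.symm.trans (MulEquiv.subgroupCongr h)).trans e2⟩

/-- every finite field is isomorphic to a field in `Type` -/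
theorem exists_small (k : Type v) [Field k] [Finite k] : ∃ (k₀ : Type) (_ : Field k₀) (_ : Fintype k₀), Nonempty (k ≃+* k₀) ∧
    Fintype.card k₀ = Nat.card k := by
  haveI : Small.{0} k := Countable.toSmall k
  haveI : Finite (Shrink.{0} k) := Finite.of_equiv k (equivShrink k)
  haveI : Fintype (Shrink.{0} k) := Fintype.ofFinite _
  refine ⟨Shrink.{0} k, inferInstance, inferInstance, ⟨(Shrink.ringEquiv k).symm⟩, ?_⟩
  rw [← Nat.card_eq_fintype_card]
  exact (Nat.card_congr (equivShrink k)).symm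

section
variable {F : Type u} [Field F] [DecidableEq F] {K : Type v} [Field K] [DecidableEq K] [Algebra F K]

/-- the embedding of projective lines -/
def jj (F : Type u) [Field F] (K : Type v) [Field K] [Algebra F K] (x : OnePoint F) : OnePoint K := Option.map (algebraMap F K) x

omit [DecidableEq F] [DecidableEq K] in
theorem jj_inf : jj F K ∞ = ∞ := rfl
omit [DecidableEq F] [DecidableEq K] in
theorem jj_coe (x : F) : jj F K (x : OnePoint F) = ((algebraMap F K x : K) : OnePoint K) := rfl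

omit [DecidableEq F] [DecidableEq K] in
theorem jj_injective : Function.Injective (jj F K) := Option.map_injective (algebraMap F K).injective

theorem gm_jj (M : GL (Fin 2) F) (x : OnePoint F) : gm F K M (jj F K x) = jj F K (gm F F M x) := by
  rw [gm_eq, gm_eq]
  induction x using OnePoint.rec with
  | infty =>
    rw [jj_inf, mk_inf, mk_inf]
    simp only [Algebra.algebraMap_self, RingHom.id_apply]
    by_cases h : M 1 0 = 0
    · rw [if_pos h, if_pos (by rw [h, map_zero]), jj_inf]
    · rw [if_neg h, if_neg (fun h' => h ((map_eq_zero _).1 h')), jj_coe, map_div₀]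
  | coe x =>
    rw [jj_coe, mk_coe, mk_coe]
    simp only [Algebra.algebraMap_self, RingHom.id_apply]
    by_cases h : M 1 0 * x + M 1 1 = 0
    · rw [if_pos h, if_pos (by rw [← map_mul, ← map_add, h, map_zero]), jj_inf]
    · rw [if_neg h, if_neg (fun h' => h ((map_eq_zero (algebraMap F K)).1 (by rw [map_add, map_mul]; exact h'))), jj_coe, map_div₀]
      simp only [map_add, map_mul]

variable (K)
/-- the base change of a group of Moebius transformations -/
noncomputable def bc (H : Subgroup (Equiv.Perm (OnePoint F))) : Subgroup (Equiv.Perm (OnePoint K)) :=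
  (H.comap (gm F F)).map (gm F K)

theorem bc_le (H : Subgroup (Equiv.Perm (OnePoint F))) : bc K H ≤ mob K := by
  rintro _ ⟨M, _, rfl⟩
  exact gm_range_le ⟨M, rfl⟩

theorem bc_iso (H : Subgroup (Equiv.Perm (OnePoint F))) (hH : H ≤ mob F) :
    ∃ φ : H ≃* bc K H, (∀ (M : GL (Fin 2) F) (hM : gm F F M ∈ H), (φ ⟨gm F F M, hM⟩ : Equiv.Perm (OnePoint K)) = gm F K M) ∧
      ∀ (g : H) (x : OnePoint F), (φ g : Equiv.Perm (OnePoint K)) (jj F K x) = jj F K ((g : Equiv.Perm (OnePoint F)) x) := by
  let f₁ : H.comap (gm F F) →* H := (gm F F).subgroupComap H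
  let f₂ : H.comap (gm F F) →* bc K H := (gm F K).subgroupMap (H.comap (gm F F))
  have s₁ : Function.Surjective f₁ := by
    rintro ⟨g, hg⟩
    have h1 := hH hg
    rw [← pm_self] at h1
    obtain ⟨M, rfl⟩ := h1
    exact ⟨⟨M, hg⟩, rfl⟩
  have s₂ : Function.Surjective f₂ := (gm F K).subgroupMap_surjective _
  have hk : f₁.ker = f₂.ker := by
    ext M
    rw [MonoidHom.mem_ker, MonoidHom.mem_ker]
    have e1 : f₁ M = 1 ↔ gm F F (M : GL (Fin 2) F) = 1 := ⟨fun h => congrArg Subtype.val h, fun h => Subtype.ext h⟩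
    have e2 : f₂ M = 1 ↔ gm F K (M : GL (Fin 2) F) = 1 := ⟨fun h => congrArg Subtype.val h, fun h => Subtype.ext h⟩
    rw [e1, e2, gm_ker, gm_ker]
  obtain ⟨φ, hφ⟩ := same_ker f₁ f₂ hk s₁ s₂
  have h1 : ∀ (M : GL (Fin 2) F) (hM : gm F F M ∈ H), (φ ⟨gm F F M, hM⟩ : Equiv.Perm (OnePoint K)) = gm F K M := by
    intro M hM
    exact congrArg Subtype.val (hφ ⟨M, hM⟩)
  refine ⟨φ, h1, ?_⟩
  rintro ⟨g, hg⟩ x
  obtain ⟨⟨M, hM⟩, hM2⟩ := s₁ ⟨g, hg⟩
  have h2 : gm F F M = g := congrArg Subtype.val hM2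
  subst h2
  rw [h1]
  exact gm_jj M x

theorem bc_finite (H : Subgroup (Equiv.Perm (OnePoint F))) (hH : H ≤ mob F) [Finite H] : Finite (bc K H) := by
  obtain ⟨φ, -⟩ := bc_iso K H hH
  exact Finite.of_equiv H φ.toEquiv

end

end CfsgLib.Mob12
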