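import Mathlib
import Cfsg.Agent.Lib.Mob8
import Cfsg.Agent.Lib.Mob12

/-!
# Free representations of finite groups (towards Zassenhaus' theorem)
-/

set_option autoImplicit false
set_option linter.style.haveILetI false

namespace CfsgLib.H3Zas

open Module OnePoint

universe u v w

variable {K : Type u} [Field K] {V : Type v} [AddCommGroup V] [Module K V] {G : Type w} [Group G]

/-- free (fixed-point-free) representations -/
def Free (ρ : G →* Module.End K V) : Prop := ∀ g : G, g ≠ 1 → ∀ v : V, ρ g v = v → v = 0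

variable {ρ : G →* Module.End K V}

theorem Free.eq_of_apply (h : Free ρ) {g k : G} {v : V} (hv : v ≠ 0) (hgk : ρ g v = ρ k v) : g = k := by
  by_contra hne
  have h1 : k⁻¹ * g ≠ 1 := fun h1 => hne (inv_mul_eq_one.1 h1).symm
  apply hv
  apply h _ h1 v
  rw [map_mul, Module.End.mul_apply, hgk, ← Module.End.mul_apply, ← map_mul, inv_mul_cancel, map_one, Module.End.one_apply]

theorem Free.injective [Nontrivial V] (h : Free ρ) : Function.Injective ρ := by
  intro g k hgk
  obtain ⟨v, hv⟩ := exists_ne (0 : V)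
  exact h.eq_of_apply hv (by rw [hgk])

theorem Free.comp {H : Type*} [Group H] (h : Free ρ) (f : H →* G) (hf : Function.Injective f) : Free (ρ.comp f) := by
  intro g hg v hv
  exact h (f g) (fun h1 => hg (hf (by rw [h1, map_one]))) v hv

theorem Free.sum_zero (h : Free ρ) {g : G} (hg : g ≠ 1) {n : ℕ} (hn : g ^ n = 1) : ∑ i ∈ Finset.range n, ρ g ^ i = 0 := by
  refine LinearMap.ext fun v => ?_
  rw [LinearMap.zero_apply]
  apply h g hg
  have h1 := mul_geom_sum (ρ g) n
  rw [← map_pow, hn, map_one, sub_self] at h1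
  have h2 := congrArg (fun f : Module.End K V => f v) h1
  rw [Module.End.mul_apply, LinearMap.sub_apply, Module.End.one_apply, LinearMap.zero_apply, sub_eq_zero] at h2
  exact h2

theorem Free.neg_one (h : Free ρ) {g : G} (hg : g ≠ 1) (h2 : g ^ 2 = 1) : ρ g = -1 := by
  have h1 := h.sum_zero hg h2
  rw [Finset.sum_range_succ, Finset.sum_range_one, pow_zero, pow_one] at h1
  exact eq_neg_of_add_eq_zero_right h1

theorem Free.three (h : Free ρ) {g : G} (hg : g ≠ 1) (h3 : g ^ 3 = 1) : ρ g * ρ g + ρ g + 1 = 0 := by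
  have h1 := h.sum_zero hg h3
  rw [Finset.sum_range_succ, Finset.sum_range_succ, Finset.sum_range_one, pow_zero, pow_one, pow_two] at h1
  rw [← h1]; abel

theorem Free.map_inv (g : G) : ρ g * ρ g⁻¹ = 1 := by rw [← map_mul, mul_inv_cancel, map_one]

theorem Free.map_inv' (g : G) : ρ g⁻¹ * ρ g = 1 := by rw [← map_mul, inv_mul_cancel, map_one]

theorem Free.inv_three (h : Free ρ) {g : G} (hg : g ≠ 1) (h3 : g ^ 3 = 1) : ρ g⁻¹ = -1 - ρ g := by
  have h1 := h.three hg h3
  have h2 : ρ g⁻¹ = ρ g * ρ g := by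
    rw [← map_mul]
    congr 1
    rw [← pow_two]
    exact inv_eq_of_mul_eq_one_right (by rw [← pow_succ']; exact h3)
  rw [h2]
  have h3 : ρ g * ρ g = (ρ g * ρ g + ρ g + 1) + (-1 - ρ g) := by abel
  rw [h3, h1, zero_add]

/-- scalar elements are central -/
theorem Free.central_of_scalar [Nontrivial V] (h : Free ρ) {g : G} {c : K} (hg : ρ g = c • 1) (k : G) : g * k = k * g := by
  apply h.injective
  rw [map_mul, map_mul, hg, smul_mul_assoc, one_mul, mul_smul_comm, mul_one]

/-! ### the Möbius representation attached to a two-dimensional representation -/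

section Two

variable [IsAlgClosed K] [Finite G]

open CfsgLib.Mob3 CfsgLib.Mob4 CfsgLib.Mob5 CfsgLib.Mob7 CfsgLib.Mob8 CfsgLib.Mob10 CfsgLib.Mob12 in
theorem tame2 (h : Free ρ) (hd : finrank K V = 2) (hn : (Nat.card G : K) ≠ 0) :
    (∀ x y : G, x * y = y * x) ∨
    (∃ n : ℕ, ∃ f : G →* DihedralGroup n, Function.Surjective f ∧ ∀ g, f g = 1 ↔ ∃ c : K, ρ g = c • 1) ∨
    (∃ f : G →* alternatingGroup (Fin 4), Function.Surjective f ∧ ∀ g, f g = 1 ↔ ∃ c : K, ρ g = c • 1) ∨
    (∃ f : G →* Equiv.Perm (Fin 4), Function.Surjective f ∧ ∀ g, f g = 1 ↔ ∃ c : K, ρ g = c • 1) ∨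
    (∃ f : G →* alternatingGroup (Fin 5), Function.Surjective f ∧ ∀ g, f g = 1 ↔ ∃ c : K, ρ g = c • 1) := by
  classical
  haveI : FiniteDimensional K V := FiniteDimensional.of_finrank_pos (by rw [hd]; norm_num)
  haveI : Nontrivial V := Module.nontrivial_of_finrank_pos (R := K) (by rw [hd]; norm_num)
  let b : Basis (Fin 2) K V := finBasisOfFinrankEq K V hd
  let M : G →* Matrix (Fin 2) (Fin 2) K := ((LinearMap.toMatrixAlgEquiv b).toAlgHom : Module.End K V →* Matrix (Fin 2) (Fin 2) K).comp ρ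
  let f : G →* Equiv.Perm (OnePoint K) := (gm K K).comp M.toHomUnits
  have hker : ∀ g, f g = 1 ↔ ∃ c : K, ρ g = c • 1 := by
    intro g
    have h1 : f g = 1 ↔ M.toHomUnits g ∈ (gm K K).ker := Iff.rfl
    rw [h1, gm_ker_eq, Matrix.GeneralLinearGroup.center_eq_range_scalar]
    have hMg : ((M.toHomUnits g : GL (Fin 2) K) : Matrix (Fin 2) (Fin 2) K) = LinearMap.toMatrixAlgEquiv b (ρ g) := rfl
    constructor
    · rintro ⟨c, hc⟩
      refine ⟨c, ?_⟩
      apply (LinearMap.toMatrixAlgEquiv b).injective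
      rw [← hMg, ← hc, _root_.map_smul, map_one]
      ext i j
      simp [Matrix.GeneralLinearGroup.scalar, Matrix.scalar_apply, Matrix.one_apply, Matrix.diagonal_apply]
    · rintro ⟨c, hc⟩
      have hc0 : c ≠ 0 := by
        rintro rfl
        rw [zero_smul] at hc
        have h2 := Free.map_inv (ρ := ρ) g
        rw [hc, zero_mul] at h2
        exact zero_ne_one h2
      refine ⟨Units.mk0 c hc0, ?_⟩
      apply Units.ext
      rw [hMg, hc, _root_.map_smul, map_one]
      ext i j
      simp [Matrix.GeneralLinearGroup.scalar, Matrix.scalar_apply, Matrix.one_apply, Matrix.diagonal_apply]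
  let X : Subgroup (Equiv.Perm (OnePoint K)) := f.range
  haveI : Finite X := Set.finite_range f
  have hX : X ≤ mob K := by
    rw [← pm_self]
    rintro _ ⟨g, rfl⟩
    exact ⟨_, rfl⟩
  have hU : ∀ x, UU X x = ⊥ := by
    intro x
    rw [eq_bot_iff]
    intro g hg
    rw [mem_UU] at hg
    obtain ⟨⟨k, rfl⟩, hgU⟩ := hg
    rw [Subgroup.mem_bot]
    have h1 : (f k) ^ Nat.card G = 1 := by rw [← map_pow, pow_card_eq_one', map_one]
    obtain ⟨s, hs, hsx⟩ := to_inf x
    rw [mem_U, uni_iff hs hsx] at hgU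
    obtain ⟨c, hc⟩ := hgU
    have h2 : (s * f k * s⁻¹) ^ Nat.card G = 1 := by rw [← conj_pow', h1]; group
    rw [hc, aff_one_pow, ← aff_one] at h2
    have h3 := (aff_inj h2).2
    have h4 : c = 0 := (mul_eq_zero.1 h3).resolve_left hn
    rw [aff_congr rfl h4, aff_one] at hc
    have h5 : f k = s⁻¹ * (s * f k * s⁻¹) * s := by group
    rw [h5, hc]; group
  have hsurj : Function.Surjective f.rangeRestrict := f.rangeRestrict_surjective
  have hk' : ∀ g, f.rangeRestrict g = 1 ↔ ∃ c : K, ρ g = c • 1 := by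
    intro g
    rw [← hker]
    exact ⟨fun h1 => congrArg Subtype.val h1, fun h1 => Subtype.ext h1⟩
  have hcen : f.rangeRestrict.ker ≤ Subgroup.center G := by
    intro g hg
    obtain ⟨c, hc⟩ := (hk' g).1 hg
    rw [Subgroup.mem_center_iff]
    intro k
    exact (h.central_of_scalar hc k).symm
  rcases tame hX hU with h1 | ⟨x, y, h1⟩ | ⟨-, ⟨e⟩⟩ | ⟨-, ⟨e⟩⟩ | ⟨-, ⟨e⟩⟩
  · left
    obtain ⟨x, hx⟩ := h1
    obtain ⟨t, -, -, -, h2⟩ := st_gen X hX x
    have h3 := h2 (hU x)
    have h4 : St X x = X := by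
      ext g
      rw [mem_St]
      exact ⟨fun h => h.1, fun h => ⟨h, hx g h⟩⟩
    rw [h4] at h3
    exact commutative_of_cyclic_center_quotient f.rangeRestrict hcen
  · right; left
    obtain ⟨⟨e⟩, -⟩ := h1.iso hX
    exact ⟨_, e.toMonoidHom.comp f.rangeRestrict, e.surjective.comp hsurj, fun g => by
      rw [← hk']
      exact MulEquiv.map_eq_one_iff e⟩
  · right; right; left
    exact ⟨e.toMonoidHom.comp f.rangeRestrict, e.surjective.comp hsurj, fun g => by
      rw [← hk']
      exact MulEquiv.map_eq_one_iff e⟩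
  · right; right; right; left
    exact ⟨e.toMonoidHom.comp f.rangeRestrict, e.surjective.comp hsurj, fun g => by
      rw [← hk']
      exact MulEquiv.map_eq_one_iff e⟩
  · right; right; right; right
    exact ⟨e.toMonoidHom.comp f.rangeRestrict, e.surjective.comp hsurj, fun g => by
      rw [← hk']
      exact MulEquiv.map_eq_one_iff e⟩

end Two

end CfsgLib.H3Zas
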