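import Mathlib
import Cfsg.Agent.Lib.H3Zas1

/-!
# Pairs of elements of order three in a free representation
-/

set_option autoImplicit false
set_option linter.style.haveILetI false

namespace CfsgLib.H3Zas

open Module

universe u v w

section Fin

set_option maxRecDepth 100000 in
theorem a4_pairs : ∀ a b : alternatingGroup (Fin 4), a ^ 3 = 1 → b ^ 3 = 1 →
    (a * b = b * a ∨ (a * b) ^ 2 = 1 ∨ (a * b⁻¹) ^ 2 = 1 ∨ ((a * b) ^ 5 = 1 ∧ (a * b⁻¹) ^ 5 = 1)) := by
  decide +kernel

set_option maxRecDepth 100000 in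
theorem a5_pairs : ∀ a b : alternatingGroup (Fin 5), a ^ 3 = 1 → b ^ 3 = 1 →
    (a * b = b * a ∨ (a * b) ^ 2 = 1 ∨ (a * b⁻¹) ^ 2 = 1 ∨ ((a * b) ^ 5 = 1 ∧ (a * b⁻¹) ^ 5 = 1)) := by
  decide +kernel

end Fin

variable {K : Type u} [Field K] {V : Type v} [AddCommGroup V] [Module K V] {G : Type w} [Group G]
  {ρ : G →* Module.End K V}

theorem sq_of {R : Type*} [Ring R] {a : R} (ha : a * a + a + 1 = 0) : a * a = -1 - a := by
  have : a * a = (a * a + a + 1) + (-1 - a) := by abel
  rw [this, ha, zero_add]

theorem c_comm_right {R : Type*} [Ring R] {a b : R} (ha : a * a = -1 - a) (hb : b * b = -1 - b) :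
    (a * b + (b * b) * (a * a)) * b = b * (a * b + (b * b) * (a * a)) := by
  have e1 : (a * b + (b * b) * (a * a)) * b - b * (a * b + (b * b) * (a * a)) =
      a * (b * b) + b * b * (a * a) * b - b * a * b - b * b * b * (a * a) := by noncomm_ring
  rw [← sub_eq_zero, e1, ha, hb]
  have e2 : a * (-1 - b) + (-1 - b) * (-1 - a) * b - b * a * b - (-1 - b) * b * (-1 - a) = -(b * b) * a - b * a - a := by
    noncomm_ring
  rw [e2, hb]
  noncomm_ring

theorem c_comm_left {R : Type*} [Ring R] {a b : R} (ha : a * a = -1 - a) (hb : b * b = -1 - b) :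
    (a * b + (b * b) * (a * a)) * a = a * (a * b + (b * b) * (a * a)) := by
  have e1 : (a * b + (b * b) * (a * a)) * a - a * (a * b + (b * b) * (a * a)) =
      a * b * a + b * b * (a * a) * a - a * a * b - a * (b * b) * (a * a) := by noncomm_ring
  rw [← sub_eq_zero, e1, ha, hb]
  have e2 : a * b * a + (-1 - b) * (-1 - a) * a - (-1 - a) * b - a * (-1 - b) * (-1 - a) = b * (a * a) + b * a + b := by
    noncomm_ring
  rw [e2, ha]
  noncomm_ring

/-- the small invariant subspace of a pair of elements of order three -/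
theorem exists_W [IsAlgClosed K] [FiniteDimensional K V] [Nontrivial V] {a b : Module.End K V} (ha : a * a = -1 - a)
    (hb : b * b = -1 - b) : ∃ (W : Submodule K V) (γ : K), W ≠ ⊥ ∧ (∀ w ∈ W, a w ∈ W) ∧ (∀ w ∈ W, b w ∈ W) ∧
      finrank K W ≤ 2 ∧ ∀ w ∈ W, (a * b + (b * b) * (a * a)) w = γ • w := by
  set c := a * b + (b * b) * (a * a) with hc
  have hca : c * a = a * c := c_comm_left ha hb
  have hcb : c * b = b * c := c_comm_right ha hb
  obtain ⟨γ, hγ⟩ := Module.End.exists_eigenvalue c
  have hE : ∀ v ∈ c.eigenspace γ, a v ∈ c.eigenspace γ := by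
    intro v hv
    rw [Module.End.mem_eigenspace_iff] at hv ⊢
    have h1 : c (a v) = a (c v) := congrArg (fun f : Module.End K V => f v) hca
    rw [h1, hv, map_smul]
  haveI : Nontrivial (c.eigenspace γ) := (Submodule.nontrivial_iff_ne_bot).2 hγ
  obtain ⟨l, hl⟩ := Module.End.exists_eigenvalue (a.restrict hE)
  obtain ⟨e, he⟩ := hl.exists_hasEigenvector
  set v : V := e.1 with hv
  have hv0 : v ≠ 0 := fun h => he.2 (Subtype.ext h)
  have hav : a v = l • v := congrArg Subtype.val he.apply_eq_smul
  have hcv : c v = γ • v := Module.End.mem_eigenspace_iff.1 e.2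
  have hcbv : c (b v) = γ • b v := by
    have h1 : c (b v) = b (c v) := congrArg (fun f : Module.End K V => f v) hcb
    rw [h1, hcv, map_smul]
  have hbbv : b (b v) = -v - b v := by
    have h1 := congrArg (fun f : Module.End K V => f v) hb
    simpa using h1
  have haav : ∀ w, a (a w) = -w - a w := by
    intro w
    have h1 := congrArg (fun f : Module.End K V => f w) ha
    simpa using h1
  have habv : a (b v) = γ • v - v - l • v - b v - l • b v := by
    have h1 : a (b v) + b (b (a (a v))) = γ • v := by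
      rw [← hcv, hc]; rfl
    rw [haav, hav, map_sub, map_neg, map_smul, map_sub, map_neg, map_smul, hbbv] at h1
    have h2 : a (b v) = γ • v - (-(-v - b v) - l • (-v - b v)) := by rw [← h1]; abel
    rw [h2]
    module
  refine ⟨Submodule.span K {v, b v}, γ, ?_, ?_, ?_, ?_, ?_⟩
  · intro h
    rw [Submodule.span_eq_bot] at h
    exact hv0 (h v (by simp))
  · have h1 : ∀ w ∈ ({v, b v} : Set V), a w ∈ Submodule.span K {v, b v} := by
      intro w hw
      rcases hw with rfl | hw
      · rw [hav]; exact Submodule.smul_mem _ _ (Submodule.subset_span (by simp))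
      · rw [Set.mem_singleton_iff] at hw
        rw [hw, habv]
        have m1 : v ∈ Submodule.span K {v, b v} := Submodule.subset_span (by simp)
        have m2 : b v ∈ Submodule.span K {v, b v} := Submodule.subset_span (by simp)
        exact Submodule.sub_mem _ (Submodule.sub_mem _ (Submodule.sub_mem _ (Submodule.sub_mem _ (Submodule.smul_mem _ _ m1) m1)
          (Submodule.smul_mem _ _ m1)) m2) (Submodule.smul_mem _ _ m2)
    intro w hw
    have h2 : Submodule.span K {v, b v} ≤ (Submodule.span K {v, b v}).comap a := Submodule.span_le.2 h1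
    exact h2 hw
  · have h1 : ∀ w ∈ ({v, b v} : Set V), b w ∈ Submodule.span K {v, b v} := by
      intro w hw
      have m1 : v ∈ Submodule.span K {v, b v} := Submodule.subset_span (by simp)
      have m2 : b v ∈ Submodule.span K {v, b v} := Submodule.subset_span (by simp)
      rcases hw with rfl | hw
      · exact m2
      · rw [Set.mem_singleton_iff] at hw
        rw [hw, hbbv]
        exact Submodule.sub_mem _ (Submodule.neg_mem _ m1) m2
    intro w hw
    have h2 : Submodule.span K {v, b v} ≤ (Submodule.span K {v, b v}).comap b := Submodule.span_le.2 h1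
    exact h2 hw
  · classical
    have h1 := finrank_span_finset_le_card (R := K) ({v, b v} : Finset V)
    have h2 : (({v, b v} : Finset V) : Set V) = {v, b v} := by simp
    rw [h2] at h1
    exact h1.trans Finset.card_le_two
  · have h1 : ∀ w ∈ ({v, b v} : Set V), c w = γ • w := by
      intro w hw
      rcases hw with rfl | hw
      · exact hcv
      · rw [Set.mem_singleton_iff] at hw
        rw [hw, hcbv]
    intro w hw
    have h2 : Submodule.span K {v, b v} ≤ c.eigenspace γ := Submodule.span_le.2 (fun w hw => Module.End.mem_eigenspace_iff.2 (h1 w hw))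
    exact Module.End.mem_eigenspace_iff.1 (h2 hw)

/-- restriction of a representation to an invariant subspace -/
def restr (ρ : G →* Module.End K V) (W : Submodule K V) (hW : ∀ g, ∀ w ∈ W, ρ g w ∈ W) : G →* Module.End K W where
  toFun g := (ρ g).restrict (hW g)
  map_one' := LinearMap.ext fun w => Subtype.ext (by
    rw [LinearMap.restrict_coe_apply, map_one]; rfl)
  map_mul' g h := LinearMap.ext fun w => Subtype.ext (by
    rw [LinearMap.restrict_coe_apply, map_mul]; rfl)

theorem restr_apply (W : Submodule K V) (hW : ∀ g, ∀ w ∈ W, ρ g w ∈ W) (g : G) (w : W) : (restr ρ W hW g w : V) = ρ g w := rfl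

theorem Free.restr (h : Free ρ) (W : Submodule K V) (hW : ∀ g, ∀ w ∈ W, ρ g w ∈ W) : Free (restr ρ W hW) := by
  intro g hg w hw
  exact Subtype.ext (h g hg w (congrArg Subtype.val hw))

/-- a subspace invariant under generators is invariant -/
theorem inv_of_closure [Finite G] {S : Set G} (hS : Subgroup.closure S = ⊤) (W : Submodule K V)
    (h : ∀ g ∈ S, ∀ w ∈ W, ρ g w ∈ W) (g : G) : ∀ w ∈ W, ρ g w ∈ W := by
  have h1 : g ∈ Submonoid.closure S := by
    rw [← Subgroup.closure_toSubmonoid_of_finite, hS]
    exact Submonoid.mem_top g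
  refine Submonoid.closure_induction (motive := fun x _ => ∀ w ∈ W, ρ x w ∈ W) (fun x hx => h x hx) ?_ ?_ h1
  · intro w hw
    rw [map_one]; exact hw
  · intro x y _ _ hx hy w hw
    rw [map_mul, Module.End.mul_apply]
    exact hx _ (hy w hw)

/-! ### consequences of the classification for a pair -/

section Pair

variable [Finite G]

/-- (i): commuting modulo scalars implies commuting -/
theorem comm_of_scalar (h : Free ρ) [Nontrivial V] {x y : G} (hy : y ≠ 1) (hy3 : y ^ 3 = 1) {l : K}
    (hl : ρ (x * y * x⁻¹ * y⁻¹) = l • 1) : x * y = y * x := by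
  have hb := sq_of (h.three hy hy3)
  set b := ρ y with hb'
  have h1 : ρ (x * y * x⁻¹) = l • b := by
    have : x * y * x⁻¹ = (x * y * x⁻¹ * y⁻¹) * y := by group
    rw [this, map_mul, hl, smul_mul_assoc, one_mul]
  have hz1 : x * y * x⁻¹ ≠ 1 := by
    intro h2
    apply hy
    have : y = x⁻¹ * (x * y * x⁻¹) * x := by group
    rw [this, h2]; group
  have hz3 : (x * y * x⁻¹) ^ 3 = 1 := by
    rw [conj_pow, hy3]; group
  have h2 := h.three hz1 hz3
  rw [h1, smul_mul_smul_comm, hb] at h2
  have h3 : (l - l * l) • b = (l * l - 1) • (1 : Module.End K V) := by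
    have h4 : (l * l) • (-1 - b) + l • b + 1 = (l - l * l) • b - (l * l - 1) • (1 : Module.End K V) := by
      rw [smul_sub, smul_neg, sub_smul, sub_smul, one_smul]; abel
    rw [h4, sub_eq_zero] at h2
    exact h2
  by_cases hll : l - l * l = 0
  · have hl0 : l ≠ 0 := by
      rintro rfl
      rw [zero_smul] at hl
      have h5 := Free.map_inv (ρ := ρ) (x * y * x⁻¹ * y⁻¹)
      rw [hl, zero_mul] at h5
      exact zero_ne_one h5
    have hl1 : l = 1 := by
      have : l * (1 - l) = 0 := by rw [mul_sub, mul_one]; exact hll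
      rcases mul_eq_zero.1 this with h5 | h5
      · exact absurd h5 hl0
      · exact (sub_eq_zero.1 h5).symm
    have h5 : x * y * x⁻¹ = y := h.injective (by rw [h1, hl1, one_smul])
    exact mul_inv_eq_iff_eq_mul.1 h5
  · have h5 : ρ y = ((l - l * l)⁻¹ * (l * l - 1)) • (1 : Module.End K V) := by
      rw [mul_smul, ← h3, smul_smul, inv_mul_cancel₀ hll, one_smul]
    exact (h.central_of_scalar h5 x).symm

theorem comm_of_central {x y : G} (h : ∀ k, (x * y) * k = k * (x * y)) : x * y = y * x := by
  have h1 := h x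
  rw [mul_assoc] at h1
  exact (mul_left_cancel h1).symm

/-- the value of `c` on `V` is determined on a subspace: case of order four -/
theorem case_two (h : Free ρ) {W : Submodule K V} (hWb : W ≠ ⊥) (hW : ∀ g, ∀ w ∈ W, ρ g w ∈ W) (h2 : (2 : K) ≠ 0)
    {x y : G} (hxy : x * y ≠ y * x) {γ : K} (hγ : ∀ w ∈ W, (ρ (x * y) + ρ (x * y)⁻¹) w = γ • w) {μ : K}
    (hμ : restr ρ W hW ((x * y) ^ 2) = μ • 1) : ρ (x * y) + ρ (x * y)⁻¹ = 0 := by
  haveI : Nontrivial W := (Submodule.nontrivial_iff_ne_bot).2 hWb
  have hf := h.restr W hW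
  set g := x * y with hg
  set A := restr ρ W hW g with hA
  have hAA : A * A = μ • 1 := by rw [← hμ, pow_two, map_mul]
  have hAi : A + restr ρ W hW g⁻¹ = γ • 1 := by
    refine LinearMap.ext fun w => Subtype.ext ?_
    exact hγ w w.2
  have h3 : γ • A = (μ + 1) • (1 : Module.End K W) := by
    have h4 : A * (A + restr ρ W hW g⁻¹) = γ • A := by rw [hAi, mul_smul_comm, mul_one]
    rw [mul_add, hAA, hA, Free.map_inv] at h4
    rw [← h4, add_smul, one_smul]
  by_cases hγ0 : γ = 0
  · rw [hγ0, zero_smul] at h3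
    have hμ1 : μ + 1 = 0 := by
      by_contra hne
      obtain ⟨w, hw⟩ := exists_ne (0 : W)
      have h5 := congrArg (fun f : Module.End K W => f w) h3
      simp only [LinearMap.zero_apply, LinearMap.smul_apply, Module.End.one_apply] at h5
      exact (smul_ne_zero hne hw) h5.symm
    have hμ2 : μ = -1 := eq_neg_of_add_eq_zero_left hμ1
    have h5 : (g ^ 2) ^ 2 = 1 := by
      apply hf.injective
      rw [map_pow, hμ, hμ2, map_one, pow_two, smul_mul_smul_comm, neg_mul_neg, mul_one, mul_one, one_smul]
    have h6 : g ^ 2 ≠ 1 := by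
      intro h6
      rw [h6, map_one, hμ2] at hμ
      obtain ⟨w, hw⟩ := exists_ne (0 : W)
      have h7 := congrArg (fun f : Module.End K W => f w) hμ
      simp only [LinearMap.smul_apply, Module.End.one_apply] at h7
      have h8 : (2 : K) • w = 0 := by
        rw [two_smul]
        nth_rewrite 1 [h7]
        rw [neg_smul, one_smul, neg_add_cancel]
      exact hw ((smul_eq_zero.1 h8).resolve_left h2)
    have h7 := h.neg_one h6 h5
    rw [pow_two, map_mul] at h7
    have h8 : ρ g⁻¹ = - ρ g := by
      have h9 : ρ g⁻¹ * (ρ g * ρ g) = ρ g := by rw [← mul_assoc, Free.map_inv', one_mul]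
      rw [h7, mul_neg, mul_one] at h9
      rw [← h9, neg_neg]
    rw [h8, add_neg_cancel]
  · exfalso
    apply hxy
    apply comm_of_central
    apply hf.central_of_scalar (c := γ⁻¹ * (μ + 1))
    rw [mul_smul, ← h3, smul_smul, inv_mul_cancel₀ hγ0, one_smul]

end Pair

end CfsgLib.H3Zas
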