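import Mathlib
import Cfsg.Agent.Lib.H3Zas2

/-!
# Pairs of elements of order three: the trichotomy
-/

set_option autoImplicit false
set_option linter.style.haveILetI false

namespace CfsgLib.H3Zas

open Module

universe u v w

variable {K : Type u} [Field K] {V : Type v} [AddCommGroup V] [Module K V] {G : Type w} [Group G]
  {ρ : G →* Module.End K V}

theorem pow5 {A B : Module.End K V} (hAB : A * B = 1) {γ : K} (h : A + B = γ • 1) :
    A ^ 5 = (γ ^ 4 - 3 * γ ^ 2 + 1) • A - (γ ^ 3 - 2 * γ) • 1 := by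
  have h2 : A * A = γ • A - 1 := by
    have h3 : A * (A + B) = γ • A := by rw [h, mul_smul_comm, mul_one]
    rw [mul_add, hAB] at h3
    rw [← h3, add_sub_cancel_right]
  have h3 : A ^ 3 = (γ ^ 2 - 1) • A - γ • 1 := by
    have : A ^ 3 = A * (A * A) := by rw [pow_succ, pow_two, mul_assoc]
    rw [this, h2, mul_sub, mul_smul_comm, h2, mul_one]
    module
  have h5 : A ^ 5 = A ^ 3 * (A * A) := by rw [← pow_two, ← pow_add]
  rw [h5, h3, h2, sub_mul, mul_sub, mul_sub, smul_mul_smul_comm, h2, mul_one, mul_one, smul_mul_smul_comm, one_mul]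
  module

theorem case_five [Finite G] (h : Free ρ) {W : Submodule K V} (hWb : W ≠ ⊥) (hW : ∀ g, ∀ w ∈ W, ρ g w ∈ W) (h2 : (2 : K) ≠ 0)
    {x y : G} (hxy : x * y ≠ y * x) (hy3 : y ^ 3 = 1) (hx3 : x ^ 3 = 1) {γ : K} (hγ : ∀ w ∈ W, (ρ (x * y) + ρ (x * y)⁻¹) w = γ • w) {μ : K}
    (hμ : restr ρ W hW ((x * y) ^ 5) = μ • 1) {μ' : K} (hμ' : restr ρ W hW ((x * y⁻¹) ^ 5) = μ' • 1) :
    (ρ (x * y) + ρ (x * y)⁻¹) * (ρ (x * y) + ρ (x * y)⁻¹) = (ρ (x * y) + ρ (x * y)⁻¹) + 1 := by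
  haveI : Nontrivial W := (Submodule.nontrivial_iff_ne_bot).2 hWb
  have hf := h.restr W hW
  have hx1 : x ≠ 1 := by rintro rfl; exact hxy (by rw [one_mul, mul_one])
  have hy1 : y ≠ 1 := by rintro rfl; exact hxy (by rw [one_mul, mul_one])
  have key : ∀ (g : G) (γ μ : K), (∀ w ∈ W, (ρ g + ρ g⁻¹) w = γ • w) → restr ρ W hW (g ^ 5) = μ • 1 →
      (γ ^ 4 - 3 * γ ^ 2 + 1 = 0 ∧ μ = - (γ ^ 3 - 2 * γ)) ∨ (∀ k, g * k = k * g) := by
    intro g γ μ hγ hμ
    have hAi : restr ρ W hW g + restr ρ W hW g⁻¹ = γ • 1 := LinearMap.ext fun w => Subtype.ext (hγ w w.2)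
    have h5 := pow5 (Free.map_inv (ρ := restr ρ W hW) g) hAi
    rw [← map_pow, hμ] at h5
    by_cases h0 : γ ^ 4 - 3 * γ ^ 2 + 1 = 0
    · left
      refine ⟨h0, ?_⟩
      rw [h0, zero_smul, zero_sub] at h5
      replace h5 : μ • (1 : Module.End K W) = (-(γ ^ 3 - 2 * γ)) • 1 := by rw [h5]; module
      obtain ⟨w, hw⟩ := exists_ne (0 : W)
      have h6 := congrArg (fun f : Module.End K W => f w) h5
      simp only [LinearMap.smul_apply, Module.End.one_apply] at h6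
      exact smul_left_injective K hw h6
    · right
      intro k
      apply hf.central_of_scalar (c := (γ ^ 4 - 3 * γ ^ 2 + 1)⁻¹ * (μ + (γ ^ 3 - 2 * γ)))
      rw [mul_smul, add_smul, h5, sub_add_cancel, smul_smul, inv_mul_cancel₀ h0, one_smul]
  have hγ' : ∀ w ∈ W, (ρ (x * y⁻¹) + ρ (x * y⁻¹)⁻¹) w = (1 - γ) • w := by
    intro w hw
    have e1 : (ρ (x * y⁻¹) + ρ (x * y⁻¹)⁻¹) = 1 - (ρ (x * y) + ρ (x * y)⁻¹) := by
      rw [mul_inv_rev, mul_inv_rev, inv_inv, map_mul, map_mul, map_mul, map_mul, h.inv_three hx1 hx3, h.inv_three hy1 hy3]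
      noncomm_ring
    rw [e1, LinearMap.sub_apply, hγ w hw, Module.End.one_apply, sub_smul, one_smul]
  have hc1 : ∀ k, (x * y⁻¹) * k = k * (x * y⁻¹) → x * y = y * x ∨ k ≠ x := by
    intro k hk
    by_cases hkx : k = x
    · left
      subst hkx
      rw [mul_assoc] at hk
      have h3 := mul_left_cancel hk
      have h4 : y * (y⁻¹ * k) * y = y * (k * y⁻¹) * y := by rw [h3]
      simpa [mul_assoc] using h4
    · exact Or.inr hkx
  have hA := (key _ γ μ hγ hμ).resolve_right (fun h3 => hxy (comm_of_central h3))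
  have hB := (key _ (1 - γ) μ' hγ' hμ').resolve_right (fun h3 => by
    rcases hc1 x (h3 x) with h4 | h4
    · exact hxy h4
    · exact h4 rfl)
  have hγ1 : γ ^ 2 - γ - 1 = 0 := by
    by_contra hne
    have e1 : (γ ^ 2 - γ - 1) * (γ ^ 2 + γ - 1) = 0 := by rw [← hA.1]; ring
    have e2 : (γ ^ 2 - γ - 1) * (γ ^ 2 - 3 * γ + 1) = 0 := by rw [← hB.1]; ring
    have e3 := (mul_eq_zero.1 e1).resolve_left hne
    have e4 := (mul_eq_zero.1 e2).resolve_left hne
    have e5 : 2 * (2 * γ - 1) = 0 := by linear_combination e3 - e4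
    have e6 := (mul_eq_zero.1 e5).resolve_left h2
    have e7 : (1 : K) = 0 := by linear_combination -4 * e3 + (2 * γ + 3) * e6
    exact one_ne_zero e7
  have hμ1 : μ = -1 := by
    rw [hA.2]
    linear_combination -(γ + 1) * hγ1
  set g := x * y with hg
  have h10 : (g ^ 5) ^ 2 = 1 := by
    apply hf.injective
    rw [map_pow, hμ, hμ1, map_one, pow_two, smul_mul_smul_comm, neg_mul_neg, mul_one, mul_one, one_smul]
  have h5 : g ^ 5 ≠ 1 := by
    intro h6
    rw [h6, map_one, hμ1] at hμ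
    obtain ⟨w, hw⟩ := exists_ne (0 : W)
    have h7 := congrArg (fun f : Module.End K W => f w) hμ
    simp only [LinearMap.smul_apply, Module.End.one_apply] at h7
    have h8 : (2 : K) • w = 0 := by
      rw [two_smul]
      nth_rewrite 1 [h7]
      rw [neg_smul, one_smul, neg_add_cancel]
    exact hw ((smul_eq_zero.1 h8).resolve_left h2)
  have hz := h.neg_one h5 h10
  have hρ6 : ρ (g ^ 6) = - ρ g := by
    rw [show g ^ 6 = g ^ 5 * g by rw [← pow_succ], map_mul, hz, neg_one_mul]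
  have h6 : g ^ 6 ≠ 1 := by
    intro h7
    rw [h7, map_one] at hρ6
    apply hxy
    haveI : Nontrivial V := by
      obtain ⟨w, hw⟩ := exists_ne (0 : W)
      exact ⟨⟨w, 0, fun h8 => hw (Subtype.ext h8)⟩⟩
    apply comm_of_central
    apply h.central_of_scalar (c := -1)
    rw [neg_smul, one_smul, hρ6, neg_neg]
  have h30 : (g ^ 6) ^ 5 = 1 := by
    have : (g ^ 6) ^ 5 = ((g ^ 5) ^ 2) ^ 3 := by rw [← pow_mul, ← pow_mul, ← pow_mul]
    rw [this, h10, one_pow]
  have hs := h.sum_zero h6 h30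
  rw [hρ6] at hs
  simp only [Finset.sum_range_succ, Finset.sum_range_zero, pow_zero, pow_one, zero_add] at hs
  set A := ρ g with hAdef
  set B := ρ g⁻¹ with hBdef
  have hAB : A * B = 1 := Free.map_inv g
  have hBA : B * A = 1 := Free.map_inv' g
  have e1 : B * B * (1 + -A + (-A) ^ 2 + (-A) ^ 3 + (-A) ^ 4) = 0 := by rw [hs, mul_zero]
  have e2 : B * B * (1 + -A + (-A) ^ 2 + (-A) ^ 3 + (-A) ^ 4) =
      B * B - B * (B * A) + B * (B * A) * A - B * (B * A) * A * A + B * (B * A) * A * A * A := by noncomm_ring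
  rw [e2, hBA, mul_one, hBA] at e1
  simp only [one_mul] at e1
  have e3 : (A + B) * (A + B) = A * A + A * B + B * A + B * B := by noncomm_ring
  rw [e3, hAB, hBA]
  have e4 : A * A + 1 + 1 + B * B = (B * B - B + 1 - A + A * A) + (A + B + 1) := by abel
  rw [e4, e1, zero_add]

/-- pairs whose images in a quotient by the scalars satisfy one of four relations -/
theorem pair_aux [Finite G] (h : Free ρ) {W : Submodule K V} (hWb : W ≠ ⊥) (hW : ∀ g, ∀ w ∈ W, ρ g w ∈ W)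
    {x y : G} (hxy : x * y ≠ y * x) (hy3 : y ^ 3 = 1) (hx3 : x ^ 3 = 1) (h2 : (2 : K) ≠ 0)
    {γ : K} (hγ : ∀ w ∈ W, (ρ (x * y) + ρ (x * y)⁻¹) w = γ • w) {Q : Type*} [Group Q] (f : G →* Q)
    (hf : ∀ g, f g = 1 ↔ ∃ c : K, restr ρ W hW g = c • 1)
    (hr : f x * f y = f y * f x ∨ (f x * f y) ^ 2 = 1 ∨ (f x * (f y)⁻¹) ^ 2 = 1 ∨
      ((f x * f y) ^ 5 = 1 ∧ (f x * (f y)⁻¹) ^ 5 = 1)) :
    ρ (x * y) + ρ (x * y)⁻¹ = 0 ∨ ρ (x * y) + ρ (x * y)⁻¹ = 1 ∨
      (ρ (x * y) + ρ (x * y)⁻¹) * (ρ (x * y) + ρ (x * y)⁻¹) = (ρ (x * y) + ρ (x * y)⁻¹) + 1 := by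
  haveI : Nontrivial W := (Submodule.nontrivial_iff_ne_bot).2 hWb
  have hx1 : x ≠ 1 := by rintro rfl; exact hxy (by rw [one_mul, mul_one])
  have hy1 : y ≠ 1 := by rintro rfl; exact hxy (by rw [one_mul, mul_one])
  have e1 : (ρ (x * y⁻¹) + ρ (x * y⁻¹)⁻¹) = 1 - (ρ (x * y) + ρ (x * y)⁻¹) := by
    rw [mul_inv_rev, mul_inv_rev, inv_inv, map_mul, map_mul, map_mul, map_mul, h.inv_three hx1 hx3, h.inv_three hy1 hy3]
    noncomm_ring
  rcases hr with h1 | h1 | h1 | ⟨h1, h1'⟩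
  · exfalso
    have h3 : f (x * y * x⁻¹ * y⁻¹) = 1 := by
      rw [map_mul, map_mul, map_mul, map_inv, map_inv, h1]; group
    obtain ⟨l, hl⟩ := (hf _).1 h3
    exact hxy (comm_of_scalar (h.restr W hW) hy1 hy3 hl)
  · left
    rw [← map_mul, ← map_pow] at h1
    obtain ⟨μ, hμ⟩ := (hf _).1 h1
    exact case_two h hWb hW h2 hxy hγ hμ
  · right; left
    rw [← map_inv, ← map_mul, ← map_pow] at h1
    obtain ⟨μ, hμ⟩ := (hf _).1 h1
    have hxy' : x * y⁻¹ ≠ y⁻¹ * x := by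
      intro h4
      apply hxy
      have h5 : y * (x * y⁻¹) * y = y * (y⁻¹ * x) * y := by rw [h4]
      simpa [mul_assoc] using h5.symm
    have hγ' : ∀ w ∈ W, (ρ (x * y⁻¹) + ρ (x * y⁻¹)⁻¹) w = (1 - γ) • w := by
      intro w hw
      rw [e1, LinearMap.sub_apply, hγ w hw, Module.End.one_apply, sub_smul, one_smul]
    have h4 := case_two h hWb hW h2 hxy' hγ' hμ
    rw [e1, sub_eq_zero] at h4
    exact h4.symm
  · right; right
    rw [← map_mul, ← map_pow] at h1
    rw [← map_inv, ← map_mul, ← map_pow] at h1'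
    obtain ⟨μ, hμ⟩ := (hf _).1 h1
    obtain ⟨μ', hμ'⟩ := (hf _).1 h1'
    exact case_five h hWb hW h2 hxy hy3 hx3 hγ hμ hμ'

theorem dih_cube {n : ℕ} (a : DihedralGroup n) (ha : a ^ 3 = 1) : ∃ i, a = DihedralGroup.r i := by
  cases a with
  | r i => exact ⟨i, rfl⟩
  | sr i =>
    exfalso
    rw [pow_succ, pow_two, DihedralGroup.sr_mul_self, one_mul] at ha
    exact absurd ha (by rw [DihedralGroup.one_def]; exact fun h => by cases h)

/-- the rotations -/
def rot (n : ℕ) : Subgroup (DihedralGroup n) where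
  carrier := {a | ∃ i, a = DihedralGroup.r i}
  mul_mem' := by
    rintro _ _ ⟨i, rfl⟩ ⟨j, rfl⟩
    exact ⟨i + j, DihedralGroup.r_mul_r i j⟩
  one_mem' := ⟨0, rfl⟩
  inv_mem' := by
    rintro _ ⟨i, rfl⟩
    exact ⟨-i, rfl⟩

/-- **The trichotomy for a generating pair of elements of order three.** -/
theorem pair_gen [IsAlgClosed K] [FiniteDimensional K V] [Nontrivial V] [Finite G] (h : Free ρ) (hn : (Nat.card G : K) ≠ 0)
    {x y : G} (hgen : Subgroup.closure {x, y} = ⊤) (hx3 : x ^ 3 = 1) (hy3 : y ^ 3 = 1) (hxy : x * y ≠ y * x) :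
    ρ (x * y) + ρ (x * y)⁻¹ = 0 ∨ ρ (x * y) + ρ (x * y)⁻¹ = 1 ∨
      (ρ (x * y) + ρ (x * y)⁻¹) * (ρ (x * y) + ρ (x * y)⁻¹) = (ρ (x * y) + ρ (x * y)⁻¹) + 1 := by
  have hx1 : x ≠ 1 := by rintro rfl; exact hxy (by rw [one_mul, mul_one])
  have hy1 : y ≠ 1 := by rintro rfl; exact hxy (by rw [one_mul, mul_one])
  have ha := sq_of (h.three hx1 hx3)
  have hb := sq_of (h.three hy1 hy3)
  obtain ⟨W, γ, hWb, hWa, hWb', hWd, hWc⟩ := exists_W ha hb
  have hc : ρ (x * y) + ρ (x * y)⁻¹ = ρ x * ρ y + (ρ y * ρ y) * (ρ x * ρ x) := by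
    rw [mul_inv_rev, map_mul, map_mul, h.inv_three hx1 hx3, h.inv_three hy1 hy3, ha, hb]
  have hW : ∀ g, ∀ w ∈ W, ρ g w ∈ W := by
    intro g
    refine inv_of_closure hgen W ?_ g
    intro g hg
    rcases hg with rfl | hg
    · exact hWa
    · rw [Set.mem_singleton_iff] at hg
      rw [hg]; exact hWb'
  have hγ : ∀ w ∈ W, (ρ (x * y) + ρ (x * y)⁻¹) w = γ • w := by rw [hc]; exact hWc
  haveI : Nontrivial W := (Submodule.nontrivial_iff_ne_bot).2 hWb
  have hfW := h.restr W hW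
  have hpos : 0 < finrank K W := finrank_pos
  have hcases : finrank K W = 1 ∨ finrank K W = 2 := by omega
  rcases hcases with hd | hd
  · exfalso
    obtain ⟨w, hw⟩ := exists_ne (0 : W)
    have h1 := (finrank_eq_one_iff_of_nonzero' w hw).1 hd
    obtain ⟨c, hc'⟩ := h1 (restr ρ W hW y w)
    apply hxy
    symm
    apply hfW.central_of_scalar (c := c)
    refine LinearMap.ext fun v => ?_
    obtain ⟨d, rfl⟩ := h1 v
    rw [map_smul, ← hc', LinearMap.smul_apply, Module.End.one_apply, smul_comm]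
  · have hev : ∀ {Q : Type} [Group Q] [Finite Q] (f : G →* Q), Function.Surjective f → 2 ∣ Nat.card Q → (2 : K) ≠ 0 := by
      intro Q _ _ f hf h2 h0
      apply hn
      obtain ⟨m, hm⟩ := h2.trans (Subgroup.card_dvd_of_surjective f hf)
      rw [hm, Nat.cast_mul, Nat.cast_ofNat, h0, zero_mul]
    have hconv : ∀ {Q : Type} [Group Q] (f : G →* Q), (∀ g, f g = 1 ↔ ∃ c : K, restr ρ W hW g = c • 1) → f x ^ 3 = 1 ∧ f y ^ 3 = 1 := by
      intro Q _ f _
      exact ⟨by rw [← map_pow, hx3, map_one], by rw [← map_pow, hy3, map_one]⟩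
    rcases tame2 hfW hd hn with h1 | ⟨n, f, hfs, hfk⟩ | ⟨f, hfs, hfk⟩ | ⟨f, hfs, hfk⟩ | ⟨f, hfs, hfk⟩
    · exact absurd (h1 x y) hxy
    · exfalso
      have h1 : (rot n).comap f = ⊤ := by
        rw [eq_top_iff, ← hgen, Subgroup.closure_le]
        rintro g (rfl | hg)
        · exact dih_cube _ (hconv f hfk).1
        · rw [Set.mem_singleton_iff] at hg
          rw [hg]; exact dih_cube _ (hconv f hfk).2
      obtain ⟨g, hg⟩ := hfs (DihedralGroup.sr 0)
      have h2 : g ∈ (rot n).comap f := h1 ▸ Subgroup.mem_top g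
      obtain ⟨i, hi⟩ := h2
      rw [hg] at hi
      cases hi
    · exact pair_aux h hWb hW hxy hy3 hx3 (hev f hfs (by rw [nat_card_alternatingGroup, Nat.card_fin]; decide)) hγ f hfk
        (a4_pairs _ _ (hconv f hfk).1 (hconv f hfk).2)
    · exfalso
      have h1 : (alternatingGroup (Fin 4)).comap f = ⊤ := by
        have h3 : ∀ a : Equiv.Perm (Fin 4), a ^ 3 = 1 → a ∈ alternatingGroup (Fin 4) := by
          intro a ha
          rw [Equiv.Perm.mem_alternatingGroup]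
          have h4 : Equiv.Perm.sign a ^ 3 = 1 := by rw [← map_pow, ha, map_one]
          rcases Int.units_eq_one_or (Equiv.Perm.sign a) with h5 | h5
          · exact h5
          · rw [h5] at h4
            exact absurd h4 (by decide)
        rw [eq_top_iff, ← hgen, Subgroup.closure_le]
        rintro g (rfl | hg)
        · exact h3 _ (hconv f hfk).1
        · rw [Set.mem_singleton_iff] at hg
          rw [hg]; exact h3 _ (hconv f hfk).2
      obtain ⟨g, hg⟩ := hfs (Equiv.swap 0 1)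
      have h2 : g ∈ (alternatingGroup (Fin 4)).comap f := h1 ▸ Subgroup.mem_top g
      rw [Subgroup.mem_comap, hg, Equiv.Perm.mem_alternatingGroup] at h2
      exact absurd h2 (by decide)
    · exact pair_aux h hWb hW hxy hy3 hx3 (hev f hfs (by rw [nat_card_alternatingGroup, Nat.card_fin]; decide)) hγ f hfk
        (a5_pairs _ _ (hconv f hfk).1 (hconv f hfk).2)

end CfsgLib.H3Zas
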