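import Mathlib
import Cfsg.Agent.Lib.H3Zas3

/-!
# Quaternion decomposition
-/

set_option autoImplicit false
set_option linter.style.haveILetI false

namespace CfsgLib.H3Zas

open Module

universe u v w

/-! ### algebra with a quaternion pair -/

section Alg

variable {K : Type u} [Field K] {R : Type v} [Ring R] [Algebra K R]

/-- a quaternion pair -/
structure QP (I J : R) : Prop where
  ii : I * I = -1
  jj : J * J = -1
  ji : J * I = -(I * J)

/-- the commutant -/
structure Cm (I J c : R) : Prop where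
  ci : c * I = I * c
  cj : c * J = J * c

variable {I J : R}

theorem Cm.add {a b : R} (ha : Cm I J a) (hb : Cm I J b) : Cm I J (a + b) :=
  ⟨by rw [add_mul, mul_add, ha.ci, hb.ci], by rw [add_mul, mul_add, ha.cj, hb.cj]⟩

theorem Cm.sub {a b : R} (ha : Cm I J a) (hb : Cm I J b) : Cm I J (a - b) :=
  ⟨by rw [sub_mul, mul_sub, ha.ci, hb.ci], by rw [sub_mul, mul_sub, ha.cj, hb.cj]⟩

theorem Cm.neg {a : R} (ha : Cm I J a) : Cm I J (-a) :=
  ⟨by rw [neg_mul, mul_neg, ha.ci], by rw [neg_mul, mul_neg, ha.cj]⟩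

theorem Cm.mul {a b : R} (ha : Cm I J a) (hb : Cm I J b) : Cm I J (a * b) :=
  ⟨by rw [mul_assoc, hb.ci, ← mul_assoc, ha.ci, mul_assoc], by rw [mul_assoc, hb.cj, ← mul_assoc, ha.cj, mul_assoc]⟩

theorem Cm.smul {a : R} (c : K) (ha : Cm I J a) : Cm I J (c • a) :=
  ⟨by rw [smul_mul_assoc, mul_smul_comm, ha.ci], by rw [smul_mul_assoc, mul_smul_comm, ha.cj]⟩

theorem Cm.one : Cm I J (1 : R) := ⟨by rw [one_mul, mul_one], by rw [one_mul, mul_one]⟩

theorem Cm.zero : Cm I J (0 : R) := ⟨by rw [zero_mul, mul_zero], by rw [zero_mul, mul_zero]⟩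

theorem QP.ii' (h : QP I J) (x : R) : I * (I * x) = -x := by rw [← mul_assoc, h.ii, neg_one_mul]
theorem QP.jj' (h : QP I J) (x : R) : J * (J * x) = -x := by rw [← mul_assoc, h.jj, neg_one_mul]
theorem QP.ji' (h : QP I J) (x : R) : J * (I * x) = -(I * (J * x)) := by rw [← mul_assoc, h.ji, neg_mul, mul_assoc]
theorem Cm.ci' {c : R} (h : Cm I J c) (x : R) : c * (I * x) = I * (c * x) := by rw [← mul_assoc, h.ci, mul_assoc]
theorem Cm.cj' {c : R} (h : Cm I J c) (x : R) : c * (J * x) = J * (c * x) := by rw [← mul_assoc, h.cj, mul_assoc]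

theorem two_cancel (h2 : (2 : K) ≠ 0) {x : R} (h : x + x = 0) : x = 0 := by
  have h1 : (2 : K) • x = 0 := by rw [two_smul, h]
  exact (smul_eq_zero.1 h1).resolve_left h2

include K in
theorem QP.unique2 (h2 : (2 : K) ≠ 0) (h : QP I J) {a b : R} (ha : Cm I J a) (hb : Cm I J b)
    (h0 : a + I * b = 0) : a = 0 ∧ b = 0 := by
  have h1 : J * (a + I * b) * J = 0 := by rw [h0, mul_zero, zero_mul]
  have h3 : J * (a + I * b) * J = -a + I * b := by
    simp only [mul_add, add_mul, mul_assoc, ha.cj, hb.cj, h.jj', h.ji', neg_mul, mul_neg, neg_neg]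
  rw [h3] at h1
  have h4 : I * b = 0 := by
    apply two_cancel (K := K) h2
    have : I * b + I * b = (a + I * b) + (-a + I * b) := by abel
    rw [this, h0, h1, add_zero]
  have h5 : b = 0 := by
    have h6 := h.ii' b
    rw [h4, mul_zero] at h6
    exact neg_eq_zero.1 h6.symm
  refine ⟨?_, h5⟩
  rwa [h4, add_zero] at h0

include K in
theorem QP.unique (h2 : (2 : K) ≠ 0) (h : QP I J) {a b c d : R} (ha : Cm I J a) (hb : Cm I J b) (hc : Cm I J c) (hd : Cm I J d)
    (h0 : a + I * b + J * c + I * (J * d) = 0) : a = 0 ∧ b = 0 ∧ c = 0 ∧ d = 0 := by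
  have h1 : I * (a + I * b + J * c + I * (J * d)) * I = 0 := by rw [h0, mul_zero, zero_mul]
  have h3 : I * (a + I * b + J * c + I * (J * d)) * I = -a - I * b + J * c + I * (J * d) := by
    simp only [mul_add, add_mul, mul_assoc, ha.ci, hb.ci, hc.ci, hd.ci, h.ii', h.ji', mul_neg, neg_neg, neg_mul]
    abel
  rw [h3] at h1
  have h4 : a + I * b = 0 := by
    apply two_cancel (K := K) h2
    have : a + I * b + (a + I * b) = (a + I * b + J * c + I * (J * d)) - (-a - I * b + J * c + I * (J * d)) := by abel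
    rw [this, h0, h1, sub_zero]
  have h5 : J * c + I * (J * d) = 0 := by
    have : J * c + I * (J * d) = (a + I * b + J * c + I * (J * d)) - (a + I * b) := by abel
    rw [this, h0, h4, sub_zero]
  have h6 : -c + I * d = 0 := by
    have h7 : J * (J * c + I * (J * d)) = 0 := by rw [h5, mul_zero]
    rw [mul_add, h.jj', h.ji', h.jj', mul_neg, neg_neg] at h7
    exact h7
  obtain ⟨h7, h8⟩ := h.unique2 h2 ha hb h4
  obtain ⟨h9, h10⟩ := h.unique2 h2 hc.neg hd h6
  exact ⟨h7, h8, neg_eq_zero.1 h9, h10⟩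

/-- existence of the decomposition -/
theorem QP.exists_decomp (h2 : (2 : K) ≠ 0) (h : QP I J) (u : R) : ∃ a b c d : R, Cm I J a ∧ Cm I J b ∧ Cm I J c ∧ Cm I J d ∧
    u = a + I * b + J * c + I * (J * d) ∧ (4 : K) • a = u - I * u * I - J * u * J - (I * J) * u * (I * J) := by
  have h4 : (4 : K) ≠ 0 := by
    have : (4 : K) = 2 * 2 := by norm_num
    rw [this]; exact mul_ne_zero h2 h2
  have hN : ∀ x : R, Cm I J (x - I * x * I - J * x * J - (I * J) * x * (I * J)) := by
    intro x
    constructor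
    · simp only [sub_mul, mul_sub, mul_assoc, h.ii, h.ji, h.ii', h.ji', mul_neg, neg_neg, mul_one]
      abel
    · simp only [sub_mul, mul_sub, mul_assoc, h.jj, h.jj', h.ji', mul_neg, neg_neg, mul_one]
      abel
  refine ⟨(4 : K)⁻¹ • (u - I * u * I - J * u * J - (I * J) * u * (I * J)),
    (4 : K)⁻¹ • ((-(I * u)) - I * (-(I * u)) * I - J * (-(I * u)) * J - (I * J) * (-(I * u)) * (I * J)),
    (4 : K)⁻¹ • ((-(J * u)) - I * (-(J * u)) * I - J * (-(J * u)) * J - (I * J) * (-(J * u)) * (I * J)),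
    (4 : K)⁻¹ • ((-(I * (J * u))) - I * (-(I * (J * u))) * I - J * (-(I * (J * u))) * J - (I * J) * (-(I * (J * u))) * (I * J)),
    (hN _).smul _, (hN _).smul _, (hN _).smul _, (hN _).smul _, ?_, ?_⟩
  · simp only [mul_smul_comm, ← smul_add]
    rw [eq_inv_smul_iff₀ h4]
    simp only [mul_sub, mul_assoc, h.ii, h.ji, h.jj, h.ii', h.ji', h.jj', mul_neg, neg_mul, neg_neg, mul_one]
    have : (4 : K) • u = u + u + u + u := by
      have : (4 : K) = 1 + 1 + 1 + 1 := by norm_num
      rw [this, add_smul, add_smul, add_smul, one_smul]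
    rw [this]
    abel
  · rw [smul_smul, mul_inv_cancel₀ h4, one_smul]

include K in
theorem QP.sq (h2 : (2 : K) ≠ 0) (h : QP I J) {a b c d : R} (ha : Cm I J a) (hb : Cm I J b) (hc : Cm I J c) (hd : Cm I J d)
    {l : K} (h0 : (a + I * b + J * c + I * (J * d)) * (a + I * b + J * c + I * (J * d)) = l • 1) :
    a * a - b * b - c * c - d * d = l • 1 ∧ a * b + b * a + c * d - d * c = 0 ∧ a * c + c * a + d * b - b * d = 0 ∧
      a * d + d * a + b * c - c * b = 0 := by
  have h1 : (a * a - b * b - c * c - d * d - l • 1) + I * (a * b + b * a + c * d - d * c) + J * (a * c + c * a + d * b - b * d) +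
      I * (J * (a * d + d * a + b * c - c * b)) = 0 := by
    have h3 : (a + I * b + J * c + I * (J * d)) * (a + I * b + J * c + I * (J * d)) - l • 1 = 0 := by rw [h0, sub_self]
    rw [← h3]
    simp only [mul_add, add_mul, mul_sub, mul_assoc, ha.ci', hb.ci', hc.ci', hd.ci', ha.cj', hb.cj', hc.cj', hd.cj', h.ii', h.jj', h.ji',
      neg_mul, mul_neg, neg_neg]
    abel
  obtain ⟨h3, h4, h5, h6⟩ := h.unique h2
    (((((ha.mul ha).sub (hb.mul hb)).sub (hc.mul hc)).sub (hd.mul hd)).sub (Cm.one.smul l))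
    ((((ha.mul hb).add (hb.mul ha)).add (hc.mul hd)).sub (hd.mul hc))
    ((((ha.mul hc).add (hc.mul ha)).add (hd.mul hb)).sub (hb.mul hd))
    ((((ha.mul hd).add (hd.mul ha)).add (hb.mul hc)).sub (hc.mul hb)) h1
  exact ⟨sub_eq_zero.1 h3, h4, h5, h6⟩

theorem QP.anti (h : QP I J) {a b c d : R} (ha : Cm I J a) (hb : Cm I J b) (hc : Cm I J c) (hd : Cm I J d) :
    (I + J + I * J) * (a + I * b + J * c + I * (J * d)) + (a + I * b + J * c + I * (J * d)) * (I + J + I * J) =
      ((I + J + I * J) * a - (b + c + d)) + ((I + J + I * J) * a - (b + c + d)) := by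
  simp only [mul_add, add_mul, mul_assoc, ha.ci, hb.ci, hc.ci, hd.ci, ha.cj, hb.cj, hc.cj, hd.cj, ha.ci', hb.ci', hc.ci', hd.ci',
    h.ii', h.jj', h.ji', neg_mul, mul_neg, neg_neg]
  abel

include K in
theorem QP.anti_sq (h2 : (2 : K) ≠ 0) (h : QP I J) {a b c d : R} (ha : Cm I J a) (hb : Cm I J b) (hc : Cm I J c) (hd : Cm I J d)
    {n : K} (h0 : ((I + J + I * J) * (a + I * b + J * c + I * (J * d)) + (a + I * b + J * c + I * (J * d)) * (I + J + I * J)) *
      ((I + J + I * J) * (a + I * b + J * c + I * (J * d)) + (a + I * b + J * c + I * (J * d)) * (I + J + I * J)) = (4 * n) • 1) :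
    a * (b + c + d) + (b + c + d) * a = 0 ∧ (b + c + d) * (b + c + d) = n • 1 + (3 : K) • (a * a) := by
  rw [h.anti ha hb hc hd] at h0
  set s := b + c + d with hs
  have hsC : Cm I J s := (hb.add hc).add hd
  have h4 : (4 : K) ≠ 0 := by
    have : (4 : K) = 2 * 2 := by norm_num
    rw [this]; exact mul_ne_zero h2 h2
  set t := (I + J + I * J) * a - s with ht
  have h1 : t * t = n • 1 := by
    have h3 : (4 : K) • (t * t) = (4 : K) • (n • (1 : R)) := by
      rw [smul_smul, ← h0]
      have : (4 : K) = 1 + 1 + 1 + 1 := by norm_num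
      rw [this, add_smul, add_smul, add_smul, one_smul]
      noncomm_ring
    have h5 := congrArg (fun x => (4 : K)⁻¹ • x) h3
    simp only [smul_smul, inv_mul_cancel₀ h4, one_smul] at h5
    rw [h5, ← mul_assoc, inv_mul_cancel₀ h4, one_mul]
  have h3 : t * t = (s * s - a * a - a * a - a * a) + I * (-(a * s + s * a)) + J * (-(a * s + s * a)) + I * (J * (-(a * s + s * a))) := by
    rw [ht]
    simp only [mul_add, add_mul, mul_sub, sub_mul, mul_assoc, ha.ci', hsC.ci', ha.cj', hsC.cj', h.ii', h.jj', h.ji',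
      neg_mul, mul_neg, neg_neg]
    abel
  have h5 : (s * s - a * a - a * a - a * a - n • 1) + I * (-(a * s + s * a)) + J * (-(a * s + s * a)) + I * (J * (-(a * s + s * a))) = 0 := by
    have h6 : t * t - n • 1 = 0 := by rw [h1, sub_self]
    rw [h3] at h6
    rw [← h6]; abel
  have hC : Cm I J (-(a * s + s * a)) := ((ha.mul hsC).add (hsC.mul ha)).neg
  obtain ⟨h6, h7, -, -⟩ := h.unique h2 (((((hsC.mul hsC).sub (ha.mul ha)).sub (ha.mul ha)).sub (ha.mul ha)).sub (Cm.one.smul n)) hC hC hC h5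
  refine ⟨neg_eq_zero.1 h7, ?_⟩
  have h8 : (3 : K) • (a * a) = a * a + a * a + a * a := by
    have : (3 : K) = 1 + 1 + 1 := by norm_num
    rw [this, add_smul, add_smul, one_smul]
  rw [h8]
  have h9 : s * s = (s * s - a * a - a * a - a * a - n • 1) + (n • 1 + (a * a + a * a + a * a)) := by abel
  rw [h9, h6, zero_add]

end Alg

end CfsgLib.H3Zas
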