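import Mathlib
import Cfsg.Agent.Lib.H3Zas4

/-!
# Quaternion decomposition: the component of an element of order three along `1`
-/

set_option autoImplicit false
set_option linter.style.haveILetI false

namespace CfsgLib.H3Zas

open Module

universe u v w

section Field

variable {K : Type u} [Field K]

theorem three_prod {b c d e1 e2 e3 : K} (h1 : 2 * (b * c) = e1) (h2 : 2 * (c * d) = e2) (h3 : 2 * (b * d) = e3)
    (s1 : e1 * e1 = 1) (s2 : e2 * e2 = 1) (s3 : e3 * e3 = 1) : 2 * (b * b + c * c + d * d) = 3 * (e1 * e2 * e3) := by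
  have hb : 2 * (b * b) = e1 * e2 * e3 := by
    have : 2 * (b * b) * e2 = e1 * e3 := by rw [← h1, ← h2, ← h3]; ring
    calc 2 * (b * b) = 2 * (b * b) * (e2 * e2) := by rw [s2, mul_one]
      _ = (2 * (b * b) * e2) * e2 := by ring
      _ = _ := by rw [this]; ring
  have hc : 2 * (c * c) = e1 * e2 * e3 := by
    have : 2 * (c * c) * e3 = e1 * e2 := by rw [← h1, ← h2, ← h3]; ring
    calc 2 * (c * c) = 2 * (c * c) * (e3 * e3) := by rw [s3, mul_one]
      _ = (2 * (c * c) * e3) * e3 := by ring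
      _ = _ := by rw [this]
  have hd : 2 * (d * d) = e1 * e2 * e3 := by
    have : 2 * (d * d) * e1 = e2 * e3 := by rw [← h1, ← h2, ← h3]; ring
    calc 2 * (d * d) = 2 * (d * d) * (e1 * e1) := by rw [s1, mul_one]
      _ = (2 * (d * d) * e1) * e1 := by ring
      _ = _ := by rw [this]; ring
  linear_combination hb + hc + hd

theorem field_cases (h2 : (2 : K) ≠ 0) {k b c d n1 n2 n3 n4 : K} (hn1 : n1 = 1 ∨ n1 = 5) (hn2 : n2 = 1 ∨ n2 = 5)
    (hn3 : n3 = 1 ∨ n3 = 5) (hn4 : n4 = 1 ∨ n4 = 5) (h1 : (b + c + d) * (b + c + d) = n1 + 3 * k)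
    (h2' : (-b + c + -d) * (-b + c + -d) = n2 + 3 * k) (h3 : (b + -c + -d) * (b + -c + -d) = n3 + 3 * k)
    (h4 : (-b + -c + d) * (-b + -c + d) = n4 + 3 * k) (h0 : k - b * b - c * c - d * d = -3) :
    k = 0 ∨ (c = 0 ∧ d = 0) ∨ (b = 0 ∧ d = 0) ∨ (b = 0 ∧ c = 0) := by
  have h8 : (8 : K) ≠ 0 := by
    have : (8 : K) = 2 * 2 * 2 := by norm_num
    rw [this]; exact mul_ne_zero (mul_ne_zero h2 h2) h2
  have h4' : (4 : K) ≠ 0 := by
    have : (4 : K) = 2 * 2 := by norm_num
    rw [this]; exact mul_ne_zero h2 h2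
  have hk : 8 * k = 12 - (n1 + n2 + n3 + n4) := by linear_combination -h1 - h2' - h3 - h4 - 4 * h0
  have ebc : 8 * (b * c) = n1 - n2 - n3 + n4 := by linear_combination h1 - h2' - h3 + h4
  have ecd : 8 * (c * d) = n1 - n2 + n3 - n4 := by linear_combination h1 - h2' + h3 - h4
  have ebd : 8 * (b * d) = n1 + n2 - n3 - n4 := by linear_combination h1 + h2' - h3 - h4
  have main : ∀ e1 e2 e3 : K, e1 * e1 = 1 → e2 * e2 = 1 → e3 * e3 = 1 → 8 * (b * c) = 4 * e1 → 8 * (c * d) = 4 * e2 → 8 * (b * d) = 4 * e3 →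
      2 * (3 + k) = 3 * (e1 * e2 * e3) := by
    intro e1 e2 e3 s1 s2 s3 q1 q2 q3
    have p1 : 2 * (b * c) = e1 := mul_left_cancel₀ h4' (by linear_combination q1)
    have p2 : 2 * (c * d) = e2 := mul_left_cancel₀ h4' (by linear_combination q2)
    have p3 : 2 * (b * d) = e3 := mul_left_cancel₀ h4' (by linear_combination q3)
    have := three_prod p1 p2 p3 s1 s2 s3
    linear_combination this + 2 * h0
  have zero : b * c = 0 → c * d = 0 → b * d = 0 → k = 0 ∨ (c = 0 ∧ d = 0) ∨ (b = 0 ∧ d = 0) ∨ (b = 0 ∧ c = 0) := by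
    intro q1 q2 q3
    right
    by_cases hb : b = 0
    · rcases mul_eq_zero.1 q2 with hc | hd
      · exact Or.inr (Or.inr ⟨hb, hc⟩)
      · exact Or.inr (Or.inl ⟨hb, hd⟩)
    · exact Or.inl ⟨(mul_eq_zero.1 q1).resolve_left hb, (mul_eq_zero.1 q3).resolve_left hb⟩
  have z8 : ∀ x : K, 8 * x = 0 → x = 0 := fun x hx => (mul_eq_zero.1 hx).resolve_left h8
  have h16 : (16 : K) ≠ 0 := by
    have : (16 : K) = 2 * 8 := by norm_num
    rw [this]; exact mul_ne_zero h2 h8
  have h32 : (32 : K) ≠ 0 := by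
    have : (32 : K) = 2 * 16 := by norm_num
    rw [this]; exact mul_ne_zero h2 h16
  rcases hn1 with rfl | rfl <;> rcases hn2 with rfl | rfl <;> rcases hn3 with rfl | rfl <;> rcases hn4 with rfl | rfl
  · exact zero (z8 _ (by rw [ebc]; ring)) (z8 _ (by rw [ecd]; ring)) (z8 _ (by rw [ebd]; ring))
  · exfalso
    have := main 1 (-1) (-1) (by ring) (by ring) (by ring) (by rw [ebc]; ring) (by rw [ecd]; ring) (by rw [ebd]; ring)
    exact h16 (by linear_combination 4 * this - hk)
  · exfalso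
    have := main (-1) 1 (-1) (by ring) (by ring) (by ring) (by rw [ebc]; ring) (by rw [ecd]; ring) (by rw [ebd]; ring)
    exact h16 (by linear_combination 4 * this - hk)
  · exact Or.inl (z8 _ (by rw [hk]; ring))
  · exfalso
    have := main (-1) (-1) 1 (by ring) (by ring) (by ring) (by rw [ebc]; ring) (by rw [ecd]; ring) (by rw [ebd]; ring)
    exact h16 (by linear_combination 4 * this - hk)
  · exact Or.inl (z8 _ (by rw [hk]; ring))
  · exact Or.inl (z8 _ (by rw [hk]; ring))
  · exfalso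
    have := main (-1) (-1) (-1) (by ring) (by ring) (by ring) (by rw [ebc]; ring) (by rw [ecd]; ring) (by rw [ebd]; ring)
    exact h32 (by linear_combination 4 * this - hk)
  · exfalso
    have := main 1 1 1 (by ring) (by ring) (by ring) (by rw [ebc]; ring) (by rw [ecd]; ring) (by rw [ebd]; ring)
    exact h16 (by linear_combination 4 * this - hk)
  · exact Or.inl (z8 _ (by rw [hk]; ring))
  · exact Or.inl (z8 _ (by rw [hk]; ring))
  · exfalso
    have := main 1 1 (-1) (by ring) (by ring) (by ring) (by rw [ebc]; ring) (by rw [ecd]; ring) (by rw [ebd]; ring)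
    exact h32 (by linear_combination 4 * this - hk)
  · exact Or.inl (z8 _ (by rw [hk]; ring))
  · exfalso
    have := main 1 (-1) 1 (by ring) (by ring) (by ring) (by rw [ebc]; ring) (by rw [ecd]; ring) (by rw [ebd]; ring)
    exact h32 (by linear_combination 4 * this - hk)
  · exfalso
    have := main (-1) 1 1 (by ring) (by ring) (by ring) (by rw [ebc]; ring) (by rw [ecd]; ring) (by rw [ebd]; ring)
    exact h32 (by linear_combination 4 * this - hk)
  · exact zero (z8 _ (by rw [ebc]; ring)) (z8 _ (by rw [ecd]; ring)) (z8 _ (by rw [ebd]; ring))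

end Field

end CfsgLib.H3Zas
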