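import Mathlib
import Cfsg.Agent.Lib.H3Zas5

/-!
# Pairs of elements of order three in a group with a free representation
-/

set_option autoImplicit false
set_option linter.style.haveILetI false

namespace CfsgLib.H3Zas

open Module

universe u v w

variable {K : Type u} [Field K] {V : Type v} [AddCommGroup V] [Module K V] {G : Type w} [Group G]
  {ρ : G →* Module.End K V}

theorem card_ne_zero_of_dvd {m n : ℕ} (hn : (n : K) ≠ 0) (h : m ∣ n) : (m : K) ≠ 0 := by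
  obtain ⟨k, rfl⟩ := h
  intro h0
  apply hn
  rw [Nat.cast_mul, h0, zero_mul]

theorem pair [IsAlgClosed K] [FiniteDimensional K V] [Nontrivial V] [Finite G] (h : Free ρ) (hn : (Nat.card G : K) ≠ 0)
    {x y : G} (hx3 : x ^ 3 = 1) (hy3 : y ^ 3 = 1) (hxy : x * y ≠ y * x) :
    ρ (x * y) + ρ (x * y)⁻¹ = 0 ∨ ρ (x * y) + ρ (x * y)⁻¹ = 1 ∨
      (ρ (x * y) + ρ (x * y)⁻¹) * (ρ (x * y) + ρ (x * y)⁻¹) = (ρ (x * y) + ρ (x * y)⁻¹) + 1 := by
  have hxH : x ∈ Subgroup.closure {x, y} := Subgroup.subset_closure (by simp)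
  have hyH : y ∈ Subgroup.closure {x, y} := Subgroup.subset_closure (by simp)
  have hgen : Subgroup.closure {(⟨x, hxH⟩ : Subgroup.closure {x, y}), ⟨y, hyH⟩} = ⊤ := by
    have h1 := Subgroup.closure_closure_coe_preimage (k := ({x, y} : Set G))
    rw [← h1]
    congr 1
    ext ⟨g, hg⟩
    simp only [Set.mem_insert_iff, Set.mem_singleton_iff, Set.mem_preimage, Subtype.mk.injEq]
  exact pair_gen (ρ := ρ.comp (Subgroup.closure {x, y}).subtype) (h.comp _ (Subgroup.subtype_injective _))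
    (card_ne_zero_of_dvd hn (Subgroup.card_subgroup_dvd_card _)) hgen (Subtype.ext hx3) (Subtype.ext hy3)
    (fun h1 => hxy (congrArg Subtype.val h1))

theorem comm3 [Nontrivial V] (h : Free ρ) {x y : G} (hx1 : x ≠ 1) (hy1 : y ≠ 1) (hx3 : x ^ 3 = 1) (hy3 : y ^ 3 = 1)
    (hxy : x * y = y * x) : y = x ∨ y = x⁻¹ := by
  by_contra hcon
  push Not at hcon
  obtain ⟨v, hv⟩ := exists_ne (0 : V)
  have h1 : (ρ y - ρ x) * (ρ y - ρ x⁻¹) = 0 := by
    have h2 := h.three hy1 hy3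
    have hc : ρ x * ρ y = ρ y * ρ x := by rw [← map_mul, hxy, map_mul]
    have e : (ρ y - ρ x) * (ρ y - ρ x⁻¹) = ρ y * ρ y - ρ y * ρ x⁻¹ - ρ x * ρ y + ρ x * ρ x⁻¹ := by noncomm_ring
    rw [e, Free.map_inv, hc, h.inv_three hx1 hx3]
    have e2 : ρ y * ρ y - ρ y * (-1 - ρ x) - ρ y * ρ x + 1 = ρ y * ρ y + ρ y + 1 := by noncomm_ring
    rw [e2, h2]
  have h2 : (ρ y - ρ x) ((ρ y - ρ x⁻¹) v) = 0 := by rw [← Module.End.mul_apply, h1, LinearMap.zero_apply]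
  by_cases h3 : (ρ y - ρ x⁻¹) v = 0
  · exact hcon.2 (h.eq_of_apply hv (sub_eq_zero.1 (by rwa [LinearMap.sub_apply] at h3)))
  · exact hcon.1 (h.eq_of_apply h3 (sub_eq_zero.1 (by rwa [LinearMap.sub_apply] at h2)))

/-- the pure quaternion attached to an element of order three -/
def U (ρ : G →* Module.End K V) (x : G) : Module.End K V := ρ x + ρ x + 1

theorem U_inv (h : Free ρ) {x : G} (hx1 : x ≠ 1) (hx3 : x ^ 3 = 1) : U ρ x⁻¹ = - U ρ x := by
  rw [U, U, h.inv_three hx1 hx3]; abel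

theorem U_sq (h : Free ρ) {x : G} (hx1 : x ≠ 1) (hx3 : x ^ 3 = 1) : U ρ x * U ρ x = (-3 : K) • 1 := by
  have h1 := h.three hx1 hx3
  have h2 : U ρ x * U ρ x = (ρ x * ρ x + ρ x + 1) + (ρ x * ρ x + ρ x + 1) + (ρ x * ρ x + ρ x + 1) + (ρ x * ρ x + ρ x + 1) - 1 - 1 - 1 := by
    rw [U]; noncomm_ring
  rw [h2, h1]
  have : (-3 : K) = -1 + -1 + -1 := by norm_num
  rw [this, add_smul, add_smul, neg_smul, one_smul]; abel

theorem U_conj (g x : G) : U ρ (g⁻¹ * x * g) = ρ g⁻¹ * U ρ x * ρ g := by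
  rw [U, U, mul_add, mul_add, add_mul, add_mul, mul_one, Free.map_inv', map_mul, map_mul]

theorem anti_eq (h : Free ρ) {x y : G} (hx1 : x ≠ 1) (hx3 : x ^ 3 = 1) (hy1 : y ≠ 1) (hy3 : y ^ 3 = 1) :
    U ρ x * U ρ y + U ρ y * U ρ x = (4 : K) • (ρ (x * y) + ρ (x * y)⁻¹) - (2 : K) • 1 := by
  rw [mul_inv_rev, map_mul, map_mul, h.inv_three hx1 hx3, h.inv_three hy1 hy3, U, U]
  have e4 : (4 : K) = 1 + 1 + 1 + 1 := by norm_num
  have e2 : (2 : K) = 1 + 1 := by norm_num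
  rw [e4, e2]
  simp only [add_smul, one_smul]
  noncomm_ring

theorem anti_pair [IsAlgClosed K] [FiniteDimensional K V] [Nontrivial V] [Finite G] (h : Free ρ) (hn : (Nat.card G : K) ≠ 0)
    {x y : G} (hx3 : x ^ 3 = 1) (hy3 : y ^ 3 = 1) (hxy : x * y ≠ y * x) :
    ∃ n : K, (n = 1 ∨ n = 5) ∧ (U ρ x * U ρ y + U ρ y * U ρ x) * (U ρ x * U ρ y + U ρ y * U ρ x) = (4 * n) • 1 := by
  have hx1 : x ≠ 1 := by rintro rfl; exact hxy (by rw [one_mul, mul_one])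
  have hy1 : y ≠ 1 := by rintro rfl; exact hxy (by rw [one_mul, mul_one])
  rw [anti_eq h hx1 hx3 hy1 hy3]
  have key : ∀ c : Module.End K V, ((4 : K) • c - (2 : K) • 1) * ((4 : K) • c - (2 : K) • 1) = (16 : K) • (c * c - c) + (4 : K) • 1 := by
    intro c
    simp only [mul_sub, sub_mul, smul_mul_assoc, mul_smul_comm, one_mul, mul_one, smul_smul]
    module
  rcases pair h hn hx3 hy3 hxy with hc | hc | hc
  · refine ⟨1, Or.inl rfl, ?_⟩
    rw [key, hc, mul_zero, sub_zero, smul_zero, zero_add, mul_one]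
  · refine ⟨1, Or.inl rfl, ?_⟩
    rw [key, hc, mul_one, sub_self, smul_zero, zero_add, mul_one]
  · refine ⟨5, Or.inr rfl, ?_⟩
    rw [key, hc, add_sub_cancel_left, ← add_smul]
    norm_num

theorem pair_inv (h : Free ρ) {x y : G} (hx1 : x ≠ 1) (hx3 : x ^ 3 = 1) (hy1 : y ≠ 1) (hy3 : y ^ 3 = 1) :
    ρ (x * y⁻¹) + ρ (x * y⁻¹)⁻¹ = 1 - (ρ (x * y) + ρ (x * y)⁻¹) := by
  simp only [mul_inv_rev, inv_inv, map_mul, h.inv_three hx1 hx3, h.inv_three hy1 hy3]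
  noncomm_ring

theorem pair_conj (h : Free ρ) {x y : G} (hx1 : x ≠ 1) (hx3 : x ^ 3 = 1) (hy1 : y ≠ 1) (hy3 : y ^ 3 = 1) :
    ρ (x * (y⁻¹ * x * y)) + ρ (x * (y⁻¹ * x * y))⁻¹ = 1 + (ρ (x * y) + ρ (x * y)⁻¹) -
      (ρ (x * y) + ρ (x * y)⁻¹) * (ρ (x * y) + ρ (x * y)⁻¹) := by
  have ha : ρ x * ρ x = -1 - ρ x := by
    have h1 := h.three hx1 hx3
    have e : ρ x * ρ x = (ρ x * ρ x + ρ x + 1) + (-1 - ρ x) := by abel
    rw [e, h1, zero_add]
  have hb : ρ y * ρ y = -1 - ρ y := by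
    have h1 := h.three hy1 hy3
    have e : ρ y * ρ y = (ρ y * ρ y + ρ y + 1) + (-1 - ρ y) := by abel
    rw [e, h1, zero_add]
  have ha' : ∀ z, ρ x * (ρ x * z) = -z - ρ x * z := fun z => by rw [← mul_assoc, ha, sub_mul, neg_one_mul]
  have hb' : ∀ z, ρ y * (ρ y * z) = -z - ρ y * z := fun z => by rw [← mul_assoc, hb, sub_mul, neg_one_mul]
  simp only [mul_inv_rev, inv_inv, map_mul, h.inv_three hx1 hx3, h.inv_three hy1 hy3]
  simp only [mul_add, add_mul, mul_sub, sub_mul, mul_assoc, neg_mul, mul_neg, one_mul, mul_one, ha, hb, ha', hb', neg_neg]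
  abel

/-- a noncommuting pair yields a pair with a product of order four -/
theorem exists_zero_pair [IsAlgClosed K] [FiniteDimensional K V] [Nontrivial V] [Finite G] (h : Free ρ) (hn : (Nat.card G : K) ≠ 0)
    {x y : G} (hx3 : x ^ 3 = 1) (hy3 : y ^ 3 = 1) (hxy : x * y ≠ y * x) :
    ∃ z : G, z ∈ Subgroup.closure {x, y} ∧ z ≠ 1 ∧ z ^ 3 = 1 ∧ ρ (x * z) + ρ (x * z)⁻¹ = 0 := by
  have hx1 : x ≠ 1 := by rintro rfl; exact hxy (by rw [one_mul, mul_one])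
  have hy1 : y ≠ 1 := by rintro rfl; exact hxy (by rw [one_mul, mul_one])
  have hxH : x ∈ Subgroup.closure {x, y} := Subgroup.subset_closure (by simp)
  have hyH : y ∈ Subgroup.closure {x, y} := Subgroup.subset_closure (by simp)
  rcases pair h hn hx3 hy3 hxy with hc | hc | hc
  · exact ⟨y, hyH, hy1, hy3, hc⟩
  · refine ⟨y⁻¹, inv_mem hyH, inv_ne_one.2 hy1, by rw [inv_pow, hy3, inv_one], ?_⟩
    rw [pair_inv h hx1 hx3 hy1 hy3, hc, sub_self]
  · refine ⟨y⁻¹ * x * y, mul_mem (mul_mem (inv_mem hyH) hxH) hyH, ?_, ?_, ?_⟩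
    · intro h1
      apply hx1
      have : x = y * (y⁻¹ * x * y) * y⁻¹ := by group
      rw [this, h1]; group
    · have := conj_pow (i := 3) (a := y⁻¹) (b := x)
      rw [inv_inv] at this
      rw [this, hx3]; group
    · rw [pair_conj h hx1 hx3 hy1 hy3, hc]; abel

/-- the quaternion pair -/
theorem exists_quat [Nontrivial V] (h : Free ρ) {x y : G} (hx1 : x ≠ 1) (hx3 : x ^ 3 = 1) (hy1 : y ≠ 1) (hy3 : y ^ 3 = 1)
    (hc : ρ (x * y) + ρ (x * y)⁻¹ = 0) : ∃ i j : G, i ∈ Subgroup.closure {x, y} ∧ j ∈ Subgroup.closure {x, y} ∧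
    QP (ρ i) (ρ j) ∧ U ρ x = ρ i + ρ j + ρ i * ρ j ∧ x⁻¹ * i * x = j ∧ x⁻¹ * j * x = i * j := by
  have hxH : x ∈ Subgroup.closure {x, y} := Subgroup.subset_closure (by simp)
  have hyH : y ∈ Subgroup.closure {x, y} := Subgroup.subset_closure (by simp)
  have ha : ρ x * ρ x = -1 - ρ x := by
    have h1 := h.three hx1 hx3
    have e : ρ x * ρ x = (ρ x * ρ x + ρ x + 1) + (-1 - ρ x) := by abel
    rw [e, h1, zero_add]
  have hb : ρ y * ρ y = -1 - ρ y := by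
    have h1 := h.three hy1 hy3
    have e : ρ y * ρ y = (ρ y * ρ y + ρ y + 1) + (-1 - ρ y) := by abel
    rw [e, h1, zero_add]
  have hba : ρ y * ρ x = - (1 + ρ x + ρ y + ρ x * ρ y) := by
    rw [mul_inv_rev, map_mul, map_mul, h.inv_three hx1 hx3, h.inv_three hy1 hy3] at hc
    have e : ρ y * ρ x = (ρ x * ρ y + (-1 - ρ y) * (-1 - ρ x)) - (1 + ρ x + ρ y + ρ x * ρ y) := by noncomm_ring
    rw [e, hc, zero_sub]
  have ha' : ∀ z, ρ x * (ρ x * z) = -z - ρ x * z := fun z => by rw [← mul_assoc, ha, sub_mul, neg_one_mul]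
  have hb' : ∀ z, ρ y * (ρ y * z) = -z - ρ y * z := fun z => by rw [← mul_assoc, hb, sub_mul, neg_one_mul]
  have hba' : ∀ z, ρ y * (ρ x * z) = - (z + ρ x * z + ρ y * z + ρ x * (ρ y * z)) := fun z => by
    rw [← mul_assoc, hba]
    simp only [neg_mul, add_mul, one_mul, mul_assoc]
  have hi : ρ (x⁻¹ * y⁻¹) = 1 + ρ x + ρ y + ρ x * ρ y := by
    rw [map_mul, h.inv_three hx1 hx3, h.inv_three hy1 hy3]; noncomm_ring
  have hj : ρ (x * y⁻¹ * x) = ρ x - ρ y := by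
    rw [map_mul, map_mul, h.inv_three hy1 hy3]
    simp only [mul_add, add_mul, mul_sub, sub_mul, mul_assoc, neg_mul, mul_neg, one_mul, mul_one, ha, hb, ha', hb', hba, hba', neg_neg]
    abel
  have hij : ρ (x⁻¹ * y⁻¹) * ρ (x * y⁻¹ * x) = -(ρ x * ρ y) := by
    rw [hi, hj]
    simp only [mul_add, add_mul, mul_sub, sub_mul, mul_assoc, neg_mul, mul_neg, one_mul, mul_one, ha, hb, ha', hb', hba, hba', neg_neg]
    abel
  have hxx : x⁻¹ * x⁻¹ = x := by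
    have : x⁻¹ * x⁻¹ = x⁻¹ * x⁻¹ * x⁻¹ * x := by group
    rw [this]
    have h3 : x⁻¹ * x⁻¹ * x⁻¹ = (x ^ 3)⁻¹ := by group
    rw [h3, hx3]; group
  refine ⟨x⁻¹ * y⁻¹, x * y⁻¹ * x, mul_mem (inv_mem hxH) (inv_mem hyH), mul_mem (mul_mem hxH (inv_mem hyH)) hxH, ⟨?_, ?_, ?_⟩, ?_, ?_, ?_⟩
  · rw [hi]
    simp only [mul_add, add_mul, mul_sub, sub_mul, mul_assoc, neg_mul, mul_neg, one_mul, mul_one, ha, hb, ha', hb', hba, hba', neg_neg]
    abel
  · rw [hj]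
    simp only [mul_add, add_mul, mul_sub, sub_mul, mul_assoc, neg_mul, mul_neg, one_mul, mul_one, ha, hb, ha', hb', hba, hba', neg_neg]
    abel
  · rw [hij, hi, hj]
    simp only [mul_add, add_mul, mul_sub, sub_mul, mul_assoc, neg_mul, mul_neg, one_mul, mul_one, ha, hb, ha', hb', hba, hba', neg_neg]
    abel
  · rw [hij, hi, hj, U]
    abel
  · have : x⁻¹ * (x⁻¹ * y⁻¹) * x = (x⁻¹ * x⁻¹) * y⁻¹ * x := by group
    rw [this, hxx]
  · apply h.injective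
    have hxx' : x * x = x⁻¹ := by
      have e0 : x * x = (x⁻¹ * x⁻¹)⁻¹ := by rw [mul_inv_rev, inv_inv]
      rw [e0, hxx]
    have e1 : x⁻¹ * (x * y⁻¹ * x) * x = y⁻¹ * (x * x) := by simp only [mul_assoc, inv_mul_cancel_left]
    rw [e1, hxx', map_mul ρ (x⁻¹ * y⁻¹), hij, map_mul, h.inv_three hx1 hx3, h.inv_three hy1 hy3]
    simp only [mul_add, add_mul, mul_sub, sub_mul, mul_assoc, neg_mul, mul_neg, one_mul, mul_one, ha, hb, ha', hb', hba, hba', neg_neg]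
    abel

end CfsgLib.H3Zas
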