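import Mathlib
import Cfsg.Agent.Lib.H3Zas6

/-!
# The real component of the pure quaternions attached to elements of order three
-/

set_option autoImplicit false
set_option linter.style.haveILetI false

namespace CfsgLib.H3Zas

open Module

universe u v w

section Alg

variable {K : Type u} [Field K] {R : Type v} [Ring R] [Algebra K R] {I J : R}

theorem QP.negl (h : QP I J) : QP (-I) J := ⟨by rw [neg_mul_neg, h.ii], h.jj, by rw [mul_neg, neg_mul, h.ji]⟩
theorem QP.negr (h : QP I J) : QP I (-J) := ⟨h.ii, by rw [neg_mul_neg, h.jj], by rw [mul_neg, neg_mul, h.ji]⟩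
theorem Cm.negl {a : R} (h : Cm I J a) : Cm (-I) J a := ⟨by rw [mul_neg, neg_mul, h.ci], h.cj⟩
theorem Cm.negr {a : R} (h : Cm I J a) : Cm I (-J) a := ⟨h.ci, by rw [mul_neg, neg_mul, h.cj]⟩

include K in
theorem comm_zero (h2 : (2 : K) ≠ 0) (h : QP I J) {a b c d : R} (ha : Cm I J a) (hb : Cm I J b) (hc : Cm I J c) (hd : Cm I J d)
    (h0 : a + I * b + J * c + I * (J * d) = I + J + I * J ∨ a + I * b + J * c + I * (J * d) = -(I + J + I * J)) : a = 0 := by
  rcases h0 with h0 | h0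
  · have h1 : a + I * (b - 1) + J * (c - 1) + I * (J * (d - 1)) = 0 := by
      have : a + I * (b - 1) + J * (c - 1) + I * (J * (d - 1)) = (a + I * b + J * c + I * (J * d)) - (I + J + I * J) := by noncomm_ring
      rw [this, h0, sub_self]
    exact (h.unique h2 ha (hb.sub Cm.one) (hc.sub Cm.one) (hd.sub Cm.one) h1).1
  · have h1 : a + I * (b + 1) + J * (c + 1) + I * (J * (d + 1)) = 0 := by
      have : a + I * (b + 1) + J * (c + 1) + I * (J * (d + 1)) = (a + I * b + J * c + I * (J * d)) + (I + J + I * J) := by noncomm_ring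
      rw [this, h0, neg_add_cancel]
    exact (h.unique h2 ha (hb.add Cm.one) (hc.add Cm.one) (hd.add Cm.one) h1).1

include K in
theorem anti_I (h2 : (2 : K) ≠ 0) (h : QP I J) {a b c d u : R} (ha : Cm I J a) (hb : Cm I J b) (hc : Cm I J c) (hd : Cm I J d)
    (hu : u = a + I * b + J * c + I * (J * d)) (h0 : u * I + I * u = 0) : a = 0 := by
  have h1 : (-(b + b)) + I * (a + a) = 0 := by
    rw [← h0, hu]
    simp only [mul_add, add_mul, mul_assoc, ha.ci, hb.ci, hc.ci, hd.ci, h.ii', h.jj', h.ji', neg_mul, mul_neg, neg_neg]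
    abel
  have h3 := (h.unique2 h2 ((hb.add hb).neg) (ha.add ha) h1).2
  exact two_cancel (K := K) h2 h3

include K in
theorem anti_J (h2 : (2 : K) ≠ 0) (h : QP I J) {a b c d u : R} (ha : Cm I J a) (hb : Cm I J b) (hc : Cm I J c) (hd : Cm I J d)
    (hu : u = a + I * b + J * c + I * (J * d)) (h0 : u * J + J * u = 0) : a = 0 := by
  have h1' : u * J + J * u = (-(c + c)) + I * 0 + J * (a + a) + I * (J * 0) := by
    rw [hu]
    simp only [mul_add, add_mul, mul_assoc, ha.cj, hb.cj, hc.cj, hd.cj, h.ii', h.jj', h.ji', neg_mul, mul_neg, neg_neg, mul_zero, add_zero]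
    abel
  have h1 : (-(c + c)) + I * 0 + J * (a + a) + I * (J * 0) = 0 := by rw [← h1', h0]
  have h3 := (h.unique h2 ((hc.add hc).neg) Cm.zero (ha.add ha) Cm.zero h1).2.2.1
  exact two_cancel (K := K) h2 h3

include K in
theorem comm_IJ (h2 : (2 : K) ≠ 0) (h : QP I J) {a b c d u : R} (ha : Cm I J a) (hb : Cm I J b) (hc : Cm I J c) (hd : Cm I J d)
    (hu : u = a + I * b + J * c + I * (J * d)) (h0 : Cm I J u) : a = u ∧ b = 0 ∧ c = 0 ∧ d = 0 := by
  have h1 : (a - u) + I * b + J * c + I * (J * d) = 0 := by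
    have : (a - u) + I * b + J * c + I * (J * d) = (a + I * b + J * c + I * (J * d)) - u := by abel
    rw [this, ← hu, sub_self]
  obtain ⟨h3, h4⟩ := h.unique h2 (ha.sub h0) hb hc hd h1
  exact ⟨sub_eq_zero.1 h3, h4⟩

theorem comm_i (h : QP I J) {a b c d u : R} (ha : Cm I J a) (hb : Cm I J b) (hc : Cm I J c) (hd : Cm I J d)
    (hu : u = a + I * b + J * c + I * (J * d)) : u * I - I * u = J * (d + d) - I * (J * (c + c)) := by
  rw [hu]
  simp only [mul_add, add_mul, mul_assoc, ha.ci, hb.ci, hc.ci, hd.ci, h.ii', h.jj', h.ji', neg_mul, mul_neg, neg_neg]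
  abel

theorem comm_j (h : QP I J) {a b c d u : R} (ha : Cm I J a) (hb : Cm I J b) (hc : Cm I J c) (hd : Cm I J d)
    (hu : u = a + I * b + J * c + I * (J * d)) : u * J - J * u = I * (J * (b + b)) - I * (d + d) := by
  rw [hu]
  simp only [mul_add, add_mul, mul_assoc, ha.cj, hb.cj, hc.cj, hd.cj, h.ii', h.jj', h.ji', neg_mul, mul_neg, neg_neg]
  abel

theorem comm_k (h : QP I J) {a b c d u : R} (ha : Cm I J a) (hb : Cm I J b) (hc : Cm I J c) (hd : Cm I J d)
    (hu : u = a + I * b + J * c + I * (J * d)) : u * (I * J) - (I * J) * u = I * (c + c) - J * (b + b) := by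
  rw [hu]
  simp only [mul_add, add_mul, mul_assoc, ha.ci', hb.ci', hc.ci', hd.ci', ha.cj, hb.cj, hc.cj, hd.cj, h.ii', h.jj', h.ji', neg_mul, mul_neg, neg_neg]
  abel

end Alg

section Eigen

variable {K : Type u} [Field K] {V : Type v} [AddCommGroup V] [Module K V] [IsAlgClosed K] [FiniteDimensional K V] [Nontrivial V]

theorem common_eigen (S : Set (Module.End K V)) (hS : ∀ f ∈ S, ∀ g ∈ S, f * g = g * f) :
    ∃ v : V, v ≠ 0 ∧ ∀ f ∈ S, ∃ μ : K, f v = μ • v := by
  let P : Set (Submodule K V) := {W | W ≠ ⊥ ∧ ∀ f ∈ S, ∀ w ∈ W, f w ∈ W}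
  have hP : P.Nonempty := ⟨⊤, top_ne_bot, fun _ _ _ _ => Submodule.mem_top⟩
  obtain ⟨W, ⟨hWb, hW⟩, hmin⟩ := WellFounded.has_min (wellFounded_lt (α := Submodule K V)) P hP
  obtain ⟨v, hvW, hv⟩ := W.exists_mem_ne_zero_of_ne_bot hWb
  refine ⟨v, hv, fun f hf => ?_⟩
  haveI : Nontrivial W := Submodule.nontrivial_iff_ne_bot.2 hWb
  obtain ⟨μ, hμ⟩ := Module.End.exists_eigenvalue (f.restrict (hW f hf))
  obtain ⟨w, hw⟩ := hμ.exists_hasEigenvector
  have hw1 : f (w : V) = μ • (w : V) := congrArg Subtype.val hw.apply_eq_smul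
  have hw0 : (w : V) ≠ 0 := fun h0 => hw.2 (Subtype.ext h0)
  have hE : W ⊓ f.eigenspace μ ∈ P := by
    refine ⟨?_, ?_⟩
    · intro h0
      have : (w : V) ∈ W ⊓ f.eigenspace μ := ⟨w.2, Module.End.mem_eigenspace_iff.2 hw1⟩
      rw [h0, Submodule.mem_bot] at this
      exact hw0 this
    · rintro g hg z ⟨hz1, hz2⟩
      refine ⟨hW g hg z hz1, ?_⟩
      rw [SetLike.mem_coe, Module.End.mem_eigenspace_iff] at hz2 ⊢
      have h1 : f (g z) = g (f z) := congrArg (fun f : Module.End K V => f z) (hS f hf g hg)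
      rw [h1, hz2, _root_.map_smul]
  have hEq : W ⊓ f.eigenspace μ = W := by
    by_contra hne
    exact hmin _ hE (lt_of_le_of_ne inf_le_left hne)
  refine ⟨μ, Module.End.mem_eigenspace_iff.1 ?_⟩
  rw [← hEq] at hvW
  exact hvW.2

end Eigen

variable {K : Type u} [Field K] {V : Type v} [AddCommGroup V] [Module K V] {G : Type w} [Group G]
  {ρ : G →* Module.End K V}

theorem QP.invi {i j : G} (hq : QP (ρ i) (ρ j)) : ρ i⁻¹ = -ρ i := by
  have h1 : ρ i⁻¹ * (ρ i * ρ i) = ρ i := by rw [← mul_assoc, Free.map_inv', one_mul]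
  rw [hq.ii, mul_neg, mul_one] at h1
  rw [← h1, neg_neg]

theorem QP.invj {i j : G} (hq : QP (ρ i) (ρ j)) : ρ j⁻¹ = -ρ j := by
  have h1 : ρ j⁻¹ * (ρ j * ρ j) = ρ j := by rw [← mul_assoc, Free.map_inv', one_mul]
  rw [hq.jj, mul_neg, mul_one] at h1
  rw [← h1, neg_neg]

variable [Nontrivial V]

theorem eq_or_inv_of_sq (h : Free ρ) {q t : G} (hq : ρ q * ρ q = -1) (ht : ρ t * ρ t = -1) (hqt : q * t = t * q) : t = q ∨ t = q⁻¹ := by
  by_contra hcon
  push Not at hcon
  obtain ⟨v, hv⟩ := exists_ne (0 : V)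
  have hqi : ρ q⁻¹ = -ρ q := by
    have h1 : ρ q⁻¹ * (ρ q * ρ q) = ρ q := by rw [← mul_assoc, Free.map_inv', one_mul]
    rw [hq, mul_neg, mul_one] at h1
    rw [← h1, neg_neg]
  have h1 : (ρ t - ρ q) * (ρ t - ρ q⁻¹) = 0 := by
    have hc : ρ q * ρ t = ρ t * ρ q := by rw [← map_mul, hqt, map_mul]
    rw [hqi]
    have e : (ρ t - ρ q) * (ρ t - -ρ q) = ρ t * ρ t - ρ q * ρ q + (ρ t * ρ q - ρ q * ρ t) := by noncomm_ring
    rw [e, hq, ht, hc]; abel
  have h2 : (ρ t - ρ q) ((ρ t - ρ q⁻¹) v) = 0 := by rw [← Module.End.mul_apply, h1, LinearMap.zero_apply]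
  by_cases h3 : (ρ t - ρ q⁻¹) v = 0
  · exact hcon.2 (h.eq_of_apply hv (sub_eq_zero.1 (by rwa [LinearMap.sub_apply] at h3)))
  · exact hcon.1 (h.eq_of_apply h3 (sub_eq_zero.1 (by rwa [LinearMap.sub_apply] at h2)))

variable [IsAlgClosed K] [FiniteDimensional K V] [Finite G]

/-- if `w` commutes with `q`, and `q'` anticommutes with `q`, then `q'` commutes with `w` or inverts it -/
theorem comm_or_inv (h : Free ρ) (hn : (Nat.card G : K) ≠ 0) (h2 : (2 : K) ≠ 0) {q r w : G} (hq : QP (ρ q) (ρ r)) (hw1 : w ≠ 1) (hw3 : w ^ 3 = 1)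
    (hqw : q * w = w * q) : r⁻¹ * w * r = w ∨ r⁻¹ * w * r = w⁻¹ := by
  have hrq : r⁻¹ * q * r = q⁻¹ := by
    apply h.injective
    rw [map_mul, map_mul, hq.invj, hq.invi, neg_mul, neg_mul, hq.ji, neg_mul, neg_neg, mul_assoc, hq.jj, mul_neg, mul_one]
  have hcw : q * (r⁻¹ * w * r) = (r⁻¹ * w * r) * q := by
    have hrq' : r * q * r⁻¹ = q⁻¹ := by
      calc r * q * r⁻¹ = (r * q⁻¹ * r⁻¹)⁻¹ := by group
        _ = (r * (r⁻¹ * q * r) * r⁻¹)⁻¹ := by rw [hrq]
        _ = q⁻¹ := by group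
    have e1 : q * (r⁻¹ * w * r) = r⁻¹ * ((r * q * r⁻¹) * w) * r := by group
    have e2 : (r⁻¹ * w * r) * q = r⁻¹ * (w * (r * q * r⁻¹)) * r := by group
    rw [e1, e2, hrq']
    congr 2
    have : q⁻¹ * w = q⁻¹ * (w * q) * q⁻¹ := by group
    rw [this, ← hqw]; group
  have hw1' : r⁻¹ * w * r ≠ 1 := by
    intro h1
    apply hw1
    have : w = r * (r⁻¹ * w * r) * r⁻¹ := by group
    rw [this, h1]; group
  have hw3' : (r⁻¹ * w * r) ^ 3 = 1 := by
    have := conj_pow (i := 3) (a := r⁻¹) (b := w)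
    rw [inv_inv] at this
    rw [this, hw3]; group
  apply comm3 h hw1 hw1' hw3 hw3'
  by_contra hne
  obtain ⟨z, hz, hz1, hz3, hz0⟩ := exists_zero_pair h hn hw3 hw3' hne
  obtain ⟨i, j, hi, hj, hij, -, -, -⟩ := exists_quat h hw1 hw3 hz1 hz3 hz0
  have hle : Subgroup.closure {w, z} ≤ Subgroup.centralizer {q} := by
    have hle1 : Subgroup.closure {w, r⁻¹ * w * r} ≤ Subgroup.centralizer {q} := by
      rw [Subgroup.closure_le]
      rintro g (rfl | rfl)
      · rw [SetLike.mem_coe, Subgroup.mem_centralizer_singleton_iff]; exact hqw.symm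
      · rw [SetLike.mem_coe, Subgroup.mem_centralizer_singleton_iff]; exact hcw.symm
    rw [Subgroup.closure_le]
    rintro g (rfl | rfl)
    · rw [SetLike.mem_coe, Subgroup.mem_centralizer_singleton_iff]; exact hqw.symm
    · exact hle1 hz
  have hqi : q * i = i * q := (Subgroup.mem_centralizer_singleton_iff.1 (hle hi)).symm
  have hqj : q * j = j * q := (Subgroup.mem_centralizer_singleton_iff.1 (hle hj)).symm
  have hic := eq_or_inv_of_sq h hq.ii hij.ii hqi
  have hjc := eq_or_inv_of_sq h hq.ii hij.jj hqj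
  have hcomm : j * i = i * j := by
    rcases hic with rfl | rfl <;> rcases hjc with rfl | rfl <;> group
  have h3 := hij.ji
  rw [← map_mul, hcomm, map_mul] at h3
  have h4 : ρ i * ρ j = 0 := by
    apply two_cancel (K := K) h2
    nth_rewrite 1 [h3]
    rw [neg_add_cancel]
  have h5 := hij.ii' (ρ j)
  rw [h4, mul_zero] at h5
  have hj0 : ρ j = 0 := neg_eq_zero.1 h5.symm
  have h6 : ρ j * ρ j = 0 := by rw [hj0, mul_zero]
  rw [hij.jj] at h6
  exact neg_ne_zero.2 one_ne_zero h6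


/-- averaging: a nilpotent element in the image of the group algebra annihilated by enough elements vanishes -/
theorem avg_zero (hn : (Nat.card G : K) ≠ 0) {a : Module.End K V} (h0 : a * a = 0)
    (hker : ∀ g : G, ∀ v, a v = 0 → a (ρ g v) = 0)
    (hcomm : ∀ p : Module.End K V, (∀ g : G, p * ρ g = ρ g * p) → p * a = a * p) : a = 0 := by
  classical
  haveI : Fintype G := Fintype.ofFinite G
  obtain ⟨W, hW⟩ := Submodule.exists_isCompl (LinearMap.ker a)
  let p : Module.End K V := (LinearMap.ker a).projection W hW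
  have hp1 : ∀ v, a (p v) = 0 := fun v => (LinearMap.mem_ker).1 (Submodule.projection_apply_mem hW v)
  have hp2 : ∀ v, a v = 0 → p v = v := fun v hv => Submodule.projection_apply_left hW ⟨v, LinearMap.mem_ker.2 hv⟩
  let P : Module.End K V := ∑ g : G, ρ g * p * ρ g⁻¹
  have hP : ∀ k : G, P * ρ k = ρ k * P := by
    intro k
    change (∑ g : G, ρ g * p * ρ g⁻¹) * ρ k = ρ k * (∑ g : G, ρ g * p * ρ g⁻¹)
    rw [Finset.sum_mul, Finset.mul_sum, ← Equiv.sum_comp (Equiv.mulLeft k)]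
    refine Finset.sum_congr rfl fun g _ => ?_
    rw [Equiv.coe_mulLeft, mul_inv_rev, map_mul, map_mul]
    simp only [mul_assoc]
    rw [Free.map_inv', mul_one]
  have h1 : a * P = 0 := by
    refine LinearMap.ext fun v => ?_
    change a ((∑ g : G, ρ g * p * ρ g⁻¹) v) = 0
    rw [LinearMap.sum_apply, map_sum]
    refine Finset.sum_eq_zero fun g _ => ?_
    rw [Module.End.mul_apply, Module.End.mul_apply]
    exact hker g _ (hp1 _)
  have h2 : P * a = (Nat.card G : K) • a := by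
    refine LinearMap.ext fun v => ?_
    change (∑ g : G, ρ g * p * ρ g⁻¹) (a v) = _
    rw [LinearMap.sum_apply]
    have h3 : ∀ g ∈ (Finset.univ : Finset G), (ρ g * p * ρ g⁻¹) (a v) = a v := by
      intro g _
      rw [Module.End.mul_apply, Module.End.mul_apply, hp2 _ (hker g⁻¹ _ (by rw [← Module.End.mul_apply, h0, LinearMap.zero_apply])),
        ← Module.End.mul_apply, Free.map_inv, Module.End.one_apply]
    rw [Finset.sum_congr rfl h3, Finset.sum_const, Finset.card_univ, ← Nat.card_eq_fintype_card, LinearMap.smul_apply, Nat.cast_smul_eq_nsmul]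
  have h3 : (Nat.card G : K) • a = 0 := by rw [← h2, hcomm P hP, h1]
  exact (smul_eq_zero.1 h3).resolve_left hn

end CfsgLib.H3Zas
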