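import Mathlib
import Cfsg.Agent.Lib.H3Zas7

/-!
# The real component vanishes
-/

set_option autoImplicit false
set_option linter.style.haveILetI false

namespace CfsgLib.H3Zas

open Module

universe u v w

variable {K : Type u} [Field K] {V : Type v} [AddCommGroup V] [Module K V] {G : Type w} [Group G]
  {ρ : G →* Module.End K V}

theorem conj_j {x j : G} {I : Module.End K V} (hq : QP I (ρ j)) {J : Module.End K V} (hJ : ρ j = J)
    (hU : U ρ x = I + J + I * J) : U ρ (j⁻¹ * x * j) = -I + J + -I * J := by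
  have hjj : ρ j⁻¹ = -J := by
    have h1 : ρ j⁻¹ * (ρ j * ρ j) = ρ j := by rw [← mul_assoc, Free.map_inv', one_mul]
    rw [hq.jj, mul_neg, mul_one] at h1
    rw [← hJ, ← h1, neg_neg]
  rw [hJ] at hq
  rw [U_conj, hU, hjj, hJ]
  simp only [mul_add, add_mul, mul_assoc, hq.jj, hq.jj', hq.ji', hq.ji, neg_mul, mul_neg, neg_neg, mul_one, one_mul]

theorem conj_i {x i : G} {J : Module.End K V} (hq : QP (ρ i) J) {I : Module.End K V} (hI : ρ i = I)
    (hU : U ρ x = I + J + I * J) : U ρ (i⁻¹ * x * i) = I + -J + I * -J := by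
  have hii : ρ i⁻¹ = -I := by
    have h1 : ρ i⁻¹ * (ρ i * ρ i) = ρ i := by rw [← mul_assoc, Free.map_inv', one_mul]
    rw [hq.ii, mul_neg, mul_one] at h1
    rw [← hI, ← h1, neg_neg]
  rw [hI] at hq
  rw [U_conj, hU, hii, hI]
  simp only [mul_add, add_mul, mul_assoc, hq.ii, hq.ii', hq.ji', hq.ji, neg_mul, mul_neg, neg_neg, mul_one, one_mul]

theorem conj_ne_one {x g : G} (hx : x ≠ 1) : g⁻¹ * x * g ≠ 1 := by
  intro h1
  apply hx
  have : x = g * (g⁻¹ * x * g) * g⁻¹ := by group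
  rw [this, h1]; group

theorem conj_three {x g : G} (hx : x ^ 3 = 1) : (g⁻¹ * x * g) ^ 3 = 1 := by
  have := conj_pow (i := 3) (a := g⁻¹) (b := x)
  rw [inv_inv] at this
  rw [this, hx]; group

variable [Nontrivial V]

theorem pattern_comm (h : Free ρ) (h2 : (2 : K) ≠ 0) {x w : G} (hx1 : x ≠ 1) (hx3 : x ^ 3 = 1) (hw1 : w ≠ 1) (hw3 : w ^ 3 = 1)
    {I J : Module.End K V} (hq : QP I J) (hU : U ρ x = I + J + I * J) {a b c d : Module.End K V} (ha : Cm I J a) (hb : Cm I J b)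
    (hc : Cm I J c) (hd : Cm I J d) (hw : U ρ w = a + I * b + J * c + I * (J * d)) (hne : x * w = w * x) : a = 0 := by
  refine comm_zero h2 hq ha hb hc hd ?_
  rw [← hw, ← hU]
  rcases comm3 h hx1 hw1 hx3 hw3 hne with rfl | rfl
  · exact Or.inl rfl
  · exact Or.inr (U_inv h hx1 hx3)

variable [IsAlgClosed K] [FiniteDimensional K V] [Finite G]

theorem pattern (h : Free ρ) (hn : (Nat.card G : K) ≠ 0) (h2 : (2 : K) ≠ 0) {x w : G} (hx3 : x ^ 3 = 1) (hw3 : w ^ 3 = 1)
    {I J : Module.End K V} (hq : QP I J) (hU : U ρ x = I + J + I * J) {a b c d : Module.End K V} (ha : Cm I J a) (hb : Cm I J b)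
    (hc : Cm I J c) (hd : Cm I J d) (hw : U ρ w = a + I * b + J * c + I * (J * d)) (hne : x * w ≠ w * x) :
    ∃ n : K, (n = 1 ∨ n = 5) ∧ a * (b + c + d) + (b + c + d) * a = 0 ∧ (b + c + d) * (b + c + d) = n • 1 + (3 : K) • (a * a) := by
  obtain ⟨n, hn5, h0⟩ := anti_pair h hn hx3 hw3 hne
  rw [hU, hw] at h0
  exact ⟨n, hn5, hq.anti_sq h2 ha hb hc hd h0⟩

theorem both_comm (h2 : (2 : K) ≠ 0) (h : Free ρ) {w : G} (hw1 : w ≠ 1) (hw3 : w ^ 3 = 1)
    {I J : Module.End K V} (hq : QP I J) {a b c d : Module.End K V} (ha : Cm I J a) (hb : Cm I J b)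
    (hc : Cm I J c) (hd : Cm I J d) (hw : U ρ w = a + I * b + J * c + I * (J * d)) (hC : Cm I J (ρ w)) {n : K} (hn : n = 1 ∨ n = 5)
    (h1 : (b + c + d) * (b + c + d) = n • 1 + (3 : K) • (a * a)) : False := by
  have hCU : Cm I J (U ρ w) := (hC.add hC).add Cm.one
  obtain ⟨h3, h4, h5, h6⟩ := comm_IJ h2 hq ha hb hc hd hw hCU
  rw [h3, h4, h5, h6, U_sq h hw1 hw3, add_zero, add_zero, mul_zero, smul_smul, ← add_smul] at h1
  have h7 : n + 3 * -3 = 0 := (smul_eq_zero.1 h1.symm).resolve_right one_ne_zero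
  have h8 : (8 : K) ≠ 0 := by
    have : (8 : K) = 2 * 2 * 2 := by norm_num
    rw [this]; exact mul_ne_zero (mul_ne_zero h2 h2) h2
  have h4' : (4 : K) ≠ 0 := by
    have : (4 : K) = 2 * 2 := by norm_num
    rw [this]; exact mul_ne_zero h2 h2
  rcases hn with rfl | rfl
  · exact h8 (by linear_combination -h7)
  · exact h4' (by linear_combination -h7)

theorem step3 (h : Free ρ) (hn : (Nat.card G : K) ≠ 0) (h2 : (2 : K) ≠ 0) {x i j w : G} (hx1 : x ≠ 1) (hx3 : x ^ 3 = 1)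
    (hw1 : w ≠ 1) (hw3 : w ^ 3 = 1) (hq : QP (ρ i) (ρ j)) (hU : U ρ x = ρ i + ρ j + ρ i * ρ j) {a b c d : Module.End K V}
    (ha : Cm (ρ i) (ρ j) a) (hb : Cm (ρ i) (ρ j) b) (hc : Cm (ρ i) (ρ j) c) (hd : Cm (ρ i) (ρ j) d)
    (hw : U ρ w = a + ρ i * b + ρ j * c + ρ i * (ρ j * d)) : a * a = 0 ∧ a * U ρ w + U ρ w * a = 0 := by
  by_cases hc1 : x * w = w * x
  · rw [pattern_comm h h2 hx1 hx3 hw1 hw3 hq hU ha hb hc hd hw hc1]; simp
  have hw' : U ρ w = a + (-ρ i) * (-b) + ρ j * c + (-ρ i) * (ρ j * (-d)) := by rw [hw]; noncomm_ring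
  by_cases hc2 : (j⁻¹ * x * j) * w = w * (j⁻¹ * x * j)
  · rw [pattern_comm h h2 (conj_ne_one hx1) (conj_three hx3) hw1 hw3 hq.negl (conj_j hq rfl hU) ha.negl hb.neg.negl hc.negl hd.neg.negl hw' hc2]; simp
  have hw'' : U ρ w = a + (ρ i) * b + (-ρ j) * (-c) + ρ i * ((-ρ j) * (-d)) := by rw [hw]; noncomm_ring
  by_cases hc3 : (i⁻¹ * x * i) * w = w * (i⁻¹ * x * i)
  · rw [pattern_comm h h2 (conj_ne_one hx1) (conj_three hx3) hw1 hw3 hq.negr (conj_i hq rfl hU) ha.negr hb.negr hc.neg.negr hd.neg.negr hw'' hc3]; simp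
  have hw''' : U ρ w = a + (-ρ i) * (-b) + (-ρ j) * (-c) + (-ρ i) * ((-ρ j) * d) := by rw [hw]; noncomm_ring
  have hU4 : U ρ (j⁻¹ * (i⁻¹ * x * i) * j) = -ρ i + -ρ j + -ρ i * -ρ j := by
    rw [U_conj, conj_i hq rfl hU, hq.invj]
    simp only [mul_add, add_mul, mul_assoc, hq.jj, hq.jj', hq.ji', hq.ji, neg_mul, mul_neg, neg_neg, mul_one, one_mul]
  by_cases hc4 : (j⁻¹ * (i⁻¹ * x * i) * j) * w = w * (j⁻¹ * (i⁻¹ * x * i) * j)
  · rw [pattern_comm h h2 (conj_ne_one (conj_ne_one hx1)) (conj_three (conj_three hx3)) hw1 hw3 hq.negl.negr hU4 ha.negl.negr hb.neg.negl.negr hc.neg.negl.negr hd.negl.negr hw''' hc4]; simp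
  obtain ⟨n1, hn1, s1, q1⟩ := pattern h hn h2 hx3 hw3 hq hU ha hb hc hd hw hc1
  obtain ⟨n2, hn2, s2, q2⟩ := pattern h hn h2 (conj_three hx3) hw3 hq.negl (conj_j hq rfl hU) ha.negl hb.neg.negl hc.negl hd.neg.negl hw' hc2
  obtain ⟨n3, hn3, s3, q3⟩ := pattern h hn h2 (conj_three hx3) hw3 hq.negr (conj_i hq rfl hU) ha.negr hb.negr hc.neg.negr hd.neg.negr hw'' hc3
  obtain ⟨n4, hn4, s4, q4⟩ := pattern h hn h2 (conj_three (conj_three hx3)) hw3 hq.negl.negr hU4 ha.negl.negr hb.neg.negl.negr hc.neg.negl.negr hd.negl.negr hw''' hc4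
  have hab : a * b + b * a = 0 := by
    apply two_cancel (K := K) h2
    have : a * b + b * a + (a * b + b * a) = (a * (b + c + d) + (b + c + d) * a) + (a * (b + -c + -d) + (b + -c + -d) * a) := by noncomm_ring
    rw [this, s1, s3, add_zero]
  have hac : a * c + c * a = 0 := by
    apply two_cancel (K := K) h2
    have : a * c + c * a + (a * c + c * a) = (a * (b + c + d) + (b + c + d) * a) + (a * (-b + c + -d) + (-b + c + -d) * a) := by noncomm_ring
    rw [this, s1, s2, add_zero]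
  have had : a * d + d * a = 0 := by
    apply two_cancel (K := K) h2
    have : a * d + d * a + (a * d + d * a) = (a * (b + c + d) + (b + c + d) * a) + (a * (-b + -c + d) + (-b + -c + d) * a) := by noncomm_ring
    rw [this, s1, s4, add_zero]
  have hU3 := U_sq h hw1 hw3
  rw [hw] at hU3
  obtain ⟨q0, hcd, hdb, hbc⟩ := hq.sq h2 ha hb hc hd hU3
  rw [hab, zero_add, sub_eq_zero] at hcd
  rw [hac, zero_add, sub_eq_zero] at hdb
  rw [had, zero_add, sub_eq_zero] at hbc
  have hred : a * a = 0 → a * a = 0 ∧ a * U ρ w + U ρ w * a = 0 := by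
    intro h0
    refine ⟨h0, ?_⟩
    have e : a * U ρ w + U ρ w * a = (a * a + a * a) + ρ i * (a * b + b * a) + ρ j * (a * c + c * a) + ρ i * (ρ j * (a * d + d * a)) := by
      rw [hw]
      simp only [mul_add, add_mul, mul_assoc, ha.ci', ha.cj']
      abel
    rw [e, h0, hab, hac, had]; simp
  have h8 : (8 : K) ≠ 0 := by
    have : (8 : K) = 2 * 2 * 2 := by norm_num
    rw [this]; exact mul_ne_zero (mul_ne_zero h2 h2) h2
  obtain ⟨k, hk⟩ : ∃ k : K, a * a = k • 1 := by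
    refine ⟨8⁻¹ * (12 - (n1 + n2 + n3 + n4)), ?_⟩
    have h3 : (8 : K) • (a * a) = (12 - (n1 + n2 + n3 + n4)) • 1 := by
      have e : (b + c + d) * (b + c + d) + (-b + c + -d) * (-b + c + -d) + (b + -c + -d) * (b + -c + -d) + (-b + -c + d) * (-b + -c + d) =
          (4 : K) • (a * a) - (4 : K) • (a * a - b * b - c * c - d * d) := by
        have e4 : (4 : K) = 1 + 1 + 1 + 1 := by norm_num
        rw [e4]
        simp only [add_smul, one_smul]
        noncomm_ring
      rw [q1, q2, q3, q4, q0] at e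
      linear_combination (norm := module) e
    rw [mul_smul, ← h3, smul_smul, inv_mul_cancel₀ h8, one_smul]
  obtain ⟨v, hv, hev⟩ := common_eigen ({b, c, d} : Set (Module.End K V)) (by
    rintro f (rfl | rfl | rfl) g (rfl | rfl | rfl) <;> simp only [hcd, hdb, hbc])
  obtain ⟨β, hβ⟩ := hev b (by simp)
  obtain ⟨γ, hγ⟩ := hev c (by simp)
  obtain ⟨δ, hδ⟩ := hev d (by simp)
  have ev : ∀ {f : Module.End K V} {m : K}, f * f = m • 1 → ∀ {μ : K}, f v = μ • v → μ * μ = m := by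
    intro f m hf μ hμ
    have h1 : (f * f) v = (m • (1 : Module.End K V)) v := by rw [hf]
    rw [Module.End.mul_apply, hμ, _root_.map_smul, hμ, smul_smul, LinearMap.smul_apply, Module.End.one_apply] at h1
    exact smul_left_injective K hv h1
  have hs : ∀ (n : K), n • (1 : Module.End K V) + (3 : K) • (a * a) = (n + 3 * k) • 1 := by
    intro n
    rw [hk, smul_smul, ← add_smul]
  rw [hs] at q1 q2 q3 q4
  have r1 := ev q1 (μ := β + γ + δ) (by rw [LinearMap.add_apply, LinearMap.add_apply, hβ, hγ, hδ]; module)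
  have r2 := ev q2 (μ := -β + γ + -δ) (by rw [LinearMap.add_apply, LinearMap.add_apply, LinearMap.neg_apply, LinearMap.neg_apply, hβ, hγ, hδ]; module)
  have r3 := ev q3 (μ := β + -γ + -δ) (by rw [LinearMap.add_apply, LinearMap.add_apply, LinearMap.neg_apply, LinearMap.neg_apply, hβ, hγ, hδ]; module)
  have r4 := ev q4 (μ := -β + -γ + δ) (by rw [LinearMap.add_apply, LinearMap.add_apply, LinearMap.neg_apply, LinearMap.neg_apply, hβ, hγ, hδ]; module)
  have r0 : k - β * β - γ * γ - δ * δ = -3 := by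
    have h1 : (a * a - b * b - c * c - d * d) v = ((-3 : K) • (1 : Module.End K V)) v := by rw [q0]
    rw [hk] at h1
    simp only [LinearMap.sub_apply, LinearMap.smul_apply, Module.End.one_apply, Module.End.mul_apply, hβ, hγ, hδ, _root_.map_smul, smul_smul, ← sub_smul] at h1
    exact smul_left_injective K hv h1
  have hfin : ∀ {y : G}, U ρ w * ρ y = -(ρ y * U ρ w) → U ρ w * ρ y + ρ y * U ρ w = 0 := by
    intro y hy
    rw [hy, neg_add_cancel]
  have hpt : ∀ {y : G}, (U ρ w * ρ y - ρ y * U ρ w) v = 0 → y * w = w * y := by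
    intro y hy
    refine h.eq_of_apply hv ?_
    have e : U ρ w * ρ y - ρ y * U ρ w = (ρ w * ρ y - ρ y * ρ w) + (ρ w * ρ y - ρ y * ρ w) := by rw [U]; noncomm_ring
    rw [e, LinearMap.add_apply, ← two_smul K] at hy
    have h1 := (smul_eq_zero.1 hy).resolve_left h2
    rw [LinearMap.sub_apply, sub_eq_zero] at h1
    rw [map_mul, map_mul, h1]
  have hanti : ∀ {r : G}, r⁻¹ * w * r = w⁻¹ → U ρ w * ρ r + ρ r * U ρ w = 0 := by
    intro r hr
    have h1 := U_conj (ρ := ρ) r w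
    rw [hr, U_inv h hw1 hw3] at h1
    have h3 : ρ r * (ρ r⁻¹ * U ρ w * ρ r) = U ρ w * ρ r := by rw [← mul_assoc, ← mul_assoc, Free.map_inv, one_mul]
    rw [← h3, ← h1, mul_neg, neg_add_cancel]
  have hcommr : ∀ {r : G}, r⁻¹ * w * r = w → w * r = r * w := by
    intro r hr
    calc w * r = r * (r⁻¹ * w * r) := by group
      _ = r * w := by rw [hr]
  rcases field_cases h2 hn1 hn2 hn3 hn4 r1 r2 r3 r4 r0 with hk0 | ⟨hγ0, hδ0⟩ | ⟨hβ0, hδ0⟩ | ⟨hβ0, hγ0⟩
  · exact hred (by rw [hk, hk0, zero_smul])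
  · rw [hγ0, zero_smul] at hγ
    rw [hδ0, zero_smul] at hδ
    have hiw := hpt (y := i) (by
      rw [comm_i hq ha hb hc hd hw]
      simp only [LinearMap.sub_apply, Module.End.mul_apply, LinearMap.add_apply, hγ, hδ, add_zero, map_zero, sub_zero])
    rcases comm_or_inv h hn h2 hq hw1 hw3 hiw with hr | hr
    · exact (both_comm h2 h hw1 hw3 hq ha hb hc hd hw ⟨by rw [← map_mul, ← hiw, map_mul], by rw [← map_mul, hcommr hr, map_mul]⟩ hn1
        (q1.trans (hs n1).symm)).elim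
    · exact hred (by rw [anti_J h2 hq ha hb hc hd hw (hanti hr), mul_zero])
  · rw [hβ0, zero_smul] at hβ
    rw [hδ0, zero_smul] at hδ
    have hjw := hpt (y := j) (by
      rw [comm_j hq ha hb hc hd hw]
      simp only [LinearMap.sub_apply, Module.End.mul_apply, LinearMap.add_apply, hβ, hδ, add_zero, map_zero, sub_zero])
    have hq' : QP (ρ j) (ρ i) := ⟨hq.jj, hq.ii, by rw [hq.ji, neg_neg]⟩
    rcases comm_or_inv h hn h2 hq' hw1 hw3 hjw with hr | hr
    · exact (both_comm h2 h hw1 hw3 hq ha hb hc hd hw ⟨by rw [← map_mul, hcommr hr, map_mul], by rw [← map_mul, ← hjw, map_mul]⟩ hn1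
        (q1.trans (hs n1).symm)).elim
    · exact hred (by rw [anti_I h2 hq ha hb hc hd hw (hanti hr), mul_zero])
  · rw [hβ0, zero_smul] at hβ
    rw [hγ0, zero_smul] at hγ
    have hkw := hpt (y := i * j) (by
      rw [map_mul, comm_k hq ha hb hc hd hw]
      simp only [LinearMap.sub_apply, Module.End.mul_apply, LinearMap.add_apply, hβ, hγ, add_zero, map_zero, sub_zero])
    have hq' : QP (ρ (i * j)) (ρ i) := by
      rw [map_mul]
      exact ⟨by simp only [mul_assoc, hq.ji', hq.jj, hq.ii', mul_neg, mul_one, neg_neg, hq.ii], hq.ii, by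
        simp only [mul_assoc, hq.ji, hq.ii', mul_neg, neg_neg]⟩
    rcases comm_or_inv h hn h2 hq' hw1 hw3 hkw with hr | hr
    · have hwi := hcommr hr
      have hwj : w * j = j * w := by
        calc w * j = i⁻¹ * (i * w) * j := by group
          _ = i⁻¹ * (w * (i * j)) := by rw [← hwi]; group
          _ = i⁻¹ * ((i * j) * w) := by rw [hkw]
          _ = j * w := by group
      exact (both_comm h2 h hw1 hw3 hq ha hb hc hd hw ⟨by rw [← map_mul, hwi, map_mul], by rw [← map_mul, hwj, map_mul]⟩ hn1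
        (q1.trans (hs n1).symm)).elim
    · exact hred (by rw [anti_I h2 hq ha hb hc hd hw (hanti hr), mul_zero])

end CfsgLib.H3Zas
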