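import Mathlib
import Cfsg.Agent.Lib.H3Zas8

/-!
# The two-dimensional invariant subspace of the group generated by the elements of order three
-/

set_option autoImplicit false
set_option linter.style.haveILetI false

namespace CfsgLib.H3Zas

open Module

universe u v w

section Alg

variable {K : Type u} [Field K] {R : Type v} [Ring R] [Algebra K R] {I J : R}

theorem four_a (h : QP I J) {a b c d u : R} (ha : Cm I J a) (hb : Cm I J b) (hc : Cm I J c) (hd : Cm I J d)
    (hu : u = a + I * b + J * c + I * (J * d)) : u - I * u * I - J * u * J - (I * J) * u * (I * J) = a + a + a + a := by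
  rw [hu]
  simp only [mul_add, add_mul, mul_assoc, ha.ci, hb.ci, hc.ci, hd.ci, ha.cj, hb.cj, hc.cj, hd.cj, ha.ci', hb.ci', hc.ci', hd.ci',
    ha.cj', hb.cj', hc.cj', hd.cj', h.ii', h.jj', h.ji', neg_mul, mul_neg, neg_neg]
  abel

include K in
theorem real_unique (h2 : (2 : K) ≠ 0) (h : QP I J) {a b c d a' b' c' d' u : R} (ha : Cm I J a) (hb : Cm I J b) (hc : Cm I J c) (hd : Cm I J d)
    (ha' : Cm I J a') (hb' : Cm I J b') (hc' : Cm I J c') (hd' : Cm I J d')
    (hu : u = a + I * b + J * c + I * (J * d)) (hu' : u = a' + I * b' + J * c' + I * (J * d')) : a = a' := by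
  have h1 : (a - a') + I * (b - b') + J * (c - c') + I * (J * (d - d')) = 0 := by
    have e : (a - a') + I * (b - b') + J * (c - c') + I * (J * (d - d')) = (a + I * b + J * c + I * (J * d)) - (a' + I * b' + J * c' + I * (J * d')) := by
      noncomm_ring
    rw [e, ← hu, ← hu', sub_self]
  exact sub_eq_zero.1 (h.unique h2 (ha.sub ha') (hb.sub hb') (hc.sub hc') (hd.sub hd') h1).1

end Alg

variable {K : Type u} [Field K] {V : Type v} [AddCommGroup V] [Module K V] {G : Type w} [Group G]
  {ρ : G →* Module.End K V}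

theorem two_ne_gen [IsAlgClosed K] [FiniteDimensional K V] [Nontrivial V] [Finite G] (h : Free ρ) (hn : (Nat.card G : K) ≠ 0)
    {x y : G} (hgen : Subgroup.closure {x, y} = ⊤) (hx3 : x ^ 3 = 1) (hy3 : y ^ 3 = 1) (hxy : x * y ≠ y * x) : (2 : K) ≠ 0 := by
  have hx1 : x ≠ 1 := by rintro rfl; exact hxy (by rw [one_mul, mul_one])
  have hy1 : y ≠ 1 := by rintro rfl; exact hxy (by rw [one_mul, mul_one])
  have ha := sq_of (h.three hx1 hx3)
  have hb := sq_of (h.three hy1 hy3)
  obtain ⟨W, γ, hWb, hWa, hWb', hWd, hWc⟩ := exists_W ha hb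
  have hW : ∀ g, ∀ w ∈ W, ρ g w ∈ W := by
    intro g
    refine inv_of_closure hgen W ?_ g
    intro g hg
    rcases hg with rfl | hg
    · exact hWa
    · rw [Set.mem_singleton_iff] at hg
      rw [hg]; exact hWb'
  haveI : Nontrivial W := (Submodule.nontrivial_iff_ne_bot).2 hWb
  have hfW := h.restr W hW
  have hpos : 0 < finrank K W := finrank_pos
  have hcases : finrank K W = 1 ∨ finrank K W = 2 := by omega
  rcases hcases with hd | hd
  · exfalso
    obtain ⟨w, hw⟩ := exists_ne (0 : W)
    have h1 := (finrank_eq_one_iff_of_nonzero' w hw).1 hd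
    obtain ⟨c, hc'⟩ := h1 (restr ρ W hW y w)
    apply hxy
    symm
    apply hfW.central_of_scalar (c := c)
    refine LinearMap.ext fun v => ?_
    obtain ⟨d, rfl⟩ := h1 v
    rw [_root_.map_smul, ← hc', LinearMap.smul_apply, Module.End.one_apply, smul_comm]
  · have hev : ∀ {Q : Type} [Group Q] [Finite Q] (f : G →* Q), Function.Surjective f → 2 ∣ Nat.card Q → (2 : K) ≠ 0 := by
      intro Q _ _ f hf h2 h0
      apply hn
      obtain ⟨m, hm⟩ := h2.trans (Subgroup.card_dvd_of_surjective f hf)
      rw [hm, Nat.cast_mul, Nat.cast_ofNat, h0, zero_mul]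
    rcases tame2 hfW hd hn with h1 | ⟨n, f, hfs, hfk⟩ | ⟨f, hfs, hfk⟩ | ⟨f, hfs, hfk⟩ | ⟨f, hfs, hfk⟩
    · exact absurd (h1 x y) hxy
    · exfalso
      have h1 : (rot n).comap f = ⊤ := by
        rw [eq_top_iff, ← hgen, Subgroup.closure_le]
        rintro g (rfl | hg)
        · exact dih_cube _ (by rw [← map_pow, hx3, map_one])
        · rw [Set.mem_singleton_iff] at hg
          rw [hg]; exact dih_cube _ (by rw [← map_pow, hy3, map_one])
      obtain ⟨g, hg⟩ := hfs (DihedralGroup.sr 0)
      have h2 : g ∈ (rot n).comap f := h1 ▸ Subgroup.mem_top g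
      obtain ⟨i, hi⟩ := h2
      rw [hg] at hi
      cases hi
    · exact hev f hfs (by rw [nat_card_alternatingGroup, Nat.card_fin]; decide)
    · exact hev f hfs (by rw [Nat.card_perm, Nat.card_fin]; decide)
    · exact hev f hfs (by rw [nat_card_alternatingGroup, Nat.card_fin]; decide)

variable [IsAlgClosed K] [FiniteDimensional K V] [Nontrivial V] [Finite G]

theorem two_ne (h : Free ρ) (hn : (Nat.card G : K) ≠ 0)
    {x y : G} (hx3 : x ^ 3 = 1) (hy3 : y ^ 3 = 1) (hxy : x * y ≠ y * x) : (2 : K) ≠ 0 := by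
  have hxH : x ∈ Subgroup.closure {x, y} := Subgroup.subset_closure (by simp)
  have hyH : y ∈ Subgroup.closure {x, y} := Subgroup.subset_closure (by simp)
  have hgen : Subgroup.closure {(⟨x, hxH⟩ : Subgroup.closure {x, y}), ⟨y, hyH⟩} = ⊤ := by
    have h1 := Subgroup.closure_closure_coe_preimage (k := ({x, y} : Set G))
    rw [← h1]
    congr 1
    ext ⟨g, hg⟩
    simp only [Set.mem_insert_iff, Set.mem_singleton_iff, Set.mem_preimage, Subtype.mk.injEq]
  exact two_ne_gen (ρ := ρ.comp (Subgroup.closure {x, y}).subtype) (h.comp _ (Subgroup.subtype_injective _))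
    (card_ne_zero_of_dvd hn (Subgroup.card_subgroup_dvd_card _)) hgen (Subtype.ext hx3) (Subtype.ext hy3)
    (fun h1 => hxy (congrArg Subtype.val h1))

theorem real_zero (h : Free ρ) (hn : (Nat.card G : K) ≠ 0) (h2 : (2 : K) ≠ 0) {x i j w : G} (hx1 : x ≠ 1) (hx3 : x ^ 3 = 1)
    (hw1 : w ≠ 1) (hw3 : w ^ 3 = 1) (hq : QP (ρ i) (ρ j)) (hU : U ρ x = ρ i + ρ j + ρ i * ρ j) {a b c d : Module.End K V}
    (ha : Cm (ρ i) (ρ j) a) (hb : Cm (ρ i) (ρ j) b) (hc : Cm (ρ i) (ρ j) c) (hd : Cm (ρ i) (ρ j) d)
    (hw : U ρ w = a + ρ i * b + ρ j * c + ρ i * (ρ j * d)) : a = 0 := by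
  obtain ⟨h0, hanti⟩ := step3 h hn h2 hx1 hx3 hw1 hw3 hq hU ha hb hc hd hw
  have h4 := four_a hq ha hb hc hd hw
  have hgen := Subgroup.closure_closure_coe_preimage (k := ({w, i, j} : Set G))
  refine avg_zero (ρ := ρ.comp (Subgroup.closure ({w, i, j} : Set G)).subtype)
    (card_ne_zero_of_dvd hn (Subgroup.card_subgroup_dvd_card _)) h0 ?_ ?_
  · intro g v hv
    have h3 := inv_of_closure (ρ := ρ.comp (Subgroup.closure ({w, i, j} : Set G)).subtype) hgen (LinearMap.ker a) (by
      rintro ⟨g, hg⟩ hgS z hz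
      rw [LinearMap.mem_ker] at hz ⊢
      change a (ρ g z) = 0
      rcases hgS with hg1 | hg1 | hg1
      · have hgw : g = w := hg1
        rw [hgw]
        have h5 : (a * U ρ w + U ρ w * a) z = 0 := by rw [hanti, LinearMap.zero_apply]
        rw [LinearMap.add_apply, Module.End.mul_apply, Module.End.mul_apply, hz, map_zero, add_zero, U, LinearMap.add_apply, LinearMap.add_apply,
          Module.End.one_apply, map_add, map_add, hz, add_zero, ← two_smul K] at h5
        exact (smul_eq_zero.1 h5).resolve_left h2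
      · have hgw : g = i := hg1
        rw [hgw, ← Module.End.mul_apply, ha.ci, Module.End.mul_apply, hz, map_zero]
      · have hgw : g = j := hg1
        rw [hgw, ← Module.End.mul_apply, ha.cj, Module.End.mul_apply, hz, map_zero]) g
    exact LinearMap.mem_ker.1 (h3 v (LinearMap.mem_ker.2 hv))
  · intro p hp
    have hpw : p * ρ w = ρ w * p := hp ⟨w, Subgroup.subset_closure (by simp)⟩
    have hpi : p * ρ i = ρ i * p := hp ⟨i, Subgroup.subset_closure (by simp)⟩
    have hpj : p * ρ j = ρ j * p := hp ⟨j, Subgroup.subset_closure (by simp)⟩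
    have hpu : p * U ρ w = U ρ w * p := by
      rw [U, mul_add, mul_add, add_mul, add_mul, hpw, mul_one, one_mul]
    have h5 : p * (a + a + a + a) = (a + a + a + a) * p := by
      rw [← h4]
      have hpi' : ∀ z, p * (ρ i * z) = ρ i * (p * z) := fun z => by rw [← mul_assoc, hpi, mul_assoc]
      have hpj' : ∀ z, p * (ρ j * z) = ρ j * (p * z) := fun z => by rw [← mul_assoc, hpj, mul_assoc]
      have hpu' : ∀ z, p * (U ρ w * z) = U ρ w * (p * z) := fun z => by rw [← mul_assoc, hpu, mul_assoc]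
      simp only [mul_sub, sub_mul, mul_assoc, hpi, hpj, hpu, hpi', hpj', hpu']
    have h6 : p * a - a * p = 0 := by
      apply two_cancel (K := K) h2
      apply two_cancel (K := K) h2
      have : p * a - a * p + (p * a - a * p) + (p * a - a * p + (p * a - a * p)) = p * (a + a + a + a) - (a + a + a + a) * p := by noncomm_ring
      rw [this, h5, sub_self]
    exact sub_eq_zero.1 h6

end CfsgLib.H3Zas
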