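import Mathlib
import Cfsg.Agent.Lib.H3Zas9

/-!
# The two-dimensional invariant subspace of the group generated by the elements of order three (2)
-/

set_option autoImplicit false
set_option linter.style.haveILetI false

namespace CfsgLib.H3Zas

open Module

universe u v w

variable {K : Type u} [Field K] {V : Type v} [AddCommGroup V] [Module K V] {G : Type w} [Group G]
  {ρ : G →* Module.End K V}

/-- pure components of an element of order three -/
structure Comp (ρ : G →* Module.End K V) (i j w : G) (b c d : Module.End K V) : Prop where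
  hb : Cm (ρ i) (ρ j) b
  hc : Cm (ρ i) (ρ j) c
  hd : Cm (ρ i) (ρ j) d
  hu : U ρ w = ρ i * b + ρ j * c + ρ i * (ρ j * d)

/-- the standing data -/
structure Dat (ρ : G →* Module.End K V) (x i j : G) : Prop where
  free : Free ρ
  hn : (Nat.card G : K) ≠ 0
  h2 : (2 : K) ≠ 0
  hx1 : x ≠ 1
  hx3 : x ^ 3 = 1
  hq : QP (ρ i) (ρ j)
  hU : U ρ x = ρ i + ρ j + ρ i * ρ j
  hij : x⁻¹ * i * x = j
  hjk : x⁻¹ * j * x = i * j

variable [IsAlgClosed K] [FiniteDimensional K V] [Nontrivial V] [Finite G] {x i j : G}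

theorem Dat.comp (D : Dat ρ x i j) {w : G} (hw1 : w ≠ 1) (hw3 : w ^ 3 = 1) : ∃ b c d, Comp ρ i j w b c d := by
  obtain ⟨a, b, c, d, ha, hb, hc, hd, hu, -⟩ := D.hq.exists_decomp D.h2 (U ρ w)
  have h0 := real_zero D.free D.hn D.h2 D.hx1 D.hx3 hw1 hw3 D.hq D.hU ha hb hc hd hu
  exact ⟨b, c, d, hb, hc, hd, by rw [hu, h0, zero_add]⟩

theorem Dat.sum_comm (D : Dat ρ x i j) {w w' : G} (hw1 : w ≠ 1) (hw3 : w ^ 3 = 1) (hw1' : w' ≠ 1) (hw3' : w' ^ 3 = 1)
    {b c d b' c' d' : Module.End K V} (h : Comp ρ i j w b c d) (h' : Comp ρ i j w' b' c' d') :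
    (b * b' - b' * b) + (c * c' - c' * c) + (d * d' - d' * d) = 0 := by
  have hw1'i : w'⁻¹ ≠ 1 := inv_ne_one.2 hw1'
  have hw3'i : w'⁻¹ ^ 3 = 1 := by rw [inv_pow, hw3', inv_one]
  obtain ⟨b1, c1, d1, h1⟩ := D.comp (conj_ne_one (g := w') hw1) (conj_three hw3)
  obtain ⟨b2, c2, d2, h2⟩ := D.comp (conj_ne_one (g := w'⁻¹) hw1) (conj_three hw3)
  have hu1 := h1.hu
  have hu2 := h2.hu
  have hUi := U_inv D.free hw1' hw3'
  have e1 : ρ w' + ρ w' = U ρ w' - 1 := by rw [U]; abel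
  have e2 : ρ w'⁻¹ + ρ w'⁻¹ = -U ρ w' - 1 := by rw [← hUi, U]; abel
  rw [U_conj] at hu1 hu2
  rw [inv_inv] at hu2
  have key : (4 : K) • (ρ w'⁻¹ * U ρ w * ρ w' - ρ w' * U ρ w * ρ w'⁻¹) = (U ρ w' * U ρ w - U ρ w * U ρ w') + (U ρ w' * U ρ w - U ρ w * U ρ w') := by
    have e4 : (4 : K) = 1 + 1 + 1 + 1 := by norm_num
    have e3 : (4 : K) • (ρ w'⁻¹ * U ρ w * ρ w' - ρ w' * U ρ w * ρ w'⁻¹) = (ρ w'⁻¹ + ρ w'⁻¹) * U ρ w * (ρ w' + ρ w') - (ρ w' + ρ w') * U ρ w * (ρ w'⁻¹ + ρ w'⁻¹) := by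
      rw [e4]
      simp only [add_smul, one_smul]
      noncomm_ring
    rw [e3, e1, e2]
    noncomm_ring
  have L1 : (4 : K) • (ρ w'⁻¹ * U ρ w * ρ w' - ρ w' * U ρ w * ρ w'⁻¹) = 0 + ρ i * ((4 : K) • (b1 - b2)) + ρ j * ((4 : K) • (c1 - c2)) + ρ i * (ρ j * ((4 : K) • (d1 - d2))) := by
    rw [hu1, hu2]
    simp only [mul_smul_comm, ← smul_add, zero_add]
    congr 1
    noncomm_ring
  have hq := D.hq
  have L2 : (4 : K) • (ρ w'⁻¹ * U ρ w * ρ w' - ρ w' * U ρ w * ρ w'⁻¹) =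
      (((b * b' - b' * b) + (c * c' - c' * c) + (d * d' - d' * d)) + ((b * b' - b' * b) + (c * c' - c' * c) + (d * d' - d' * d))) +
      ρ i * (((c' * d - d' * c) - (c * d' - d * c')) + ((c' * d - d' * c) - (c * d' - d * c'))) +
      ρ j * (((d' * b - b' * d) - (d * b' - b * d')) + ((d' * b - b' * d) - (d * b' - b * d'))) +
      ρ i * (ρ j * (((b' * c - c' * b) - (b * c' - c * b')) + ((b' * c - c' * b) - (b * c' - c * b')))) := by
    rw [key, h.hu, h'.hu]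
    simp only [mul_add, add_mul, mul_sub, sub_mul, mul_assoc, h.hb.ci', h.hb.cj', h.hc.ci', h.hc.cj', h.hd.ci', h.hd.cj', h'.hb.ci', h'.hb.cj', h'.hc.ci', h'.hc.cj',
      h'.hd.ci', h'.hd.cj', hq.ii', hq.jj', hq.ji', neg_mul, mul_neg, neg_neg]
    abel
  have B : ∀ {p q : Module.End K V}, Cm (ρ i) (ρ j) p → Cm (ρ i) (ρ j) q → Cm (ρ i) (ρ j) (p * q) := fun hp hq => hp.mul hq
  have h5 := real_unique D.h2 hq Cm.zero ((h1.hb.sub h2.hb).smul (4 : K)) ((h1.hc.sub h2.hc).smul (4 : K)) ((h1.hd.sub h2.hd).smul (4 : K))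
    (by
      have h6 := ((((h.hb.mul h'.hb).sub (h'.hb.mul h.hb)).add ((h.hc.mul h'.hc).sub (h'.hc.mul h.hc))).add ((h.hd.mul h'.hd).sub (h'.hd.mul h.hd)))
      exact h6.add h6)
    (by
      have h6 := (((h'.hc.mul h.hd).sub (h'.hd.mul h.hc)).sub ((h.hc.mul h'.hd).sub (h.hd.mul h'.hc)))
      exact h6.add h6)
    (by
      have h6 := (((h'.hd.mul h.hb).sub (h'.hb.mul h.hd)).sub ((h.hd.mul h'.hb).sub (h.hb.mul h'.hd)))
      exact h6.add h6)
    (by
      have h6 := (((h'.hb.mul h.hc).sub (h'.hc.mul h.hb)).sub ((h.hb.mul h'.hc).sub (h.hc.mul h'.hb)))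
      exact h6.add h6) L1 L2
  exact two_cancel (K := K) D.h2 h5.symm

theorem Dat.conj_i (D : Dat ρ x i j) {w : G} {b c d : Module.End K V} (h : Comp ρ i j w b c d) : Comp ρ i j (i⁻¹ * w * i) b (-c) (-d) := by
  refine ⟨h.hb, h.hc.neg, h.hd.neg, ?_⟩
  have hq := D.hq
  rw [U_conj, h.hu, hq.invi]
  simp only [mul_add, add_mul, mul_assoc, h.hb.ci, h.hc.ci, h.hd.ci, hq.ii', hq.ji', neg_mul, mul_neg, neg_neg]

/-- the set of all components -/
def SC (ρ : G →* Module.End K V) (i j : G) : Set (Module.End K V) := {f | ∃ w c d, w ≠ 1 ∧ w ^ 3 = 1 ∧ Comp ρ i j w f c d}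

theorem Dat.SC_comm (D : Dat ρ x i j) {f g : Module.End K V} (hf : f ∈ SC ρ i j) (hg : g ∈ SC ρ i j) : f * g = g * f := by
  obtain ⟨w, c, d, hw1, hw3, h⟩ := hf
  obtain ⟨w', c', d', hw1', hw3', h'⟩ := hg
  have h1 := D.sum_comm hw1 hw3 hw1' hw3' h h'
  have h2 := D.sum_comm (conj_ne_one hw1) (conj_three hw3) hw1' hw3' (D.conj_i h) h'
  have h3 : f * g - g * f = 0 := by
    apply two_cancel (K := K) D.h2
    have e : f * g - g * f + (f * g - g * f) = ((f * g - g * f) + (c * c' - c' * c) + (d * d' - d' * d)) +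
        ((f * g - g * f) + (-c * c' - c' * -c) + (-d * d' - d' * -d)) := by noncomm_ring
    rw [e, h1, h2, add_zero]
  exact sub_eq_zero.1 h3

theorem Dat.conj_x (D : Dat ρ x i j) {w : G} {b c d : Module.End K V} (h : Comp ρ i j w b c d) : Comp ρ i j (x⁻¹ * w * x) d b c := by
  have hq := D.hq
  have hcx : ∀ {b}, Cm (ρ i) (ρ j) b → b * ρ x = ρ x * b := by
    intro b hb
    have e : b * U ρ x = U ρ x * b := by
      rw [D.hU]
      simp only [mul_add, add_mul, mul_assoc, hb.ci, hb.cj, hb.ci', hb.cj']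
    have e2 : b * ρ x - ρ x * b = 0 := by
      apply two_cancel (K := K) D.h2
      have e3 : b * ρ x - ρ x * b + (b * ρ x - ρ x * b) = b * U ρ x - U ρ x * b := by rw [U]; noncomm_ring
      rw [e3, e, sub_self]
    exact sub_eq_zero.1 e2
  have h1 : ρ x⁻¹ * ρ i * ρ x = ρ j := by rw [← map_mul, ← map_mul, D.hij]
  have h2 : ρ x⁻¹ * ρ j * ρ x = ρ i * ρ j := by rw [← map_mul, ← map_mul, D.hjk, map_mul]
  have c1 : ∀ {b}, Cm (ρ i) (ρ j) b → ρ x⁻¹ * (ρ i * b) * ρ x = ρ j * b := by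
    intro b hb
    calc ρ x⁻¹ * (ρ i * b) * ρ x = ρ x⁻¹ * ρ i * (b * ρ x) := by simp only [mul_assoc]
      _ = (ρ x⁻¹ * ρ i * ρ x) * b := by rw [hcx hb]; simp only [mul_assoc]
      _ = _ := by rw [h1]
  have c2 : ∀ {b}, Cm (ρ i) (ρ j) b → ρ x⁻¹ * (ρ j * b) * ρ x = ρ i * (ρ j * b) := by
    intro b hb
    calc ρ x⁻¹ * (ρ j * b) * ρ x = ρ x⁻¹ * ρ j * (b * ρ x) := by simp only [mul_assoc]
      _ = (ρ x⁻¹ * ρ j * ρ x) * b := by rw [hcx hb]; simp only [mul_assoc]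
      _ = _ := by rw [h2, mul_assoc]
  have c3 : ∀ {b}, Cm (ρ i) (ρ j) b → ρ x⁻¹ * (ρ i * (ρ j * b)) * ρ x = ρ i * b := by
    intro b hb
    calc ρ x⁻¹ * (ρ i * (ρ j * b)) * ρ x = ρ x⁻¹ * ρ i * (ρ j * (b * ρ x)) := by simp only [mul_assoc]
      _ = (ρ x⁻¹ * ρ i * (ρ x * ρ x⁻¹) * ρ j * ρ x) * b := by rw [hcx hb, Free.map_inv, mul_one]; simp only [mul_assoc]
      _ = (ρ x⁻¹ * ρ i * ρ x) * (ρ x⁻¹ * ρ j * ρ x) * b := by simp only [mul_assoc]
      _ = _ := by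
        rw [h1, h2]
        simp only [mul_assoc, hq.ji', hq.jj', mul_neg, neg_neg, neg_mul]
  refine ⟨h.hd, h.hb, h.hc, ?_⟩
  rw [U_conj, h.hu, mul_add, mul_add, add_mul, add_mul, c1 h.hb, c2 h.hc, c3 h.hd]
  abel

theorem Dat.exists_W (D : Dat ρ x i j) : ∃ W : Submodule K V, W ≠ ⊥ ∧ finrank K W ≤ 2 ∧
    ∀ g : G, g ^ 3 = 1 → ∀ w ∈ W, ρ g w ∈ W := by
  have hq := D.hq
  obtain ⟨v, hv, hev⟩ := common_eigen (insert (ρ i) (SC ρ i j)) (by
    rintro f (rfl | hf) g (rfl | hg)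
    · rfl
    · obtain ⟨w, c, d, hw1, hw3, h⟩ := hg
      exact h.hb.ci.symm
    · obtain ⟨w, c, d, hw1, hw3, h⟩ := hf
      exact h.hb.ci
    · exact D.SC_comm hf hg)
  obtain ⟨ι, hι⟩ := hev (ρ i) (Or.inl rfl)
  refine ⟨Submodule.span K {v, ρ j v}, ?_, ?_, ?_⟩
  · intro h
    rw [Submodule.span_eq_bot] at h
    exact hv (h v (by simp))
  · classical
    have h1 := finrank_span_finset_le_card (R := K) ({v, ρ j v} : Finset V)
    have h2 : (({v, ρ j v} : Finset V) : Set V) = {v, ρ j v} := by simp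
    rw [h2] at h1
    exact h1.trans Finset.card_le_two
  · intro g hg3 w hw
    by_cases hg1 : g = 1
    · rw [hg1, map_one]; exact hw
    obtain ⟨b, c, d, h⟩ := D.comp hg1 hg3
    have hbS : b ∈ SC ρ i j := ⟨g, c, d, hg1, hg3, h⟩
    have hdS : d ∈ SC ρ i j := ⟨_, b, c, conj_ne_one hg1, conj_three hg3, D.conj_x h⟩
    have hcS : c ∈ SC ρ i j := ⟨_, d, b, conj_ne_one (conj_ne_one hg1), conj_three (conj_three hg3), D.conj_x (D.conj_x h)⟩
    obtain ⟨β, hβ⟩ := hev b (Or.inr hbS)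
    obtain ⟨γ, hγ⟩ := hev c (Or.inr hcS)
    obtain ⟨δ, hδ⟩ := hev d (Or.inr hdS)
    have m1 : v ∈ Submodule.span K {v, ρ j v} := Submodule.subset_span (by simp)
    have m2 : ρ j v ∈ Submodule.span K {v, ρ j v} := Submodule.subset_span (by simp)
    have hji : ρ i (ρ j v) = -(ι • ρ j v) := by
      have e : ρ j (ρ i v) = -(ρ i (ρ j v)) := by
        rw [← Module.End.mul_apply, hq.ji]; rfl
      rw [hι, _root_.map_smul] at e
      rw [e, neg_neg]
    have hjj : ρ j (ρ j v) = -v := by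
      rw [← Module.End.mul_apply, hq.jj]; rfl
    have hU1 : U ρ g v ∈ Submodule.span K {v, ρ j v} := by
      have e : U ρ g v = β • (ι • v) + γ • ρ j v + δ • (-(ι • ρ j v)) := by
        rw [h.hu]
        simp only [LinearMap.add_apply, Module.End.mul_apply, hβ, hγ, hδ, _root_.map_smul, hι, hji]
      rw [e]
      exact Submodule.add_mem _ (Submodule.add_mem _ (Submodule.smul_mem _ _ (Submodule.smul_mem _ _ m1)) (Submodule.smul_mem _ _ m2))
        (Submodule.smul_mem _ _ (Submodule.neg_mem _ (Submodule.smul_mem _ _ m2)))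
    have hU2 : U ρ g (ρ j v) ∈ Submodule.span K {v, ρ j v} := by
      have hb' : b (ρ j v) = β • ρ j v := by rw [← Module.End.mul_apply, h.hb.cj, Module.End.mul_apply, hβ, _root_.map_smul]
      have hc' : c (ρ j v) = γ • ρ j v := by rw [← Module.End.mul_apply, h.hc.cj, Module.End.mul_apply, hγ, _root_.map_smul]
      have hd' : d (ρ j v) = δ • ρ j v := by rw [← Module.End.mul_apply, h.hd.cj, Module.End.mul_apply, hδ, _root_.map_smul]
      have e : U ρ g (ρ j v) = β • (-(ι • ρ j v)) + γ • (-v) + δ • (-(ι • v)) := by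
        rw [h.hu]
        simp only [LinearMap.add_apply, Module.End.mul_apply, hb', hc', hd', _root_.map_smul, hι, hji, hjj, map_neg]
      rw [e]
      exact Submodule.add_mem _ (Submodule.add_mem _ (Submodule.smul_mem _ _ (Submodule.neg_mem _ (Submodule.smul_mem _ _ m2)))
        (Submodule.smul_mem _ _ (Submodule.neg_mem _ m1))) (Submodule.smul_mem _ _ (Submodule.neg_mem _ (Submodule.smul_mem _ _ m1)))
    have hU3 : U ρ g w ∈ Submodule.span K {v, ρ j v} := by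
      have h2 : Submodule.span K {v, ρ j v} ≤ (Submodule.span K {v, ρ j v}).comap (U ρ g) := by
        rw [Submodule.span_le]
        rintro z (rfl | hz)
        · exact hU1
        · rw [Set.mem_singleton_iff] at hz
          rw [hz]; exact hU2
      exact h2 hw
    have h3 : ρ g w + ρ g w ∈ Submodule.span K {v, ρ j v} := by
      have e : ρ g w + ρ g w = U ρ g w - w := by rw [U]; simp
      rw [e]
      exact Submodule.sub_mem _ hU3 hw
    rw [← two_smul K] at h3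
    have h4 := Submodule.smul_mem _ (2 : K)⁻¹ h3
    rwa [smul_smul, inv_mul_cancel₀ D.h2, one_smul] at h4

theorem dat_of_pair (h : Free ρ) (hn : (Nat.card G : K) ≠ 0) {x y : G} (hx3 : x ^ 3 = 1) (hy3 : y ^ 3 = 1) (hxy : x * y ≠ y * x) :
    ∃ i j : G, i ∈ Subgroup.closure {g : G | g ^ 3 = 1} ∧ j ∈ Subgroup.closure {g : G | g ^ 3 = 1} ∧ Dat ρ x i j := by
  have hx1 : x ≠ 1 := by rintro rfl; exact hxy (by rw [one_mul, mul_one])
  obtain ⟨z, hz, hz1, hz3, hz0⟩ := exists_zero_pair h hn hx3 hy3 hxy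
  obtain ⟨i, j, hi, hj, hq, hU, h1, h2⟩ := exists_quat h hx1 hx3 hz1 hz3 hz0
  have hle : Subgroup.closure {x, z} ≤ Subgroup.closure {g : G | g ^ 3 = 1} := by
    apply Subgroup.closure_mono
    rintro g (rfl | rfl)
    · exact hx3
    · exact hz3
  exact ⟨i, j, hle hi, hle hj, h, hn, two_ne h hn hx3 hy3 hxy, hx1, hx3, hq, hU, h1, h2⟩

end CfsgLib.H3Zas
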