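import Cfsg.Agent.Lib.PermMod

/-!
# Permutation modules and orthogonal groups II
-/

namespace CfsgLib.PermMod

open Module CfsgLib.Quad CfsgLib.IsomDecomp Cfsg CfsgLib.Exc
open Matrix (SpecialLinearGroup ProjectiveSpecialLinearGroup)
open scoped MatrixGroups commutatorElement

set_option linter.unusedSimpArgs false
set_option linter.unusedSectionVars false

variable {F : Type*} [Field F]

lemma pmodA (hp : (2 : F) = 0) : PMod (EA F) (PA F) 1 :=
  ⟨PEA hp, sumEA hp, EPA hp, by rw [P1A hp, smul_zero]⟩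

lemma pmodB (hp : (2 : F) = 0) : PMod (EB F) (PB F) 0 :=
  ⟨PEB hp, sumEB hp, EPB hp, zero_smul _ _⟩

lemma pmodC (hp : (5 : F) = 0) : PMod (EC F) (PC F) 1 :=
  ⟨PEC hp, sumEC hp, EPC hp, by rw [P1C hp, smul_zero]⟩

lemma pmodD (hp : (3 : F) = 0) : PMod (ED F) (PD F) 1 :=
  ⟨PED hp, sumED hp, EPD hp, by rw [P1D hp, smul_zero]⟩

lemma pmodE (hp : (3 : F) = 0) : PMod (EE F) (PE F) 0 :=
  ⟨PEE hp, sumEE hp, EPE hp, zero_smul _ _⟩

/-! ### The sum of squares -/

/-- A multiple of the sum of squares. -/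
def NS (n : ℕ) (c : F) (w : Fin n → F) : F := c * ∑ i, (w i) ^ 2

lemma NS_perm {n : ℕ} (c : F) (w : Fin n → F) (σ : Equiv.Perm (Fin n)) :
    NS n c (fun i => w (σ i)) = NS n c w := by
  rw [NS, NS]
  congr 1
  exact Equiv.sum_comp σ (fun i => w i ^ 2)

lemma NS_add {n : ℕ} (hn : (n : F) = 0) (c : F) (w : Fin n → F) (d : F) (hw : ∑ i, w i = 0) :
    NS n c (w + ((1 : F) * d) • (1 : Fin n → F)) = NS n c w := by
  rw [NS, NS]
  congr 1
  have h1 : ∑ i, ((w + ((1 : F) * d) • (1 : Fin n → F)) i) ^ 2 =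
      ∑ i, (w i) ^ 2 + 2 * d * ∑ i, w i + n * d ^ 2 := by
    rw [Finset.mul_sum, ← Finset.sum_add_distrib]
    have : (n : F) * d ^ 2 = ∑ _i : Fin n, d ^ 2 := by
      rw [Finset.sum_const, Finset.card_univ, Fintype.card_fin, nsmul_eq_mul]
    rw [this, ← Finset.sum_add_distrib]
    apply Finset.sum_congr rfl
    intro i _
    simp only [Pi.add_apply, Pi.smul_apply, Pi.one_apply, smul_eq_mul]
    ring
  rw [h1, hw, hn]
  ring

lemma NS_zero {n : ℕ} (c : F) (w : Fin n → F) (d : F) (_hw : ∑ i, w i = 0) :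
    NS n c (w + ((0 : F) * d) • (1 : Fin n → F)) = NS n c w := by
  rw [zero_mul, zero_smul, add_zero]

lemma q3_NS_C (hp : (5 : F) = 0) (v : V3 F) : q3 F v = NS 5 1 (EC F v) := by
  rw [q3_apply, QC hp]
  rfl

lemma q3_NS_E (hp : (3 : F) = 0) (v : V3 F) : q3 F v = NS 4 2 (EE F v) := by
  rw [q3_apply, QE hp]
  rfl

lemma q4_NS_D (hp : (3 : F) = 0) (v : V4 F) : q4 (0 : F) 1 v = NS 6 1 (ED F v) := by
  rw [q4_apply, QD hp]
  rfl

/-- The action of `S₅` on the orthogonal space over the field with five elements. -/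
noncomputable def toO5 (hp : (5 : F) = 0) : Equiv.Perm (Fin 5) →* O (q3 F) :=
  (pmodC hp).toO (N := NS 5 1) (fun w σ => NS_perm 1 w σ)
    (fun w d hw => NS_add (by exact_mod_cast hp) 1 w d hw) (q3_NS_C hp)

lemma exists_cyc (n : ℕ) (hn : 3 ≤ n) : ∃ c : Equiv.Perm (Fin n), c ∈ alternatingGroup (Fin n) ∧
    (Equiv.symm c) ⟨0, by omega⟩ = ⟨2, by omega⟩ ∧ (Equiv.symm c) ⟨1, by omega⟩ = ⟨0, by omega⟩ ∧
    (Equiv.symm c) ⟨2, by omega⟩ = ⟨1, by omega⟩ ∧
    ∀ i : Fin n, 3 ≤ (i : ℕ) → (Equiv.symm c) i = i := by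
  have h01 : (⟨0, by omega⟩ : Fin n) ≠ ⟨1, by omega⟩ := by simp
  have h12 : (⟨1, by omega⟩ : Fin n) ≠ ⟨2, by omega⟩ := by simp
  have h02 : (⟨0, by omega⟩ : Fin n) ≠ ⟨2, by omega⟩ := by simp
  have hsym : ∀ i, (Equiv.symm (Equiv.swap (⟨0, by omega⟩ : Fin n) ⟨1, by omega⟩ *
      Equiv.swap ⟨1, by omega⟩ ⟨2, by omega⟩)) i =
      Equiv.swap ⟨1, by omega⟩ ⟨2, by omega⟩ (Equiv.swap (⟨0, by omega⟩ : Fin n) ⟨1, by omega⟩ i) :=
    fun i => rfl
  refine ⟨Equiv.swap ⟨0, by omega⟩ ⟨1, by omega⟩ * Equiv.swap ⟨1, by omega⟩ ⟨2, by omega⟩,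
    ?_, ?_, ?_, ?_, ?_⟩
  · rw [Equiv.Perm.mem_alternatingGroup, Equiv.Perm.sign_mul, Equiv.Perm.sign_swap h01,
      Equiv.Perm.sign_swap h12]
    rfl
  · rw [hsym, Equiv.swap_apply_left, Equiv.swap_apply_left]
  · rw [hsym, Equiv.swap_apply_right, Equiv.swap_apply_of_ne_of_ne h01 h02]
  · rw [hsym, Equiv.swap_apply_of_ne_of_ne h02.symm h12.symm, Equiv.swap_apply_right]
  · intro i hi
    have h0 : i ≠ ⟨0, by omega⟩ := fun h => by
      have := congrArg Fin.val h
      simp at this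
      omega
    have h1 : i ≠ ⟨1, by omega⟩ := fun h => by
      have := congrArg Fin.val h
      simp at this
      omega
    have h2 : i ≠ ⟨2, by omega⟩ := fun h => by
      have := congrArg Fin.val h
      simp at this
      omega
    rw [hsym, Equiv.swap_apply_of_ne_of_ne h0 h1, Equiv.swap_apply_of_ne_of_ne h1 h2]

lemma toO5_injective (hp : (5 : F) = 0) : Function.Injective (toO5 (F := F) hp) := by
  obtain ⟨c, hc, c0, c1, c2, c3⟩ := exists_cyc 5 (by norm_num)
  apply perm_injective_of (by norm_num) _ c hc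
  intro h
  have h1 : (toO5 hp c).1 (Pi.single (.inl ()) 1) = Pi.single (.inl ()) 1 := by rw [h]; rfl
  have h2 : (PC F) (fun i => EC F (Pi.single (.inl ()) 1) (Equiv.symm c i)) =
    Pi.single (.inl ()) 1 := h1
  have h3 := congrFun h2 (.inl ())
  have c4 := c3 3 (by decide)
  have c5 := c3 4 (by decide)
  simp at c0 c1 c2
  simp [PC, EC, c0, c1, c2, c4, c5] at h3
  exact one_ne_zero (α := F) (by linear_combination hp - 2 * h3)

lemma alternating_perfect {n : ℕ} (hn : 5 ≤ n) : commutator (alternatingGroup (Fin n)) = ⊤ := by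
  have : IsSimpleGroup (alternatingGroup (Fin n)) :=
    alternatingGroup.isSimpleGroup (by rw [Nat.card_fin]; exact hn)
  have h1 : Subgroup.center (alternatingGroup (Fin n)) = ⊥ :=
    alternatingGroup.center_eq_bot (by rw [Nat.card_fin]; omega)
  rcases Subgroup.Normal.eq_bot_or_eq_top (H := commutator (alternatingGroup (Fin n)))
    inferInstance with h | h
  · exfalso
    have h2 : Subgroup.center (alternatingGroup (Fin n)) = ⊤ := by
      rw [eq_top_iff]
      intro x _
      rw [Subgroup.mem_center_iff]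
      intro y
      have h3 : ⁅y, x⁆ ∈ commutator (alternatingGroup (Fin n)) :=
        Subgroup.commutator_mem_commutator (Subgroup.mem_top y) (Subgroup.mem_top x)
      rw [h, Subgroup.mem_bot] at h3
      exact commutatorElement_eq_one_iff_mul_comm.mp h3
    rw [h1] at h2
    have := alternatingGroup.nontrivial_of_three_le_card (α := Fin n) (by rw [Nat.card_fin]; omega)
    exact bot_ne_top h2
  · exact h

lemma card_alt {n : ℕ} (hn : 2 ≤ n) : 2 * Nat.card (alternatingGroup (Fin n)) = n.factorial := by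
  have : Nontrivial (Fin n) := Fin.nontrivial_iff_two_le.mpr hn
  rw [two_mul_nat_card_alternatingGroup, Nat.card_perm, Nat.card_fin]

/-- The conclusion. -/
theorem alt_equiv {n : ℕ} (hn : 5 ≤ n) {H : Type*} [Group H] [Finite H]
    (f : Equiv.Perm (Fin n) →* H) (hf : Function.Injective f)
    {i : ℕ} (hi : (commutator H).index = i) (hcard : i * n.factorial = 2 * Nat.card H) :
    Nonempty ((commutator H ⧸ Subgroup.center (commutator H)) ≃* alternatingGroup (Fin n)) := by
  have h1 : Subgroup.center (alternatingGroup (Fin n)) = ⊥ :=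
    alternatingGroup.center_eq_bot (by rw [Nat.card_fin]; omega)
  have hper := alternating_perfect hn
  have hinj : Function.Injective (f.comp (alternatingGroup (Fin n)).subtype) :=
    hf.comp Subtype.val_injective
  have hker := (MonoidHom.ker_eq_bot_iff _).mpr hinj
  have h2 := card_alt (n := n) (by omega)
  obtain ⟨e⟩ := commutator_quot_equiv (f.comp (alternatingGroup (Fin n)).subtype)
    (range_le_of_perfect hper _) (k := 1) (by rw [hker, Subgroup.card_bot]) hi (by
      rw [mul_one]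
      rw [← h2] at hcard
      have : 2 * (i * Nat.card (alternatingGroup (Fin n))) = 2 * Nat.card H := by
        rw [← hcard]; ring
      omega)
    (mem_center_of_perfect hper _ (by rw [hker]; exact bot_le))
  exact ⟨e.trans ((QuotientGroup.quotientMulEquivOfEq h1).trans QuotientGroup.quotientBot)⟩

/-- `PSL₂(5) ≅ A₅`. -/
theorem PSL_two_five [Fintype F] (hF : Fintype.card F = 5) :
    Nonempty (ProjectiveSpecialLinearGroup (Fin 2) F ≃* alternatingGroup (Fin 5)) := by
  have hp : (5 : F) = 0 := by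
    have h := Nat.cast_card_eq_zero F
    rw [hF] at h
    exact_mod_cast h
  have hodd : Odd (Fintype.card F) := by rw [hF]; decide
  have h2 : (2 : F) ≠ 0 := by
    intro h2
    have := exists_two_eq_zero h2
    omega
  obtain ⟨e⟩ := POmega_three hodd
  have hN : (QuadraticMap.polarBilin (q3 F)).Nondegenerate := by
    have h1 := hypSum_nondegenerate (F := F) 1 (sqQ_nondegenerate (F := F) h2)
    exact nondegenerate_congr (eOdd 1 F).symm (fun u => by
      rw [q3_apply, ← eOdd_apply, LinearEquiv.apply_symm_apply]) h1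
  have hfin : finrank F (V3 F) = 3 := by
    rw [Module.finrank_fintype_fun_eq_card]; rfl
  have hH : Nat.card (O (q3 F)) = 240 := by
    rw [← Nat.card_congr (isoMat (quadFormOdd 1 F) (q3 F) (LinearEquiv.refl F _) q3_apply).toEquiv,
      card_O_odd (F := F) h2 1, Nat.card_eq_fintype_card, hF]
    decide
  have : Finite (O (q3 F)) := (Nat.card_pos_iff.mp (by rw [hH]; norm_num)).2
  obtain ⟨e2⟩ := alt_equiv le_rfl (toO5 hp) (toO5_injective hp)
    (index_commutator_odd h2 hN (by rw [hfin]; norm_num)) (by rw [hH]; decide)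
  exact ⟨(e.symm.trans (POmegaCongr (quadFormOdd 1 F) (q3 F) (LinearEquiv.refl F _)
    q3_apply)).trans e2⟩

/-- The action of `S₆` on the orthogonal space over the field with three elements. -/
noncomputable def toO6 (hp : (3 : F) = 0) : Equiv.Perm (Fin 6) →* O (q4 (0 : F) 1) :=
  (pmodD hp).toO (N := NS 6 1) (fun w σ => NS_perm 1 w σ)
    (fun w d hw => NS_add (by push_cast; linear_combination 2 * hp) 1 w d hw) (q4_NS_D hp)

lemma toO6_injective (hp : (3 : F) = 0) : Function.Injective (toO6 (F := F) hp) := by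
  obtain ⟨c, hc, c0, c1, c2, c3⟩ := exists_cyc 6 (by norm_num)
  apply perm_injective_of (by norm_num) _ c hc
  intro h
  have h1 : (toO6 hp c).1 (Pi.single (.inl (.inr 0)) 1) = Pi.single (.inl (.inr 0)) 1 := by
    rw [h]; rfl
  have h2 : (PD F) (fun i => ED F (Pi.single (.inl (.inr 0)) 1) (Equiv.symm c i)) =
    Pi.single (.inl (.inr 0)) 1 := h1
  have h3 := congrFun h2 (.inr 0)
  have c4 := c3 3 (by decide)
  have c5 := c3 4 (by decide)
  have c6 := c3 5 (by decide)
  simp at c0 c1 c2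
  simp [PD, ED, c0, c1, c2, c4, c5, c6] at h3

/-- `PSL₂(9) ≅ A₆`. -/
theorem PSL_two_nine {K : Type*} [Field K] [Fintype K] (hK : Fintype.card K = 9) :
    Nonempty (ProjectiveSpecialLinearGroup (Fin 2) K ≃* alternatingGroup (Fin 6)) := by
  have hF : Fintype.card (ZMod 3) = 3 := ZMod.card 3
  have hp : (3 : ZMod 3) = 0 := by decide
  have h2 : (2 : ZMod 3) ≠ 0 := by decide
  have hab : Aniso (0 : ZMod 3) 1 := by
    intro z₁ z₂
    revert z₁ z₂
    decide
  obtain ⟨e⟩ := POmega_four_minus (F := ZMod 3) (K := K) hF (by rw [hK]; rfl) 0 1 hab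
  have hN : (QuadraticMap.polarBilin (q4 (0 : ZMod 3) 1)).Nondegenerate := by
    have h1 := hypSum_nondegenerate (F := ZMod 3) 1 (binQ_nondegenerate hab)
    exact nondegenerate_congr (eMinus 1 (0 : ZMod 3) 1).symm (fun u => by
      rw [q4_apply, ← eMinus_apply, LinearEquiv.apply_symm_apply]) h1
  have hfin : finrank (ZMod 3) (V4 (ZMod 3)) = 4 := by
    rw [Module.finrank_fintype_fun_eq_card]; rfl
  have hH : Nat.card (O (q4 (0 : ZMod 3) 1)) = 1440 := by
    rw [← Nat.card_congr (isoMat (quadFormMinus 1 (ZMod 3) 0 1) (q4 (0 : ZMod 3) 1)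
      (LinearEquiv.refl _ _) q4_apply).toEquiv, card_O_minus hab 1, Nat.card_eq_fintype_card, hF]
    decide
  have : Finite (O (q4 (0 : ZMod 3) 1)) := (Nat.card_pos_iff.mp (by rw [hH]; norm_num)).2
  obtain ⟨e2⟩ := alt_equiv (by norm_num) (toO6 hp) (toO6_injective hp)
    (index_commutator_odd h2 hN (by rw [hfin]; norm_num)) (by rw [hH]; decide)
  exact ⟨(e.symm.trans (POmegaCongr (quadFormMinus 1 (ZMod 3) 0 1) (q4 (0 : ZMod 3) 1)
    (LinearEquiv.refl _ _) q4_apply)).trans e2⟩

end CfsgLib.PermMod
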