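import Mathlib
import Cfsg.Agent.Lib.H3Zas10
import Cfsg.Agent.Lib.H7MultSL
import Cfsg.Agent.Lib.PermMod2

/-!
# Uniqueness of the perfect double cover of `A₅`
-/

set_option autoImplicit false
set_option linter.style.haveILetI false

namespace CfsgLib.H3Zas

open Subgroup
open scoped commutatorElement

universe u v w

abbrev S25 := Matrix.SpecialLinearGroup (Fin 2) (ZMod 5)

theorem two_ne_five : (2 : ZMod 5) ≠ 0 := by decide

theorem S25_perfect : commutator S25 = ⊤ := by
  have h1 : (2 : ZMod 5) ≠ 0 := by decide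
  have h2 : (2 : ZMod 5) ^ 2 ≠ 1 := by decide
  haveI : Fact (Nat.Prime 5) := ⟨by norm_num⟩
  exact Matrix.SL2.commutator_eq_top (F := ZMod 5) (a := (2 : ZMod 5)) h1 h2

theorem card_S25 : Nat.card S25 = 120 := by
  haveI : Fact (Nat.Prime 5) := ⟨by norm_num⟩
  rw [CfsgLib.SL2.card_SL2, ZMod.card]

theorem exists_g : ∃ g : S25 →* alternatingGroup (Fin 5), Function.Surjective g ∧ g.ker ≤ center S25 := by
  haveI : Fact (Nat.Prime 5) := ⟨by norm_num⟩
  obtain ⟨e⟩ := CfsgLib.PermMod.PSL_two_five (F := ZMod 5) (by rw [ZMod.card])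
  refine ⟨e.toMonoidHom.comp (QuotientGroup.mk' (center S25)), ?_, ?_⟩
  · exact e.surjective.comp (QuotientGroup.mk'_surjective _)
  · intro x hx
    rw [MonoidHom.mem_ker, MonoidHom.comp_apply] at hx
    have h1 : (QuotientGroup.mk' (center S25)) x = 1 := e.injective (hx.trans (map_one e).symm)
    rwa [← MonoidHom.mem_ker, QuotientGroup.ker_mk'] at h1

theorem card_a5' : Nat.card (alternatingGroup (Fin 5)) = 60 := by
  rw [nat_card_alternatingGroup, Nat.card_fin]; decide

theorem card_ker_mul {A : Type u} {B : Type v} [Group A] [Group B] [Finite A] (f : A →* B) (hf : Function.Surjective f) :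
    Nat.card f.ker * Nat.card B = Nat.card A := by
  rw [← Subgroup.card_mul_index f.ker, Subgroup.index_ker, ← Nat.card_congr (Equiv.ofBijective (fun x : f.range => (x : B)) ?_)]
  constructor
  · exact Subtype.val_injective
  · intro b
    obtain ⟨a, rfl⟩ := hf b
    exact ⟨⟨f a, a, rfl⟩, rfl⟩

/-- if a group is covered by a central subgroup and another subgroup, then the derived subgroup is perfect -/
theorem comm_comm {E : Type u} [Group E] (D Z : Subgroup E) (hZ : Z ≤ center E) (hDZ : ∀ e : E, ∃ d ∈ D, ∃ z ∈ Z, e = d * z) :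
    commutator E ≤ ⁅D, D⁆ := by
  rw [_root_.commutator_def, Subgroup.commutator_le]
  intro a _ b _
  obtain ⟨d, hd, z, hz, rfl⟩ := hDZ a
  obtain ⟨d', hd', z', hz', rfl⟩ := hDZ b
  have h1 := Subgroup.mem_center_iff.1 (hZ hz)
  have h2 := Subgroup.mem_center_iff.1 (hZ hz')
  have : (⁅d * z, d' * z'⁆ : E) = ⁅d, d'⁆ := by
    rw [commutatorElement_def, commutatorElement_def]
    have e1 : d * z * (d' * z') = d * d' * z * z' := by
      rw [mul_assoc d z, ← mul_assoc z d', ← h1 d']; group
    have e2 : (d' * z') * (d * z) = d' * d * z * z' := by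
      rw [mul_assoc d' z', ← mul_assoc z' d, ← h2 d, mul_assoc d z', ← h2 z, ← mul_assoc, ← mul_assoc]
    have e3 : d * z * (d' * z') * (d * z)⁻¹ * (d' * z')⁻¹ = (d * z * (d' * z')) * ((d' * z') * (d * z))⁻¹ := by group
    rw [e3, e1, e2]; group
  rw [this]
  exact Subgroup.commutator_mem_commutator hd hd'

theorem iso_of_double {P : Type u} [Group P] [Finite P] (hP : commutator P = ⊤) (f : P →* alternatingGroup (Fin 5))
    (hf : Function.Surjective f) (hc : f.ker ≤ center P) (h2 : Nat.card f.ker = 2) : Nonempty (P ≃* S25) := by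
  haveI : Fact (Nat.Prime 5) := ⟨by norm_num⟩
  obtain ⟨g, hg, hgc⟩ := exists_g
  have hgk : Nat.card g.ker = 2 := by
    have := card_ker_mul g hg
    rw [card_a5', card_S25] at this
    omega
  have hPc : Nat.card P = 120 := by
    have := card_ker_mul f hf
    rw [card_a5', h2] at this
    omega
  let E : Subgroup (P × S25) := (f.comp (MonoidHom.fst P S25)).eqLocus (g.comp (MonoidHom.snd P S25))
  have hE : ∀ a : P × S25, a ∈ E ↔ f a.1 = g a.2 := fun _ => Iff.rfl
  let p1 : E →* P := (MonoidHom.fst P S25).comp E.subtype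
  let p2 : E →* S25 := (MonoidHom.snd P S25).comp E.subtype
  have hp1 : Function.Surjective p1 := by
    intro a
    obtain ⟨s, hs⟩ := hg (f a)
    exact ⟨⟨(a, s), hs.symm⟩, rfl⟩
  have hp2 : Function.Surjective p2 := by
    intro s
    obtain ⟨a, ha⟩ := hf (g s)
    exact ⟨⟨(a, s), ha⟩, rfl⟩
  have hk1 : p1.ker ≤ center E := by
    rintro ⟨⟨a, s⟩, has⟩ h
    have ha : a = 1 := h
    subst ha
    have hs : s ∈ g.ker := by
      have h3 : f 1 = g s := has
      rw [map_one] at h3
      exact h3.symm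
    rw [mem_center_iff]
    rintro ⟨⟨b, t⟩, hbt⟩
    apply Subtype.ext
    refine Prod.ext ?_ ?_
    · change b * 1 = 1 * b
      rw [mul_one, one_mul]
    · exact (mem_center_iff.1 (hgc hs) t)
  have hk2 : p2.ker ≤ center E := by
    rintro ⟨⟨a, s⟩, has⟩ h
    have hs : s = 1 := h
    subst hs
    have ha : a ∈ f.ker := by
      have h3 : f a = g 1 := has
      rw [map_one] at h3
      exact h3
    rw [mem_center_iff]
    rintro ⟨⟨b, t⟩, hbt⟩
    apply Subtype.ext
    refine Prod.ext ?_ ?_
    · exact (mem_center_iff.1 (hc ha) b)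
    · change t * 1 = 1 * t
      rw [mul_one, one_mul]
  have hk2c : Nat.card p2.ker = 2 := by
    refine (Nat.card_congr (Equiv.ofBijective (fun x : p2.ker => (⟨x.1.1.1, ?_⟩ : f.ker)) ?_)).trans h2
    · have h3 : f x.1.1.1 = g x.1.1.2 := x.1.2
      have h4 : x.1.1.2 = 1 := x.2
      rw [MonoidHom.mem_ker, h3, h4, map_one]
    · constructor
      · rintro ⟨⟨⟨a, s⟩, h3⟩, h4⟩ ⟨⟨⟨b, t⟩, h5⟩, h6⟩ h7
        have h8 : a = b := congrArg Subtype.val h7
        have h9 : s = 1 := h4
        have h10 : t = 1 := h6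
        subst h8 h9 h10
        rfl
      · rintro ⟨a, ha⟩
        refine ⟨⟨⟨(a, 1), ?_⟩, ?_⟩, rfl⟩
        · change f a = g 1
          rw [map_one]; exact ha
        · rfl
  -- the derived subgroup
  set D := commutator E with hD
  have hD1 : D.map p1 = ⊤ := by
    rw [hD, _root_.commutator_def, Subgroup.map_commutator, ← MonoidHom.range_eq_map, MonoidHom.range_eq_top.2 hp1]
    exact hP
  have hD2 : D.map p2 = ⊤ := by
    rw [hD, _root_.commutator_def, Subgroup.map_commutator, ← MonoidHom.range_eq_map, MonoidHom.range_eq_top.2 hp2]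
    exact S25_perfect
  have hDperf : commutator D = ⊤ := by
    have h1 : commutator E ≤ ⁅D, D⁆ := by
      refine comm_comm D p1.ker hk1 ?_
      intro e
      obtain ⟨d, hd, hde⟩ := (by rw [hD1]; exact mem_top _ : p1 e ∈ D.map p1)
      refine ⟨d, hd, d⁻¹ * e, ?_, by group⟩
      rw [MonoidHom.mem_ker, map_mul, map_inv, hde, inv_mul_cancel]
    have h3 : (commutator D).map D.subtype = (⊤ : Subgroup D).map D.subtype := by
      rw [_root_.commutator_def, Subgroup.map_commutator, ← MonoidHom.range_eq_map, range_subtype]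
      exact le_antisymm (Subgroup.commutator_le_left D D) h1
    exact Subgroup.map_injective D.subtype_injective h3
  let σ : D →* S25 := p2.comp D.subtype
  have hσ : Function.Surjective σ := by
    intro s
    obtain ⟨d, hd, hds⟩ := (by rw [hD2]; exact mem_top _ : s ∈ D.map p2)
    exact ⟨⟨d, hd⟩, hds⟩
  have hσk : σ.ker ≤ center D := by
    intro d hd
    have h3 : (d : E) ∈ center E := hk2 hd
    rw [mem_center_iff] at h3 ⊢
    intro x
    exact Subtype.ext (h3 x)
  have hcard : Nat.card σ.ker ∣ 2 := by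
    have : Nat.card σ.ker = Nat.card (σ.ker.map D.subtype) := (Nat.card_congr (σ.ker.equivMapOfInjective _ D.subtype_injective).toEquiv)
    rw [this]
    refine (Subgroup.card_dvd_of_le (K := p2.ker) ?_).trans (dvd_of_eq hk2c)
    rintro _ ⟨d, hd, rfl⟩
    exact hd
  rcases (Nat.dvd_prime Nat.prime_two).1 hcard with h1 | h1
  · have hinj : Function.Injective σ := by
      rw [← MonoidHom.ker_eq_bot_iff]
      exact Subgroup.card_eq_one.1 h1
    let e2 : D ≃* S25 := MulEquiv.ofBijective σ ⟨hinj, hσ⟩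
    let τ : D →* P := p1.comp D.subtype
    have hτ : Function.Surjective τ := by
      intro s
      obtain ⟨d, hd, hds⟩ := (by rw [hD1]; exact mem_top _ : s ∈ D.map p1)
      exact ⟨⟨d, hd⟩, hds⟩
    have hDc : Nat.card D = 120 := by rw [Nat.card_congr e2.toEquiv, card_S25]
    have hbij : Function.Bijective τ := by
      rw [Function.Bijective]
      refine ⟨?_, hτ⟩
      exact (Nat.bijective_iff_surjective_and_card τ).2 ⟨hτ, by rw [hDc, hPc]⟩ |>.1
    exact ⟨(MulEquiv.ofBijective τ hbij).symm.trans e2⟩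
  · exact (CfsgLib.H7Mult.quat_case (σ := σ) ⟨hσ, hσk, by rw [hDperf]; exact le_top⟩ Nat.prime_two h1
      (fun R hR => CfsgLib.H7Mult.two_case (F := ZMod 5) two_ne_five hR)).elim

end CfsgLib.H3Zas
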