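import Mathlib
import Cfsg.Agent.Lib.Mob12

set_option autoImplicit false
set_option maxHeartbeats 400000

/-! Subgroups of `PGL(2,F)` for finite fields: transfer to the algebraic closure. -/
namespace CfsgLib.Mob13

open OnePoint CfsgLib.Mob3 CfsgLib.Mob4 CfsgLib.Mob5 CfsgLib.Mob7 CfsgLib.Mob10 CfsgLib.Mob12

universe u v w
variable {F : Type u} [Field F] [DecidableEq F] {K : Type v} [Field K] [DecidableEq K] [Algebra F K]

omit [DecidableEq F] in
theorem card_onePoint [Finite F] : Nat.card (OnePoint F) = Nat.card F + 1 := by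
  haveI : Fintype F := Fintype.ofFinite F
  have : Nat.card (Option F) = Nat.card F + 1 := Finite.card_option
  exact this

/-- `p`-elements fix a point of the projective line over a finite field of characteristic `p` -/
theorem fix_of_ppow [Finite F] (p : ℕ) [hp : Fact p.Prime] [CharP F p] (g : Equiv.Perm (OnePoint F)) (k : ℕ) (hg : g ^ p ^ k = 1) :
    ∃ x, g x = x := by
  haveI : Fintype F := Fintype.ofFinite F
  have h1 : IsPGroup p (Subgroup.zpowers g) := by
    have : orderOf g ∣ p ^ k := orderOf_dvd_of_pow_eq_one hg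
    obtain ⟨j, -, hj⟩ := (Nat.dvd_prime_pow hp.out).1 this
    apply IsPGroup.of_card (n := j)
    rw [Nat.card_zpowers, hj]
  haveI : Finite (OnePoint F) := inferInstanceAs (Finite (Option F))
  have h2 := h1.card_modEq_card_fixedPoints (OnePoint F)
  have h3 : p ∣ Nat.card F := by
    obtain ⟨n, hn, hc⟩ := FiniteField.card F p
    rw [Nat.card_eq_fintype_card, hc]
    exact dvd_pow_self p n.ne_zero
  rw [card_onePoint] at h2
  by_contra hcon
  have h4 : Nat.card (MulAction.fixedPoints (Subgroup.zpowers g) (OnePoint F)) = 0 := by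
    haveI : IsEmpty (MulAction.fixedPoints (Subgroup.zpowers g) (OnePoint F)) := ⟨fun x => by
      apply hcon
      exact ⟨x.1, x.2 ⟨g, Subgroup.mem_zpowers g⟩⟩⟩
    exact Nat.card_of_isEmpty
  rw [h4] at h2
  have h5 := (Nat.modEq_zero_iff_dvd.1 h2)
  have h6 := (Nat.dvd_add_right h3).1 h5
  exact hp.out.one_lt.ne' (Nat.dvd_one.1 h6)

section
variable (p : ℕ) [hp : Fact p.Prime] [CharP F p] [CharP K p] [Finite F] {H : Subgroup (Equiv.Perm (OnePoint F))} (hH : H ≤ mob F)
  (φ : H ≃* bc K H)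
  (hφ : ∀ (g : H) (x : OnePoint F), (φ g : Equiv.Perm (OnePoint K)) (jj F K x) = jj F K ((g : Equiv.Perm (OnePoint F)) x))

include hp hH hφ in
omit [Finite F] in
theorem U_iff (g : H) (x : OnePoint F) : (φ g : Equiv.Perm (OnePoint K)) ∈ U (jj F K x) ↔ (g : Equiv.Perm (OnePoint F)) ∈ U x := by
  constructor
  · intro h
    have h1 : (φ g) ^ p = 1 := Subtype.ext (U_pow p h)
    have h2 : g ^ p = 1 := by
      apply φ.injective
      rw [map_pow, h1, map_one]
    apply U_of_pow p (hH g.2) _ 1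
    · rw [pow_one]; exact congrArg Subtype.val h2
    · apply jj_injective (K := K)
      rw [← hφ]
      exact h.2.1
  · intro h
    have h1 : g ^ p = 1 := Subtype.ext (U_pow p h)
    have h2 : (φ g) ^ p = 1 := by rw [← map_pow, h1, map_one]
    apply U_of_pow p (bc_le K H (φ g).2) _ 1
    · rw [pow_one]; exact congrArg Subtype.val h2
    · rw [hφ, h.2.1]

include hp hH hφ in
omit [Finite F] in
theorem card_UU_bc (x : OnePoint F) : Nat.card (UU (bc K H) (jj F K x)) = Nat.card (UU H x) := by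
  symm
  apply Nat.card_congr
  exact {
    toFun := fun g => ⟨φ ⟨g.1, g.2.1⟩, (φ ⟨g.1, g.2.1⟩).2, (U_iff p hH φ hφ _ _).2 g.2.2⟩
    invFun := fun g => ⟨φ.symm ⟨g.1, g.2.1⟩, (φ.symm ⟨g.1, g.2.1⟩).2, (U_iff p hH φ hφ _ _).1 (by
      rw [MulEquiv.apply_symm_apply]; exact g.2.2)⟩
    left_inv := fun g => Subtype.ext (by
      change ((φ.symm (φ ⟨g.1, g.2.1⟩) : H) : Equiv.Perm (OnePoint F)) = g.1
      rw [MulEquiv.symm_apply_apply])
    right_inv := fun g => Subtype.ext (by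
      change ((φ (φ.symm ⟨g.1, g.2.1⟩) : bc K H) : Equiv.Perm (OnePoint K)) = g.1
      rw [MulEquiv.apply_symm_apply]) }

include hp hH hφ in
omit [Finite F] in
theorem UU_ne_iff (x : OnePoint F) : UU (bc K H) (jj F K x) ≠ ⊥ ↔ UU H x ≠ ⊥ := by
  rw [not_iff_not, ← Subgroup.card_eq_one, ← Subgroup.card_eq_one, card_UU_bc p hH φ hφ]

include hp hH hφ in
theorem rational_of_UU {y : OnePoint K} (hy : UU (bc K H) y ≠ ⊥) : ∃ x, y = jj F K x ∧ UU H x ≠ ⊥ := by
  obtain ⟨u, hu, hu1⟩ := exists_ne_of_UU hy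
  obtain ⟨g, hg⟩ := φ.surjective ⟨u, hu.1⟩
  have h1 : (φ g) ^ p = 1 := by rw [hg]; exact Subtype.ext (U_pow p hu.2)
  have h2 : g ^ p = 1 := by
    apply φ.injective
    rw [map_pow, h1, map_one]
  obtain ⟨x, hx⟩ := fix_of_ppow p (g : Equiv.Perm (OnePoint F)) 1 (by rw [pow_one]; exact congrArg Subtype.val h2)
  have h3 : u (jj F K x) = jj F K x := by
    have := hφ g x
    rw [hg, hx] at this
    exact this
  have h4 := eq_of_mem_U hu.2 hu1 h3
  refine ⟨x, h4.symm, ?_⟩
  rw [← UU_ne_iff p hH φ hφ, h4]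
  exact hy

include hp hH hφ in
theorem card_Om_bc : Nat.card {y : OnePoint K | UU (bc K H) y ≠ ⊥} = Nat.card {y : OnePoint F | UU H y ≠ ⊥} := by
  symm
  apply Nat.card_eq_of_bijective (fun x : {y : OnePoint F | UU H y ≠ ⊥} =>
    (⟨jj F K x.1, (UU_ne_iff p hH φ hφ _).2 x.2⟩ : {y : OnePoint K | UU (bc K H) y ≠ ⊥}))
  constructor
  · intro x y hxy
    exact Subtype.ext (jj_injective (congrArg Subtype.val hxy))
  · rintro ⟨y, hy⟩
    obtain ⟨x, rfl, hx⟩ := rational_of_UU p hH φ hφ hy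
    exact ⟨⟨x, hx⟩, rfl⟩

end

/-- the list of subgroups of `PGL(2,F)` -/
theorem classify [Finite F] (p : ℕ) [hp : Fact p.Prime] [CharP F p] [CharP K p] [IsAlgClosed K]
    {H : Subgroup (Equiv.Perm (OnePoint F))} (hH : H ≤ mob F) :
    (∃ x, UU H x ≠ ⊥ ∧ ∀ g ∈ H, g x = x) ∨
    ((∀ y, UU (bc K H) y = ⊥) ∧ ∃ y, ∀ g ∈ bc K H, g y = y) ∨
    (∃ y z, Dih (bc K H) y z) ∨
    (Nat.card H = 12 ∧ ¬ p ∣ 12 ∧ Nonempty (H ≃* alternatingGroup (Fin 4))) ∨
    (Nat.card H = 24 ∧ ¬ p ∣ 24 ∧ Nonempty (H ≃* Equiv.Perm (Fin 4))) ∨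
    (Nat.card H = 60 ∧ (p = 3 ∨ ¬ p ∣ 60) ∧ Nonempty (H ≃* alternatingGroup (Fin 5))) ∨
    (∃ h ∈ mob F, ∃ k : Subfield F, cj h H = sm k F ∨ cj h H = pm k F) := by
  haveI : Finite (OnePoint F) := inferInstanceAs (Finite (Option F))
  haveI : Finite (Equiv.Perm (OnePoint F)) := inferInstance
  haveI : Finite H := inferInstance
  haveI := bc_finite K H hH
  obtain ⟨φ, -, hφ⟩ := bc_iso K H hH
  have hc : Nat.card (bc K H) = Nat.card H := (Nat.card_congr φ.toEquiv).symm
  by_cases hU : ∀ y, UU (bc K H) y = ⊥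
  · have hnd : ¬ p ∣ Nat.card H := by
      intro hdvd
      rw [← hc] at hdvd
      obtain ⟨g, hg⟩ := exists_prime_orderOf_dvd_card' p hdvd
      obtain ⟨y, hy⟩ := exists_fix (bc_le K H g.2)
      have h1 : (g : Equiv.Perm (OnePoint K)) ∈ UU (bc K H) y := by
        refine ⟨g.2, U_of_pow p (bc_le K H g.2) hy 1 ?_⟩
        have : g ^ p = 1 := by rw [← hg, pow_orderOf_eq_one]
        rw [pow_one]
        exact congrArg Subtype.val this
      rw [hU, Subgroup.mem_bot] at h1
      have h2 : g = 1 := Subtype.ext h1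
      rw [h2, orderOf_one] at hg
      exact hp.out.one_lt.ne hg
    rcases CfsgLib.Mob8.tame (bc_le K H) hU with h | h | h | h | h
    · right; left; exact ⟨hU, h⟩
    · right; right; left; exact h
    · right; right; right; left
      obtain ⟨h1, ⟨e⟩⟩ := h
      rw [hc] at h1
      exact ⟨h1, by rwa [h1] at hnd, ⟨φ.trans e⟩⟩
    · right; right; right; right; left
      obtain ⟨h1, ⟨e⟩⟩ := h
      rw [hc] at h1
      exact ⟨h1, by rwa [h1] at hnd, ⟨φ.trans e⟩⟩
    · right; right; right; right; right; left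
      obtain ⟨h1, ⟨e⟩⟩ := h
      rw [hc] at h1
      exact ⟨h1, Or.inr (by rwa [h1] at hnd), ⟨φ.trans e⟩⟩
  · push Not at hU
    obtain ⟨y, hy⟩ := hU
    obtain ⟨x, rfl, hx⟩ := rational_of_UU p hH φ hφ hy
    have hfix : ∀ g ∈ H, ∀ k : ℕ, g ^ p ^ k = 1 → ∃ x, g x = x := fun g _ k hg => fix_of_ppow p g k hg
    rcases CfsgLib.Mob9.wild p (bc_le K H) hy with h | h | h | h
    · left
      refine ⟨x, hx, ?_⟩
      intro g hg
      apply jj_injective (K := K)
      rw [← hφ ⟨g, hg⟩]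
      exact h _ (φ ⟨g, hg⟩).2
    · right; right; left; exact h
    · right; right; right; right; right; right
      obtain ⟨h1, h2, h3⟩ := h
      rw [card_UU_bc p hH φ hφ] at h1 h2 h3
      rw [card_Om_bc p hH φ hφ] at h2
      have hst : Nat.card (St (bc K H) (jj F K x)) = Nat.card (St H x) := by
        have e1 := card_Om p (bc_le K H) (fun g hg k _ => CfsgLib.Mob3.exists_fix (bc_le K H hg)) hy
        have e2 := card_Om p hH hfix hx
        rw [card_Om_bc p hH φ hφ, hc, ← e2] at e1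
        haveI := Om_finite p hH hfix hx
        haveI : Nonempty {y : OnePoint F | UU H y ≠ ⊥} := ⟨⟨x, hx⟩⟩
        exact Nat.eq_of_mul_eq_mul_left Nat.card_pos e1
      rw [hst] at h3
      obtain ⟨h, hh, k, -, hk⟩ := CfsgLib.Mob11.W p hH hfix hx (by omega) h2 (by
        rcases h3 with h4 | h4
        · rw [h4]; omega
        · exact h4.ge)
      exact ⟨h, hh, k, hk⟩
    · right; right; right; right; right; left
      obtain ⟨h1, hp3, ⟨e⟩⟩ := h
      exact ⟨by rw [← hc, h1], Or.inl hp3, ⟨φ.trans e⟩⟩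

end CfsgLib.Mob13
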