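import Mathlib
import Cfsg.Agent.Lib.Mob13

set_option autoImplicit false
set_option maxHeartbeats 400000

/-! Dickson's theorem on the subgroups of `PSL(2,q)`. -/
namespace CfsgLib.Mob14

open OnePoint CfsgLib.Mob3 CfsgLib.Mob4 CfsgLib.Mob5 CfsgLib.Mob7 CfsgLib.Mob10 CfsgLib.Mob12 CfsgLib.Mob13

universe u v w
variable {F : Type u} [Field F]

/-- orders of elements of `PSL(2,q)` prime to the characteristic -/
theorem psl_order [Fintype F] (p : ℕ) [hp : Fact p.Prime] [CharP F p] (h : Matrix.ProjectiveSpecialLinearGroup (Fin 2) F)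
    (hh : ¬ p ∣ orderOf h) :
    orderOf h ∣ (Fintype.card F + 1) / Nat.gcd 2 (Fintype.card F - 1) ∨ orderOf h ∣ (Fintype.card F - 1) / Nat.gcd 2 (Fintype.card F - 1) := by
  classical
  obtain ⟨A, hA⟩ := Quotient.exists_rep h
  have hmk : (QuotientGroup.mk' (Subgroup.center (Matrix.SpecialLinearGroup (Fin 2) F))) A = h := hA
  have h1 : ∀ n, h ^ n = 1 ↔ A ^ n ∈ Subgroup.center (Matrix.SpecialLinearGroup (Fin 2) F) := by
    intro n
    rw [← hmk, ← map_pow]
    exact QuotientGroup.eq_one_iff _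
  have hcen : ∀ B ∈ Subgroup.center (Matrix.SpecialLinearGroup (Fin 2) F), B * B = 1 ∧ (p = 2 → B = 1) := by
    intro B hB
    rw [Matrix.SpecialLinearGroup.mem_center_iff] at hB
    obtain ⟨r, hr, hB⟩ := hB
    rw [Fintype.card_fin] at hr
    constructor
    · ext i j
      rw [Matrix.SpecialLinearGroup.coe_mul, ← hB, ← map_mul, ← pow_two, hr]
      simp
    · intro hp2
      subst hp2
      haveI : CharP F 2 := inferInstance
      have h2 : (r - 1) ^ 2 = 0 := by
        have h20 : (2 : F) = 0 := CharTwo.two_eq_zero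
        linear_combination hr + (1 - r) * h20
      have h3 : r = 1 := sub_eq_zero.1 (pow_eq_zero_iff two_ne_zero |>.1 h2)
      ext i j
      rw [← hB, h3]
      simp
  have hdvd : orderOf h ∣ orderOf A := by
    rw [← hmk]; exact orderOf_map_dvd _ _
  have hq : 2 ≤ Fintype.card F := Fintype.one_lt_card
  by_cases hp2 : p = 2
  · have hoA : orderOf A ∣ orderOf h := by
      apply orderOf_dvd_of_pow_eq_one
      exact (hcen _ ((h1 _).1 (pow_orderOf_eq_one h))).2 hp2
    have heq : orderOf A = orderOf h := Nat.dvd_antisymm hoA hdvd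
    have hcop : Nat.Coprime (orderOf A) p := by
      rw [heq]
      exact (Nat.coprime_comm.1 ((Nat.Prime.coprime_iff_not_dvd hp.out).2 hh))
    have hg : Nat.gcd 2 (Fintype.card F - 1) = 1 := by
      have h5 := (CfsgLib.SL2.coprime_card_sub_one_add_one (F := F) p).1
      rw [hp2] at h5
      exact h5
    rw [hg, Nat.div_one, Nat.div_one, ← heq]
    exact (CfsgLib.SL2.orderOf_dvd_of_coprime p A hcop).symm
  · have h2p : p.Coprime 2 := (Nat.coprime_primes hp.out Nat.prime_two).2 hp2
    have hA2 : orderOf A ∣ 2 * orderOf h := by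
      apply orderOf_dvd_of_pow_eq_one
      rw [mul_comm, pow_mul, pow_two]
      exact (hcen _ ((h1 _).1 (pow_orderOf_eq_one h))).1
    have hcop : Nat.Coprime (orderOf A) p := by
      apply Nat.coprime_comm.1
      exact Nat.Coprime.coprime_dvd_right hA2 (Nat.Coprime.mul_right h2p ((Nat.Prime.coprime_iff_not_dvd hp.out).2 hh))
    have hodd : Odd (Fintype.card F) := by
      obtain ⟨n, _, hc⟩ := FiniteField.card F p
      rw [hc]
      exact (hp.out.odd_of_ne_two hp2).pow
    obtain ⟨c, hc⟩ := hodd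
    have hg : Nat.gcd 2 (Fintype.card F - 1) = 2 := by
      rw [Nat.gcd_eq_left_iff_dvd]
      omega
    have h2F : (2 : F) ≠ 0 := by
      intro h0
      have : ((2 : ℕ) : F) = 0 := by exact_mod_cast h0
      rw [CharP.cast_eq_zero_iff F p] at this
      exact hp2 ((Nat.prime_dvd_prime_iff_eq hp.out Nat.prime_two).1 this)
    have key : ∀ m : ℕ, orderOf A ∣ 2 * m → orderOf h ∣ m := by
      intro m hm
      by_cases hev : Even (orderOf A)
      · obtain ⟨b, hb⟩ := hev
        have hb0 : 0 < b := by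
          have := orderOf_pos A
          omega
        have h3 : A ^ b * A ^ b = 1 := by rw [← pow_add, ← hb, pow_orderOf_eq_one]
        have h4 : A ^ b ≠ 1 := by
          intro h5
          have := Nat.le_of_dvd hb0 (orderOf_dvd_of_pow_eq_one h5)
          omega
        have h5 := CfsgLib.SL2.eq_neg_one_of_mul_self h2F (A ^ b) h4 h3
        have h6 : orderOf h ∣ b := by
          apply orderOf_dvd_of_pow_eq_one
          rw [h1, Matrix.SpecialLinearGroup.mem_center_iff]
          refine ⟨-1, by rw [Fintype.card_fin]; ring, ?_⟩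
          rw [h5]
          ext i j
          fin_cases i <;> fin_cases j <;> simp
        have h7 : 2 * b ∣ 2 * m := by rw [hb] at hm; rwa [two_mul b]
        exact h6.trans (Nat.dvd_of_mul_dvd_mul_left (by norm_num) h7)
      · rw [Nat.not_even_iff_odd] at hev
        exact hdvd.trans ((Nat.coprime_two_right.2 hev).dvd_of_dvd_mul_left hm)
    rw [hg]
    rcases CfsgLib.SL2.orderOf_dvd_of_coprime p A hcop with h3 | h3
    · right
      apply key
      have : 2 * ((Fintype.card F - 1) / 2) = Fintype.card F - 1 := by omega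
      rw [this]; exact h3
    · left
      apply key
      have : 2 * ((Fintype.card F + 1) / 2) = Fintype.card F + 1 := by omega
      rw [this]; exact h3

theorem exists_psi [DecidableEq F] : ∃ Ψ : Matrix.ProjectiveSpecialLinearGroup (Fin 2) F →* Equiv.Perm (OnePoint F),
    Function.Injective Ψ ∧ Ψ.range = sm F F ∧
    ∀ A : Matrix.SpecialLinearGroup (Fin 2) F, Ψ (QuotientGroup.mk A) = gm F F (Matrix.SpecialLinearGroup.toGL A) := by
  let f₁ : Matrix.SpecialLinearGroup (Fin 2) F →* Matrix.ProjectiveSpecialLinearGroup (Fin 2) F :=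
    QuotientGroup.mk' (Subgroup.center (Matrix.SpecialLinearGroup (Fin 2) F))
  let f₂ := ((gm F F).comp Matrix.SpecialLinearGroup.toGL).rangeRestrict
  obtain ⟨ψ, hψ⟩ := same_ker f₁ f₂ (by
    rw [MonoidHom.ker_rangeRestrict]
    ext A
    rw [MonoidHom.mem_ker, MonoidHom.mem_ker, MonoidHom.comp_apply, sm_ker]
    exact QuotientGroup.eq_one_iff _) (QuotientGroup.mk'_surjective _) (MonoidHom.rangeRestrict_surjective _)
  refine ⟨(Subgroup.subtype _).comp ψ.toMonoidHom, ?_, ?_, ?_⟩
  · exact Subtype.val_injective.comp ψ.injective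
  · ext g
    constructor
    · rintro ⟨x, rfl⟩
      exact (ψ x).2
    · intro hg
      refine ⟨ψ.symm ⟨g, hg⟩, ?_⟩
      change ((ψ (ψ.symm ⟨g, hg⟩) : _) : Equiv.Perm (OnePoint F)) = g
      rw [MulEquiv.apply_symm_apply]
  · intro A
    exact congrArg Subtype.val (hψ A)

section
variable [DecidableEq F] {G : Type w} [Group G] (Ψ : G →* Equiv.Perm (OnePoint F)) (hinj : Function.Injective Ψ) (hle : Ψ.range ≤ mob F)

/-- the abstract form: a finite group acting faithfully by Moebius transformations over the finite field `F` -/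
theorem dih_data [Finite F] {K : Type v} [Field K] [DecidableEq K] [Algebra F K] (p : ℕ) [hp : Fact p.Prime] [CharP K p] {H : Subgroup (Equiv.Perm (OnePoint F))} (hH : H ≤ mob F)
    [Finite H] {y z : OnePoint K} (h : Dih (bc K H) y z) :
    ∃ g : H, ¬ p ∣ orderOf g ∧ Nonempty (H ≃* DihedralGroup (orderOf g)) := by
  obtain ⟨φ, -, -⟩ := bc_iso K H hH
  haveI := bc_finite K H hH
  obtain ⟨⟨e⟩, -, hbot, hcyc⟩ := h.iso (bc_le K H)
  obtain ⟨c, hc⟩ := hcyc.exists_generator
  have hoc : orderOf c = Nat.card (St (bc K H) y) := orderOf_eq_card_of_forall_mem_zpowers hc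
  let c' : bc K H := ⟨c, c.2.1⟩
  have hoc' : orderOf c' = orderOf c := by
    rw [← Subgroup.orderOf_coe c', ← Subgroup.orderOf_coe c]
  refine ⟨φ.symm c', ?_, ?_⟩
  · rw [MulEquiv.orderOf_eq, hoc']
    intro hdvd
    obtain ⟨m, hm⟩ := hdvd
    have h1 : (c : Equiv.Perm (OnePoint K)) ^ m ∈ UU (bc K H) y := by
      refine ⟨(bc K H).pow_mem c.2.1 m, U_of_pow p ((mob K).pow_mem (bc_le K H c.2.1) m) ?_ 1 ?_⟩
      · have h2 : (c ^ m).1 y = y := (c ^ m).2.2
        exact h2
      · rw [pow_one, ← pow_mul, mul_comm m p, ← hm, ← Subgroup.orderOf_coe c, pow_orderOf_eq_one]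
    rw [hbot, Subgroup.mem_bot] at h1
    have h3 : c ^ m = 1 := Subtype.ext h1
    have h4 := orderOf_dvd_of_pow_eq_one h3
    rw [hm] at h4
    have hm0 : 0 < m := by
      apply Nat.pos_of_ne_zero
      rintro rfl
      rw [mul_zero] at hm
      haveI : Finite (St (bc K H) y) := Finite.of_injective (Subgroup.inclusion (inf_le_left : St (bc K H) y ≤ bc K H)) (Subgroup.inclusion_injective _)
      exact (orderOf_pos c).ne' hm
    have h5 := Nat.le_of_dvd hm0 h4
    have h6 := hp.out.one_lt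
    nlinarith
  · rw [MulEquiv.orderOf_eq, hoc', hoc]
    exact ⟨φ.trans e⟩

theorem cyc_data [Finite F] {K : Type v} [Field K] [DecidableEq K] [Algebra F K] (p : ℕ) [hp : Fact p.Prime] [CharP K p] {H : Subgroup (Equiv.Perm (OnePoint F))} (hH : H ≤ mob F)
    [Finite H] (hU : ∀ y, UU (bc K H) y = ⊥) {y : OnePoint K} (hy : ∀ g ∈ bc K H, g y = y) :
    IsCyclic H ∧ ¬ p ∣ Nat.card H := by
  obtain ⟨φ, -, -⟩ := bc_iso K H hH
  haveI := bc_finite K H hH
  have hSt : St (bc K H) y = bc K H := by
    apply le_antisymm inf_le_left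
    intro g hg
    exact ⟨hg, hy g hg⟩
  obtain ⟨t, -, -, -, hcyc⟩ := st_gen (bc K H) (bc_le K H) y
  have hc := hcyc (hU y)
  rw [hSt] at hc
  refine ⟨φ.isCyclic.2 hc, ?_⟩
  intro hdvd
  rw [Nat.card_congr φ.toEquiv] at hdvd
  obtain ⟨g, hg⟩ := exists_prime_orderOf_dvd_card' p hdvd
  have h1 : (g : Equiv.Perm (OnePoint K)) ∈ UU (bc K H) y := by
    refine ⟨g.2, U_of_pow p (bc_le K H g.2) (hy g g.2) 1 ?_⟩
    have : g ^ p = 1 := by rw [← hg, pow_orderOf_eq_one]
    rw [pow_one]
    exact congrArg Subtype.val this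
  rw [hU, Subgroup.mem_bot] at h1
  have h2 : g = 1 := Subtype.ext h1
  rw [h2, orderOf_one] at hg
  exact hp.out.one_lt.ne hg

end

end CfsgLib.Mob14
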