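import Mathlib
import Cfsg.Agent.Lib.Mob14

set_option autoImplicit false
set_option maxHeartbeats 400000

/-! Dickson's list of the subgroups of `PSL(2,q)`. -/
namespace CfsgLib.Mob15

open OnePoint CfsgLib.Mob3 CfsgLib.Mob4 CfsgLib.Mob5 CfsgLib.Mob7 CfsgLib.Mob10 CfsgLib.Mob12 CfsgLib.Mob13 CfsgLib.Mob14

universe u v w
variable {F : Type u} [Field F]

/-- Dickson's list -/
theorem list_psl [Fintype F] (p : ℕ) [hp : Fact p.Prime] [CharP F p] (H : Subgroup (Matrix.ProjectiveSpecialLinearGroup (Fin 2) F)) :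
    (∃ P : Sylow p (Matrix.ProjectiveSpecialLinearGroup (Fin 2) F), H ≤ Subgroup.normalizer (P : Set (Matrix.ProjectiveSpecialLinearGroup (Fin 2) F))) ∨
    (IsCyclic H ∧ ¬ p ∣ Nat.card H) ∨
    (∃ g ∈ H, ¬ p ∣ orderOf g ∧ Nonempty (H ≃* DihedralGroup (orderOf g))) ∨
    (Nat.card H = 12 ∧ ¬ p ∣ 12 ∧ Nonempty (H ≃* alternatingGroup (Fin 4))) ∨
    (Nat.card H = 24 ∧ ¬ p ∣ 24 ∧ Nonempty (H ≃* Equiv.Perm (Fin 4))) ∨
    (Nat.card H = 60 ∧ (p = 3 ∨ ¬ p ∣ 60) ∧ Nonempty (H ≃* alternatingGroup (Fin 5))) ∨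
    (∃ k : Subfield F, Nonempty (H ≃* Matrix.ProjectiveSpecialLinearGroup (Fin 2) k) ∨ Nonempty (H ≃* Matrix.ProjGenLinGroup (Fin 2) k)) := by
  classical
  obtain ⟨Ψ, hinj, hrange, -⟩ := exists_psi (F := F)
  haveI : Finite (OnePoint F) := inferInstanceAs (Finite (Option F))
  haveI : Finite (Equiv.Perm (OnePoint F)) := inferInstance
  have hsm : sm F F ≤ mob F := sm_le_pm.trans gm_range_le
  have hle : ∀ g, Ψ g ∈ sm F F := fun g => by rw [← hrange]; exact ⟨g, rfl⟩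
  have hHle : H.map Ψ ≤ mob F := by
    rintro _ ⟨g, _, rfl⟩
    exact hsm (hle g)
  let e : H ≃* H.map Ψ := H.equivMapOfInjective Ψ hinj
  haveI : CharP (AlgebraicClosure F) p := inferInstance
  rcases classify (K := AlgebraicClosure F) p hHle with h | h | h | h | h | h | h
  · left
    obtain ⟨x, hx, hfix⟩ := h
    have hx' : UU (sm F F) x ≠ ⊥ := by
      obtain ⟨u, hu, hu1⟩ := exists_ne_of_UU hx
      intro hbot
      obtain ⟨g, _, hg⟩ := hu.1
      have : u ∈ UU (sm F F) x := ⟨by rw [← hg]; exact hle g, hu.2⟩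
      rw [hbot, Subgroup.mem_bot] at this
      exact hu1 this
    obtain ⟨Q, hQ⟩ := UU_syl p hsm (fun g _ k hg => fix_of_ppow p g k hg) hx'
    let ψ : Matrix.ProjectiveSpecialLinearGroup (Fin 2) F →* sm F F := Ψ.codRestrict (sm F F) hle
    have hψ : Function.Injective ψ := fun a b hab => hinj (congrArg Subtype.val hab)
    have hψs : Function.Surjective ψ := by
      rintro ⟨g, hg⟩
      rw [← hrange] at hg
      obtain ⟨x, hx⟩ := hg
      exact ⟨x, Subtype.ext hx⟩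
    let P := Q.comapOfInjective ψ hψ (by rw [MonoidHom.range_eq_top.2 hψs]; exact le_top)
    refine ⟨P, ?_⟩
    have hmem : ∀ g, g ∈ (P : Subgroup (Matrix.ProjectiveSpecialLinearGroup (Fin 2) F)) ↔ Ψ g ∈ UU (sm F F) x := by
      intro g
      change ψ g ∈ (Q : Subgroup (sm F F)) ↔ _
      rw [hQ]
      rfl
    intro g hg
    change g ∈ Subgroup.normalizer ((P : Subgroup (Matrix.ProjectiveSpecialLinearGroup (Fin 2) F)) : Set (Matrix.ProjectiveSpecialLinearGroup (Fin 2) F))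
    rw [Subgroup.mem_normalizer_iff]
    intro n
    rw [hmem, hmem, map_mul, map_mul, map_inv]
    have h1 := conj_UU hsm (hle g) x (u := Ψ n)
    rwa [hfix _ ⟨g, hg, rfl⟩] at h1
  · right; left
    obtain ⟨hU, y, hy⟩ := h
    obtain ⟨h1, h2⟩ := cyc_data p hHle hU hy
    exact ⟨e.isCyclic.2 h1, by rwa [Nat.card_congr e.toEquiv]⟩
  · right; right; left
    obtain ⟨y, z, hyz⟩ := h
    obtain ⟨g, hg, ⟨e2⟩⟩ := dih_data p hHle hyz
    have ho : orderOf ((e.symm g : H) : Matrix.ProjectiveSpecialLinearGroup (Fin 2) F) = orderOf g := by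
      rw [Subgroup.orderOf_coe, MulEquiv.orderOf_eq]
    refine ⟨e.symm g, (e.symm g).2, ?_, ?_⟩
    · rw [ho]; exact hg
    · rw [ho]; exact ⟨e.trans e2⟩
  · right; right; right; left
    obtain ⟨h1, h2, ⟨e1⟩⟩ := h
    exact ⟨by rw [Nat.card_congr e.toEquiv, h1], h2, ⟨e.trans e1⟩⟩
  · right; right; right; right; left
    obtain ⟨h1, h2, ⟨e1⟩⟩ := h
    exact ⟨by rw [Nat.card_congr e.toEquiv, h1], h2, ⟨e.trans e1⟩⟩
  · right; right; right; right; right; left
    obtain ⟨h1, h2, ⟨e1⟩⟩ := h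
    exact ⟨by rw [Nat.card_congr e.toEquiv, h1], h2, ⟨e.trans e1⟩⟩
  · right; right; right; right; right; right
    obtain ⟨h, hh, k, hk⟩ := h
    refine ⟨k, ?_⟩
    have e1 : H ≃* cj h (H.map Ψ) := e.trans (cjEquiv h _)
    rcases hk with hk | hk
    · left
      obtain ⟨e2⟩ := sm_iso (k := k) (F := F)
      exact ⟨(e1.trans (MulEquiv.subgroupCongr hk)).trans e2⟩
    · right
      obtain ⟨e2⟩ := pm_iso (k := k) (F := F)
      exact ⟨(e1.trans (MulEquiv.subgroupCongr hk)).trans e2⟩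

theorem card_subfield [Fintype F] (k : Subfield F) : ∃ m, Nat.card k ^ m = Fintype.card F := by
  haveI : Fintype k := Fintype.ofFinite k
  exact ⟨Module.finrank k F, by rw [Nat.card_eq_fintype_card, ← Module.card_eq_pow_finrank]⟩

end CfsgLib.Mob15
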