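import Mathlib
import Cfsg.Agent.Lib.Mob15
import Cfsg.Agent.Lib.Linear

set_option autoImplicit false
set_option maxHeartbeats 400000

/-! Orders, field embeddings, and properties of the members of Dickson's list. -/
namespace CfsgLib.Mob16

open OnePoint Matrix CfsgLib.Mob3 CfsgLib.Mob4 CfsgLib.Mob5 CfsgLib.Mob7 CfsgLib.Mob10 CfsgLib.Mob12 CfsgLib.Mob13 CfsgLib.Mob14

universe u v w

theorem card_PGL (k : Type v) [Field k] [Finite k] : Nat.card (ProjGenLinGroup (Fin 2) k) = Nat.card k * (Nat.card k - 1) * (Nat.card k + 1) := by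
  classical
  haveI : Fintype k := Fintype.ofFinite k
  rw [CfsgLib.Linear.card_PGL_eq_card_SL, CfsgLib.SL2.card_SL2, Nat.card_eq_fintype_card]

theorem card_PSL (k : Type v) [Field k] [Finite k] : Nat.gcd 2 (Nat.card k - 1) * Nat.card (ProjectiveSpecialLinearGroup (Fin 2) k) =
    Nat.card k * (Nat.card k - 1) * (Nat.card k + 1) := by
  classical
  haveI : Fintype k := Fintype.ofFinite k
  rw [Nat.card_eq_fintype_card (α := k)]
  exact CfsgLib.SL2.gcd_mul_card_PSL2

/-- embeddings of finite fields -/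
theorem exists_hom {k : Type v} [Field k] [Finite k] {F : Type u} [Field F] [Finite F] {m : ℕ} (h : Nat.card k ^ m = Nat.card F) :
    Nonempty (k →+* F) := by
  haveI : Fintype k := Fintype.ofFinite k
  haveI : Fintype F := Fintype.ofFinite F
  obtain ⟨p, hp⟩ := CharP.exists k
  obtain ⟨n, hpp, hn⟩ := FiniteField.card k p
  haveI : Fact p.Prime := ⟨hpp⟩
  obtain ⟨p', hp'⟩ := CharP.exists F
  obtain ⟨n', hpp', hn'⟩ := FiniteField.card F p'
  haveI : Fact p'.Prime := ⟨hpp'⟩
  rw [Nat.card_eq_fintype_card, Nat.card_eq_fintype_card, hn, hn', ← pow_mul] at h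
  have hm : (n : ℕ) * m ≠ 0 := by
    intro h0
    rw [h0, pow_zero] at h
    exact (Nat.one_lt_pow n'.ne_zero hpp'.one_lt).ne h
  have hpeq : p = p' := by
    have h1 : p ∣ p' ^ (n' : ℕ) := by rw [← h]; exact dvd_pow_self p hm
    exact (Nat.prime_dvd_prime_iff_eq hpp hpp').1 (hpp.dvd_of_dvd_pow h1)
  subst hpeq
  have hexp : (n : ℕ) * m = n' := Nat.pow_right_injective hpp.two_le h
  letI : Algebra (ZMod p) k := ZMod.algebra k p
  letI : Algebra (ZMod p) F := ZMod.algebra F p
  have f1 : Module.finrank (ZMod p) k = n := by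
    have := Module.card_eq_pow_finrank (K := ZMod p) (V := k)
    rw [hn, ZMod.card] at this
    exact (Nat.pow_right_injective hpp.two_le this).symm
  have f2 : Module.finrank (ZMod p) F = n' := by
    have := Module.card_eq_pow_finrank (K := ZMod p) (V := F)
    rw [hn', ZMod.card] at this
    exact (Nat.pow_right_injective hpp.two_le this).symm
  have hd : Module.finrank (ZMod p) k ∣ Module.finrank (ZMod p) F := by
    rw [f1, f2, ← hexp]; exact Dvd.intro _ rfl
  obtain ⟨f⟩ := FiniteField.nonempty_algHom_of_finrank_dvd hd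
  exact ⟨f.toRingHom⟩

theorem exists_subfield {k : Type v} [Field k] [Finite k] {F : Type u} [Field F] [Finite F] {m : ℕ} (h : Nat.card k ^ m = Nat.card F) :
    ∃ k' : Subfield F, Nonempty (k ≃+* k') := by
  obtain ⟨f⟩ := exists_hom h
  exact ⟨f.fieldRange, ⟨RingEquiv.ofBijective f.rangeRestrictField ⟨fun a b hab => f.injective (congrArg Subtype.val hab), f.rangeRestrictField_bijective.2⟩⟩⟩

section
variable (F : Type u) [Field F] [DecidableEq F]

/-- the action of `PSL(2,F)` on the projective line -/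
noncomputable def Psi : ProjectiveSpecialLinearGroup (Fin 2) F →* Equiv.Perm (OnePoint F) := (exists_psi (F := F)).choose

theorem Psi_injective : Function.Injective (Psi F) := (exists_psi (F := F)).choose_spec.1
theorem Psi_range : (Psi F).range = sm F F := (exists_psi (F := F)).choose_spec.2.1
theorem Psi_mk (A : SpecialLinearGroup (Fin 2) F) : Psi F (QuotientGroup.mk A) = gm F F (SpecialLinearGroup.toGL A) :=
  (exists_psi (F := F)).choose_spec.2.2 A
theorem Psi_mem (g : ProjectiveSpecialLinearGroup (Fin 2) F) : Psi F g ∈ sm F F := by rw [← Psi_range]; exact ⟨g, rfl⟩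
theorem Psi_mem_mob (g : ProjectiveSpecialLinearGroup (Fin 2) F) : Psi F g ∈ mob F := gm_range_le (sm_le_pm (Psi_mem F g))

variable {F}
theorem map_le_mob (H : Subgroup (ProjectiveSpecialLinearGroup (Fin 2) F)) : H.map (Psi F) ≤ mob F := by
  rintro _ ⟨g, _, rfl⟩
  exact Psi_mem_mob F g

/-- subgroups of `sm F F` come from subgroups of `PSL(2,F)` -/
theorem exists_of_le {S : Subgroup (Equiv.Perm (OnePoint F))} (hS : S ≤ sm F F) :
    ∃ H : Subgroup (ProjectiveSpecialLinearGroup (Fin 2) F), H.map (Psi F) = S ∧ Nonempty (H ≃* S) := by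
  have h1 : (S.comap (Psi F)).map (Psi F) = S := by
    rw [Subgroup.map_comap_eq, Psi_range]
    exact inf_eq_right.2 hS
  refine ⟨S.comap (Psi F), h1, ?_⟩
  exact ⟨((S.comap (Psi F)).equivMapOfInjective (Psi F) (Psi_injective F)).trans (MulEquiv.subgroupCongr h1)⟩

end

/-- `PSL(2,k)` embeds in `PSL(2,F)` for a subfield `k` -/
theorem psl_embeds {k : Type v} [Field k] [Finite k] {F : Type u} [Field F] [Finite F] {m : ℕ} (h : Nat.card k ^ m = Nat.card F) :
    ∃ H : Subgroup (ProjectiveSpecialLinearGroup (Fin 2) F), Nonempty (H ≃* ProjectiveSpecialLinearGroup (Fin 2) k) := by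
  classical
  obtain ⟨f⟩ := exists_hom h
  letI : Algebra k F := f.toAlgebra
  have hle : sm k F ≤ sm F F := by
    rintro _ ⟨A, rfl⟩
    refine ⟨Matrix.SpecialLinearGroup.map (algebraMap k F) A, ?_⟩
    rw [MonoidHom.comp_apply, MonoidHom.comp_apply, gm_eq, gm_eq]
    apply mk_congr <;> rfl
  obtain ⟨H, -, ⟨e⟩⟩ := exists_of_le hle
  obtain ⟨e2⟩ := sm_iso (k := k) (F := F)
  exact ⟨H, ⟨e.trans e2⟩⟩

/-- `PGL(2,k)` embeds in `PSL(2,F)` if every element of `k` is a square in `F` -/
theorem pgl_embeds_of {k : Type v} [Field k] {F : Type u} [Field F] (f : k →+* F) (hsq : ∀ a : k, IsSquare (f a)) :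
    ∃ H : Subgroup (ProjectiveSpecialLinearGroup (Fin 2) F), Nonempty (H ≃* ProjGenLinGroup (Fin 2) k) := by
  classical
  letI : Algebra k F := f.toAlgebra
  have hle : pm k F ≤ sm F F := by
    rintro _ ⟨A, rfl⟩
    have h1 : gm k F A = gm F F (Matrix.GeneralLinearGroup.map (algebraMap k F) A) := by
      rw [gm_eq, gm_eq]
      apply mk_congr <;> rfl
    rw [h1]
    apply gm_mem_sm_of_isSquare
    have h2 : Matrix.det ((Matrix.GeneralLinearGroup.map (algebraMap k F) A : GL (Fin 2) F) : Matrix (Fin 2) (Fin 2) F) =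
        f (Matrix.det (A : Matrix (Fin 2) (Fin 2) k)) := by
      rw [RingHom.map_det]; rfl
    rw [h2]
    exact hsq _
  obtain ⟨H, -, ⟨e⟩⟩ := exists_of_le hle
  obtain ⟨e2⟩ := pm_iso (k := k) (F := F)
  exact ⟨H, ⟨e.trans e2⟩⟩

/-- elements of a subfield of even degree are squares -/
theorem isSquare_of_even {k : Type v} [Field k] [Finite k] {F : Type u} [Field F] [Finite F] (f : k →+* F) {m : ℕ}
    (h : Nat.card k ^ (2 * m) = Nat.card F) (a : k) : IsSquare (f a) := by
  classical
  haveI : Fintype k := Fintype.ofFinite k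
  haveI : Fintype F := Fintype.ofFinite F
  by_cases h2 : ringChar F = 2
  · exact FiniteField.isSquare_of_char_two h2 _
  · by_cases ha : a = 0
    · rw [ha, map_zero]; exact IsSquare.zero
    · have hfa : f a ≠ 0 := (map_ne_zero f).2 ha
      rw [FiniteField.isSquare_iff h2 hfa]
      rw [Nat.card_eq_fintype_card, Nat.card_eq_fintype_card] at h
      have hodd : Fintype.card F % 2 = 1 := FiniteField.odd_card_of_char_ne_two h2
      have hq : 1 ≤ Fintype.card k := Fintype.card_pos
      -- c - 1 divides (c^(2m) - 1)/2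
      set c := Fintype.card k with hc
      have hcodd : c % 2 = 1 := by
        by_contra hcon
        have h3 : Even c := by rw [Nat.even_iff]; omega
        have hm : m ≠ 0 := by
          rintro rfl
          rw [mul_zero, pow_zero] at h
          have := Fintype.one_lt_card (α := F)
          omega
        have h4 : Even (c ^ (2 * m)) := h3.pow_of_ne_zero (by omega)
        rw [h, Nat.even_iff] at h4
        omega
      have h5 : (c - 1) ∣ Fintype.card F / 2 := by
        have h6 : c ^ 2 - 1 ∣ c ^ (2 * m) - 1 := by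
          rw [pow_mul]; exact Nat.sub_one_dvd_pow_sub_one (c ^ 2) m
        rw [h] at h6
        have h7 : c ^ 2 - 1 = (c - 1) * (c + 1) := by
          obtain ⟨d, hd⟩ : ∃ d, c = d + 1 := ⟨c - 1, by omega⟩
          rw [hd]
          have : (d + 1) ^ 2 = d * (d + 1 + 1) + 1 := by ring
          rw [this]; simp
        have h8 : (c - 1) * 2 ∣ c ^ 2 - 1 := by
          rw [h7]
          exact Nat.mul_dvd_mul_left _ (by omega)
        have h9 : (c - 1) * 2 ∣ 2 * (Fintype.card F / 2) := by
          have : 2 * (Fintype.card F / 2) = Fintype.card F - 1 := by omega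
          rw [this]; exact h8.trans h6
        rw [mul_comm] at h9
        exact Nat.dvd_of_mul_dvd_mul_left (by norm_num) h9
      obtain ⟨t, ht⟩ := h5
      rw [ht, ← map_pow, pow_mul, FiniteField.pow_card_sub_one_eq_one a ha, one_pow, map_one]

theorem pgl_embeds {k : Type v} [Field k] [Finite k] {F : Type u} [Field F] [Finite F] {m : ℕ} (h : Nat.card k ^ (2 * m) = Nat.card F) :
    ∃ H : Subgroup (ProjectiveSpecialLinearGroup (Fin 2) F), Nonempty (H ≃* ProjGenLinGroup (Fin 2) k) := by
  obtain ⟨f⟩ := exists_hom h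
  exact pgl_embeds_of f (isSquare_of_even f h)

end CfsgLib.Mob16
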