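import Mathlib
import Cfsg.Agent.Lib.Mob16

set_option autoImplicit false
set_option maxHeartbeats 400000

/-! Subfield subgroups; small alternating and symmetric groups. -/
namespace CfsgLib.Mob17

open OnePoint Matrix CfsgLib.Mob3 CfsgLib.Mob4 CfsgLib.Mob5 CfsgLib.Mob7 CfsgLib.Mob10 CfsgLib.Mob12 CfsgLib.Mob13 CfsgLib.Mob14 CfsgLib.Mob16

universe u v w

theorem odd_geom {c m : ℕ} (hc : Odd c) (hm : Odd m) : Odd (∑ i ∈ Finset.range m, (c ^ 2) ^ i) := by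
  rw [Finset.odd_sum_iff_odd_card_odd]
  have : {x ∈ Finset.range m | Odd ((c ^ 2) ^ x)} = Finset.range m := by
    apply Finset.filter_true_of_mem
    intro i _
    exact (hc.pow).pow
  rw [this, Finset.card_range]
  exact hm

theorem pgl_not_dvd {c m : ℕ} (hc : Odd c) (hc1 : 1 < c) (hm : Odd m) {N : ℕ} (hN : 2 * N = c ^ m * (c ^ m - 1) * (c ^ m + 1)) :
    ¬ c * (c - 1) * (c + 1) ∣ N := by
  intro h
  have h1 : 2 * (c * (c - 1) * (c + 1)) ∣ c ^ m * (c ^ m - 1) * (c ^ m + 1) := by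
    rw [← hN]; exact Nat.mul_dvd_mul_left 2 h
  obtain ⟨d, rfl⟩ : ∃ d, c = d + 1 := ⟨c - 1, by omega⟩
  have h2 : (d + 1) ^ m * ((d + 1) ^ m - 1) * ((d + 1) ^ m + 1) = (d * (d + 2)) * ((d + 1) ^ m * ∑ i ∈ Finset.range m, ((d + 1) ^ 2) ^ i) := by
    have hpos : 1 ≤ (d + 1) ^ m := Nat.one_le_pow _ _ (by omega)
    have e1 : ((d + 1) ^ m - 1) * ((d + 1) ^ m + 1) = ((d + 1) ^ 2) ^ m - 1 := by
      obtain ⟨e, he⟩ : ∃ e, (d + 1) ^ m = e + 1 := ⟨(d + 1) ^ m - 1, by omega⟩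
      rw [← pow_mul, mul_comm 2 m, pow_mul, he]
      have : (e + 1) ^ 2 = e * (e + 1 + 1) + 1 := by ring
      rw [this]; simp
    have e2 := Nat.geomSum_eq (m := (d + 1) ^ 2) (by nlinarith) m
    have e3 : (d + 1) ^ 2 - 1 = d * (d + 2) := by
      have : (d + 1) ^ 2 = d * (d + 2) + 1 := by ring
      rw [this]; simp
    have e4 : ((d + 1) ^ 2) ^ m - 1 = d * (d + 2) * ∑ i ∈ Finset.range m, ((d + 1) ^ 2) ^ i := by
      have h5 : ((d + 1) ^ 2 - 1) ∣ ((d + 1) ^ 2) ^ m - 1 := Nat.sub_one_dvd_pow_sub_one _ m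
      rw [e2, ← e3]
      exact (Nat.mul_div_cancel' h5).symm
    rw [mul_assoc, e1, e4]; ring
  rw [h2] at h1
  have h3 : d + 1 - 1 = d := by omega
  rw [h3] at h1
  have h4 : 2 * ((d + 1) * d * (d + 1 + 1)) = (d * (d + 2)) * (2 * (d + 1)) := by ring
  rw [h4] at h1
  have hd : 0 < d * (d + 2) := by
    apply Nat.mul_pos <;> omega
  have h5 := Nat.dvd_of_mul_dvd_mul_left hd h1
  have h6 : 2 ∣ (d + 1) ^ m * ∑ i ∈ Finset.range m, ((d + 1) ^ 2) ^ i := (Dvd.intro _ rfl).trans h5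
  have h7 : Odd ((d + 1) ^ m * ∑ i ∈ Finset.range m, ((d + 1) ^ 2) ^ i) := (hc.pow).mul (odd_geom hc hm)
  rw [← Nat.not_even_iff_odd] at h7
  exact h7 (even_iff_two_dvd.2 h6)

theorem pgl_iff {k : Type v} [Field k] [Finite k] {F : Type u} [Field F] [Finite F] {m : ℕ} (h : Nat.card k ^ m = Nat.card F)
    (hodd : Odd (Nat.card F)) (hm : 1 ≤ m) :
    (∃ H : Subgroup (ProjectiveSpecialLinearGroup (Fin 2) F), Nonempty (H ≃* ProjGenLinGroup (Fin 2) k)) ↔ Even m := by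
  constructor
  · rintro ⟨H, ⟨e⟩⟩
    by_contra hcon
    rw [Nat.not_even_iff_odd] at hcon
    have h1 : Nat.card H ∣ Nat.card (ProjectiveSpecialLinearGroup (Fin 2) F) := Subgroup.card_subgroup_dvd_card H
    rw [Nat.card_congr e.toEquiv, card_PGL] at h1
    have h2 := card_PSL F
    have hF1 : 1 < Nat.card F := Finite.one_lt_card
    have hg : Nat.gcd 2 (Nat.card F - 1) = 2 := by
      rw [Nat.gcd_eq_left_iff_dvd]
      obtain ⟨t, ht⟩ := hodd
      omega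
    rw [hg, ← h] at h2
    rw [← h] at hodd
    have hodd' : Odd (Nat.card k) := by
      rw [← Nat.not_even_iff_odd] at hodd ⊢
      intro h3
      exact hodd (h3.pow_of_ne_zero (by omega))
    exact pgl_not_dvd hodd' Finite.one_lt_card hcon h2 h1
  · rintro ⟨t, ht⟩
    apply pgl_embeds (m := t)
    rw [← h, ht, two_mul]

end CfsgLib.Mob17
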