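import Mathlib
import Cfsg.Agent.Lib.Mob17

set_option autoImplicit false
set_option maxHeartbeats 400000

/-! Dickson's list in geometric form, and groups containing non-commuting elements of order three. -/
namespace CfsgLib.Mob18

open OnePoint Matrix CfsgLib.Mob3 CfsgLib.Mob4 CfsgLib.Mob5 CfsgLib.Mob7 CfsgLib.Mob10 CfsgLib.Mob12 CfsgLib.Mob13 CfsgLib.Mob14 CfsgLib.Mob16

universe u v w

theorem list_geo {F : Type u} [Field F] [DecidableEq F] [Finite F] (p : ℕ) [hp : Fact p.Prime] [CharP F p]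
    (H : Subgroup (ProjectiveSpecialLinearGroup (Fin 2) F)) :
    (∃ x, UU (H.map (Psi F)) x ≠ ⊥ ∧ ∀ g ∈ H, Psi F g x = x) ∨
    (IsCyclic H ∧ ¬ p ∣ Nat.card H) ∨
    (∃ g ∈ H, ¬ p ∣ orderOf g ∧ Nonempty (H ≃* DihedralGroup (orderOf g))) ∨
    (Nat.card H = 12 ∧ ¬ p ∣ 12 ∧ Nonempty (H ≃* alternatingGroup (Fin 4))) ∨
    (Nat.card H = 24 ∧ ¬ p ∣ 24 ∧ Nonempty (H ≃* Equiv.Perm (Fin 4))) ∨
    (Nat.card H = 60 ∧ (p = 3 ∨ ¬ p ∣ 60) ∧ Nonempty (H ≃* alternatingGroup (Fin 5))) ∨
    (∃ h ∈ mob F, ∃ k : Subfield F, cj h (H.map (Psi F)) = sm k F ∨ cj h (H.map (Psi F)) = pm k F) := by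
  classical
  haveI : Finite (OnePoint F) := inferInstanceAs (Finite (Option F))
  haveI : Finite (Equiv.Perm (OnePoint F)) := inferInstance
  have hHle := map_le_mob (F := F) H
  let e : H ≃* H.map (Psi F) := H.equivMapOfInjective (Psi F) (Psi_injective F)
  haveI : CharP (AlgebraicClosure F) p := inferInstance
  rcases classify (K := AlgebraicClosure F) p hHle with h | h | h | h | h | h | h
  · left
    obtain ⟨x, hx, hfix⟩ := h
    exact ⟨x, hx, fun g hg => hfix _ ⟨g, hg, rfl⟩⟩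
  · right; left
    obtain ⟨hU, y, hy⟩ := h
    obtain ⟨h1, h2⟩ := cyc_data p hHle hU hy
    exact ⟨e.isCyclic.2 h1, by rwa [Nat.card_congr e.toEquiv]⟩
  · right; right; left
    obtain ⟨y, z, hyz⟩ := h
    obtain ⟨g, hg, ⟨e2⟩⟩ := dih_data p hHle hyz
    have ho : orderOf ((e.symm g : H) : ProjectiveSpecialLinearGroup (Fin 2) F) = orderOf g := by
      rw [Subgroup.orderOf_coe, MulEquiv.orderOf_eq]
    refine ⟨e.symm g, (e.symm g).2, ?_, ?_⟩
    · rw [ho]; exact hg
    · rw [ho]; exact ⟨e.trans e2⟩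
  · right; right; right; left
    obtain ⟨h1, h2, ⟨e1⟩⟩ := h
    exact ⟨by rw [Nat.card_congr e.toEquiv, h1], h2, ⟨e.trans e1⟩⟩
  · right; right; right; right; left
    obtain ⟨h1, h2, ⟨e1⟩⟩ := h
    exact ⟨by rw [Nat.card_congr e.toEquiv, h1], h2, ⟨e.trans e1⟩⟩
  · right; right; right; right; right; left
    obtain ⟨h1, h2, ⟨e1⟩⟩ := h
    exact ⟨by rw [Nat.card_congr e.toEquiv, h1], h2, ⟨e.trans e1⟩⟩
  · right; right; right; right; right; right
    exact h

theorem iso_of_conj {F : Type u} [Field F] [DecidableEq F] {H : Subgroup (ProjectiveSpecialLinearGroup (Fin 2) F)} {h : Equiv.Perm (OnePoint F)}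
    {S : Subgroup (Equiv.Perm (OnePoint F))} (hk : cj h (H.map (Psi F)) = S) : Nonempty (H ≃* S) :=
  ⟨((H.equivMapOfInjective (Psi F) (Psi_injective F)).trans (cjEquiv h _)).trans (MulEquiv.subgroupCongr hk)⟩

/-- elements of order three commute in a dihedral group -/
theorem dih_comm {G : Type u} [Group G] {n r : ℕ} (hr : 3 ≤ r) (e : G ≃* DihedralGroup n) {a b : G} (ha : orderOf a = r) (hb : orderOf b = r) :
    a * b = b * a := by
  have key : ∀ a : G, orderOf a = r → ∃ i, e a = DihedralGroup.r i := by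
    intro a ha
    rcases h : e a with i | i
    · exact ⟨i, rfl⟩
    · exfalso
      have h1 : orderOf (e a) = 2 := by rw [h]; exact DihedralGroup.orderOf_sr i
      rw [MulEquiv.orderOf_eq] at h1
      omega
  obtain ⟨i, hi⟩ := key a ha
  obtain ⟨j, hj⟩ := key b hb
  apply e.injective
  rw [map_mul, map_mul, hi, hj, DihedralGroup.r_mul_r, DihedralGroup.r_mul_r, add_comm]

/-- elements of order `p` of a group fixing a point commute -/
theorem fix_comm {F : Type u} [Field F] [DecidableEq F] (p : ℕ) [hp : Fact p.Prime] [CharP F p]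
    {x : OnePoint F} {a b : ProjectiveSpecialLinearGroup (Fin 2) F}
    (ha : a ^ p = 1) (hb : b ^ p = 1) (hax : Psi F a x = x) (hbx : Psi F b x = x) : a * b = b * a := by
  have h1 : Psi F a ∈ U x := U_of_pow p (Psi_mem_mob F a) hax 1 (by rw [pow_one, ← map_pow, ha, map_one])
  have h2 : Psi F b ∈ U x := U_of_pow p (Psi_mem_mob F b) hbx 1 (by rw [pow_one, ← map_pow, hb, map_one])
  apply Psi_injective F
  rw [map_mul, map_mul]
  exact U_comm h1 h2

theorem UU_dvd {F : Type u} [Field F] [DecidableEq F] [Finite F] (p : ℕ) [hp : Fact p.Prime] [CharP F p]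
    {H : Subgroup (ProjectiveSpecialLinearGroup (Fin 2) F)} {x : OnePoint F} (hx : UU (H.map (Psi F)) x ≠ ⊥) : p ∣ Nat.card H := by
  obtain ⟨u, hu, hu1⟩ := exists_ne_of_UU hx
  obtain ⟨g, hg, hgu⟩ := hu.1
  have h1 : orderOf (⟨g, hg⟩ : H) = p := by
    apply orderOf_eq_prime
    · apply Subtype.ext
      apply Psi_injective F
      change Psi F (g ^ p) = Psi F 1
      rw [map_pow, hgu, map_one]
      exact U_pow p hu.2
    · intro h
      apply hu1
      rw [← hgu, show g = 1 from congrArg Subtype.val h, map_one]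
  rw [← h1]
  exact orderOf_dvd_natCard _

theorem nc3 {F : Type u} [Field F] [DecidableEq F] [Finite F] (p : ℕ) [hp : Fact p.Prime] [CharP F p]
    (H : Subgroup (ProjectiveSpecialLinearGroup (Fin 2) F)) (ht : p = 3 ∨ ¬ p ∣ Nat.card H) {a b : ProjectiveSpecialLinearGroup (Fin 2) F}
    (ha : a ∈ H) (hb : b ∈ H) (oa : orderOf a = 3) (ob : orderOf b = 3) (hab : a * b ≠ b * a) :
    (Nat.card H = 12 ∧ ¬ p ∣ 12 ∧ Nonempty (H ≃* alternatingGroup (Fin 4))) ∨
    (Nat.card H = 24 ∧ ¬ p ∣ 24 ∧ Nonempty (H ≃* Equiv.Perm (Fin 4))) ∨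
    (Nat.card H = 60 ∧ (p = 3 ∨ ¬ p ∣ 60) ∧ Nonempty (H ≃* alternatingGroup (Fin 5))) ∨
    (∃ h ∈ mob F, ∃ k : Subfield F, cj h (H.map (Psi F)) = sm k F ∨ cj h (H.map (Psi F)) = pm k F) := by
  rcases list_geo p H with h | h | h | h | h | h | h
  · exfalso
    obtain ⟨x, hx, hfix⟩ := h
    have h1 := UU_dvd p hx
    have hp3 : p = 3 := ht.resolve_right (not_not.2 h1)
    apply hab
    apply fix_comm p _ _ (hfix a ha) (hfix b hb)
    · rw [hp3, ← oa, pow_orderOf_eq_one]
    · rw [hp3, ← ob, pow_orderOf_eq_one]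
  · exfalso
    have h1 := h.1.commutative.is_comm.comm (⟨a, ha⟩ : H) ⟨b, hb⟩
    exact hab (congrArg Subtype.val h1)
  · exfalso
    obtain ⟨g, _, _, ⟨e⟩⟩ := h
    have h1 := dih_comm (le_refl 3) e (a := ⟨a, ha⟩) (b := ⟨b, hb⟩) (by rw [← Subgroup.orderOf_coe]; exact oa) (by rw [← Subgroup.orderOf_coe]; exact ob)
    exact hab (congrArg Subtype.val h1)
  · left; exact h
  · right; left; exact h
  · right; right; left; exact h
  · right; right; right; exact h

theorem psl3_iso (k : Type v) [Field k] [Finite k] (hk : Nat.card k = 3) : Nonempty (ProjectiveSpecialLinearGroup (Fin 2) k ≃* alternatingGroup (Fin 4)) := by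
  classical
  haveI : Fintype k := Fintype.ofFinite k
  rw [Nat.card_eq_fintype_card] at hk
  apply CfsgLib.SL2.PSL_equiv_alternating_of_card (n := 4) (by rw [hk])
  rw [hk]; rfl

theorem psl5_iso (k : Type v) [Field k] [Finite k] (hk : Nat.card k = 4) : Nonempty (ProjectiveSpecialLinearGroup (Fin 2) k ≃* alternatingGroup (Fin 5)) := by
  classical
  haveI : Fintype k := Fintype.ofFinite k
  rw [Nat.card_eq_fintype_card] at hk
  apply CfsgLib.SL2.PSL_equiv_alternating_of_card (n := 5) (by rw [hk])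
  rw [hk]; rfl

theorem pgl3_iso (k : Type v) [Field k] [Finite k] (hk : Nat.card k = 3) : Nonempty (ProjGenLinGroup (Fin 2) k ≃* Equiv.Perm (Fin 4)) := by
  classical
  haveI : Fintype k := Fintype.ofFinite k
  obtain ⟨e⟩ := pm_iso (k := k) (F := k)
  have hc : Nat.card (ProjGenLinGroup (Fin 2) k) = 24 := by rw [card_PGL, hk]
  haveI : Finite (OnePoint k) := inferInstanceAs (Finite (Option k))
  let e2 : OnePoint k ≃ Fin 4 := by
    have h1 : Nat.card (OnePoint k) = 4 := by rw [card_onePoint, hk]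
    exact (Finite.equivFin _).trans (finCongr h1)
  let f : ProjGenLinGroup (Fin 2) k →* Equiv.Perm (Fin 4) := e2.permCongrHom.toMonoidHom.comp ((Subgroup.subtype _).comp e.symm.toMonoidHom)
  have hf : Function.Injective f := e2.permCongrHom.injective.comp (Subtype.val_injective.comp e.symm.injective)
  haveI : Finite (ProjGenLinGroup (Fin 2) k) := Nat.finite_of_card_ne_zero (by rw [hc]; norm_num)
  have hb : Function.Bijective f := by
    rw [Nat.bijective_iff_injective_and_card]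
    refine ⟨hf, ?_⟩
    rw [hc, Nat.card_eq_fintype_card, Fintype.card_perm, Fintype.card_fin]; rfl
  exact ⟨MulEquiv.ofBijective f hb⟩

end CfsgLib.Mob18
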