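import Mathlib
import Cfsg.Agent.Lib.Mob18

set_option autoImplicit false
set_option maxHeartbeats 400000

/-! Coset enumeration for the tetrahedral and icosahedral groups. -/
namespace CfsgLib.Mob19

universe u

section
variable {G : Type u} [Group G]

theorem card_le_of_cosets {H K : Subgroup G} [Finite H] {n : ℕ} (r : Fin n → G) (hcov : ∀ g ∈ K, ∃ i, g * (r i)⁻¹ ∈ H) :
    Finite K ∧ Nat.card K ≤ n * Nat.card H := by
  classical
  choose f hf using hcov
  have hinj : Function.Injective (fun g : K => ((f g g.2, ⟨_, hf g g.2⟩) : Fin n × H)) := by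
    intro a b hab
    have h1 : f a a.2 = f b b.2 := congrArg Prod.fst hab
    have h2 : (a : G) * (r (f a a.2))⁻¹ = b * (r (f b b.2))⁻¹ := congrArg Subtype.val (congrArg Prod.snd hab)
    rw [h1] at h2
    exact Subtype.ext (mul_right_cancel h2)
  refine ⟨Finite.of_injective _ hinj, ?_⟩
  have h3 := Nat.card_le_card_of_injective _ hinj
  rwa [Nat.card_prod, Nat.card_fin] at h3

/-- a set containing `1` and closed under right multiplication by torsion generators contains the closure -/
theorem mem_of_closed {S T : Set G} (h1 : (1 : G) ∈ S) (hS : ∀ s ∈ S, ∀ t ∈ T, s * t ∈ S) (h3 : ∀ t ∈ T, t * t * t = 1) :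
    ∀ g ∈ Subgroup.closure T, g ∈ S := by
  intro g hg
  refine Subgroup.closure_induction_right (p := fun g _ => g ∈ S) h1 ?_ ?_ hg
  · intro x _ y hy hx
    exact hS x hx y hy
  · intro x _ y hy hx
    have h4 : y⁻¹ = y * y := by
      rw [inv_eq_iff_mul_eq_one]
      have := h3 y hy
      rwa [mul_assoc] at this
    rw [h4, ← mul_assoc]
    exact hS _ (hS x hx y hy) y hy

variable {a b c : G}

theorem step_mem {H : Subgroup G} {g r y r' : G} (h : g * r⁻¹ ∈ H) (h2 : r * y * r'⁻¹ ∈ H) : g * y * r'⁻¹ ∈ H := by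
  have := H.mul_mem h h2
  have h3 : g * r⁻¹ * (r * y * r'⁻¹) = g * y * r'⁻¹ := by group
  rwa [h3] at this

theorem rel1 (ha : a * a * a = 1) (hab : a * b * a * b = 1) : b * a * b = a⁻¹ := by
  rw [eq_inv_iff_mul_eq_one]
  have h := congrArg (fun t => a⁻¹ * t * a) hab
  simp only [mul_one, inv_mul_cancel] at h
  rw [← h]; group

theorem rel2 (hab : a * b * a * b = 1) : a * b = b⁻¹ * a⁻¹ := by
  rw [← mul_inv_rev, eq_inv_iff_mul_eq_one, ← mul_assoc]
  exact hab

theorem rel3 (ha : a * a * a = 1) : a * a = a⁻¹ := by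
  rw [eq_inv_iff_mul_eq_one]; exact ha

theorem rel4 (ha : a * a * a = 1) : a⁻¹ * a⁻¹ = a := by
  rw [← mul_inv_rev, rel3 ha, inv_inv]

theorem tet_bound (ha : a * a * a = 1) (hb : b * b * b = 1) (hab : a * b * a * b = 1) :
    Finite (Subgroup.closure ({a, b} : Set G)) ∧ Nat.card (Subgroup.closure ({a, b} : Set G)) ≤ 12 := by
  have hfin : (Set.Finite ({1, a, a⁻¹} : Set G)) := Set.toFinite _
  have hza : (Subgroup.zpowers a : Set G) ⊆ {1, a, a⁻¹} := by
    intro g hg
    obtain ⟨n, rfl⟩ := hg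
    have h3 : a ^ (3 : ℤ) = 1 := by
      have : a ^ (3 : ℤ) = a * a * a := by
        rw [show (3 : ℤ) = 1 + 1 + 1 by norm_num, zpow_add, zpow_add, zpow_one]
      rw [this, ha]
    have h4 : n % 3 = 0 ∨ n % 3 = 1 ∨ n % 3 = 2 := by omega
    have h5 : a ^ n = a ^ (n % 3) := by
      conv_lhs => rw [← Int.emod_add_mul_ediv n 3, zpow_add, zpow_mul, h3, one_zpow, mul_one]
    simp only [Set.mem_insert_iff, Set.mem_singleton_iff]
    rw [h5]
    rcases h4 with h | h | h
    · left; rw [h, zpow_zero]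
    · right; left; rw [h, zpow_one]
    · right; right; rw [h, ← rel3 ha, show (2 : ℤ) = 1 + 1 by norm_num, zpow_add, zpow_one]
  haveI hfz : Finite (Subgroup.zpowers a) := (hfin.subset hza).to_subtype
  have hcz : Nat.card (Subgroup.zpowers a) ≤ 3 := by
    have h1 : Nat.card (Subgroup.zpowers a) = (Subgroup.zpowers a : Set G).ncard := rfl
    rw [h1]
    refine (Set.ncard_le_ncard hza hfin).trans ?_
    refine (Set.ncard_insert_le _ _).trans ?_
    have := Set.ncard_insert_le a ({a⁻¹} : Set G)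
    rw [Set.ncard_singleton] at this
    omega
  have haH : a ∈ Subgroup.zpowers a := Subgroup.mem_zpowers a
  have key : ∀ g ∈ Subgroup.closure ({a, b} : Set G), ∃ i : Fin 4, g * ((![1, b, b⁻¹, b⁻¹ * a] : Fin 4 → G) i)⁻¹ ∈ Subgroup.zpowers a := by
    apply mem_of_closed (S := {g | ∃ i : Fin 4, g * ((![1, b, b⁻¹, b⁻¹ * a] : Fin 4 → G) i)⁻¹ ∈ Subgroup.zpowers a})
    · exact ⟨0, by simp⟩
    · rintro g ⟨i, hi⟩ y hy
      simp only [Set.mem_insert_iff, Set.mem_singleton_iff] at hy
      fin_cases i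
      · change g * (1 : G)⁻¹ ∈ _ at hi
        rcases hy with rfl | rfl
        · exact ⟨0, step_mem hi (by simp)⟩
        · exact ⟨1, step_mem hi (by simp)⟩
      · change g * b⁻¹ ∈ _ at hi
        rcases hy with rfl | rfl
        · refine ⟨2, step_mem hi ?_⟩
          change b * y * (b⁻¹)⁻¹ ∈ _
          rw [inv_inv, rel1 ha hab]
          exact inv_mem haH
        · refine ⟨2, step_mem hi ?_⟩
          change y * y * (y⁻¹)⁻¹ ∈ _
          rw [inv_inv, hb]
          exact one_mem _
      · change g * (b⁻¹)⁻¹ ∈ _ at hi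
        rcases hy with rfl | rfl
        · refine ⟨3, step_mem hi ?_⟩
          change b⁻¹ * y * (b⁻¹ * y)⁻¹ ∈ _
          rw [mul_inv_cancel]
          exact one_mem _
        · refine ⟨0, step_mem hi ?_⟩
          change y⁻¹ * y * (1 : G)⁻¹ ∈ _
          simp
      · change g * (b⁻¹ * a)⁻¹ ∈ _ at hi
        rcases hy with rfl | rfl
        · refine ⟨1, step_mem hi ?_⟩
          change b⁻¹ * y * y * b⁻¹ ∈ _
          have : b⁻¹ * y * y * b⁻¹ = y := by
            calc b⁻¹ * y * y * b⁻¹ = b⁻¹ * (y * y) * b⁻¹ := by group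
              _ = (b⁻¹ * y⁻¹) * b⁻¹ := by rw [rel3 ha]
              _ = y := by rw [← rel2 hab, mul_inv_cancel_right]
          rw [this]; exact haH
        · refine ⟨3, step_mem hi ?_⟩
          change y⁻¹ * a * y * (y⁻¹ * a)⁻¹ ∈ _
          have : y⁻¹ * a * y * (y⁻¹ * a)⁻¹ = a⁻¹ := by
            calc y⁻¹ * a * y * (y⁻¹ * a)⁻¹ = y⁻¹ * (a * y) * a⁻¹ * y := by group
              _ = (y⁻¹ * y⁻¹) * (a⁻¹ * a⁻¹) * y := by rw [rel2 hab]; group
              _ = y * a * y := by rw [rel4 hb, rel4 ha]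
              _ = a⁻¹ := rel1 ha hab
          rw [this]; exact inv_mem haH
    · intro t ht
      simp only [Set.mem_insert_iff, Set.mem_singleton_iff] at ht
      rcases ht with rfl | rfl
      · exact ha
      · exact hb
  obtain ⟨h1, h2⟩ := card_le_of_cosets _ key
  refine ⟨h1, h2.trans ?_⟩
  omega

theorem ico_bound (ha : a * a * a = 1) (hb : b * b * b = 1) (hc : c * c * c = 1) (hab : a * b * a * b = 1)
    (hac : a * c * a * c = 1) (hbc : b * c * b * c = 1) :
    Finite (Subgroup.closure ({a, b, c} : Set G)) ∧ Nat.card (Subgroup.closure ({a, b, c} : Set G)) ≤ 60 := by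
  obtain ⟨hf, hcard⟩ := tet_bound ha hb hab
  have haH : a ∈ Subgroup.closure ({a, b} : Set G) := Subgroup.subset_closure (by simp)
  have hbH : b ∈ Subgroup.closure ({a, b} : Set G) := Subgroup.subset_closure (by simp)
  have hba : b * a * b * a = 1 := by
    have h := congrArg (fun t => a⁻¹ * t * a) hab
    simp only [mul_one, inv_mul_cancel] at h
    rw [← h]; group
  -- the key identity
  have id1 : ∀ x y : G, x * x * x = 1 → x * y * x * y = 1 → x * c * x * c = 1 → y * c * y * c = 1 → c⁻¹ * x * y * (c⁻¹ * x)⁻¹ = y * x⁻¹ := by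
    intro x y hx hxy hxc hyc
    have h1 : (y * c)⁻¹ = y * c := by
      rw [inv_eq_iff_mul_eq_one, ← mul_assoc]; exact hyc
    calc c⁻¹ * x * y * (c⁻¹ * x)⁻¹ = c⁻¹ * (x * y) * x⁻¹ * c := by group
      _ = c⁻¹ * y⁻¹ * (x⁻¹ * x⁻¹) * c := by rw [rel2 hxy]; group
      _ = (y * c)⁻¹ * (x * c) := by rw [rel4 hx]; group
      _ = (y * c) * (c⁻¹ * x⁻¹) := by rw [h1, rel2 hxc]
      _ = y * x⁻¹ := by group
  have id2 : ∀ x : G, x * x * x = 1 → x * c * x * c = 1 → c⁻¹ * x * c * (c⁻¹ * x)⁻¹ = x⁻¹ := by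
    intro x hx hxc
    calc c⁻¹ * x * c * (c⁻¹ * x)⁻¹ = c⁻¹ * (x * c) * x⁻¹ * c := by group
      _ = (c⁻¹ * c⁻¹) * (x⁻¹ * x⁻¹) * c := by rw [rel2 hxc]; group
      _ = c * x * c := by rw [rel4 hc, rel4 hx]
      _ = x⁻¹ := rel1 hx hxc
  have id3 : ∀ x : G, x * x * x = 1 → x * c * x * c = 1 → c⁻¹ * x * x * c⁻¹ = x := by
    intro x hx hxc
    calc c⁻¹ * x * x * c⁻¹ = c⁻¹ * (x * x) * c⁻¹ := by group
      _ = (c⁻¹ * x⁻¹) * c⁻¹ := by rw [rel3 hx]
      _ = x := by rw [← rel2 hxc, mul_inv_cancel_right]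
  have key : ∀ g ∈ Subgroup.closure ({a, b, c} : Set G), ∃ i : Fin 5,
      g * ((![1, c, c⁻¹, c⁻¹ * a, c⁻¹ * b] : Fin 5 → G) i)⁻¹ ∈ Subgroup.closure ({a, b} : Set G) := by
    apply mem_of_closed (S := {g | ∃ i : Fin 5, g * ((![1, c, c⁻¹, c⁻¹ * a, c⁻¹ * b] : Fin 5 → G) i)⁻¹ ∈ Subgroup.closure ({a, b} : Set G)})
    · exact ⟨0, by simp⟩
    · rintro g ⟨i, hi⟩ y hy
      simp only [Set.mem_insert_iff, Set.mem_singleton_iff] at hy
      have hy' : y = a ∨ y = b ∨ y = c := hy
      clear hy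
      fin_cases i
      · change g * (1 : G)⁻¹ ∈ _ at hi
        rcases hy' with h | h | h
        · exact ⟨0, step_mem hi (by rw [h]; simpa using haH)⟩
        · exact ⟨0, step_mem hi (by rw [h]; simpa using hbH)⟩
        · exact ⟨1, step_mem hi (by rw [h]; simp)⟩
      · change g * c⁻¹ ∈ _ at hi
        rcases hy' with h | h | h
        · refine ⟨2, step_mem hi ?_⟩
          rw [h]
          change c * a * (c⁻¹)⁻¹ ∈ _
          rw [inv_inv, rel1 ha hac]
          exact inv_mem haH
        · refine ⟨2, step_mem hi ?_⟩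
          rw [h]
          change c * b * (c⁻¹)⁻¹ ∈ _
          rw [inv_inv, rel1 hb hbc]
          exact inv_mem hbH
        · refine ⟨2, step_mem hi ?_⟩
          rw [h]
          change c * c * (c⁻¹)⁻¹ ∈ _
          rw [inv_inv, hc]
          exact one_mem _
      · change g * (c⁻¹)⁻¹ ∈ _ at hi
        rcases hy' with h | h | h
        · refine ⟨3, step_mem hi ?_⟩
          rw [h]
          change c⁻¹ * a * (c⁻¹ * a)⁻¹ ∈ _
          rw [mul_inv_cancel]
          exact one_mem _
        · refine ⟨4, step_mem hi ?_⟩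
          rw [h]
          change c⁻¹ * b * (c⁻¹ * b)⁻¹ ∈ _
          rw [mul_inv_cancel]
          exact one_mem _
        · refine ⟨0, step_mem hi ?_⟩
          rw [h]
          change c⁻¹ * c * (1 : G)⁻¹ ∈ _
          simp
      · change g * (c⁻¹ * a)⁻¹ ∈ _ at hi
        rcases hy' with h | h | h
        · refine ⟨1, step_mem hi ?_⟩
          rw [h]
          change c⁻¹ * a * a * c⁻¹ ∈ _
          rw [id3 a ha hac]; exact haH
        · refine ⟨3, step_mem hi ?_⟩
          rw [h]
          change c⁻¹ * a * b * (c⁻¹ * a)⁻¹ ∈ _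
          rw [id1 a b ha hab hac hbc]
          exact mul_mem hbH (inv_mem haH)
        · refine ⟨3, step_mem hi ?_⟩
          rw [h]
          change c⁻¹ * a * c * (c⁻¹ * a)⁻¹ ∈ _
          rw [id2 a ha hac]
          exact inv_mem haH
      · change g * (c⁻¹ * b)⁻¹ ∈ _ at hi
        rcases hy' with h | h | h
        · refine ⟨4, step_mem hi ?_⟩
          rw [h]
          change c⁻¹ * b * a * (c⁻¹ * b)⁻¹ ∈ _
          rw [id1 b a hb hba hbc hac]
          exact mul_mem haH (inv_mem hbH)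
        · refine ⟨1, step_mem hi ?_⟩
          rw [h]
          change c⁻¹ * b * b * c⁻¹ ∈ _
          rw [id3 b hb hbc]; exact hbH
        · refine ⟨4, step_mem hi ?_⟩
          rw [h]
          change c⁻¹ * b * c * (c⁻¹ * b)⁻¹ ∈ _
          rw [id2 b hb hbc]
          exact inv_mem hbH
    · intro t ht
      simp only [Set.mem_insert_iff, Set.mem_singleton_iff] at ht
      rcases ht with h | h | h
      · rw [h]; exact ha
      · rw [h]; exact hb
      · rw [h]; exact hc
  obtain ⟨h1, h2⟩ := card_le_of_cosets _ key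
  refine ⟨h1, h2.trans ?_⟩
  omega

/-- adjoining an involution swapping the two generators -/
theorem oct_bound {s : G} (ha : a * a * a = 1) (hb : b * b * b = 1) (hab : a * b * a * b = 1) (hs : s * s = 1) (hsa : s * a * s = b) :
    Finite (Subgroup.closure ({a, b, s} : Set G)) ∧ Nat.card (Subgroup.closure ({a, b, s} : Set G)) ≤ 24 := by
  obtain ⟨hf, hcard⟩ := tet_bound ha hb hab
  have haH : a ∈ Subgroup.closure ({a, b} : Set G) := Subgroup.subset_closure (by simp)
  have hbH : b ∈ Subgroup.closure ({a, b} : Set G) := Subgroup.subset_closure (by simp)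
  have hsi : s⁻¹ = s := by rw [inv_eq_iff_mul_eq_one]; exact hs
  have hsb : s * b * s = a := by
    rw [← hsa]
    calc s * (s * a * s) * s = (s * s) * a * (s * s) := by group
      _ = a := by rw [hs]; group
  have key : ∀ g ∈ Subgroup.closure ({a, b, s} : Set G), ∃ i : Fin 2,
      g * ((![1, s] : Fin 2 → G) i)⁻¹ ∈ Subgroup.closure ({a, b} : Set G) := by
    intro g hg
    refine Subgroup.closure_induction_right (p := fun g _ => ∃ i : Fin 2,
      g * ((![1, s] : Fin 2 → G) i)⁻¹ ∈ Subgroup.closure ({a, b} : Set G)) ⟨0, by simp⟩ ?_ ?_ hg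
    · rintro g _ y hy ⟨i, hi⟩
      simp only [Set.mem_insert_iff, Set.mem_singleton_iff] at hy
      have hy' : y = a ∨ y = b ∨ y = s := hy
      clear hy
      fin_cases i
      · change g * (1 : G)⁻¹ ∈ _ at hi
        rcases hy' with h | h | h
        · exact ⟨0, step_mem hi (by rw [h]; simpa using haH)⟩
        · exact ⟨0, step_mem hi (by rw [h]; simpa using hbH)⟩
        · exact ⟨1, step_mem hi (by rw [h]; simp)⟩
      · change g * s⁻¹ ∈ _ at hi
        rcases hy' with h | h | h
        · refine ⟨1, step_mem hi ?_⟩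
          rw [h]
          change s * a * s⁻¹ ∈ _
          rw [hsi, hsa]; exact hbH
        · refine ⟨1, step_mem hi ?_⟩
          rw [h]
          change s * b * s⁻¹ ∈ _
          rw [hsi, hsb]; exact haH
        · refine ⟨0, step_mem hi ?_⟩
          rw [h]
          change s * s * (1 : G)⁻¹ ∈ _
          rw [hs]; simp
    · rintro g _ y hy ⟨i, hi⟩
      simp only [Set.mem_insert_iff, Set.mem_singleton_iff] at hy
      have hy' : y = a ∨ y = b ∨ y = s := hy
      clear hy
      fin_cases i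
      · change g * (1 : G)⁻¹ ∈ _ at hi
        rcases hy' with h | h | h
        · exact ⟨0, step_mem hi (by rw [h]; simpa using haH)⟩
        · exact ⟨0, step_mem hi (by rw [h]; simpa using hbH)⟩
        · exact ⟨1, step_mem hi (by
            rw [h, hsi]
            change 1 * s * s⁻¹ ∈ _
            simp)⟩
      · change g * s⁻¹ ∈ _ at hi
        rcases hy' with h | h | h
        · refine ⟨1, step_mem hi ?_⟩
          rw [h]
          change s * a⁻¹ * s⁻¹ ∈ _
          have : s * a⁻¹ * s⁻¹ = (s * a * s)⁻¹ := by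
            rw [mul_inv_rev, mul_inv_rev, hsi, mul_assoc]
          rw [this, hsa]; exact inv_mem hbH
        · refine ⟨1, step_mem hi ?_⟩
          rw [h]
          change s * b⁻¹ * s⁻¹ ∈ _
          have : s * b⁻¹ * s⁻¹ = (s * b * s)⁻¹ := by
            rw [mul_inv_rev, mul_inv_rev, hsi, mul_assoc]
          rw [this, hsb]; exact inv_mem haH
        · refine ⟨0, step_mem hi ?_⟩
          rw [h]
          change s * s⁻¹ * (1 : G)⁻¹ ∈ _
          simp
  obtain ⟨h1, h2⟩ := card_le_of_cosets _ key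
  refine ⟨h1, h2.trans ?_⟩
  omega

end

end CfsgLib.Mob19
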