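import Cfsg.Agent.Lib.Exc8

/-!
# Permutation modules and orthogonal groups
-/

namespace CfsgLib.PermMod

open Module CfsgLib.Quad CfsgLib.IsomDecomp Cfsg CfsgLib.Exc

set_option linter.unusedSimpArgs false
set_option linter.unusedSectionVars false
set_option linter.unusedTactic false
set_option linter.unreachableTactic false

/-! ### Base change of isometry groups -/

section map

variable {K L : Type*} [Field K] [Field L] {ι : Type} [Fintype ι] [DecidableEq ι]

/-- `GL` of isomorphic fields. -/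
noncomputable def GLMapEquiv (f : L ≃+* K) : GL ι L ≃* GL ι K :=
  Units.mapEquiv (RingEquiv.mapMatrix f : Matrix ι ι L ≃+* Matrix ι ι K).toMulEquiv

lemma GLMapEquiv_mulVec (f : L ≃+* K) (A : GL ι L) (u : ι → L) :
    (GLMapEquiv f A : Matrix ι ι K).mulVec (fun i => f (u i)) =
      fun i => f ((A : Matrix ι ι L).mulVec u i) := by
  funext i
  exact (RingHom.map_mulVec (f : L →+* K) (A : Matrix ι ι L) u i).symm

lemma mem_isometryGroup_map_iff (f : L ≃+* K) {QL : (ι → L) → L} {QK : (ι → K) → K}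
    (h : ∀ v : ι → L, QK (fun i => f (v i)) = f (QL v)) (A : GL ι L) :
    GLMapEquiv f A ∈ isometryGroup K QK ↔ A ∈ isometryGroup L QL := by
  constructor
  · intro hA u v
    have h1 : QK ((GLMapEquiv f A : Matrix ι ι K).mulVec (fun i => f (u i))) =
        QK (fun i => f (u i)) := hA _ (fun i => f (v i))
    rw [GLMapEquiv_mulVec, h, h] at h1
    exact f.injective h1
  · intro hA u v
    obtain ⟨u, rfl⟩ : ∃ u' : ι → L, u = fun i => f (u' i) := ⟨fun i => f.symm (u i), by funext i; simp⟩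
    change QK ((GLMapEquiv f A : Matrix ι ι K).mulVec (fun i => f (u i))) = QK (fun i => f (u i))
    rw [GLMapEquiv_mulVec, h, h]
    congr 1
    exact hA u u

/-- Isometry groups over isomorphic fields. -/
noncomputable def isometryGroupMapEquiv (f : L ≃+* K) {QL : (ι → L) → L} {QK : (ι → K) → K}
    (h : ∀ v : ι → L, QK (fun i => f (v i)) = f (QL v)) :
    isometryGroup L QL ≃* isometryGroup K QK :=
  ((GLMapEquiv f).subgroupMap (isometryGroup L QL)).trans (MulEquiv.subgroupCongr (by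
    ext A
    rw [Subgroup.mem_map]
    constructor
    · rintro ⟨B, hB, rfl⟩
      exact (mem_isometryGroup_map_iff f h B).mpr hB
    · intro hA
      refine ⟨(GLMapEquiv f).symm A, ?_, (GLMapEquiv f).apply_symm_apply A⟩
      rw [← mem_isometryGroup_map_iff f h]
      rwa [MulEquiv.apply_symm_apply]))

end map

/-! ### Permutation modules -/

section general

variable {F : Type*} [Field F] {n : ℕ} {V : Type*} [AddCommGroup V] [Module F V]
  (E : V →ₗ[F] (Fin n → F)) (P : (Fin n → F) →ₗ[F] V) {κ : F}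

/-- Data of a permutation module. -/
structure PMod (E : V →ₗ[F] (Fin n → F)) (P : (Fin n → F) →ₗ[F] V) (κ : F) : Prop where
  hPE : ∀ v, P (E v) = v
  hE : ∀ v, ∑ i, E v i = 0
  hEP : ∀ w : Fin n → F, ∑ i, w i = 0 → ∃ c : F, E (P w) = w + (κ * c) • (1 : Fin n → F)
  hP1 : κ • P 1 = 0

variable {E P} (h : PMod E P κ)

include h

lemma PMod.P_add (w : Fin n → F) (c : F) : P (w + (κ * c) • (1 : Fin n → F)) = P w := by
  rw [_root_.map_add, _root_.map_smul, mul_comm, mul_smul, h.hP1, smul_zero, add_zero]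

/-- The representation. -/
noncomputable def PMod.rep : Equiv.Perm (Fin n) →* Module.End F V where
  toFun σ := P.comp ((LinearMap.funLeft F F (σ⁻¹ : Equiv.Perm (Fin n))).comp E)
  map_one' := by
    apply LinearMap.ext
    intro v
    exact h.hPE v
  map_mul' σ τ := by
    apply LinearMap.ext
    intro v
    change P (fun i => E v ((σ * τ)⁻¹ i)) =
      P (fun i => E (P (fun j => E v (τ⁻¹ j))) (σ⁻¹ i))
    obtain ⟨c, hc⟩ := h.hEP (fun j => E v (τ⁻¹ j)) (by
      rw [← h.hE v]
      exact Equiv.sum_comp (τ⁻¹) (fun j => E v j))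
    rw [hc]
    have h1 : (fun i => ((fun j => E v (τ⁻¹ j)) + (κ * c) • (1 : Fin n → F)) (σ⁻¹ i)) =
        (fun i => E v ((σ * τ)⁻¹ i)) + (κ * c) • (1 : Fin n → F) := by
      funext i
      simp [_root_.mul_inv_rev]
    rw [h1, h.P_add]

lemma PMod.rep_apply (σ : Equiv.Perm (Fin n)) (v : V) :
    h.rep σ v = P (fun i => E v (σ⁻¹ i)) := rfl

lemma PMod.E_rep (σ : Equiv.Perm (Fin n)) (v : V) :
    ∃ c : F, E (h.rep σ v) = (fun i => E v (σ⁻¹ i)) + (κ * c) • (1 : Fin n → F) := by
  apply h.hEP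
  rw [← h.hE v]
  exact Equiv.sum_comp (σ⁻¹) (fun j => E v j)

variable {Q : QuadraticForm F V} {N : (Fin n → F) → F}
  (hN1 : ∀ (w : Fin n → F) (σ : Equiv.Perm (Fin n)), N (fun i => w (σ i)) = N w)
  (hN2 : ∀ (w : Fin n → F) (c : F), ∑ i, w i = 0 → N (w + (κ * c) • (1 : Fin n → F)) = N w)
  (hQ : ∀ v, Q v = N (E v))

/-- The homomorphism to the orthogonal group. -/
noncomputable def PMod.toO : Equiv.Perm (Fin n) →* O Q :=
  (repHom h.rep).codRestrict (O Q) fun σ => by
    rw [mem_O]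
    intro v
    rw [repHom_apply, hQ, hQ]
    obtain ⟨c, hc⟩ := h.E_rep σ v
    rw [hc, hN2, hN1 (E v)]
    rw [← h.hE v]
    exact Equiv.sum_comp (σ⁻¹) (fun j => E v j)

lemma PMod.toO_apply (σ : Equiv.Perm (Fin n)) (v : V) :
    (h.toO hN1 hN2 hQ σ).1 v = P (fun i => E v (σ⁻¹ i)) := rfl

end general

lemma perm_injective_of {n : ℕ} (hn : 5 ≤ n) {H : Type*} [Group H] (f : Equiv.Perm (Fin n) →* H)
    (c : Equiv.Perm (Fin n)) (hc : c ∈ alternatingGroup (Fin n)) (hfc : f c ≠ 1) :
    Function.Injective f := by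
  rw [← MonoidHom.ker_eq_bot_iff]
  by_contra hne
  have h1 : alternatingGroup (Fin n) ≤ f.ker :=
    Equiv.Perm.alternatingGroup_le_of_normal (by rw [Nat.card_fin]; exact hn)
      ((Subgroup.nontrivial_iff_ne_bot _).mpr hne)
  exact hfc (h1 hc)

variable {F : Type*} [Field F]

/-- The embedding, case A. -/
def EA (F : Type*) [Field F] : (Fin 3 ⊕ Fin 3 → F) →ₗ[F] (Fin 8 → F) where
  toFun v := ![0, v (.inl 2) + v (.inr 2), v (.inl 1) + v (.inr 1) + v (.inr 2), v (.inl 1) + v (.inl 2) + v (.inr 0) + v (.inr 1), v (.inl 0) + v (.inr 0) + v (.inr 1) + v (.inr 2), v (.inl 0) + v (.inl 2) + v (.inr 0), v (.inl 0) + v (.inl 1) + v (.inr 0) + v (.inr 2), v (.inl 0) + v (.inl 1) + v (.inl 2) + v (.inr 1)]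
  map_add' v w := by
    funext i
    fin_cases i <;> (try simp) <;> (try ring)
  map_smul' c v := by
    funext i
    fin_cases i <;> (try simp) <;> (try ring)

/-- The projection, case A. -/
def PA (F : Type*) [Field F] : (Fin 8 → F) →ₗ[F] (Fin 3 ⊕ Fin 3 → F) where
  toFun w := Sum.elim ![w 3 + w 4 + w 5 + w 6, w 2 + w 3 + w 4 + w 7, w 1 + w 2 + w 4 + w 6] ![w 4 + w 5 + w 6 + w 7, w 2 + w 3 + w 6 + w 7, w 1 + w 3 + w 5 + w 7]
  map_add' v w := by
    funext i
    rcases i with i | i <;> fin_cases i <;> (try simp) <;> (try ring)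
  map_smul' c v := by
    funext i
    rcases i with i | i <;> fin_cases i <;> (try simp) <;> (try ring)

lemma PEA (hp : (2 : F) = 0) (v : Fin 3 ⊕ Fin 3 → F) : PA F (EA F v) = v := by
  funext i
  rcases i with i | i <;> fin_cases i
  · try simp [PA, EA]
    try linear_combination (v (.inl 0) + v (.inl 1) + v (.inl 2) + (2) * v (.inr 0) + v (.inr 1) + v (.inr 2)) * hp
  · try simp [PA, EA]
    try linear_combination (v (.inl 0) + v (.inl 1) + v (.inl 2) + v (.inr 0) + (2) * v (.inr 1) + v (.inr 2)) * hp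
  · try simp [PA, EA]
    try linear_combination (v (.inl 0) + v (.inl 1) + v (.inr 0) + v (.inr 1) + (2) * v (.inr 2)) * hp
  · try simp [PA, EA]
    try linear_combination ((2) * v (.inl 0) + v (.inl 1) + v (.inl 2) + v (.inr 0) + v (.inr 1) + v (.inr 2)) * hp
  · try simp [PA, EA]
    try linear_combination (v (.inl 0) + (2) * v (.inl 1) + v (.inl 2) + v (.inr 0) + v (.inr 1) + v (.inr 2)) * hp
  · try simp [PA, EA]
    try linear_combination (v (.inl 0) + v (.inl 1) + (2) * v (.inl 2) + v (.inr 0) + v (.inr 1)) * hp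

lemma sumEA (hp : (2 : F) = 0) (v : Fin 3 ⊕ Fin 3 → F) : ∑ i, EA F v i = 0 := by
  try simp [EA, Fin.sum_univ_succ]
  try linear_combination ((2) * v (.inl 0) + (2) * v (.inl 1) + (2) * v (.inl 2) + (2) * v (.inr 0) + (2) * v (.inr 1) + (2) * v (.inr 2)) * hp

lemma EPA (hp : (2 : F) = 0) (w : Fin 8 → F) (hw : ∑ i, w i = 0) :
    ∃ c : F, EA F (PA F w) = w + ((1 : F) * c) • (1 : Fin 8 → F) := by
  have h : w 0 + w 1 + w 2 + w 3 + w 4 + w 5 + w 6 + w 7 = 0 := by
    rw [← hw]
    simp [Fin.sum_univ_succ]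
    ring
  refine ⟨- w 0, ?_⟩
  funext i
  fin_cases i
  · try simp [PA, EA]
    try linear_combination (0) * h + (0) * hp
  · try simp [PA, EA]
    try linear_combination (-1) * h + (w 0 + w 1 + w 2 + w 3 + w 4 + w 5 + w 6 + w 7) * hp
  · try simp [PA, EA]
    try linear_combination (-1) * h + (w 0 + w 1 + w 2 + (2) * w 3 + w 4 + w 5 + w 6 + (2) * w 7) * hp
  · try simp [PA, EA]
    try linear_combination (-1) * h + (w 0 + w 1 + (2) * w 2 + w 3 + (2) * w 4 + w 5 + (2) * w 6 + (2) * w 7) * hp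
  · try simp [PA, EA]
    try linear_combination (-1) * h + (w 0 + w 1 + w 2 + (2) * w 3 + w 4 + (2) * w 5 + (2) * w 6 + (2) * w 7) * hp
  · try simp [PA, EA]
    try linear_combination (-1) * h + (w 0 + w 1 + w 2 + w 3 + (2) * w 4 + w 5 + (2) * w 6 + w 7) * hp
  · try simp [PA, EA]
    try linear_combination (-1) * h + (w 0 + w 1 + w 2 + (2) * w 3 + (2) * w 4 + (2) * w 5 + w 6 + (2) * w 7) * hp
  · try simp [PA, EA]
    try linear_combination (-1) * h + (w 0 + w 1 + (2) * w 2 + (2) * w 3 + (2) * w 4 + w 5 + (2) * w 6 + w 7) * hp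

lemma P1A (hp : (2 : F) = 0) : PA F 1 = 0 := by
  funext i
  rcases i with i | i <;> fin_cases i
  · try simp [PA]
    try linear_combination (2) * hp
  · try simp [PA]
    try linear_combination (2) * hp
  · try simp [PA]
    try linear_combination (2) * hp
  · try simp [PA]
    try linear_combination (2) * hp
  · try simp [PA]
    try linear_combination (2) * hp
  · try simp [PA]
    try linear_combination (2) * hp

/-- The embedding, case B. -/
def EB (F : Type*) [Field F] : ((Fin 1 ⊕ Fin 1) ⊕ Fin 2 → F) →ₗ[F] (Fin 5 → F) where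
  toFun v := ![v (.inl (.inr 0)), v (.inl (.inl 0)), v (.inl (.inl 0)) + v (.inl (.inr 0)) + v (.inr 1), v (.inl (.inl 0)) + v (.inl (.inr 0)) + v (.inr 0), v (.inl (.inl 0)) + v (.inl (.inr 0)) + v (.inr 0) + v (.inr 1)]
  map_add' v w := by
    funext i
    fin_cases i <;> (try simp) <;> (try ring)
  map_smul' c v := by
    funext i
    fin_cases i <;> (try simp) <;> (try ring)

/-- The projection, case B. -/
def PB (F : Type*) [Field F] : (Fin 5 → F) →ₗ[F] ((Fin 1 ⊕ Fin 1) ⊕ Fin 2 → F) where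
  toFun w := Sum.elim (Sum.elim ![w 0 + w 2 + w 3 + w 4] ![w 1 + w 2 + w 3 + w 4]) ![w 2 + w 4, w 3 + w 4]
  map_add' v w := by
    funext i
    rcases i with (i | i) | i <;> fin_cases i <;> (try simp) <;> (try ring)
  map_smul' c v := by
    funext i
    rcases i with (i | i) | i <;> fin_cases i <;> (try simp) <;> (try ring)

lemma PEB (hp : (2 : F) = 0) (v : (Fin 1 ⊕ Fin 1) ⊕ Fin 2 → F) : PB F (EB F v) = v := by
  funext i
  rcases i with (i | i) | i <;> fin_cases i
  · try simp [PB, EB]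
    try linear_combination (v (.inl (.inl 0)) + (2) * v (.inl (.inr 0)) + v (.inr 0) + v (.inr 1)) * hp
  · try simp [PB, EB]
    try linear_combination ((2) * v (.inl (.inl 0)) + v (.inl (.inr 0)) + v (.inr 0) + v (.inr 1)) * hp
  · try simp [PB, EB]
    try linear_combination (v (.inl (.inl 0)) + v (.inl (.inr 0)) + v (.inr 1)) * hp
  · try simp [PB, EB]
    try linear_combination (v (.inl (.inl 0)) + v (.inl (.inr 0)) + v (.inr 0)) * hp

lemma sumEB (hp : (2 : F) = 0) (v : (Fin 1 ⊕ Fin 1) ⊕ Fin 2 → F) : ∑ i, EB F v i = 0 := by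
  try simp [EB, Fin.sum_univ_succ]
  try linear_combination ((2) * v (.inl (.inl 0)) + (2) * v (.inl (.inr 0)) + v (.inr 0) + v (.inr 1)) * hp

lemma EPB (hp : (2 : F) = 0) (w : Fin 5 → F) (hw : ∑ i, w i = 0) :
    ∃ c : F, EB F (PB F w) = w + ((0 : F) * c) • (1 : Fin 5 → F) := by
  have h : w 0 + w 1 + w 2 + w 3 + w 4 = 0 := by
    rw [← hw]
    simp [Fin.sum_univ_succ]
    ring
  refine ⟨- w 0, ?_⟩
  funext i
  fin_cases i
  · try simp [PB, EB]
    try linear_combination (-1) * h + (w 1 + w 2 + w 3 + w 4) * hp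
  · try simp [PB, EB]
    try linear_combination (-1) * h + (w 0 + w 2 + w 3 + w 4) * hp
  · try simp [PB, EB]
    try linear_combination (-1) * h + (w 0 + w 1 + w 2 + (2) * w 3 + (2) * w 4) * hp
  · try simp [PB, EB]
    try linear_combination (-1) * h + (w 0 + w 1 + (2) * w 2 + w 3 + (2) * w 4) * hp
  · try simp [PB, EB]
    try linear_combination (-1) * h + (w 0 + w 1 + (2) * w 2 + (2) * w 3 + (2) * w 4) * hp

/-- The embedding, case C. -/
def EC (F : Type*) [Field F] : (Unit ⊕ (Fin 1 ⊕ Fin 1) → F) →ₗ[F] (Fin 5 → F) where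
  toFun v := ![0, v (.inr (.inl 0)) + (-2) * v (.inr (.inr 0)), v (.inl ()) + (2) * v (.inr (.inl 0)) + (2) * v (.inr (.inr 0)), v (.inl ()) + -v (.inr (.inl 0)) + v (.inr (.inr 0)), (-2) * v (.inl ()) + (-2) * v (.inr (.inl 0)) + -v (.inr (.inr 0))]
  map_add' v w := by
    funext i
    fin_cases i <;> (try simp) <;> (try ring)
  map_smul' c v := by
    funext i
    fin_cases i <;> (try simp) <;> (try ring)

/-- The projection, case C. -/
def PC (F : Type*) [Field F] : (Fin 5 → F) →ₗ[F] (Unit ⊕ (Fin 1 ⊕ Fin 1) → F) where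
  toFun w := Sum.elim (fun _ => w 2 + w 3 + (-2) * w 4) (Sum.elim ![w 1 + -w 2 + (2) * w 3 + (-2) * w 4] ![(2) * w 1 + -w 2 + (-2) * w 3 + w 4])
  map_add' v w := by
    funext i
    rcases i with i | (i | i) <;> fin_cases i <;> (try simp) <;> (try ring)
  map_smul' c v := by
    funext i
    rcases i with i | (i | i) <;> fin_cases i <;> (try simp) <;> (try ring)

lemma PEC (hp : (5 : F) = 0) (v : Unit ⊕ (Fin 1 ⊕ Fin 1) → F) : PC F (EC F v) = v := by
  funext i
  rcases i with i | (i | i) <;> fin_cases i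
  · try simp [PC, EC]
    try linear_combination (v (.inl ()) + v (.inr (.inl 0)) + v (.inr (.inr 0))) * hp
  · try simp [PC, EC]
    try linear_combination (v (.inl ())) * hp
  · try simp [PC, EC]
    try linear_combination (-v (.inl ()) + (-2) * v (.inr (.inr 0))) * hp

lemma sumEC (hp : (5 : F) = 0) (v : Unit ⊕ (Fin 1 ⊕ Fin 1) → F) : ∑ i, EC F v i = 0 := by
  try simp [EC, Fin.sum_univ_succ]
  try linear_combination (0) * hp

lemma EPC (hp : (5 : F) = 0) (w : Fin 5 → F) (hw : ∑ i, w i = 0) :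
    ∃ c : F, EC F (PC F w) = w + ((1 : F) * c) • (1 : Fin 5 → F) := by
  have h : w 0 + w 1 + w 2 + w 3 + w 4 = 0 := by
    rw [← hw]
    simp [Fin.sum_univ_succ]
    ring
  refine ⟨- w 0, ?_⟩
  funext i
  fin_cases i
  · try simp [PC, EC]
    try linear_combination (0) * h + (0) * hp
  · try simp [PC, EC]
    try linear_combination (1) * h + (-w 1 + w 3 + -w 4) * hp
  · try simp [PC, EC]
    try linear_combination (1) * h + (w 1 + -w 2 + -w 4) * hp
  · try simp [PC, EC]
    try linear_combination (1) * h + (-w 3) * hp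
  · try simp [PC, EC]
    try linear_combination (1) * h + (-w 1 + -w 3 + w 4) * hp

lemma P1C (hp : (5 : F) = 0) : PC F 1 = 0 := by
  funext i
  rcases i with i | (i | i) <;> fin_cases i
  · try simp [PC]
    try linear_combination (0) * hp
  · try simp [PC]
    try linear_combination (0) * hp
  · try simp [PC]
    try linear_combination (0) * hp

lemma QC (hp : (5 : F) = 0) (v : Unit ⊕ (Fin 1 ⊕ Fin 1) → F) : quadFormOdd 1 F v = 1 * ∑ i, (EC F v i) ^ 2 := by
  try simp [EC, Fin.sum_univ_succ, quadFormOdd]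
  try linear_combination (-(v (.inl ())*v (.inl ()) + (2)*v (.inl ())*v (.inr (.inl 0)) + (2)*v (.inl ())*v (.inr (.inr 0)) + (2)*v (.inr (.inl 0))*v (.inr (.inl 0)) + v (.inr (.inl 0))*v (.inr (.inr 0)) + (2)*v (.inr (.inr 0))*v (.inr (.inr 0)))) * hp

/-- The embedding, case D. -/
def ED (F : Type*) [Field F] : ((Fin 1 ⊕ Fin 1) ⊕ Fin 2 → F) →ₗ[F] (Fin 6 → F) where
  toFun v := ![0, v (.inr 0) + v (.inr 1), v (.inl (.inr 0)) + -v (.inr 0) + -v (.inr 1), v (.inl (.inl 0)) + -v (.inr 0) + -v (.inr 1), v (.inl (.inl 0)) + v (.inl (.inr 0)) + v (.inr 1), v (.inl (.inl 0)) + v (.inl (.inr 0)) + v (.inr 0)]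
  map_add' v w := by
    funext i
    fin_cases i <;> (try simp) <;> (try ring)
  map_smul' c v := by
    funext i
    fin_cases i <;> (try simp) <;> (try ring)

/-- The projection, case D. -/
def PD (F : Type*) [Field F] : (Fin 6 → F) →ₗ[F] ((Fin 1 ⊕ Fin 1) ⊕ Fin 2 → F) where
  toFun w := Sum.elim (Sum.elim ![-w 2 + -w 4 + -w 5] ![-w 3 + -w 4 + -w 5]) ![w 1 + -w 2 + -w 3 + w 5, w 1 + -w 2 + -w 3 + w 4]
  map_add' v w := by
    funext i
    rcases i with (i | i) | i <;> fin_cases i <;> (try simp) <;> (try ring)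
  map_smul' c v := by
    funext i
    rcases i with (i | i) | i <;> fin_cases i <;> (try simp) <;> (try ring)

lemma PED (hp : (3 : F) = 0) (v : (Fin 1 ⊕ Fin 1) ⊕ Fin 2 → F) : PD F (ED F v) = v := by
  funext i
  rcases i with (i | i) | i <;> fin_cases i
  · try simp [PD, ED]
    try linear_combination (-v (.inl (.inl 0)) + -v (.inl (.inr 0))) * hp
  · try simp [PD, ED]
    try linear_combination (-v (.inl (.inl 0)) + -v (.inl (.inr 0))) * hp
  · try simp [PD, ED]
    try linear_combination (v (.inr 0) + v (.inr 1)) * hp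
  · try simp [PD, ED]
    try linear_combination (v (.inr 0) + v (.inr 1)) * hp

lemma sumED (hp : (3 : F) = 0) (v : (Fin 1 ⊕ Fin 1) ⊕ Fin 2 → F) : ∑ i, ED F v i = 0 := by
  try simp [ED, Fin.sum_univ_succ]
  try linear_combination (v (.inl (.inl 0)) + v (.inl (.inr 0))) * hp

lemma EPD (hp : (3 : F) = 0) (w : Fin 6 → F) (hw : ∑ i, w i = 0) :
    ∃ c : F, ED F (PD F w) = w + ((1 : F) * c) • (1 : Fin 6 → F) := by
  have h : w 0 + w 1 + w 2 + w 3 + w 4 + w 5 = 0 := by
    rw [← hw]
    simp [Fin.sum_univ_succ]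
    ring
  refine ⟨- w 0, ?_⟩
  funext i
  fin_cases i
  · try simp [PD, ED]
    try linear_combination (0) * h + (0) * hp
  · try simp [PD, ED]
    try linear_combination (1) * h + (-w 2 + -w 3) * hp
  · try simp [PD, ED]
    try linear_combination (1) * h + (-w 1 + -w 4 + -w 5) * hp
  · try simp [PD, ED]
    try linear_combination (1) * h + (-w 1 + -w 4 + -w 5) * hp
  · try simp [PD, ED]
    try linear_combination (1) * h + (-w 2 + -w 3 + -w 4 + -w 5) * hp
  · try simp [PD, ED]
    try linear_combination (1) * h + (-w 2 + -w 3 + -w 4 + -w 5) * hp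

lemma P1D (hp : (3 : F) = 0) : PD F 1 = 0 := by
  funext i
  rcases i with (i | i) | i <;> fin_cases i
  · try simp [PD]
    try linear_combination (-1) * hp
  · try simp [PD]
    try linear_combination (-1) * hp
  · try simp [PD]
    try linear_combination (0) * hp
  · try simp [PD]
    try linear_combination (0) * hp

lemma QD (hp : (3 : F) = 0) (v : (Fin 1 ⊕ Fin 1) ⊕ Fin 2 → F) : quadFormMinus 1 F 0 1 v = 1 * ∑ i, (ED F v i) ^ 2 := by
  try simp [ED, Fin.sum_univ_succ, quadFormMinus]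
  try linear_combination (-(v (.inl (.inl 0))*v (.inl (.inl 0)) + v (.inl (.inl 0))*v (.inl (.inr 0)) + v (.inl (.inr 0))*v (.inl (.inr 0)) + v (.inr 0)*v (.inr 0) + (2)*v (.inr 0)*v (.inr 1) + v (.inr 1)*v (.inr 1))) * hp

/-- The embedding, case E. -/
def EE (F : Type*) [Field F] : (Unit ⊕ (Fin 1 ⊕ Fin 1) → F) →ₗ[F] (Fin 4 → F) where
  toFun v := ![-v (.inr (.inr 0)), v (.inr (.inl 0)), v (.inl ()) + v (.inr (.inl 0)) + -v (.inr (.inr 0)), -v (.inl ()) + v (.inr (.inl 0)) + -v (.inr (.inr 0))]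
  map_add' v w := by
    funext i
    fin_cases i <;> (try simp) <;> (try ring)
  map_smul' c v := by
    funext i
    fin_cases i <;> (try simp) <;> (try ring)

/-- The projection, case E. -/
def PE (F : Type*) [Field F] : (Fin 4 → F) →ₗ[F] (Unit ⊕ (Fin 1 ⊕ Fin 1) → F) where
  toFun w := Sum.elim (fun _ => -w 2 + w 3) (Sum.elim ![-w 0 + -w 2 + -w 3] ![w 1 + w 2 + w 3])
  map_add' v w := by
    funext i
    rcases i with i | (i | i) <;> fin_cases i <;> (try simp) <;> (try ring)
  map_smul' c v := by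
    funext i
    rcases i with i | (i | i) <;> fin_cases i <;> (try simp) <;> (try ring)

lemma PEE (hp : (3 : F) = 0) (v : Unit ⊕ (Fin 1 ⊕ Fin 1) → F) : PE F (EE F v) = v := by
  funext i
  rcases i with i | (i | i) <;> fin_cases i
  · try simp [PE, EE]
    try linear_combination (-v (.inl ())) * hp
  · try simp [PE, EE]
    try linear_combination (-v (.inr (.inl 0)) + v (.inr (.inr 0))) * hp
  · try simp [PE, EE]
    try linear_combination (v (.inr (.inl 0)) + -v (.inr (.inr 0))) * hp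

lemma sumEE (hp : (3 : F) = 0) (v : Unit ⊕ (Fin 1 ⊕ Fin 1) → F) : ∑ i, EE F v i = 0 := by
  try simp [EE, Fin.sum_univ_succ]
  try linear_combination (v (.inr (.inl 0)) + -v (.inr (.inr 0))) * hp

lemma EPE (hp : (3 : F) = 0) (w : Fin 4 → F) (hw : ∑ i, w i = 0) :
    ∃ c : F, EE F (PE F w) = w + ((0 : F) * c) • (1 : Fin 4 → F) := by
  have h : w 0 + w 1 + w 2 + w 3 = 0 := by
    rw [← hw]
    simp [Fin.sum_univ_succ]
    ring
  refine ⟨- w 0, ?_⟩
  funext i
  fin_cases i
  · try simp [PE, EE]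
    try linear_combination (-1) * h + (0) * hp
  · try simp [PE, EE]
    try linear_combination (-1) * h + (0) * hp
  · try simp [PE, EE]
    try linear_combination (-1) * h + (-w 2) * hp
  · try simp [PE, EE]
    try linear_combination (-1) * h + (-w 3) * hp

lemma QE (hp : (3 : F) = 0) (v : Unit ⊕ (Fin 1 ⊕ Fin 1) → F) : quadFormOdd 1 F v = 2 * ∑ i, (EE F v i) ^ 2 := by
  try simp [EE, Fin.sum_univ_succ, quadFormOdd]
  try linear_combination (-(v (.inl ())*v (.inl ()) + (2)*v (.inr (.inl 0))*v (.inr (.inl 0)) + (-3)*v (.inr (.inl 0))*v (.inr (.inr 0)) + (2)*v (.inr (.inr 0))*v (.inr (.inr 0)))) * hp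


end CfsgLib.PermMod
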