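import Mathlib
import Cfsg.Agent.Lib.Mob19
import Cfsg.Agent.Lib.PermMod

set_option autoImplicit false
set_option maxHeartbeats 400000

/-! Existence of tetrahedral, octahedral and icosahedral subgroups of `PSL(2,F)`. -/
namespace CfsgLib.Mob20

open Matrix CfsgLib.Mob3 CfsgLib.Mob10 CfsgLib.Mob13 CfsgLib.Mob14 CfsgLib.Mob16 CfsgLib.Mob18 CfsgLib.Mob19

universe u v w

section
variable {F : Type u} [Field F]

/-- the image in `PSL` -/
def ps (A : SpecialLinearGroup (Fin 2) F) : ProjectiveSpecialLinearGroup (Fin 2) F := QuotientGroup.mk A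

theorem ps_mul (A B : SpecialLinearGroup (Fin 2) F) : ps (A * B) = ps A * ps B := rfl
theorem ps_one : ps (1 : SpecialLinearGroup (Fin 2) F) = 1 := rfl

theorem ps_eq_one {A : SpecialLinearGroup (Fin 2) F} : ps A = 1 ↔ A.1 0 1 = 0 ∧ A.1 1 0 = 0 ∧ A.1 0 0 = A.1 1 1 := by
  have h1 : ps A = 1 ↔ A ∈ Subgroup.center (SpecialLinearGroup (Fin 2) F) := QuotientGroup.eq_one_iff _
  rw [h1, Matrix.SpecialLinearGroup.mem_center_iff]
  constructor
  · rintro ⟨r, _, hr⟩
    have e : A.1 = scalar (Fin 2) r := hr.symm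
    rw [e]
    simp
  · rintro ⟨h01, h10, h00⟩
    have hd := A.2
    rw [Matrix.det_fin_two, h01, h10, ← h00] at hd
    refine ⟨A.1 0 0, ?_, ?_⟩
    · rw [Fintype.card_fin, pow_two]
      linear_combination hd
    · ext i j
      fin_cases i <;> fin_cases j
      · simp
      · simp [h01]
      · simp [h10]
      · simp [h00]

/-- matrices from entries -/
def m4 (a b c d : F) (h : a * d - b * c = 1) : SpecialLinearGroup (Fin 2) F := ⟨!![a, b; c, d], by rw [Matrix.det_fin_two_of]; exact h⟩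

theorem m4_mul {a b c d a' b' c' d' : F} (h : a * d - b * c = 1) (h' : a' * d' - b' * c' = 1) :
    m4 a b c d h * m4 a' b' c' d' h' = m4 (a * a' + b * c') (a * b' + b * d') (c * a' + d * c') (c * b' + d * d') (by linear_combination (a' * d' - b' * c') * h + h') := by
  apply Subtype.ext
  change !![a, b; c, d] * !![a', b'; c', d'] = !![a * a' + b * c', a * b' + b * d'; c * a' + d * c', c * b' + d * d']
  rw [Matrix.mul_fin_two]

theorem exists_m4 (A : SpecialLinearGroup (Fin 2) F) : ∃ a b c d, ∃ h : a * d - b * c = 1, A = m4 a b c d h := by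
  refine ⟨A.1 0 0, A.1 0 1, A.1 1 0, A.1 1 1, ?_, ?_⟩
  · have := A.2
    rwa [Matrix.det_fin_two] at this
  · apply Subtype.ext
    ext i j
    fin_cases i <;> fin_cases j <;> rfl

theorem ps_m4_eq_one {a b c d : F} (h : a * d - b * c = 1) : ps (m4 a b c d h) = 1 ↔ b = 0 ∧ c = 0 ∧ a = d := ps_eq_one

theorem sq_of_tr {A : SpecialLinearGroup (Fin 2) F} (h : A.1 0 0 + A.1 1 1 = 0) : ps A * ps A = 1 := by
  obtain ⟨a, b, c, d, hd, rfl⟩ := exists_m4 A
  have h' : a + d = 0 := h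
  rw [← ps_mul, m4_mul, ps_m4_eq_one]
  refine ⟨by linear_combination b * h', by linear_combination c * h', by linear_combination (a - d) * h'⟩

theorem cube_of_tr {A : SpecialLinearGroup (Fin 2) F} (h : A.1 0 0 + A.1 1 1 = 1) : ps A * ps A * ps A = 1 := by
  obtain ⟨a, b, c, d, hd, rfl⟩ := exists_m4 A
  have h' : a + d = 1 := h
  have hd' : d = 1 - a := by linear_combination h'
  subst hd'
  rw [← ps_mul, ← ps_mul, m4_mul, m4_mul, ps_m4_eq_one]
  refine ⟨by linear_combination (-b) * hd, by linear_combination (-c) * hd, by linear_combination (1 - 2 * a) * hd⟩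

/-- the conjugation action of `GL` on `SL` does not matter; `ps A = ps B` criterion -/
theorem ps_ne_of {A B : SpecialLinearGroup (Fin 2) F} (h : ps (A * B⁻¹) ≠ 1) : ps A ≠ ps B := by
  intro heq
  apply h
  have : ps (A * B⁻¹) = ps A * (ps B)⁻¹ := rfl
  rw [this, heq, mul_inv_cancel]

theorem m4_congr {a b c d a' b' c' d' : F} {h : a * d - b * c = 1} (h1 : a = a') (h2 : b = b') (h3 : c = c') (h4 : d = d') :
    m4 a b c d h = m4 a' b' c' d' (by subst h1; subst h2; subst h3; subst h4; exact h) := by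
  subst h1; subst h2; subst h3; subst h4; rfl

theorem b1_det {α β : F} (h2 : (2 : F) ≠ 0) (hS : α ^ 2 + β ^ 2 = -1) :
    ((1 + α + β) / 2) * ((1 - α - β) / 2) - ((1 + β - α) / 2) * ((-1 + β - α) / 2) = 1 := by
  field_simp
  linear_combination (-2) * hS

theorem b2_det {α β : F} (h2 : (2 : F) ≠ 0) (hS : α ^ 2 + β ^ 2 = -1) :
    ((1 + α - β) / 2) * ((1 - α + β) / 2) - ((1 + β + α) / 2) * ((-1 + β + α) / 2) = 1 := by
  field_simp
  linear_combination (-2) * hS

theorem b3_det {α β τ : F} (h2 : (2 : F) ≠ 0) (hS : α ^ 2 + β ^ 2 = -1) (hτ : τ ^ 2 = τ + 1) :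
    ((1 + (1 - τ) * α) / 2) * ((1 - (1 - τ) * α) / 2) - ((τ + (1 - τ) * β) / 2) * ((-τ + (1 - τ) * β) / 2) = 1 := by
  field_simp
  linear_combination (-(1 - τ) ^ 2) * hS + 2 * hτ

theorem s_det {α β r : F} (hr : r ^ 2 = 2) (hr0 : r ≠ 0) (hS : α ^ 2 + β ^ 2 = -1) :
    (α / r) * (-α / r) - ((1 + β) / r) * ((β - 1) / r) = 1 := by
  field_simp
  linear_combination (-1) * hS - hr

def B1 {α β : F} (h2 : (2 : F) ≠ 0) (hS : α ^ 2 + β ^ 2 = -1) : SpecialLinearGroup (Fin 2) F :=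
  m4 ((1 + α + β) / 2) ((1 + β - α) / 2) ((-1 + β - α) / 2) ((1 - α - β) / 2) (b1_det h2 hS)
def B2 {α β : F} (h2 : (2 : F) ≠ 0) (hS : α ^ 2 + β ^ 2 = -1) : SpecialLinearGroup (Fin 2) F :=
  m4 ((1 + α - β) / 2) ((1 + β + α) / 2) ((-1 + β + α) / 2) ((1 - α + β) / 2) (b2_det h2 hS)
def B3 {α β τ : F} (h2 : (2 : F) ≠ 0) (hS : α ^ 2 + β ^ 2 = -1) (hτ : τ ^ 2 = τ + 1) : SpecialLinearGroup (Fin 2) F :=
  m4 ((1 + (1 - τ) * α) / 2) ((τ + (1 - τ) * β) / 2) ((-τ + (1 - τ) * β) / 2) ((1 - (1 - τ) * α) / 2) (b3_det h2 hS hτ)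
def Bs {α β r : F} (hr : r ^ 2 = 2) (hr0 : r ≠ 0) (hS : α ^ 2 + β ^ 2 = -1) : SpecialLinearGroup (Fin 2) F :=
  m4 (α / r) ((1 + β) / r) ((β - 1) / r) (-α / r) (s_det hr hr0 hS)

variable {α β τ r : F} (h2 : (2 : F) ≠ 0) (hS : α ^ 2 + β ^ 2 = -1) (hτ : τ ^ 2 = τ + 1) (hr : r ^ 2 = 2) (hr0 : r ≠ 0)

theorem B12 : B1 h2 hS * B2 h2 hS = m4 α β β (-α) (by linear_combination (-1) * hS) := by
  unfold B1 B2
  rw [m4_mul]
  apply m4_congr
  · field_simp; ring
  · field_simp; linear_combination 2 * hS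
  · field_simp; linear_combination (-2) * hS
  · field_simp; ring

theorem B21 : B2 h2 hS * B1 h2 hS = m4 0 1 (-1) 0 (by ring) := by
  unfold B1 B2
  rw [m4_mul]
  apply m4_congr
  · field_simp; ring
  · field_simp; linear_combination (-2) * hS
  · field_simp; linear_combination 2 * hS
  · field_simp; ring

theorem B1_cube : ps (B1 h2 hS) * ps (B1 h2 hS) * ps (B1 h2 hS) = 1 := by
  apply cube_of_tr
  change (1 + α + β) / 2 + (1 - α - β) / 2 = 1
  field_simp; ring

theorem B2_cube : ps (B2 h2 hS) * ps (B2 h2 hS) * ps (B2 h2 hS) = 1 := by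
  apply cube_of_tr
  change (1 + α - β) / 2 + (1 - α + β) / 2 = 1
  field_simp; ring

theorem B3_cube : ps (B3 h2 hS hτ) * ps (B3 h2 hS hτ) * ps (B3 h2 hS hτ) = 1 := by
  apply cube_of_tr
  change (1 + (1 - τ) * α) / 2 + (1 - (1 - τ) * α) / 2 = 1
  field_simp; ring

theorem B12_sq : ps (B1 h2 hS) * ps (B2 h2 hS) * ps (B1 h2 hS) * ps (B2 h2 hS) = 1 := by
  rw [mul_assoc, ← ps_mul]
  apply sq_of_tr
  rw [B12]
  change α + -α = 0
  ring

theorem B13_sq : ps (B1 h2 hS) * ps (B3 h2 hS hτ) * ps (B1 h2 hS) * ps (B3 h2 hS hτ) = 1 := by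
  rw [mul_assoc, ← ps_mul]
  apply sq_of_tr
  unfold B1 B3
  rw [m4_mul]
  change (1 + α + β) / 2 * ((1 + (1 - τ) * α) / 2) + (1 + β - α) / 2 * ((-τ + (1 - τ) * β) / 2) +
    ((-1 + β - α) / 2 * ((τ + (1 - τ) * β) / 2) + (1 - α - β) / 2 * ((1 - (1 - τ) * α) / 2)) = 0
  field_simp
  linear_combination (2 * (1 - τ)) * hS

theorem B23_sq : ps (B2 h2 hS) * ps (B3 h2 hS hτ) * ps (B2 h2 hS) * ps (B3 h2 hS hτ) = 1 := by
  rw [mul_assoc, ← ps_mul]
  apply sq_of_tr
  unfold B2 B3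
  rw [m4_mul]
  change (1 + α - β) / 2 * ((1 + (1 - τ) * α) / 2) + (1 + β + α) / 2 * ((-τ + (1 - τ) * β) / 2) +
    ((-1 + β + α) / 2 * ((τ + (1 - τ) * β) / 2) + (1 - α + β) / 2 * ((1 - (1 - τ) * α) / 2)) = 0
  field_simp
  linear_combination (2 * (1 - τ)) * hS

theorem B123_tr : (B1 h2 hS * B2 h2 hS * B3 h2 hS hτ).1 0 0 + (B1 h2 hS * B2 h2 hS * B3 h2 hS hτ).1 1 1 = τ - 1 := by
  rw [B12]
  unfold B3
  rw [m4_mul]
  change α * ((1 + (1 - τ) * α) / 2) + β * ((-τ + (1 - τ) * β) / 2) +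
    (β * ((τ + (1 - τ) * β) / 2) + -α * ((1 - (1 - τ) * α) / 2)) = τ - 1
  field_simp
  linear_combination (2 * (1 - τ)) * hS

theorem sq_form {a b c d t : F} (h : a * d - b * c = 1) (ht : a + d = t) :
    m4 a b c d h * m4 a b c d h = m4 (t * a - 1) (t * b) (t * c) (t * d - 1) (by linear_combination t ^ 2 * h - t * ht) := by
  rw [m4_mul]
  subst ht
  apply m4_congr
  · linear_combination (-1 : F) * h
  · ring
  · ring
  · linear_combination (-1 : F) * h

theorem fifth {A : SpecialLinearGroup (Fin 2) F} {t : F} (h : A.1 0 0 + A.1 1 1 = t) (ht : t ^ 2 + t = 1) (h5 : (5 : F) ≠ 0) :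
    orderOf (ps A) = 5 := by
  obtain ⟨a, b, c, d, hd, rfl⟩ := exists_m4 A
  have h' : a + d = t := h
  haveI : Fact (Nat.Prime 5) := ⟨Nat.prime_five⟩
  apply orderOf_eq_prime
  · have e1 := sq_form hd h'
    have e2 : (m4 a b c d hd) * ((m4 a b c d hd * m4 a b c d hd) * (m4 a b c d hd * m4 a b c d hd)) = 1 := by
      rw [e1, sq_form (t := t ^ 2 - 2) _ (by linear_combination t * h'), m4_mul]
      have one : (1 : SpecialLinearGroup (Fin 2) F) = m4 1 0 0 1 (by ring) := by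
        apply Subtype.ext
        ext i j
        fin_cases i <;> fin_cases j <;> rfl
      rw [one]
      have hd2 : d = t - a := by linear_combination h'
      subst hd2
      apply m4_congr
      · linear_combination (-(t ^ 2 - 2) * t) * hd + (a * (t ^ 2 - t - 1) - (t - 1)) * ht
      · linear_combination (b * (t ^ 2 - t - 1)) * ht
      · linear_combination (c * (t ^ 2 - t - 1)) * ht
      · linear_combination (-(t ^ 2 - 2) * t) * hd + ((t - a) * (t ^ 2 - t - 1) - (t - 1)) * ht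
    have e3 : ps ((m4 a b c d hd) * ((m4 a b c d hd * m4 a b c d hd) * (m4 a b c d hd * m4 a b c d hd))) = (ps (m4 a b c d hd)) ^ 5 := by
      simp only [ps_mul, pow_succ, pow_zero, one_mul, mul_assoc]
    rw [← e3, e2, ps_one]
  · rw [Ne, ps_m4_eq_one]
    rintro ⟨rfl, rfl, rfl⟩
    apply h5
    have h3 : a * a = 1 := by linear_combination hd
    have h4 : t ^ 2 = 4 := by rw [← h']; linear_combination 4 * h3
    linear_combination (t - 2) * h4 - (t - 3) * ht

theorem fourth {A : SpecialLinearGroup (Fin 2) F} {t : F} (h : A.1 0 0 + A.1 1 1 = t) (ht : t ^ 2 = 2) (h2 : (2 : F) ≠ 0) :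
    orderOf (ps A) = 4 := by
  obtain ⟨a, b, c, d, hd, rfl⟩ := exists_m4 A
  have h' : a + d = t := h
  haveI : Fact (Nat.Prime 2) := ⟨Nat.prime_two⟩
  have e1 := sq_form hd h'
  have e2 : ps (m4 a b c d hd) ^ 2 = ps (m4 (t * a - 1) (t * b) (t * c) (t * d - 1) (by linear_combination t ^ 2 * hd - t * h')) := by
    rw [pow_two, ← ps_mul, e1]
  have ht0 : t ≠ 0 := by
    rintro rfl
    apply h2
    rw [← ht]; ring
  have h3 : orderOf (ps (m4 a b c d hd)) = 2 ^ (1 + 1) := by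
    apply orderOf_eq_prime_pow
    · rw [pow_one, e2, ps_m4_eq_one]
      rintro ⟨hb, hc, had⟩
      have hb0 := (mul_eq_zero.1 hb).resolve_left ht0
      have hc0 := (mul_eq_zero.1 hc).resolve_left ht0
      have had0 : a = d := by
        have : t * (a - d) = 0 := by linear_combination had
        exact sub_eq_zero.1 ((mul_eq_zero.1 this).resolve_left ht0)
      apply h2
      subst had0
      rw [hb0] at hd
      have h3 : a * a = 1 := by linear_combination hd
      have h4 : t ^ 2 = 4 := by rw [← h']; linear_combination 4 * h3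
      linear_combination ht - h4
    · have e3 : ps (m4 a b c d hd) ^ 2 ^ (1 + 1) = (ps (m4 a b c d hd) ^ 2) * (ps (m4 a b c d hd) ^ 2) := by
        rw [← pow_add]; norm_num
      rw [e3, e2]
      apply sq_of_tr
      change (t * a - 1) + (t * d - 1) = 0
      linear_combination t * h' + ht
  rw [h3]
  norm_num

theorem BsI_tr : (Bs hr hr0 hS * (B2 h2 hS * B1 h2 hS)).1 0 0 + (Bs hr hr0 hS * (B2 h2 hS * B1 h2 hS)).1 1 1 = -r := by
  rw [B21]
  unfold Bs
  rw [m4_mul]
  change α / r * 0 + (1 + β) / r * (-1) + ((β - 1) / r * 1 + -α / r * 0) = -r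
  field_simp
  linear_combination hr

theorem Bs_sq : ps (Bs hr hr0 hS) * ps (Bs hr hr0 hS) = 1 := by
  apply sq_of_tr
  change α / r + -α / r = 0
  ring

theorem Bs_conj : ps (Bs hr hr0 hS) * ps (B1 h2 hS) * ps (Bs hr hr0 hS) = ps (B2 h2 hS) := by
  have h1 : ps (Bs hr hr0 hS * B1 h2 hS * Bs hr hr0 hS * (B2 h2 hS)⁻¹) = 1 → ps (Bs hr hr0 hS) * ps (B1 h2 hS) * ps (Bs hr hr0 hS) = ps (B2 h2 hS) := by
    intro h
    have e : ps (Bs hr hr0 hS * B1 h2 hS * Bs hr hr0 hS * (B2 h2 hS)⁻¹) = ps (Bs hr hr0 hS) * ps (B1 h2 hS) * ps (Bs hr hr0 hS) * (ps (B2 h2 hS))⁻¹ := rfl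
    rw [e, mul_inv_eq_one] at h
    exact h
  apply h1
  have e2 : (B2 h2 hS)⁻¹ = m4 ((1 - α + β) / 2) (-((1 + β + α) / 2)) (-((-1 + β + α) / 2)) ((1 + α - β) / 2) (by
      have := b2_det h2 hS
      linear_combination this) := by
    rw [inv_eq_iff_mul_eq_one]
    unfold B2
    rw [m4_mul]
    have one : (1 : SpecialLinearGroup (Fin 2) F) = m4 1 0 0 1 (by ring) := by
      apply Subtype.ext
      ext i j
      fin_cases i <;> fin_cases j <;> rfl
    rw [one]
    have := b2_det h2 hS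
    apply m4_congr
    · linear_combination this
    · ring
    · ring
    · linear_combination this
  rw [e2]
  unfold Bs B1
  rw [m4_mul, m4_mul, m4_mul, ps_m4_eq_one]
  have hr4 : r ^ 4 = 4 := by
    have : r ^ 4 = (r ^ 2) ^ 2 := by ring
    rw [this, hr]; norm_num
  refine ⟨?_, ?_, ?_⟩
  · field_simp
    ring
  · field_simp
    ring
  · field_simp
    ring

theorem sq_ne_of {A : SpecialLinearGroup (Fin 2) F} (h : ¬ (A.1 0 1 = 0 ∧ A.1 1 0 = 0 ∧ A.1 0 0 = A.1 1 1)) : ps A ≠ 1 :=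
  fun h' => h (ps_eq_one.1 h')

theorem B1_order : orderOf (ps (B1 h2 hS)) = 3 := by
  haveI : Fact (Nat.Prime 3) := ⟨Nat.prime_three⟩
  apply orderOf_eq_prime
  · rw [pow_succ, pow_two]; exact B1_cube h2 hS
  · apply sq_ne_of
    rintro ⟨h01, h10, -⟩
    change (1 + β - α) / 2 = 0 at h01
    change (-1 + β - α) / 2 = 0 at h10
    rw [div_eq_zero_iff] at h01 h10
    have e1 := h01.resolve_right h2
    have e2 := h10.resolve_right h2
    apply h2
    linear_combination e1 - e2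

theorem B2_order : orderOf (ps (B2 h2 hS)) = 3 := by
  haveI : Fact (Nat.Prime 3) := ⟨Nat.prime_three⟩
  apply orderOf_eq_prime
  · rw [pow_succ, pow_two]; exact B2_cube h2 hS
  · apply sq_ne_of
    rintro ⟨h01, h10, -⟩
    change (1 + β + α) / 2 = 0 at h01
    change (-1 + β + α) / 2 = 0 at h10
    rw [div_eq_zero_iff] at h01 h10
    have e1 := h01.resolve_right h2
    have e2 := h10.resolve_right h2
    apply h2
    linear_combination e1 - e2

theorem B_noncomm : ps (B1 h2 hS) * ps (B2 h2 hS) ≠ ps (B2 h2 hS) * ps (B1 h2 hS) := by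
  intro h
  rw [← ps_mul, ← ps_mul, B12, B21] at h
  have e : ps (m4 α β β (-α) (by linear_combination (-1) * hS) * m4 0 1 (-1) 0 (by ring)) = 1 := by
    rw [ps_mul, h, ← ps_mul]
    apply sq_of_tr
    change (0 : F) + 0 = 0
    ring
  rw [m4_mul, ps_m4_eq_one] at e
  obtain ⟨e1, -, e3⟩ := e
  have hα : α = 0 := by linear_combination e1
  have hβ : 2 * β = 0 := by linear_combination (-1 : F) * e3
  have hβ0 := (mul_eq_zero.1 hβ).resolve_left h2
  rw [hα, hβ0] at hS
  apply one_ne_zero (α := F)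
  linear_combination hS

theorem I_order : orderOf (ps (B2 h2 hS) * ps (B1 h2 hS)) = 2 := by
  haveI : Fact (Nat.Prime 2) := ⟨Nat.prime_two⟩
  rw [← ps_mul, B21]
  apply orderOf_eq_prime
  · rw [pow_two]
    apply sq_of_tr
    change (0 : F) + 0 = 0
    ring
  · apply sq_ne_of
    rintro ⟨h01, -, -⟩
    exact one_ne_zero h01

end

section
variable {F : Type u} [Field F] [Finite F]

theorem exists_ab (F : Type u) [Field F] [Finite F] : ∃ α β : F, α ^ 2 + β ^ 2 = -1 := by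
  obtain ⟨p, hp⟩ := CharP.exists F
  haveI : Fintype F := Fintype.ofFinite F
  obtain ⟨_, hpp, _⟩ := FiniteField.card F p
  haveI : NeZero p := ⟨hpp.ne_zero⟩
  obtain ⟨a, b, h⟩ := CharP.sq_add_sq F p (-1)
  exact ⟨a, b, by rw [h]; simp⟩

theorem two_ne_zero_of (p : ℕ) [hp : Fact p.Prime] [CharP F p] (hp2 : p ≠ 2) : (2 : F) ≠ 0 := by
  intro h0
  have : ((2 : ℕ) : F) = 0 := by exact_mod_cast h0
  rw [CharP.cast_eq_zero_iff F p] at this
  exact hp2 ((Nat.prime_dvd_prime_iff_eq hp.out Nat.prime_two).1 this)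

theorem card_of_sub (p : ℕ) [hp : Fact p.Prime] [CharP F p] (hp2 : p ≠ 2) (k : Subfield F) : 3 ≤ Nat.card k ∧ Nat.gcd 2 (Nat.card k - 1) = 2 ∧ Odd (Nat.card k) := by
  haveI : Fintype k := Fintype.ofFinite k
  haveI : CharP k p := (k.subtype.charP k.subtype.injective p)
  obtain ⟨n, _, hn⟩ := FiniteField.card k p
  have hodd : Odd (Nat.card k) := by
    rw [Nat.card_eq_fintype_card, hn]
    exact (hp.out.odd_of_ne_two hp2).pow
  have h1 : 1 < Nat.card k := Finite.one_lt_card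
  obtain ⟨t, ht⟩ := hodd
  refine ⟨by omega, ?_, ⟨t, ht⟩⟩
  rw [Nat.gcd_eq_left_iff_dvd]
  omega

theorem ord_dvd {G : Type v} [Group G] {H : Subgroup G} {g : G} (hg : g ∈ H) {n : ℕ} (h : orderOf g = n) : n ∣ Nat.card H := by
  rw [← h, ← Subgroup.orderOf_mk g hg]
  exact orderOf_dvd_natCard _

/-- the tetrahedral group -/
theorem tet (p : ℕ) [hp : Fact p.Prime] [CharP F p] (hp2 : p ≠ 2) {α β : F} (h2 : (2 : F) ≠ 0) (hS : α ^ 2 + β ^ 2 = -1) :
    Nat.card (Subgroup.closure {ps (B1 h2 hS), ps (B2 h2 hS)}) = 12 ∧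
      Nonempty (Subgroup.closure {ps (B1 h2 hS), ps (B2 h2 hS)} ≃* alternatingGroup (Fin 4)) := by
  classical
  obtain ⟨hfin, hle⟩ := tet_bound (B1_cube h2 hS) (B2_cube h2 hS) (B12_sq h2 hS)
  set H := Subgroup.closure {ps (B1 h2 hS), ps (B2 h2 hS)} with hH
  have ha : ps (B1 h2 hS) ∈ H := Subgroup.subset_closure (by simp)
  have hb : ps (B2 h2 hS) ∈ H := Subgroup.subset_closure (by simp)
  have h3 : 3 ∣ Nat.card H := ord_dvd ha (B1_order h2 hS)
  have h2' : 2 ∣ Nat.card H := ord_dvd (H.mul_mem hb ha) (I_order h2 hS)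
  have hpos : 0 < Nat.card H := Nat.card_pos
  have h6 : Nat.card H = 6 ∨ Nat.card H = 12 := by omega
  have ht : p = 3 ∨ ¬ p ∣ Nat.card H := by
    by_cases hp3 : p = 3
    · exact Or.inl hp3
    · right
      intro hd
      have hd12 : p ∣ 12 := by
        rcases h6 with h | h
        · rw [h] at hd; exact hd.trans (by norm_num)
        · rw [h] at hd; exact hd
      have : p ∣ 2 ^ 2 * 3 := by norm_num; exact hd12
      rcases (Nat.Prime.dvd_mul hp.out).1 this with h | h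
      · exact hp2 ((Nat.prime_dvd_prime_iff_eq hp.out Nat.prime_two).1 (hp.out.dvd_of_dvd_pow h))
      · exact hp3 ((Nat.prime_dvd_prime_iff_eq hp.out Nat.prime_three).1 h)
  rcases nc3 p H ht ha hb (B1_order h2 hS) (B2_order h2 hS) (B_noncomm h2 hS) with h | h | h | h
  · exact ⟨h.1, h.2.2⟩
  · omega
  · omega
  · obtain ⟨g, _, k, hk⟩ := h
    obtain ⟨hk3, hkg, hkodd⟩ := card_of_sub p hp2 k
    rcases hk with hk | hk
    · obtain ⟨e⟩ := iso_of_conj hk
      obtain ⟨e2⟩ := sm_iso (k := k) (F := F)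
      have hc := card_PSL k
      rw [hkg, ← Nat.card_congr (e.trans e2).toEquiv] at hc
      have hk3' : Nat.card k = 3 := by
        by_contra hne
        have h5 : 4 ≤ Nat.card k := by omega
        have h6 : 4 * (4 - 1) * (4 + 1) ≤ Nat.card k * (Nat.card k - 1) * (Nat.card k + 1) :=
          Nat.mul_le_mul (Nat.mul_le_mul h5 (by omega)) (by omega)
        omega
      rw [hk3'] at hc
      obtain ⟨e3⟩ := psl3_iso k hk3'
      exact ⟨by omega, ⟨(e.trans e2).trans e3⟩⟩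
    · exfalso
      obtain ⟨e⟩ := iso_of_conj hk
      obtain ⟨e2⟩ := pm_iso (k := k) (F := F)
      have hc := card_PGL k
      rw [← Nat.card_congr (e.trans e2).toEquiv] at hc
      have h6 : 3 * (3 - 1) * (3 + 1) ≤ Nat.card k * (Nat.card k - 1) * (Nat.card k + 1) :=
        Nat.mul_le_mul (Nat.mul_le_mul hk3 (by omega)) (by omega)
      omega

theorem a4_no4 : ∀ g : alternatingGroup (Fin 4), g * g * (g * g) = 1 → g * g = 1 := by decide

/-- the octahedral group -/
theorem oct (p : ℕ) [hp : Fact p.Prime] [CharP F p] (hp2 : p ≠ 2) {α β r : F} (h2 : (2 : F) ≠ 0) (hS : α ^ 2 + β ^ 2 = -1)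
    (hr : r ^ 2 = 2) (hr0 : r ≠ 0) :
    Nat.card (Subgroup.closure {ps (B1 h2 hS), ps (B2 h2 hS), ps (Bs hr hr0 hS)}) = 24 ∧
    Nonempty (Subgroup.closure {ps (B1 h2 hS), ps (B2 h2 hS), ps (Bs hr hr0 hS)} ≃* Equiv.Perm (Fin 4)) := by
  classical
  obtain ⟨hfin, hle⟩ := oct_bound (B1_cube h2 hS) (B2_cube h2 hS) (B12_sq h2 hS) (Bs_sq hS hr hr0) (Bs_conj h2 hS hr hr0)
  obtain ⟨h12, -⟩ := tet p hp2 h2 hS
  set H := Subgroup.closure {ps (B1 h2 hS), ps (B2 h2 hS), ps (Bs hr hr0 hS)} with hH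
  have ha : ps (B1 h2 hS) ∈ H := Subgroup.subset_closure (by simp)
  have hb : ps (B2 h2 hS) ∈ H := Subgroup.subset_closure (by simp)
  have hs : ps (Bs hr hr0 hS) ∈ H := Subgroup.subset_closure (by simp)
  have hd : 12 ∣ Nat.card H := by
    rw [← h12]
    apply Subgroup.card_dvd_of_le
    rw [Subgroup.closure_le]
    rintro x (rfl | rfl)
    · exact ha
    · exact hb
  have hpos : 0 < Nat.card H := Nat.card_pos
  have h6 : Nat.card H = 12 ∨ Nat.card H = 24 := by omega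
  have h4 : orderOf (ps (Bs hr hr0 hS * (B2 h2 hS * B1 h2 hS))) = 4 :=
    fourth (BsI_tr h2 hS hr hr0) (by rw [neg_sq]; exact hr) h2
  have hw : ps (Bs hr hr0 hS * (B2 h2 hS * B1 h2 hS)) ∈ H := H.mul_mem hs (H.mul_mem hb ha)
  have hnoA4 : ¬ Nonempty (H ≃* alternatingGroup (Fin 4)) := by
    rintro ⟨e⟩
    have h7 : orderOf (e ⟨_, hw⟩) = 4 := by
      rw [MulEquiv.orderOf_eq, Subgroup.orderOf_mk, h4]
    have h8 := a4_no4 (e ⟨_, hw⟩) (by
      have := pow_orderOf_eq_one (e ⟨_, hw⟩)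
      rw [h7] at this
      rw [← this]; simp only [pow_succ, pow_zero, one_mul, mul_assoc])
    rw [← pow_two] at h8
    have := orderOf_dvd_of_pow_eq_one h8
    rw [h7] at this
    omega
  have ht : p = 3 ∨ ¬ p ∣ Nat.card H := by
    by_cases hp3 : p = 3
    · exact Or.inl hp3
    · right
      intro hd
      have hd12 : p ∣ 24 := by
        rcases h6 with h | h
        · rw [h] at hd; exact hd.trans (by norm_num)
        · rw [h] at hd; exact hd
      have : p ∣ 2 ^ 3 * 3 := by norm_num; exact hd12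
      rcases (Nat.Prime.dvd_mul hp.out).1 this with h | h
      · exact hp2 ((Nat.prime_dvd_prime_iff_eq hp.out Nat.prime_two).1 (hp.out.dvd_of_dvd_pow h))
      · exact hp3 ((Nat.prime_dvd_prime_iff_eq hp.out Nat.prime_three).1 h)
  rcases nc3 p H ht ha hb (B1_order h2 hS) (B2_order h2 hS) (B_noncomm h2 hS) with h | h | h | h
  · exact absurd h.2.2 hnoA4
  · exact ⟨h.1, h.2.2⟩
  · omega
  · obtain ⟨g, _, k, hk⟩ := h
    obtain ⟨hk3, hkg, hkodd⟩ := card_of_sub p hp2 k
    have hk3' : Nat.card k = 3 := by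
      by_contra hne
      have h5 : 5 ≤ Nat.card k := by
        obtain ⟨t, ht⟩ := hkodd
        omega
      have h6 : 5 * (5 - 1) * (5 + 1) ≤ Nat.card k * (Nat.card k - 1) * (Nat.card k + 1) :=
          Nat.mul_le_mul (Nat.mul_le_mul h5 (by omega)) (by omega)
      rcases hk with hk | hk
      · obtain ⟨e⟩ := iso_of_conj hk
        obtain ⟨e2⟩ := sm_iso (k := k) (F := F)
        have hc := card_PSL k
        rw [hkg, ← Nat.card_congr (e.trans e2).toEquiv] at hc
        omega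
      · obtain ⟨e⟩ := iso_of_conj hk
        obtain ⟨e2⟩ := pm_iso (k := k) (F := F)
        have hc := card_PGL k
        rw [← Nat.card_congr (e.trans e2).toEquiv] at hc
        omega
    rcases hk with hk | hk
    · exfalso
      obtain ⟨e⟩ := iso_of_conj hk
      obtain ⟨e2⟩ := sm_iso (k := k) (F := F)
      obtain ⟨e3⟩ := psl3_iso k hk3'
      exact hnoA4 ⟨(e.trans e2).trans e3⟩
    · obtain ⟨e⟩ := iso_of_conj hk
      obtain ⟨e2⟩ := pm_iso (k := k) (F := F)
      obtain ⟨e3⟩ := pgl3_iso k hk3'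
      have hc := card_PGL k
      rw [← Nat.card_congr (e.trans e2).toEquiv, hk3'] at hc
      exact ⟨by omega, ⟨(e.trans e2).trans e3⟩⟩

/-- the icosahedral group -/
theorem ico (p : ℕ) [hp : Fact p.Prime] [CharP F p] (hp2 : p ≠ 2) (hp5 : p ≠ 5) {α β τ : F} (h2 : (2 : F) ≠ 0) (hS : α ^ 2 + β ^ 2 = -1)
    (hτ : τ ^ 2 = τ + 1) :
    Nat.card (Subgroup.closure {ps (B1 h2 hS), ps (B2 h2 hS), ps (B3 h2 hS hτ)}) = 60 ∧
    Nonempty (Subgroup.closure {ps (B1 h2 hS), ps (B2 h2 hS), ps (B3 h2 hS hτ)} ≃* alternatingGroup (Fin 5)) := by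
  classical
  have h5 : (5 : F) ≠ 0 := by
    intro h0
    have : ((5 : ℕ) : F) = 0 := by exact_mod_cast h0
    rw [CharP.cast_eq_zero_iff F p] at this
    exact hp5 ((Nat.prime_dvd_prime_iff_eq hp.out Nat.prime_five).1 this)
  obtain ⟨hfin, hle⟩ := ico_bound (B1_cube h2 hS) (B2_cube h2 hS) (B3_cube h2 hS hτ) (B12_sq h2 hS) (B13_sq h2 hS hτ) (B23_sq h2 hS hτ)
  obtain ⟨h12, -⟩ := tet p hp2 h2 hS
  set H := Subgroup.closure {ps (B1 h2 hS), ps (B2 h2 hS), ps (B3 h2 hS hτ)} with hH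
  have ha : ps (B1 h2 hS) ∈ H := Subgroup.subset_closure (by simp)
  have hb : ps (B2 h2 hS) ∈ H := Subgroup.subset_closure (by simp)
  have hs : ps (B3 h2 hS hτ) ∈ H := Subgroup.subset_closure (by simp)
  have hd : 12 ∣ Nat.card H := by
    rw [← h12]
    apply Subgroup.card_dvd_of_le
    rw [Subgroup.closure_le]
    rintro x (rfl | rfl)
    · exact ha
    · exact hb
  have ho5 : orderOf (ps (B1 h2 hS * B2 h2 hS * B3 h2 hS hτ)) = 5 :=
    fifth (B123_tr h2 hS hτ) (by linear_combination hτ) h5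
  have hd5 : 5 ∣ Nat.card H := by
    have hw : ps (B1 h2 hS * B2 h2 hS * B3 h2 hS hτ) ∈ H := H.mul_mem (H.mul_mem ha hb) hs
    exact ord_dvd hw ho5
  have hpos : 0 < Nat.card H := Nat.card_pos
  have h60 : Nat.card H = 60 := by omega
  have ht : p = 3 ∨ ¬ p ∣ Nat.card H := by
    by_cases hp3 : p = 3
    · exact Or.inl hp3
    · right
      intro hd
      rw [h60] at hd
      have : p ∣ 2 ^ 2 * (3 * 5) := by norm_num; exact hd
      rcases (Nat.Prime.dvd_mul hp.out).1 this with h | h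
      · exact hp2 ((Nat.prime_dvd_prime_iff_eq hp.out Nat.prime_two).1 (hp.out.dvd_of_dvd_pow h))
      · rcases (Nat.Prime.dvd_mul hp.out).1 h with h | h
        · exact hp3 ((Nat.prime_dvd_prime_iff_eq hp.out Nat.prime_three).1 h)
        · exact hp5 ((Nat.prime_dvd_prime_iff_eq hp.out Nat.prime_five).1 h)
  rcases nc3 p H ht ha hb (B1_order h2 hS) (B2_order h2 hS) (B_noncomm h2 hS) with h | h | h | h
  · omega
  · omega
  · exact ⟨h60, h.2.2⟩
  · exfalso
    obtain ⟨g, _, k, hk⟩ := h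
    obtain ⟨hk3, hkg, hkodd⟩ := card_of_sub p hp2 k
    have hup : Nat.card k * (Nat.card k - 1) * (Nat.card k + 1) ≤ 120 := by
      rcases hk with hk | hk
      · obtain ⟨e⟩ := iso_of_conj hk
        obtain ⟨e2⟩ := sm_iso (k := k) (F := F)
        have hc := card_PSL k
        rw [hkg, ← Nat.card_congr (e.trans e2).toEquiv] at hc
        omega
      · obtain ⟨e⟩ := iso_of_conj hk
        obtain ⟨e2⟩ := pm_iso (k := k) (F := F)
        have hc := card_PGL k
        rw [← Nat.card_congr (e.trans e2).toEquiv] at hc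
        omega
    have hk5 : Nat.card k ≤ 5 := by
      by_contra hne
      have h6 : 6 * (6 - 1) * (6 + 1) ≤ Nat.card k * (Nat.card k - 1) * (Nat.card k + 1) :=
          Nat.mul_le_mul (Nat.mul_le_mul (by omega) (by omega)) (by omega)
      omega
    have hk35 : Nat.card k = 3 ∨ Nat.card k = 5 := by
      obtain ⟨t, ht⟩ := hkodd
      omega
    rcases hk35 with hkc | hkc
    · rcases hk with hk | hk
      · obtain ⟨e⟩ := iso_of_conj hk
        obtain ⟨e2⟩ := sm_iso (k := k) (F := F)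
        have hc := card_PSL k
        rw [hkg, ← Nat.card_congr (e.trans e2).toEquiv, hkc] at hc
        omega
      · obtain ⟨e⟩ := iso_of_conj hk
        obtain ⟨e2⟩ := pm_iso (k := k) (F := F)
        have hc := card_PGL k
        rw [← Nat.card_congr (e.trans e2).toEquiv, hkc] at hc
        omega
    · haveI : Fintype k := Fintype.ofFinite k
      haveI : CharP k p := (k.subtype.charP k.subtype.injective p)
      obtain ⟨n, _, hn⟩ := FiniteField.card k p
      rw [Nat.card_eq_fintype_card, hn] at hkc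
      have : p ∣ 5 := by rw [← hkc]; exact dvd_pow_self p n.ne_zero
      exact hp5 ((Nat.prime_dvd_prime_iff_eq hp.out Nat.prime_five).1 this)

end

end CfsgLib.Mob20
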