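import Cfsg.Agent.Lib.PermMod2

/-!
# Permutation modules and orthogonal groups III
-/

namespace CfsgLib.PermMod

open Module CfsgLib.Quad CfsgLib.IsomDecomp Cfsg CfsgLib.Exc
open Matrix (SpecialLinearGroup ProjectiveSpecialLinearGroup)
open scoped MatrixGroups commutatorElement

set_option linter.unusedSimpArgs false
set_option linter.unusedSectionVars false

/-! ### The weight form over the field with two elements -/

/-- The weight. -/
def wt {n : ℕ} (w : Fin n → ZMod 2) : ℕ := (Finset.univ.filter (fun i => w i ≠ 0)).card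

/-- Half of the weight modulo two. -/
def NW (n : ℕ) (w : Fin n → ZMod 2) : ZMod 2 := if 4 ∣ wt w then 0 else 1

lemma wt_perm {n : ℕ} (w : Fin n → ZMod 2) (σ : Equiv.Perm (Fin n)) :
    wt (fun i => w (σ i)) = wt w := by
  rw [wt, wt]
  apply Finset.card_bij (fun i _ => σ i)
  · intro i hi
    rw [Finset.mem_filter] at hi ⊢
    exact ⟨Finset.mem_univ _, hi.2⟩
  · intro i _ j _ h
    exact σ.injective h
  · intro j hj
    refine ⟨σ⁻¹ j, ?_, ?_⟩
    · rw [Finset.mem_filter] at hj ⊢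
      refine ⟨Finset.mem_univ _, ?_⟩
      rw [show σ (σ⁻¹ j) = j from Equiv.apply_symm_apply σ j]
      exact hj.2
    · exact Equiv.apply_symm_apply σ j

lemma NW_perm {n : ℕ} (w : Fin n → ZMod 2) (σ : Equiv.Perm (Fin n)) :
    NW n (fun i => w (σ i)) = NW n w := by
  rw [NW, NW, wt_perm]

lemma wt_add_one {n : ℕ} (w : Fin n → ZMod 2) : wt (w + 1) + wt w = n := by
  rw [wt, wt]
  have h1 : (Finset.univ.filter (fun i => (w + 1) i ≠ 0)) =
      (Finset.univ.filter (fun i => ¬ (w i ≠ 0))) := by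
    apply Finset.filter_congr
    intro i _
    rw [Pi.add_apply, Pi.one_apply]
    generalize w i = a
    revert a
    decide
  rw [h1, add_comm, Finset.card_filter_add_card_filter_not, Finset.card_univ, Fintype.card_fin]

lemma NW_add {n : ℕ} (hn : 4 ∣ n) (w : Fin n → ZMod 2) (c : ZMod 2) :
    NW n (w + ((1 : ZMod 2) * c) • (1 : Fin n → ZMod 2)) = NW n w := by
  have hc : c = 0 ∨ c = 1 := by
    revert c; decide
  rcases hc with rfl | rfl
  · rw [mul_zero, zero_smul, add_zero]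
  · rw [mul_one, one_smul, NW, NW]
    have h1 := wt_add_one w
    have h2 : 4 ∣ wt (w + 1) ↔ 4 ∣ wt w := by
      constructor
      · intro h
        have := (Nat.dvd_add_right h).mp (h1 ▸ hn)
        exact this
      · intro h
        have := (Nat.dvd_add_left h).mp (h1 ▸ hn)
        exact this
    by_cases h : 4 ∣ wt w
    · rw [if_pos h, if_pos (h2.mpr h)]
    · rw [if_neg h, if_neg (fun h' => h (h2.mp h'))]

lemma NW_zero {n : ℕ} (w : Fin n → ZMod 2) (c : ZMod 2) :
    NW n (w + ((0 : ZMod 2) * c) • (1 : Fin n → ZMod 2)) = NW n w := by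
  rw [zero_mul, zero_smul, add_zero]

lemma NWA (a b c d e f : ZMod 2) : a * d + b * e + c * f =
    NW 8 ![0, c + f, b + e + f, b + c + d + e, a + d + e + f, a + c + d, a + b + d + f,
      a + b + c + e] := by
  revert a b c d e f
  decide

lemma NWB (a b c d : ZMod 2) : a * b + (c ^ 2 + 1 * c * d + 1 * d ^ 2) =
    NW 5 ![b, a, a + b + d, a + b + c, a + b + c + d] := by
  revert a b c d
  decide

lemma q6_NW_A (v : V6 (ZMod 2)) : q6 (ZMod 2) v = NW 8 (EA (ZMod 2) v) := by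
  rw [q6_apply, quadFormPlus, Fin.sum_univ_three]
  exact NWA _ _ _ _ _ _

lemma q4_NW_B (v : V4 (ZMod 2)) : q4 (1 : ZMod 2) 1 v = NW 5 (EB (ZMod 2) v) := by
  rw [q4_apply, quadFormMinus, Fin.sum_univ_one]
  exact NWB _ _ _ _

/-- The action of `S₈` on the orthogonal space. -/
noncomputable def toO8 : Equiv.Perm (Fin 8) →* O (q6 (ZMod 2)) :=
  (pmodA (by decide)).toO (N := NW 8) (fun w σ => NW_perm w σ)
    (fun w d _ => NW_add (by norm_num) w d) q6_NW_A

/-- The action of `S₅` on the orthogonal space. -/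
noncomputable def toO52 : Equiv.Perm (Fin 5) →* O (q4 (1 : ZMod 2) 1) :=
  (pmodB (by decide)).toO (N := NW 5) (fun w σ => NW_perm w σ)
    (fun w d _ => NW_zero w d) q4_NW_B

lemma toO8_injective : Function.Injective toO8 := by
  obtain ⟨c, hc, c0, c1, c2, c3⟩ := exists_cyc 8 (by norm_num)
  apply perm_injective_of (by norm_num) _ c hc
  intro h
  have h1 : (toO8 c).1 (Pi.single (.inl 1) 1) = Pi.single (.inl 1) 1 := by rw [h]; rfl
  have h2 : (PA (ZMod 2)) (fun i => EA (ZMod 2) (Pi.single (.inl 1) 1) (Equiv.symm c i)) =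
    Pi.single (.inl 1) 1 := h1
  have h3 := congrFun h2 (.inl 1)
  have c4 := c3 3 (by decide)
  have c5 := c3 4 (by decide)
  have c6 := c3 5 (by decide)
  have c7 := c3 6 (by decide)
  have c8 := c3 7 (by decide)
  simp at c0 c1 c2
  simp [PA, EA, c0, c1, c2, c4, c5, c6, c7, c8] at h3

lemma toO52_injective : Function.Injective toO52 := by
  obtain ⟨c, hc, c0, c1, c2, c3⟩ := exists_cyc 5 (by norm_num)
  apply perm_injective_of (by norm_num) _ c hc
  intro h
  have h1 : (toO52 c).1 (Pi.single (.inl (.inr 0)) 1) = Pi.single (.inl (.inr 0)) 1 := by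
    rw [h]; rfl
  have h2 : (PB (ZMod 2)) (fun i => EB (ZMod 2) (Pi.single (.inl (.inr 0)) 1) (Equiv.symm c i)) =
    Pi.single (.inl (.inr 0)) 1 := h1
  have h3 := congrFun h2 (.inl (.inl 0))
  have c4 := c3 3 (by decide)
  have c5 := c3 4 (by decide)
  simp at c0 c1 c2
  simp [PB, EB, c0, c1, c2, c4, c5] at h3
  revert h3
  decide

lemma aniso_one_one : Aniso (1 : ZMod 2) 1 := by
  intro z₁ z₂
  revert z₁ z₂
  decide

lemma card_O_q6 : Nat.card (O (q6 (ZMod 2))) = 40320 := by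
  rw [← Nat.card_congr (isoMat (quadFormPlus 3 (ZMod 2)) (q6 (ZMod 2)) (LinearEquiv.refl _ _)
    q6_apply).toEquiv, card_O_plus 2, Nat.card_eq_fintype_card, ZMod.card]
  decide

lemma card_O_q4 : Nat.card (O (q4 (1 : ZMod 2) 1)) = 120 := by
  rw [← Nat.card_congr (isoMat (quadFormMinus 1 (ZMod 2) 1 1) (q4 (1 : ZMod 2) 1)
    (LinearEquiv.refl _ _) q4_apply).toEquiv, card_O_minus aniso_one_one 1,
    Nat.card_eq_fintype_card, ZMod.card]
  decide

/-- An isomorphism with the field with two elements. -/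
lemma exists_zmod_equiv {F : Type*} [Field F] [Fintype F] {p : ℕ} [Fact p.Prime]
    (hF : Fintype.card F = p) : Nonempty (ZMod p ≃+* F) :=
  ⟨FiniteField.ringEquivOfCardEq (by rw [ZMod.card, hF])⟩

/-- `O₆⁺(2) ≅ S₈`. -/
theorem O_six_plus_two {F : Type*} [Field F] [Fintype F] (hF : Fintype.card F = 2) :
    Nonempty (↥(isometryGroup F (quadFormPlus 3 F)) ≃* Equiv.Perm (Fin 8)) := by
  obtain ⟨f⟩ := exists_zmod_equiv hF
  have hfin : Finite (O (q6 (ZMod 2))) := (Nat.card_pos_iff.mp (by rw [card_O_q6]; norm_num)).2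
  have hbij : Function.Bijective toO8 := by
    refine (Nat.bijective_iff_injective_and_card toO8).mpr ⟨toO8_injective, ?_⟩
    rw [card_O_q6, Nat.card_perm, Nat.card_fin]
    decide
  have e : isometryGroup (ZMod 2) (quadFormPlus 3 (ZMod 2)) ≃* isometryGroup F (quadFormPlus 3 F) :=
    isometryGroupMapEquiv f (fun v => by
      rw [quadFormPlus, quadFormPlus, map_sum]
      apply Finset.sum_congr rfl
      intro i _
      rw [_root_.map_mul])
  exact ⟨(e.symm.trans (isoMat (quadFormPlus 3 (ZMod 2)) (q6 (ZMod 2)) (LinearEquiv.refl _ _)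
    q6_apply)).trans (MulEquiv.ofBijective toO8 hbij).symm⟩

/-- `O₄⁻(2) ≅ S₅`. -/
theorem O_four_minus_two {F : Type*} [Field F] [Fintype F] (hF : Fintype.card F = 2) :
    Nonempty (↥(isometryGroup F (quadFormMinus 1 F 1 1)) ≃* Equiv.Perm (Fin 5)) := by
  obtain ⟨f⟩ := exists_zmod_equiv hF
  have hfin : Finite (O (q4 (1 : ZMod 2) 1)) :=
    (Nat.card_pos_iff.mp (by rw [card_O_q4]; norm_num)).2
  have hbij : Function.Bijective toO52 := by
    refine (Nat.bijective_iff_injective_and_card toO52).mpr ⟨toO52_injective, ?_⟩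
    rw [card_O_q4, Nat.card_perm, Nat.card_fin]
    decide
  have e : isometryGroup (ZMod 2) (quadFormMinus 1 (ZMod 2) 1 1) ≃*
      isometryGroup F (quadFormMinus 1 F 1 1) :=
    isometryGroupMapEquiv f (fun v => by
      rw [quadFormMinus, quadFormMinus]
      simp only [_root_.map_add, _root_.map_mul, _root_.map_pow, _root_.map_one, map_sum])
  exact ⟨(e.symm.trans (isoMat (quadFormMinus 1 (ZMod 2) 1 1) (q4 (1 : ZMod 2) 1)
    (LinearEquiv.refl _ _) q4_apply)).trans (MulEquiv.ofBijective toO52 hbij).symm⟩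

/-- `PSL₄(2) ≅ A₈`. -/
theorem PSL_four_two {F : Type*} [Field F] [Fintype F] (hF : Fintype.card F = 2) :
    Nonempty (ProjectiveSpecialLinearGroup (Fin 4) F ≃* alternatingGroup (Fin 8)) := by
  obtain ⟨f⟩ := exists_zmod_equiv hF
  have hfin : Finite (O (q6 (ZMod 2))) := (Nat.card_pos_iff.mp (by rw [card_O_q6]; norm_num)).2
  have hN : (QuadraticMap.polarBilin (q6 (ZMod 2))).Nondegenerate := by
    have h1 := hypSum_nondegenerate (F := ZMod 2) 3 (zeroQ_nondegenerate (F := ZMod 2))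
    exact nondegenerate_congr (ePlus 3 (ZMod 2)).symm (fun u => by
      rw [q6_apply, ← ePlus_apply, LinearEquiv.apply_symm_apply]) h1
  have hfr : finrank (ZMod 2) (V6 (ZMod 2)) = 6 := by
    rw [Module.finrank_fintype_fun_eq_card]; rfl
  obtain ⟨e⟩ := POmega_six_plus (F := ZMod 2)
  obtain ⟨e2⟩ := alt_equiv (by norm_num) toO8 toO8_injective
    (index_commutator_even (by decide) hN (by rw [hfr]; norm_num) (Or.inr (by rw [hfr]; norm_num)))
    (by rw [card_O_q6]; decide)
  exact ⟨((CfsgLib.Symp.quotCenterCongr (SLMapEquiv (Fin 4) f)).symm.trans (e.symm.trans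
    (POmegaCongr (quadFormPlus 3 (ZMod 2)) (q6 (ZMod 2)) (LinearEquiv.refl _ _) q6_apply))).trans e2⟩

/-! ### `SO₃(3) ≅ S₄` -/

section four

variable {F : Type*} [Field F]

/-- The action of `S₄`. -/
noncomputable def toO4 (hp : (3 : F) = 0) : Equiv.Perm (Fin 4) →* O (q3 F) :=
  (pmodE hp).toO (N := NS 4 2) (fun w σ => NS_perm 2 w σ)
    (fun w d hw => NS_zero 2 w d hw) (q3_NS_E hp)

lemma perm_eq_one_of_scalar {n : ℕ} (hn : 3 ≤ n) (σ : Equiv.Perm (Fin n))
    (h : ∀ w : Fin n → F, ∑ i, w i = 0 → ∃ a : F, ∀ k, w (σ⁻¹ k) = a * w k) : σ = 1 := by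
  have hex : ∀ i k : Fin n, ∃ j, j ≠ i ∧ j ≠ k := by
    intro i k
    have hc : ({i, k} : Finset (Fin n)).card < Fintype.card (Fin n) := by
      rw [Fintype.card_fin]
      have := Finset.card_le_two (a := i) (b := k)
      omega
    obtain ⟨j, hj⟩ := Finset.exists_mem_notMem_of_card_lt_card (s := {i, k}) (t := Finset.univ)
      (by rwa [Finset.card_univ])
    have h4 := hj.2
    rw [Finset.mem_insert, Finset.mem_singleton, not_or] at h4
    exact ⟨j, h4⟩
  have key : ∀ i j : Fin n, j ≠ i → σ i = i ∨ σ i = j := by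
    intro i j hij
    obtain ⟨a, ha⟩ := h (Pi.single i 1 - Pi.single j 1) (by simp)
    have h1 := ha (σ i)
    rw [show σ⁻¹ (σ i) = i from Equiv.symm_apply_apply σ i] at h1
    by_contra hcon
    push Not at hcon
    rw [Pi.sub_apply, Pi.sub_apply, Pi.single_eq_same, Pi.single_eq_of_ne hij.symm,
      Pi.single_eq_of_ne hcon.1, Pi.single_eq_of_ne hcon.2] at h1
    simp at h1
  ext i
  rw [Equiv.Perm.one_apply]
  congr 1
  obtain ⟨j, hj, _⟩ := hex i i
  obtain ⟨k, hk, hkj⟩ := hex i j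
  rcases key i j hj with h1 | h1
  · exact h1
  · rcases key i k hk with h2 | h2
    · exact h2
    · exact absurd (h2.symm.trans h1) hkj

lemma toO4_scalar (hp : (3 : F) = 0) (σ : Equiv.Perm (Fin 4)) (a : F)
    (h : ∀ v, (toO4 hp σ).1 v = a • v) : σ = 1 := by
  apply perm_eq_one_of_scalar (F := F) (by norm_num)
  intro w hw
  refine ⟨a, fun k => ?_⟩
  obtain ⟨c, hc⟩ := (pmodE hp).hEP w hw
  rw [zero_mul, zero_smul, add_zero] at hc
  have h1 : (PE F) (fun i => EE F (PE F w) (σ⁻¹ i)) = a • PE F w := h (PE F w)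
  rw [hc] at h1
  have h2 := congrArg (EE F) h1
  obtain ⟨d, hd⟩ := (pmodE hp).hEP (fun i => w (σ⁻¹ i)) (by
    rw [← hw]; exact Equiv.sum_comp σ⁻¹ w)
  rw [zero_mul, zero_smul, add_zero] at hd
  rw [hd, _root_.map_smul, hc] at h2
  exact congrFun h2 k

/-- Multiplication by the determinant. -/
noncomputable def twistGL (F : Type*) [Field F] (ι : Type) [Fintype ι] [DecidableEq ι] :
    GL ι F →* GL ι F where
  toFun g := Matrix.GeneralLinearGroup.scalar ι (Matrix.GeneralLinearGroup.det g) * g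
  map_one' := by simp
  map_mul' g h := by
    rw [_root_.map_mul, _root_.map_mul]
    apply Units.ext
    change ((Matrix.scalar ι ((Matrix.GeneralLinearGroup.det g : Fˣ) : F)) *
      (Matrix.scalar ι ((Matrix.GeneralLinearGroup.det h : Fˣ) : F))) *
      ((g : Matrix ι ι F) * (h : Matrix ι ι F)) =
      ((Matrix.scalar ι ((Matrix.GeneralLinearGroup.det g : Fˣ) : F)) * (g : Matrix ι ι F)) *
      ((Matrix.scalar ι ((Matrix.GeneralLinearGroup.det h : Fˣ) : F)) * (h : Matrix ι ι F))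
    have h1 := (Matrix.scalar_commute ((Matrix.GeneralLinearGroup.det h : Fˣ) : F)
      (fun _ => Commute.all _ _) (g : Matrix ι ι F)).eq
    rw [Matrix.mul_assoc, Matrix.mul_assoc, ← Matrix.mul_assoc _ (g : Matrix ι ι F), h1,
      Matrix.mul_assoc]

lemma twistGL_coe {ι : Type} [Fintype ι] [DecidableEq ι] (g : GL ι F) :
    (twistGL F ι g : Matrix ι ι F) =
      (Matrix.scalar ι ((g : Matrix ι ι F).det)) * (g : Matrix ι ι F) := rfl

lemma scalar_mulVec' {ι : Type} [Fintype ι] [DecidableEq ι] (a : F) (v : ι → F) :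
    (Matrix.scalar ι a).mulVec v = a • v := by
  funext i
  rw [Matrix.scalar_apply, Matrix.mulVec_diagonal]
  rfl

/-- The twisted action of `S₄`. -/
noncomputable def toSO (hp : (3 : F) = 0) : Equiv.Perm (Fin 4) →* GL (Unit ⊕ (Fin 1 ⊕ Fin 1)) F :=
  (twistGL F _).comp ((isometryGroup F (quadFormOdd 1 F)).subtype.comp
    ((isoMat (quadFormOdd 1 F) (q3 F) (LinearEquiv.refl F _) q3_apply).symm.toMonoidHom.comp
      (toO4 hp)))

lemma quadFormOdd_eq : quadFormOdd 1 F = ⇑(q3 F) := funext fun v => (q3_apply v).symm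

/-- `SO₃(3) ≅ S₄`. -/
theorem SO_three_three [Fintype F] (hF : Fintype.card F = 3) :
    Nonempty (↥(specialIsometryGroup F (quadFormOdd 1 F)) ≃* Equiv.Perm (Fin 4)) := by
  have hp : (3 : F) = 0 := by
    have h := Nat.cast_card_eq_zero F
    rw [hF] at h
    exact_mod_cast h
  have h2 : (2 : F) ≠ 0 := by
    intro h2
    have := exists_two_eq_zero h2
    omega
  have hN : (QuadraticMap.polarBilin (q3 F)).Nondegenerate := by
    have h1 := hypSum_nondegenerate (F := F) 1 (sqQ_nondegenerate (F := F) h2)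
    exact nondegenerate_congr (eOdd 1 F).symm (fun u => by
      rw [q3_apply, ← eOdd_apply, LinearEquiv.apply_symm_apply]) h1
  have hfr : finrank F (V3 F) = 3 := by
    rw [Module.finrank_fintype_fun_eq_card]; rfl
  have hcard : Nat.card (isometryGroup F (quadFormOdd 1 F)) = 48 := by
    rw [card_O_odd (F := F) h2 1, Nat.card_eq_fintype_card, hF]
    decide
  have hcardS : Nat.card (specialIsometryGroup F (quadFormOdd 1 F)) = 24 := by
    have h3 : (specialIsometryGroup F (quadFormOdd 1 F)).index = 2 := by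
      rw [quadFormOdd_eq]
      exact index_special h2 hN (exists_ne_zero_of_nondegenerate hN (by rw [hfr]; norm_num))
    have h4 := Subgroup.card_mul_index (specialIsometryGroup F (quadFormOdd 1 F))
    rw [h3, hcard] at h4
    omega
  -- determinants
  have hdet : ∀ σ, ((((isoMat (quadFormOdd 1 F) (q3 F) (LinearEquiv.refl F _) q3_apply).symm
      (toO4 hp σ)).1 : GL (Unit ⊕ (Fin 1 ⊕ Fin 1)) F) : Matrix (Unit ⊕ (Fin 1 ⊕ Fin 1)) (Unit ⊕ (Fin 1 ⊕ Fin 1)) F).det ^ 2 = 1 := by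
    intro σ
    generalize (isoMat (quadFormOdd 1 F) (q3 F) (LinearEquiv.refl F _) q3_apply).symm
      (toO4 hp σ) = g
    revert g
    rw [quadFormOdd_eq]
    intro g
    rcases CfsgLib.QuadMat.det_isometry (q3 F) hN g with h | h
    · rw [h]; norm_num
    · rw [h]; norm_num
  have hmem : ∀ σ, toSO hp σ ∈ isometryGroup F (quadFormOdd 1 F) := by
    intro σ u v
    set g := (isoMat (quadFormOdd 1 F) (q3 F) (LinearEquiv.refl F _) q3_apply).symm
      (toO4 hp σ) with hg
    change quadFormOdd 1 F ((twistGL F _ g.1 : Matrix (Unit ⊕ (Fin 1 ⊕ Fin 1)) (Unit ⊕ (Fin 1 ⊕ Fin 1)) F).mulVec u) = quadFormOdd 1 F u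
    rw [twistGL_coe, ← Matrix.mulVec_mulVec, scalar_mulVec', ← q3_apply, QuadraticMap.map_smul,
      smul_eq_mul, ← pow_two, hdet σ, one_mul, q3_apply]
    exact g.2 u v
  have hmem2 : ∀ σ, (⟨toSO hp σ, hmem σ⟩ : isometryGroup F (quadFormOdd 1 F)) ∈
      specialIsometryGroup F (quadFormOdd 1 F) := by
    intro σ
    rw [mem_special]
    set g := (isoMat (quadFormOdd 1 F) (q3 F) (LinearEquiv.refl F _) q3_apply).symm
      (toO4 hp σ) with hg
    change (twistGL F _ g.1 : Matrix (Unit ⊕ (Fin 1 ⊕ Fin 1)) (Unit ⊕ (Fin 1 ⊕ Fin 1)) F).det = 1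
    rw [twistGL_coe, Matrix.det_mul, Matrix.scalar_apply, Matrix.det_diagonal, Finset.prod_const,
      Finset.card_univ]
    have h3 : Fintype.card (Unit ⊕ (Fin 1 ⊕ Fin 1)) = 3 := rfl
    rw [h3]
    have h4 := hdet σ
    rw [← hg] at h4
    linear_combination ((g.1 : Matrix (Unit ⊕ (Fin 1 ⊕ Fin 1)) (Unit ⊕ (Fin 1 ⊕ Fin 1)) F).det ^ 2 + 1) * h4
  let f : Equiv.Perm (Fin 4) →* specialIsometryGroup F (quadFormOdd 1 F) :=
    ((toSO hp).codRestrict (isometryGroup F (quadFormOdd 1 F)) hmem).codRestrict _ hmem2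
  have hinj : Function.Injective f := by
    rw [injective_iff_map_eq_one]
    intro σ hσ
    have h3 : toSO hp σ = 1 := congrArg (fun z => (z.1.1 : GL (Unit ⊕ (Fin 1 ⊕ Fin 1)) F)) hσ
    set g := (isoMat (quadFormOdd 1 F) (q3 F) (LinearEquiv.refl F _) q3_apply).symm
      (toO4 hp σ) with hg
    have h4 : (twistGL F _ g.1 : Matrix (Unit ⊕ (Fin 1 ⊕ Fin 1)) (Unit ⊕ (Fin 1 ⊕ Fin 1)) F) = 1 := congrArg Units.val h3
    rw [twistGL_coe] at h4
    set d := (g.1 : Matrix (Unit ⊕ (Fin 1 ⊕ Fin 1)) (Unit ⊕ (Fin 1 ⊕ Fin 1)) F).det with hd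
    have hd2 : d ^ 2 = 1 := hdet σ
    apply toO4_scalar hp σ d
    intro v
    have h5 : toO4 hp σ = isoMat (quadFormOdd 1 F) (q3 F) (LinearEquiv.refl F _) q3_apply g := by
      rw [hg, MulEquiv.apply_symm_apply]
    have h6 := isoMat_apply (quadFormOdd 1 F) (q3 F) (LinearEquiv.refl F _) q3_apply g v
    rw [LinearEquiv.refl_apply, LinearEquiv.refl_apply] at h6
    rw [h5, h6]
    have h7 : (g.1 : Matrix (Unit ⊕ (Fin 1 ⊕ Fin 1)) (Unit ⊕ (Fin 1 ⊕ Fin 1)) F).mulVec v = d • (d • (g.1 : Matrix (Unit ⊕ (Fin 1 ⊕ Fin 1)) (Unit ⊕ (Fin 1 ⊕ Fin 1)) F).mulVec v) := by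
      rw [smul_smul, ← pow_two, hd2, one_smul]
    rw [h7, ← scalar_mulVec' d ((g.1 : Matrix (Unit ⊕ (Fin 1 ⊕ Fin 1)) (Unit ⊕ (Fin 1 ⊕ Fin 1)) F).mulVec v), Matrix.mulVec_mulVec, h4,
      Matrix.one_mulVec]
  have : Finite (specialIsometryGroup F (quadFormOdd 1 F)) :=
    (Nat.card_pos_iff.mp (by rw [hcardS]; norm_num)).2
  have hbij : Function.Bijective f := by
    refine (Nat.bijective_iff_injective_and_card f).mpr ⟨hinj, ?_⟩
    rw [hcardS, Nat.card_perm, Nat.card_fin]
    decide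
  exact ⟨(MulEquiv.ofBijective f hbij).symm⟩

end four

end CfsgLib.PermMod
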