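import Mathlib
import Cfsg.Agent.Lib.Mob20
import Cfsg.Agent.Lib.PermMod3

set_option autoImplicit false
set_option maxHeartbeats 400000

/-! Existence of subgroups `A_4`, `S_4`, `A_5` in `PSL(2,q)`. -/
namespace CfsgLib.Mob21

open Matrix CfsgLib.Mob3 CfsgLib.Mob4 CfsgLib.Mob5 CfsgLib.Mob10 CfsgLib.Mob12 CfsgLib.Mob13 CfsgLib.Mob14 CfsgLib.Mob16 CfsgLib.Mob18 CfsgLib.Mob19 CfsgLib.Mob20

universe u v w

theorem emb_iff {G : Type u} [Group G] {B : Type v} [Group B] : (∃ H : Subgroup G, Nonempty (H ≃* B)) ↔ ∃ f : B →* G, Function.Injective f := by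
  constructor
  · rintro ⟨H, ⟨e⟩⟩
    exact ⟨H.subtype.comp e.symm.toMonoidHom, Subtype.val_injective.comp e.symm.injective⟩
  · rintro ⟨f, hf⟩
    exact ⟨f.range, ⟨(MonoidHom.ofInjective hf).symm⟩⟩

theorem a4_to_a5 : ∃ f : alternatingGroup (Fin 4) →* alternatingGroup (Fin 5), Function.Injective f := by
  classical
  let e : Fin 4 ≃ {x : Fin 5 // x ≠ Fin.last 4} := finSuccAboveEquiv (Fin.last 4)
  let F0 : Equiv.Perm (Fin 4) →* Equiv.Perm (Fin 5) := Equiv.Perm.extendDomainHom e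
  have hF0 : Function.Injective F0 := Equiv.Perm.extendDomainHom_injective e
  have hs : ∀ σ : Equiv.Perm (Fin 4), Equiv.Perm.sign (F0 σ) = Equiv.Perm.sign σ := fun σ => Equiv.Perm.sign_extendDomain σ e
  let f : alternatingGroup (Fin 4) →* alternatingGroup (Fin 5) :=
    (F0.comp (alternatingGroup (Fin 4)).subtype).codRestrict (alternatingGroup (Fin 5)) (by
      intro σ
      rw [Equiv.Perm.mem_alternatingGroup]
      change Equiv.Perm.sign (F0 σ) = 1
      rw [hs]
      exact Equiv.Perm.mem_alternatingGroup.1 σ.2)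
  refine ⟨f, ?_⟩
  intro a b hab
  apply Subtype.ext
  apply hF0
  exact congrArg Subtype.val hab

section
variable {F : Type u} [Field F] [Finite F] (p : ℕ) [hp : Fact p.Prime] [CharP F p]

include hp in
omit [Finite F] in
theorem card_eq [Finite F] : ∃ n : ℕ, n ≠ 0 ∧ Nat.card F = p ^ n := by
  haveI : Fintype F := Fintype.ofFinite F
  obtain ⟨n, _, hn⟩ := FiniteField.card F p
  exact ⟨n, n.ne_zero, by rw [Nat.card_eq_fintype_card, hn]⟩

include p in
theorem exists_a4_odd (hp2 : p ≠ 2) : ∃ H : Subgroup (ProjectiveSpecialLinearGroup (Fin 2) F), Nonempty (H ≃* alternatingGroup (Fin 4)) := by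
  have h2 := two_ne_zero_of (F := F) p hp2
  obtain ⟨α, β, hS⟩ := exists_ab F
  exact ⟨_, (tet p hp2 h2 hS).2⟩

theorem four_embeds {n : ℕ} (hn : Nat.card F = 2 ^ (2 * n)) : ∃ H : Subgroup (ProjectiveSpecialLinearGroup (Fin 2) F), Nonempty (H ≃* alternatingGroup (Fin 5)) := by
  haveI : Fact (Nat.Prime 2) := ⟨Nat.prime_two⟩
  have hc : Nat.card (GaloisField 2 2) = 4 := by rw [GaloisField.card 2 2 (by norm_num)]; norm_num
  haveI : Finite (GaloisField 2 2) := Nat.finite_of_card_ne_zero (by rw [hc]; norm_num)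
  obtain ⟨H, ⟨e⟩⟩ := psl_embeds (k := GaloisField 2 2) (F := F) (m := n) (by rw [hc, hn, pow_mul]; norm_num)
  obtain ⟨e2⟩ := psl5_iso (GaloisField 2 2) hc
  exact ⟨H, ⟨e.trans e2⟩⟩

omit [Finite F] in
theorem char_two_invol [Finite F] [CharP F 2] {g : ProjectiveSpecialLinearGroup (Fin 2) F} {k : ℕ} (hg : g ^ 2 ^ k = 1) : g ^ 2 = 1 := by
  classical
  haveI : Fact (Nat.Prime 2) := ⟨Nat.prime_two⟩
  obtain ⟨x, hx⟩ := fix_of_ppow 2 (Psi F g) k (by rw [← map_pow, hg, map_one])
  have h1 := U_of_pow 2 (Psi_mem_mob F g) hx k (by rw [← map_pow, hg, map_one])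
  apply Psi_injective F
  rw [map_pow, map_one]
  exact U_pow 2 h1

theorem card_dvd_of_iso {B : Type v} [Group B] (h : ∃ H : Subgroup (ProjectiveSpecialLinearGroup (Fin 2) F), Nonempty (H ≃* B)) :
    Nat.card B ∣ Nat.card F * (Nat.card F - 1) * (Nat.card F + 1) ∧
      (Odd (Nat.card F) → 2 * Nat.card B ∣ Nat.card F * (Nat.card F - 1) * (Nat.card F + 1)) := by
  obtain ⟨H, ⟨e⟩⟩ := h
  have h1 : Nat.card B ∣ Nat.card (ProjectiveSpecialLinearGroup (Fin 2) F) := by
    rw [← Nat.card_congr e.toEquiv]; exact Subgroup.card_subgroup_dvd_card H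
  rw [← card_PSL F]
  refine ⟨h1.trans (Dvd.intro_left _ rfl), ?_⟩
  intro hodd
  have hg : Nat.gcd 2 (Nat.card F - 1) = 2 := by
    rw [Nat.gcd_eq_left_iff_dvd]
    obtain ⟨t, ht⟩ := hodd
    omega
  rw [hg]
  exact Nat.mul_dvd_mul_left 2 h1

/-- the octahedral criterion -/
theorem s4_iff : (∃ H : Subgroup (ProjectiveSpecialLinearGroup (Fin 2) F), Nonempty (H ≃* Equiv.Perm (Fin 4))) ↔ Nat.card F ^ 2 % 16 = 1 := by
  obtain ⟨p, hpc⟩ := CharP.exists F
  haveI : Fintype F := Fintype.ofFinite F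
  obtain ⟨_, hpp, _⟩ := FiniteField.card F p
  haveI : Fact p.Prime := ⟨hpp⟩
  obtain ⟨n, hn0, hn⟩ := card_eq (F := F) p
  constructor
  · intro h
    by_cases hp2 : p = 2
    · subst hp2
      exfalso
      obtain ⟨H, ⟨e⟩⟩ := h
      have h1 : ∀ g : H, g ^ 4 = 1 → g ^ 2 = 1 := by
        intro g hg
        apply Subtype.ext
        exact char_two_invol (k := 2) (congrArg Subtype.val hg)
      have h2 : ∀ σ : Equiv.Perm (Fin 4), σ ^ 4 = 1 → σ ^ 2 = 1 := by
        intro σ hσ
        have := h1 (e.symm σ) (by rw [← map_pow, hσ, map_one])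
        rw [← map_pow] at this
        exact (MulEquiv.map_eq_one_iff e.symm).1 this
      have h3 := h2 (finRotate 4) (by decide)
      revert h3
      decide
    · have hodd : Odd (Nat.card F) := by rw [hn]; exact (hpp.odd_of_ne_two hp2).pow
      have h1 := (card_dvd_of_iso h).2 hodd
      have h2 : Nat.card (Equiv.Perm (Fin 4)) = 24 := by
        rw [Nat.card_eq_fintype_card, Fintype.card_perm, Fintype.card_fin]; rfl
      rw [h2] at h1
      have h3 : 16 ∣ Nat.card F * ((Nat.card F - 1) * (Nat.card F + 1)) := by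
        rw [← mul_assoc]; exact (by norm_num : 16 ∣ 2 * 24).trans h1
      have h4 : Nat.Coprime 16 (Nat.card F) := by
        rw [show 16 = 2 ^ 4 by norm_num]
        exact Nat.Coprime.pow_left 4 (Nat.coprime_two_left.2 hodd)
      have h5 := h4.dvd_of_dvd_mul_left h3
      obtain ⟨t, ht⟩ := hodd
      rw [ht] at h5 ⊢
      have h6 : (2 * t + 1 - 1) * (2 * t + 1 + 1) = (2 * t + 1) ^ 2 - 1 := by
        have : (2 * t + 1) ^ 2 = (2 * t) * (2 * t + 1 + 1) + 1 := by ring
        rw [this]; simp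
      rw [h6] at h5
      have h7 : 1 ≤ (2 * t + 1) ^ 2 := Nat.one_le_pow _ _ (by omega)
      omega
  · intro h
    have hp2 : p ≠ 2 := by
      rintro rfl
      have h1 : 2 ∣ Nat.card F ^ 2 := (by rw [hn]; exact (dvd_pow_self 2 hn0) : 2 ∣ Nat.card F).trans (dvd_pow_self _ two_ne_zero)
      omega
    have h2 := two_ne_zero_of (F := F) p hp2
    obtain ⟨α, β, hS⟩ := exists_ab F
    have hsq : IsSquare (2 : F) := by
      rw [FiniteField.isSquare_two_iff]
      rw [Nat.card_eq_fintype_card] at h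
      have h3 : Fintype.card F ^ 2 % 16 = ((Fintype.card F % 16) ^ 2) % 16 := Nat.pow_mod _ _ _
      rw [h3] at h
      have h4 : Fintype.card F % 16 < 16 := Nat.mod_lt _ (by norm_num)
      have h5 : Fintype.card F % 8 = (Fintype.card F % 16) % 8 := by omega
      rw [h5]
      generalize Fintype.card F % 16 = m at *
      interval_cases m <;> simp_all
    obtain ⟨r, hr⟩ := hsq
    have hr' : r ^ 2 = 2 := by rw [hr, pow_two]
    have hr0 : r ≠ 0 := by
      rintro rfl
      apply h2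
      rw [← hr']; ring
    exact ⟨_, (oct p hp2 h2 hS hr' hr0).2⟩

omit [Finite F] in
theorem four_ne : ¬ (4 : ZMod 5) = 0 := by decide

theorem sqrt_five [Fintype F] {p : ℕ} [hp : Fact p.Prime] [CharP F p] (hp2 : p ≠ 2) (hp5 : p ≠ 5) (h : 5 ∣ Fintype.card F * (Fintype.card F ^ 2 - 1)) :
    ∃ τ : F, τ ^ 2 = τ + 1 := by
  classical
  have h2 := two_ne_zero_of (F := F) p hp2
  haveI : Fact (Nat.Prime 5) := ⟨Nat.prime_five⟩
  have hrc : ringChar F ≠ 2 := by
    rw [ringChar.eq F p]; exact hp2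
  obtain ⟨n, hn0, hn⟩ := card_eq (F := F) p
  rw [Nat.card_eq_fintype_card] at hn
  have hodd : Fintype.card F % 2 = 1 := FiniteField.odd_card_of_char_ne_two hrc
  have hsq : IsSquare ((5 : ℕ) : F) := by
    rw [FiniteField.isSquare_odd_prime_iff hrc (p := 5) (by norm_num)]
    have hn5 : ¬ 5 ∣ Fintype.card F := by
      rw [hn]
      intro h5
      exact hp5 ((Nat.prime_dvd_prime_iff_eq Nat.prime_five hp.out).1 (Nat.prime_five.dvd_of_dvd_pow h5)).symm
    have h3 : 5 ∣ Fintype.card F ^ 2 - 1 := (Nat.prime_five.dvd_mul.1 h).resolve_left hn5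
    have h4 : 1 ≤ Fintype.card F ^ 2 := Nat.one_le_pow _ _ Fintype.card_pos
    have h5 : Fintype.card F ^ 2 % 5 = 1 := by omega
    rw [Nat.pow_mod] at h5
    have h6 : Fintype.card F % 5 = 1 ∨ Fintype.card F % 5 = 4 := by
      have : Fintype.card F % 5 < 5 := Nat.mod_lt _ (by norm_num)
      generalize Fintype.card F % 5 = m at *
      interval_cases m <;> simp_all
    have h7 : ((Fintype.card F : ℕ) : ZMod 5) = 1 ∨ ((Fintype.card F : ℕ) : ZMod 5) = 4 := by
      rw [← Nat.mod_add_div (Fintype.card F) 5]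
      rcases h6 with h | h
      · left; rw [h]; push_cast; rw [show (5 : ZMod 5) = 0 from rfl]; ring
      · right; rw [h]; push_cast; rw [show (5 : ZMod 5) = 0 from rfl]; ring
    have h8 : ZMod.χ₄ (Fintype.card F : ZMod 4) = 1 ∨ ZMod.χ₄ (Fintype.card F : ZMod 4) = -1 := by
      rw [ZMod.χ₄_nat_eq_if_mod_four]
      have : ¬ Fintype.card F % 2 = 0 := by omega
      rw [if_neg this]
      split_ifs
      · left; rfl
      · right; rfl
    have h9 : ((ZMod.χ₄ (Fintype.card F : ZMod 4) : ℤ) : ZMod 5) * ((Fintype.card F : ℕ) : ZMod 5) = 1 ∨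
        ((ZMod.χ₄ (Fintype.card F : ZMod 4) : ℤ) : ZMod 5) * ((Fintype.card F : ℕ) : ZMod 5) = 4 := by
      rcases h7 with h7 | h7 <;> rcases h8 with h8 | h8 <;> rw [h7, h8]
      · left; norm_num
      · right; norm_num; rfl
      · right; norm_num
      · left; norm_num; rfl
    have h10 : quadraticChar (ZMod 5) 4 = 1 := (quadraticChar_one_iff_isSquare four_ne).2 ⟨2, rfl⟩
    rcases h9 with h9 | h9
    · rw [h9, map_one]; norm_num
    · rw [h9, h10]; norm_num
  obtain ⟨s, hs⟩ := hsq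
  have hs' : s * s = 5 := by rw [← hs]; norm_num
  refine ⟨(1 + s) / 2, ?_⟩
  field_simp
  linear_combination hs'

theorem a5_iff : (∃ H : Subgroup (ProjectiveSpecialLinearGroup (Fin 2) F), Nonempty (H ≃* alternatingGroup (Fin 5))) ↔
    5 ∣ Nat.card F * (Nat.card F ^ 2 - 1) := by
  obtain ⟨p, hpc⟩ := CharP.exists F
  haveI : Fintype F := Fintype.ofFinite F
  obtain ⟨_, hpp, _⟩ := FiniteField.card F p
  haveI : Fact p.Prime := ⟨hpp⟩
  obtain ⟨n, hn0, hn⟩ := card_eq (F := F) p
  have hq1 : 1 ≤ Nat.card F := Nat.card_pos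
  have hfac : Nat.card F * (Nat.card F - 1) * (Nat.card F + 1) = Nat.card F * (Nat.card F ^ 2 - 1) := by
    obtain ⟨d, hd⟩ : ∃ d, Nat.card F = d + 1 := ⟨Nat.card F - 1, by omega⟩
    rw [hd]
    have : (d + 1) ^ 2 = d * (d + 2) + 1 := by ring
    rw [this]
    simp only [Nat.add_sub_cancel]
    ring
  constructor
  · intro h
    have h1 := (card_dvd_of_iso h).1
    have h2 : Nat.card (alternatingGroup (Fin 5)) = 60 := by
      rw [nat_card_alternatingGroup]; simp; rfl
    rw [h2, hfac] at h1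
    exact (by norm_num : 5 ∣ 60).trans h1
  · intro h
    by_cases hp2 : p = 2
    · subst hp2
      have hev : Even n := by
        rw [hn] at h
        have h1 : ¬ 5 ∣ 2 ^ n := fun h5 => by
          have := Nat.prime_five.dvd_of_dvd_pow h5
          omega
        have h3 : 5 ∣ (2 ^ n) ^ 2 - 1 := (Nat.prime_five.dvd_mul.1 h).resolve_left h1
        by_contra hodd
        rw [Nat.not_even_iff_odd] at hodd
        obtain ⟨m, hm⟩ := hodd
        have h4 : ((2 ^ n) ^ 2) % 5 = 4 := by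
          rw [hm, ← pow_mul]
          have : 2 ^ ((2 * m + 1) * 2) = 16 ^ m * 4 := by
            rw [show (2 * m + 1) * 2 = 4 * m + 2 by ring, pow_add, pow_mul]; norm_num
          rw [this, Nat.mul_mod, Nat.pow_mod]
          norm_num
        have h5 : 1 ≤ (2 ^ n) ^ 2 := Nat.one_le_pow _ _ (by positivity)
        omega
      obtain ⟨m, hm⟩ := hev
      exact four_embeds (n := m) (by rw [hn, hm, two_mul])
    · by_cases hp5 : p = 5
      · subst hp5
        obtain ⟨H, ⟨e⟩⟩ := psl_embeds (k := ZMod 5) (F := F) (m := n) (by rw [Nat.card_zmod, hn])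
        obtain ⟨e2⟩ := CfsgLib.PermMod.PSL_two_five (F := ZMod 5) (by rw [ZMod.card])
        exact ⟨H, ⟨e.trans e2⟩⟩
      · rw [Nat.card_eq_fintype_card] at h
        obtain ⟨τ, hτ⟩ := sqrt_five hp2 hp5 h
        have h2 := two_ne_zero_of (F := F) p hp2
        obtain ⟨α, β, hS⟩ := exists_ab F
        exact ⟨_, (ico p hp2 hp5 h2 hS hτ).2⟩

end

end CfsgLib.Mob21
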