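import Mathlib
import Cfsg.Agent.Lib.Mob21

set_option autoImplicit false
set_option maxHeartbeats 400000

/-! Point stabilisers in `PSL(2,q)`; noncommuting elements of order three. -/
namespace CfsgLib.Mob22

open OnePoint Matrix CfsgLib.Mob3 CfsgLib.Mob4 CfsgLib.Mob5 CfsgLib.Mob10 CfsgLib.Mob12 CfsgLib.Mob13 CfsgLib.Mob14 CfsgLib.Mob16 CfsgLib.Mob18 CfsgLib.Mob19 CfsgLib.Mob20 CfsgLib.Mob21

universe u v w

/-- existence of noncommuting elements of order three -/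
def NC3 (G : Type u) [Group G] : Prop := ∃ a b : G, orderOf a = 3 ∧ orderOf b = 3 ∧ a * b ≠ b * a

theorem NC3.of_inj {G : Type u} [Group G] {B : Type v} [Group B] (h : NC3 G) (f : G →* B) (hf : Function.Injective f) : NC3 B := by
  obtain ⟨a, b, ha, hb, hab⟩ := h
  refine ⟨f a, f b, by rw [orderOf_injective f hf, ha], by rw [orderOf_injective f hf, hb], ?_⟩
  rw [← map_mul, ← map_mul]
  exact fun h => hab (hf h)

theorem a4_nc3' : ∃ a b : alternatingGroup (Fin 4), (a * a * a = 1 ∧ a ≠ 1) ∧ (b * b * b = 1 ∧ b ≠ 1) ∧ a * b ≠ b * a := by decide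

theorem nc3_a4 : NC3 (alternatingGroup (Fin 4)) := by
  haveI : Fact (Nat.Prime 3) := ⟨Nat.prime_three⟩
  obtain ⟨a, b, ha, hb, hab⟩ := a4_nc3'
  refine ⟨a, b, orderOf_eq_prime ?_ ha.2, orderOf_eq_prime ?_ hb.2, hab⟩
  · rw [pow_succ, pow_two]; exact ha.1
  · rw [pow_succ, pow_two]; exact hb.1

theorem nc3_s4 : NC3 (Equiv.Perm (Fin 4)) := nc3_a4.of_inj (alternatingGroup (Fin 4)).subtype Subtype.val_injective

theorem nc3_a5 : NC3 (alternatingGroup (Fin 5)) := by
  obtain ⟨f, hf⟩ := a4_to_a5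
  exact nc3_a4.of_inj f hf

theorem NC3.not_cyclic {G : Type u} [Group G] (h : NC3 G) : ¬ IsCyclic G := by
  intro hc
  obtain ⟨a, b, -, -, hab⟩ := h
  exact hab (hc.commutative.is_comm.comm a b)

theorem NC3.not_dihedral {G : Type u} [Group G] (h : NC3 G) {n : ℕ} : ¬ Nonempty (G ≃* DihedralGroup n) := by
  rintro ⟨e⟩
  obtain ⟨a, b, ha, hb, hab⟩ := h
  exact hab (dih_comm (le_refl 3) e ha hb)

section
variable {F : Type u} [Field F] [DecidableEq F]

theorem aff_mem_sm (b : F) : aff 1 b one_ne_zero ∈ sm F F := by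
  refine ⟨up b, ?_⟩
  rw [MonoidHom.comp_apply, gm_up]
  rfl

theorem iv_mem_sm : iv (-1 : F) (neg_ne_zero.2 one_ne_zero) ∈ sm F F := by
  refine ⟨m4 0 (-1) 1 0 (by ring), ?_⟩
  rw [MonoidHom.comp_apply, gm_toGL]
  unfold iv
  apply mk_congr
  · simp [m4]
  · simp [m4]
  · simp [m4]
  · simp [m4]

theorem sm_trans (x : OnePoint F) : ∃ g ∈ sm F F, g ∞ = x := by
  induction x using OnePoint.rec with
  | infty => exact ⟨1, (sm F F).one_mem, rfl⟩
  | coe x =>
    refine ⟨aff 1 x one_ne_zero * iv (-1 : F) (neg_ne_zero.2 one_ne_zero), (sm F F).mul_mem (aff_mem_sm x) iv_mem_sm, ?_⟩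
    rw [Equiv.Perm.mul_apply, iv_inf, aff_coe]
    congr 1; ring

theorem UU_sm_ne (x : OnePoint F) : UU (sm F F) x ≠ ⊥ := by
  have h0 : UU (sm F F) ∞ ≠ ⊥ := by
    intro hbot
    have h1 : aff (1 : F) 1 one_ne_zero ∈ UU (sm F F) ∞ := ⟨aff_mem_sm 1, uni_inf.2 ⟨1, rfl⟩⟩
    rw [hbot, Subgroup.mem_bot, ← aff_one] at h1
    exact one_ne_zero (aff_inj h1).2
  obtain ⟨g, hg, rfl⟩ := sm_trans x
  exact UU_ne_bot_smul (sm_le_pm.trans gm_range_le) hg h0

theorem card_sm [Finite F] : Nat.gcd 2 (Nat.card F - 1) * Nat.card (sm F F) = Nat.card F * (Nat.card F - 1) * (Nat.card F + 1) := by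
  obtain ⟨e⟩ := sm_iso (k := F) (F := F)
  rw [Nat.card_congr e.toEquiv]
  exact card_PSL F

theorem card_pm [Finite F] : Nat.card (pm F F) = Nat.card F * (Nat.card F - 1) * (Nat.card F + 1) := by
  obtain ⟨e⟩ := pm_iso (k := F) (F := F)
  rw [Nat.card_congr e.toEquiv]
  exact card_PGL F

theorem card_St_sm [Finite F] (p : ℕ) [hp : Fact p.Prime] [CharP F p] (x : OnePoint F) :
    Nat.gcd 2 (Nat.card F - 1) * Nat.card (St (sm F F) x) = Nat.card F * (Nat.card F - 1) := by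
  haveI : Finite (OnePoint F) := inferInstanceAs (Finite (Option F))
  haveI : Finite (Equiv.Perm (OnePoint F)) := inferInstance
  have h1 := card_Om p (sm_le_pm.trans gm_range_le : sm F F ≤ mob F) (fun g _ k hg => fix_of_ppow p g k hg) (UU_sm_ne x)
  have h2 : {y : OnePoint F | UU (sm F F) y ≠ ⊥} = Set.univ := by
    ext y; exact ⟨fun _ => trivial, fun _ => UU_sm_ne y⟩
  rw [h2, Nat.card_coe_set_eq, Set.ncard_univ, card_onePoint] at h1
  have h3 := card_sm (F := F)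
  rw [← h1] at h3
  have h4 : (Nat.card F + 1) * (Nat.gcd 2 (Nat.card F - 1) * Nat.card (St (sm F F) x)) = (Nat.card F + 1) * (Nat.card F * (Nat.card F - 1)) := by
    linarith [h3]
  exact Nat.eq_of_mul_eq_mul_left (by omega) h4

/-- a subgroup of `PSL(2,q)` fixing a point has order dividing `q(q-1)/d` -/
theorem fix_dvd [Finite F] (p : ℕ) [hp : Fact p.Prime] [CharP F p] {H : Subgroup (ProjectiveSpecialLinearGroup (Fin 2) F)} {x : OnePoint F}
    (h : ∀ g ∈ H, Psi F g x = x) : Nat.gcd 2 (Nat.card F - 1) * Nat.card H ∣ Nat.card F * (Nat.card F - 1) := by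
  rw [← card_St_sm p x]
  apply Nat.mul_dvd_mul_left
  rw [Nat.card_congr (H.equivMapOfInjective (Psi F) (Psi_injective F)).toEquiv]
  apply Subgroup.card_dvd_of_le
  rintro _ ⟨g, hg, rfl⟩
  exact ⟨Psi_mem F g, h g hg⟩

/-- the stabiliser of a point in `PSL(2,q)` -/
theorem exists_index (F : Type u) [Field F] [Finite F] : ∃ H : Subgroup (ProjectiveSpecialLinearGroup (Fin 2) F), H.index = Nat.card F + 1 := by
  classical
  obtain ⟨p, hpc⟩ := CharP.exists F
  haveI : Fintype F := Fintype.ofFinite F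
  obtain ⟨_, hpp, _⟩ := FiniteField.card F p
  haveI : Fact p.Prime := ⟨hpp⟩
  obtain ⟨H, h1, ⟨e⟩⟩ := exists_of_le (S := St (sm F F) ∞) inf_le_left
  refine ⟨H, ?_⟩
  have h2 := H.card_mul_index
  have h3 := card_St_sm p (∞ : OnePoint F)
  have h4 := card_PSL F
  rw [← Nat.card_congr e.toEquiv] at h3
  rw [← h2, ← mul_assoc, h3] at h4
  have hq : 1 < Nat.card F := Finite.one_lt_card
  exact Nat.eq_of_mul_eq_mul_left (Nat.mul_pos (by omega) (by omega)) h4

end

end CfsgLib.Mob22
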