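import Mathlib
import Cfsg.Agent.Lib.Mob22

set_option autoImplicit false
set_option maxHeartbeats 400000

/-! Solubility and orders in Dickson's list for `PSL(2,q)`. -/
namespace CfsgLib.Mob23

open OnePoint Matrix CfsgLib.Mob3 CfsgLib.Mob4 CfsgLib.Mob5 CfsgLib.Mob10 CfsgLib.Mob12 CfsgLib.Mob13 CfsgLib.Mob14 CfsgLib.Mob15 CfsgLib.Mob16 CfsgLib.Mob17 CfsgLib.Mob18 CfsgLib.Mob19 CfsgLib.Mob20 CfsgLib.Mob21 CfsgLib.Mob22

universe u v w

theorem solvable_of_comm_comm {G : Type u} [Group G] (N : Subgroup G) (h1 : ∀ a b : G, a * b * a⁻¹ * b⁻¹ ∈ N)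
    (h2 : ∀ a ∈ N, ∀ b ∈ N, a * b = b * a) : Group.IsSolvable G := by
  refine ⟨2, ?_⟩
  rw [derivedSeries_succ, derivedSeries_one, eq_bot_iff, Subgroup.commutator_le]
  have h3 : commutator G ≤ N := by
    rw [commutator_def, Subgroup.commutator_le]
    intro a _ b _
    exact h1 a b
  intro a ha b hb
  rw [Subgroup.mem_bot, commutatorElement_eq_one_iff_mul_comm]
  exact h2 a (h3 ha) b (h3 hb)

theorem solvable_dihedral (n : ℕ) : Group.IsSolvable (DihedralGroup n) := by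
  let N : Subgroup (DihedralGroup n) :=
    { carrier := {g | ∃ i, g = DihedralGroup.r i}
      mul_mem' := by
        rintro _ _ ⟨i, rfl⟩ ⟨j, rfl⟩
        exact ⟨i + j, DihedralGroup.r_mul_r i j⟩
      one_mem' := ⟨0, rfl⟩
      inv_mem' := by
        rintro _ ⟨i, rfl⟩
        exact ⟨-i, by simp⟩ }
  apply solvable_of_comm_comm N
  · rintro (i | i) (j | j)
    · exact ⟨_, by simp; rfl⟩
    · exact ⟨_, by simp; rfl⟩
    · exact ⟨_, by simp; rfl⟩
    · exact ⟨_, by simp; rfl⟩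
  · rintro _ ⟨i, rfl⟩ _ ⟨j, rfl⟩
    rw [DihedralGroup.r_mul_r, DihedralGroup.r_mul_r, add_comm]

set_option maxRecDepth 10000 in
theorem solvable_a4 : Group.IsSolvable (alternatingGroup (Fin 4)) := by
  let N : Subgroup (alternatingGroup (Fin 4)) :=
    { carrier := {g | g * g = 1}
      mul_mem' := by
        intro a b ha hb
        have : ∀ a b : alternatingGroup (Fin 4), a * a = 1 → b * b = 1 → a * b * (a * b) = 1 := by decide
        exact this a b ha hb
      one_mem' := by simp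
      inv_mem' := by
        intro a ha
        have h1 : a * a = 1 := ha
        change a⁻¹ * a⁻¹ = 1
        rw [← _root_.mul_inv_rev, h1, inv_one] }
  apply solvable_of_comm_comm N
  · intro a b
    have : ∀ a b : alternatingGroup (Fin 4), a * b * a⁻¹ * b⁻¹ * (a * b * a⁻¹ * b⁻¹) = 1 := by decide
    exact this a b
  · intro a ha b hb
    have : ∀ a b : alternatingGroup (Fin 4), a * a = 1 → b * b = 1 → a * b = b * a := by decide
    exact this a b ha hb

theorem solvable_s4 : Group.IsSolvable (Equiv.Perm (Fin 4)) := by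
  haveI := solvable_a4
  apply Group.isSolvable_of_ker_le_range (alternatingGroup (Fin 4)).subtype (Equiv.Perm.sign (α := Fin 4))
  rw [Subgroup.range_subtype]
  rfl

theorem solvable_of_iso {G : Type u} [Group G] {B : Type v} [Group B] (h : Group.IsSolvable B) (e : Nonempty (G ≃* B)) : Group.IsSolvable G := by
  obtain ⟨e⟩ := e
  haveI := h
  exact Group.isSolvable_of_isSolvable_injective (f := e.toMonoidHom) e.injective

theorem solvable_of_inj {G : Type u} [Group G] {B : Type v} [Group B] (h : Group.IsSolvable B) {f : G →* B} (hf : Function.Injective f) :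
    Group.IsSolvable G := by
  haveI := h
  exact Group.isSolvable_of_isSolvable_injective hf

theorem solvable_of_le {G : Type u} [Group G] {M H : Subgroup G} (h : Group.IsSolvable H) (hM : M ≤ H) : Group.IsSolvable M :=
  solvable_of_inj h (Subgroup.inclusion_injective hM)

section
variable {F : Type u} [Field F] [DecidableEq F]

theorem comm_mem_U {g h : Equiv.Perm (OnePoint F)} (hg : g ∈ mob F) (hh : h ∈ mob F) {x : OnePoint F} (h1 : g x = x) (h2 : h x = x) :
    g * h * g⁻¹ * h⁻¹ ∈ U x := by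
  obtain ⟨k, hk, hx⟩ := to_inf x
  rw [mem_U, uni_iff hk hx]
  have h3 : (k * g * k⁻¹) ∞ = ∞ := by rw [← hx, conj_apply, h1]
  have h4 : (k * h * k⁻¹) ∞ = ∞ := by rw [← hx, conj_apply, h2]
  obtain ⟨a, b, ha, hab⟩ := fix_inf ((mob F).mul_mem ((mob F).mul_mem hk hg) ((mob F).inv_mem hk)) h3
  obtain ⟨c, d, hc, hcd⟩ := fix_inf ((mob F).mul_mem ((mob F).mul_mem hk hh) ((mob F).inv_mem hk)) h4
  have h5 : k * (g * h * g⁻¹ * h⁻¹) * k⁻¹ = (k * g * k⁻¹) * (k * h * k⁻¹) * (k * g * k⁻¹)⁻¹ * (k * h * k⁻¹)⁻¹ := by group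
  rw [h5, hab, hcd, aff_inv, aff_inv, aff_mul, aff_mul, aff_mul]
  exact ⟨_, aff_congr (by field_simp) rfl⟩

/-- elements of a point stabiliser generate a soluble group -/
theorem solvable_of_fix {H : Subgroup (ProjectiveSpecialLinearGroup (Fin 2) F)} {x : OnePoint F} (h : ∀ g ∈ H, Psi F g x = x) :
    Group.IsSolvable H := by
  apply solvable_of_comm_comm (((U x).comap (Psi F)).subgroupOf H)
  · intro a b
    rw [Subgroup.mem_subgroupOf, Subgroup.mem_comap]
    simp only [Subgroup.coe_mul, Subgroup.coe_inv, map_mul, map_inv]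
    exact comm_mem_U (Psi_mem_mob F _) (Psi_mem_mob F _) (h _ a.2) (h _ b.2)
  · intro a ha b hb
    apply Subtype.ext
    apply Psi_injective F
    rw [Subgroup.coe_mul, Subgroup.coe_mul, map_mul, map_mul]
    exact U_comm ha hb

/-- subgroups of order prime to `p` of a point stabiliser are abelian -/
theorem comm_of_fix (p : ℕ) [hp : Fact p.Prime] [CharP F p] {M : Subgroup (ProjectiveSpecialLinearGroup (Fin 2) F)} {x : OnePoint F}
    (h : ∀ g ∈ M, Psi F g x = x) (hM : ¬ p ∣ Nat.card M) {a b : ProjectiveSpecialLinearGroup (Fin 2) F} (ha : a ∈ M) (hb : b ∈ M) :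
    a * b = b * a := by
  have h1 : Psi F (a * b * a⁻¹ * b⁻¹) ∈ U x := by
    rw [map_mul, map_mul, map_mul, map_inv, map_inv]
    exact comm_mem_U (Psi_mem_mob F _) (Psi_mem_mob F _) (h _ ha) (h _ hb)
  have h2 := U_pow p h1
  rw [← map_pow, ← map_one (Psi F)] at h2
  have h3 := orderOf_dvd_of_pow_eq_one (Psi_injective F h2)
  have h4 : a * b * a⁻¹ * b⁻¹ ∈ M := M.mul_mem (M.mul_mem (M.mul_mem ha hb) (M.inv_mem ha)) (M.inv_mem hb)
  rcases (Nat.dvd_prime hp.out).1 h3 with h5 | h5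
  · have := orderOf_eq_one_iff.1 h5
    calc a * b = (a * b * a⁻¹ * b⁻¹) * (b * a) := by group
      _ = b * a := by rw [this, one_mul]
  · exact absurd (ord_dvd h4 h5) hM

/-- proper subfield subgroups -/
theorem sub_data [Finite F] {H : Subgroup (ProjectiveSpecialLinearGroup (Fin 2) F)} {h : Equiv.Perm (OnePoint F)} {k : Subfield F}
    (hk : cj h (H.map (Psi F)) = sm k F ∨ cj h (H.map (Psi F)) = pm k F) :
    (Nat.gcd 2 (Nat.card k - 1) * Nat.card H = Nat.card k * (Nat.card k - 1) * (Nat.card k + 1) ∧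
      Nonempty (H ≃* ProjectiveSpecialLinearGroup (Fin 2) k)) ∨
    (Nat.card H = Nat.card k * (Nat.card k - 1) * (Nat.card k + 1) ∧ Nonempty (H ≃* ProjGenLinGroup (Fin 2) k)) := by
  rcases hk with hk | hk
  · left
    obtain ⟨e⟩ := iso_of_conj hk
    obtain ⟨f⟩ := sm_iso (k := k) (F := F)
    refine ⟨?_, ⟨e.trans f⟩⟩
    rw [Nat.card_congr (e.trans f).toEquiv]
    exact card_PSL k
  · right
    obtain ⟨e⟩ := iso_of_conj hk
    obtain ⟨f⟩ := pm_iso (k := k) (F := F)
    refine ⟨?_, ⟨e.trans f⟩⟩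
    rw [Nat.card_congr (e.trans f).toEquiv]
    exact card_PGL k

theorem sub_ne_top [Finite F] {H : Subgroup (ProjectiveSpecialLinearGroup (Fin 2) F)} (hH : H ≠ ⊤) {h : Equiv.Perm (OnePoint F)} {k : Subfield F}
    (hk : cj h (H.map (Psi F)) = sm k F ∨ cj h (H.map (Psi F)) = pm k F) :
    ∃ m, 2 ≤ m ∧ Nat.card k ^ m = Nat.card F := by
  classical
  haveI : Fintype F := Fintype.ofFinite F
  obtain ⟨m, hm⟩ := card_subfield k
  rw [← Nat.card_eq_fintype_card] at hm
  refine ⟨m, ?_, hm⟩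
  by_contra hlt
  have hq : 1 < Nat.card F := Finite.one_lt_card
  have hm1 : m = 1 := by
    have : m ≠ 0 := by rintro rfl; rw [pow_zero] at hm; omega
    omega
  rw [hm1, pow_one] at hm
  apply hH
  apply Subgroup.eq_top_of_le_card
  have h3 := card_PSL F
  have hd : 1 ≤ Nat.gcd 2 (Nat.card F - 1) := Nat.gcd_pos_of_pos_left _ (by norm_num)
  rcases sub_data hk with h1 | h1
  · rw [hm, ← h3] at h1
    exact le_of_eq (Nat.eq_of_mul_eq_mul_left hd h1.1).symm
  · rw [hm, ← h3] at h1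
    rw [h1.1]
    exact Nat.le_mul_of_pos_left _ hd

/-- the list for proper subgroups, with orders -/
theorem list_ord [Finite F] (p : ℕ) [hp : Fact p.Prime] [CharP F p] {H : Subgroup (ProjectiveSpecialLinearGroup (Fin 2) F)} (hH : H ≠ ⊤) :
    (∃ x, (∀ g ∈ H, Psi F g x = x) ∧ p ∣ Nat.card H ∧ Nat.gcd 2 (Nat.card F - 1) * Nat.card H ∣ Nat.card F * (Nat.card F - 1)) ∨
    (IsCyclic H ∧ ¬ p ∣ Nat.card H ∧ (Nat.card H ∣ (Nat.card F + 1) / Nat.gcd 2 (Nat.card F - 1) ∨ Nat.card H ∣ (Nat.card F - 1) / Nat.gcd 2 (Nat.card F - 1))) ∨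
    (∃ n, ¬ p ∣ n ∧ Nonempty (H ≃* DihedralGroup n) ∧ Nat.card H = 2 * n ∧
      (n ∣ (Nat.card F + 1) / Nat.gcd 2 (Nat.card F - 1) ∨ n ∣ (Nat.card F - 1) / Nat.gcd 2 (Nat.card F - 1))) ∨
    (Nat.card H = 12 ∧ ¬ p ∣ 12 ∧ Nonempty (H ≃* alternatingGroup (Fin 4))) ∨
    (Nat.card H = 24 ∧ ¬ p ∣ 24 ∧ Nonempty (H ≃* Equiv.Perm (Fin 4))) ∨
    (Nat.card H = 60 ∧ (p = 3 ∨ ¬ p ∣ 60) ∧ Nonempty (H ≃* alternatingGroup (Fin 5))) ∨
    (∃ (k : Subfield F) (m : ℕ), 2 ≤ m ∧ Nat.card k ^ m = Nat.card F ∧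
      ((Nat.gcd 2 (Nat.card k - 1) * Nat.card H = Nat.card k * (Nat.card k - 1) * (Nat.card k + 1) ∧
        Nonempty (H ≃* ProjectiveSpecialLinearGroup (Fin 2) k)) ∨
      (Nat.card H = Nat.card k * (Nat.card k - 1) * (Nat.card k + 1) ∧ Nonempty (H ≃* ProjGenLinGroup (Fin 2) k)))) := by
  classical
  haveI : Fintype F := Fintype.ofFinite F
  have hord : ∀ g : ProjectiveSpecialLinearGroup (Fin 2) F, ¬ p ∣ orderOf g →
      (orderOf g ∣ (Nat.card F + 1) / Nat.gcd 2 (Nat.card F - 1) ∨ orderOf g ∣ (Nat.card F - 1) / Nat.gcd 2 (Nat.card F - 1)) := by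
    intro g hg
    have := psl_order p g hg
    rwa [← Nat.card_eq_fintype_card] at this
  rcases list_geo p H with h | h | h | h | h | h | h
  · left
    obtain ⟨x, hx, hfix⟩ := h
    exact ⟨x, hfix, UU_dvd p hx, fix_dvd p hfix⟩
  · right; left
    refine ⟨h.1, h.2, ?_⟩
    obtain ⟨g, hg⟩ := isCyclic_iff_exists_orderOf_eq_natCard.1 h.1
    rw [← hg, ← Subgroup.orderOf_coe]
    apply hord
    rw [Subgroup.orderOf_coe, hg]
    exact h.2
  · right; right; left
    obtain ⟨g, hg, hpg, ⟨e⟩⟩ := h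
    refine ⟨orderOf g, hpg, ⟨e⟩, ?_, hord g hpg⟩
    rw [Nat.card_congr e.toEquiv, DihedralGroup.nat_card]
  · right; right; right; left; exact h
  · right; right; right; right; left; exact h
  · right; right; right; right; right; left; exact h
  · right; right; right; right; right; right
    obtain ⟨t, -, k, hk⟩ := h
    obtain ⟨m, hm, hc⟩ := sub_ne_top hH hk
    exact ⟨k, m, hm, hc, sub_data hk⟩

end

end CfsgLib.Mob23
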