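import Mathlib
import Cfsg.Agent.Lib.Mob23

set_option autoImplicit false
set_option maxHeartbeats 400000

/-! Arithmetic for Dickson's list; minimal index, minimal simplicity. -/
namespace CfsgLib.Mob24

open OnePoint Matrix CfsgLib.Mob3 CfsgLib.Mob4 CfsgLib.Mob5 CfsgLib.Mob10 CfsgLib.Mob12 CfsgLib.Mob13 CfsgLib.Mob14 CfsgLib.Mob15 CfsgLib.Mob16 CfsgLib.Mob17 CfsgLib.Mob18 CfsgLib.Mob19 CfsgLib.Mob20 CfsgLib.Mob21 CfsgLib.Mob22 CfsgLib.Mob23

universe u v w

theorem gcd_two_even {q : ℕ} (h : Even q) (h1 : 1 < q) : Nat.gcd 2 (q - 1) = 1 := by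
  apply Nat.Coprime.symm
  rw [Nat.coprime_two_right]
  obtain ⟨c, hc⟩ := h
  exact ⟨c - 1, by omega⟩

theorem gcd_two_odd {q : ℕ} (h : Odd q) : Nat.gcd 2 (q - 1) = 2 := by
  apply Nat.gcd_eq_left
  obtain ⟨c, hc⟩ := h
  exact ⟨c, by omega⟩

theorem cub {c N : ℕ} (hN : c * (c - 1) * (c + 1) = N) (hc : 3 ≤ c) : 24 ≤ N := by
  rw [← hN]
  calc 24 = 3 * 2 * 4 := by norm_num
    _ ≤ c * (c - 1) * (c + 1) := by gcongr <;> omega

theorem cub_mono {a b : ℕ} (h : a ≤ b) : a * (a - 1) * (a + 1) ≤ b * (b - 1) * (b + 1) := by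
  gcongr <;> omega

theorem card_a4 : Nat.card (alternatingGroup (Fin 4)) = 12 := by
  rw [nat_card_alternatingGroup]; simp [Nat.factorial]

theorem card_a5 : Nat.card (alternatingGroup (Fin 5)) = 60 := by
  rw [nat_card_alternatingGroup]; simp [Nat.factorial]

theorem card_s4 : Nat.card (Equiv.Perm (Fin 4)) = 24 := by
  rw [Nat.card_perm]; simp [Nat.factorial]

/-- `q` as a prime power -/
theorem exists_pn (F : Type u) [Field F] [Finite F] : ∃ p n : ℕ, ∃ _ : Fact p.Prime, ∃ _ : CharP F p, n ≠ 0 ∧ Nat.card F = p ^ n := by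
  obtain ⟨p, hpc⟩ := CharP.exists F
  haveI : Fintype F := Fintype.ofFinite F
  obtain ⟨n, hpp, hn⟩ := FiniteField.card F p
  exact ⟨p, n, ⟨hpp⟩, hpc, n.2.ne', by rw [Nat.card_eq_fintype_card, hn]⟩

theorem char_sub {F : Type u} [Field F] (p : ℕ) [CharP F p] (k : Subfield F) : CharP k p :=
  (RingHom.charP_iff k.subtype k.subtype.injective p).2 inferInstance

/-- parity of `q` -/
theorem even_of_two {F : Type u} [Field F] [Finite F] [CharP F 2] : Even (Nat.card F) := by
  haveI : Fact (Nat.Prime 2) := ⟨Nat.prime_two⟩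
  obtain ⟨n, hn, h⟩ := card_eq (F := F) 2
  rw [h]
  exact even_two.pow_of_ne_zero hn

theorem odd_of_ne_two {F : Type u} [Field F] [Finite F] (p : ℕ) [hp : Fact p.Prime] [CharP F p] (hp2 : p ≠ 2) : Odd (Nat.card F) := by
  obtain ⟨n, hn, h⟩ := card_eq (F := F) p
  rw [h]
  exact (hp.out.odd_of_ne_two hp2).pow

theorem a4_even {F : Type u} [Field F] [Finite F] [CharP F 2] {n : ℕ} (hF : Nat.card F = 2 ^ n) (hn : Odd n)
    (H : Subgroup (ProjectiveSpecialLinearGroup (Fin 2) F)) (e : Nonempty (H ≃* alternatingGroup (Fin 4))) : False := by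
  classical
  haveI : Fact (Nat.Prime 2) := ⟨Nat.prime_two⟩
  obtain ⟨e⟩ := e
  have hq1 : 1 < Nat.card F := Finite.one_lt_card
  have hcard : Nat.card H = 12 := by rw [Nat.card_congr e.toEquiv, card_a4]
  have hnc : NC3 H := nc3_a4.of_inj e.symm.toMonoidHom e.symm.injective
  have hmod : 2 ^ n % 3 = 2 := by
    obtain ⟨k, rfl⟩ := hn
    rw [pow_add, pow_mul, Nat.mul_mod, Nat.pow_mod]; norm_num
  have hq3 : Nat.card F % 3 = 2 := by rw [hF, hmod]
  have hgcd : Nat.gcd 2 (Nat.card F - 1) = 1 := gcd_two_even even_of_two hq1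
  have hG := card_PSL F
  rw [hgcd, one_mul] at hG
  have hne : H ≠ ⊤ := by
    rintro rfl
    rw [Subgroup.card_top] at hcard
    rw [hcard] at hG
    by_cases h3 : 3 ≤ Nat.card F
    · have := cub hG.symm h3
      omega
    · have : Nat.card F = 2 := by omega
      rw [this] at hG
      norm_num at hG
  rcases list_ord 2 hne with h | h | h | h | h | h | h
  · obtain ⟨x, _, _, h3⟩ := h
    rw [hcard, hgcd, one_mul] at h3
    have h4 : 3 ∣ Nat.card F * (Nat.card F - 1) := dvd_trans (by norm_num) h3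
    rcases (Nat.Prime.dvd_mul Nat.prime_three).1 h4 with h5 | h5 <;> omega
  · exact hnc.not_cyclic h.1
  · obtain ⟨m, _, e, _⟩ := h
    exact hnc.not_dihedral e
  · exact h.2.1 (by norm_num)
  · exact h.2.1 (by norm_num)
  · rcases h.2.1 with h | h
    · norm_num at h
    · exact h (by norm_num)
  · obtain ⟨k, m, hm, hk, h⟩ := h
    haveI := char_sub 2 k
    rw [gcd_two_even even_of_two Finite.one_lt_card, hcard] at h
    have h5 : Nat.card k * (Nat.card k - 1) * (Nat.card k + 1) = 12 := by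
      rcases h with h | h
      · rw [← h.1]
      · rw [← h.1]
    have h1 : 1 < Nat.card k := Finite.one_lt_card
    by_cases h3 : 3 ≤ Nat.card k
    · have := cub h5 h3
      omega
    · have : Nat.card k = 2 := by omega
      rw [this] at h5
      norm_num at h5

/-- Galois: minimal index -/
theorem min_index {F : Type u} [Field F] [Finite F] (hq : Nat.card F ∉ ({2, 3, 5, 7, 9, 11} : Finset ℕ))
    {H : Subgroup (ProjectiveSpecialLinearGroup (Fin 2) F)} (hH : H ≠ ⊤) : Nat.card F + 1 ≤ H.index := by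
  classical
  obtain ⟨p, n, _, _, hn, hpn⟩ := exists_pn F
  have hq1 : 1 < Nat.card F := Finite.one_lt_card
  simp only [Finset.mem_insert, Finset.mem_singleton, not_or] at hq
  have hq4 : 4 ≤ Nat.card F := by omega
  have hd : Nat.gcd 2 (Nat.card F - 1) ≤ 2 := Nat.le_of_dvd (by norm_num) (Nat.gcd_dvd_left _ _)
  have hd1 : 1 ≤ Nat.gcd 2 (Nat.card F - 1) := Nat.gcd_pos_of_pos_left _ (by norm_num)
  have hsq : 2 * (Nat.card F + 1) ≤ Nat.card F * (Nat.card F - 1) := by
    obtain ⟨r, hr⟩ : ∃ r, Nat.card F = r + 4 := ⟨Nat.card F - 4, by omega⟩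
    rw [hr, show r + 4 - 1 = r + 3 by omega]
    nlinarith
  -- it suffices to bound the order
  have key : Nat.gcd 2 (Nat.card F - 1) * Nat.card H ≤ Nat.card F * (Nat.card F - 1) → Nat.card F + 1 ≤ H.index := by
    intro h
    have h1 := card_PSL F
    rw [← H.card_mul_index, ← mul_assoc] at h1
    by_contra hlt
    have h2 : H.index < Nat.card F + 1 := by omega
    have h3 : Nat.gcd 2 (Nat.card F - 1) * Nat.card H * H.index ≤ Nat.card F * (Nat.card F - 1) * H.index := Nat.mul_le_mul_right _ h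
    have h4 : Nat.card F * (Nat.card F - 1) * H.index < Nat.card F * (Nat.card F - 1) * (Nat.card F + 1) :=
      Nat.mul_lt_mul_of_pos_left h2 (by omega)
    omega
  apply key
  have hodd : ∀ {c : ℕ}, c ∣ 60 → (c = 3 ∨ ¬ p ∣ c) → p ≠ 2 → True := fun _ _ _ => trivial
  have hsmall : (p = 3 ∨ ¬ p ∣ 12) → (p = 3 ∨ 5 ≤ p) := by
    intro h
    rcases h with h | h
    · exact Or.inl h
    · right
      have h2 := (Fact.out : p.Prime).two_le
      by_contra hlt
      have : p = 2 ∨ p = 3 ∨ p = 4 := by omega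
      rcases this with rfl | rfl | rfl <;> exact h (by norm_num)
  have h13 : p ≠ 2 → 13 ≤ Nat.card F := by
    intro hp2
    have ho := odd_of_ne_two (F := F) p hp2
    obtain ⟨c, hc⟩ := ho
    omega
  have hbig : p ≠ 2 → 2 * 60 ≤ Nat.card F * (Nat.card F - 1) := by
    intro hp2
    have := h13 hp2
    calc 2 * 60 ≤ 13 * 12 := by norm_num
      _ ≤ _ := by gcongr <;> omega
  rcases list_ord p hH with h | h | h | h | h | h | h
  · obtain ⟨x, _, _, h3⟩ := h
    exact Nat.le_of_dvd (Nat.mul_pos (by omega) (by omega)) h3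
  · obtain ⟨_, _, h⟩ := h
    rcases h with h | h
    · have h1 := Nat.le_of_dvd (Nat.div_pos (by omega) (by omega)) h
      have h2 := Nat.mul_le_mul_left (Nat.gcd 2 (Nat.card F - 1)) h1
      have h3 := Nat.mul_div_le (Nat.card F + 1) (Nat.gcd 2 (Nat.card F - 1))
      omega
    · have h1 := Nat.le_of_dvd (Nat.div_pos (by omega) (by omega)) h
      have h2 := Nat.mul_le_mul_left (Nat.gcd 2 (Nat.card F - 1)) h1
      have h3 := Nat.mul_div_le (Nat.card F - 1) (Nat.gcd 2 (Nat.card F - 1))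
      omega
  · obtain ⟨n, _, _, hc, h⟩ := h
    rw [hc]
    rcases h with h | h
    · have h1 := Nat.le_of_dvd (Nat.div_pos (by omega) (by omega)) h
      have h2 := Nat.mul_le_mul_left (Nat.gcd 2 (Nat.card F - 1)) h1
      have h3 := Nat.mul_div_le (Nat.card F + 1) (Nat.gcd 2 (Nat.card F - 1))
      have h4 : Nat.gcd 2 (Nat.card F - 1) * (2 * n) = 2 * (Nat.gcd 2 (Nat.card F - 1) * n) := by ring
      omega
    · have h1 := Nat.le_of_dvd (Nat.div_pos (by omega) (by omega)) h
      have h2 := Nat.mul_le_mul_left (Nat.gcd 2 (Nat.card F - 1)) h1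
      have h3 := Nat.mul_div_le (Nat.card F - 1) (Nat.gcd 2 (Nat.card F - 1))
      have h4 : Nat.gcd 2 (Nat.card F - 1) * (2 * n) = 2 * (Nat.gcd 2 (Nat.card F - 1) * n) := by ring
      omega
  · have := hbig (by rintro rfl; exact h.2.1 (by norm_num))
    rw [h.1]
    calc _ ≤ 2 * 12 := Nat.mul_le_mul_right _ hd
      _ ≤ _ := by omega
  · have := hbig (by rintro rfl; exact h.2.1 (by norm_num))
    rw [h.1]
    calc _ ≤ 2 * 24 := Nat.mul_le_mul_right _ hd
      _ ≤ _ := by omega
  · have := hbig (by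
      rintro rfl
      rcases h.2.1 with h | h
      · norm_num at h
      · exact h (by norm_num))
    rw [h.1]
    calc _ ≤ 2 * 60 := Nat.mul_le_mul_right _ hd
      _ ≤ _ := by omega
  · obtain ⟨k, m, hm, hk, h⟩ := h
    have h1 : 1 < Nat.card k := Finite.one_lt_card
    have h2 : Nat.card k * Nat.card k ≤ Nat.card F := by
      rw [← hk, ← pow_two]
      exact Nat.pow_le_pow_right (by omega) hm
    have h3 : Nat.gcd 2 (Nat.card F - 1) * Nat.card H ≤ 2 * (Nat.card k * (Nat.card k - 1) * (Nat.card k + 1)) := by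
      have h4 : Nat.card H ≤ Nat.card k * (Nat.card k - 1) * (Nat.card k + 1) := by
        rcases h with h | h
        · rw [← h.1]
          exact Nat.le_mul_of_pos_left _ (Nat.gcd_pos_of_pos_left _ (by norm_num))
        · exact h.1.le
      exact Nat.mul_le_mul hd h4
    refine h3.trans ?_
    obtain ⟨r, hr⟩ : ∃ r, Nat.card k = r + 2 := ⟨Nat.card k - 2, by omega⟩
    rw [hr] at h2 ⊢
    calc 2 * ((r + 2) * (r + 2 - 1) * (r + 2 + 1)) ≤ ((r + 2) * (r + 2)) * ((r + 2) * (r + 2) - 1) := by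
          rw [show r + 2 - 1 = r + 1 by omega, show (r + 2) * (r + 2) - 1 = (r + 1) * (r + 3) by
            rw [Nat.sub_eq_iff_eq_add (by nlinarith)]; ring]
          have : 2 * ((r + 2) * (r + 1) * (r + 2 + 1)) = (r + 1) * (r + 3) * ((r + 2) * 2) := by ring
          rw [this]
          have : (r + 2) * (r + 2) * ((r + 1) * (r + 3)) = (r + 1) * (r + 3) * ((r + 2) * (r + 2)) := by ring
          rw [this]
          gcongr
          omega
      _ ≤ _ := by gcongr

end CfsgLib.Mob24
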