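import Mathlib
import Cfsg.Agent.Lib.Mob24
import Cfsg.Prelude.Def_CaseTheorems

set_option autoImplicit false
set_option maxHeartbeats 400000

/-! Maximal subgroups of `PSL(2,q)`: `S4`, `A5`, `A4`, subfield subgroups; minimal simple `PSL(2,q)`. -/
namespace CfsgLib.Mob25

open OnePoint Matrix CfsgLib.Mob3 CfsgLib.Mob4 CfsgLib.Mob5 CfsgLib.Mob10 CfsgLib.Mob12 CfsgLib.Mob13 CfsgLib.Mob14 CfsgLib.Mob15 CfsgLib.Mob16 CfsgLib.Mob17 CfsgLib.Mob18 CfsgLib.Mob19 CfsgLib.Mob20 CfsgLib.Mob21 CfsgLib.Mob22 CfsgLib.Mob23 CfsgLib.Mob24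

universe u v w

theorem coatom_of {G : Type u} [Group G] [Finite G] {M : Subgroup G} (hM : M ≠ ⊤)
    (h : ∀ H : Subgroup G, H ≠ ⊤ → M ≤ H → Nat.card H ≤ Nat.card M) : IsCoatom M := by
  refine ⟨hM, fun H hlt => ?_⟩
  by_contra hH
  have := h H hH hlt.le
  exact hlt.ne (Subgroup.eq_of_le_of_card_ge hlt.le this)

theorem lo_inf {F : Type u} [Field F] [DecidableEq F] : gm F F (Matrix.SpecialLinearGroup.toGL (lo (1 : F))) ∞ = ((1 : F) : OnePoint F) := by
  have h1 : gm F F (Matrix.SpecialLinearGroup.toGL (lo (1 : F))) = mk (1 : F) 0 1 1 (by norm_num) := by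
    rw [gm_toGL]
    apply mk_congr
    · simp [lo]
    · simp [lo]
    · simp [lo]
    · simp [lo]
  rw [h1, mk_inf]
  simp

/-- non-commuting `p`-elements -/
theorem ncp (k : Type u) [Field k] (p : ℕ) [CharP k p] :
    ∃ a b : ProjectiveSpecialLinearGroup (Fin 2) k, a ^ p = 1 ∧ b ^ p = 1 ∧ a * b ≠ b * a := by
  classical
  have hup : Psi k (QuotientGroup.mk (up (1 : k))) ∈ U ∞ := by
    rw [Psi_mk, gm_up]
    exact uni_inf.2 ⟨_, rfl⟩
  have hlo : Psi k (QuotientGroup.mk (lo (1 : k))) ^ p = 1 := by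
    rw [Psi_mk, gm_lo (1 : k) one_ne_zero]
    have h1 : aff (1 : k) (1 * algebraMap k k 1) one_ne_zero ∈ U ∞ := uni_inf.2 ⟨_, rfl⟩
    have h2 := U_pow p h1
    have h3 : iv (1 : k) one_ne_zero * aff (1 : k) (1 * algebraMap k k 1) one_ne_zero * iv (1 : k) one_ne_zero =
        iv (1 : k) one_ne_zero * aff (1 : k) (1 * algebraMap k k 1) one_ne_zero * (iv (1 : k) one_ne_zero)⁻¹ := by
      rw [inv_eq_of_mul_eq_one_right (iv_mul_self (1 : k) one_ne_zero)]
    rw [h3, ← conj_pow', h2, mul_one, mul_inv_cancel]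
  refine ⟨QuotientGroup.mk (up 1), QuotientGroup.mk (lo 1), ?_, ?_, ?_⟩
  · apply Psi_injective k
    rw [map_pow, map_one]
    exact U_pow p hup
  · apply Psi_injective k
    rw [map_pow, map_one]
    exact hlo
  · intro h
    have h1 : Commute (Psi k (QuotientGroup.mk (up (1 : k)))) (Psi k (QuotientGroup.mk (lo (1 : k)))) := by
      change _ * _ = _ * _
      rw [← map_mul, h, map_mul]
    have h2 : Psi k (QuotientGroup.mk (up (1 : k))) ≠ 1 := by
      rw [Psi_mk, gm_up, ← aff_one]
      intro h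
      have := (aff_inj h).2
      rw [map_one] at this
      exact one_ne_zero this
    have h3 := fix_of_comm hup h2 h1
    rw [Psi_mk, lo_inf] at h3
    exact (OnePoint.coe_ne_infty _) h3

theorem psl_not_solvable (k : Type u) [Field k] (h : 4 ≤ Nat.card k) : ¬ Group.IsSolvable (ProjectiveSpecialLinearGroup (Fin 2) k) := by
  intro hs
  haveI := Matrix.ProjectiveSpecialLinearGroup.rank_two_simple (F := k) h
  have h1 := IsSimpleGroup.comm_iff_isSolvable.2 hs
  obtain ⟨p, hp⟩ := CharP.exists k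
  obtain ⟨a, b, -, -, hab⟩ := ncp k p
  exact hab (h1 a b)

theorem a5_not_solvable : ¬ Group.IsSolvable (alternatingGroup (Fin 5)) := by
  intro hs
  have h1 := IsSimpleGroup.comm_iff_isSolvable.2 hs
  obtain ⟨a, b, -, -, hab⟩ := nc3_a5
  exact hab (h1 a b)

theorem not_solvable_of_inj {G : Type u} [Group G] {B : Type v} [Group B] (h : ¬ Group.IsSolvable G) {f : G →* B} (hf : Function.Injective f) :
    ¬ Group.IsSolvable B := fun hB => h (solvable_of_inj hB hf)

theorem perm_solvable {X : Type u} [Finite X] (h : Nat.card X ≤ 4) : Group.IsSolvable (Equiv.Perm X) := by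
  classical
  haveI : Fintype X := Fintype.ofFinite X
  rw [Nat.card_eq_fintype_card] at h
  obtain ⟨f⟩ : Nonempty (X ↪ Fin 4) := Function.Embedding.nonempty_of_card_le (by simpa using h)
  exact solvable_of_inj solvable_s4 (Equiv.Perm.viaEmbeddingHom_injective f)

theorem psl_solvable (k : Type u) [Field k] [Finite k] (h : Nat.card k ≤ 3) : Group.IsSolvable (ProjectiveSpecialLinearGroup (Fin 2) k) := by
  classical
  haveI : Finite (OnePoint k) := inferInstanceAs (Finite (Option k))
  exact solvable_of_inj (perm_solvable (X := OnePoint k) (by rw [card_onePoint]; omega)) (Psi_injective k)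

theorem pgl_solvable (k : Type u) [Field k] [Finite k] (h : Nat.card k ≤ 3) : Group.IsSolvable (ProjGenLinGroup (Fin 2) k) := by
  classical
  haveI : Finite (OnePoint k) := inferInstanceAs (Finite (Option k))
  obtain ⟨e⟩ := pm_iso (k := k) (F := k)
  refine solvable_of_iso ?_ ⟨e.symm⟩
  exact solvable_of_inj (perm_solvable (X := OnePoint k) (by rw [card_onePoint]; omega)) (f := (pm k k).subtype) Subtype.val_injective

/-- a group of order 60 -/
theorem card_ne_of {F : Type u} [Field F] [Finite F] {N : ℕ} (hN : 2 * N < Nat.card F * (Nat.card F - 1) * (Nat.card F + 1)) :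
    Nat.card (ProjectiveSpecialLinearGroup (Fin 2) F) ≠ N := by
  intro h
  have h1 := card_PSL F
  have h2 : Nat.gcd 2 (Nat.card F - 1) ≤ 2 := Nat.le_of_dvd (by norm_num) (Nat.gcd_dvd_left _ _)
  rw [h] at h1
  have := Nat.mul_le_mul_right N h2
  omega

theorem ne_top_of_card {F : Type u} [Field F] [Finite F] {N : ℕ} (hN : 2 * N < Nat.card F * (Nat.card F - 1) * (Nat.card F + 1))
    {H : Subgroup (ProjectiveSpecialLinearGroup (Fin 2) F)} (hH : Nat.card H ≤ N) : H ≠ ⊤ := by
  rintro rfl
  rw [Subgroup.card_top] at hH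
  have h1 := card_PSL F
  have h2 : Nat.gcd 2 (Nat.card F - 1) ≤ 2 := Nat.le_of_dvd (by norm_num) (Nat.gcd_dvd_left _ _)
  have := Nat.mul_le_mul h2 hH
  omega

theorem cub_sq {c q : ℕ} (hc : 2 ≤ c) (h : c * c ≤ q) : 2 * (c * (c - 1) * (c + 1)) < q * (q - 1) * (q + 1) := by
  have h1 := cub_mono h
  refine lt_of_lt_of_le ?_ h1
  obtain ⟨r, rfl⟩ : ∃ r, c = r + 2 := ⟨c - 2, by omega⟩
  have h2 : (r + 2) * (r + 2) - 1 = (r + 1) * (r + 3) := by
    rw [Nat.sub_eq_iff_eq_add (by nlinarith)]; ring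
  rw [h2, show r + 2 - 1 = r + 1 by omega]
  have h3 : (r + 2) * (r + 2) * ((r + 1) * (r + 3)) * ((r + 2) * (r + 2) + 1) = (r + 2) * (r + 1) * (r + 3) * ((r + 2) * ((r + 2) * (r + 2) + 1)) := by ring
  rw [h3]
  have h4 : 2 * ((r + 2) * (r + 1) * (r + 2 + 1)) = (r + 2) * (r + 1) * (r + 3) * 2 := by ring
  rw [h4]
  apply Nat.mul_lt_mul_of_pos_left _ (by positivity)
  nlinarith [Nat.zero_le r]

theorem psl_card_le (k : Type u) [Field k] [Finite k] :
    Nat.card (ProjectiveSpecialLinearGroup (Fin 2) k) ≤ Nat.card k * (Nat.card k - 1) * (Nat.card k + 1) := by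
  rw [← card_PSL k]
  exact Nat.le_mul_of_pos_left _ (Nat.gcd_pos_of_pos_left _ (by norm_num))

/-- a subfield of order at least four excludes minimal simplicity -/
theorem not_minimal_sub {F : Type u} [Field F] [Finite F] (hF : Cfsg.IsMinimalSimple (ProjectiveSpecialLinearGroup (Fin 2) F))
    {k : Type v} [Field k] [Finite k] {m : ℕ} (hm : 2 ≤ m) (h : Nat.card k ^ m = Nat.card F) : Nat.card k ≤ 3 := by
  by_contra hlt
  obtain ⟨H, ⟨e⟩⟩ := psl_embeds h
  have h1 : 2 ≤ Nat.card k := by omega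
  have h2 : Nat.card k * Nat.card k ≤ Nat.card F := by
    rw [← h, ← pow_two]
    exact Nat.pow_le_pow_right (by omega) hm
  have h3 : H ≠ ⊤ := ne_top_of_card (cub_sq h1 h2) (by rw [Nat.card_congr e.toEquiv]; exact psl_card_le k)
  have h4 := hF.2.2 H h3
  exact psl_not_solvable k (by omega) (solvable_of_iso h4 ⟨e.symm⟩)

theorem not_minimal_a5 {F : Type u} [Field F] [Finite F] (hF : Cfsg.IsMinimalSimple (ProjectiveSpecialLinearGroup (Fin 2) F))
    (h : 7 ≤ Nat.card F) : ¬ 5 ∣ Nat.card F * (Nat.card F ^ 2 - 1) := by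
  intro h5
  obtain ⟨p, n, _, _, -, -⟩ := exists_pn F
  obtain ⟨H, ⟨e⟩⟩ := (a5_iff (F := F)).2 h5
  have h1 := cub_mono h
  have h3 : H ≠ ⊤ := ne_top_of_card (N := 60) (by omega) (by rw [Nat.card_congr e.toEquiv, card_a5])
  exact a5_not_solvable (solvable_of_iso (hF.2.2 H h3) ⟨e.symm⟩)

theorem minimal_of {F : Type u} [Field F] [Finite F] (p : ℕ) [hp : Fact p.Prime] [CharP F p] (hq : 4 ≤ Nat.card F)
    (h5 : (p = 3 ∨ ¬ p ∣ 60) → ¬ 5 ∣ Nat.card F * (Nat.card F ^ 2 - 1))
    (hs : ∀ c m, 2 ≤ m → c ^ m = Nat.card F → c ≤ 3) : Cfsg.IsMinimalSimple (ProjectiveSpecialLinearGroup (Fin 2) F) := by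
  classical
  refine ⟨Matrix.ProjectiveSpecialLinearGroup.rank_two_simple hq, ?_, ?_⟩
  · intro h
    obtain ⟨a, b, -, -, hab⟩ := ncp F p
    exact hab (h.is_comm.comm a b)
  · intro H hH
    rcases list_ord p hH with h | h | h | h | h | h | h
    · obtain ⟨x, hx, _⟩ := h
      exact solvable_of_fix hx
    · haveI := h.1
      exact Group.isSolvable_of_comm (fun a b => h.1.commutative.is_comm.comm a b)
    · obtain ⟨n, _, e, _⟩ := h
      exact solvable_of_iso (solvable_dihedral n) e
    · exact solvable_of_iso solvable_a4 h.2.2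
    · exact solvable_of_iso solvable_s4 h.2.2
    · exfalso
      apply h5 h.2.1
      exact (a5_iff (F := F)).1 ⟨H, h.2.2⟩
    · obtain ⟨k, m, hm, hk, h⟩ := h
      have hk3 := hs _ m hm hk
      rcases h with h | h
      · exact solvable_of_iso (psl_solvable k hk3) h.2
      · exact solvable_of_iso (pgl_solvable k hk3) h.2

theorem card_eq_of_pow {F : Type u} [Field F] [Finite F] {p r : ℕ} (hp : p.Prime) (h : Nat.card F = p ^ r) : CharP F p := by
  obtain ⟨p', n, hp', hc, hn, hpn⟩ := exists_pn F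
  have h1 : p' ∣ p ^ r := by rw [← h, hpn]; exact dvd_pow_self _ hn
  have h2 := (Nat.prime_dvd_prime_iff_eq hp'.out hp).1 (hp'.out.dvd_of_dvd_pow h1)
  subst h2
  exact hc

/-- minimal simple `PSL(2,q)` -/
theorem minimal_iff {F : Type u} [Field F] [Finite F] : Cfsg.IsMinimalSimple (ProjectiveSpecialLinearGroup (Fin 2) F) ↔
    ((∃ r : ℕ, r.Prime ∧ Nat.card F = 2 ^ r) ∨ (∃ r : ℕ, r.Prime ∧ r ≠ 2 ∧ Nat.card F = 3 ^ r) ∨
      ((Nat.card F).Prime ∧ 5 < Nat.card F ∧ (Nat.card F % 5 = 2 ∨ Nat.card F % 5 = 3)) ∨ Nat.card F = 5) := by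
  have hcm : ∀ {p r c m : ℕ}, p.Prime → r.Prime → 2 ≤ m → c ^ m = p ^ r → c = p := by
    intro p r c m hp hr hm h
    have h1 : c ∣ p ^ r := by rw [← h]; exact dvd_pow_self _ (by omega)
    obtain ⟨s, -, hs⟩ := (Nat.dvd_prime_pow hp).1 h1
    rw [hs, ← pow_mul] at h
    have h2 := Nat.pow_right_injective hp.two_le h
    rw [← h2] at hr
    have h3 := Nat.Prime.eq_one_or_self_of_dvd hr m (dvd_mul_left m s)
    rcases h3 with h3 | h3
    · omega
    · have h4 : s = 1 := by
        have : 1 * m = s * m := by omega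
        exact (Nat.eq_of_mul_eq_mul_right (by omega) this).symm
      rw [hs, h4, pow_one]
  constructor
  · intro hF
    obtain ⟨p, n, hp, hc, hn, hpn⟩ := exists_pn F
    have hq4 : 4 ≤ Nat.card F := by
      by_contra hlt
      have h1 := psl_solvable F (by omega)
      haveI := hF.1
      apply hF.2.1
      exact ⟨⟨IsSimpleGroup.comm_iff_isSolvable.2 h1⟩⟩
    have hgal : ∀ m r, m ≠ 0 → 2 ≤ r → p ^ (m * r) = Nat.card F → p ^ m ≤ 3 := by
      intro m r hm hr h
      haveI : Finite (GaloisField p m) := inferInstance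
      have h1 := GaloisField.card p m hm
      have h2 := not_minimal_sub hF (k := GaloisField p m) (m := r) hr (by rw [h1, ← pow_mul, h])
      rwa [h1] at h2
    by_cases hn1 : n = 1
    · rw [hn1, pow_one] at hpn
      by_cases h5 : Nat.card F = 5
      · right; right; right; exact h5
      · right; right; left
        have hpr : (Nat.card F).Prime := by rw [hpn]; exact hp.out
        have h4 : Nat.card F ≠ 4 := by intro h; rw [h] at hpr; norm_num at hpr
        have h6 : Nat.card F ≠ 6 := by intro h; rw [h] at hpr; norm_num at hpr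
        refine ⟨hpr, by omega, ?_⟩
        have h7 := not_minimal_a5 hF (by omega)
        by_contra hcon
        apply h7
        have h8 : Nat.card F % 5 = 0 ∨ Nat.card F % 5 = 1 ∨ Nat.card F % 5 = 4 := by omega
        have h9 : Nat.card F ^ 2 - 1 = (Nat.card F + 1) * (Nat.card F - 1) := by
          rw [← Nat.sq_sub_sq]
        rw [h9]
        rcases h8 with h8 | h8 | h8
        · exact dvd_mul_of_dvd_left (Nat.dvd_of_mod_eq_zero h8) _
        · exact dvd_mul_of_dvd_right (dvd_mul_of_dvd_right (by omega) _) _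
        · exact dvd_mul_of_dvd_right (dvd_mul_of_dvd_left (by omega) _) _
    · obtain ⟨r, hr, m, rfl⟩ := Nat.exists_prime_and_dvd hn1
      have hm0 : m ≠ 0 := by rintro rfl; simp at hn
      have h1 := hgal m r hm0 hr.two_le (by rw [hpn, mul_comm])
      have h2 : p ≤ p ^ m := Nat.le_self_pow hm0 p
      have h3 := hp.out.two_le
      have hm1 : m = 1 := by
        by_contra hm1
        have : 2 ^ 2 ≤ p ^ m := (Nat.pow_le_pow_left h3 2).trans (Nat.pow_le_pow_right (by omega) (by omega))
        omega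
      subst hm1
      rw [mul_one] at hpn
      have h4 : p = 2 ∨ p = 3 := by omega
      rcases h4 with rfl | rfl
      · left; exact ⟨r, hr, hpn⟩
      · right; left
        refine ⟨r, hr, ?_, hpn⟩
        rintro rfl
        have h7 := not_minimal_a5 hF (by rw [hpn]; norm_num)
        apply h7
        rw [hpn]
        norm_num
  · rintro (⟨r, hr, h⟩ | ⟨r, hr, hr2, h⟩ | ⟨hpr, h5, hm⟩ | h)
    · haveI : Fact (Nat.Prime 2) := ⟨Nat.prime_two⟩
      haveI := card_eq_of_pow Nat.prime_two h
      refine minimal_of 2 ?_ ?_ ?_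
      · rw [h]
        calc 4 = 2 ^ 2 := by norm_num
          _ ≤ 2 ^ r := Nat.pow_le_pow_right (by norm_num) hr.two_le
      · rintro (h | h)
        · norm_num at h
        · exact absurd (by norm_num) h
      · intro c m hm hc
        rw [h] at hc
        rw [hcm Nat.prime_two hr hm hc]; norm_num
    · haveI : Fact (Nat.Prime 3) := ⟨Nat.prime_three⟩
      haveI := card_eq_of_pow Nat.prime_three h
      refine minimal_of 3 ?_ ?_ ?_
      · rw [h]
        calc 4 ≤ 3 ^ 2 := by norm_num
          _ ≤ 3 ^ r := Nat.pow_le_pow_right (by norm_num) hr.two_le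
      · intro _ h5
        have hodd : Odd r := hr.odd_of_ne_two hr2
        obtain ⟨k, rfl⟩ := hodd
        rw [h] at h5
        rcases (Nat.Prime.dvd_mul Nat.prime_five).1 h5 with h6 | h6
        · have := Nat.prime_five.dvd_of_dvd_pow h6
          norm_num at this
        · have h7 : (3 ^ (2 * k + 1)) ^ 2 % 5 = 4 := by
            have : (3 ^ (2 * k + 1)) ^ 2 = 81 ^ k * 9 := by
              rw [← pow_mul, show (2 * k + 1) * 2 = 4 * k + 2 by ring, pow_add, pow_mul]; norm_num
            rw [this, Nat.mul_mod, Nat.pow_mod]; norm_num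
          omega
      · intro c m hm hc
        rw [h] at hc
        rw [hcm Nat.prime_three hr hm hc]
    · haveI : Fact (Nat.card F).Prime := ⟨hpr⟩
      haveI : CharP F (Nat.card F) := card_eq_of_pow hpr (r := 1) (by rw [pow_one])
      refine minimal_of (Nat.card F) (by omega) ?_ ?_
      · intro _ h5'
        rcases (Nat.Prime.dvd_mul Nat.prime_five).1 h5' with h6 | h6
        · omega
        · have h7 : Nat.card F ^ 2 % 5 = 4 := by
            rcases hm with hm | hm <;> rw [Nat.pow_mod, hm]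
          omega
      · intro c m hm hc
        exfalso
        rw [← hc] at hpr
        exact Nat.Prime.not_prime_pow hm hpr
    · haveI : Fact (Nat.Prime 5) := ⟨Nat.prime_five⟩
      haveI : CharP F 5 := card_eq_of_pow Nat.prime_five (r := 1) (by rw [pow_one, h])
      refine minimal_of 5 (by omega) ?_ ?_
      · rintro (h | h)
        · norm_num at h
        · exact absurd (by norm_num) h
      · intro c m hm hc
        exfalso
        rw [h] at hc
        have := Nat.prime_five
        rw [← hc] at this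
        exact Nat.Prime.not_prime_pow hm this

end CfsgLib.Mob25
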