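import Mathlib
import Cfsg.Agent.Lib.H3Zas10
import Cfsg.Agent.Lib.H3Zas11
import Cfsg.Agent.Lib.Mob23
import Cfsg.Agent.Lib.Mob25

/-!
# The subgroup generated by the elements of order three
-/

set_option autoImplicit false
set_option linter.style.haveILetI false

namespace CfsgLib.H3Zas

open Module
open scoped commutatorElement

universe u v w

/-- the subgroup generated by the elements of order three -/
def N3 (G : Type w) [Group G] : Subgroup G := Subgroup.closure {g : G | g ^ 3 = 1}

theorem mem_N3 {G : Type w} [Group G] {g : G} (h : g ^ 3 = 1) : g ∈ N3 G := Subgroup.subset_closure h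

theorem N3_le {G : Type w} [Group G] {H : Subgroup G} (h : ∀ g : G, g ^ 3 = 1 → g ∈ H) : N3 G ≤ H :=
  (Subgroup.closure_le H).2 h

instance N3_char {G : Type w} [Group G] : (N3 G).Characteristic := by
  rw [Subgroup.characteristic_iff_le_comap]
  intro φ
  apply N3_le
  intro g hg
  exact mem_N3 (by
    change (φ g) ^ 3 = 1
    rw [← map_pow, hg, map_one])

theorem N3_gen (G : Type w) [Group G] : Subgroup.closure {g : N3 G | g ^ 3 = 1} = ⊤ := by
  have h1 := Subgroup.closure_closure_coe_preimage (k := ({g : G | g ^ 3 = 1} : Set G))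
  rw [eq_top_iff]
  refine le_trans (le_of_eq h1.symm) (Subgroup.closure_mono ?_)
  intro x hx
  exact Subtype.ext hx

variable {K : Type u} [Field K] {V : Type v} [AddCommGroup V] [Module K V] {G : Type w} [Group G]
  {ρ : G →* Module.End K V}
variable [IsAlgClosed K] [FiniteDimensional K V] [Nontrivial V] [Finite G]

theorem N3_cases (h : Free ρ) (hn : (Nat.card G : K) ≠ 0) : Group.IsSolvable (N3 G) ∨ Nonempty (N3 G ≃* S25) := by
  by_cases hcomm : ∀ x y : G, x ^ 3 = 1 → y ^ 3 = 1 → x * y = y * x
  · left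
    have h1 : ∀ a ∈ N3 G, ∀ b ∈ N3 G, a * b = b * a := by
      have h2 : N3 G ≤ Subgroup.centralizer (N3 G : Set G) := by
        rw [N3, Subgroup.centralizer_closure, Subgroup.closure_le]
        intro x hx
        rw [SetLike.mem_coe, Subgroup.mem_centralizer_iff]
        intro y hy
        exact hcomm y x hy hx
      intro a ha b hb
      exact (Subgroup.mem_centralizer_iff.1 (h2 ha) b hb).symm
    exact Group.isSolvable_of_comm (fun a b => Subtype.ext (h1 a a.2 b b.2))
  push Not at hcomm
  obtain ⟨x, y, hx3, hy3, hxy⟩ := hcomm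
  obtain ⟨i, j, hi, hj, D⟩ := dat_of_pair h hn hx3 hy3 hxy
  obtain ⟨W, hWb, hWd, hWi⟩ := D.exists_W
  have hW : ∀ g : N3 G, ∀ w ∈ W, (ρ.comp (N3 G).subtype) g w ∈ W := by
    intro g
    refine inv_of_closure (ρ := ρ.comp (N3 G).subtype) (N3_gen G) W ?_ g
    intro g hg
    exact hWi g (congrArg Subtype.val hg)
  haveI : Nontrivial W := (Submodule.nontrivial_iff_ne_bot).2 hWb
  have hfN : Free (ρ.comp (N3 G).subtype) := h.comp _ (N3 G).subtype_injective
  have hfW := hfN.restr W hW
  have hnN : (Nat.card (N3 G) : K) ≠ 0 := card_ne_zero_of_dvd hn (Subgroup.card_subgroup_dvd_card _)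
  let x' : N3 G := ⟨x, mem_N3 hx3⟩
  let y' : N3 G := ⟨y, mem_N3 hy3⟩
  have hxy' : x' * y' ≠ y' * x' := fun h0 => hxy (congrArg Subtype.val h0)
  have hpos : 0 < finrank K W := finrank_pos
  have hcases : finrank K W = 1 ∨ finrank K W = 2 := by omega
  rcases hcases with hd | hd
  · exfalso
    obtain ⟨w, hw⟩ := exists_ne (0 : W)
    have h1 := (finrank_eq_one_iff_of_nonzero' w hw).1 hd
    obtain ⟨c, hc'⟩ := h1 (restr (ρ.comp (N3 G).subtype) W hW y' w)
    apply hxy'
    symm
    apply hfW.central_of_scalar (c := c)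
    refine LinearMap.ext fun v => ?_
    obtain ⟨d, rfl⟩ := h1 v
    rw [_root_.map_smul, ← hc', LinearMap.smul_apply, Module.End.one_apply, smul_comm]
  have hcen : ∀ {Q : Type} [Group Q] (f : N3 G →* Q), (∀ g, f g = 1 ↔ ∃ c : K, restr (ρ.comp (N3 G).subtype) W hW g = c • 1) →
      f.ker ≤ Subgroup.center (N3 G) := by
    intro Q _ f hf g hg
    obtain ⟨c, hc⟩ := (hf g).1 hg
    rw [Subgroup.mem_center_iff]
    intro k
    exact (hfW.central_of_scalar hc k).symm
  have hsolv : ∀ {Q : Type} [Group Q] (f : N3 G →* Q), (∀ g, f g = 1 ↔ ∃ c : K, restr (ρ.comp (N3 G).subtype) W hW g = c • 1) →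
      Group.IsSolvable Q → Group.IsSolvable (N3 G) := by
    intro Q _ f hf hQ
    haveI : Group.IsSolvable f.ker := Group.isSolvable_of_comm (fun a b => Subtype.ext ((Subgroup.mem_center_iff.1 (hcen f hf b.2)) a))
    exact Group.isSolvable_of_ker_le_range f.ker.subtype f (by rw [Subgroup.range_subtype])
  rcases tame2 hfW hd hnN with h1 | ⟨n, f, hfs, hfk⟩ | ⟨f, hfs, hfk⟩ | ⟨f, hfs, hfk⟩ | ⟨f, hfs, hfk⟩
  · exact absurd (h1 x' y') hxy'
  · exfalso
    have h1 : (rot n).comap f = ⊤ := by
      rw [eq_top_iff, ← N3_gen G, Subgroup.closure_le]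
      intro g hg
      have hg3 : g ^ 3 = 1 := hg
      exact dih_cube _ (by rw [← map_pow, hg3, map_one])
    obtain ⟨g, hg⟩ := hfs (DihedralGroup.sr 0)
    have h2 : g ∈ (rot n).comap f := h1 ▸ Subgroup.mem_top g
    obtain ⟨i, hi⟩ := h2
    rw [hg] at hi
    cases hi
  · exact Or.inl (hsolv f hfk CfsgLib.Mob23.solvable_a4)
  · exact Or.inl (hsolv f hfk CfsgLib.Mob23.solvable_s4)
  · right
    set r := restr (ρ.comp (N3 G).subtype) W hW with hr
    have hZ := hcen f hfk
    -- no central element of order three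
    have hno3 : ∀ z : N3 G, z ∈ f.ker → z ^ 3 = 1 → z = 1 := by
      intro z hz hz3
      by_contra hz1
      have hzc := Subgroup.mem_center_iff.1 (hZ hz)
      apply hxy'
      have hx1 : x' ≠ 1 := by rintro h0; exact hxy' (by rw [h0, one_mul, mul_one])
      have hy1 : y' ≠ 1 := by rintro h0; exact hxy' (by rw [h0, one_mul, mul_one])
      have e1 := comm3 hfN hz1 hx1 hz3 (Subtype.ext hx3) (hzc x').symm
      have e2 := comm3 hfN hz1 hy1 hz3 (Subtype.ext hy3) (hzc y').symm
      rcases e1 with e1 | e1 <;> rcases e2 with e2 | e2 <;> rw [e1, e2] <;> group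
    have h3 : ¬ 3 ∣ Nat.card f.ker := by
      intro h0
      haveI : Fact (Nat.Prime 3) := ⟨Nat.prime_three⟩
      obtain ⟨z, hz⟩ := exists_prime_orderOf_dvd_card' 3 h0
      have hz3 : z ^ 3 = 1 := by rw [← hz]; exact pow_orderOf_eq_one z
      have hz1 := hno3 z z.2 (congrArg Subtype.val hz3)
      have : z = 1 := Subtype.ext hz1
      rw [this, orderOf_one] at hz
      exact absurd hz (by norm_num)
    have hA5 : commutator (alternatingGroup (Fin 5)) = ⊤ := by
      haveI : IsSimpleGroup (alternatingGroup (Fin 5)) := alternatingGroup.isSimpleGroup (by rw [Nat.card_fin])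
      rcases (inferInstance : (commutator (alternatingGroup (Fin 5))).Normal).eq_bot_or_eq_top with h0 | h0
      · exfalso
        apply CfsgLib.Mob25.a5_not_solvable
        apply Group.isSolvable_of_comm
        intro a b
        have h1 : ⁅a, b⁆ ∈ commutator (alternatingGroup (Fin 5)) := Subgroup.commutator_mem_commutator (Subgroup.mem_top a) (Subgroup.mem_top b)
        rw [h0, Subgroup.mem_bot] at h1
        exact commutatorElement_eq_one_iff_mul_comm.1 h1
      · exact h0
    have hperf : commutator (N3 G) = ⊤ := by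
      have h1 : (commutator (N3 G)).map f = ⊤ := by
        rw [_root_.commutator_def, Subgroup.map_commutator, ← MonoidHom.range_eq_map, MonoidHom.range_eq_top.2 hfs]
        exact hA5
      rw [eq_top_iff, ← N3_gen G, Subgroup.closure_le]
      intro g hg
      have hg3 : g ^ 3 = 1 := hg
      obtain ⟨c, hc, hcg⟩ := (by rw [h1]; exact Subgroup.mem_top _ : f g ∈ (commutator (N3 G)).map f)
      have hz : c⁻¹ * g ∈ f.ker := by rw [MonoidHom.mem_ker, map_mul, map_inv, hcg, inv_mul_cancel]
      have hzc := Subgroup.mem_center_iff.1 (hZ hz)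
      set z := c⁻¹ * g with hz'
      have hgz : g = c * z := by rw [hz']; group
      have hz3 : z ^ 3 ∈ commutator (N3 G) := by
        have e : g ^ 3 = c ^ 3 * z ^ 3 := by
          rw [hgz]
          exact (Commute.mul_pow (hzc c) 3)
        rw [hg3] at e
        have e2 : z ^ 3 = (c ^ 3)⁻¹ := eq_inv_of_mul_eq_one_right e.symm
        rw [e2]
        exact Subgroup.inv_mem _ (Subgroup.pow_mem _ hc 3)
      have hzn : z ^ Nat.card f.ker = 1 := by
        have := pow_card_eq_one' (x := (⟨z, hz⟩ : f.ker))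
        exact congrArg Subtype.val this
      have hcop : Nat.Coprime 3 (Nat.card f.ker) := (Nat.Prime.coprime_iff_not_dvd Nat.prime_three).2 h3
      have hzC : z ∈ commutator (N3 G) := by
        have hb : (z : N3 G) ^ (Nat.gcd 3 (Nat.card f.ker) : ℤ) ∈ commutator (N3 G) := by
          rw [Nat.gcd_eq_gcd_ab, zpow_add, zpow_mul, zpow_mul]
          apply Subgroup.mul_mem
          · apply Subgroup.zpow_mem
            exact_mod_cast hz3
          · apply Subgroup.zpow_mem
            have : (z : N3 G) ^ ((Nat.card f.ker : ℕ) : ℤ) = 1 := by rw [zpow_natCast, hzn]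
            rw [this]; exact Subgroup.one_mem _
        rw [hcop.gcd_eq_one, Nat.cast_one, zpow_one] at hb
        exact hb
      rw [SetLike.mem_coe, hgz]
      exact Subgroup.mul_mem _ hc hzC
    have hdet : ∀ n : N3 G, LinearMap.det (r n) = 1 := by
      intro n
      let φ : N3 G →* Kˣ := ((LinearMap.det : (W →ₗ[K] W) →* K).comp r).toHomUnits
      have h1 : n ∈ φ.ker := Abelianization.commutator_subset_ker φ (by rw [hperf]; exact Subgroup.mem_top n)
      have h2 : φ n = 1 := h1
      exact congrArg Units.val h2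
    have hker : ∀ n : N3 G, n ∈ f.ker → r n = 1 ∨ r n = -1 := by
      intro n hn'
      obtain ⟨c, hc⟩ := (hfk n).1 hn'
      have h1 := hdet n
      rw [hc, LinearMap.det_smul, map_one, mul_one, hd, sq_eq_one_iff] at h1
      rcases h1 with h1 | h1
      · left; rw [hc, h1, one_smul]
      · right; rw [hc, h1]; module
    have h2 : (2 : ℕ) ∣ Nat.card (N3 G) := by
      refine Dvd.dvd.trans ?_ (Subgroup.card_dvd_of_surjective f hfs)
      rw [card_a5']; decide
    haveI : Fact (Nat.Prime 2) := ⟨Nat.prime_two⟩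
    obtain ⟨z, hz⟩ := exists_prime_orderOf_dvd_card' 2 h2
    have hz1 : z ≠ 1 := by
      rintro rfl
      rw [orderOf_one] at hz
      exact absurd hz (by norm_num)
    have hz2 : z ^ 2 = 1 := by rw [← hz]; exact pow_orderOf_eq_one z
    have hrz : r z = -1 := hfW.neg_one hz1 hz2
    have hzk : z ∈ f.ker := (hfk z).2 ⟨-1, by rw [hrz]; module⟩
    have hk2 : Nat.card f.ker = 2 := by
      rw [Nat.card_eq_two_iff]
      refine ⟨1, ⟨z, hzk⟩, fun h0 => hz1 (congrArg Subtype.val h0).symm, ?_⟩
      rw [Set.eq_univ_iff_forall]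
      rintro ⟨n, hn'⟩
      rcases hker n hn' with h0 | h0
      · left
        exact Subtype.ext (hfW.injective (h0.trans (map_one r).symm))
      · right
        rw [Set.mem_singleton_iff]
        exact Subtype.ext (hfW.injective (h0.trans hrz.symm))
    exact iso_of_double hperf f hfs hZ hk2

end CfsgLib.H3Zas
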