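import Cfsg.Agent.Lib.Coprime2
import Cfsg.Agent.Lib.NPC
import Cfsg.Agent.Lib.Core
import Cfsg.Agent.Lib.Core2
import Cfsg.Agent.Lib.FrobAct2
import Cfsg.Prelude.Def_IsolatedElements

/-!
# Isolated elements of prime power order
-/

set_option autoImplicit false
set_option linter.style.haveILetI false
set_option linter.unusedSectionVars false

namespace CfsgLib.Isol

open Cfsg CfsgLib.Coprime
open scoped Pointwise

universe u

section
variable {G : Type u} [Group G] [Finite G] {x : G} {p : ℕ} [hp : Fact p.Prime]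

theorem le_centralizer (hiso : Cfsg.IsIsolated x) {R : Subgroup G} (hR : IsPGroup p R) (hx : x ∈ R) :
    R ≤ Subgroup.centralizer ({x} : Set G) := by
  by_contra hcon
  have hlt : R ⊓ Subgroup.centralizer ({x} : Set G) < R :=
    lt_of_le_of_ne inf_le_left fun h => hcon (inf_eq_left.mp h)
  have h1 := CfsgLib.Coprime.exists_normalizer_gt hR hlt
  obtain ⟨s, hs, hsn⟩ := SetLike.exists_of_lt h1
  apply hsn
  refine Subgroup.mem_inf.mpr ⟨hs.1, ?_⟩
  have hxD : x ∈ R ⊓ Subgroup.centralizer ({x} : Set G) :=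
    Subgroup.mem_inf.mpr ⟨hx, Subgroup.mem_centralizer_singleton_iff.mpr rfl⟩
  have h2 := (Subgroup.mem_normalizer_iff.mp hs.2 x).mp hxD
  have h3 : s * x * s⁻¹ = x := hiso s (Subgroup.mem_centralizer_singleton_iff.mp h2.2).symm
  rw [Subgroup.mem_centralizer_singleton_iff]
  calc s * x = (s * x * s⁻¹) * s := by group
    _ = x * s := by rw [h3]

/-- fusion in a `p`-subgroup containing `x` -/
theorem eq_of_mem (hiso : Cfsg.IsIsolated x) {R : Subgroup G} (hR : IsPGroup p R) (hx : x ∈ R) {g : G} (hg : g * x * g⁻¹ ∈ R) :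
    g * x * g⁻¹ = x :=
  hiso g (Subgroup.mem_centralizer_singleton_iff.mp (le_centralizer hiso hR hx hg)).symm

theorem mem_centralizer_of_eq {g : G} (h : g * x * g⁻¹ = x) : g ∈ Subgroup.centralizer ({x} : Set G) := by
  rw [Subgroup.mem_centralizer_singleton_iff]
  calc g * x = (g * x * g⁻¹) * g := by group
    _ = x * g := by rw [h]

theorem normalizer_le (hiso : Cfsg.IsIsolated x) {R : Subgroup G} (hR : IsPGroup p R) (hx : x ∈ R) :
    Subgroup.normalizer (R : Set G) ≤ Subgroup.centralizer ({x} : Set G) := by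
  intro g hg
  exact mem_centralizer_of_eq (eq_of_mem hiso hR hx ((Subgroup.mem_normalizer_iff.mp hg x).mp hx))

theorem exists_isSyl_mem (hx : ∃ k : ℕ, orderOf x = p ^ k) {H : Subgroup G} (hxH : x ∈ H) : ∃ P, IsSyl p P H ∧ x ∈ P := by
  obtain ⟨k, hk⟩ := hx
  obtain ⟨P, hP, hle⟩ := exists_isSyl_ge (p := p) (K := H) (Subgroup.zpowers_le.mpr hxH) (IsPGroup.of_card (n := k) (by rw [Nat.card_zpowers, hk]))
  exact ⟨P, hP, hle (Subgroup.mem_zpowers x)⟩

theorem frattini (hx : ∃ k : ℕ, orderOf x = p ^ k) (hiso : Cfsg.IsIsolated x) {H N : Subgroup G} (hNH : N ≤ H)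
    (hHN : H ≤ Subgroup.normalizer (N : Set G)) (hxN : x ∈ N) {h : G} (hh : h ∈ H) : ∃ n ∈ N, ∃ c ∈ H ⊓ Subgroup.centralizer ({x} : Set G), h = n * c := by
  obtain ⟨P, hP, hxP⟩ := exists_isSyl_mem hx hxN
  have hN : MulAut.conj h • N = N := by
    rw [CfsgLib.Core.smul_eq_map_conj]
    exact CfsgLib.Core.map_conj_eq_iff.mpr (hHN hh)
  obtain ⟨n, hn, hnP⟩ := (hP.conj_iff hN).exists_conj hP
  have h1 : n * h ∈ Subgroup.normalizer (P : Set G) := by
    rw [smul_smul, ← map_mul] at hnP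
    rw [CfsgLib.Core.smul_eq_map_conj] at hnP
    exact CfsgLib.Core.map_conj_eq_iff.mp hnP
  have h2 := normalizer_le hiso hP.isPGroup hxP h1
  refine ⟨n⁻¹, inv_mem hn, n * h, ⟨mul_mem (hNH hn) hh, h2⟩, by group⟩

/-- conjugates of `x` inside a subgroup `H` containing `x` are conjugate to `x` in `H` -/
theorem conj_inside (hx : ∃ k : ℕ, orderOf x = p ^ k) (hiso : Cfsg.IsIsolated x) {H : Subgroup G} (hxH : x ∈ H) {g : G}
    (hg : g * x * g⁻¹ ∈ H) : ∃ k ∈ H, k * x * k⁻¹ = g * x * g⁻¹ := by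
  obtain ⟨P, hP, hxP⟩ := exists_isSyl_mem hx hxH
  obtain ⟨P', hP', hxP'⟩ := exists_isSyl_mem (p := p) (x := g * x * g⁻¹) (by
    obtain ⟨k, hk⟩ := hx
    refine ⟨k, ?_⟩
    have : g * x * g⁻¹ = MulAut.conj g x := rfl
    rw [this, MulEquiv.orderOf_eq, hk]) hg
  obtain ⟨n, hn, hnP⟩ := hP'.exists_conj hP
  have h1 : n * (g * x * g⁻¹) * n⁻¹ ∈ P := by
    rw [← hnP]
    exact Subgroup.smul_mem_pointwise_smul _ (MulAut.conj n) P' hxP'
  have h2 : (n * g) * x * (n * g)⁻¹ = n * (g * x * g⁻¹) * n⁻¹ := by group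
  have h3 := eq_of_mem hiso hP.isPGroup hxP (g := n * g) (by rw [h2]; exact h1)
  refine ⟨n⁻¹, inv_mem hn, ?_⟩
  have h4 : n⁻¹ * (n * g * x * (n * g)⁻¹) * n⁻¹⁻¹ = g * x * g⁻¹ := by group
  rw [h3] at h4
  exact h4

/-- quotients of isolated elements are isolated -/
theorem quot (hx : ∃ k : ℕ, orderOf x = p ^ k) (hiso : Cfsg.IsIsolated x) (N : Subgroup G) [N.Normal] :
    Cfsg.IsIsolated (QuotientGroup.mk x : G ⧸ N) := by
  intro gb hcomm
  obtain ⟨g, rfl⟩ := QuotientGroup.mk_surjective gb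
  obtain ⟨y, hy⟩ : ∃ y, y = g * x * g⁻¹ := ⟨_, rfl⟩
  have e1 : (QuotientGroup.mk g : G ⧸ N) * QuotientGroup.mk x * (QuotientGroup.mk g)⁻¹ = QuotientGroup.mk y := by rw [hy]; rfl
  rw [e1] at hcomm ⊢
  -- the preimage of `⟨x̄, ȳ⟩`
  obtain ⟨K, hK⟩ : ∃ K : Subgroup G, K = (Subgroup.closure {(QuotientGroup.mk x : G ⧸ N), QuotientGroup.mk y}).comap (QuotientGroup.mk' N) := ⟨_, rfl⟩
  have hxK : x ∈ K := by rw [hK]; exact Subgroup.subset_closure (Or.inl rfl)
  have hyK : y ∈ K := by rw [hK]; exact Subgroup.subset_closure (Or.inr rfl)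
  obtain ⟨k, hk, hkx⟩ := conj_inside hx hiso hxK (g := g) (by rw [← hy]; exact hyK)
  rw [← hy] at hkx
  have hab : ∀ a ∈ Subgroup.closure {(QuotientGroup.mk x : G ⧸ N), QuotientGroup.mk y}, a * QuotientGroup.mk x = QuotientGroup.mk x * a := by
    intro a ha
    have : Subgroup.closure {(QuotientGroup.mk x : G ⧸ N), QuotientGroup.mk y} ≤ Subgroup.centralizer {(QuotientGroup.mk x : G ⧸ N)} := by
      rw [Subgroup.closure_le]
      rintro b (rfl | rfl)
      · exact Subgroup.mem_centralizer_singleton_iff.mpr rfl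
      · exact Subgroup.mem_centralizer_singleton_iff.mpr hcomm.eq.symm
    exact Subgroup.mem_centralizer_singleton_iff.mp (this ha)
  have h1 : (QuotientGroup.mk k : G ⧸ N) ∈ Subgroup.closure {(QuotientGroup.mk x : G ⧸ N), QuotientGroup.mk y} := by
    rw [hK] at hk; exact hk
  have h2 := hab _ h1
  have h3 : (QuotientGroup.mk y : G ⧸ N) = QuotientGroup.mk k * QuotientGroup.mk x * (QuotientGroup.mk k)⁻¹ := by rw [← hkx]; rfl
  rw [h3, h2, mul_inv_cancel_right]

/-- cyclic Sylow subgroups and a nontrivial isolated element give a normal complement -/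
theorem npc_of_cyclic (hx : ∃ k : ℕ, orderOf x = p ^ k) (hiso : Cfsg.IsIsolated x) (hx1 : x ≠ 1)
    (hcyc : ∀ P : Sylow p G, IsCyclic (P : Subgroup G)) : Cfsg.HasNormalPComplement p G := by
  have hpx : IsPGroup p (Subgroup.zpowers x) := by
    obtain ⟨k, hk⟩ := hx
    exact IsPGroup.of_card (n := k) (by rw [Nat.card_zpowers, hk])
  obtain ⟨P, hP⟩ := hpx.exists_le_sylow
  have hxP : x ∈ (P : Subgroup G) := hP (Subgroup.mem_zpowers x)
  haveI := hcyc P
  have hPc : IsMulCommutative (P : Subgroup G) := inferInstance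
  have hNC := normalizer_le hiso P.isPGroup' hxP
  suffices h : Subgroup.normalizer ((P : Subgroup G) : Set G) ≤ Subgroup.centralizer ((P : Subgroup G) : Set G) from
    ⟨P, _, inferInstance, MonoidHom.ker_transferSylow_isComplement' P h⟩
  intro g hg
  apply CfsgLib.Core.mem_of_forall_ppart
  intro q hq hqg
  haveI : Fact q.Prime := ⟨hq⟩
  obtain ⟨b, hb⟩ : ∃ b, b = g ^ (orderOf g / q ^ (orderOf g).factorization q) := ⟨_, rfl⟩
  have hbo := CfsgLib.Core.orderOf_ppart g q hq
  rw [← hb] at hbo ⊢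
  have hbN : b ∈ Subgroup.normalizer ((P : Subgroup G) : Set G) := by rw [hb]; exact pow_mem hg _
  by_cases hqp : q = p
  · -- `b` is a `p`-element normalizing `P`
    subst hqp
    have h1 : IsPGroup q ((P : Subgroup G) ⊔ Subgroup.zpowers b : Subgroup G) := by
      apply IsPGroup.to_sup_of_normal_left' P.isPGroup'
      · exact IsPGroup.of_card (n := _) (by rw [Nat.card_zpowers, hbo])
      · exact Subgroup.zpowers_le.mpr hbN
    have h2 := P.3 h1 le_sup_left
    have h3 : b ∈ (P : Subgroup G) := by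
      rw [← h2]; exact (le_sup_right : Subgroup.zpowers b ≤ _) (Subgroup.mem_zpowers b)
    rw [Subgroup.mem_centralizer_iff]
    intro y hy
    exact congrArg Subtype.val (hPc.is_comm.comm (⟨y, hy⟩ : (P : Subgroup G)) ⟨b, h3⟩)
  · have h1 := le_centralizer_of_abelian_prime (A := Subgroup.zpowers b) (V := (P : Subgroup G)) hPc (Subgroup.zpowers_le.mpr hbN) (by
      obtain ⟨k, hk⟩ := (IsPGroup.iff_card).mp P.isPGroup'
      rw [Nat.card_zpowers, hbo]
      show Nat.Coprime _ (Nat.card (P : Subgroup G))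
      rw [hk]
      exact Nat.Coprime.pow _ _ ((Nat.coprime_primes hq hp.out).mpr hqp)) (by
      intro v hv hvp a ha
      -- `v` is a power of `x`
      have h2 : v ∈ Subgroup.zpowers x := by
        obtain ⟨k, hk⟩ := hx
        have h3 : (⟨v, hv⟩ : (P : Subgroup G)) ∈ Subgroup.zpowers (⟨x, hxP⟩ : (P : Subgroup G)) := by
          apply CfsgLib.Core2.mem_zpowers_of_orderOf_dvd
          rw [Subgroup.orderOf_mk, Subgroup.orderOf_mk, hk]
          have h4 : orderOf v = p := by
            obtain ⟨j, hj⟩ := (IsPGroup.iff_orderOf.mp P.isPGroup') ⟨v, hv⟩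
            rw [Subgroup.orderOf_mk] at hj
            rw [hj] at hvp ⊢
            have := (Nat.Prime.eq_one_of_pow hvp)
            rw [this, pow_one]
          rw [h4]
          rcases k with _ | k
          · exact absurd (orderOf_eq_one_iff.mp (by rw [hk, pow_zero])) hx1
          · exact dvd_pow_self p (Nat.succ_ne_zero k)
        obtain ⟨i, hi⟩ := Subgroup.mem_zpowers_iff.mp h3
        refine Subgroup.mem_zpowers_iff.mpr ⟨i, ?_⟩
        exact congrArg Subtype.val hi
      have h5 : a ∈ Subgroup.centralizer ({x} : Set G) := by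
        apply hNC
        exact (Subgroup.zpowers_le.mpr hbN) ha
      obtain ⟨i, rfl⟩ := Subgroup.mem_zpowers_iff.mp h2
      have h6 : Commute a x := Subgroup.mem_centralizer_singleton_iff.mp h5
      exact (h6.zpow_right i).eq)
    exact h1 (Subgroup.mem_zpowers b)

end

end CfsgLib.Isol
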