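import Mathlib
import Cfsg.Agent.Lib.H3Zas12
import Cfsg.Agent.Lib.NPC
import Cfsg.Agent.Lib.FusionAutS
import Cfsg.Agent.Lib.H8Isol
import Cfsg.Agent.Lib.FrobAct2
import Cfsg.Agent.S3742

/-!
# Groups with a free representation: Sylow subgroups, solvability in absence of elements of order three
-/

set_option autoImplicit false
set_option linter.style.haveILetI false

namespace CfsgLib.H3Zas

open Module
open scoped commutatorElement

universe u v w

variable {K : Type u} [Field K] {V : Type v} [AddCommGroup V] [Module K V] {G : Type w} [Group G]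
  {ρ : G →* Module.End K V}

section Sylow

variable [IsAlgClosed K] [FiniteDimensional K V] [Nontrivial V]

/-- commuting elements of the same prime order generate the same subgroup -/
theorem comm_prime (h : Free ρ) {p : ℕ} (hp : p.Prime) {x y : G} (hx : orderOf x = p) (hy : orderOf y = p)
    (hxy : x * y = y * x) : y ∈ Subgroup.zpowers x := by
  haveI : Fact p.Prime := ⟨hp⟩
  haveI : NeZero p := ⟨hp.ne_zero⟩
  obtain ⟨v, hv, hev⟩ := common_eigen ({ρ x, ρ y} : Set (Module.End K V)) (by
    have hc : ρ x * ρ y = ρ y * ρ x := by rw [← map_mul, hxy, map_mul]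
    rintro f (rfl | rfl) g (rfl | rfl)
    · rfl
    · exact hc
    · exact hc.symm
    · rfl)
  obtain ⟨α, hα⟩ := hev (ρ x) (by simp)
  obtain ⟨β, hβ⟩ := hev (ρ y) (by simp)
  have hpow : ∀ {g : G} {μ : K}, ρ g v = μ • v → ∀ n : ℕ, ρ (g ^ n) v = μ ^ n • v := by
    intro g μ hg n
    induction n with
    | zero => rw [pow_zero, pow_zero, map_one, one_smul]; rfl
    | succ n ih => rw [pow_succ, map_mul, Module.End.mul_apply, hg, _root_.map_smul, ih, smul_smul, pow_succ, mul_comm]
  have hroot : ∀ {g : G} {μ : K}, orderOf g = p → ρ g v = μ • v → μ ^ p = 1 := by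
    intro g μ hg hgv
    have h1 := hpow hgv p
    rw [← hg, pow_orderOf_eq_one, map_one, Module.End.one_apply] at h1
    have h2 : (1 : K) • v = μ ^ orderOf g • v := by rw [one_smul]; exact h1
    rw [← hg]
    exact (smul_left_injective K hv h2).symm
  have hα1 : α ≠ 1 := by
    rintro rfl
    rw [one_smul] at hα
    have hx1 : x ≠ 1 := by
      rintro rfl
      rw [orderOf_one] at hx
      exact hp.one_lt.ne hx
    exact hv (h x hx1 v hα)
  have hαo : orderOf α = p := orderOf_eq_prime (hroot hx hα) hα1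
  have hprim : IsPrimitiveRoot α p := hαo ▸ IsPrimitiveRoot.orderOf α
  obtain ⟨k, -, hk⟩ := hprim.eq_pow_of_pow_eq_one (hroot hy hβ)
  have h1 : y = x ^ k := h.eq_of_apply hv (by rw [hβ, hpow hα k, hk])
  rw [h1]
  exact Subgroup.npow_mem_zpowers x k

theorem sylow_cases [Finite G] (h : Free ρ) {p : ℕ} [Fact p.Prime] (P : Subgroup G) (hP : IsPGroup p P) :
    IsCyclic P ∨ (p = 2 ∧ ∃ n : ℕ, Nonempty (P ≃* QuaternionGroup (2 ^ n))) := by
  have hp : p.Prime := Fact.out
  refine CfsgLib.Quat.unique_subgroup p hP ?_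
  by_cases hP1 : Nontrivial P
  swap
  · intro H L hH _
    exfalso
    rw [not_nontrivial_iff_subsingleton] at hP1
    have : Nat.card H = 1 := by
      haveI : Subsingleton H := ⟨fun a b => Subtype.ext (Subsingleton.elim _ _)⟩
      exact Nat.card_of_subsingleton (1 : H)
    rw [this] at hH
    exact hp.one_lt.ne hH
  haveI := hP.center_nontrivial
  obtain ⟨n, hn⟩ := IsPGroup.iff_card.1 (hP.to_subgroup (Subgroup.center P))
  have hn0 : n ≠ 0 := by
    rintro rfl
    rw [pow_zero] at hn
    have := Finite.one_lt_card (α := Subgroup.center P)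
    omega
  obtain ⟨c, hc⟩ := exists_prime_orderOf_dvd_card' p (by rw [hn]; exact dvd_pow_self p hn0)
  have hco : orderOf (c : P) = p := by rw [Subgroup.orderOf_coe, hc]
  have hfP : Free (ρ.comp P.subtype) := h.comp _ P.subtype_injective
  have key : ∀ H : Subgroup P, Nat.card H = p → H = Subgroup.zpowers (c : P) := by
    intro H hH
    haveI : Fact (Nat.card H).Prime := ⟨hH ▸ hp⟩
    have hle : H ≤ Subgroup.zpowers (c : P) := by
      intro y hy
      by_cases hy1 : y = 1
      · rw [hy1]; exact Subgroup.one_mem _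
      have hyo : orderOf y = p := by
        have h1 : orderOf (⟨y, hy⟩ : H) ∣ p := by rw [← hH]; exact orderOf_dvd_natCard _
        rcases (Nat.dvd_prime hp).1 h1 with h2 | h2
        · exact absurd (congrArg Subtype.val (orderOf_eq_one_iff.1 h2)) hy1
        · rw [← h2]; exact (Subgroup.orderOf_mk y hy).symm
      exact comm_prime hfP hp hco hyo ((Subgroup.mem_center_iff.1 c.2 y).symm)
    exact Subgroup.eq_of_le_of_card_ge hle (by rw [Nat.card_zpowers, hco, hH])
  intro H L hH hL
  rw [key H hH, key L hL]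

end Sylow

/-- odd order automorphisms of cyclic `2`-groups and quaternion groups -/
theorem aut_two {Q : Type u} [Group Q] [Finite Q] (hQ : IsPGroup 2 Q) (h : IsCyclic Q ∨ ∃ n : ℕ, Nonempty (Q ≃* QuaternionGroup (2 ^ n)))
    {α : MulAut Q} (h2 : (orderOf α).Coprime 2) (h3 : (orderOf α).Coprime 3) : α = 1 := by
  rcases h with hc | ⟨n, ⟨e⟩⟩
  · obtain ⟨k, hk⟩ := IsPGroup.iff_card.1 hQ
    have h1 : orderOf α ∣ 2 ^ (k + 1) := by
      refine (orderOf_dvd_natCard α).trans ?_
      rw [IsCyclic.card_mulAut, hk]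
      cases k with
      | zero => simp
      | succ k =>
        rw [Nat.totient_prime_pow_succ Nat.prime_two]
        simp only [Nat.add_one_sub_one, mul_one]
        exact pow_dvd_pow 2 (by omega)
    have h3 : orderOf α ∣ 1 := by
      rw [← Nat.Coprime.gcd_eq_one (Nat.Coprime.pow_right (k + 1) h2)]
      exact Nat.dvd_gcd dvd_rfl h1
    exact orderOf_eq_one_iff.1 (Nat.dvd_one.1 h3)
  · have h24 : ∀ α : MulAut Q, orderOf α ∣ 24 → (orderOf α).Coprime 2 → (orderOf α).Coprime 3 → α = 1 := by
      intro α hα h2 h3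
      have h1 : (orderOf α).Coprime 24 := by
        have : (24 : ℕ) = 2 ^ 3 * 3 := by norm_num
        rw [this]
        exact Nat.Coprime.mul_right (Nat.Coprime.pow_right 3 h2) h3
      have h4 : orderOf α ∣ 1 := by
        rw [← h1.gcd_eq_one]
        exact Nat.dvd_gcd dvd_rfl hα
      exact orderOf_eq_one_iff.1 (Nat.dvd_one.1 h4)
    match n, e with
    | 0, e =>
      apply h24 α _ h2 h3
      have hcard : Nat.card Q = 4 := by rw [Nat.card_congr e.toEquiv, Nat.card_eq_fintype_card]; decide
      haveI : IsCyclic Q := by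
        refine isCyclic_of_orderOf_eq_card (e.symm (QuaternionGroup.xa 0)) ?_
        rw [hcard, MulEquiv.orderOf_eq, QuaternionGroup.orderOf_xa]
      refine (orderOf_dvd_natCard α).trans ?_
      rw [IsCyclic.card_mulAut, hcard]
      decide
    | 1, e =>
      apply h24 α _ h2 h3
      obtain ⟨f⟩ := Cfsg.Agent.S3742.result
      have h5 : Nat.card (MulAut Q) = 24 := by
        rw [Nat.card_congr ((MulAut.congr e).trans f).toEquiv, Nat.card_perm, Nat.card_fin]; decide
      rw [← h5]
      exact orderOf_dvd_natCard α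
    | (m + 2), e => exact (CfsgLib.Fusion.aut_quaternion (m := m + 2) (by omega) e).2 α h2


section Solv

variable [IsAlgClosed K] [FiniteDimensional K V] [Nontrivial V] [Finite G]

theorem frobCond_two (h : Free ρ) (h3 : ¬ 3 ∣ Nat.card G) : CfsgLib.NPC.FrobCond 2 G := by
  intro Q hQ g hg hgo
  haveI : Fact (Nat.Prime 2) := ⟨Nat.prime_two⟩
  have hQc : IsCyclic Q ∨ ∃ n : ℕ, Nonempty (Q ≃* QuaternionGroup (2 ^ n)) := (sylow_cases h Q hQ).imp id (fun h => h.2)
  have hα : orderOf (Q.normalizerMonoidHom ⟨g, hg⟩) ∣ orderOf g := by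
    have := orderOf_map_dvd Q.normalizerMonoidHom ⟨g, hg⟩
    rwa [Subgroup.orderOf_mk] at this
  have h3' : (orderOf g).Coprime 3 := by
    rw [Nat.coprime_comm, Nat.Prime.coprime_iff_not_dvd Nat.prime_three]
    exact fun h0 => h3 (h0.trans (orderOf_dvd_natCard g))
  have h1 : Q.normalizerMonoidHom ⟨g, hg⟩ = 1 := aut_two hQ hQc (hgo.coprime_dvd_left hα) (h3'.coprime_dvd_left hα)
  have h2 : (⟨g, hg⟩ : Subgroup.normalizer (Q : Set G)) ∈ Q.normalizerMonoidHom.ker := h1
  rw [Subgroup.normalizerMonoidHom_ker, Subgroup.mem_subgroupOf] at h2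
  exact h2

theorem zgroup_of_odd (h : Free ρ) (h2 : ¬ 2 ∣ Nat.card G) : IsZGroup G := by
  refine ⟨fun p hp P => ?_⟩
  haveI : Fact p.Prime := ⟨hp⟩
  rcases sylow_cases h (P : Subgroup G) P.2 with h1 | ⟨-, n, ⟨e⟩⟩
  · exact h1
  · exfalso
    apply h2
    refine Dvd.dvd.trans ?_ (Subgroup.card_subgroup_dvd_card (P : Subgroup G))
    haveI : NeZero (2 ^ n) := ⟨by positivity⟩
    rw [Nat.card_congr e.toEquiv, Nat.card_eq_fintype_card, QuaternionGroup.card]
    exact dvd_mul_of_dvd_left (by norm_num) _

theorem solvable_odd (h : Free ρ) (h2 : ¬ 2 ∣ Nat.card G) : Group.IsSolvable G := by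
  haveI := zgroup_of_odd h h2
  infer_instance

theorem solvable_three' (h : Free ρ) (h3 : ¬ 3 ∣ Nat.card G) : Group.IsSolvable G := by
  haveI : Fact (Nat.Prime 2) := ⟨Nat.prime_two⟩
  obtain ⟨N, hN, hNc, k, hk⟩ := CfsgLib.NPC.npc_iff_frobCond.2 (frobCond_two h h3)
  haveI := hN
  have h1 : Group.IsSolvable N := solvable_odd (h.comp _ N.subtype_injective) (fun h0 => by
    have := (Nat.Prime.coprime_iff_not_dvd Nat.prime_two).1 (Nat.coprime_comm.1 hNc)
    exact this h0)
  have h2 : Group.IsSolvable (G ⧸ N) := by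
    have : IsPGroup 2 (G ⧸ N) := IsPGroup.of_card (n := k) hk
    haveI := this.isNilpotent
    infer_instance
  exact (Group.isSolvable_iff_subgroup_quotient N).2 ⟨h1, h2⟩

theorem solvable_central3 (h : Free ρ) {x : G} (hx : orderOf x = 3) (hxc : ∀ g, g * x = x * g) : Group.IsSolvable G := by
  haveI : Fact (Nat.Prime 3) := ⟨Nat.prime_three⟩
  have h1 : Cfsg.HasNormalPComplement 3 G := by
    refine CfsgLib.Isol.npc_of_cyclic (x := x) ⟨1, by rw [hx, pow_one]⟩ ?_ ?_ ?_
    · intro g _
      rw [hxc, mul_inv_cancel_right]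
    · rintro rfl
      rw [orderOf_one] at hx
      exact absurd hx (by norm_num)
    · intro P
      rcases sylow_cases h (P : Subgroup G) P.2 with h1 | ⟨h2, -⟩
      · exact h1
      · exact absurd h2 (by norm_num)
  obtain ⟨N, hN, hNc, k, hk⟩ := CfsgLib.NPC.npc_iff.1 h1
  haveI := hN
  have h1 : Group.IsSolvable N := solvable_three' (h.comp _ N.subtype_injective) (fun h0 => by
    have := (Nat.Prime.coprime_iff_not_dvd Nat.prime_three).1 (Nat.coprime_comm.1 hNc)
    exact this h0)
  have h2 : Group.IsSolvable (G ⧸ N) := by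
    have : IsPGroup 3 (G ⧸ N) := IsPGroup.of_card (n := k) hk
    haveI := this.isNilpotent
    infer_instance
  exact (Group.isSolvable_iff_subgroup_quotient N).2 ⟨h1, h2⟩

end Solv

variable [IsAlgClosed K] [FiniteDimensional K V] [Nontrivial V]

theorem N3_map_le {H : Type*} [Group H] (f : H →* G) : (N3 H).map f ≤ N3 G := by
  rw [Subgroup.map_le_iff_le_comap]
  apply N3_le
  intro g hg
  exact mem_N3 (by
    change (f g) ^ 3 = 1
    rw [← map_pow, hg, map_one])

theorem solvable_of_N3 (n : ℕ) : ∀ {G : Type w} [Group G] [Finite G], Nat.card G ≤ n → ∀ {ρ : G →* Module.End K V}, Free ρ →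
    Group.IsSolvable (N3 G) → Group.IsSolvable G := by
  induction n with
  | zero =>
    intro G _ _ hn
    have := Nat.card_pos (α := G)
    omega
  | succ n ih =>
    intro G _ _ hn ρ h hN
    by_contra hns
    have hsub : ∀ H : Subgroup G, H ≠ ⊤ → Group.IsSolvable H := by
      intro H hH
      have hlt : Nat.card H < Nat.card G := lt_of_le_of_ne (Subgroup.card_le_card_group H) (fun h0 => hH (Subgroup.card_eq_iff_eq_top H |>.1 h0))
      refine ih (by omega) (h.comp _ H.subtype_injective) ?_
      haveI := hN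
      have hle : (N3 H).map H.subtype ≤ N3 G := N3_map_le _
      let f : N3 H →* N3 G := (Subgroup.inclusion hle).comp ((N3 H).equivMapOfInjective _ H.subtype_injective).toMonoidHom
      refine Group.isSolvable_of_isSolvable_injective (f := f) ?_
      exact (Subgroup.inclusion_injective hle).comp (MulEquiv.injective _)
    have hperf : commutator G = ⊤ := by
      by_contra hne
      apply hns
      exact (Group.isSolvable_iff_subgroup_quotient (commutator G)).2 ⟨hsub _ hne, (inferInstance : Group.IsSolvable (Abelianization G))⟩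
    have hnil : N3 G ≤ frattini G := by
      rw [frattini, Order.radical]
      refine le_iInf₂ fun M hM => ?_
      by_contra hle
      apply hns
      have hM' : Group.IsSolvable M := hsub M hM.1
      have hsup : N3 G ⊔ M = ⊤ := by
        rw [sup_comm]
        exact hM.2 _ (lt_of_le_of_ne le_sup_left (fun h0 => hle (h0 ▸ le_sup_right)))
      refine (Group.isSolvable_iff_subgroup_quotient (N3 G)).2 ⟨hN, ?_⟩
      refine Group.isSolvable_of_surjective (f := (QuotientGroup.mk' (N3 G)).comp M.subtype) ?_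
      intro q
      obtain ⟨g, rfl⟩ := QuotientGroup.mk'_surjective (N3 G) q
      have hg : g ∈ (M ⊔ N3 G : Subgroup G) := by rw [sup_comm, hsup]; exact Subgroup.mem_top g
      obtain ⟨m, hm, x, hx, rfl⟩ := Subgroup.mem_sup_of_normal_right.1 hg
      refine ⟨⟨m, hm⟩, ?_⟩
      change QuotientGroup.mk' (N3 G) m = QuotientGroup.mk' (N3 G) (m * x)
      rw [map_mul, show QuotientGroup.mk' (N3 G) x = 1 from (QuotientGroup.eq_one_iff x).2 hx, mul_one]
    haveI hNn : Group.IsNilpotent (N3 G) := by
      haveI := frattini_nilpotent (G := G)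
      exact Group.nilpotent_of_mulEquiv (Subgroup.subgroupOfEquivOfLe hnil)
    haveI : Fact (Nat.Prime 3) := ⟨Nat.prime_three⟩
    -- elements of order three commute
    obtain ⟨P⟩ : Nonempty (Sylow 3 (N3 G)) := inferInstance
    haveI hPn : (P : Subgroup (N3 G)).Normal := inferInstance
    have hPmem : ∀ g : N3 G, g ^ 3 = 1 → g ∈ (P : Subgroup (N3 G)) := by
      intro g hg
      have hpg : IsPGroup 3 (Subgroup.zpowers g) := by
        have h1 : orderOf g ∣ 3 := orderOf_dvd_of_pow_eq_one hg
        rcases (Nat.dvd_prime Nat.prime_three).1 h1 with h2 | h2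
        · exact IsPGroup.of_card (n := 0) (by rw [Nat.card_zpowers, h2, pow_zero])
        · exact IsPGroup.of_card (n := 1) (by rw [Nat.card_zpowers, h2, pow_one])
      obtain ⟨P', hP'⟩ := hpg.exists_le_sylow
      haveI := Sylow.unique_of_normal P hPn
      rw [Subsingleton.elim P P']
      exact hP' (Subgroup.mem_zpowers g)
    have hPc : IsCyclic (P : Subgroup (N3 G)) := by
      rcases sylow_cases (h.comp _ (N3 G).subtype_injective) (P : Subgroup (N3 G)) P.2 with h1 | ⟨h2, -⟩
      · exact h1
      · exact absurd h2 (by norm_num)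
    have hcomm : ∀ x y : G, x ^ 3 = 1 → y ^ 3 = 1 → x * y = y * x := by
      intro x y hx hy
      have hx' := hPmem ⟨x, mem_N3 hx⟩ (Subtype.ext hx)
      have hy' := hPmem ⟨y, mem_N3 hy⟩ (Subtype.ext hy)
      letI := IsCyclic.commGroup (α := (P : Subgroup (N3 G)))
      have h1 := mul_comm (⟨_, hx'⟩ : (P : Subgroup (N3 G))) ⟨_, hy'⟩
      exact congrArg (fun z : (P : Subgroup (N3 G)) => ((z : N3 G) : G)) h1
    by_cases h3 : 3 ∣ Nat.card G
    swap
    · exact hns (solvable_three' h h3)
    obtain ⟨x, hx⟩ := exists_prime_orderOf_dvd_card' 3 h3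
    have hx3 : x ^ 3 = 1 := by rw [← hx]; exact pow_orderOf_eq_one x
    have hconj : ∀ g : G, g * x * g⁻¹ ∈ Subgroup.zpowers x := by
      intro g
      have h1 : (g * x * g⁻¹) ^ 3 = 1 := by rw [conj_pow, hx3]; group
      refine comm_prime h Nat.prime_three hx ?_ (hcomm _ _ hx3 h1)
      rw [← hx]
      exact orderOf_injective (MulAut.conj g).toMonoidHom (MulAut.conj g).injective x
    haveI hxn : (Subgroup.zpowers x).Normal := by
      refine ⟨fun n hn g => ?_⟩
      obtain ⟨k, rfl⟩ := Subgroup.mem_zpowers_iff.1 hn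
      rw [← conj_zpow]
      exact Subgroup.zpow_mem _ (hconj g) k
    let φ : G →* (ZMod (Nat.card (Subgroup.zpowers x)))ˣ := (IsCyclic.mulAutMulEquiv (Subgroup.zpowers x)).toMonoidHom.comp MulAut.conjNormal
    have hcen : ∀ g, g * x = x * g := by
      intro g
      have h1 : g ∈ φ.ker := Abelianization.commutator_subset_ker φ (by rw [hperf]; exact Subgroup.mem_top g)
      have h2 : (MulAut.conjNormal g : MulAut (Subgroup.zpowers x)) = 1 :=
        (IsCyclic.mulAutMulEquiv (Subgroup.zpowers x)).injective (h1.trans (map_one _).symm)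
      have h3 := congrArg (fun α : MulAut (Subgroup.zpowers x) => ((α ⟨x, Subgroup.mem_zpowers x⟩ : Subgroup.zpowers x) : G)) h2
      have h4 : g * x * g⁻¹ = x := by
        simpa using h3
      calc g * x = (g * x * g⁻¹) * g := by group
        _ = x * g := by rw [h4]
    exact hns (solvable_central3 h hx hcen)

/-- Zassenhaus: a finite group with a free representation is solvable or its elements of order three generate `SL(2,5)` -/
theorem solvable_or_SL25 [Finite G] (h : Free ρ) (hn : (Nat.card G : K) ≠ 0) : Group.IsSolvable G ∨ Nonempty (N3 G ≃* S25) := by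
  rcases N3_cases h hn with h1 | h1
  · exact Or.inl (solvable_of_N3 (Nat.card G) le_rfl h h1)
  · exact Or.inr h1

end CfsgLib.H3Zas
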