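import Mathlib
import Cfsg.Agent.Lib.H3Zas13

/-!
# Free representations from fixed-point-free actions
-/

set_option autoImplicit false
set_option linter.style.haveILetI false

namespace CfsgLib.H3Zas

open Module TensorProduct
open scoped commutatorElement

universe u v w

theorem free_baseChange {G : Type w} [Group G] {k : Type u} [Field k] {F : Type u} [Field F] [Algebra k F] {M : Type v} [AddCommGroup M] [Module k M]
    [FiniteDimensional k M] (ρ₀ : G →* Module.End k M) (h : Free ρ₀) :
    Free (((Module.End.baseChangeHom k F M : Module.End k M →ₐ[k] Module.End F (F ⊗[k] M)) : Module.End k M →* Module.End F (F ⊗[k] M)).comp ρ₀) := by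
  intro g hg v hv
  have hinj : Function.Injective (ρ₀ g - 1 : Module.End k M) := by
    rw [injective_iff_map_eq_zero]
    intro m hm
    rw [LinearMap.sub_apply, Module.End.one_apply, sub_eq_zero] at hm
    exact h g hg m hm
  have hu : IsUnit (ρ₀ g - 1) := by
    rw [Module.End.isUnit_iff]
    exact ⟨hinj, LinearMap.injective_iff_surjective.1 hinj⟩
  have hu2 : IsUnit (Module.End.baseChangeHom k F M (ρ₀ g - 1)) := hu.map (Module.End.baseChangeHom k F M)
  rw [map_sub, map_one, Module.End.isUnit_iff] at hu2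
  apply (injective_iff_map_eq_zero _).1 hu2.1
  rw [LinearMap.sub_apply, Module.End.one_apply, sub_eq_zero]
  exact hv

/-- the package -/
def HasFree (G : Type w) [Group G] : Prop := ∃ (K : Type) (_ : Field K) (_ : IsAlgClosed K) (V : Type v) (_ : AddCommGroup V) (_ : Module K V)
  (_ : FiniteDimensional K V) (_ : Nontrivial V) (ρ : G →* Module.End K V), Free ρ ∧ (Nat.card G : K) ≠ 0

/-- endomorphisms as linear maps -/
def homZ (r : ℕ) [Fact r.Prime] (B : Type v) [AddCommGroup B] [Module (ZMod r) B] : (AddMonoid.End B) →* Module.End (ZMod r) B where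
  toFun f := AddMonoidHom.toZModLinearMap r f
  map_one' := by
    refine LinearMap.ext fun a => ?_
    rfl
  map_mul' f g := by
    refine LinearMap.ext fun a => ?_
    rfl

/-- additive form of an action -/
def addAct {G : Type w} [Group G] {Ω : Type v} [CommGroup Ω] (f : G →* Monoid.End Ω) : G →* AddMonoid.End (Additive Ω) where
  toFun g := MonoidHom.toAdditive (f g)
  map_one' := by rw [map_one]; rfl
  map_mul' g h := by rw [map_mul]; rfl

theorem exists_free_elem {G : Type w} [Group G] [Finite G] {r : ℕ} [hr : Fact r.Prime] {Ω : Type v} [AddCommGroup Ω] [Finite Ω] [Nontrivial Ω]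
    (hΩ : ∀ a : Ω, r • a = 0) (f : G →* AddMonoid.End Ω) (hf : ∀ g, g ≠ 1 → ∀ a, f g a = a → a = 0) (hrG : ¬ r ∣ Nat.card G) : HasFree.{v, w} G := by
  letI : Module (ZMod r) Ω := AddCommGroup.zmodModule (n := r) hΩ
  let ρ₀ : G →* Module.End (ZMod r) Ω := (homZ r Ω).comp f
  have hfree : Free ρ₀ := by
    intro g hg v hv
    exact hf g hg v hv
  haveI : FiniteDimensional (ZMod r) Ω := Module.Finite.of_finite
  haveI : CharP (AlgebraicClosure (ZMod r)) r := charP_of_injective_algebraMap (algebraMap (ZMod r) (AlgebraicClosure (ZMod r))).injective r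
  refine ⟨AlgebraicClosure (ZMod r), inferInstance, inferInstance, AlgebraicClosure (ZMod r) ⊗[ZMod r] Ω, inferInstance, inferInstance,
    inferInstance, inferInstance, _, free_baseChange (F := AlgebraicClosure (ZMod r)) ρ₀ hfree, ?_⟩
  rw [Ne, CharP.cast_eq_zero_iff (AlgebraicClosure (ZMod r)) r]
  exact hrG

section Abel

variable {G : Type w} [Group G] [Finite G] {A : Type v} [CommGroup A] [Finite A] [Nontrivial A] (φ : G →* MulAut A)

theorem exists_free (hφ : ∀ g, g ≠ 1 → ∀ a, φ g a = a → a = 1) : HasFree.{v, w} G := by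
  classical
  obtain ⟨r, hr, hrd⟩ := Nat.exists_prime_and_dvd (n := Nat.card A) (by
    have := Finite.one_lt_card (α := A)
    omega)
  haveI : Fact r.Prime := ⟨hr⟩
  obtain ⟨Ω, hΩ⟩ : ∃ Ω : Subgroup A, ∀ a : A, a ∈ Ω ↔ a ^ r = 1 := ⟨(powMonoidHom r : A →* A).ker, fun a => Iff.rfl⟩
  obtain ⟨a0, ha0⟩ := exists_prime_orderOf_dvd_card' r hrd
  have ha0Ω : a0 ∈ Ω := by rw [hΩ, ← ha0]; exact pow_orderOf_eq_one a0
  have ha01 : a0 ≠ 1 := by
    rintro rfl
    rw [orderOf_one] at ha0
    exact hr.one_lt.ne ha0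
  have hmap : ∀ g : G, ∀ a ∈ Ω, φ g a ∈ Ω := by
    intro g a ha
    rw [hΩ] at ha ⊢
    rw [← map_pow, ha, map_one]
  let res : G → (Ω →* Ω) := fun g => ((φ g).toMonoidHom.comp Ω.subtype).codRestrict Ω (fun a => hmap g a a.2)
  have hres : ∀ g (a : Ω), ((res g a : Ω) : A) = φ g a := fun _ _ => rfl
  let resH : G →* Monoid.End Ω :=
    { toFun := res
      map_one' := MonoidHom.ext fun a => Subtype.ext (by rw [hres, map_one]; rfl)
      map_mul' := fun g h => MonoidHom.ext fun a => Subtype.ext (by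
        change ((res (g * h) a : Ω) : A) = ((res g (res h a) : Ω) : A)
        rw [hres, map_mul, hres, hres]; rfl) }
  haveI : Nontrivial Ω := ⟨⟨a0, ha0Ω⟩, 1, fun h0 => ha01 (congrArg Subtype.val h0)⟩
  haveI : Finite (Additive Ω) := inferInstanceAs (Finite Ω)
  haveI : Nontrivial (Additive Ω) := inferInstanceAs (Nontrivial Ω)
  refine exists_free_elem (r := r) (Ω := Additive Ω) (fun x => by
    change Additive.ofMul (x.toMul ^ r) = 0
    have h1 : x.toMul ^ r = 1 := Subtype.ext ((hΩ _).1 x.toMul.2)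
    rw [h1]; rfl) (addAct resH) ?_ ?_
  · intro g hg a ha
    have h1 : res g a.toMul = a.toMul := ha
    have h2 : a.toMul = 1 := Subtype.ext (hφ g hg (a.toMul : Ω) (congrArg Subtype.val h1))
    exact h2
  intro hdvd
  obtain ⟨g, hg⟩ := exists_prime_orderOf_dvd_card' r hdvd
  have hg1 : g ≠ 1 := by
    rintro rfl
    rw [orderOf_one] at hg
    exact hr.one_lt.ne hg
  -- the r-group ⟨g⟩ acts on Ω
  letI : MulAction (Subgroup.zpowers g) Ω :=
    { smul := fun x a => res x a
      one_smul := fun a => Subtype.ext (by change φ 1 a = a; rw [map_one]; rfl)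
      mul_smul := fun x y a => Subtype.ext (by change φ (x * y) a = φ x (φ y a); rw [map_mul]; rfl) }
  have hpg : IsPGroup r (Subgroup.zpowers g) := IsPGroup.of_card (n := 1) (by rw [Nat.card_zpowers, hg, pow_one])
  have h1 := hpg.card_modEq_card_fixedPoints Ω
  have h2 : Nat.card (MulAction.fixedPoints (Subgroup.zpowers g) Ω) = 1 := by
    rw [Nat.card_eq_one_iff_unique]
    refine ⟨⟨?_⟩, ⟨⟨1, fun x => Subtype.ext (by change φ x 1 = 1; rw [map_one])⟩⟩⟩
    have hone : ∀ a : MulAction.fixedPoints (Subgroup.zpowers g) Ω, ((a : Ω) : A) = 1 := by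
      intro a
      have h3 := a.2 ⟨g, Subgroup.mem_zpowers g⟩
      exact hφ g hg1 _ (congrArg Subtype.val h3)
    intro a b
    exact Subtype.ext (Subtype.ext ((hone a).trans (hone b).symm))
  rw [h2] at h1
  have h3 : r ∣ Nat.card Ω := by
    have := orderOf_dvd_natCard (⟨a0, ha0Ω⟩ : Ω)
    rwa [Subgroup.orderOf_mk, ha0] at this
  have h4 : Nat.card Ω ≡ 0 [MOD r] := (Nat.modEq_zero_iff_dvd).2 h3
  have h5 := h4.symm.trans h1
  have h6 : r ∣ 1 := (Nat.modEq_zero_iff_dvd).1 h5.symm
  exact hr.one_lt.ne' (Nat.dvd_one.1 h6)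

end Abel

end CfsgLib.H3Zas
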