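import Mathlib
import Cfsg.Agent.Lib.H3Zas14

/-!
# Free representations from fixed-point-free actions (2)
-/

set_option autoImplicit false
set_option linter.style.haveILetI false

namespace CfsgLib.H3Zas

open Module

universe u v w

variable {G : Type w} [Group G] [Finite G] {A : Type v} [Group A] [Finite A] [Nontrivial A] (φ : G →* MulAut A)

theorem isZGroup_of_fpf (hφ : ∀ g, g ≠ 1 → ∀ a, φ g a = a → a = 1) (h2 : ¬ 2 ∣ Nat.card G) : IsZGroup G := by
  refine ⟨fun p hp P => ?_⟩
  haveI : Fact p.Prime := ⟨hp⟩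
  haveI : Finite (A ⋊[φ] G) := Finite.of_equiv _ (SemidirectProduct.equivProd (φ := φ)).symm
  have hF : CfsgLib.FrobAct.Fpf ((P : Subgroup G).map (SemidirectProduct.inr : G →* A ⋊[φ] G)) (SemidirectProduct.inl : A →* A ⋊[φ] G).range := by
    apply CfsgLib.FrobAct.Fpf.of_forall
    · haveI : (SemidirectProduct.inl : A →* A ⋊[φ] G).range.Normal := by
        rw [SemidirectProduct.range_inl_eq_ker_rightHom]; infer_instance
      rw [Subgroup.normalizer_eq_top]; exact le_top
    · rintro _ ⟨g, hg, rfl⟩ hg1 _ ⟨a, rfl⟩ hc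
      have hg1' : g ≠ 1 := by rintro rfl; exact hg1 (map_one _)
      have h1 : φ g a = a := by
        apply SemidirectProduct.inl_injective (φ := φ)
        rw [SemidirectProduct.inl_aut, hc, map_inv, mul_inv_cancel_right]
      rw [hφ g hg1' a h1, map_one]
  have hV : (SemidirectProduct.inl : A →* A ⋊[φ] G).range ≠ ⊥ := by
    obtain ⟨a, ha⟩ := exists_ne (1 : A)
    intro h0
    have h1 : (SemidirectProduct.inl a : A ⋊[φ] G) ∈ (SemidirectProduct.inl : A →* A ⋊[φ] G).range := ⟨a, rfl⟩
    rw [h0, Subgroup.mem_bot] at h1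
    exact ha (SemidirectProduct.inl_injective (h1.trans (map_one _).symm))
  let e := (P : Subgroup G).equivMapOfInjective (SemidirectProduct.inr : G →* A ⋊[φ] G) SemidirectProduct.inr_injective
  have hPg : IsPGroup p ((P : Subgroup G).map (SemidirectProduct.inr : G →* A ⋊[φ] G)) := P.2.of_equiv e
  rcases hF.cyclic_or_quaternion hV hPg with h1 | ⟨-, n, ⟨f⟩⟩
  · exact isCyclic_of_surjective e.symm e.symm.surjective
  · exfalso
    apply h2
    refine Dvd.dvd.trans ?_ (Subgroup.card_subgroup_dvd_card (P : Subgroup G))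
    haveI : NeZero (2 ^ n) := ⟨by positivity⟩
    rw [Nat.card_congr (e.trans f).toEquiv, Nat.card_eq_fintype_card, QuaternionGroup.card]
    exact dvd_mul_of_dvd_left (by norm_num) _

theorem hasFree_of_even (hφ : ∀ g, g ≠ 1 → ∀ a, φ g a = a → a = 1) (h2 : 2 ∣ Nat.card G) : HasFree.{v, w} G := by
  haveI : Fact (Nat.Prime 2) := ⟨Nat.prime_two⟩
  obtain ⟨t, ht⟩ := exists_prime_orderOf_dvd_card' 2 h2
  have ht1 : t ≠ 1 := by
    rintro rfl
    rw [orderOf_one] at ht
    exact absurd ht (by norm_num)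
  have ht2 : t * t = 1 := by rw [← pow_two, ← ht]; exact pow_orderOf_eq_one t
  have hfp : MonoidHom.FixedPointFree (φ t) := fun a ha => hφ t ht1 a ha
  have hinv : Function.Involutive (φ t) := by
    intro a
    change (φ t * φ t) a = a
    rw [← map_mul, ht2, map_one]; rfl
  letI : CommGroup A := hfp.commGroupOfInvolutive hinv
  exact exists_free φ hφ

theorem hasFree_of_nonsolvable (hφ : ∀ g, g ≠ 1 → ∀ a, φ g a = a → a = 1) (hns : ¬ Group.IsSolvable G) : HasFree.{v, w} G := by
  by_cases h2 : 2 ∣ Nat.card G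
  · exact hasFree_of_even φ hφ h2
  · haveI := isZGroup_of_fpf φ hφ h2
    exact absurd (inferInstance : Group.IsSolvable G) hns

end CfsgLib.H3Zas
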