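import Mathlib
import Cfsg.Agent.Lib.H3Zas11
import Cfsg.Agent.Lib.H3Syl

/-!
# Facts on `SL(2,5)`
-/

set_option autoImplicit false
set_option linter.style.haveILetI false

namespace CfsgLib.H3Zas

open Subgroup Equiv

universe u v w

def iM : S25 := ⟨!![2, 0; 0, 3], by decide⟩
def jM : S25 := ⟨!![0, 1; 4, 0], by decide⟩
def xM : S25 := ⟨!![3, 4; 3, 1], by decide⟩

theorem iM_four : iM ^ 4 = 1 := by decide +kernel
theorem iM_two : iM ^ 2 ≠ 1 := by decide +kernel
theorem ijM_two : iM ^ 2 = jM ^ 2 := by decide +kernel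
theorem ijM_ne : iM * jM ≠ jM * iM := by decide +kernel
theorem jiM : jM * iM = iM⁻¹ * jM := by decide +kernel
theorem xM_three : xM ^ 3 = 1 := by decide +kernel
theorem xM_ne : xM ≠ 1 := by decide +kernel
theorem xiM : xM⁻¹ * iM * xM = jM := by decide +kernel
theorem xjM : xM⁻¹ * jM * xM = iM * jM := by decide +kernel

theorem comm_of_dvd_four {Q : Type u} [Group Q] [Finite Q] (h : Nat.card Q ∣ 4) (a b : Q) : a * b = b * a := by
  have h4 : (4 : ℕ) = 2 ^ 2 := by norm_num
  rw [h4, Nat.dvd_prime_pow Nat.prime_two] at h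
  obtain ⟨k, hk, hc⟩ := h
  haveI : Fact (Nat.Prime 2) := ⟨Nat.prime_two⟩
  interval_cases k
  · rw [pow_zero] at hc
    haveI := (Nat.card_eq_one_iff_unique.1 hc).1
    exact Subsingleton.elim _ _
  · rw [pow_one] at hc
    haveI : IsCyclic Q := isCyclic_of_prime_card hc
    letI := IsCyclic.commGroup (α := Q)
    exact mul_comm a b
  · exact IsPGroup.commutative_of_card_eq_prime_sq (p := 2) hc a b

theorem syl_dvd_five {N : Type u} [Group N] [Finite N] (hN : Nat.card N = 120) {i j x : N} (hi : i ^ 4 = 1)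
    (hij : i ^ 2 = j ^ 2) (hne : i * j ≠ j * i) (hji : j * i = i⁻¹ * j) (hx3 : x ^ 3 = 1) (hx1 : x ≠ 1) (hxi : x⁻¹ * i * x = j)
    (hxj : x⁻¹ * j * x = i * j) : Nat.card (Sylow 2 N) ∣ 5 := by
  haveI : Fact (Nat.Prime 2) := ⟨Nat.prime_two⟩
  have hpow : ∀ g : N, g ^ 4 = 1 → IsPGroup 2 (zpowers g) := by
    intro g hg
    have h1 : orderOf g ∣ 2 ^ 2 := orderOf_dvd_of_pow_eq_one (by norm_num; exact hg)
    obtain ⟨k, -, hk⟩ := (Nat.dvd_prime_pow Nat.prime_two).1 h1
    exact IsPGroup.of_card (n := k) (by rw [Nat.card_zpowers, hk])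
  have hj : j ^ 4 = 1 := by
    have : j ^ 4 = (j ^ 2) ^ 2 := by rw [← pow_mul]
    rw [this, ← hij, ← pow_mul]; exact hi
  have hjn : zpowers j ≤ normalizer (zpowers i : Set N) := by
    rw [zpowers_le]
    rw [mem_normalizer_iff]
    have hc : j * i * j⁻¹ = i⁻¹ := by rw [hji]; group
    have hc' : j⁻¹ * i * j = i⁻¹ := by
      calc j⁻¹ * i * j = j⁻¹ * (i⁻¹)⁻¹ * j := by rw [inv_inv]
        _ = j⁻¹ * (j * i * j⁻¹)⁻¹ * j := by rw [hc]
        _ = i⁻¹ := by group
    intro n
    constructor
    · intro hn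
      obtain ⟨k, rfl⟩ := mem_zpowers_iff.1 hn
      rw [← conj_zpow, hc]
      exact Subgroup.zpow_mem _ (Subgroup.inv_mem _ (mem_zpowers i)) k
    · intro hn
      obtain ⟨k, hk⟩ := mem_zpowers_iff.1 hn
      have : n = (j⁻¹ * i * j) ^ k := by
        have h1 : (j⁻¹ * i * j) ^ k = j⁻¹ * i ^ k * j := by
          have := conj_zpow (i := k) (a := j⁻¹) (b := i)
          rw [inv_inv] at this
          exact this
        rw [h1, hk]; group
      rw [this, hc']
      exact Subgroup.zpow_mem _ (Subgroup.inv_mem _ (mem_zpowers i)) k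
  have hQ : IsPGroup 2 (zpowers i ⊔ zpowers j : Subgroup N) := IsPGroup.to_sup_of_normal_left' (hpow i hi) (hpow j hj) hjn
  set Q : Subgroup N := zpowers i ⊔ zpowers j with hQd
  have hiQ : i ∈ Q := mem_sup_left (mem_zpowers i)
  have hjQ : j ∈ Q := mem_sup_right (mem_zpowers j)
  obtain ⟨P, hP⟩ := hQ.exists_le_sylow
  have hPc : Nat.card P = 8 := by
    rw [P.card_eq_multiplicity, hN]
    have : (120 : ℕ).factorization 2 = 3 := by
      have h1 : (120 : ℕ) = 2 ^ 3 * 15 := by norm_num
      rw [h1, Nat.factorization_mul (by norm_num) (by norm_num), Finsupp.add_apply, Nat.Prime.factorization_pow Nat.prime_two,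
        Finsupp.single_eq_same, Nat.factorization_eq_zero_of_not_dvd (by norm_num)]
    rw [this]; norm_num
  have hQP : Q = P := by
    apply Subgroup.eq_of_le_of_card_ge hP
    have h8 : Nat.card Q ∣ 2 ^ 3 := by
      have := Subgroup.card_dvd_of_le hP
      rw [hPc] at this
      exact this
    obtain ⟨k, hk, hc⟩ := (Nat.dvd_prime_pow Nat.prime_two).1 h8
    by_cases hk3 : k = 3
    · rw [hc, hk3, hPc]; norm_num
    · exfalso
      apply hne
      have h4 : Nat.card Q ∣ 4 := by
        rw [hc]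
        have : (4 : ℕ) = 2 ^ 2 := by norm_num
        rw [this]
        exact pow_dvd_pow 2 (by omega)
      exact congrArg Subtype.val (comm_of_dvd_four h4 (⟨i, hiQ⟩ : Q) ⟨j, hjQ⟩)
  have hxn : x ∈ normalizer ((P : Subgroup N) : Set N) := by
    have h1 : Q.map (MulAut.conj x⁻¹).toMonoidHom ≤ Q := by
      rw [hQd, Subgroup.map_sup, sup_le_iff, MonoidHom.map_zpowers, MonoidHom.map_zpowers, zpowers_le, zpowers_le]
      constructor
      · have : (MulAut.conj x⁻¹).toMonoidHom i = j := by
          change x⁻¹ * i * x⁻¹⁻¹ = j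
          rw [inv_inv, hxi]
        rw [this]; exact hjQ
      · have : (MulAut.conj x⁻¹).toMonoidHom j = i * j := by
          change x⁻¹ * j * x⁻¹⁻¹ = i * j
          rw [inv_inv, hxj]
        rw [this]; exact Subgroup.mul_mem _ hiQ hjQ
    have h2 : x⁻¹ ∈ normalizer (Q : Set N) := by
      apply mem_normalizer_fintype
      intro n hn
      exact h1 (Subgroup.mem_map_of_mem _ hn)
    rw [← hQP]
    have h3 := Subgroup.inv_mem _ h2
    rwa [inv_inv] at h3
  have h8 : 8 ∣ Nat.card (normalizer ((P : Subgroup N) : Set N)) := by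
    rw [← hPc]
    exact Subgroup.card_dvd_of_le (le_normalizer)
  have h3 : 3 ∣ Nat.card (normalizer ((P : Subgroup N) : Set N)) := by
    have h1 := orderOf_dvd_natCard (⟨x, hxn⟩ : normalizer ((P : Subgroup N) : Set N))
    rw [Subgroup.orderOf_mk, orderOf_eq_prime hx3 hx1] at h1
    exact h1
  have h24 : 24 ∣ Nat.card (normalizer ((P : Subgroup N) : Set N)) := by
    have : (24 : ℕ) = 8 * 3 := by norm_num
    rw [this]
    exact Nat.Coprime.mul_dvd_of_dvd_of_dvd (by norm_num) h8 h3
  obtain ⟨k, hk⟩ := h24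
  have h5 := Subgroup.card_mul_index (normalizer ((P : Subgroup N) : Set N))
  rw [hN, hk] at h5
  rw [H3Syl.card_sylow_index P]
  refine ⟨k, ?_⟩
  have : 24 * (k * (normalizer ((P : Subgroup N) : Set N)).index) = 24 * 5 :=
    (mul_assoc _ _ _).symm.trans (h5.trans (by norm_num))
  have h6 := Nat.eq_of_mul_eq_mul_left (by norm_num) this
  rw [← h6]; ring

theorem card_center_S25 : Nat.card (center S25) = 2 := by
  haveI : Fact (Nat.Prime 5) := ⟨by norm_num⟩
  obtain ⟨g, hg, hgc⟩ := exists_g
  have hgk : Nat.card g.ker = 2 := by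
    have := card_ker_mul g hg
    rw [card_a5', card_S25] at this
    omega
  have h1 : center S25 ≤ g.ker := by
    -- the image of the centre is central in `A₅`
    intro z hz
    rw [MonoidHom.mem_ker]
    have h2 : g z ∈ center (alternatingGroup (Fin 5)) := by
      rw [mem_center_iff]
      intro a
      obtain ⟨s, rfl⟩ := hg a
      rw [← map_mul, ← map_mul, mem_center_iff.1 hz s]
    haveI : IsSimpleGroup (alternatingGroup (Fin 5)) := alternatingGroup.isSimpleGroup (by rw [Nat.card_fin])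
    rcases (inferInstance : (center (alternatingGroup (Fin 5))).Normal).eq_bot_or_eq_top with h3 | h3
    · rw [h3, mem_bot] at h2; exact h2
    · exfalso
      have h4 : (⟨swap 0 1 * swap 1 2, Equiv.Perm.mem_alternatingGroup.2 (by decide)⟩ : alternatingGroup (Fin 5)) ∈ center (alternatingGroup (Fin 5)) := by
        rw [h3]; exact mem_top _
      have h5 := mem_center_iff.1 h4 ⟨swap 0 1 * swap 0 3, Equiv.Perm.mem_alternatingGroup.2 (by decide)⟩
      exact absurd (congrArg Subtype.val h5) (by decide)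
  rw [le_antisymm h1 hgc, hgk]

section

variable {N : Type u} [Group N] (e : N ≃* S25)

include e

theorem e_finite : Finite N := Finite.of_equiv _ e.symm.toEquiv

theorem e_card : Nat.card N = 120 := by rw [Nat.card_congr e.toEquiv, card_S25]

theorem e_perfect : commutator N = ⊤ := by
  have h1 : (commutator N).map e.toMonoidHom = ⊤ := by
    rw [_root_.commutator_def, Subgroup.map_commutator, ← MonoidHom.range_eq_map, MonoidHom.range_eq_top.2 e.surjective]
    exact S25_perfect
  have h2 : (⊤ : Subgroup N).map e.toMonoidHom = ⊤ := by rw [← MonoidHom.range_eq_map, MonoidHom.range_eq_top.2 e.surjective]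
  exact Subgroup.map_injective (f := e.toMonoidHom) e.injective (h1.trans h2.symm)

theorem e_center : Nat.card (center N) = 2 := by
  rw [← card_center_S25]
  exact Nat.card_congr (Subgroup.centerCongr e).toEquiv

theorem e_syl : Nat.card (Sylow 2 N) ∣ 5 := by
  haveI := e_finite e
  have ht : ∀ {a b : S25}, a = b → e.symm a = e.symm b := fun h => by rw [h]
  refine syl_dvd_five (e_card e) (i := e.symm iM) (j := e.symm jM) (x := e.symm xM) ?_ ?_ ?_ ?_ ?_ ?_ ?_ ?_
  · rw [← map_pow, iM_four, map_one]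
  · rw [← map_pow, ← map_pow, ijM_two]
  · rw [← map_mul, ← map_mul]
    exact fun h => ijM_ne (e.symm.injective h)
  · rw [← map_mul, jiM, map_mul, map_inv]
  · rw [← map_pow, xM_three, map_one]
  · exact fun h => xM_ne (e.symm.injective (h.trans (map_one _).symm))
  · rw [← map_inv, ← map_mul, ← map_mul, xiM]
  · rw [← map_inv, ← map_mul, ← map_mul, xjM, map_mul]

theorem e_four : ∃ i : N, i ^ 4 = 1 ∧ i ^ 2 ≠ 1 := by
  refine ⟨e.symm iM, by rw [← map_pow, iM_four, map_one], ?_⟩
  rw [← map_pow]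
  exact fun h => iM_two (e.symm.injective (h.trans (map_one _).symm))

end

end CfsgLib.H3Zas
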