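import Mathlib
import Cfsg.Agent.Lib.H3Zas16

/-!
# Normal subgroups and automorphisms of `SL(2,5)`
-/

set_option autoImplicit false
set_option linter.style.haveILetI false

namespace CfsgLib.H3Zas

open Subgroup
open scoped commutatorElement

universe u v w

variable {N : Type u} [Group N] (e : N ≃* S25)

include e

theorem e_normal (K : Subgroup N) [K.Normal] : K ≤ center N ∨ K = ⊤ := by
  obtain ⟨g, hg, hgc⟩ := exists_g
  let f : N →* alternatingGroup (Fin 5) := g.comp e.toMonoidHom
  have hf : Function.Surjective f := hg.comp e.surjective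
  have hfc : f.ker ≤ center N := by
    intro x hx
    have h1 : e x ∈ center S25 := hgc hx
    rw [mem_center_iff] at h1 ⊢
    intro y
    apply e.injective
    rw [map_mul, map_mul, h1]
  haveI : IsSimpleGroup (alternatingGroup (Fin 5)) := alternatingGroup.isSimpleGroup (by rw [Nat.card_fin])
  haveI : (K.map f).Normal := Subgroup.Normal.map inferInstance f hf
  rcases (inferInstance : (K.map f).Normal).eq_bot_or_eq_top with h3 | h3
  · left
    rw [Subgroup.map_eq_bot_iff] at h3
    exact h3.trans hfc
  · right
    have h4 : commutator N ≤ ⁅K, K⁆ := by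
      refine comm_comm K f.ker hfc ?_
      intro x
      obtain ⟨d, hd, hde⟩ := (by rw [h3]; exact mem_top _ : f x ∈ K.map f)
      refine ⟨d, hd, d⁻¹ * x, ?_, by group⟩
      rw [MonoidHom.mem_ker, map_mul, map_inv, hde, inv_mul_cancel]
    rw [e_perfect e] at h4
    exact top_le_iff.1 (h4.trans (Subgroup.commutator_le_left K K))

theorem e_aut_inj (α : MulAut N) (hα : ∀ P : Sylow 2 N, α • P = P) : α = 1 := by
  haveI := e_finite e
  haveI : Fact (Nat.Prime 2) := ⟨Nat.prime_two⟩
  let K1 : Subgroup N := (MulAction.toPermHom N (Sylow 2 N)).ker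
  have hK1 : ∀ n : N, n⁻¹ * α n ∈ K1 := by
    intro n
    rw [MonoidHom.mem_ker]
    refine Equiv.ext fun P => ?_
    change (n⁻¹ * α n) • P = P
    have h1 : α • (n • P) = α n • (α • P) := by
      change α • (MulAut.conj n • P) = MulAut.conj (α n) • (α • P)
      rw [smul_smul, smul_smul]
      congr 1
      ext m
      simp only [MulAut.mul_apply, MulAut.conj_apply, map_mul, map_inv]
    rw [hα, hα] at h1
    rw [mul_smul, ← h1, ← mul_smul, inv_mul_cancel, one_smul]
  have hcen : K1 ≤ center N := by
    rcases e_normal e K1 with h1 | h1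
    · exact h1
    · exfalso
      obtain ⟨P⟩ : Nonempty (Sylow 2 N) := inferInstance
      have hPn : (P : Subgroup N).Normal := by
        rw [← normalizer_eq_top_iff, eq_top_iff]
        intro n _
        have h2 : n ∈ K1 := by rw [h1]; exact mem_top n
        have h3 : n • P = P := congrArg (fun σ : Equiv.Perm (Sylow 2 N) => σ P) h2
        exact Sylow.smul_eq_iff_mem_normalizer.1 h3
      have hPc : Nat.card P = 8 := by
        rw [P.card_eq_multiplicity, e_card e]
        have : (120 : ℕ).factorization 2 = 3 := by
          have h1 : (120 : ℕ) = 2 ^ 3 * 15 := by norm_num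
          rw [h1, Nat.factorization_mul (by norm_num) (by norm_num), Finsupp.add_apply, Nat.Prime.factorization_pow Nat.prime_two,
            Finsupp.single_eq_same, Nat.factorization_eq_zero_of_not_dvd (by norm_num)]
        rw [this]; norm_num
      rcases e_normal e (P : Subgroup N) with h2 | h2
      · have := Subgroup.card_le_of_le h2
        rw [hPc, e_center e] at this
        omega
      · have h3 : Nat.card (P : Subgroup N) = Nat.card N := by rw [h2, card_top]
        rw [hPc, e_card e] at h3
        omega
  have hfix : commutator N ≤ (α.toMonoidHom).eqLocus (MonoidHom.id N) := by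
    rw [_root_.commutator_def, Subgroup.commutator_le]
    intro a _ b _
    change α ⁅a, b⁆ = ⁅a, b⁆
    have ha := mem_center_iff.1 (hcen (hK1 a))
    have hb := mem_center_iff.1 (hcen (hK1 b))
    have ea : α a = a * (a⁻¹ * α a) := by group
    have eb : α b = b * (b⁻¹ * α b) := by group
    rw [map_commutatorElement, ea, eb]
    set z := a⁻¹ * α a
    set z' := b⁻¹ * α b
    rw [commutatorElement_def, commutatorElement_def]
    have e1 : a * z * (b * z') = a * b * z * z' := by
      rw [mul_assoc a z, ← mul_assoc z b, ← ha b]; group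
    have e2 : (b * z') * (a * z) = b * a * z * z' := by
      rw [mul_assoc b z', ← mul_assoc z' a, ← hb a, mul_assoc a z', ← hb z, ← mul_assoc, ← mul_assoc]
    have e3 : a * z * (b * z') * (a * z)⁻¹ * (b * z')⁻¹ = (a * z * (b * z')) * ((b * z') * (a * z))⁻¹ := by group
    rw [e3, e1, e2]; group
  rw [e_perfect e] at hfix
  ext n
  exact hfix (mem_top n)

theorem e_aut_card : Nat.card (MulAut N) ∣ 120 := by
  haveI := e_finite e
  haveI : Fact (Nat.Prime 2) := ⟨Nat.prime_two⟩
  have hinj : Function.Injective (MulAction.toPermHom (MulAut N) (Sylow 2 N)) := by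
    rw [injective_iff_map_eq_one]
    intro α hα
    exact e_aut_inj e α (fun P => congrArg (fun σ : Equiv.Perm (Sylow 2 N) => σ P) hα)
  have h1 := Subgroup.card_dvd_of_injective _ hinj
  rw [Nat.card_perm] at h1
  refine h1.trans ?_
  have h5 : Nat.card (Sylow 2 N) ≤ 5 := Nat.le_of_dvd (by norm_num) (e_syl e)
  exact Nat.factorial_dvd_factorial h5

end CfsgLib.H3Zas
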