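import Mathlib
import Cfsg.Agent.Lib.H3Zas15
import Cfsg.Agent.Lib.H3Zas17

/-!
# Structure of nonsolvable groups with a free representation
-/

set_option autoImplicit false
set_option linter.style.haveILetI false

namespace CfsgLib.H3Zas

open Module Subgroup
open scoped commutatorElement

universe u v w

variable {K : Type u} [Field K] {V : Type v} [AddCommGroup V] [Module K V] {G : Type w} [Group G]
  {ρ : G →* Module.End K V}
variable [IsAlgClosed K] [FiniteDimensional K V] [Nontrivial V] [Finite G]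

theorem inv_unique (h : Free ρ) {a b : G} (ha1 : a ≠ 1) (ha : a ^ 2 = 1) (hb1 : b ≠ 1) (hb : b ^ 2 = 1) : a = b :=
  h.injective ((h.neg_one ha1 ha).trans (h.neg_one hb1 hb).symm)

theorem neg_of_four (h : Free ρ) {a : G} (ha : a ^ 4 = 1) (ha2 : a ^ 2 ≠ 1) : ρ a * ρ a = -1 := by
  rw [← map_mul, ← pow_two]
  exact h.neg_one ha2 (by rw [← pow_mul]; exact ha)

theorem card_inf_centralizer {N : Subgroup G} (e : N ≃* S25) : Nat.card (N ⊓ centralizer (N : Set G) : Subgroup G) = 2 := by
  rw [← e_center e, Nat.card_congr ((center N).equivMapOfInjective N.subtype N.subtype_injective).toEquiv]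
  congr 2
  ext x
  constructor
  · rintro ⟨hx, hxc⟩
    refine ⟨⟨x, hx⟩, ?_, rfl⟩
    rw [SetLike.mem_coe, mem_center_iff]
    intro y
    exact Subtype.ext (mem_centralizer_iff.1 hxc y y.2)
  · rintro ⟨y, hy, rfl⟩
    refine ⟨y.2, ?_⟩
    change (y : G) ∈ centralizer (N : Set G)
    rw [mem_centralizer_iff]
    intro z hz
    exact congrArg Subtype.val (mem_center_iff.1 hy ⟨z, hz⟩)

theorem not_mem_of_order (N : Subgroup G) (e : N ≃* S25) {c : G} (hc : c ∈ centralizer (N : Set G)) (hcN : c ∈ N)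
    (h2 : c ^ 2 ≠ 1) : False := by
  have h1 := card_inf_centralizer e
  have h3 := orderOf_dvd_natCard (⟨c, Subgroup.mem_inf.2 ⟨hcN, hc⟩⟩ : (N ⊓ centralizer (N : Set G) : Subgroup G))
  rw [h1, Subgroup.orderOf_mk] at h3
  exact h2 (orderOf_dvd_iff_pow_eq_one.1 h3)

/-- the order of the centralizer of `SL(2,5)` -/
theorem centralizer_card (h : Free ρ) (e : N3 G ≃* S25) :
    ¬ 3 ∣ Nat.card (centralizer (N3 G : Set G)) ∧ ¬ 5 ∣ Nat.card (centralizer (N3 G : Set G)) ∧
    ¬ 4 ∣ Nat.card (centralizer (N3 G : Set G)) := by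
  refine ⟨?_, ?_, ?_⟩
  · intro h3
    haveI : Fact (Nat.Prime 3) := ⟨Nat.prime_three⟩
    obtain ⟨x, hx⟩ := exists_prime_orderOf_dvd_card' 3 h3
    have hx3 : (x : G) ^ 3 = 1 := by rw [← hx, ← Subgroup.orderOf_coe]; exact pow_orderOf_eq_one _
    refine not_mem_of_order (N3 G) e x.2 (mem_N3 hx3) ?_
    intro h2
    have h1 : orderOf (x : G) ∣ 2 := orderOf_dvd_of_pow_eq_one h2
    rw [Subgroup.orderOf_coe, hx] at h1
    exact absurd h1 (by norm_num)
  · intro h5
    haveI : Fact (Nat.Prime 5) := ⟨by norm_num⟩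
    obtain ⟨x, hx⟩ := exists_prime_orderOf_dvd_card' 5 h5
    obtain ⟨y, hy⟩ := exists_prime_orderOf_dvd_card' (G := N3 G) 5 (by rw [e_card e]; norm_num)
    have hxG : orderOf (x : G) = 5 := by rw [Subgroup.orderOf_coe, hx]
    have hyG : orderOf (y : G) = 5 := by rw [Subgroup.orderOf_coe, hy]
    have h1 := comm_prime h (by norm_num) hyG hxG (mem_centralizer_iff.1 x.2 y y.2)
    have h2 : (x : G) ∈ N3 G := (zpowers_le.2 y.2) h1
    refine not_mem_of_order (N3 G) e x.2 h2 ?_
    intro h2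
    have h1 : orderOf (x : G) ∣ 2 := orderOf_dvd_of_pow_eq_one h2
    rw [hxG] at h1
    exact absurd h1 (by norm_num)
  · intro h4
    haveI : Fact (Nat.Prime 2) := ⟨Nat.prime_two⟩
    obtain ⟨L, hL⟩ := Sylow.exists_subgroup_card_pow_prime (G := centralizer (N3 G : Set G)) 2 (n := 2) (by norm_num; exact h4)
    norm_num at hL
    by_cases hall : ∀ a ∈ L, a ^ 2 = 1
    · have hle : Nat.card L ≤ 2 := by
        by_contra hlt
        push Not at hlt
        obtain ⟨a, b, hab, ha1, hb1⟩ : ∃ a b : L, a ≠ b ∧ a ≠ 1 ∧ b ≠ 1 := by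
          haveI := Fintype.ofFinite L
          rw [Nat.card_eq_fintype_card] at hlt
          obtain ⟨a, b, c, hab, hac, hbc⟩ := Fintype.two_lt_card_iff.1 hlt
          by_cases ha : a = 1
          · exact ⟨b, c, hbc, fun h0 => hab (ha.trans h0.symm), fun h0 => hac (ha.trans h0.symm)⟩
          · by_cases hb : b = 1
            · exact ⟨a, c, hac, ha, fun h0 => hbc (hb.trans h0.symm)⟩
            · exact ⟨a, b, hab, ha, hb⟩
        apply hab
        have h1 : ((a : centralizer (N3 G : Set G)) : G) = ((b : centralizer (N3 G : Set G)) : G) := by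
          refine inv_unique h ?_ ?_ ?_ ?_
          · intro h0; exact ha1 (Subtype.ext (Subtype.ext h0))
          · exact congrArg Subtype.val (hall a a.2)
          · intro h0; exact hb1 (Subtype.ext (Subtype.ext h0))
          · exact congrArg Subtype.val (hall b b.2)
        exact Subtype.ext (Subtype.ext h1)
      omega
    · push Not at hall
      obtain ⟨c, hcL, hc2⟩ := hall
      have hc4 : (c : G) ^ 4 = 1 := by
        have h1 : (⟨c, hcL⟩ : L) ^ 4 = 1 := by
          have := pow_card_eq_one' (x := (⟨c, hcL⟩ : L))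
          rwa [hL] at this
        exact congrArg (fun x : L => ((x : centralizer (N3 G : Set G)) : G)) h1
      have hc2' : (c : G) ^ 2 ≠ 1 := fun h0 => hc2 (Subtype.ext h0)
      obtain ⟨i, hi4, hi2⟩ := e_four e
      have hi4' : (i : G) ^ 4 = 1 := congrArg Subtype.val hi4
      have hi2' : (i : G) ^ 2 ≠ 1 := fun h0 => hi2 (Subtype.ext h0)
      have h1 := eq_or_inv_of_sq h (neg_of_four h hi4' hi2') (neg_of_four h hc4 hc2') (mem_centralizer_iff.1 c.2 i i.2)
      refine not_mem_of_order (N3 G) e c.2 ?_ hc2'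
      rcases h1 with h1 | h1
      · rw [h1]; exact i.2
      · rw [h1]; exact inv_mem i.2

theorem index_dvd_two (e : N3 G ≃* S25) : (N3 G ⊔ centralizer (N3 G : Set G)).index ∣ 2 := by
  have h1 : (MulAut.conjNormal : G →* MulAut (N3 G)).ker = centralizer (N3 G : Set G) := by
    ext g
    rw [MonoidHom.mem_ker, mem_centralizer_iff]
    constructor
    · intro h x hx
      have h2 := congrArg (fun α : MulAut (N3 G) => ((α ⟨x, hx⟩ : N3 G) : G)) h
      have h3 : g * x * g⁻¹ = x := by simpa using h2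
      calc x * g = (g * x * g⁻¹) * g := by rw [h3]
        _ = g * x := by group
    · intro h
      ext x
      rw [MulAut.conjNormal_apply, MulAut.one_apply, ← h x x.2, mul_inv_cancel_right]
  have h2 : (centralizer (N3 G : Set G)).index ∣ 120 := by
    rw [← h1, Subgroup.index_ker]
    exact (Subgroup.card_subgroup_dvd_card _).trans (e_aut_card e)
  have h3 : (centralizer (N3 G : Set G)).relIndex (N3 G ⊔ centralizer (N3 G : Set G)) * (N3 G ⊔ centralizer (N3 G : Set G)).index =
      (centralizer (N3 G : Set G)).index := Subgroup.relIndex_mul_index le_sup_right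
  have h4 : (centralizer (N3 G : Set G)).relIndex (N3 G ⊔ centralizer (N3 G : Set G)) = 60 := by
    rw [Subgroup.relIndex_sup_right]
    have h5 := Subgroup.card_mul_index ((centralizer (N3 G : Set G)).subgroupOf (N3 G))
    rw [e_card e] at h5
    have h6 : Nat.card ((centralizer (N3 G : Set G)).subgroupOf (N3 G)) = 2 := by
      rw [← card_inf_centralizer e, inf_comm, ← Subgroup.subgroupOf_map_subtype]
      exact Nat.card_congr (((centralizer (N3 G : Set G)).subgroupOf (N3 G)).equivMapOfInjective _ (N3 G).subtype_injective).toEquiv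
    rw [h6] at h5
    change 2 * (centralizer (N3 G : Set G)).relIndex (N3 G) = 120 at h5
    omega
  rw [h4] at h3
  rw [← h3] at h2
  have : (120 : ℕ) = 60 * 2 := by norm_num
  rw [this] at h2
  exact Nat.dvd_of_mul_dvd_mul_left (by norm_num) h2

theorem exists_M (h : Free ρ) (e : N3 G ≃* S25) : ∃ M : Subgroup G, M.Normal ∧ M ≤ centralizer (N3 G : Set G) ∧ (Nat.card M).Coprime 30 ∧
    IsZGroup M ∧ N3 G ⊓ M = ⊥ ∧ N3 G ⊔ M = N3 G ⊔ centralizer (N3 G : Set G) := by
  haveI : Fact (Nat.Prime 2) := ⟨Nat.prime_two⟩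
  obtain ⟨h3, h5, h4⟩ := centralizer_card h e
  set C := centralizer (N3 G : Set G) with hC
  haveI hCn : C.Normal := by rw [hC]; infer_instance
  set Zc := (N3 G ⊓ C).subgroupOf C with hZc
  haveI : Zc.Normal := by rw [hZc]; infer_instance
  have hZcard : Nat.card Zc = 2 := by
    rw [← card_inf_centralizer e, ← hC]
    exact Nat.card_congr (Subgroup.subgroupOfEquivOfLe inf_le_right).toEquiv
  have hmul := Subgroup.card_mul_index Zc
  rw [hZcard] at hmul
  have hodd : ¬ 2 ∣ Zc.index := by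
    rintro ⟨k, hk⟩
    apply h4
    rw [← hmul, hk]
    exact ⟨k, by ring⟩
  obtain ⟨M0, hM0⟩ := Subgroup.exists_right_complement'_of_coprime (N := Zc) (by
    rw [hZcard]
    exact (Nat.Prime.coprime_iff_not_dvd Nat.prime_two).2 hodd)
  have hM0c : Nat.card M0 = Zc.index := hM0.symm.index_eq_card.symm
  have hM0i : M0.index = 2 := by rw [← hZcard]; exact hM0.index_eq_card
  haveI hM0n : M0.Normal := Subgroup.normal_of_index_eq_two hM0i
  have hcop2 : (Nat.card M0).Coprime 2 := by
    rw [hM0c, Nat.coprime_comm]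
    exact (Nat.Prime.coprime_iff_not_dvd Nat.prime_two).2 hodd
  have hmem : ∀ c : C, c ∈ M0 ↔ (orderOf c).Coprime 2 := fun c => CfsgLib.NPC.mem_iff_coprime hcop2 (k := 1) (by rw [hM0i, pow_one])
  have hMc : Nat.card (M0.map C.subtype) = Nat.card M0 := (Nat.card_congr (M0.equivMapOfInjective _ C.subtype_injective).toEquiv).symm
  have hMdvd : Nat.card M0 ∣ Nat.card C := Subgroup.card_subgroup_dvd_card M0
  have hinf : N3 G ⊓ M0.map C.subtype = ⊥ := by
    apply Subgroup.card_eq_one.1
    have h1 : Nat.card (N3 G ⊓ M0.map C.subtype : Subgroup G) ∣ 2 := by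
      rw [← card_inf_centralizer e]
      apply Subgroup.card_dvd_of_le
      refine le_inf inf_le_left (inf_le_right.trans ?_)
      rintro _ ⟨x, -, rfl⟩
      exact x.2
    have h2 : Nat.card (N3 G ⊓ M0.map C.subtype : Subgroup G) ∣ Nat.card M0 := by
      rw [← hMc]
      exact Subgroup.card_dvd_of_le inf_le_right
    have := Nat.dvd_gcd h2 h1
    rw [hcop2.gcd_eq_one] at this
    exact Nat.dvd_one.1 this
  refine ⟨M0.map C.subtype, ⟨?_⟩, ?_, ?_, ?_, hinf, ?_⟩
  · rintro _ ⟨c, hc, rfl⟩ g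
    have hgc : g * (c : G) * g⁻¹ ∈ C := hCn.conj_mem c c.2 g
    refine ⟨⟨g * c * g⁻¹, hgc⟩, ?_, rfl⟩
    rw [SetLike.mem_coe, hmem] at hc ⊢
    have : orderOf (⟨g * (c : G) * g⁻¹, hgc⟩ : C) = orderOf c := by
      rw [Subgroup.orderOf_mk, ← Subgroup.orderOf_coe c]
      exact orderOf_injective (MulAut.conj g).toMonoidHom (MulAut.conj g).injective (c : G)
    rw [this]; exact hc
  · rintro _ ⟨c, -, rfl⟩
    exact c.2
  · rw [hMc]
    have h30 : (30 : ℕ) = 2 * (3 * 5) := by norm_num
    rw [h30]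
    refine Nat.Coprime.mul_right hcop2 (Nat.Coprime.mul_right ?_ ?_)
    · rw [Nat.coprime_comm, Nat.Prime.coprime_iff_not_dvd Nat.prime_three]
      exact fun h0 => h3 (h0.trans hMdvd)
    · rw [Nat.coprime_comm, Nat.Prime.coprime_iff_not_dvd (by norm_num)]
      exact fun h0 => h5 (h0.trans hMdvd)
  · refine zgroup_of_odd (h.comp _ (M0.map C.subtype).subtype_injective) ?_
    rw [hMc]
    exact (Nat.Prime.coprime_iff_not_dvd Nat.prime_two).1 (Nat.coprime_comm.1 hcop2)
  · apply le_antisymm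
    · refine sup_le_sup_left ?_ _
      rintro _ ⟨c, -, rfl⟩
      exact c.2
    · refine sup_le le_sup_left ?_
      intro c hc
      have h1 : (⟨c, hc⟩ : C) ∈ Zc ⊔ M0 := by rw [hM0.sup_eq_top]; exact mem_top _
      obtain ⟨z, hz, m, hm, hzm⟩ := Subgroup.mem_sup_of_normal_left.1 h1
      have h2 : c = (z : G) * (m : G) := congrArg Subtype.val hzm.symm
      rw [h2]
      refine mul_mem (mem_sup_left ?_) (mem_sup_right ⟨m, hm, rfl⟩)
      exact (Subgroup.mem_inf.1 (Subgroup.mem_subgroupOf.1 hz)).1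

end CfsgLib.H3Zas
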