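import Mathlib
import Cfsg.Agent.Lib.H3Zas18

/-!
# Zassenhaus: perfect groups with a free representation; structure theorem
-/

set_option autoImplicit false
set_option linter.style.haveILetI false

namespace CfsgLib.H3Zas

open Module Subgroup
open scoped commutatorElement

universe u v w

/-- structure of a nonsolvable group having a free representation -/
theorem structure_thm {G : Type w} [Group G] [Finite G] (hF : HasFree.{v, w} G) (hns : ¬ Group.IsSolvable G) :
    Nonempty (N3 G ≃* S25) ∧ ∃ M : Subgroup G, M.Normal ∧ M ≤ centralizer (N3 G : Set G) ∧ (Nat.card M).Coprime 30 ∧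
    IsZGroup M ∧ N3 G ⊓ M = ⊥ ∧ N3 G ⊔ M = N3 G ⊔ centralizer (N3 G : Set G) ∧ (N3 G ⊔ M).index ∣ 2 := by
  obtain ⟨K, _, _, V, _, _, _, _, ρ, h, hn⟩ := hF
  rcases solvable_or_SL25 h hn with h1 | ⟨⟨e⟩⟩
  · exact absurd h1 hns
  · refine ⟨⟨e⟩, ?_⟩
    obtain ⟨M, hM1, hM2, hM3, hM4, hM5, hM6⟩ := exists_M h e
    exact ⟨M, hM1, hM2, hM3, hM4, hM5, hM6, hM6 ▸ index_dvd_two e⟩

theorem perfect_iso {G : Type w} [Group G] [Finite G] (hF : HasFree.{v, w} G) (hns : ¬ Group.IsSolvable G) (hperf : commutator G = ⊤) :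
    Nonempty (G ≃* S25) := by
  obtain ⟨⟨e⟩, M, hMn, hM2, hM3, hM4, hM5, hM6, hM7⟩ := structure_thm hF hns
  haveI := hMn
  haveI := hM4
  have htop : N3 G ⊔ M = ⊤ := by
    rcases (Nat.dvd_prime Nat.prime_two).1 hM7 with h1 | h1
    · exact Subgroup.index_eq_one.1 h1
    · exfalso
      have hc : commutator G ≤ N3 G ⊔ M := by
        haveI : IsCyclic (G ⧸ (N3 G ⊔ M)) := by
          haveI : Fact (Nat.Prime 2) := ⟨Nat.prime_two⟩
          exact isCyclic_of_prime_card (p := 2) h1
        letI := IsCyclic.commGroup (α := G ⧸ (N3 G ⊔ M))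
        have h2 := Abelianization.commutator_subset_ker (QuotientGroup.mk' (N3 G ⊔ M))
        rwa [QuotientGroup.ker_mk'] at h2
      rw [hperf, top_le_iff] at hc
      rw [hc, Subgroup.index_top] at h1
      exact absurd h1 (by norm_num)
  have hsolv : Group.IsSolvable (G ⧸ N3 G) := by
    refine Group.isSolvable_of_surjective (f := (QuotientGroup.mk' (N3 G)).comp M.subtype) ?_
    intro q
    obtain ⟨g, rfl⟩ := QuotientGroup.mk'_surjective (N3 G) q
    have hg : g ∈ M ⊔ N3 G := by rw [sup_comm, htop]; exact mem_top g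
    obtain ⟨m, hm, x, hx, rfl⟩ := Subgroup.mem_sup_of_normal_right.1 hg
    refine ⟨⟨m, hm⟩, ?_⟩
    change QuotientGroup.mk' (N3 G) m = QuotientGroup.mk' (N3 G) (m * x)
    rw [map_mul, show QuotientGroup.mk' (N3 G) x = 1 from (QuotientGroup.eq_one_iff x).2 hx, mul_one]
  have hq : commutator (G ⧸ N3 G) = ⊤ := by
    have h1 : (commutator G).map (QuotientGroup.mk' (N3 G)) = ⊤ := by
      rw [hperf, ← MonoidHom.range_eq_map, MonoidHom.range_eq_top.2 (QuotientGroup.mk'_surjective _)]
    rw [← h1, _root_.commutator_def, _root_.commutator_def, Subgroup.map_commutator, ← MonoidHom.range_eq_map,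
      MonoidHom.range_eq_top.2 (QuotientGroup.mk'_surjective _)]
  have htriv : Subsingleton (G ⧸ N3 G) := by
    by_contra hnt
    rw [not_subsingleton_iff_nontrivial] at hnt
    have := Group.IsSolvable.commutator_lt_top_of_nontrivial (G := G ⧸ N3 G)
    rw [hq] at this
    exact lt_irrefl _ this
  have hN : N3 G = ⊤ := by
    rw [← Subgroup.index_eq_one]
    exact Nat.card_eq_one_iff_unique.2 ⟨htriv, ⟨1⟩⟩
  exact ⟨(Subgroup.topEquiv.symm.trans (MulEquiv.subgroupCongr hN.symm)).trans e⟩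

end CfsgLib.H3Zas
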