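import Mathlib
import Cfsg.Agent.Lib.H3Zas19
import Cfsg.Agent.Lib.FrobThm
import Cfsg.Agent.Lib.FrobC

/-!
# Frobenius complements and free representations
-/

set_option autoImplicit false
set_option linter.style.haveILetI false

namespace CfsgLib.H3Zas

open Module Subgroup

universe u v w

theorem act_of_FC {G : Type w} [Group G] [Finite G]
    (hFC : ∃ (L : Type v) (_ : Group L) (_ : Finite L) (H : Subgroup L), Cfsg.IsFrobeniusComplement H ∧ Nonempty (G ≃* H)) :
    ∃ (A : Type v) (_ : Group A) (_ : Finite A) (_ : Nontrivial A) (φ : G →* MulAut A), ∀ g, g ≠ 1 → ∀ a, φ g a = a → a = 1 := by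
  obtain ⟨L, _, _, H, hH, ⟨e⟩⟩ := hFC
  obtain ⟨N, -, hN, hc⟩ := CfsgLib.FrobThm.frobenius_theorem H hH
  haveI := hN
  have hN1 : N ≠ ⊥ := by
    rintro rfl
    apply hH.2.1
    rw [Subgroup.isComplement'_bot_left] at hc
    exact hc
  have hfix := (CfsgLib.FrobAct.frobenius_iff N H hc hN1 hH.1).1 hH
  haveI : Nontrivial N := (Subgroup.nontrivial_iff_ne_bot N).2 hN1
  refine ⟨N, inferInstance, inferInstance, inferInstance, (MulAut.conjNormal : L →* MulAut N).comp (H.subtype.comp e.toMonoidHom), ?_⟩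
  intro g hg a ha
  have h1 : (e g : L) ≠ 1 := fun h0 => hg (e.injective (Subtype.ext (h0.trans (by rw [map_one]; rfl))))
  have h2 := hfix (e g) (e g).2 h1
  have h3 : (e g : L) * a * (e g : L)⁻¹ = a := by
    have := congrArg Subtype.val ha
    simpa using this
  have h4 : (a : L) ∈ N ⊓ centralizer {(e g : L)} := by
    refine Subgroup.mem_inf.2 ⟨a.2, ?_⟩
    rw [Subgroup.mem_centralizer_singleton_iff]
    calc (a : L) * (e g : L) = ((e g : L) * a * (e g : L)⁻¹) * (e g : L) := by rw [h3]
      _ = _ := by group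
  rw [h2, Subgroup.mem_bot] at h4
  exact Subtype.ext h4

end CfsgLib.H3Zas
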