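import Mathlib
import Cfsg.Agent.Lib.H3Ti1
import Cfsg.Agent.Lib.H3Zas20

/-!
# TI Hall subgroups: the free action
-/

set_option autoImplicit false
set_option linter.style.haveILetI false

namespace CfsgLib.H3Ti

open Subgroup
open scoped commutatorElement

universe u

variable {G : Type u} [Group G] [Finite G] {H : Subgroup G}

omit [Finite G] in
theorem comm_self_le (W : Subgroup G) : ⁅W, W⁆ ≤ W := by
  rw [Subgroup.commutator_le]
  intro a ha b hb
  rw [commutatorElement_def]
  exact mul_mem (mul_mem (mul_mem ha hb) (inv_mem ha)) (inv_mem hb)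

theorem mem_norm_of_comm (hTI : Cfsg.IsTISubset (H : Set G)) {h c : G} (hh : h ∈ H) (hh1 : h ≠ 1) (hc : h * c = c * h) :
    c ∈ normalizer (H : Set G) := by
  by_contra hno
  exact hh1 (hTI c hno h hh (by rw [← hc, mul_inv_cancel_right]; exact hh))

theorem comm_of_mem_norm {O : Subgroup G} [hO : O.Normal] (hinf : O ⊓ H = ⊥) {c h : G} (hcO : c ∈ O) (hc : c ∈ normalizer (H : Set G))
    (hh : h ∈ H) : h * c = c * h := by
  have h1 : c * h * c⁻¹ * h⁻¹ ∈ O ⊓ H := by
    refine mem_inf.2 ⟨?_, mul_mem ((mem_normalizer_iff.1 hc h).1 hh) (inv_mem hh)⟩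
    have e : c * h * c⁻¹ * h⁻¹ = c * (h * c⁻¹ * h⁻¹) := by group
    rw [e]
    exact mul_mem hcO (hO.conj_mem _ (inv_mem hcO) h)
  rw [hinf, mem_bot] at h1
  calc h * c = (c * h * c⁻¹ * h⁻¹)⁻¹ * (c * h) := by group
    _ = c * h := by rw [h1]; group

theorem hasFree_of_TI (hTI : Cfsg.IsTISubset (H : Set G)) {O : Subgroup G} [hO : O.Normal]
    (hOc : (Nat.card O).Coprime (Nat.card H)) (hinf : O ⊓ H = ⊥) (hOs : Group.IsSolvable O) (hne : ¬ O ≤ normalizer (H : Set G)) :
    CfsgLib.H3Zas.HasFree.{u, u} H := by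
  classical
  -- minimal `H`-invariant subgroup not normalizing `H`
  have hfin : {W : Subgroup G | W ≤ O ∧ H ≤ normalizer (W : Set G) ∧ ¬ W ≤ normalizer (H : Set G)}.Finite := Set.toFinite _
  obtain ⟨W, ⟨hWO, hHW, hWn⟩, hmin⟩ := hfin.exists_minimal ⟨O, le_rfl, by rw [normalizer_eq_top_iff.2 hO]; exact le_top, hne⟩
  have hWs : Group.IsSolvable W := Group.isSolvable_of_isSolvable_injective (f := Subgroup.inclusion hWO) (Subgroup.inclusion_injective hWO)
  have hW1 : W ≠ ⊥ := by
    rintro rfl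
    exact hWn bot_le
  haveI : Nontrivial W := (Subgroup.nontrivial_iff_ne_bot W).2 hW1
  have hcomm : (commutator W).map W.subtype = ⁅W, W⁆ := by
    rw [_root_.commutator_def, Subgroup.map_commutator, ← MonoidHom.range_eq_map, range_subtype]
  have hlt : ⁅W, W⁆ < W := by
    have h1 := Group.IsSolvable.commutator_lt_top_of_nontrivial (G := W)
    refine lt_of_le_of_ne (comm_self_le W) (fun h0 => ?_)
    rw [← hcomm] at h0
    have h2 : (commutator W).map W.subtype = (⊤ : Subgroup W).map W.subtype := by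
      rw [h0, ← MonoidHom.range_eq_map, range_subtype]
    rw [Subgroup.map_injective W.subtype_injective h2] at h1
    exact lt_irrefl _ h1
  have hWW : ⁅W, W⁆ ≤ normalizer (H : Set G) := by
    by_contra hcon
    have hHn : H ≤ normalizer ((⁅W, W⁆ : Subgroup G) : Set G) := by
      intro h hh
      apply mem_normalizer_fintype
      intro n hn
      have h1 : (⁅W, W⁆).map (MulAut.conj h).toMonoidHom ≤ ⁅W, W⁆ := by
        rw [Subgroup.map_commutator]
        apply Subgroup.commutator_mono <;>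
        · rintro _ ⟨x, hx, rfl⟩
          exact (mem_normalizer_iff.1 (hHW hh) x).1 hx
      exact h1 (Subgroup.mem_map_of_mem _ hn)
    exact absurd (hmin ⟨hlt.le.trans hWO, hHn, hcon⟩ hlt.le) (not_le_of_gt hlt)
  set K1 : Subgroup W := (normalizer (H : Set G)).subgroupOf W with hK1
  have hK1c : commutator W ≤ K1 := by
    intro x hx
    rw [hK1, mem_subgroupOf]
    apply hWW
    rw [← hcomm]
    exact ⟨x, hx, rfl⟩
  haveI hK1n : K1.Normal := by
    refine ⟨fun n hn g => ?_⟩
    have e : g * n * g⁻¹ = ⁅g, n⁆ * n := by rw [commutatorElement_def]; group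
    rw [e]
    exact mul_mem (hK1c (Subgroup.commutator_mem_commutator (mem_top g) (mem_top n))) hn
  letI : CommGroup (W ⧸ K1) := { (inferInstance : Group (W ⧸ K1)) with
    mul_comm := by
      intro a b
      obtain ⟨a, rfl⟩ := QuotientGroup.mk_surjective a
      obtain ⟨b, rfl⟩ := QuotientGroup.mk_surjective b
      rw [← QuotientGroup.mk_mul, ← QuotientGroup.mk_mul, QuotientGroup.eq]
      have e : (a * b)⁻¹ * (b * a) = ⁅b⁻¹, a⁻¹⁆ := by rw [commutatorElement_def]; group
      rw [e]
      exact hK1c (Subgroup.commutator_mem_commutator (mem_top _) (mem_top _)) }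
  haveI : Nontrivial (W ⧸ K1) := by
    rw [QuotientGroup.nontrivial_iff]
    intro h0
    exact hWn (subgroupOf_eq_top.1 h0)
  let ψ : H →* MulAut W := W.normalizerMonoidHom.comp (Subgroup.inclusion hHW)
  have hψ : ∀ (h : H) (w : W), ((ψ h w : W) : G) = h * w * (h : G)⁻¹ := fun h w => rfl
  have hmap : ∀ h : H, K1.map ((ψ h : W ≃* W) : W →* W) = K1 := by
    intro h
    have hle : ∀ h : H, K1.map ((ψ h : W ≃* W) : W →* W) ≤ K1 := by
      rintro h _ ⟨x, hx, rfl⟩
      rw [SetLike.mem_coe, hK1, mem_subgroupOf] at hx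
      rw [hK1, mem_subgroupOf]
      change ((ψ h x : W) : G) ∈ _
      rw [hψ]
      exact mul_mem (mul_mem (le_normalizer h.2) hx) (inv_mem (le_normalizer h.2))
    apply Subgroup.eq_of_le_of_card_ge (hle h)
    exact (Nat.card_congr (K1.equivMapOfInjective ((ψ h : W ≃* W) : W →* W) (ψ h).injective).toEquiv).le
  let φ : H →* MulAut (W ⧸ K1) :=
    { toFun := fun h => QuotientGroup.congr K1 K1 (ψ h) (hmap h)
      map_one' := by
        ext q
        obtain ⟨w, rfl⟩ := QuotientGroup.mk_surjective q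
        change ((ψ 1 w : W) : W ⧸ K1) = w
        rw [map_one]; rfl
      map_mul' := by
        intro a b
        ext q
        obtain ⟨w, rfl⟩ := QuotientGroup.mk_surjective q
        change ((ψ (a * b) w : W) : W ⧸ K1) = ((ψ a (ψ b w) : W) : W ⧸ K1)
        rw [map_mul]; rfl }
  refine CfsgLib.H3Zas.exists_free φ ?_
  intro h hh1 q hq
  obtain ⟨w, rfl⟩ := QuotientGroup.mk_surjective q
  have h1 : ((ψ h w : W) : W ⧸ K1) = w := hq
  rw [QuotientGroup.eq] at h1
  rw [QuotientGroup.eq_one_iff]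
  have hk := K1.inv_mem h1
  set k : W := ((ψ h w)⁻¹ * w)⁻¹ with hkdef
  have hkG : (k : G) = (w : G)⁻¹ * ((h : G) * w * (h : G)⁻¹) := by
    rw [hkdef, mul_inv_rev, inv_inv]
    change ((w⁻¹ : W) : G) * ((ψ h w : W) : G) = _
    rw [hψ]; rfl
  have hkN : (k : G) ∈ normalizer (H : Set G) := mem_subgroupOf.1 hk
  have hkc : (h : G) * k = k * h := comm_of_mem_norm hinf (hWO k.2) hkN h.2
  have hstep : (h : G) * w * (h : G)⁻¹ = w * k := by rw [hkG]; group
  have hpow : ∀ n : ℕ, (h : G) ^ n * w * ((h : G) ^ n)⁻¹ = w * (k : G) ^ n := by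
    intro n
    induction n with
    | zero => rw [pow_zero, pow_zero]; group
    | succ n ih =>
      have hc2 : (h : G) * (k : G) ^ n * (h : G)⁻¹ = (k : G) ^ n := by
        have := (Commute.pow_right (show Commute (h : G) k from hkc) n).eq
        rw [this]; group
      calc (h : G) ^ (n + 1) * w * ((h : G) ^ (n + 1))⁻¹ = h * ((h : G) ^ n * w * ((h : G) ^ n)⁻¹) * (h : G)⁻¹ := by
            rw [pow_succ']; group
        _ = (h * w * (h : G)⁻¹) * (h * (k : G) ^ n * (h : G)⁻¹) := by rw [ih]; group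
        _ = w * (k : G) ^ (n + 1) := by rw [hc2, hstep, pow_succ', mul_assoc]
  have hk1 : (k : G) = 1 := by
    have h2 := hpow (Nat.card H)
    have h3 : (h : G) ^ Nat.card H = 1 := by
      have := pow_card_eq_one' (x := h)
      exact congrArg Subtype.val this
    rw [h3, one_mul, inv_one, mul_one] at h2
    have h4 : (k : G) ^ Nat.card H = 1 := by
      have : (w : G) * 1 = w * (k : G) ^ Nat.card H := by rw [mul_one]; exact h2
      exact (mul_left_cancel this).symm
    have h5 : (k : G) ^ Nat.card O = 1 := by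
      have := pow_card_eq_one' (x := (⟨k, hWO k.2⟩ : O))
      exact congrArg Subtype.val this
    have h6 := pow_gcd_eq_one.2 ⟨h5, h4⟩
    rwa [hOc.gcd_eq_one, pow_one] at h6
  rw [hk1, mul_one] at hstep
  rw [hK1, mem_subgroupOf]
  refine mem_norm_of_comm hTI h.2 (fun h0 => hh1 (Subtype.ext h0)) ?_
  calc (h : G) * w = (h * w * (h : G)⁻¹) * h := by group
    _ = w * h := by rw [hstep]

end CfsgLib.H3Ti
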