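import Mathlib
import Cfsg.Agent.Lib.H3Ti2
import Cfsg.Agent.Lib.Solv
import Cfsg.Agent.Lib.Core
import Cfsg.Agent.Lib.Mob23

/-!
# Automorphism groups of solvable Frobenius complements are solvable
-/

set_option autoImplicit false
set_option linter.style.haveILetI false

namespace CfsgLib.H3Ti

open Subgroup
open scoped commutatorElement

universe u v

/-- restriction of automorphisms to a characteristic subgroup -/
def resChar {H : Type u} [Group H] (P : Subgroup H) [hP : P.Characteristic] : MulAut H →* MulAut P where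
  toFun α :=
    { toFun := fun x => ⟨α x, (Subgroup.characteristic_iff_le_comap.1 hP α) x.2⟩
      invFun := fun x => ⟨α.symm x, (Subgroup.characteristic_iff_le_comap.1 hP α.symm) x.2⟩
      left_inv := fun x => Subtype.ext (α.symm_apply_apply (x : H))
      right_inv := fun x => Subtype.ext (α.apply_symm_apply (x : H))
      map_mul' := fun x y => Subtype.ext (map_mul α (x : H) (y : H)) }
  map_one' := rfl
  map_mul' _ _ := rfl

/-- Sylow type -/
def CQ (H : Type u) [Group H] : Prop := ∀ (p : ℕ) [Fact p.Prime] (P : Subgroup H), IsPGroup p P →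
  IsCyclic P ∨ (p = 2 ∧ ∃ n : ℕ, Nonempty (P ≃* QuaternionGroup (2 ^ n)))

theorem aut_solvable_cyclic {Q : Type u} [Group Q] (h : IsCyclic Q) : Group.IsSolvable (MulAut Q) := by
  have e := IsCyclic.mulAutMulEquiv Q
  haveI : Group.IsSolvable (ZMod (Nat.card Q))ˣ := inferInstance
  exact Group.isSolvable_of_isSolvable_injective (f := e.toMonoidHom) e.injective

theorem aut_solvable {Q : Type u} [Group Q] [Finite Q] (h : IsCyclic Q ∨ ∃ n : ℕ, Nonempty (Q ≃* QuaternionGroup (2 ^ n))) :
    Group.IsSolvable (MulAut Q) := by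
  rcases h with h | ⟨n, ⟨e⟩⟩
  · exact aut_solvable_cyclic h
  · match n, e with
    | 0, e =>
      have hcard : Nat.card Q = 4 := by rw [Nat.card_congr e.toEquiv, Nat.card_eq_fintype_card]; decide
      haveI : IsCyclic Q := by
        refine isCyclic_of_orderOf_eq_card (e.symm (QuaternionGroup.xa 0)) ?_
        rw [hcard, MulEquiv.orderOf_eq, QuaternionGroup.orderOf_xa]
      exact aut_solvable_cyclic inferInstance
    | 1, e =>
      obtain ⟨f⟩ := Cfsg.Agent.S3742.result
      haveI := CfsgLib.Mob23.solvable_s4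
      let g : MulAut Q ≃* Equiv.Perm (Fin 4) := (MulAut.congr e).trans f
      exact Group.isSolvable_of_isSolvable_injective (f := g.toMonoidHom) g.injective
    | (m + 2), e =>
      have h2 := (CfsgLib.Fusion.aut_quaternion (m := m + 2) (by omega) e).2
      haveI : Fact (Nat.Prime 2) := ⟨Nat.prime_two⟩
      haveI : Finite (MulAut Q) := inferInstance
      have hp : IsPGroup 2 (MulAut Q) := by
        intro α
        obtain ⟨k, m', hm', hk⟩ := Nat.exists_eq_two_pow_mul_odd (n := orderOf α) (orderOf_pos α).ne'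
        refine ⟨k, ?_⟩
        apply h2
        have hpos : 0 < 2 ^ k := by positivity
        rw [orderOf_pow_of_dvd hpos.ne' (by rw [hk]; exact dvd_mul_right _ _), hk, Nat.mul_div_cancel_left _ hpos]
        exact hm'.coprime_two_right
      haveI := hp.isNilpotent
      infer_instance

theorem autS {H : Type u} [Group H] [Finite H] (hs : Group.IsSolvable H) (hCQ : CQ H) : Group.IsSolvable (MulAut H) := by
  rw [Group.isSolvable_iff_commutator_lt]
  intro R hR1
  refine lt_of_le_of_ne ?_ (fun hRR => hR1 ?_)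
  · rw [Subgroup.commutator_le]
    intro a ha b hb
    rw [commutatorElement_def]
    exact mul_mem (mul_mem (mul_mem ha hb) (inv_mem ha)) (inv_mem hb)
  -- `R` acts trivially on each `O_p(H)`
  have hcore : ∀ (p : ℕ) [Fact p.Prime], ∀ α ∈ R, ∀ x ∈ Cfsg.pCore p H, α x = x := by
    intro p hp α hα x hx
    haveI := CfsgLib.Core.pCore_characteristic p H
    have hsol : Group.IsSolvable (MulAut (Cfsg.pCore p H)) := by
      refine aut_solvable ?_
      exact (hCQ p (Cfsg.pCore p H) (CfsgLib.Core.pCore_isPGroup p H)).imp id (fun h => h.2)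
    haveI := hsol
    have himg : R.map (resChar (Cfsg.pCore p H)) = ⊥ := by
      by_contra hne
      have h1 := Group.IsSolvable.commutator_lt_of_ne_bot hne
      rw [← Subgroup.map_commutator, hRR] at h1
      exact lt_irrefl _ h1
    have h2 : resChar (Cfsg.pCore p H) α = 1 := by
      have h3 : resChar (Cfsg.pCore p H) α ∈ R.map (resChar (Cfsg.pCore p H)) := Subgroup.mem_map_of_mem _ hα
      rw [himg, mem_bot] at h3
      exact h3
    exact congrArg (fun β : MulAut (Cfsg.pCore p H) => ((β ⟨x, hx⟩ : Cfsg.pCore p H) : H)) h2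
  set F := Cfsg.fittingSubgroup H with hF
  have hFn : F.Normal := by
    haveI := CfsgLib.Core.fitting_characteristic H
    infer_instance
  have hfix : ∀ α ∈ R, ∀ x ∈ F, α x = x := by
    intro α hα
    have h1 : F ≤ (α.toMonoidHom).eqLocus (MonoidHom.id H) := by
      rw [hF, CfsgLib.Core.fitting_eq_iSup]
      refine iSup_le fun p => ?_
      intro x hx
      haveI : Fact (p : ℕ).Prime := ⟨Nat.prime_of_mem_primeFactors p.2⟩
      exact hcore p α hα x hx
    intro x hx
    exact h1 hx
  have hC := CfsgLib.Solv.centralizer_fitting_le hs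
  have hδ : ∀ α ∈ R, ∀ h : H, h⁻¹ * α h ∈ F ∧ ∀ f ∈ F, f * (h⁻¹ * α h) = (h⁻¹ * α h) * f := by
    intro α hα h
    have h1 : ∀ f ∈ F, f * (h⁻¹ * α h) = (h⁻¹ * α h) * f := by
      intro f hf
      have h2 : α (h * f * h⁻¹) = h * f * h⁻¹ := hfix α hα _ (hFn.conj_mem f hf h)
      rw [map_mul, map_mul, map_inv, hfix α hα f hf] at h2
      calc f * (h⁻¹ * α h) = h⁻¹ * (h * f * h⁻¹) * α h := by group
        _ = h⁻¹ * (α h * f * (α h)⁻¹) * α h := by rw [h2]
        _ = (h⁻¹ * α h) * f := by group
    refine ⟨hC ?_, h1⟩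
    rw [mem_centralizer_iff]
    intro f hf
    exact h1 f hf
  have hcomm : ∀ α ∈ R, ∀ β ∈ R, α * β = β * α := by
    intro α hα β hβ
    ext h
    have e1 : ∀ γ : MulAut H, h * (h⁻¹ * γ h) = γ h := fun γ => by group
    have eab : ∀ α ∈ R, ∀ β ∈ R, α (β h) = h * ((h⁻¹ * α h) * (h⁻¹ * β h)) := by
      intro α hα β hβ
      calc α (β h) = α (h * (h⁻¹ * β h)) := by rw [e1 β]
        _ = α h * (h⁻¹ * β h) := by rw [map_mul, hfix α hα _ (hδ β hβ h).1]
        _ = h * (h⁻¹ * α h) * (h⁻¹ * β h) := by rw [e1 α]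
        _ = _ := by rw [mul_assoc]
    rw [MulAut.mul_apply, MulAut.mul_apply, eab α hα β hβ, eab β hβ α hα, (hδ β hβ h).2 _ (hδ α hα h).1]
  rw [← hRR, eq_bot_iff, Subgroup.commutator_le]
  intro α hα β hβ
  rw [mem_bot, commutatorElement_eq_one_iff_mul_comm]
  exact hcomm α hα β hβ

end CfsgLib.H3Ti
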