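import Mathlib
import Cfsg.Agent.Lib.H3Ti3

/-!
# TI Hall subgroups of π-separable groups: solvability
-/

set_option autoImplicit false
set_option linter.style.haveILetI false

namespace CfsgLib.H3Ti

open Subgroup
open scoped commutatorElement

universe u v

theorem conjNormal_ker {X : Type u} [Group X] (H : Subgroup X) [H.Normal] :
    (MulAut.conjNormal : X →* MulAut H).ker = centralizer (H : Set X) := by
  ext g
  rw [MonoidHom.mem_ker, mem_centralizer_iff]
  constructor
  · intro h x hx
    have h2 := congrArg (fun α : MulAut H => ((α ⟨x, hx⟩ : H) : X)) h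
    have h3 : g * x * g⁻¹ = x := by simpa using h2
    calc x * g = (g * x * g⁻¹) * g := by rw [h3]
      _ = g * x := by group
  · intro h
    ext x
    rw [MulAut.conjNormal_apply, MulAut.one_apply, ← h x x.2, mul_inv_cancel_right]

theorem solv_of_core {X : Type u} [Group X] [Finite X] (H : Subgroup X) [hHn : H.Normal] (hs : Group.IsSolvable H) (hCQ : CQ H)
    (hcop : (Nat.card H).Coprime H.index) (hcore : ∀ K : Subgroup X, K.Normal → (Nat.card K).Coprime (Nat.card H) → K = ⊥) :
    Group.IsSolvable X := by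
  classical
  set C := centralizer (H : Set X) with hC
  haveI hCn : C.Normal := by rw [hC]; infer_instance
  set Z := (C ⊓ H).subgroupOf C with hZ
  haveI : Z.Normal := by rw [hZ]; infer_instance
  have hZcen : ∀ z ∈ Z, ∀ c : C, c * z = z * c := by
    intro z hz c
    have h1 : (z : X) ∈ H := (mem_inf.1 (mem_subgroupOf.1 hz)).2
    exact Subtype.ext (mem_centralizer_iff.1 c.2 z h1).symm
  have hZc : Nat.card Z ∣ Nat.card H := by
    have h1 : Nat.card Z = Nat.card (C ⊓ H : Subgroup X) := Nat.card_congr (Subgroup.subgroupOfEquivOfLe inf_le_left).toEquiv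
    rw [h1]
    exact Subgroup.card_dvd_of_le inf_le_right
  have hZi : Z.index ∣ H.index := by
    have h1 : Z.index = H.relIndex C := by
      rw [hZ]
      change (C ⊓ H).relIndex C = H.relIndex C
      rw [Subgroup.inf_relIndex_left]
    rw [h1]
    exact relIndex_dvd_index_of_normal H C
  have hcop2 : (Nat.card Z).Coprime Z.index := (hcop.coprime_dvd_left hZc).coprime_dvd_right hZi
  obtain ⟨L, hL⟩ := Subgroup.exists_right_complement'_of_coprime (N := Z) hcop2
  have hLi : L.index = Nat.card Z := hL.index_eq_card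
  have hLc : Nat.card L = Z.index := hL.symm.index_eq_card.symm
  haveI hLn : L.Normal := by
    refine ⟨fun l hl c => ?_⟩
    have h1 : c ∈ Z ⊔ L := by rw [hL.sup_eq_top]; exact mem_top _
    obtain ⟨z, hz, m, hm, rfl⟩ := Subgroup.mem_sup_of_normal_left.1 h1
    have e : z * m * l * (z * m)⁻¹ = m * l * m⁻¹ := by
      have h2 := hZcen z hz (m * l * m⁻¹)
      calc z * m * l * (z * m)⁻¹ = (z * (m * l * m⁻¹)) * z⁻¹ := by group
        _ = m * l * m⁻¹ := by rw [← h2]; group
    rw [e]
    exact mul_mem (mul_mem hm hl) (inv_mem hm)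
  have hmem : ∀ c : C, c ∈ L ↔ (orderOf c).Coprime (Nat.card Z) := by
    intro c
    constructor
    · intro hc
      have h1 : orderOf c ∣ Nat.card L := by
        have := orderOf_dvd_natCard (⟨c, hc⟩ : L)
        rwa [Subgroup.orderOf_mk] at this
      rw [hLc] at h1
      exact (hcop2.coprime_dvd_right h1).symm
    · intro hc
      have h1 : ((c : C ⧸ L)) ^ orderOf c = 1 := by rw [← QuotientGroup.mk_pow, pow_orderOf_eq_one]; rfl
      have h2 : ((c : C ⧸ L)) ^ Nat.card Z = 1 := by
        rw [← hLi]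
        exact pow_card_eq_one'
      have h3 := pow_gcd_eq_one.2 ⟨h1, h2⟩
      rw [hc.gcd_eq_one, pow_one] at h3
      exact (QuotientGroup.eq_one_iff c).1 h3
  have hLX : (L.map C.subtype).Normal := by
    refine ⟨?_⟩
    rintro _ ⟨c, hc, rfl⟩ g
    have hgc : g * (c : X) * g⁻¹ ∈ C := hCn.conj_mem c c.2 g
    refine ⟨⟨g * c * g⁻¹, hgc⟩, ?_, rfl⟩
    rw [SetLike.mem_coe, hmem] at hc ⊢
    have : orderOf (⟨g * (c : X) * g⁻¹, hgc⟩ : C) = orderOf c := by
      rw [Subgroup.orderOf_mk, ← Subgroup.orderOf_coe c]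
      exact orderOf_injective (MulAut.conj g).toMonoidHom (MulAut.conj g).injective (c : X)
    rw [this]; exact hc
  have hLcard : Nat.card (L.map C.subtype) = Z.index := by
    rw [← hLc]
    exact (Nat.card_congr (L.equivMapOfInjective _ C.subtype_injective).toEquiv).symm
  have hL1 : L.map C.subtype = ⊥ := hcore _ hLX (by
    rw [hLcard]
    exact (hcop.coprime_dvd_right hZi).symm)
  have hZtop : Z = ⊤ := by
    rw [← Subgroup.index_eq_one, ← hLcard, hL1, card_bot]
  have hCH : C ≤ H := by
    intro c hc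
    have h1 : (⟨c, hc⟩ : C) ∈ Z := by rw [hZtop]; exact mem_top _
    exact (mem_inf.1 (mem_subgroupOf.1 h1)).2
  have hCs : Group.IsSolvable C := Group.isSolvable_of_isSolvable_injective (f := Subgroup.inclusion hCH) (Subgroup.inclusion_injective hCH)
  haveI := autS hs hCQ
  haveI := hCs
  exact Group.isSolvable_of_ker_le_range C.subtype (MulAut.conjNormal : X →* MulAut H) (by
    rw [conjNormal_ker, range_subtype])

theorem s25_not_solvable : ¬ Group.IsSolvable CfsgLib.H3Zas.S25 := by
  intro h
  haveI := h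
  haveI : Nontrivial CfsgLib.H3Zas.S25 := by
    haveI := CfsgLib.H3Zas.e_finite (MulEquiv.refl CfsgLib.H3Zas.S25)
    rw [← Finite.one_lt_card_iff_nontrivial, CfsgLib.H3Zas.card_S25]; norm_num
  have h1 := Group.IsSolvable.commutator_lt_top_of_nontrivial (G := CfsgLib.H3Zas.S25)
  rw [CfsgLib.H3Zas.S25_perfect] at h1
  exact lt_irrefl _ h1

theorem CQ_of_hasFree {H : Type u} [Group H] [Finite H] (h : CfsgLib.H3Zas.HasFree.{v, u} H) : CQ H := by
  obtain ⟨K, _, _, V, _, _, _, _, ρ, hf, -⟩ := h
  intro p hp P hP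
  exact CfsgLib.H3Zas.sylow_cases hf P hP

theorem CQ_equiv {H : Type u} {H' : Type v} [Group H] [Group H'] (e : H ≃* H') (h : CQ H) : CQ H' := by
  intro p hp P hP
  let f := (P.equivMapOfInjective e.symm.toMonoidHom e.symm.injective)
  rcases h p (P.map e.symm.toMonoidHom) (hP.of_equiv f) with h1 | ⟨h1, n, ⟨h2⟩⟩
  · exact Or.inl (isCyclic_of_surjective f.symm f.symm.surjective)
  · exact Or.inr ⟨h1, n, ⟨f.trans h2⟩⟩

theorem s4118 {G : Type u} [Group G] [Finite G] (H : Subgroup G)
    (hTI : Cfsg.IsTISubset (H : Set G)) (hnn : ¬ H.Normal)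
    (hHall : (Nat.card H).Coprime (H.subgroupOf (Subgroup.normalizer (H : Set G))).index)
    (hsep : ∃ (n : ℕ) (M : Fin (n + 1) → Subgroup G), M 0 = ⊥ ∧ M (Fin.last n) = ⊤ ∧ Monotone M ∧ (∀ i, (M i).Normal) ∧
      ∀ i : Fin n, (∀ q : ℕ, q.Prime → q ∣ (M i.castSucc).relIndex (M i.succ) → q ∣ Nat.card H) ∨
        ((M i.castSucc).relIndex (M i.succ)).Coprime (Nat.card H))
    (O : Subgroup G) (hO : O = sSup {K : Subgroup G | K.Normal ∧ (Nat.card K).Coprime (Nat.card H)}) :
    O ⊔ Subgroup.normalizer (H : Set G) = ⊤ ∧ (O ⊔ H).Normal ∧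
    (Group.IsSolvable G ↔ Group.IsSolvable O ∧
      ∀ K : Subgroup G, K ≤ H → ¬ Nonempty (K ≃* Matrix.SpecialLinearGroup (Fin 2) (ZMod 5))) := by
  have hH1 : H ≠ ⊥ := by
    rintro rfl
    exact hnn inferInstance
  have hcop := hall_of_TI hTI hHall
  obtain ⟨hOn, hOc, hOm⟩ := pi_core (Nat.card H) hO
  haveI := hOn
  obtain ⟨h1, h2⟩ := parts hTI hH1 hcop hOm hOc hsep
  refine ⟨h1, h2, ?_, ?_⟩
  · intro hG
    haveI := hG
    refine ⟨inferInstance, ?_⟩
    rintro K - ⟨e⟩
    exact s25_not_solvable (Group.isSolvable_of_surjective (f := e.toMonoidHom) e.surjective)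
  · rintro ⟨hOs, hK⟩
    have hinf : O ⊓ H = ⊥ := by
      apply Subgroup.card_eq_one.1
      have h1 := Nat.dvd_gcd (Subgroup.card_dvd_of_le (inf_le_left : O ⊓ H ≤ O)) (Subgroup.card_dvd_of_le (inf_le_right : O ⊓ H ≤ H))
      rw [hOc.gcd_eq_one] at h1
      exact Nat.dvd_one.1 h1
    have hne : ¬ O ≤ normalizer (H : Set G) := by
      intro hle
      rw [sup_eq_right.2 hle] at h1
      exact hnn (normalizer_eq_top_iff.1 h1)
    have hF := hasFree_of_TI hTI hOc hinf hOs hne
    have hHs : Group.IsSolvable H := by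
      by_contra hns
      obtain ⟨⟨e⟩, -⟩ := CfsgLib.H3Zas.structure_thm hF hns
      refine hK ((CfsgLib.H3Zas.N3 H).map H.subtype) ?_ ⟨((CfsgLib.H3Zas.N3 H).equivMapOfInjective _ H.subtype_injective).symm.trans e⟩
      rintro _ ⟨x, -, rfl⟩
      exact x.2
    -- the quotient
    set π := QuotientGroup.mk' O with hπ
    have hπs : Function.Surjective π := QuotientGroup.mk'_surjective O
    set Hb := H.map π with hHb
    have hHbO : Hb = (O ⊔ H).map π := by
      rw [hHb, Subgroup.map_sup, (Subgroup.map_eq_bot_iff O).2 (by rw [hπ, QuotientGroup.ker_mk']), bot_sup_eq]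
    haveI hHbn : Hb.Normal := by rw [hHbO]; exact h2.map π hπs
    have hinj : Function.Injective (π.comp H.subtype) := by
      rw [injective_iff_map_eq_one]
      intro x hx
      have h3 : (x : G) ∈ O := (QuotientGroup.eq_one_iff (x : G)).1 hx
      have h4 : (x : G) ∈ O ⊓ H := mem_inf.2 ⟨h3, x.2⟩
      rw [hinf, mem_bot] at h4
      exact Subtype.ext h4
    have hrange : (π.comp H.subtype).range = Hb := by
      rw [hHb, MonoidHom.range_comp, range_subtype]
    let e : H ≃* Hb := (MonoidHom.ofInjective hinj).trans (MulEquiv.subgroupCongr hrange)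
    have hcard : Nat.card Hb = Nat.card H := (Nat.card_congr e.toEquiv).symm
    have hidx : Hb.index ∣ H.index := by
      rw [hHb]
      exact Subgroup.index_map_dvd H hπs
    have hX : Group.IsSolvable (G ⧸ O) := by
      refine solv_of_core Hb (Group.isSolvable_of_surjective (f := e.toMonoidHom) e.surjective) (CQ_equiv e (CQ_of_hasFree hF)) ?_ ?_
      · rw [hcard]
        exact hcop.coprime_dvd_right hidx
      · intro K hKn hKc
        rw [hcard] at hKc
        have h3 : (K.comap π).Normal := hKn.comap π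
        have h4 : Nat.card (K.comap π) = Nat.card O * Nat.card K := by
          have h5 := CfsgLib.H3Syl.card_mul_relIndex (H := O) (K := K.comap π) (by
            intro x hx
            rw [mem_comap, show π x = 1 from (QuotientGroup.eq_one_iff x).2 hx]
            exact one_mem K)
          rw [← h5]
          congr 1
          have h6 : (K.comap π).map π = K := Subgroup.map_comap_eq_self_of_surjective hπs K
          have h7 := Subgroup.relIndex_ker (f := π) (K.comap π)
          rw [h6, hπ, QuotientGroup.ker_mk'] at h7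
          exact h7
        have h5 : K.comap π ≤ O := hOm _ h3 (by
          rw [h4]
          exact Nat.Coprime.mul_left hOc hKc)
        rw [eq_bot_iff, ← Subgroup.map_comap_eq_self_of_surjective hπs K]
        refine (Subgroup.map_mono h5).trans ?_
        rw [(Subgroup.map_eq_bot_iff O).2 (by rw [hπ, QuotientGroup.ker_mk'])]
    exact (Group.isSolvable_iff_subgroup_quotient O).2 ⟨hOs, hX⟩

end CfsgLib.H3Ti
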