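import Mathlib
import Cfsg.Agent.Lib.H3Ti4

/-!
# Quotients of Frobenius complements: uniqueness
-/

set_option autoImplicit false
set_option linter.style.haveILetI false

namespace CfsgLib.H3FC

open Subgroup
open scoped commutatorElement

universe u v

/-- in a Z-group commuting involutions coincide -/
theorem inv_eq {K : Type u} [Group K] [Finite K] [IsZGroup K] {a b : K} (ha : a ^ 2 = 1) (ha1 : a ≠ 1) (hb : b ^ 2 = 1) (hb1 : b ≠ 1)
    (hab : a * b = b * a) : a = b := by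
  haveI : Fact (Nat.Prime 2) := ⟨Nat.prime_two⟩
  have hpa : IsPGroup 2 (zpowers a) := IsPGroup.of_card (n := 1) (by rw [Nat.card_zpowers, orderOf_eq_prime ha ha1, pow_one])
  have hpb : IsPGroup 2 (zpowers b) := IsPGroup.of_card (n := 1) (by rw [Nat.card_zpowers, orderOf_eq_prime hb hb1, pow_one])
  have hn : zpowers b ≤ normalizer (zpowers a : Set K) := by
    refine le_trans ?_ (centralizer_le_normalizer _)
    rw [zpowers_le, mem_centralizer_iff]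
    intro h hh
    obtain ⟨k, rfl⟩ := mem_zpowers_iff.1 hh
    exact (Commute.zpow_left (show Commute a b from hab) k).eq
  have hp : IsPGroup 2 (zpowers a ⊔ zpowers b : Subgroup K) := IsPGroup.to_sup_of_normal_left' hpa hpb hn
  haveI := hp.isCyclic_of_isZGroup
  have h1 := CfsgLib.FrobAct.eq_of_isCyclic (X := (zpowers a ⊔ zpowers b : Subgroup K)) (n := 2) (by norm_num)
    (H := zpowers ⟨a, mem_sup_left (mem_zpowers a)⟩) (K := zpowers ⟨b, mem_sup_right (mem_zpowers b)⟩)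
    (by rw [Nat.card_zpowers, Subgroup.orderOf_mk, orderOf_eq_prime ha ha1])
    (by rw [Nat.card_zpowers, Subgroup.orderOf_mk, orderOf_eq_prime hb hb1])
  have h2 : (⟨a, mem_sup_left (mem_zpowers a)⟩ : (zpowers a ⊔ zpowers b : Subgroup K)) ∈ zpowers (⟨b, mem_sup_right (mem_zpowers b)⟩ : (zpowers a ⊔ zpowers b : Subgroup K)) := by
    rw [← h1]; exact mem_zpowers _
  obtain ⟨k, hk⟩ := mem_zpowers_iff.1 h2
  have h3 : b ^ k = a := congrArg Subtype.val hk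
  rcases Int.even_or_odd k with ⟨m, hm⟩ | ⟨m, hm⟩
  · exfalso
    apply ha1
    rw [← h3, hm, ← two_mul, zpow_mul, zpow_ofNat, hb, one_zpow]
  · rw [← h3, hm, zpow_add, zpow_mul, zpow_ofNat, hb, one_zpow, one_mul, zpow_one]

theorem a4_comp : ∀ k : alternatingGroup (Fin 4), k ≠ 1 → ∃ g h : alternatingGroup (Fin 4), (k * g * k⁻¹ * g⁻¹) ≠ 1 ∧ (k * g * k⁻¹ * g⁻¹) ^ 2 = 1 ∧
    h * (k * g * k⁻¹ * g⁻¹) * h⁻¹ ≠ (k * g * k⁻¹ * g⁻¹) ∧
    (k * g * k⁻¹ * g⁻¹) * (h * (k * g * k⁻¹ * g⁻¹) * h⁻¹) = (h * (k * g * k⁻¹ * g⁻¹) * h⁻¹) * (k * g * k⁻¹ * g⁻¹) := by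
  decide +kernel

theorem s4_comp : ∀ k : Equiv.Perm (Fin 4), k ≠ 1 → ∃ g h : Equiv.Perm (Fin 4), (k * g * k⁻¹ * g⁻¹) ≠ 1 ∧ (k * g * k⁻¹ * g⁻¹) ^ 2 = 1 ∧
    h * (k * g * k⁻¹ * g⁻¹) * h⁻¹ ≠ (k * g * k⁻¹ * g⁻¹) ∧
    (k * g * k⁻¹ * g⁻¹) * (h * (k * g * k⁻¹ * g⁻¹) * h⁻¹) = (h * (k * g * k⁻¹ * g⁻¹) * h⁻¹) * (k * g * k⁻¹ * g⁻¹) := by
  decide +kernel

theorem triv_of_comp {Q : Type u} [Group Q] [Finite Q] (hQ : ∀ k : Q, k ≠ 1 → ∃ g h : Q, (k * g * k⁻¹ * g⁻¹) ≠ 1 ∧ (k * g * k⁻¹ * g⁻¹) ^ 2 = 1 ∧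
    h * (k * g * k⁻¹ * g⁻¹) * h⁻¹ ≠ (k * g * k⁻¹ * g⁻¹) ∧
    (k * g * k⁻¹ * g⁻¹) * (h * (k * g * k⁻¹ * g⁻¹) * h⁻¹) = (h * (k * g * k⁻¹ * g⁻¹) * h⁻¹) * (k * g * k⁻¹ * g⁻¹)) (K : Subgroup Q) (hK : K.Normal) (hZ : IsZGroup K) :
    K = ⊥ := by
  rw [eq_bot_iff]
  intro k hk
  rw [mem_bot]
  by_contra hk1
  obtain ⟨g, h, h1, h2, h3, h4⟩ := hQ k hk1
  have ha : k * g * k⁻¹ * g⁻¹ ∈ K := by
    have e : k * g * k⁻¹ * g⁻¹ = k * (g * k⁻¹ * g⁻¹) := by group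
    rw [e]
    exact mul_mem hk (hK.conj_mem _ (inv_mem hk) g)
  set a := k * g * k⁻¹ * g⁻¹
  have hb : h * a * h⁻¹ ∈ K := hK.conj_mem _ ha h
  have hb1 : h * a * h⁻¹ ≠ 1 := fun h0 => h1 (by
    calc a = h⁻¹ * (h * a * h⁻¹) * h := by group
      _ = 1 := by rw [h0]; group)
  have hb2 : (h * a * h⁻¹) ^ 2 = 1 := by rw [conj_pow, h2]; group
  have := inv_eq (a := (⟨a, ha⟩ : K)) (b := ⟨h * a * h⁻¹, hb⟩) (Subtype.ext h2) (fun h0 => h1 (congrArg Subtype.val h0)) (Subtype.ext hb2)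
    (fun h0 => hb1 (congrArg Subtype.val h0)) (Subtype.ext h4)
  exact h3 (congrArg Subtype.val this).symm

theorem triv_a5 (K : Subgroup (alternatingGroup (Fin 5))) (hK : K.Normal) (hZ : IsZGroup K) : K = ⊥ := by
  haveI : IsSimpleGroup (alternatingGroup (Fin 5)) := alternatingGroup.isSimpleGroup (by rw [Nat.card_fin])
  rcases hK.eq_bot_or_eq_top with h | h
  · exact h
  · exfalso
    apply CfsgLib.Mob25.a5_not_solvable
    haveI : Group.IsSolvable K := inferInstance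
    exact Group.isSolvable_of_surjective (f := ((MulEquiv.subgroupCongr h).trans Subgroup.topEquiv).toMonoidHom)
      ((MulEquiv.subgroupCongr h).trans Subgroup.topEquiv).surjective

theorem s5_comp : ∀ k : Equiv.Perm (Fin 5), k * (Equiv.swap 0 1 * Equiv.swap 1 2) = (Equiv.swap 0 1 * Equiv.swap 1 2) * k →
    k * (Equiv.swap 2 3 * Equiv.swap 3 4) = (Equiv.swap 2 3 * Equiv.swap 3 4) * k → k = 1 := by
  decide +kernel

theorem triv_s5 (K : Subgroup (Equiv.Perm (Fin 5))) (hK : K.Normal) (hZ : IsZGroup K) : K = ⊥ := by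
  have h1 : K.subgroupOf (alternatingGroup (Fin 5)) = ⊥ := by
    refine triv_a5 _ inferInstance ?_
    exact IsZGroup.of_injective (f := ((alternatingGroup (Fin 5)).subtype.comp (K.subgroupOf (alternatingGroup (Fin 5))).subtype).codRestrict K (fun x => x.2)) (by
      intro a b hab
      have h0 : (((a : alternatingGroup (Fin 5)) : Equiv.Perm (Fin 5))) = ((b : alternatingGroup (Fin 5)) : Equiv.Perm (Fin 5)) := congrArg (fun x : K => (x : Equiv.Perm (Fin 5))) hab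
      exact Subtype.ext (Subtype.ext h0))
  rw [eq_bot_iff]
  intro k hk
  rw [mem_bot]
  have hc : ∀ a ∈ alternatingGroup (Fin 5), k * a = a * k := by
    intro a ha
    have h2 : k * a * k⁻¹ * a⁻¹ ∈ K := by
      have e : k * a * k⁻¹ * a⁻¹ = k * (a * k⁻¹ * a⁻¹) := by group
      rw [e]
      exact mul_mem hk (hK.conj_mem _ (inv_mem hk) a)
    have h3 : k * a * k⁻¹ * a⁻¹ ∈ alternatingGroup (Fin 5) := mul_mem ((inferInstance : (alternatingGroup (Fin 5)).Normal).conj_mem a ha k) (inv_mem ha)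
    have h4 : (⟨_, h3⟩ : alternatingGroup (Fin 5)) ∈ K.subgroupOf (alternatingGroup (Fin 5)) := h2
    rw [h1, mem_bot] at h4
    have h5 : k * a * k⁻¹ * a⁻¹ = 1 := congrArg Subtype.val h4
    calc k * a = (k * a * k⁻¹ * a⁻¹) * (a * k) := by group
      _ = a * k := by rw [h5, one_mul]
  exact s5_comp k (hc _ (Equiv.Perm.mem_alternatingGroup.2 (by decide))) (hc _ (Equiv.Perm.mem_alternatingGroup.2 (by decide)))

end CfsgLib.H3FC
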