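import Mathlib
import Cfsg.Agent.Lib.H3FC1

/-!
# Quotients of Frobenius complements: uniqueness
-/

set_option autoImplicit false
set_option linter.style.haveILetI false

namespace CfsgLib.H3FC

open Subgroup
open scoped commutatorElement

universe u v

/-- a group without nontrivial normal Z-subgroups -/
def Tr (Q : Type v) [Group Q] : Prop := ∀ K : Subgroup Q, K.Normal → IsZGroup K → K = ⊥

theorem le_ker_of_tr {G : Type u} [Group G] [Finite G] {Q : Type v} [Group Q] (f : G →* Q) (hf : Function.Surjective f) (hQ : Tr Q)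
    (N : Subgroup G) (hN : N.Normal) (hZ : IsZGroup N) : N ≤ f.ker := by
  have h1 : (N.map f).Normal := hN.map f hf
  have h2 : IsZGroup (N.map f) := IsZGroup.of_surjective (f := f.subgroupMap N) (f.subgroupMap_surjective N)
  rw [← Subgroup.map_eq_bot_iff]
  exact hQ _ h1 h2

theorem d2_sq : ∀ x : DihedralGroup 2, x * x = 1 := by decide
theorem d2_comm : ∀ x y : DihedralGroup 2, x * y = y * x := by decide
theorem d2_card : Nat.card (DihedralGroup 2) = 4 := by rw [DihedralGroup.nat_card]

theorem d2_not_cyclic : ¬ IsCyclic (DihedralGroup 2) := by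
  intro h
  obtain ⟨g, hg⟩ := h.exists_generator
  have h1 : orderOf g = 4 := by
    rw [← d2_card]; exact orderOf_eq_card_of_forall_mem_zpowers hg
  have h2 : orderOf g ∣ 2 := orderOf_dvd_of_pow_eq_one (by rw [pow_two]; exact d2_sq g)
  rw [h1] at h2
  omega

theorem d2_not_z : ¬ IsZGroup (DihedralGroup 2) := by
  intro h
  haveI : Fact (Nat.Prime 2) := ⟨Nat.prime_two⟩
  have hp : IsPGroup 2 (DihedralGroup 2) := IsPGroup.of_card (n := 2) (by rw [d2_card]; norm_num)
  have h2 := (hp.to_subgroup ⊤).isCyclic_of_isZGroup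
  exact d2_not_cyclic (isCyclic_of_surjective (Subgroup.topEquiv (G := DihedralGroup 2)) Subgroup.topEquiv.surjective)

theorem v4v4 {G : Type u} [Group G] [Finite G] (hCQ : CfsgLib.H3Ti.CQ G) (f1 f2 : G →* DihedralGroup 2)
    (h1 : Function.Surjective f1) (h2 : Function.Surjective f2) : f1.ker = f2.ker := by
  classical
  haveI : Fact (Nat.Prime 2) := ⟨Nat.prime_two⟩
  set F := f1.prod f2 with hF
  obtain ⟨P⟩ : Nonempty (Sylow 2 G) := inferInstance
  have hsq : ∀ y : DihedralGroup 2 × DihedralGroup 2, y * y = 1 := fun y => Prod.ext (d2_sq _) (d2_sq _)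
  have hcm : ∀ y z : DihedralGroup 2 × DihedralGroup 2, y * z = z * y := fun y z => Prod.ext (d2_comm _ _) (d2_comm _ _)
  have hidx : F.ker.index ∣ 16 := by
    rw [index_ker]
    have : Nat.card (DihedralGroup 2 × DihedralGroup 2) = 16 := by rw [Nat.card_prod, d2_card]
    rw [← this]
    exact Subgroup.card_subgroup_dvd_card _
  have htop : (P : Subgroup G) ⊔ F.ker = ⊤ := by
    rw [← Subgroup.index_eq_one]
    have ha : ((P : Subgroup G) ⊔ F.ker).index ∣ (P : Subgroup G).index := Subgroup.index_dvd_of_le le_sup_left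
    have hb : ((P : Subgroup G) ⊔ F.ker).index ∣ 2 ^ 4 := (Subgroup.index_dvd_of_le le_sup_right).trans hidx
    have hc : ¬ 2 ∣ (P : Subgroup G).index := P.not_dvd_index
    have hd : ((P : Subgroup G).index).Coprime (2 ^ 4) := Nat.Coprime.pow_right _ ((Nat.Prime.coprime_iff_not_dvd Nat.prime_two).2 hc).symm
    exact Nat.eq_one_of_dvd_coprimes hd ha hb
  have hmem : ∀ g : G, ∃ x : (P : Subgroup G), F g = F x := by
    intro g
    have hg : g ∈ (P : Subgroup G) ⊔ F.ker := by rw [htop]; exact mem_top _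
    obtain ⟨x, hx, k, hk, rfl⟩ := Subgroup.mem_sup_of_normal_right.1 hg
    refine ⟨⟨x, hx⟩, ?_⟩
    rw [map_mul, MonoidHom.mem_ker.1 hk, mul_one]
  have hpar : ∀ (y : DihedralGroup 2 × DihedralGroup 2) (k : ℕ), y ^ k = 1 ∨ y ^ k = y := by
    intro y k
    rcases Nat.even_or_odd k with ⟨m, hm⟩ | ⟨m, hm⟩
    · left; rw [hm, ← two_mul, pow_mul, pow_two, hsq, one_pow]
    · right; rw [hm, pow_succ, pow_mul, pow_two, hsq, one_pow, one_mul]
  have hab : ∃ α β : DihedralGroup 2 × DihedralGroup 2, ∀ x : (P : Subgroup G), F x = 1 ∨ F x = α ∨ F x = β ∨ F x = β * α := by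
    rcases hCQ 2 P P.2 with hcy | ⟨-, n, ⟨e⟩⟩
    · obtain ⟨x, hx⟩ := hcy.exists_generator
      refine ⟨F x, 1, fun y => ?_⟩
      obtain ⟨k, hk⟩ := (mem_powers_iff_mem_zpowers (x := x) (y := y)).2 (hx y)
      have hk' : (x : G) ^ k = y := congrArg Subtype.val hk
      rw [← hk', map_pow]
      rcases hpar (F x) k with h | h
      · left; exact h
      · right; left; exact h
    · set Fe : QuaternionGroup (2 ^ n) →* DihedralGroup 2 × DihedralGroup 2 := (F.comp (P : Subgroup G).subtype).comp e.symm.toMonoidHom with hFe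
      refine ⟨Fe (QuaternionGroup.a 1), Fe (QuaternionGroup.xa 0), fun x => ?_⟩
      have hx : F x = Fe (e x) := by simp [hFe]
      have hai : ∀ i : ZMod (2 * 2 ^ n), Fe (QuaternionGroup.a i) = 1 ∨ Fe (QuaternionGroup.a i) = Fe (QuaternionGroup.a 1) := by
        intro i
        haveI : NeZero (2 * 2 ^ n) := ⟨by positivity⟩
        have : QuaternionGroup.a i = (QuaternionGroup.a 1 : QuaternionGroup (2 ^ n)) ^ i.val := by
          rw [QuaternionGroup.a_one_pow, ZMod.natCast_zmod_val]
        rw [this, map_pow]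
        exact hpar _ _
      rw [hx]
      generalize e x = q
      rcases q with i | i
      · rcases hai i with h | h
        · left; exact h
        · right; left; exact h
      · have hxa : (QuaternionGroup.xa i : QuaternionGroup (2 ^ n)) = QuaternionGroup.xa 0 * QuaternionGroup.a i := by
          rw [QuaternionGroup.xa_mul_a, zero_add]
        rw [hxa, map_mul]
        rcases hai i with h | h
        · right; right; left; rw [h, mul_one]
        · right; right; right; rw [h]
  obtain ⟨α, β, hαβ⟩ := hab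
  have hcard : Nat.card F.range ≤ 4 := by
    have hsub : (F.range : Set (DihedralGroup 2 × DihedralGroup 2)) ⊆ (({1, α, β, β * α} : Finset (DihedralGroup 2 × DihedralGroup 2)) : Set _) := by
      rintro _ ⟨g, rfl⟩
      obtain ⟨x, hx⟩ := hmem g
      rw [hx]
      rcases hαβ x with h | h | h | h <;> rw [h] <;> simp
    have h3 : (F.range : Set (DihedralGroup 2 × DihedralGroup 2)).ncard ≤ (({1, α, β, β * α} : Finset (DihedralGroup 2 × DihedralGroup 2)) : Set (DihedralGroup 2 × DihedralGroup 2)).ncard :=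
      Set.ncard_le_ncard hsub (Finset.finite_toSet _)
    rw [Set.ncard_coe_finset] at h3
    exact le_trans h3 Finset.card_le_four
  have key : ∀ f : G →* DihedralGroup 2, Function.Surjective f → F.ker ≤ f.ker → F.ker = f.ker := by
    intro f hf hle
    have hi : f.ker.index = 4 := by
      rw [index_ker, MonoidHom.range_eq_top.2 hf, ← d2_card]
      exact Nat.card_congr Subgroup.topEquiv.toEquiv
    have h4 := Subgroup.relIndex_mul_index hle
    have h5 : F.ker.index ≤ 4 := by rw [index_ker]; exact hcard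
    have h6 : F.ker.relIndex f.ker = 1 := by
      rw [hi] at h4
      have h7 : F.ker.relIndex f.ker ≠ 0 := by
        intro h0
        rw [h0, zero_mul] at h4
        exact Subgroup.index_ne_zero_of_finite h4.symm
      omega
    exact le_antisymm hle (Subgroup.relIndex_eq_one.1 h6)
  have e1 := key f1 h1 (by
    intro g hg
    have : F g = 1 := hg
    exact congrArg Prod.fst this)
  have e2 := key f2 h2 (by
    intro g hg
    have : F g = 1 := hg
    exact congrArg Prod.snd this)
  rw [← e1, e2]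

/-- kernels of maps onto large groups without normal Z-subgroups -/
def Big {G : Type u} [Group G] (N : Subgroup G) : Prop :=
  ∃ (Q : Type) (_ : Group Q) (_ : Finite Q) (f : G →* Q), Function.Surjective f ∧ f.ker = N ∧ Tr Q ∧ 4 < Nat.card Q

theorem uniq {G : Type u} [Group G] [Finite G] (hCQ : ∀ f : G →* DihedralGroup 2, Function.Surjective f → CfsgLib.H3Ti.CQ G) (N1 N2 : Subgroup G)
    (hn1 : N1.Normal) (hz1 : IsZGroup N1) (hn2 : N2.Normal) (hz2 : IsZGroup N2)
    (h1 : N1 = ⊤ ∨ (∃ f : G →* DihedralGroup 2, Function.Surjective f ∧ f.ker = N1) ∨ Big N1)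
    (h2 : N2 = ⊤ ∨ (∃ f : G →* DihedralGroup 2, Function.Surjective f ∧ f.ker = N2) ∨ Big N2) : N1 = N2 := by
  have hG : ∀ N : Subgroup G, N = ⊤ → IsZGroup N → IsZGroup G := by
    intro N hN hz
    subst hN
    exact IsZGroup.of_injective (f := (Subgroup.topEquiv (G := G)).symm.toMonoidHom) (Subgroup.topEquiv (G := G)).symm.injective
  have hA : IsZGroup G → ∀ f : G →* DihedralGroup 2, Function.Surjective f → False := by
    intro hz f hf
    exact d2_not_z (IsZGroup.of_surjective (f := f) hf)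
  have hB : IsZGroup G → ∀ N : Subgroup G, Big N → False := by
    rintro hz N ⟨Q, _, _, f, hf, -, htr, hc⟩
    have h3 : IsZGroup Q := IsZGroup.of_surjective (f := f) hf
    have h4 : (⊤ : Subgroup Q) = ⊥ := htr ⊤ inferInstance inferInstance
    have h5 : Nat.card Q = 1 := by
      rw [← Subgroup.card_top (G := Q), h4, card_bot]
    omega
  have hC : ∀ N N' : Subgroup G, N'.Normal → IsZGroup N' → Big N → N' ≤ N := by
    rintro N N' hn hz ⟨Q, _, _, f, hf, rfl, htr, -⟩
    exact le_ker_of_tr f hf htr N' hn hz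
  have hD : ∀ N N' : Subgroup G, N'.Normal → IsZGroup N' → Big N → (∃ f : G →* DihedralGroup 2, Function.Surjective f ∧ f.ker = N') → False := by
    rintro N N' hn hz hbig ⟨f, hf, hk⟩
    have h3 := hC N N' hn hz hbig
    obtain ⟨Q, _, _, f', hf', hk', -, hc⟩ := hbig
    have h4 : N'.index = 4 := by
      rw [← hk, index_ker, MonoidHom.range_eq_top.2 hf, ← d2_card]
      exact Nat.card_congr Subgroup.topEquiv.toEquiv
    have h5 : N.index = Nat.card Q := by
      rw [← hk', index_ker, MonoidHom.range_eq_top.2 hf']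
      exact Nat.card_congr Subgroup.topEquiv.toEquiv
    have h6 := Nat.le_of_dvd (by omega) (Subgroup.index_dvd_of_le h3)
    omega
  rcases h1 with h1 | h1 | h1
  · have hz := hG N1 h1 hz1
    rcases h2 with h2 | ⟨f, hf, -⟩ | h2
    · rw [h1, h2]
    · exact (hA hz f hf).elim
    · exact (hB hz N2 h2).elim
  · rcases h2 with h2 | h2 | h2
    · obtain ⟨f, hf, -⟩ := h1
      exact (hA (hG N2 h2 hz2) f hf).elim
    · obtain ⟨f, hf, rfl⟩ := h1
      obtain ⟨f', hf', rfl⟩ := h2
      exact v4v4 (hCQ f hf) f f' hf hf'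
    · exact (hD N2 N1 hn1 hz1 h2 h1).elim
  · rcases h2 with h2 | h2 | h2
    · exact (hB (hG N2 h2 hz2) N1 h1).elim
    · exact (hD N1 N2 hn2 hz2 h1 h2).elim
    · exact le_antisymm (hC N2 N1 hn1 hz1 h2) (hC N1 N2 hn2 hz2 h1)

theorem tr_a4 : Tr (alternatingGroup (Fin 4)) := fun K hK hZ => triv_of_comp a4_comp K hK hZ
theorem tr_s4 : Tr (Equiv.Perm (Fin 4)) := fun K hK hZ => triv_of_comp s4_comp K hK hZ

theorem card_a4 : Nat.card (alternatingGroup (Fin 4)) = 12 := by
  rw [nat_card_alternatingGroup, Nat.card_fin]; rfl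
theorem card_a5 : Nat.card (alternatingGroup (Fin 5)) = 60 := by
  rw [nat_card_alternatingGroup, Nat.card_fin]; rfl
theorem card_s4 : Nat.card (Equiv.Perm (Fin 4)) = 24 := by
  rw [Nat.card_perm, Nat.card_fin]; rfl
theorem card_s5 : Nat.card (Equiv.Perm (Fin 5)) = 120 := by
  rw [Nat.card_perm, Nat.card_fin]; rfl

theorem big_of {G : Type u} [Group G] {N : Subgroup G} (h :
    (∃ f : G →* alternatingGroup (Fin 4), Function.Surjective f ∧ f.ker = N) ∨
        (∃ f : G →* Equiv.Perm (Fin 4), Function.Surjective f ∧ f.ker = N) ∨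
        (∃ f : G →* alternatingGroup (Fin 5), Function.Surjective f ∧ f.ker = N) ∨
        (∃ f : G →* Equiv.Perm (Fin 5), Function.Surjective f ∧ f.ker = N)) : Big N := by
  rcases h with ⟨f, hf, hk⟩ | ⟨f, hf, hk⟩ | ⟨f, hf, hk⟩ | ⟨f, hf, hk⟩
  · exact ⟨_, inferInstance, inferInstance, f, hf, hk, tr_a4, by rw [card_a4]; norm_num⟩
  · exact ⟨_, inferInstance, inferInstance, f, hf, hk, tr_s4, by rw [card_s4]; norm_num⟩
  · exact ⟨_, inferInstance, inferInstance, f, hf, hk, fun K h1 h2 => triv_a5 K h1 h2, by rw [card_a5]; norm_num⟩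
  · exact ⟨_, inferInstance, inferInstance, f, hf, hk, fun K h1 h2 => triv_s5 K h1 h2, by rw [card_s5]; norm_num⟩

end CfsgLib.H3FC
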