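import Mathlib
import Cfsg.Agent.Lib.H3FC2
import Cfsg.Agent.Lib.FrobQuot

/-!
# Quotients of Frobenius complements: existence, nonsolvable case
-/

set_option autoImplicit false
set_option linter.style.haveILetI false

namespace CfsgLib.H3FC

open Subgroup CfsgLib.H3Zas
open scoped commutatorElement

universe u v

theorem zgroup_ext {G : Type u} [Group G] [Finite G] (M N : Subgroup G) [M.Normal] (hMN : M ≤ N) (hZ : IsZGroup M) (h2 : ¬ 2 ∣ Nat.card M)
    {k : ℕ} (hk : M.relIndex N = 2 ^ k) (hcyc : IsCyclic (N.map (QuotientGroup.mk' M))) : IsZGroup N := by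
  refine ⟨fun p hp P => ?_⟩
  haveI : Fact p.Prime := ⟨hp⟩
  have hPp : IsPGroup p P := P.2
  rcases eq_or_ne p 2 with rfl | hp2
  · let f : (P : Subgroup N) →* N.map (QuotientGroup.mk' M) := ((QuotientGroup.mk' M).comp (N.subtype.comp (P : Subgroup N).subtype)).codRestrict _
      (fun x => ⟨(x : N), x.1.2, rfl⟩)
    have hf : Function.Injective f := by
      rw [injective_iff_map_eq_one]
      intro x hx
      have h3 : (QuotientGroup.mk' M) ((x : N) : G) = 1 := congrArg (fun y : N.map (QuotientGroup.mk' M) => (y : G ⧸ M)) hx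
      have h4 : ((x : N) : G) ∈ M := (QuotientGroup.eq_one_iff _).1 h3
      obtain ⟨j, hj⟩ := hPp x
      have h5 : orderOf x ∣ 2 ^ j := orderOf_dvd_of_pow_eq_one hj
      have h6 : orderOf x ∣ Nat.card M := by
        have := orderOf_dvd_natCard (⟨_, h4⟩ : M)
        rwa [Subgroup.orderOf_mk, Subgroup.orderOf_coe, Subgroup.orderOf_coe] at this
      have h7 : (2 ^ j).Coprime (Nat.card M) := Nat.Coprime.pow_left _ ((Nat.Prime.coprime_iff_not_dvd Nat.prime_two).2 h2)
      exact orderOf_eq_one_iff.1 (Nat.eq_one_of_dvd_coprimes h7 h5 h6)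
    exact isCyclic_of_injective f hf
  · have hle : ∀ x : (P : Subgroup N), ((x : N) : G) ∈ M := by
      intro x
      obtain ⟨j, hj⟩ := hPp x
      have h3 : ((x : N) : G) ^ (2 ^ k) ∈ M := by
        have h4 : (QuotientGroup.mk' M) ((x : N) : G) ∈ N.map (QuotientGroup.mk' M) := ⟨(x : N), x.1.2, rfl⟩
        have h5 : (⟨_, h4⟩ : N.map (QuotientGroup.mk' M)) ^ (2 ^ k) = 1 := by
          rw [← hk, CfsgLib.FrobQuot.relIndex_eq_card_map]
          exact pow_card_eq_one'
        have h6 := congrArg (fun y : N.map (QuotientGroup.mk' M) => (y : G ⧸ M)) h5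
        exact (QuotientGroup.eq_one_iff _).1 h6
      have h7 : ((x : N) : G) ^ (p ^ j) ∈ M := by
        have h8 : ((x : N) : G) ^ (p ^ j) = 1 := congrArg (fun y : (P : Subgroup N) => ((y : N) : G)) hj
        rw [h8]; exact one_mem _
      have h9 : Nat.gcd (2 ^ k) (p ^ j) = 1 := Nat.Coprime.pow _ _ ((Nat.coprime_primes Nat.prime_two hp).2 (Ne.symm hp2))
      have h10 : (((x : N) : G) : G ⧸ M) ^ Nat.gcd (2 ^ k) (p ^ j) = 1 := by
        rw [pow_gcd_eq_one]
        refine ⟨?_, ?_⟩
        · rw [← QuotientGroup.mk_pow]; exact (QuotientGroup.eq_one_iff _).2 h3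
        · rw [← QuotientGroup.mk_pow]; exact (QuotientGroup.eq_one_iff _).2 h7
      rw [h9, pow_one] at h10
      exact (QuotientGroup.eq_one_iff _).1 h10
    let g : (P : Subgroup N) →* M := (N.subtype.comp (P : Subgroup N).subtype).codRestrict M hle
    have hg : Function.Injective g := by
      intro a b hab
      have h3 : ((a : N) : G) = ((b : N) : G) := congrArg (fun y : M => (y : G)) hab
      exact Subtype.ext (Subtype.ext h3)
    have h4 : IsPGroup p g.range := hPp.of_surjective g.rangeRestrict g.rangeRestrict_surjective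
    haveI := h4.isCyclic_of_isZGroup
    exact isCyclic_of_injective g.rangeRestrict (g.rangeRestrict_injective_iff.2 hg)

theorem zgroup_ext_two {G : Type u} [Group G] [Finite G] (M N : Subgroup G) [M.Normal] (hMN : M ≤ N) (hZ : IsZGroup M) (h2 : ¬ 2 ∣ Nat.card M)
    (hk : M.relIndex N = 2) : IsZGroup N := by
  haveI : Fact (Nat.Prime 2) := ⟨Nat.prime_two⟩
  refine zgroup_ext M N hMN hZ h2 (k := 1) (by rw [hk, pow_one]) ?_
  refine isCyclic_of_prime_card (p := 2) ?_
  rw [← CfsgLib.FrobQuot.relIndex_eq_card_map, hk]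

theorem card_syl {N : Type u} [Group N] (e : N ≃* S25) : Nat.card (Sylow 2 N) = 5 := by
  haveI := e_finite e
  haveI : Fact (Nat.Prime 2) := ⟨Nat.prime_two⟩
  rcases (Nat.dvd_prime Nat.prime_five).1 (e_syl e) with h | h
  · exfalso
    haveI : Subsingleton (Sylow 2 N) := (Nat.card_eq_one_iff_unique.1 h).1
    have hα : ∀ α : MulAut N, α = 1 := fun α => e_aut_inj e α (fun P => Subsingleton.elim _ _)
    have hc : center N = ⊤ := by
      rw [eq_top_iff]
      intro x _
      rw [mem_center_iff]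
      intro y
      have h1 := congrArg (fun a : MulAut N => a x) (hα (MulAut.conj y))
      have h2 : y * x * y⁻¹ = x := h1
      calc y * x = (y * x * y⁻¹) * y := by group
        _ = x * y := by rw [h2]
    have h3 := e_center e
    rw [hc, Subgroup.card_top, e_card e] at h3
    omega
  · exact h

theorem index_two_or {m : ℕ} {K : Subgroup (Equiv.Perm (Fin m))} (hc : Nat.card K * 2 = Nat.card (Equiv.Perm (Fin m))) (h0 : Nat.card K ≠ 0) :
    K = alternatingGroup (Fin m) := by
  refine Equiv.Perm.eq_alternatingGroup_of_index_eq_two ?_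
  have h1 := K.card_mul_index
  rw [← hc] at h1
  exact Nat.eq_of_mul_eq_mul_left (Nat.pos_of_ne_zero h0) h1

/-- restricting the codomain -/
theorem to_alt {G : Type u} [Group G] {m : ℕ} (f : G →* Equiv.Perm (Fin m)) (h : f.range = alternatingGroup (Fin m)) :
    ∃ g : G →* alternatingGroup (Fin m), Function.Surjective g ∧ g.ker = f.ker := by
  refine ⟨f.codRestrict _ (fun x => by rw [← h]; exact ⟨x, rfl⟩), ?_, ?_⟩
  · rintro ⟨y, hy⟩
    have hy' := hy
    rw [← h] at hy'
    obtain ⟨x, hx⟩ := hy'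
    exact ⟨x, Subtype.ext hx⟩
  · ext x
    rw [MonoidHom.mem_ker, MonoidHom.mem_ker]
    exact ⟨fun h => congrArg (fun y : alternatingGroup (Fin m) => (y : Equiv.Perm (Fin m))) h, fun h => Subtype.ext h⟩

theorem exists_nonsolv {G : Type u} [Group G] [Finite G] (hF : HasFree.{v, u} G) (hns : ¬ Group.IsSolvable G) :
    ∃ N : Subgroup G, N.Normal ∧ IsZGroup N ∧
        ((∃ f : G →* alternatingGroup (Fin 5), Function.Surjective f ∧ f.ker = N) ∨
        (∃ f : G →* Equiv.Perm (Fin 5), Function.Surjective f ∧ f.ker = N)) := by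
  classical
  obtain ⟨⟨e⟩, M, hMn, hMc, hM30, hMZ, hinf, hsup, hidx⟩ := structure_thm hF hns
  haveI := hMn
  haveI : Fact (Nat.Prime 2) := ⟨Nat.prime_two⟩
  set S := N3 G with hS
  set C := centralizer (S : Set G) with hC
  haveI : C.Normal := by rw [hC]; infer_instance
  haveI : Finite (Sylow 2 S) := inferInstance
  have h1 : Nat.card (S ⊔ C : Subgroup G) * 2 = Nat.card S * Nat.card C := by
    rw [← CfsgLib.H3Misc.card_sup_mul_card_inf S C, inf_comm C S]
    congr 1
    exact (card_inf_centralizer e).symm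
  have h2 : Nat.card (S ⊔ C : Subgroup G) = Nat.card S * Nat.card M := by
    rw [← hsup]
    exact CfsgLib.H3Misc.card_sup_of_disjoint S M (by rw [inf_comm]; exact hinf)
  have hSc : Nat.card S = 120 := e_card e
  have hCM : Nat.card C = Nat.card M * 2 := by
    rw [h2, hSc, mul_assoc] at h1
    exact (Nat.eq_of_mul_eq_mul_left (by norm_num) h1).symm
  have hM0 : 0 < Nat.card M := Nat.card_pos
  have hrel : M.relIndex C = 2 := by
    have h3 := CfsgLib.H3Syl.card_mul_relIndex hMc
    rw [hCM] at h3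
    exact Nat.eq_of_mul_eq_mul_left hM0 h3
  have hCZ : IsZGroup C := zgroup_ext_two M C hMc hMZ (by
    intro h3
    have h4 : 2 ∣ Nat.gcd (Nat.card M) 30 := Nat.dvd_gcd h3 (by norm_num)
    rw [hM30] at h4
    norm_num at h4) hrel
  have hCidx : C.index = 60 * (S ⊔ M).index := by
    have h3 := C.card_mul_index
    have h4 := (S ⊔ M).card_mul_index
    rw [hsup] at h4 ⊢
    rw [h2, hSc] at h4
    rw [hCM] at h3
    have h5 : Nat.card M * 2 * C.index = Nat.card M * 2 * (60 * (S ⊔ C).index) := by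
      rw [h3, ← h4]; ring
    exact Nat.eq_of_mul_eq_mul_left (by omega) h5
  obtain ⟨eq5⟩ : Nonempty (Sylow 2 S ≃ Fin 5) := by
    exact ⟨(Nat.equivFinOfCardPos (by rw [card_syl e]; norm_num)).trans (finCongr (card_syl e))⟩
  let f : G →* Equiv.Perm (Fin 5) := ((Equiv.permCongrHom eq5).toMonoidHom.comp (MulAction.toPermHom (MulAut S) (Sylow 2 S))).comp (MulAut.conjNormal : G →* MulAut S)
  have hfk : f.ker = C := by
    rw [hC, ← CfsgLib.H3Ti.conjNormal_ker]
    ext g
    rw [MonoidHom.mem_ker, MonoidHom.mem_ker]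
    constructor
    · intro h
      have h3 : MulAction.toPermHom (MulAut S) (Sylow 2 S) (MulAut.conjNormal g) = 1 :=
        (Equiv.permCongrHom eq5).injective (h.trans (map_one _).symm)
      exact e_aut_inj e _ (fun P => congrArg (fun σ : Equiv.Perm (Sylow 2 S) => σ P) h3)
    · intro h
      change Equiv.permCongrHom eq5 (MulAction.toPermHom (MulAut S) (Sylow 2 S) (MulAut.conjNormal g)) = 1
      rw [h, map_one, map_one]
  have hrc : Nat.card f.range = C.index := by rw [← index_ker, hfk]
  refine ⟨C, inferInstance, hCZ, ?_⟩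
  rcases (Nat.dvd_prime Nat.prime_two).1 hidx with h | h
  · left
    rw [hCidx, h] at hrc
    obtain ⟨g, hg, hgk⟩ := to_alt f (index_two_or (by rw [hrc, card_s5]) (by rw [hrc]; norm_num))
    exact ⟨g, hg, hgk.trans hfk⟩
  · right
    rw [hCidx, h] at hrc
    refine ⟨f, ?_, hfk⟩
    rw [← MonoidHom.range_eq_top]
    exact Subgroup.eq_top_of_card_eq _ (by rw [hrc, card_s5])

end CfsgLib.H3FC
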