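import Mathlib
import Cfsg.Agent.Lib.H3FC3
import Cfsg.Agent.Lib.H7Basic
import Cfsg.Agent.Lib.Solv
import Cfsg.Agent.Lib.Core

/-!
# Quotients of Frobenius complements: existence, solvable case
-/

set_option autoImplicit false
set_option linter.style.haveILetI false

namespace CfsgLib.H3FC

open Subgroup CfsgLib.H3Ti
open scoped commutatorElement

universe u v

theorem iso_lift {G : Type u} [Group G] [Finite G] (O : Subgroup G) [O.Normal] (h2 : ¬ 2 ∣ Nat.card O)
    (T : Subgroup (G ⧸ O)) (hT : IsPGroup 2 T) : ∃ K : Subgroup G, IsPGroup 2 K ∧ Nonempty (K ≃* T) := by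
  haveI : Fact (Nat.Prime 2) := ⟨Nat.prime_two⟩
  obtain ⟨S, hS⟩ := hT.exists_le_sylow
  obtain ⟨S', -, hS'⟩ := CfsgLib.H7Basic.exists_sylow_lift O ⊥ (IsPGroup.of_bot) S (by rw [Subgroup.map_bot]; exact bot_le)
  let K : Subgroup G := (S' : Subgroup G) ⊓ T.comap (QuotientGroup.mk' O)
  have hK : IsPGroup 2 K := S'.2.to_le inf_le_left
  refine ⟨K, hK, ⟨?_⟩⟩
  let f : K →* T := ((QuotientGroup.mk' O).comp K.subtype).codRestrict T (fun x => (mem_inf.1 x.2).2)
  refine MulEquiv.ofBijective f ⟨?_, ?_⟩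
  · rw [injective_iff_map_eq_one]
    intro x hx
    have h3 : (QuotientGroup.mk' O) (x : G) = 1 := congrArg (fun y : T => (y : G ⧸ O)) hx
    have h4 : (x : G) ∈ O := (QuotientGroup.eq_one_iff _).1 h3
    obtain ⟨j, hj⟩ := hK x
    have h5 : orderOf x ∣ 2 ^ j := orderOf_dvd_of_pow_eq_one hj
    have h6 : orderOf x ∣ Nat.card O := by
      have := orderOf_dvd_natCard (⟨_, h4⟩ : O)
      rwa [Subgroup.orderOf_mk, Subgroup.orderOf_coe] at this
    have h7 : (2 ^ j).Coprime (Nat.card O) := Nat.Coprime.pow_left _ ((Nat.Prime.coprime_iff_not_dvd Nat.prime_two).2 h2)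
    exact orderOf_eq_one_iff.1 (Nat.eq_one_of_dvd_coprimes h7 h5 h6)
  · rintro ⟨t, ht⟩
    have h3 := hS ht
    have h3' : t ∈ (S' : Subgroup G).map (QuotientGroup.mk' O) := by rw [hS']; exact h3
    obtain ⟨s, hs, hst⟩ := h3'
    exact ⟨⟨s, mem_inf.2 ⟨hs, by rw [mem_comap, hst]; exact ht⟩⟩, Subtype.ext hst⟩

theorem cq_quot {G : Type u} [Group G] [Finite G] (hCQ : CQ G) (O : Subgroup G) [O.Normal] (h2 : ¬ 2 ∣ Nat.card O)
    (T : Subgroup (G ⧸ O)) (hT : IsPGroup 2 T) : IsCyclic T ∨ ∃ n : ℕ, 1 ≤ n ∧ Nonempty (T ≃* QuaternionGroup (2 ^ n)) := by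
  haveI : Fact (Nat.Prime 2) := ⟨Nat.prime_two⟩
  obtain ⟨K, hK, ⟨e⟩⟩ := iso_lift O h2 T hT
  rcases hCQ 2 K hK with h | ⟨-, n, ⟨f⟩⟩
  · left; exact isCyclic_of_surjective e e.surjective
  · match n, f with
    | 0, f =>
      left
      have f' : T ≃* QuaternionGroup (2 ^ 0) := e.symm.trans f
      have hcard : Nat.card T = 4 := by rw [Nat.card_congr f'.toEquiv, Nat.card_eq_fintype_card]; decide
      refine isCyclic_of_orderOf_eq_card (f'.symm (QuaternionGroup.xa 0)) ?_
      rw [hcard, MulEquiv.orderOf_eq, QuaternionGroup.orderOf_xa]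
    | (m + 1), f =>
      right
      exact ⟨m + 1, by omega, ⟨e.symm.trans f⟩⟩

theorem aut_p {T : Type u} [Group T] [Finite T] (hT : IsPGroup 2 T) (h : IsCyclic T ∨ ∃ n : ℕ, 2 ≤ n ∧ Nonempty (T ≃* QuaternionGroup (2 ^ n))) :
    IsPGroup 2 (MulAut T) := by
  haveI : Fact (Nat.Prime 2) := ⟨Nat.prime_two⟩
  rcases h with hc | ⟨n, hn, ⟨e⟩⟩
  · obtain ⟨k, hk⟩ := IsPGroup.iff_card.1 hT
    have h1 : Nat.card (MulAut T) ∣ 2 ^ (k + 1) := by
      rw [IsCyclic.card_mulAut, hk]
      cases k with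
      | zero => simp
      | succ k =>
        rw [Nat.totient_prime_pow_succ Nat.prime_two]
        simp only [Nat.add_one_sub_one, mul_one]
        exact pow_dvd_pow 2 (by omega)
    obtain ⟨j, -, hj⟩ := (Nat.dvd_prime_pow Nat.prime_two).1 h1
    exact IsPGroup.of_card hj
  · have h2 := (CfsgLib.Fusion.aut_quaternion hn e).2
    haveI : Finite (MulAut T) := inferInstance
    intro α
    obtain ⟨k, m', hm', hk⟩ := Nat.exists_eq_two_pow_mul_odd (n := orderOf α) (orderOf_pos α).ne'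
    refine ⟨k, ?_⟩
    apply h2
    have hpos : 0 < 2 ^ k := by positivity
    rw [orderOf_pow_of_dvd hpos.ne' (by rw [hk]; exact dvd_mul_right _ _), hk, Nat.mul_div_cancel_left _ hpos]
    exact hm'.coprime_two_right

/-- the Klein four quotient of a generalized quaternion group -/
def qd (m : ℕ) (hm : 2 ∣ m) : QuaternionGroup m →* DihedralGroup 2 where
  toFun q := match q with
    | QuaternionGroup.a i => DihedralGroup.r (ZMod.castHom (dvd_mul_right 2 m) (ZMod 2) i)
    | QuaternionGroup.xa i => DihedralGroup.sr (ZMod.castHom (dvd_mul_right 2 m) (ZMod 2) i)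
  map_one' := by
    change DihedralGroup.r (ZMod.castHom (dvd_mul_right 2 m) (ZMod 2) 0) = 1
    rw [map_zero]; rfl
  map_mul' := by
    have hm0 : ((m : ℕ) : ZMod 2) = 0 := (ZMod.natCast_eq_zero_iff m 2).2 hm
    rintro (i | i) (j | j)
    · rw [QuaternionGroup.a_mul_a]
      dsimp only
      rw [map_add, DihedralGroup.r_mul_r]
    · rw [QuaternionGroup.a_mul_xa]
      dsimp only
      rw [map_sub, DihedralGroup.r_mul_sr]
    · rw [QuaternionGroup.xa_mul_a]
      dsimp only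
      rw [map_add, DihedralGroup.sr_mul_r]
    · rw [QuaternionGroup.xa_mul_xa]
      dsimp only
      rw [map_sub, map_add, map_natCast, hm0, zero_add, DihedralGroup.sr_mul_sr]

theorem qd_surj (m : ℕ) (hm : 2 ∣ m) : Function.Surjective (qd m hm) := by
  rintro (i | i)
  · obtain ⟨j, hj⟩ := ZMod.castHom_surjective (dvd_mul_right 2 m) i
    exact ⟨QuaternionGroup.a j, congrArg DihedralGroup.r hj⟩
  · obtain ⟨j, hj⟩ := ZMod.castHom_surjective (dvd_mul_right 2 m) i
    exact ⟨QuaternionGroup.xa j, congrArg DihedralGroup.sr hj⟩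

theorem qd_ker (m : ℕ) [NeZero m] (hm : 2 ∣ m) : (qd m hm).ker ≤ zpowers (QuaternionGroup.a 1) := by
  rintro (i | i) h
  · haveI : NeZero (2 * m) := ⟨by have := NeZero.ne m; omega⟩
    have : QuaternionGroup.a i = (QuaternionGroup.a 1 : QuaternionGroup m) ^ i.val := by
      rw [QuaternionGroup.a_one_pow, ZMod.natCast_zmod_val]
    rw [this]
    exact npow_mem_zpowers _ _
  · exfalso
    have h1 : DihedralGroup.sr (ZMod.castHom (dvd_mul_right 2 m) (ZMod 2) i) = (1 : DihedralGroup 2) := h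
    rw [DihedralGroup.one_def] at h1
    exact DihedralGroup.noConfusion rfl (heq_of_eq h1)

end CfsgLib.H3FC
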