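import Mathlib
import Cfsg.Agent.Lib.H3Zas1
import Cfsg.Agent.Lib.H3Zas14

/-!
# Lifting fixed point free representations along `ZMod (q^(m+1)) → ZMod (q^m)`
-/

set_option autoImplicit false
set_option maxHeartbeats 1000000

namespace CfsgLib.H3Fld

universe u v w

/-- coprime lifting of homomorphisms -/
theorem lift_hom {X : Type u} {Y : Type v} {G : Type w} [Group X] [Group Y] [Group G] [Finite X] [Finite G]
    (π : X →* Y) (hπ : Function.Surjective π) (hc : (Nat.card π.ker).Coprime (Nat.card G)) (f : G →* Y) :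
    ∃ f' : G →* X, π.comp f' = f := by
  classical
  let P : Subgroup (G × X) := (f.comp (MonoidHom.fst G X)).eqLocus (π.comp (MonoidHom.snd G X))
  let pr : P →* G := (MonoidHom.fst G X).comp P.subtype
  have hpr : Function.Surjective pr := by
    intro g
    obtain ⟨x, hx⟩ := hπ (f g)
    exact ⟨⟨(g, x), hx.symm⟩, rfl⟩
  have hmem : ∀ y : P, f (y : G × X).1 = π (y : G × X).2 := fun y => y.2
  let j : pr.ker →* π.ker :=
    { toFun := fun y => ⟨((y : P) : G × X).2, by
        have h1 := hmem y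
        have h2 : ((y : P) : G × X).1 = 1 := y.2
        rw [h2, map_one] at h1
        exact h1.symm⟩
      map_one' := rfl
      map_mul' := fun a b => rfl }
  have hj : Function.Injective j := by
    intro a b hab
    have h1 : ((a : P) : G × X).2 = ((b : P) : G × X).2 := congrArg Subtype.val hab
    have h2 : ((a : P) : G × X).1 = 1 := a.2
    have h3 : ((b : P) : G × X).1 = 1 := b.2
    exact Subtype.ext (Subtype.ext (Prod.ext (h2.trans h3.symm) h1))
  have hidx : pr.ker.index = Nat.card G := by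
    rw [Subgroup.index_ker, MonoidHom.range_eq_top.2 hpr]
    exact Nat.card_congr (Equiv.Set.univ G)
  have hcop : (Nat.card pr.ker).Coprime pr.ker.index := by
    rw [hidx]
    exact Nat.Coprime.coprime_dvd_left (Subgroup.card_dvd_of_injective j hj) hc
  obtain ⟨K, hK⟩ := Subgroup.exists_right_complement'_of_coprime hcop
  have hbij : Function.Bijective (pr.comp K.subtype) := by
    constructor
    · rw [injective_iff_map_eq_one]
      intro a ha
      have h1 : (a : P) ∈ pr.ker ⊓ K := Subgroup.mem_inf.2 ⟨ha, a.2⟩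
      rw [hK.disjoint.eq_bot, Subgroup.mem_bot] at h1
      exact Subtype.ext h1
    · intro g
      obtain ⟨p, hp⟩ := hpr g
      obtain ⟨⟨n, k⟩, hnk⟩ := hK.2 p
      refine ⟨k, ?_⟩
      have h1 : pr (n : P) = 1 := n.2
      have h2 : (n : P) * (k : P) = p := hnk
      show pr (k : P) = g
      rw [← hp, ← h2, map_mul, h1, one_mul]
  let e := MulEquiv.ofBijective _ hbij
  refine ⟨((MonoidHom.snd G X).comp P.subtype).comp (K.subtype.comp e.symm.toMonoidHom), ?_⟩
  ext g
  have h1 := hmem ((e.symm g : K) : P)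
  have h2 : (((e.symm g : K) : P) : G × X).1 = g := e.apply_symm_apply g
  rw [h2] at h1
  exact h1.symm

/-- Abstract square zero step. -/
theorem units_step {S : Type u} {T : Type v} [Ring S] [Ring T] [Finite S] (φ : S →+* T) (hφ : Function.Surjective φ)
    (q : ℕ) (hsq : ∀ x y, φ x = 0 → φ y = 0 → x * y = 0) (hq : ∀ x, φ x = 0 → (q : S) * x = 0) :
    Function.Surjective (Units.map (φ : S →* T)) ∧ ∀ u ∈ (Units.map (φ : S →* T)).ker, u ^ q = 1 := by
  constructor
  · intro u
    obtain ⟨a, ha⟩ := hφ u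
    obtain ⟨b, hb⟩ := hφ (u⁻¹ : Tˣ)
    have key : ∀ a b : S, φ (a * b) = 1 → ∃ c, a * c = 1 := by
      intro a b hab
      have h1 : φ (a * b - 1) = 0 := by rw [map_sub, hab, map_one, sub_self]
      have h2 := hsq _ _ h1 h1
      refine ⟨b * (1 - (a * b - 1)), ?_⟩
      have h3 : a * (b * (1 - (a * b - 1))) = 1 - (a * b - 1) * (a * b - 1) := by noncomm_ring
      rw [h3, h2, sub_zero]
    obtain ⟨c, hc⟩ := key a b (by rw [map_mul, ha, hb, Units.mul_inv])
    obtain ⟨d, hd⟩ := key b a (by rw [map_mul, ha, hb, Units.inv_mul])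
    -- left inverse: from finiteness
    have hc' : c * a = 1 := by
      have hinj : Function.Injective (fun x : S => x * c) := by
        have hs : Function.Injective (fun x : S => a * x) := by
          rw [Finite.injective_iff_surjective]
          intro y
          exact ⟨c * y, by show a * (c * y) = y; rw [← mul_assoc, hc, one_mul]⟩
        rw [Finite.injective_iff_surjective]
        intro y
        refine ⟨y * a, ?_⟩
        apply hs
        show a * (y * a * c) = a * y
        rw [mul_assoc y, hc, mul_one]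
      apply hinj
      show c * a * c = 1 * c
      rw [mul_assoc, hc, mul_one, one_mul]
    refine ⟨⟨a, c, hc, hc'⟩, ?_⟩
    ext
    exact ha
  · intro u hu
    have h1 : φ (u : S) = 1 := by
      have := congrArg Units.val (MonoidHom.mem_ker.1 hu)
      exact this
    obtain ⟨z, hz⟩ : ∃ z : S, z = u - 1 := ⟨_, rfl⟩
    have hzφ : φ z = 0 := by rw [hz, map_sub, h1, map_one, sub_self]
    have hu' : (u : S) = 1 + z := by rw [hz]; abel
    have hz2 := hsq _ _ hzφ hzφ
    have hpow : ∀ k : ℕ, (u : S) ^ k = 1 + (k : S) * z := by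
      intro k
      induction k with
      | zero => simp
      | succ k ih =>
        rw [pow_succ, ih, hu']
        have : (1 + (k : S) * z) * (1 + z) = 1 + ((k : S) + 1) * z + k * (z * z) := by noncomm_ring
        rw [this, hz2, mul_zero, add_zero, Nat.cast_add, Nat.cast_one]
    apply Units.ext
    rw [Units.val_pow_eq_pow_val, hpow q, hq _ hzφ, add_zero, Units.val_one]

/-- fixed point free representations over an arbitrary ring, in the form: norm elements vanish -/
def NormZ {G : Type u} [Group G] {R : Type v} [Ring R] (σ : G →* Rˣ) : Prop :=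
  ∀ g : G, ∀ r : ℕ, r.Prime → orderOf g = r → ∑ i ∈ Finset.range r, ((σ g : Rˣ) : R) ^ i = 0

theorem lift_step {G : Type w} [Group G] [Finite G] {S : Type u} {T : Type v} [Ring S] [Ring T] [Finite S] (φ : S →+* T)
    (hφ : Function.Surjective φ) (q : ℕ) (hqp : q.Prime) (hqG : ¬ q ∣ Nat.card G)
    (hsq : ∀ x y, φ x = 0 → φ y = 0 → x * y = 0) (hq : ∀ x, φ x = 0 → (q : S) * x = 0)
    (σ : G →* Tˣ) (hσ : NormZ σ) : ∃ σ' : G →* Sˣ, NormZ σ' := by
  haveI := Fact.mk hqp
  obtain ⟨hs, hk⟩ := units_step φ hφ q hsq hq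
  haveI : Finite Sˣ := inferInstance
  have hpg : IsPGroup q (Units.map (φ : S →* T)).ker := by
    intro u
    refine ⟨1, ?_⟩
    rw [pow_one]
    exact Subtype.ext (hk u.1 u.2)
  have hcop : (Nat.card (Units.map (φ : S →* T)).ker).Coprime (Nat.card G) := by
    obtain ⟨n, hn⟩ := IsPGroup.iff_card.1 hpg
    rw [hn]
    exact Nat.Coprime.pow_left _ ((Nat.Prime.coprime_iff_not_dvd hqp).2 hqG)
  obtain ⟨σ', hσ'⟩ := lift_hom (Units.map (φ : S →* T)) hs hcop σ
  refine ⟨σ', ?_⟩
  intro g r hr hgr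
  obtain ⟨e, he⟩ : ∃ e : S, e = ∑ i ∈ Finset.range r, ((σ' g : Sˣ) : S) ^ i := ⟨_, rfl⟩
  have hval : φ ((σ' g : Sˣ) : S) = ((σ g : Tˣ) : T) := by
    have := congrArg (fun f : G →* Tˣ => ((f g : Tˣ) : T)) hσ'
    exact this
  have hφe : φ e = 0 := by
    rw [he, map_sum, ← hσ g r hr hgr]
    refine Finset.sum_congr rfl fun i _ => ?_
    rw [map_pow, hval]
  have hgr' : ((σ' g : Sˣ) : S) ^ r = 1 := by
    rw [← Units.val_pow_eq_pow_val, ← map_pow, ← hgr, pow_orderOf_eq_one, map_one, Units.val_one]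
  have h1 : ((σ' g : Sˣ) : S) * e = e := by
    have h2 := mul_geom_sum ((σ' g : Sˣ) : S) r
    rw [← he, hgr', sub_self, sub_mul, one_mul, sub_eq_zero] at h2
    exact h2
  have h3 : ∀ i : ℕ, ((σ' g : Sˣ) : S) ^ i * e = e := by
    intro i
    induction i with
    | zero => rw [pow_zero, one_mul]
    | succ i ih => rw [pow_succ, mul_assoc, h1, ih]
  have h4 : e * e = (r : S) * e := by
    conv_lhs => rw [he]
    rw [Finset.sum_mul, Finset.sum_congr rfl (fun i _ => by rw [← he, h3 i] : ∀ i ∈ Finset.range r, ((σ' g : Sˣ) : S) ^ i * (∑ i ∈ Finset.range r, ((σ' g : Sˣ) : S) ^ i) = e)]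
    rw [Finset.sum_const, Finset.card_range, nsmul_eq_mul]
  rw [hsq _ _ hφe hφe] at h4
  have h5 := hq _ hφe
  have hrq : IsCoprime (r : ℤ) (q : ℤ) := by
    rw [Nat.isCoprime_iff_coprime, Nat.coprime_primes hr hqp]
    rintro rfl
    exact hqG (hgr ▸ orderOf_dvd_natCard g)
  obtain ⟨a, b, hab⟩ := hrq
  rw [← he]
  have h6 : e = ((a : S) * r + b * q) * e := by
    have : ((a : S) * r + b * q) = 1 := by
      have := congrArg (fun z : ℤ => (z : S)) hab
      push_cast at this
      exact this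
    rw [this, one_mul]
  rw [h6, add_mul, mul_assoc, mul_assoc, ← h4, h5, mul_zero, mul_zero, add_zero]

/-- the statement at level `k` -/
def Lv (G : Type w) [Group G] (n k : ℕ) : Prop :=
  ∃ σ : G →* (Matrix (Fin n) (Fin n) (ZMod k))ˣ, NormZ σ

theorem lv_step {G : Type w} [Group G] [Finite G] {n k q : ℕ} (hqp : q.Prime) (hqG : ¬ q ∣ Nat.card G) (hk : k ≠ 0) (hqk : q ∣ k)
    (h : Lv G n k) : Lv G n (k * q) := by
  classical
  haveI : NeZero (k * q) := ⟨mul_ne_zero hk hqp.ne_zero⟩
  haveI : NeZero k := ⟨hk⟩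
  obtain ⟨σ, hσ⟩ := h
  have hd : k ∣ k * q := dvd_mul_right k q
  let φ0 : ZMod (k * q) →+* ZMod k := ZMod.castHom hd (ZMod k)
  let φ : Matrix (Fin n) (Fin n) (ZMod (k * q)) →+* Matrix (Fin n) (Fin n) (ZMod k) := φ0.mapMatrix
  have hφ0 : Function.Surjective φ0 := ZMod.castHom_surjective hd
  have hker0 : ∀ x : ZMod (k * q), φ0 x = 0 → ∃ y : ZMod (k * q), x = (k : ZMod (k * q)) * y := by
    intro x hx
    have h1 : ((x.val : ℕ) : ZMod k) = 0 := by
      have h2 : φ0 ((x.val : ℕ) : ZMod (k * q)) = 0 := by rw [ZMod.natCast_zmod_val]; exact hx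
      rwa [map_natCast] at h2
    rw [ZMod.natCast_eq_zero_iff] at h1
    obtain ⟨c, hc⟩ := h1
    refine ⟨(c : ZMod (k * q)), ?_⟩
    rw [← Nat.cast_mul, ← hc, ZMod.natCast_zmod_val]
  have hkq : (k : ZMod (k * q)) * (q : ZMod (k * q)) = 0 := by
    rw [← Nat.cast_mul]; exact ZMod.natCast_self (k * q)
  have hkk : (k : ZMod (k * q)) * (k : ZMod (k * q)) = 0 := by
    obtain ⟨c, hc⟩ := hqk
    rw [← Nat.cast_mul, ZMod.natCast_eq_zero_iff]
    nth_rewrite 2 [hc]
    exact Dvd.intro c (by ring)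
  have hfin : Finite (Matrix (Fin n) (Fin n) (ZMod (k * q))) := by
    haveI : Finite (ZMod (k * q)) := inferInstance
    exact inferInstanceAs (Finite (Fin n → Fin n → ZMod (k * q)))
  refine lift_step φ ?_ q hqp hqG ?_ ?_ σ hσ
  · intro y
    choose f hf using hφ0
    refine ⟨y.map f, ?_⟩
    ext i j
    exact hf _
  · intro x y hx hy
    have hx' : ∀ i j, ∃ c, x i j = (k : ZMod (k * q)) * c := fun i j => hker0 _ (congrFun (congrFun hx i) j)
    have hy' : ∀ i j, ∃ c, y i j = (k : ZMod (k * q)) * c := fun i j => hker0 _ (congrFun (congrFun hy i) j)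
    ext i j
    rw [Matrix.mul_apply, Matrix.zero_apply]
    refine Finset.sum_eq_zero fun l _ => ?_
    obtain ⟨a, ha⟩ := hx' i l
    obtain ⟨b, hb⟩ := hy' l j
    rw [ha, hb, mul_mul_mul_comm, hkk, zero_mul]
  · intro x hx
    have hx' : ∀ i j, ∃ c, x i j = (k : ZMod (k * q)) * c := fun i j => hker0 _ (congrFun (congrFun hx i) j)
    rw [← nsmul_eq_mul]
    ext i j
    obtain ⟨a, ha⟩ := hx' i j
    rw [Matrix.smul_apply, Matrix.zero_apply, ha, nsmul_eq_mul, ← mul_assoc, mul_comm (q : ZMod (k * q)), hkq, zero_mul]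

theorem lv_all {G : Type w} [Group G] [Finite G] {n q : ℕ} (hqp : q.Prime) (hqG : ¬ q ∣ Nat.card G) (h : Lv G n q) (m : ℕ) :
    Lv G n (q ^ (m + 1)) := by
  induction m with
  | zero => rw [zero_add, pow_one]; exact h
  | succ m ih =>
    rw [pow_succ]
    exact lv_step hqp hqG (pow_ne_zero _ hqp.ne_zero) (dvd_pow_self q (Nat.succ_ne_zero m)) ih

open CfsgLib.H3Zas Module in
/-- from a free representation to the base level -/
theorem lv_base {G : Type w} [Group G] {q : ℕ} [Fact q.Prime] {V : Type v} [AddCommGroup V] [Module (ZMod q) V]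
    [FiniteDimensional (ZMod q) V] [Nontrivial V] (ρ : G →* Module.End (ZMod q) V) (h : Free ρ) :
    ∃ n, 0 < n ∧ Lv G n q := by
  classical
  let b := Module.finBasis (ZMod q) V
  refine ⟨finrank (ZMod q) V, finrank_pos, ?_⟩
  let e : Module.End (ZMod q) V ≃ₐ[ZMod q] Matrix (Fin (finrank (ZMod q) V)) (Fin (finrank (ZMod q) V)) (ZMod q) :=
    LinearMap.toMatrixAlgEquiv b
  let σ0 : G →* Matrix (Fin (finrank (ZMod q) V)) (Fin (finrank (ZMod q) V)) (ZMod q) :=
    (e : Module.End (ZMod q) V →* Matrix (Fin (finrank (ZMod q) V)) (Fin (finrank (ZMod q) V)) (ZMod q)).comp ρ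
  refine ⟨σ0.toHomUnits, ?_⟩
  intro g r hr hgr
  have hg : g ≠ 1 := by
    rintro rfl
    rw [orderOf_one] at hgr
    exact hr.one_lt.ne hgr
  have h1 := h.sum_zero hg (n := r) (by rw [← hgr]; exact pow_orderOf_eq_one g)
  have h2 : ((σ0.toHomUnits g : (Matrix (Fin (finrank (ZMod q) V)) (Fin (finrank (ZMod q) V)) (ZMod q))ˣ) : Matrix (Fin (finrank (ZMod q) V)) (Fin (finrank (ZMod q) V)) (ZMod q)) = e (ρ g) := rfl
  rw [h2, ← map_zero e, ← h1, map_sum]
  refine Finset.sum_congr rfl fun i _ => ?_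
  rw [map_pow]

end CfsgLib.H3Fld
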