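import Mathlib
import Cfsg.Prelude.Def_Solvable
import Cfsg.Agent.Lib.H3Zas1
import Cfsg.Agent.Lib.H3Zas14
import Cfsg.Agent.Lib.H3Zas20
import Cfsg.Agent.Lib.H5Fpf
import Cfsg.Agent.Lib.FrobC
import Cfsg.Agent.Lib.H3Fld1

/-!
# A finite Frobenius complement acts on a finitely generated `ℤ`-module with vanishing norm elements
-/

set_option autoImplicit false
set_option maxHeartbeats 1000000

namespace CfsgLib.H3Fld

open CfsgLib.H3Zas Module
open scoped TensorProduct

universe u v w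

theorem base_elem {G : Type w} [Group G] {r : ℕ} [hr : Fact r.Prime] {Ω : Type v} [AddCommGroup Ω] [Finite Ω] [Nontrivial Ω]
    (hΩ : ∀ a : Ω, r • a = 0) (f : G →* AddMonoid.End Ω) (hf : ∀ g, g ≠ 1 → ∀ a, f g a = a → a = 0) : ∃ n, 0 < n ∧ Lv G n r := by
  letI : Module (ZMod r) Ω := AddCommGroup.zmodModule (n := r) hΩ
  let ρ₀ : G →* Module.End (ZMod r) Ω := (homZ r Ω).comp f
  have hfree : Free ρ₀ := by
    intro g hg v hv
    exact hf g hg v hv
  haveI : FiniteDimensional (ZMod r) Ω := Module.Finite.of_finite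
  exact lv_base ρ₀ hfree

section Abel

variable {G : Type w} [Group G] [Finite G] {A : Type v} [CommGroup A] [Finite A] [Nontrivial A] (φ : G →* MulAut A)

theorem base_abel (hφ : ∀ g : G, g ≠ 1 → ∀ a : A, φ g a = a → a = 1) : ∃ q : ℕ, q.Prime ∧ ¬ q ∣ Nat.card G ∧ ∃ n, 0 < n ∧ Lv G n q := by
  classical
  obtain ⟨r, hr, hrd⟩ := Nat.exists_prime_and_dvd (n := Nat.card A) (by
    have := Finite.one_lt_card (α := A)
    omega)
  haveI : Fact r.Prime := ⟨hr⟩
  obtain ⟨Ω, hΩ⟩ : ∃ Ω : Subgroup A, ∀ a : A, a ∈ Ω ↔ a ^ r = 1 := ⟨(powMonoidHom r : A →* A).ker, fun a => Iff.rfl⟩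
  obtain ⟨a0, ha0⟩ := exists_prime_orderOf_dvd_card' r hrd
  have ha0Ω : a0 ∈ Ω := by rw [hΩ, ← ha0]; exact pow_orderOf_eq_one a0
  have ha01 : a0 ≠ 1 := by
    rintro rfl
    rw [orderOf_one] at ha0
    exact hr.one_lt.ne ha0
  have hmap : ∀ g : G, ∀ a ∈ Ω, φ g a ∈ Ω := by
    intro g a ha
    rw [hΩ] at ha ⊢
    rw [← map_pow, ha, map_one]
  let res : G → (Ω →* Ω) := fun g => ((φ g).toMonoidHom.comp Ω.subtype).codRestrict Ω (fun a => hmap g a a.2)
  have hres : ∀ g (a : Ω), ((res g a : Ω) : A) = φ g a := fun _ _ => rfl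
  let resH : G →* Monoid.End Ω :=
    { toFun := res
      map_one' := MonoidHom.ext fun a => Subtype.ext (by rw [hres, map_one]; rfl)
      map_mul' := fun g h => MonoidHom.ext fun a => Subtype.ext (by
        change ((res (g * h) a : Ω) : A) = ((res g (res h a) : Ω) : A)
        rw [hres, map_mul, hres, hres]; rfl) }
  haveI : Nontrivial Ω := ⟨⟨a0, ha0Ω⟩, 1, fun h0 => ha01 (congrArg Subtype.val h0)⟩
  haveI : Finite (Additive Ω) := inferInstanceAs (Finite Ω)
  haveI : Nontrivial (Additive Ω) := inferInstanceAs (Nontrivial Ω)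
  refine ⟨r, hr, ?_, base_elem (r := r) (Ω := Additive Ω) (fun x => by
    change Additive.ofMul (x.toMul ^ r) = 0
    have h1 : x.toMul ^ r = 1 := Subtype.ext ((hΩ _).1 x.toMul.2)
    rw [h1]; rfl) (addAct resH) (fun g hg a ha => by
    have h1 : res g a.toMul = a.toMul := ha
    have h2 : a.toMul = 1 := Subtype.ext (hφ g hg (a.toMul : Ω) (congrArg Subtype.val h1))
    exact h2)⟩
  intro hdvd
  obtain ⟨g, hg⟩ := exists_prime_orderOf_dvd_card' r hdvd
  have hg1 : g ≠ 1 := by
    rintro rfl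
    rw [orderOf_one] at hg
    exact hr.one_lt.ne hg
  -- the r-group ⟨g⟩ acts on Ω
  letI : MulAction (Subgroup.zpowers g) Ω :=
    { smul := fun x a => res x a
      one_smul := fun a => Subtype.ext (by change φ 1 a = a; rw [map_one]; rfl)
      mul_smul := fun x y a => Subtype.ext (by change φ (x * y) a = φ x (φ y a); rw [map_mul]; rfl) }
  have hpg : IsPGroup r (Subgroup.zpowers g) := IsPGroup.of_card (n := 1) (by rw [Nat.card_zpowers, hg, pow_one])
  have h1 := hpg.card_modEq_card_fixedPoints Ω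
  have h2 : Nat.card (MulAction.fixedPoints (Subgroup.zpowers g) Ω) = 1 := by
    rw [Nat.card_eq_one_iff_unique]
    refine ⟨⟨?_⟩, ⟨⟨1, fun x => Subtype.ext (by change φ x 1 = 1; rw [map_one])⟩⟩⟩
    have hone : ∀ a : MulAction.fixedPoints (Subgroup.zpowers g) Ω, ((a : Ω) : A) = 1 := by
      intro a
      have h3 := a.2 ⟨g, Subgroup.mem_zpowers g⟩
      exact hφ g hg1 _ (congrArg Subtype.val h3)
    intro a b
    exact Subtype.ext (Subtype.ext ((hone a).trans (hone b).symm))
  rw [h2] at h1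
  have h3 : r ∣ Nat.card Ω := by
    have := orderOf_dvd_natCard (⟨a0, ha0Ω⟩ : Ω)
    rwa [Subgroup.orderOf_mk, ha0] at this
  have h4 : Nat.card Ω ≡ 0 [MOD r] := (Nat.modEq_zero_iff_dvd).2 h3
  have h5 := h4.symm.trans h1
  have h6 : r ∣ 1 := (Nat.modEq_zero_iff_dvd).1 h5.symm
  exact hr.one_lt.ne' (Nat.dvd_one.1 h6)

end Abel

theorem base_group {G : Type w} [Group G] [Finite G] [Nontrivial G] {A : Type v} [Group A] [Finite A] [Nontrivial A] (φ : G →* MulAut A)
    (hφ : ∀ g : G, g ≠ 1 → ∀ a : A, φ g a = a → a = 1) : ∃ q : ℕ, q.Prime ∧ ¬ q ∣ Nat.card G ∧ ∃ n, 0 < n ∧ Lv G n q := by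
  classical
  obtain ⟨p, hp, hpd⟩ := Nat.exists_prime_and_dvd (n := Nat.card G) (by
    have := Finite.one_lt_card (α := G)
    omega)
  haveI : Fact p.Prime := ⟨hp⟩
  obtain ⟨g, hg⟩ := exists_prime_orderOf_dvd_card' p hpd
  have hg1 : g ≠ 1 := by
    rintro rfl
    rw [orderOf_one] at hg
    exact hp.one_lt.ne hg
  haveI hnil : Group.IsNilpotent A := by
    refine H5Fpf.nilpotent_of_fpf hp (φ g).toMonoidHom (fun a ha => hφ g hg1 a ha) ?_
    funext a
    have h1 : ∀ k : ℕ, (⇑(φ g).toMonoidHom)^[k] a = φ (g ^ k) a := by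
      intro k
      induction k with
      | zero => rw [pow_zero, map_one]; rfl
      | succ k ih => rw [Function.iterate_succ_apply', ih, pow_succ', map_mul]; rfl
    rw [h1, ← hg, pow_orderOf_eq_one, map_one]; rfl
  haveI : Nontrivial (Subgroup.center A) := (Subgroup.nontrivial_iff_ne_bot _).2 (Group.IsNilpotent.center_ne_bot A)
  letI : CommGroup (Subgroup.center A) := { (inferInstance : Group (Subgroup.center A)) with
    mul_comm := fun a b => Subtype.ext ((Subgroup.mem_center_iff.1 b.2) (a : A)) }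
  have hc : ∀ g : G, ∀ a ∈ Subgroup.center A, φ g a ∈ Subgroup.center A := by
    intro g a ha
    rw [Subgroup.mem_center_iff] at ha ⊢
    intro b
    have h1 := congrArg (φ g) (ha ((φ g).symm b))
    rw [map_mul, map_mul, MulEquiv.apply_symm_apply] at h1
    exact h1
  let ψ : G → (Subgroup.center A →* Subgroup.center A) := fun g =>
    ((φ g).toMonoidHom.comp (Subgroup.center A).subtype).codRestrict (Subgroup.center A) (fun a => hc g a a.2)
  have hψ : ∀ g (a : Subgroup.center A), ((ψ g a : Subgroup.center A) : A) = φ g a := fun _ _ => rfl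
  let ψ' : G →* MulAut (Subgroup.center A) :=
    { toFun := fun g =>
        { toFun := ψ g
          invFun := ψ g⁻¹
          left_inv := fun a => Subtype.ext (by
            rw [hψ, hψ, ← MulAut.mul_apply, ← map_mul, inv_mul_cancel, map_one]; rfl)
          right_inv := fun a => Subtype.ext (by
            rw [hψ, hψ, ← MulAut.mul_apply, ← map_mul, mul_inv_cancel, map_one]; rfl)
          map_mul' := fun a b => map_mul (ψ g) a b }
      map_one' := by
        refine MulEquiv.ext fun a => Subtype.ext ?_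
        change φ 1 a = a
        rw [map_one]; rfl
      map_mul' := fun g h => by
        refine MulEquiv.ext fun a => Subtype.ext ?_
        change φ (g * h) a = φ g (φ h a)
        rw [map_mul]; rfl }
  refine base_abel (A := Subgroup.center A) ψ' ?_
  intro g hg a ha
  have h1 : (a : A) = 1 := hφ g hg (a : A) (congrArg Subtype.val ha)
  exact Subtype.ext h1

/-- norm zero for general modules -/
def NormM {G : Type w} [Group G] {R : Type u} [CommRing R] {M : Type v} [AddCommGroup M] [Module R M] (ρ : G →* Module.End R M) : Prop :=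
  ∀ g : G, ∀ r : ℕ, r.Prime → orderOf g = r → ∑ i ∈ Finset.range r, ρ g ^ i = 0

theorem fpf_of_norm {G : Type w} [Group G] [Finite G] {R : Type u} [CommRing R] {M : Type v} [AddCommGroup M] [Module R M] (ρ : G →* Module.End R M)
    (h : NormM ρ) (htf : ∀ r : ℕ, r.Prime → r ∣ Nat.card G → ∀ v : M, r • v = 0 → v = 0) (g : G) (hg : g ≠ 1) (v : M) (hv : ρ g v = v) :
    v = 0 := by
  obtain ⟨r, hr, hrd⟩ := Nat.exists_prime_and_dvd (n := orderOf g) (fun h0 => hg (orderOf_eq_one_iff.1 h0))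
  obtain ⟨c, hc⟩ := hrd
  have hpos : 0 < orderOf g := orderOf_pos g
  have hc0 : c ≠ 0 := by rintro rfl; omega
  have ho : orderOf (g ^ c) = r := by
    rw [orderOf_pow_of_dvd hc0 (Dvd.intro_left r hc.symm), hc]
    exact Nat.mul_div_cancel _ (Nat.pos_of_ne_zero hc0)
  have h1 : ∀ k : ℕ, (ρ g ^ k) v = v := by
    intro k
    induction k with
    | zero => rw [pow_zero]; rfl
    | succ k ih => rw [pow_succ, Module.End.mul_apply, hv, ih]
  have h2 := congrArg (fun f : Module.End R M => f v) (h _ r hr ho)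
  simp only [LinearMap.sum_apply, LinearMap.zero_apply] at h2
  have h3 : ∀ i ∈ Finset.range r, (ρ (g ^ c) ^ i) v = v := by
    intro i _
    rw [map_pow, ← pow_mul]
    exact h1 _
  rw [Finset.sum_congr rfl h3, Finset.sum_const, Finset.card_range] at h2
  exact htf r hr (ho ▸ orderOf_dvd_natCard _) v h2

/-- the integral form -/
def HasZ (G : Type w) [Group G] : Prop :=
  ∃ (M : Type w) (_ : AddCommGroup M) (_ : Module.Finite ℤ M) (ρ : G →* Module.End ℤ M), NormM ρ ∧ ∃ m : M, ∀ d : ℤ, d • m = 0 → d = 0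

theorem hasZ_of_lv {G : Type w} [Group G] [Finite G] {n q : ℕ} (hqp : q.Prime) (hn : 0 < n) (h : ∀ m, Lv G n (q ^ (m + 1))) : HasZ G := by
  classical
  let A := MonoidAlgebra ℤ G
  let S : Set A := {x | ∃ (g : G) (r : ℕ) (b : A), r.Prime ∧ orderOf g = r ∧ x = (∑ i ∈ Finset.range r, MonoidAlgebra.of ℤ G g ^ i) * b}
  let J : Submodule A A := Submodule.span A S
  haveI : Module.Finite ℤ (A ⧸ J) := by
    have hs : Function.Surjective ((Submodule.mkQ J).toAddMonoidHom.toIntLinearMap) := Submodule.mkQ_surjective J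
    exact Module.Finite.of_surjective _ hs
  refine ⟨A ⧸ J, inferInstance, inferInstance, ((Module.toModuleEnd ℤ (S := A) (A ⧸ J) : A →* Module.End ℤ (A ⧸ J))).comp (MonoidAlgebra.of ℤ G), ?_, ?_⟩
  · intro g r hr hgr
    have h1 : ∑ i ∈ Finset.range r, (((Module.toModuleEnd ℤ (S := A) (A ⧸ J) : A →* Module.End ℤ (A ⧸ J))).comp (MonoidAlgebra.of ℤ G)) g ^ i
        = Module.toModuleEnd ℤ (S := A) (A ⧸ J) (∑ i ∈ Finset.range r, MonoidAlgebra.of ℤ G g ^ i) := by
      rw [map_sum]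
      refine Finset.sum_congr rfl fun i _ => ?_
      rw [map_pow]; rfl
    rw [h1]
    refine LinearMap.ext fun y => ?_
    obtain ⟨b, rfl⟩ := Submodule.mkQ_surjective J y
    change (∑ i ∈ Finset.range r, MonoidAlgebra.of ℤ G g ^ i) • (Submodule.mkQ J b) = 0
    rw [← _root_.map_smul, Submodule.mkQ_apply, Submodule.Quotient.mk_eq_zero, smul_eq_mul]
    exact Submodule.subset_span ⟨g, r, b, hr, hgr, rfl⟩
  · refine ⟨Submodule.mkQ J 1, ?_⟩
    intro d hd
    have h1 : d • (1 : A) ∈ J := by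
      have h2 : Submodule.mkQ J (d • (1 : A)) = 0 := by
        rw [map_zsmul]; exact hd
      rwa [Submodule.mkQ_apply, Submodule.Quotient.mk_eq_zero] at h2
    have key : ∀ m : ℕ, (q ^ (m + 1) : ℕ) ∣ d.natAbs := by
      intro m
      obtain ⟨σ, hσ⟩ := h m
      let Φ : A →ₐ[ℤ] Matrix (Fin n) (Fin n) (ZMod (q ^ (m + 1))) :=
        MonoidAlgebra.lift ℤ (Matrix (Fin n) (Fin n) (ZMod (q ^ (m + 1)))) G ((Units.coeHom _).comp σ)
      have hΦ : ∀ g, Φ (MonoidAlgebra.of ℤ G g) = ((σ g : (Matrix (Fin n) (Fin n) (ZMod (q ^ (m + 1))))ˣ) : Matrix (Fin n) (Fin n) (ZMod (q ^ (m + 1)))) := by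
        intro g
        exact MonoidAlgebra.lift_of _ _
      have hJ : ∀ x ∈ J, Φ x = 0 := by
        intro x hx
        induction hx using Submodule.span_induction with
        | mem x hx =>
          obtain ⟨g, r, b, hr, hgr, rfl⟩ := hx
          rw [map_mul, map_sum]
          have h3 : ∑ i ∈ Finset.range r, Φ (MonoidAlgebra.of ℤ G g ^ i) = 0 := by
            rw [← hσ g r hr hgr]
            refine Finset.sum_congr rfl fun i _ => ?_
            rw [map_pow, hΦ]
          rw [h3, zero_mul]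
        | zero => exact map_zero _
        | add x y _ _ hx hy => rw [map_add, hx, hy, add_zero]
        | smul a x _ hx => rw [smul_eq_mul, map_mul, hx, mul_zero]
      have h4 := hJ _ h1
      rw [map_zsmul, map_one] at h4
      have h5 := congrFun (congrFun h4 ⟨0, hn⟩) ⟨0, hn⟩
      rw [Matrix.smul_apply, Matrix.one_apply_eq, Matrix.zero_apply, zsmul_eq_mul, mul_one] at h5
      have h6 := (ZMod.intCast_zmod_eq_zero_iff_dvd d (q ^ (m + 1))).1 h5
      rw [Int.natCast_dvd] at h6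
      exact h6
    by_contra hd0
    have h2 := Nat.le_of_dvd (Int.natAbs_pos.2 hd0) (key d.natAbs)
    have h3 : d.natAbs < q ^ d.natAbs := Nat.lt_pow_self hqp.one_lt
    have h4 : q ^ d.natAbs ≤ q ^ (d.natAbs + 1) := Nat.pow_le_pow_right hqp.pos (Nat.le_succ _)
    omega

theorem hasZ_of_group {G : Type w} [Group G] [Finite G] [Nontrivial G] {A : Type v} [Group A] [Finite A] [Nontrivial A] (φ : G →* MulAut A)
    (hφ : ∀ g : G, g ≠ 1 → ∀ a : A, φ g a = a → a = 1) : HasZ G := by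
  obtain ⟨q, hq, hqG, n, hn, h⟩ := base_group φ hφ
  exact hasZ_of_lv hq hn (lv_all hq hqG h)

theorem nontrivial_of_FC {G : Type w} [Group G]
    (hFC : ∃ (L : Type v) (_ : Group L) (_ : Finite L) (H : Subgroup L), Cfsg.IsFrobeniusComplement H ∧ Nonempty (G ≃* H)) : Nontrivial G := by
  obtain ⟨L, _, _, H, hH, ⟨e⟩⟩ := hFC
  obtain ⟨a, ha⟩ := (Subgroup.ne_bot_iff_exists_ne_one).1 hH.1
  exact ⟨⟨e.symm a, 1, fun h => ha (by rw [← e.apply_symm_apply a, h, map_one])⟩⟩

theorem hasZ_of_FC {G : Type w} [Group G] [Finite G]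
    (hFC : ∃ (L : Type v) (_ : Group L) (_ : Finite L) (H : Subgroup L), Cfsg.IsFrobeniusComplement H ∧ Nonempty (G ≃* H)) : HasZ G := by
  haveI := nontrivial_of_FC hFC
  obtain ⟨A, _, _, _, φ, hφ⟩ := act_of_FC hFC
  exact hasZ_of_group φ hφ

/-- mod `ℓ` form: elementary abelian `ℓ`-group with fixed point free action -/
def HasL (G : Type w) [Group G] (ℓ : ℕ) : Prop :=
  ∃ (Ω : Type w) (_ : AddCommGroup Ω) (_ : Finite Ω) (_ : Nontrivial Ω) (f : G →* AddMonoid.End Ω), (∀ a : Ω, ℓ • a = 0) ∧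
    ∀ g, g ≠ 1 → ∀ a, f g a = a → a = 0

theorem hasL_of_mod {G : Type w} [Group G] [Finite G] {ℓ : ℕ} (hℓ : ℓ.Prime) (hℓG : ¬ ℓ ∣ Nat.card G)
    {M : Type w} [AddCommGroup M] [Module.Finite ℤ M] (ρ : G →* Module.End ℤ M) (hn : NormM ρ) (m : M) (hm : ∀ d : ℤ, d • m = 0 → d = 0) :
    HasL G ℓ := by
  classical
  let N : Submodule ℤ M := (Ideal.span {(ℓ : ℤ)}) • ⊤
  have hmem : ∀ x : M, (ℓ : ℤ) • x ∈ N := fun x => Submodule.smul_mem_smul (Ideal.mem_span_singleton_self _) trivial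
  have hN : ∀ g, N ≤ N.comap (ρ g) := by
    intro g x hx
    change ρ g x ∈ N
    induction hx using Submodule.smul_induction_on' with
    | smul r hr n hn =>
      rw [map_zsmul]
      exact Submodule.smul_mem_smul hr trivial
    | add x hx y hy hx' hy' => rw [map_add]; exact N.add_mem hx' hy'
  have hne : N ≠ ⊤ := by
    intro htop
    obtain ⟨r, hr1, hr2⟩ := Submodule.exists_sub_one_mem_and_smul_eq_zero_of_fg_of_le_smul (Ideal.span {(ℓ : ℤ)}) (⊤ : Submodule ℤ M)
      Module.Finite.fg_top (by rw [show (Ideal.span {(ℓ : ℤ)}) • (⊤ : Submodule ℤ M) = ⊤ from htop])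
    have hr0 := hm r (hr2 m trivial)
    rw [hr0, Ideal.mem_span_singleton] at hr1
    have h1 : (ℓ : ℤ) ∣ 1 := by
      have := (dvd_neg).2 hr1
      simpa using this
    have h2 : ℓ ∣ 1 := by exact_mod_cast h1
    exact hℓ.one_lt.ne' (Nat.dvd_one.1 h2)
  haveI : Nontrivial (M ⧸ N) := Submodule.Quotient.nontrivial_iff.2 hne
  have hl0 : ∀ a : M ⧸ N, ℓ • a = 0 := by
    intro a
    obtain ⟨x, rfl⟩ := Submodule.mkQ_surjective N a
    rw [← natCast_zsmul, ← map_zsmul, Submodule.mkQ_apply, Submodule.Quotient.mk_eq_zero]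
    exact hmem x
  haveI : Module.Finite ℤ (M ⧸ N) := inferInstance
  haveI : Finite (M ⧸ N) := by
    haveI := Fact.mk hℓ
    letI : Module (ZMod ℓ) (M ⧸ N) := AddCommGroup.zmodModule (n := ℓ) hl0
    haveI : Module.Finite (ZMod ℓ) (M ⧸ N) := by
      haveI : IsScalarTower ℤ (ZMod ℓ) (M ⧸ N) := inferInstance
      exact Module.Finite.of_restrictScalars_finite ℤ (ZMod ℓ) (M ⧸ N)
    exact Module.finite_of_finite (ZMod ℓ)
  let f : G →* Module.End ℤ (M ⧸ N) :=
    { toFun := fun g => N.mapQ N (ρ g) (hN g)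
      map_one' := by
        refine LinearMap.ext fun a => ?_
        obtain ⟨x, rfl⟩ := Submodule.mkQ_surjective N a
        rw [Submodule.mkQ_apply, Submodule.mapQ_apply, map_one]; rfl
      map_mul' := fun g h => by
        refine LinearMap.ext fun a => ?_
        obtain ⟨x, rfl⟩ := Submodule.mkQ_surjective N a
        rw [Module.End.mul_apply, Submodule.mkQ_apply, Submodule.mapQ_apply, Submodule.mapQ_apply, Submodule.mapQ_apply, map_mul]; rfl }
  have hf : ∀ g x, f g (Submodule.Quotient.mk x) = Submodule.Quotient.mk (ρ g x) := fun _ _ => rfl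
  have hfn : NormM f := by
    intro g r hr hgr
    refine LinearMap.ext fun a => ?_
    obtain ⟨x, rfl⟩ := Submodule.mkQ_surjective N a
    rw [LinearMap.sum_apply, Submodule.mkQ_apply]
    have h1 : ∀ i ∈ Finset.range r, (f g ^ i) (Submodule.Quotient.mk x) = Submodule.mkQ N ((ρ g ^ i) x) := by
      intro i _
      rw [← map_pow, hf, map_pow]; rfl
    rw [Finset.sum_congr rfl h1, ← map_sum, ← LinearMap.sum_apply, hn g r hr hgr]
    exact map_zero _
  let f' : G →* AddMonoid.End (M ⧸ N) :=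
    { toFun := fun g => (f g).toAddMonoidHom
      map_one' := by rw [map_one]; rfl
      map_mul' := fun g h => by rw [map_mul]; rfl }
  refine ⟨M ⧸ N, inferInstance, inferInstance, inferInstance, f', hl0, ?_⟩
  intro g hg a ha
  refine fpf_of_norm f hfn ?_ g hg a ha
  intro r hr hrG v hv
  have hcop : IsCoprime (r : ℤ) (ℓ : ℤ) := by
    rw [Nat.isCoprime_iff_coprime, Nat.coprime_primes hr hℓ]
    rintro rfl
    exact hℓG hrG
  obtain ⟨a, b, hab⟩ := hcop
  have h1 : ((a * r + b * ℓ : ℤ)) • v = v := by rw [hab, one_smul]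
  rw [← h1, add_smul, mul_smul, mul_smul, natCast_zsmul, natCast_zsmul, hv, hl0, smul_zero, smul_zero, add_zero]

theorem hasL_of_Z {G : Type w} [Group G] [Finite G] (h : HasZ G) {ℓ : ℕ} (hℓ : ℓ.Prime) (hℓG : ¬ ℓ ∣ Nat.card G) : HasL G ℓ := by
  obtain ⟨M, _, _, ρ, hn, m, hm⟩ := h
  exact hasL_of_mod hℓ hℓG ρ hn m hm

end CfsgLib.H3Fld
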