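import Mathlib
import Cfsg.Agent.Lib.H3Zas20

/-!
# Nonsolvable linear groups regular on the nonzero vectors
-/

set_option autoImplicit false
set_option linter.style.haveILetI false

namespace CfsgLib.H3Zas

open Module Subgroup TensorProduct

universe u v w

section Half

variable {K : Type u} [Field K] {V : Type v} [AddCommGroup V] [Module K V]

theorem QP.half (h2 : (2 : K) ≠ 0) {I J : Module.End K V} (hq : QP I J) {α β : K} (hab : α ^ 2 + β ^ 2 = -1) :
    Nat.card V = Nat.card (LinearMap.ker (α • I + β • J - 1)) * Nat.card (LinearMap.ker (α • I + β • J - 1)) := by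
  set T := α • I + β • J with hT
  have hTT : T * T = 1 := by
    have e : T * T = (α ^ 2) • (I * I) + (β ^ 2) • (J * J) + (α * β) • (I * J + J * I) := by
      rw [hT]
      simp only [mul_add, add_mul, smul_mul_assoc, mul_smul_comm, smul_smul, smul_add]
      rw [mul_comm β α, pow_two, pow_two]
      abel
    rw [e, hq.ii, hq.jj, hq.ji, add_neg_cancel, smul_zero, add_zero, ← add_smul, hab]
    module
  have hKT : (I * J) * T = -(T * (I * J)) := by
    rw [hT]
    simp only [mul_add, add_mul, smul_mul_assoc, mul_smul_comm, mul_assoc, hq.ji, hq.jj, hq.ii', hq.ji', mul_neg, neg_neg, mul_one, smul_neg, neg_add]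
  have hKK : (I * J) * (I * J) = -1 := by
    simp only [mul_assoc, hq.ji', hq.jj, mul_neg, mul_one, neg_neg, hq.ii]
  have hTm : ∀ v, v ∈ LinearMap.ker (T - 1) ↔ T v = v := by
    intro v
    rw [LinearMap.mem_ker, LinearMap.sub_apply, Module.End.one_apply, sub_eq_zero]
  have hTKv : ∀ v, T v = v → T ((I * J) v) = -((I * J) v) := by
    intro v hv
    have h1 := congrArg (fun f : Module.End K V => f v) hKT
    have h3 : (I * J) (T v) = -(T ((I * J) v)) := h1
    rw [hv] at h3
    exact neg_eq_iff_eq_neg.1 h3.symm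
  have hKKv : ∀ v, (I * J) ((I * J) v) = -v := by
    intro v
    rw [← Module.End.mul_apply, hKK]; rfl
  rw [← Nat.card_prod]
  symm
  refine Nat.card_congr (Equiv.ofBijective (fun x : LinearMap.ker (T - 1) × LinearMap.ker (T - 1) => (x.1 : V) + (I * J) (x.2 : V)) ⟨?_, ?_⟩)
  · have hz : ∀ a b : V, T a = a → T b = b → a + (I * J) b = 0 → a = 0 ∧ b = 0 := by
      intro a b ha hb h0
      have h1 : T (a + (I * J) b) = 0 := by rw [h0, map_zero]
      rw [map_add, ha, hTKv b hb] at h1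
      have h3 : (2 : K) • a = 0 := by
        have : (2 : K) • a = (a + (I * J) b) + (a + -(I * J) b) := by rw [two_smul]; abel
        rw [this, h0, h1, add_zero]
      have h4 := (smul_eq_zero.1 h3).resolve_left h2
      rw [h4, zero_add] at h0
      refine ⟨h4, ?_⟩
      have h5 := hKKv b
      rw [h0, map_zero] at h5
      exact neg_eq_zero.1 h5.symm
    rintro ⟨⟨a, ha⟩, ⟨b, hb⟩⟩ ⟨⟨a', ha'⟩, ⟨b', hb'⟩⟩ h0
    have h1 : a + (I * J) b = a' + (I * J) b' := h0
    rw [hTm] at ha hb ha' hb'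
    obtain ⟨h3, h4⟩ := hz (a - a') (b - b') (by rw [map_sub, ha, ha']) (by rw [map_sub, hb, hb']) (by
      rw [map_sub]
      have : a - a' + ((I * J) b - (I * J) b') = (a + (I * J) b) - (a' + (I * J) b') := by abel
      rw [this, h1, sub_self])
    have h5 := sub_eq_zero.1 h3
    have h6 := sub_eq_zero.1 h4
    subst h5 h6
    rfl
  · intro v
    have hTTv : T (T v) = v := by rw [← Module.End.mul_apply, hTT]; rfl
    have h1 : T ((2 : K)⁻¹ • (v + T v)) = (2 : K)⁻¹ • (v + T v) := by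
      rw [_root_.map_smul, map_add, hTTv, add_comm]
    have h3 : T (-((I * J) ((2 : K)⁻¹ • (v - T v)))) = -((I * J) ((2 : K)⁻¹ • (v - T v))) := by
      have h4 := congrArg (fun f : Module.End K V => f ((2 : K)⁻¹ • (v - T v))) hKT
      have h5 : (I * J) (T ((2 : K)⁻¹ • (v - T v))) = -(T ((I * J) ((2 : K)⁻¹ • (v - T v)))) := h4
      rw [map_neg, ← h5, _root_.map_smul, map_sub, hTTv]
      have : (2 : K)⁻¹ • (T v - v) = -((2 : K)⁻¹ • (v - T v)) := by rw [← smul_neg, neg_sub]
      rw [this, map_neg]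
    refine ⟨(⟨_, (hTm _).2 h1⟩, ⟨_, (hTm _).2 h3⟩), ?_⟩
    change (2 : K)⁻¹ • (v + T v) + (I * J) (-((I * J) ((2 : K)⁻¹ • (v - T v)))) = v
    rw [map_neg, hKKv, neg_neg, ← smul_add]
    have : v + T v + (v - T v) = (2 : K) • v := by rw [two_smul]; abel
    rw [this, smul_smul, inv_mul_cancel₀ h2, one_smul]

end Half

/-- a group acting freely on the nonzero elements has order dividing their number -/
theorem card_dvd_of_free {M : Type w} [Group M] {X : Type v} [MulAction M X] (x₀ : X) (h0 : ∀ m : M, m • x₀ = x₀)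
    (hf : ∀ m : M, m ≠ 1 → ∀ x : X, m • x = x → x = x₀) [Finite X] : Nat.card M ∣ Nat.card X - 1 := by
  classical
  letI : MulAction M {x : X // x ≠ x₀} :=
    { smul := fun m x => ⟨m • (x : X), fun h => x.2 (by
        have h1 : m⁻¹ • (m • (x : X)) = m⁻¹ • x₀ := by rw [h]
        rwa [inv_smul_smul, h0] at h1)⟩
      one_smul := fun x => Subtype.ext (one_smul M (x : X))
      mul_smul := fun a b x => Subtype.ext (mul_smul a b (x : X)) }
  have hst : ∀ x : {x : X // x ≠ x₀}, MulAction.stabilizer M x = ⊥ := by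
    intro x
    rw [eq_bot_iff]
    intro m hm
    rw [Subgroup.mem_bot]
    by_contra hne
    exact x.2 (hf m hne x (congrArg Subtype.val hm))
  have e := MulAction.selfEquivOrbitsQuotientProd hst
  have h1 : Nat.card {x : X // x ≠ x₀} = Nat.card X - 1 := by
    haveI := Fintype.ofFinite X
    rw [Nat.card_eq_fintype_card, Nat.card_eq_fintype_card, Fintype.card_subtype_compl, Fintype.card_subtype_eq]
  rw [← h1, Nat.card_congr e, Nat.card_prod]
  exact dvd_mul_left _ _

section Regular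

variable {p : ℕ} [Fact p.Prime] {V : Type v} [AddCommGroup V] [Module (ZMod p) V] [Finite V] (H : Subgroup (V ≃ₗ[ZMod p] V))

/-- the natural representation -/
def natRep : H →* Module.End (ZMod p) V where
  toFun h := (h : V ≃ₗ[ZMod p] V).toLinearMap
  map_one' := rfl
  map_mul' _ _ := rfl

theorem natRep_apply (h : H) (v : V) : natRep H h v = (h : V ≃ₗ[ZMod p] V) v := rfl

theorem finite_equiv : Finite (V ≃ₗ[ZMod p] V) := Finite.of_injective (fun e => (e : V → V)) DFunLike.coe_injective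

variable (hreg : ∀ v w : V, v ≠ 0 → w ≠ 0 → ∃! h : H, (h : V ≃ₗ[ZMod p] V) v = w)
include hreg

theorem reg_free : Free (natRep H) := by
  intro h hh v hv
  by_contra hv0
  obtain ⟨k, -, hk⟩ := hreg v v hv0 hv0
  have h1 := hk h hv
  have h2 := hk 1 rfl
  exact hh (h1.trans h2.symm)

theorem reg_card [Nontrivial V] : Nat.card H = Nat.card V - 1 := by
  classical
  obtain ⟨v₀, hv₀⟩ := exists_ne (0 : V)
  have h1 : Nat.card {x : V // x ≠ 0} = Nat.card V - 1 := by
    haveI := Fintype.ofFinite V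
    rw [Nat.card_eq_fintype_card, Nat.card_eq_fintype_card, Fintype.card_subtype_compl, Fintype.card_subtype_eq]
  rw [← h1]
  refine Nat.card_congr (Equiv.ofBijective (fun h : H => (⟨(h : V ≃ₗ[ZMod p] V) v₀, fun h0 => hv₀ ((LinearEquiv.map_eq_zero_iff _).1 h0)⟩ : {x : V // x ≠ 0})) ⟨?_, ?_⟩)
  · intro a b hab
    obtain ⟨k, -, hk⟩ := hreg v₀ _ hv₀ (fun h0 => hv₀ ((LinearEquiv.map_eq_zero_iff (b : V ≃ₗ[ZMod p] V)).1 h0))
    exact (hk a (congrArg Subtype.val hab)).trans (hk b rfl).symm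
  · rintro ⟨w, hw⟩
    obtain ⟨k, hk, -⟩ := hreg v₀ w hv₀ hw
    exact ⟨k, Subtype.ext hk⟩

theorem reg_not_dvd [Nontrivial V] : ¬ p ∣ Nat.card H := by
  rw [reg_card H hreg]
  intro h1
  have hp : p.Prime := Fact.out
  haveI : Module.Finite (ZMod p) V := Module.Finite.of_finite
  have h2 : p ∣ Nat.card V := by
    rw [Module.natCard_eq_pow_finrank (K := ZMod p), Nat.card_zmod]
    exact dvd_pow_self p (Module.finrank_pos).ne'
  have h3 := (Nat.dvd_sub h2 h1)
  have h4 : Nat.card V - (Nat.card V - 1) = 1 := by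
    have := Nat.card_pos (α := V)
    omega
  rw [h4] at h3
  exact hp.one_lt.ne' (Nat.dvd_one.1 h3)

theorem reg_hasFree [Nontrivial V] : HasFree.{v, v} H := by
  haveI : Module.Finite (ZMod p) V := Module.Finite.of_finite
  haveI : CharP (AlgebraicClosure (ZMod p)) p := charP_of_injective_algebraMap (algebraMap (ZMod p) (AlgebraicClosure (ZMod p))).injective p
  refine ⟨AlgebraicClosure (ZMod p), inferInstance, inferInstance, AlgebraicClosure (ZMod p) ⊗[ZMod p] V, inferInstance, inferInstance,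
    inferInstance, inferInstance, _, free_baseChange (F := AlgebraicClosure (ZMod p)) (natRep H) (reg_free H hreg), ?_⟩
  rw [Ne, CharP.cast_eq_zero_iff (AlgebraicClosure (ZMod p)) p]
  exact reg_not_dvd H hreg

end Regular

/-- the arithmetic -/
theorem arith {p k Q m t : ℕ} (hp : p.Prime) (hQ : Q = p ^ k) (hp30 : ¬ p ∣ 120) (ht : t = 1 ∨ t = 2) (hm : m.Coprime 30) (hmQ : m ∣ Q - 1)
    (h : Q * Q - 1 = 120 * t * m) : t = 1 ∧ ((Q = 11 ∧ m = 1) ∨ (Q = 29 ∧ m = 7) ∨ (Q = 59 ∧ m = 29)) := by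
  have hQ2 : 2 ≤ Q := by
    by_contra hlt
    push Not at hlt
    have : Q * Q ≤ 1 := by interval_cases Q <;> norm_num
    have h1 : Q * Q - 1 = 0 := by omega
    rw [h1] at h
    have hm0 : m ≠ 0 := by rintro rfl; norm_num at hm
    rcases ht with rfl | rfl <;> omega
  obtain ⟨s, hs⟩ := hmQ
  have hm0 : 0 < m := Nat.pos_of_ne_zero (by rintro rfl; norm_num at hm)
  have h1 : m * (s * (Q + 1)) = m * (120 * t) := by
    have : Q * Q - 1 = (Q - 1) * (Q + 1) := by
      obtain ⟨q, rfl⟩ : ∃ q, Q = q + 1 := ⟨Q - 1, by omega⟩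
      have : (q + 1) * (q + 1) - 1 = q * q + 2 * q := by
        have : (q + 1) * (q + 1) = q * q + 2 * q + 1 := by ring
        omega
      rw [this, Nat.add_sub_cancel]; ring
    rw [this, hs] at h
    have e1 : m * (s * (Q + 1)) = m * s * (Q + 1) := by ring
    rw [e1, h]; ring
  have h2 : s * (Q + 1) = 120 * t := Nat.eq_of_mul_eq_mul_left hm0 h1
  have hdvd : Q + 1 ∣ 240 := by
    rcases ht with rfl | rfl
    · exact (Dvd.intro_left s h2).trans (by norm_num)
    · exact (Dvd.intro_left s h2).trans (by norm_num)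
  have hQle : Q ≤ 239 := by
    have := Nat.le_of_dvd (by norm_num) hdvd
    omega
  have hs0 : s = 120 * t / (Q + 1) := by rw [← h2, Nat.mul_div_cancel _ (by omega)]
  have hspos : 0 < s := Nat.pos_of_ne_zero (by rintro rfl; rw [zero_mul] at h2; rcases ht with rfl | rfl <;> omega)
  have hms : m = (Q - 1) / s := by rw [hs, Nat.mul_div_cancel _ hspos]
  have hsd : s ∣ Q - 1 := Dvd.intro_left m hs.symm
  have key : ∀ Q ∈ Finset.range 240, 2 ≤ Q → ∀ t ∈ Finset.Icc 1 2, 120 * t / (Q + 1) ∣ Q - 1 → (Q + 1) ∣ 120 * t →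
      ((Q - 1) / (120 * t / (Q + 1))).Coprime 30 →
      Q = 119 ∨ (t = 1 ∧ ((Q = 11 ∧ (Q - 1) / (120 * t / (Q + 1)) = 1) ∨ (Q = 29 ∧ (Q - 1) / (120 * t / (Q + 1)) = 7) ∨
        (Q = 59 ∧ (Q - 1) / (120 * t / (Q + 1)) = 29))) := by decide +kernel
  have h3 := key Q (Finset.mem_range.2 (by omega)) hQ2 t (Finset.mem_Icc.2 (by rcases ht with rfl | rfl <;> omega)) (hs0 ▸ hsd)
    (Dvd.intro_left s h2) (by rw [← hs0, ← hms]; exact hm)
  rw [← hs0, ← hms] at h3
  rcases h3 with h3 | h3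
  · exfalso
    rw [h3] at hQ
    have h7 : 7 ∣ p := Nat.Prime.dvd_of_dvd_pow (by norm_num) (hQ ▸ (by norm_num) : 7 ∣ p ^ k)
    have h17 : 17 ∣ p := Nat.Prime.dvd_of_dvd_pow (by norm_num) (hQ ▸ (by norm_num) : 17 ∣ p ^ k)
    have e7 := (Nat.prime_dvd_prime_iff_eq (by norm_num) hp).1 h7
    have e17 := (Nat.prime_dvd_prime_iff_eq (by norm_num) hp).1 h17
    omega
  · exact h3

theorem card_prod_of_inf {G : Type w} [Group G] [Finite G] (N M : Subgroup G) (hinf : N ⊓ M = ⊥) (hc : ∀ n ∈ N, ∀ m ∈ M, n * m = m * n) :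
    ∃ f : N × M →* G, Function.Injective f ∧ f.range = N ⊔ M := by
  have hc' : ∀ (n : N) (m : M), Commute (N.subtype n) (M.subtype m) := fun n m => hc n n.2 m m.2
  refine ⟨MonoidHom.noncommCoprod N.subtype M.subtype hc', ?_, ?_⟩
  · rw [MonoidHom.noncommCoprod_injective]
    refine ⟨N.subtype_injective, M.subtype_injective, ?_⟩
    rw [range_subtype, range_subtype, disjoint_iff]
    exact hinf
  · rw [MonoidHom.noncommCoprod_range, range_subtype, range_subtype]

theorem regular_nonsolvable {p : ℕ} [Fact p.Prime] {V : Type v} [AddCommGroup V] [Module (ZMod p) V] [Finite V] (H : Subgroup (V ≃ₗ[ZMod p] V))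
    (hreg : ∀ v w : V, v ≠ 0 → w ≠ 0 → ∃! h : H, (h : V ≃ₗ[ZMod p] V) v = w) (hsolv : ¬ Group.IsSolvable H) :
    (Nat.card V = 121 ∧ Nonempty (H ≃* S25)) ∨ (Nat.card V = 841 ∧ Nonempty (H ≃* S25 × Multiplicative (ZMod 7))) ∨
      (Nat.card V = 3481 ∧ Nonempty (H ≃* S25 × Multiplicative (ZMod 29))) := by
  haveI := finite_equiv (p := p) (V := V)
  have hp : p.Prime := Fact.out
  haveI hV : Nontrivial V := by
    by_contra h0
    rw [not_nontrivial_iff_subsingleton] at h0
    apply hsolv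
    haveI : Subsingleton H := ⟨fun a b => Subtype.ext (LinearEquiv.ext fun v => Subsingleton.elim _ _)⟩
    infer_instance
  obtain ⟨⟨e⟩, M, hMn, hMc, hM30, hMZ, hinf, -, hidx⟩ := structure_thm (reg_hasFree H hreg) hsolv
  haveI := hMn
  have hfree := reg_free H hreg
  have hMc' : ∀ n ∈ N3 H, ∀ m ∈ M, n * m = m * n := fun n hn m hm => mem_centralizer_iff.1 (hMc hm) n hn
  obtain ⟨f, hf, hfr⟩ := card_prod_of_inf (N3 H) M hinf hMc'
  have hcard : Nat.card (N3 H ⊔ M : Subgroup H) = 120 * Nat.card M := by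
    rw [← hfr, ← e_card e, ← Nat.card_prod]
    exact (Nat.card_congr (MonoidHom.ofInjective hf).toEquiv).symm
  have h120 : 120 ∣ Nat.card H := by
    rw [← e_card e]
    exact Subgroup.card_subgroup_dvd_card _
  have hp120 : ¬ p ∣ 120 := fun h0 => reg_not_dvd H hreg (h0.trans h120)
  have h2 : (2 : ZMod p) ≠ 0 := by
    intro h0
    have h1 : ((2 : ℕ) : ZMod p) = 0 := by exact_mod_cast h0
    rw [ZMod.natCast_eq_zero_iff] at h1
    exact hp120 (h1.trans (by norm_num))
  set i : H := (N3 H).subtype (e.symm iM) with hi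
  set j : H := (N3 H).subtype (e.symm jM) with hj
  have hneg : ∀ a : H, a ^ 4 = 1 → a ^ 2 ≠ 1 → natRep H a * natRep H a = -1 := by
    intro a h4 h22
    rw [← map_mul, ← pow_two]
    exact hfree.neg_one h22 (by rw [← pow_mul]; exact h4)
  have hi4 : i ^ 4 = 1 := by rw [hi, ← map_pow, ← map_pow, iM_four, map_one, map_one]
  have hi2 : i ^ 2 ≠ 1 := by
    rw [hi, ← map_pow, ← map_pow]
    exact fun h0 => iM_two (e.symm.injective ((Subtype.ext h0 : e.symm (iM ^ 2) = 1).trans (map_one _).symm))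
  have hij2 : i ^ 2 = j ^ 2 := by
    rw [hi, hj, ← map_pow, ← map_pow, ← map_pow, ← map_pow, ijM_two]
  have hj4 : j ^ 4 = 1 := by
    have e1 : j ^ 4 = (j ^ 2) ^ 2 := by rw [← pow_mul]
    have e2 : i ^ 4 = (i ^ 2) ^ 2 := by rw [← pow_mul]
    rw [e1, ← hij2, ← e2, hi4]
  have hji : j * i = i⁻¹ * j := by
    rw [hi, hj, ← map_mul, ← map_mul, jiM, map_mul, map_inv, map_mul, map_inv]
  have hii := hneg i hi4 hi2
  have hjj := hneg j hj4 (by rw [← hij2]; exact hi2)
  have hinv : natRep H i⁻¹ = - natRep H i := by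
    have h1 : natRep H i⁻¹ * (natRep H i * natRep H i) = natRep H i := by rw [← mul_assoc, Free.map_inv', one_mul]
    rw [hii, mul_neg, mul_one] at h1
    rw [← h1, neg_neg]
  have hq : QP (natRep H i) (natRep H j) := ⟨hii, hjj, by rw [← map_mul, hji, map_mul, hinv, neg_mul]⟩
  obtain ⟨α, β, hab⟩ := ZMod.sq_add_sq p (-1)
  have hVQ := hq.half h2 hab
  set T := α • natRep H i + β • natRep H j with hT
  haveI : Module.Finite (ZMod p) V := Module.Finite.of_finite
  have hQ : Nat.card (LinearMap.ker (T - 1)) = p ^ finrank (ZMod p) (LinearMap.ker (T - 1)) := by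
    rw [Module.natCard_eq_pow_finrank (K := ZMod p), Nat.card_zmod]
  have hinvar : ∀ m : M, ∀ v ∈ LinearMap.ker (T - 1), natRep H m v ∈ LinearMap.ker (T - 1) := by
    intro m v hv
    have hmi : natRep H i * natRep H m = natRep H m * natRep H i := by
      rw [← map_mul, hMc' i (e.symm iM).2 m m.2, map_mul]
    have hmj : natRep H j * natRep H m = natRep H m * natRep H j := by
      rw [← map_mul, hMc' j (e.symm jM).2 m m.2, map_mul]
    have hTm : T * natRep H m = natRep H m * T := by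
      rw [hT, add_mul, mul_add, smul_mul_assoc, smul_mul_assoc, mul_smul_comm, mul_smul_comm, hmi, hmj]
    rw [LinearMap.mem_ker, LinearMap.sub_apply, Module.End.one_apply, sub_eq_zero] at hv ⊢
    rw [← Module.End.mul_apply, hTm, Module.End.mul_apply, hv]
  letI : MulAction M (LinearMap.ker (T - 1)) :=
    { smul := fun m v => ⟨natRep H m v, hinvar m v v.2⟩
      one_smul := fun v => Subtype.ext rfl
      mul_smul := fun a b v => Subtype.ext rfl }
  have hMdvd : Nat.card M ∣ Nat.card (LinearMap.ker (T - 1)) - 1 := by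
    refine card_dvd_of_free (M := M) (0 : LinearMap.ker (T - 1)) (fun m => Subtype.ext (map_zero (natRep H m))) ?_
    intro m hm v hv
    have h1 : natRep H m v = v := congrArg Subtype.val hv
    exact Subtype.ext (hfree m (fun h0 => hm (Subtype.ext h0)) v h1)
  have ht : (N3 H ⊔ M).index = 1 ∨ (N3 H ⊔ M).index = 2 := (Nat.dvd_prime Nat.prime_two).1 hidx
  have heq : Nat.card (LinearMap.ker (T - 1)) * Nat.card (LinearMap.ker (T - 1)) - 1 = 120 * (N3 H ⊔ M).index * Nat.card M := by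
    rw [← hVQ, ← reg_card H hreg, ← Subgroup.card_mul_index (N3 H ⊔ M), hcard]; ring
  obtain ⟨ht1, hcases⟩ := arith hp hQ hp120 ht hM30 hMdvd heq
  have htop : N3 H ⊔ M = ⊤ := Subgroup.index_eq_one.1 ht1
  have hsurj : Function.Surjective f := by rw [← MonoidHom.range_eq_top, hfr, htop]
  let E : H ≃* N3 H × M := (MulEquiv.ofBijective f ⟨hf, hsurj⟩).symm
  rcases hcases with ⟨h1, h3⟩ | ⟨h1, h3⟩ | ⟨h1, h3⟩
  · left
    refine ⟨by rw [hVQ, h1], ?_⟩
    haveI : Unique M := (Nat.card_eq_one_iff_unique.1 h3).1.elim |> fun _ => ⟨⟨1⟩, fun a => by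
      haveI := (Nat.card_eq_one_iff_unique.1 h3).1
      exact Subsingleton.elim _ _⟩
    exact ⟨(E.trans MulEquiv.prodUnique).trans e⟩
  · right; left
    haveI : Fact (Nat.Prime 7) := ⟨by norm_num⟩
    refine ⟨by rw [hVQ, h1], ⟨E.trans (e.prodCongr (mulEquivOfPrimeCardEq (p := 7) h3 (by simp)))⟩⟩
  · right; right
    haveI : Fact (Nat.Prime 29) := ⟨by norm_num⟩
    refine ⟨by rw [hVQ, h1], ⟨E.trans (e.prodCongr (mulEquivOfPrimeCardEq (p := 29) h3 (by simp)))⟩⟩

end CfsgLib.H3Zas
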