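import Mathlib
import Cfsg.Agent.Lib.H3Zas21
import Cfsg.Agent.Lib.H3Ti4
import Cfsg.Agent.Lib.H3FC4

/-!
# Regular linear groups: abelian normal subgroups
-/

set_option autoImplicit false
set_option linter.style.haveILetI false

namespace CfsgLib.H3Reg

open Subgroup CfsgLib.H3Zas CfsgLib.H3Ti Module
open scoped commutatorElement

universe u v w

theorem quat_zero {T : Type u} [Group T] (f : T ≃* QuaternionGroup (2 ^ 0)) : IsCyclic T := by
  have hcard : Nat.card T = 4 := by rw [Nat.card_congr f.toEquiv, Nat.card_eq_fintype_card]; decide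
  haveI : Finite T := Finite.of_equiv _ f.symm.toEquiv
  refine isCyclic_of_orderOf_eq_card (f.symm (QuaternionGroup.xa 0)) ?_
  rw [hcard, MulEquiv.orderOf_eq, QuaternionGroup.orderOf_xa]

theorem quat_nc {n : ℕ} (hn : 1 ≤ n) : ¬ ∀ x y : QuaternionGroup (2 ^ n), x * y = y * x := by
  intro h
  have h1 := h (QuaternionGroup.a 1) (QuaternionGroup.xa 0)
  rw [QuaternionGroup.a_mul_xa, QuaternionGroup.xa_mul_a] at h1
  have h2 : (0 : ZMod (2 * 2 ^ n)) - 1 = 0 + 1 := by injection h1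
  have h3 : ((2 : ℕ) : ZMod (2 * 2 ^ n)) = 0 := by
    push_cast
    linear_combination (-1 : ZMod (2 * 2 ^ n)) * h2
  rw [ZMod.natCast_eq_zero_iff] at h3
  have h4 := Nat.le_of_dvd (by norm_num) h3
  have h5 : 2 ^ 1 ≤ 2 ^ n := Nat.pow_le_pow_right (by norm_num) hn
  omega

theorem cq_cases {H : Type u} [Group H] (hCQ : CQ H) {p : ℕ} [Fact p.Prime] (P : Subgroup H) (hP : IsPGroup p P) :
    IsCyclic P ∨ (p = 2 ∧ ∃ n : ℕ, 1 ≤ n ∧ Nonempty (P ≃* QuaternionGroup (2 ^ n))) := by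
  rcases hCQ p P hP with h | ⟨h, n, ⟨e⟩⟩
  · exact Or.inl h
  · rcases Nat.eq_zero_or_pos n with rfl | hn
    · left; exact quat_zero e
    · right; exact ⟨h, n, hn, ⟨e⟩⟩

/-- abelian subgroups are cyclic -/
theorem cyc_of_comm {H : Type u} [Group H] [Finite H] (hCQ : CQ H) (A : Subgroup H) (hA : IsMulCommutative A) : IsCyclic A := by
  haveI hz : IsZGroup A := by
    refine ⟨fun p hp P => ?_⟩
    haveI : Fact p.Prime := ⟨hp⟩
    rcases cq_cases hCQ ((P : Subgroup A).map A.subtype) (P.2.map _) with h | ⟨rfl, n, hn, ⟨e⟩⟩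
    · exact CfsgLib.H3Misc.cyclic_of_map_subtype A P h
    · exfalso
      apply quat_nc hn
      intro x y
      obtain ⟨a, rfl⟩ := e.surjective x
      obtain ⟨b, rfl⟩ := e.surjective y
      rw [← map_mul, ← map_mul]
      congr 1
      obtain ⟨⟨a, ha⟩, -, ha'⟩ := a.2
      obtain ⟨⟨b, hb⟩, -, hb'⟩ := b.2
      apply Subtype.ext
      have h1 := congrArg (fun z : A => (z : H)) (hA.is_comm.comm ⟨a, ha⟩ ⟨b, hb⟩)
      simp only [Subgroup.coe_mul] at h1 ⊢
      rw [← ha', ← hb']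
      exact h1
  letI : CommGroup A := { (inferInstance : Group A) with mul_comm := hA.is_comm.comm }
  have h1 : IsCyclic (Abelianization A) := IsZGroup.isCyclic_abelianization
  exact isCyclic_of_surjective (Abelianization.equivOfComm (H := A)).symm (Abelianization.equivOfComm (H := A)).symm.surjective

section Reg

variable {p : ℕ} [Fact p.Prime] {V : Type v} [AddCommGroup V] [Module (ZMod p) V] [Finite V] (H : Subgroup (V ≃ₗ[ZMod p] V))

/-- regular on nonzero vectors -/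
def Rg : Prop := ∀ v w : V, v ≠ 0 → w ≠ 0 → ∃! h : H, (h : V ≃ₗ[ZMod p] V) v = w

/-- cyclic normal subgroups are reducible -/
def Rd : Prop := ∀ A : Subgroup H, A.Normal → IsCyclic A → ∃ W : Submodule (ZMod p) V, W ≠ ⊥ ∧ W ≠ ⊤ ∧
  ∀ a ∈ A, ∀ v ∈ W, ((a : H) : V ≃ₗ[ZMod p] V) v ∈ W

variable {H}

theorem Rd.nontrivial (h : Rd H) : Nontrivial V := by
  obtain ⟨W, h1, h2, -⟩ := h ⊥ inferInstance inferInstance
  by_contra h0
  rw [not_nontrivial_iff_subsingleton] at h0
  exact h1 (Subsingleton.elim _ _)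

theorem Rg.cq [Nontrivial V] (h : Rg H) : CQ H := by
  haveI := finite_equiv (p := p) (V := V)
  exact CQ_of_hasFree (reg_hasFree H h)

/-- a subgroup acting on a subspace has order dividing the number of nonzero vectors -/
theorem Rg.card_dvd (h : Rg H) (A : Subgroup H) (W : Submodule (ZMod p) V) (hW : ∀ a ∈ A, ∀ v ∈ W, ((a : H) : V ≃ₗ[ZMod p] V) v ∈ W) :
    Nat.card A ∣ Nat.card W - 1 := by
  letI : MulAction A W :=
    { smul := fun m v => ⟨((m : H) : V ≃ₗ[ZMod p] V) v, hW m m.2 v v.2⟩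
      one_smul := fun v => Subtype.ext rfl
      mul_smul := fun a b v => Subtype.ext rfl }
  refine card_dvd_of_free (M := A) (0 : W) (fun m => Subtype.ext (map_zero ((m : H) : V ≃ₗ[ZMod p] V))) ?_
  intro m hm v hv
  have h1 : ((m : H) : V ≃ₗ[ZMod p] V) v = v := congrArg Subtype.val hv
  exact Subtype.ext (reg_free H h m (fun h0 => hm (Subtype.ext h0)) v h1)

theorem card_pow (W : Submodule (ZMod p) V) : Nat.card W = p ^ finrank (ZMod p) W := by
  haveI : Module.Finite (ZMod p) V := Module.Finite.of_finite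
  rw [Module.natCard_eq_pow_finrank (K := ZMod p), Nat.card_zmod]

/-- minimal invariant subspaces -/
theorem exists_min (A : Subgroup H) (W0 : Submodule (ZMod p) V) (h0 : W0 ≠ ⊥) (hW0 : ∀ a ∈ A, ∀ v ∈ W0, ((a : H) : V ≃ₗ[ZMod p] V) v ∈ W0) :
    ∃ W : Submodule (ZMod p) V, W ≤ W0 ∧ W ≠ ⊥ ∧ (∀ a ∈ A, ∀ v ∈ W, ((a : H) : V ≃ₗ[ZMod p] V) v ∈ W) ∧
      ∀ W' : Submodule (ZMod p) V, W' ≤ W → (∀ a ∈ A, ∀ v ∈ W', ((a : H) : V ≃ₗ[ZMod p] V) v ∈ W') → W' = ⊥ ∨ W' = W := by
  haveI : Finite (Submodule (ZMod p) V) := Finite.of_injective (fun W => (W : Set V)) SetLike.coe_injective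
  obtain ⟨W, hW⟩ := Set.Finite.exists_minimal (s := {W : Submodule (ZMod p) V | W ≤ W0 ∧ W ≠ ⊥ ∧ (∀ a ∈ A, ∀ v ∈ W, ((a : H) : V ≃ₗ[ZMod p] V) v ∈ W)})
    (Set.toFinite _) ⟨W0, le_rfl, h0, hW0⟩
  refine ⟨W, hW.1.1, hW.1.2.1, hW.1.2.2, fun W' hle hinv => ?_⟩
  by_cases hb : W' = ⊥
  · exact Or.inl hb
  · right
    exact le_antisymm hle (hW.2 (y := W') ⟨hle.trans hW.1.1, hb, hinv⟩ hle)

theorem s0684 (hreg : Rg H) (hI : Rd H) (A : Subgroup H) (hAn : A.Normal) (hAc : IsMulCommutative A) : IsCyclic A ∧ ∃ W : Submodule (ZMod p) V, W ≠ ⊥ ∧ W ≠ ⊤ ∧ (∀ a ∈ A, ∀ v ∈ W, ((a : H) : V ≃ₗ[ZMod p] V) v ∈ W) ∧ (∀ W' : Submodule (ZMod p) V, W' ≤ W → (∀ a ∈ A, ∀ v ∈ W', ((a : H) : V ≃ₗ[ZMod p] V) v ∈ W') → W' = ⊥ ∨ W' = W) ∧ Nat.card A ∣ p ^ Module.finrank (ZMod p) W - 1 := by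
  haveI := hI.nontrivial
  haveI := finite_equiv (p := p) (V := V)
  have hc := cyc_of_comm hreg.cq A hAc
  obtain ⟨W0, h1, h2, h3⟩ := hI A hAn hc
  obtain ⟨W, h4, h5, h6, h7⟩ := exists_min A W0 h1 h3
  exact ⟨hc, W, h5, fun h => h2 (top_le_iff.1 (h ▸ h4)), h6, h7, by rw [← card_pow]; exact hreg.card_dvd A W h6⟩

theorem s0685 (hreg : Rg H) (hI : Rd H) (A : Subgroup H) (hAn : A.Normal) (hAc : IsMulCommutative A)
    (hAmax : ∀ B : Subgroup H, B.Normal → IsMulCommutative B → A ≤ B → B = A) :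
    A < Subgroup.centralizer (A : Set H) ∧ ¬ IsMulCommutative (Subgroup.centralizer (A : Set H)) := by
  haveI := hI.nontrivial
  haveI := finite_equiv (p := p) (V := V)
  haveI := hAn
  haveI := hAc
  have hle : A ≤ centralizer (A : Set H) := Subgroup.le_centralizer A
  have key : ¬ IsMulCommutative (centralizer (A : Set H)) := by
    intro hC
    have hCA := hAmax _ inferInstance hC hle
    have hc := cyc_of_comm hreg.cq A hAc
    obtain ⟨W, h1, h2, h3⟩ := hI A hAn hc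
    have hd1 := hreg.card_dvd A W h3
    have hV := reg_card H hreg
    have hAd : Nat.card A ∣ Nat.card V - 1 := by rw [← hV]; exact Subgroup.card_subgroup_dvd_card A
    have hxy : Nat.card V = Nat.card W * Nat.card (V ⧸ W) := Submodule.card_eq_card_quotient_mul_card W
    haveI : Finite (V ⧸ W) := Finite.of_surjective _ (Submodule.mkQ_surjective W)
    set x := Nat.card W
    set y := Nat.card (V ⧸ W)
    set a := Nat.card A
    have hx : 1 < x := by
      haveI : Nontrivial W := Submodule.nontrivial_iff_ne_bot.2 h1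
      exact Finite.one_lt_card
    have hy : 1 < y := by
      haveI : Nontrivial (V ⧸ W) := Submodule.Quotient.nontrivial_iff.2 h2
      exact Finite.one_lt_card
    have hd2 : a ∣ y - 1 := by
      have e : Nat.card V - 1 = (x - 1) * y + (y - 1) := by
        rw [hxy]
        obtain ⟨x', hx'⟩ : ∃ x', x = x' + 1 := ⟨x - 1, by omega⟩
        rw [hx', Nat.add_sub_cancel, add_mul, one_mul]
        omega
      rw [e] at hAd
      exact (Nat.dvd_add_right (hd1.mul_right y)).1 hAd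
    have ha1 : a ≤ x - 1 := Nat.le_of_dvd (by omega) hd1
    have ha2 : a ≤ y - 1 := Nat.le_of_dvd (by omega) hd2
    -- index of A
    have hidx : A.index ≤ a := by
      have h4 : A.index = Nat.card (MulAut.conjNormal : H →* MulAut A).range := by
        rw [← index_ker, conjNormal_ker, hCA]
      rw [h4]
      have h5 : Nat.card (MulAut.conjNormal : H →* MulAut A).range ∣ Nat.card (MulAut A) := Subgroup.card_subgroup_dvd_card _
      have h6 : Nat.card (MulAut A) = Nat.totient (Nat.card A) := IsCyclic.card_mulAut A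
      rw [h6] at h5
      have hpos : 0 < Nat.card A := Nat.card_pos
      exact (Nat.le_of_dvd (Nat.totient_pos.2 hpos) h5).trans (Nat.totient_le _)
    have h7 : Nat.card V - 1 = a * A.index := by rw [← hV]; exact A.card_mul_index.symm
    have h8 : a * A.index ≤ (x - 1) * (y - 1) := Nat.mul_le_mul ha1 (hidx.trans ha2)
    rw [← h7, hxy] at h8
    obtain ⟨x', hx'⟩ : ∃ x', x = x' + 1 := ⟨x - 1, by omega⟩
    obtain ⟨y', hy'⟩ : ∃ y', y = y' + 1 := ⟨y - 1, by omega⟩
    rw [hx', hy', Nat.add_sub_cancel, Nat.add_sub_cancel] at h8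
    have h9 : (x' + 1) * (y' + 1) = x' * y' + x' + y' + 1 := by ring
    rw [h9] at h8
    omega
  refine ⟨lt_of_le_of_ne hle (fun h => key ?_), key⟩
  rw [← h]; exact hAc

end Reg

end CfsgLib.H3Reg
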