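import Mathlib
import Cfsg.Prelude.Def_Solvable
import Cfsg.Agent.Lib.H3Zas1
import Cfsg.Agent.Lib.H3Zas14
import Cfsg.Agent.Lib.H3Zas20
import Cfsg.Agent.Lib.H3Ti3
import Cfsg.Agent.Lib.H3Ti4
import Cfsg.Agent.Lib.H3Reg1
import Cfsg.Agent.Lib.FrobC
import Cfsg.Agent.Lib.H3Fld1
import Cfsg.Agent.Lib.H3Fld2

/-!
# Consequences: products and division rings
-/

set_option autoImplicit false
set_option maxHeartbeats 1000000

namespace CfsgLib.H3Fld

open CfsgLib.H3Zas Module
open scoped TensorProduct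

universe u v w

/-- occurrence as a complement -/
def FC (G : Type w) [Group G] : Prop :=
  ∃ (L : Type) (_ : Group L) (_ : Finite L) (H : Subgroup L), Cfsg.IsFrobeniusComplement H ∧ Nonempty (G ≃* H)

theorem FC_of_act {G : Type w} [Group G] [Finite G] [Nontrivial G] {Ω : Type v} [AddCommGroup Ω] [Finite Ω] [Nontrivial Ω]
    (f : G →* AddMonoid.End Ω) (hf : ∀ g : G, g ≠ 1 → ∀ a : Ω, f g a = a → a = 0) : FC G := by
  let eG : Shrink.{0} G ≃* G := Shrink.mulEquiv
  let eΩ : Shrink.{0} Ω ≃+ Ω := Shrink.addEquiv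
  haveI : Finite (Shrink.{0} G) := Finite.of_equiv G eG.symm.toEquiv
  haveI : Finite (Shrink.{0} Ω) := Finite.of_equiv Ω eΩ.symm.toEquiv
  haveI : Nontrivial (Shrink.{0} G) := eG.toEquiv.nontrivial
  haveI : Nontrivial (Shrink.{0} Ω) := eΩ.toEquiv.nontrivial
  obtain ⟨L, iL, iF, K, hK, ⟨e⟩⟩ := FrobC.frob_of_action (V := Shrink.{0} Ω) (H := Shrink.{0} G) (fun h v => eΩ.symm (f (eG h) (eΩ v)))
    (by intro v; simp)
    (by intro g h v; simp)
    (by intro g v w; simp)
    (by
      intro g hg v hv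
      have h1 : f (eG g) (eΩ v) = eΩ v := by
        have := congrArg eΩ hv
        simpa using this
      have h2 := hf (eG g) (fun h0 => hg (by rw [← eG.symm_apply_apply g, h0, map_one])) _ h1
      rw [← eΩ.symm_apply_apply v, h2, map_zero])
  exact ⟨L, iL, iF, K, hK, ⟨eG.symm.trans e.symm⟩⟩

theorem FC_of_L {G : Type w} [Group G] [Finite G] [Nontrivial G] {ℓ : ℕ} (h : HasL G ℓ) : FC G := by
  obtain ⟨Ω, _, _, _, f, _, hf⟩ := h
  exact FC_of_act f hf

theorem exists_prime_not_dvd (n : ℕ) (hn : n ≠ 0) : ∃ ℓ : ℕ, ℓ.Prime ∧ ¬ ℓ ∣ n := by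
  obtain ⟨ℓ, hle, hp⟩ := Nat.exists_infinite_primes (n + 1)
  refine ⟨ℓ, hp, fun hd => ?_⟩
  have := Nat.le_of_dvd (Nat.pos_of_ne_zero hn) hd
  omega

theorem FC_of_Z {G : Type w} [Group G] [Finite G] [Nontrivial G] (h : HasZ G) : FC G := by
  obtain ⟨ℓ, hℓ, hℓG⟩ := exists_prime_not_dvd (Nat.card G) Nat.card_pos.ne'
  exact FC_of_L (hasL_of_Z h hℓ hℓG)

theorem FC_sub {G : Type w} {K : Type v} [Group G] [Finite G] [Group K] [Finite K] [Nontrivial K] (h : FC G) (f : K →* G) (hf : Function.Injective f) :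
    FC K := by
  obtain ⟨A, _, _, _, φ, hφ⟩ := act_of_FC h
  refine FC_of_Z (hasZ_of_group (φ.comp f) ?_)
  intro g hg a ha
  exact hφ (f g) (fun h0 => hg (hf (by rw [h0, map_one]))) a ha

theorem CQ_of_FC {G : Type w} [Group G] [Finite G] (h : FC G) : CfsgLib.H3Ti.CQ G := by
  obtain ⟨ℓ, hℓ, hℓG⟩ := exists_prime_not_dvd (Nat.card G) Nat.card_pos.ne'
  haveI := Fact.mk hℓ
  obtain ⟨Ω, _, _, _, f, h0, hf⟩ := hasL_of_Z (hasZ_of_FC h) hℓ hℓG
  exact CfsgLib.H3Ti.CQ_of_hasFree (exists_free_elem h0 f hf hℓG)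

theorem coprime_of_FC {A : Type u} {B : Type v} [Group A] [Finite A] [Group B] [Finite B] (h : FC (A × B)) : (Nat.card A).Coprime (Nat.card B) := by
  have hCQ := CQ_of_FC h
  rw [Nat.coprime_iff_gcd_eq_one]
  by_contra hne
  obtain ⟨r, hr, hrd⟩ := Nat.exists_prime_and_dvd hne
  haveI := Fact.mk hr
  obtain ⟨a, ha⟩ := exists_prime_orderOf_dvd_card' (G := A) r (hrd.trans (Nat.gcd_dvd_left _ _))
  obtain ⟨b, hb⟩ := exists_prime_orderOf_dvd_card' (G := B) r (hrd.trans (Nat.gcd_dvd_right _ _))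
  let E : Subgroup (A × B) := (Subgroup.zpowers a).prod (Subgroup.zpowers b)
  haveI hE : IsMulCommutative E := by
    refine ⟨⟨fun x y => Subtype.ext ?_⟩⟩
    obtain ⟨⟨x1, x2⟩, hx1, hx2⟩ := x
    obtain ⟨⟨y1, y2⟩, hy1, hy2⟩ := y
    obtain ⟨i, hi⟩ := Subgroup.mem_zpowers_iff.1 (show x1 ∈ Subgroup.zpowers a from hx1)
    obtain ⟨j, hj⟩ := Subgroup.mem_zpowers_iff.1 (show x2 ∈ Subgroup.zpowers b from hx2)
    obtain ⟨k, hk⟩ := Subgroup.mem_zpowers_iff.1 (show y1 ∈ Subgroup.zpowers a from hy1)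
    obtain ⟨l, hl⟩ := Subgroup.mem_zpowers_iff.1 (show y2 ∈ Subgroup.zpowers b from hy2)
    subst hi hj hk hl
    exact Prod.ext (zpow_mul_comm a i k) (zpow_mul_comm b j l)
  have hcyc := CfsgLib.H3Reg.cyc_of_comm hCQ E hE
  -- cyclic group of exponent r and order r^2
  have hcard : Nat.card E = r * r := by
    have h1 : Nat.card E = Nat.card (Subgroup.zpowers a × Subgroup.zpowers b) := Nat.card_congr (Subgroup.prodEquiv _ _).toEquiv
    rw [h1, Nat.card_prod, Nat.card_zpowers, Nat.card_zpowers, ha, hb]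
  have hexp : ∀ x : E, x ^ r = 1 := by
    intro x
    obtain ⟨⟨x1, x2⟩, hx1, hx2⟩ := x
    obtain ⟨i, hi⟩ := Subgroup.mem_zpowers_iff.1 (show x1 ∈ Subgroup.zpowers a from hx1)
    obtain ⟨j, hj⟩ := Subgroup.mem_zpowers_iff.1 (show x2 ∈ Subgroup.zpowers b from hx2)
    subst hi hj
    refine Subtype.ext (Prod.ext ?_ ?_)
    · change (a ^ i) ^ r = 1
      rw [← zpow_natCast, ← zpow_mul, mul_comm, zpow_mul, zpow_natCast, ← ha, pow_orderOf_eq_one, one_zpow]
    · change (b ^ j) ^ r = 1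
      rw [← zpow_natCast, ← zpow_mul, mul_comm, zpow_mul, zpow_natCast, ← hb, pow_orderOf_eq_one, one_zpow]
  obtain ⟨x, hx⟩ := hcyc.exists_generator
  have h2 : orderOf x = Nat.card E := orderOf_eq_card_of_forall_mem_zpowers hx
  have h3 := orderOf_dvd_of_pow_eq_one (hexp x)
  rw [h2, hcard] at h3
  have h4 := Nat.le_of_dvd hr.pos h3
  have := hr.two_le
  nlinarith

theorem FC_prod {A : Type u} {B : Type v} [Group A] [Finite A] [Nontrivial A] [Group B] [Finite B] [Nontrivial B] (hA : FC A) (hB : FC B)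
    (hcop : (Nat.card A).Coprime (Nat.card B)) : FC (A × B) := by
  classical
  obtain ⟨ℓ, hℓ, hℓG⟩ := exists_prime_not_dvd (Nat.card A * Nat.card B) (mul_ne_zero Nat.card_pos.ne' Nat.card_pos.ne')
  haveI := Fact.mk hℓ
  have hℓA : ¬ ℓ ∣ Nat.card A := fun h => hℓG (h.mul_right _)
  have hℓB : ¬ ℓ ∣ Nat.card B := fun h => hℓG (h.mul_left _)
  obtain ⟨V, _, _, _, f, hV0, hf⟩ := hasL_of_Z (hasZ_of_FC hA) hℓ hℓA
  obtain ⟨W, _, _, _, f', hW0, hf'⟩ := hasL_of_Z (hasZ_of_FC hB) hℓ hℓB
  letI : Module (ZMod ℓ) V := AddCommGroup.zmodModule (n := ℓ) hV0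
  letI : Module (ZMod ℓ) W := AddCommGroup.zmodModule (n := ℓ) hW0
  let ρ : A →* Module.End (ZMod ℓ) V := (homZ ℓ V).comp f
  let τ : B →* Module.End (ZMod ℓ) W := (homZ ℓ W).comp f'
  have hρ : Free ρ := fun g hg v hv => hf g hg v hv
  have hτ : Free τ := fun g hg v hv => hf' g hg v hv
  haveI : FiniteDimensional (ZMod ℓ) V := Module.Finite.of_finite
  haveI : FiniteDimensional (ZMod ℓ) W := Module.Finite.of_finite
  let σ : A × B →* Module.End (ZMod ℓ) (V ⊗[ZMod ℓ] W) :=
    { toFun := fun x => TensorProduct.map (ρ x.1) (τ x.2)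
      map_one' := by
        change TensorProduct.map (ρ 1) (τ 1) = 1
        rw [map_one, map_one]
        exact TensorProduct.map_id
      map_mul' := fun x y => by
        change TensorProduct.map (ρ (x.1 * y.1)) (τ (x.2 * y.2)) = _
        rw [map_mul, map_mul]
        exact TensorProduct.map_mul _ _ _ _ }
  have hσ1 : ∀ a, σ (a, 1) = LinearMap.rTensor W (ρ a) := by
    intro a
    change TensorProduct.map (ρ a) (τ 1) = _
    rw [map_one]; rfl
  have hσ2 : ∀ b, σ (1, b) = LinearMap.lTensor V (τ b) := by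
    intro b
    change TensorProduct.map (ρ 1) (τ b) = _
    rw [map_one]; rfl
  have hnorm : NormM σ := by
    intro g r hr hgr
    obtain ⟨a, b⟩ := g
    have hpow : (a, b) ^ r = 1 := by rw [← hgr, pow_orderOf_eq_one]
    have hpa : a ^ r = 1 := congrArg Prod.fst hpow
    have hpb : b ^ r = 1 := congrArg Prod.snd hpow
    have hne : (a, b) ≠ 1 := by
      intro h0
      rw [h0, orderOf_one] at hgr
      exact hr.one_lt.ne hgr
    by_cases ha : a = 1
    · subst ha
      have hb : b ≠ 1 := fun h0 => hne (by rw [h0]; rfl)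
      have h1 := hτ.sum_zero hb hpb
      have h2 : ∀ i ∈ Finset.range r, σ (1, b) ^ i = LinearMap.lTensor V (τ b ^ i) := by
        intro i _
        rw [hσ2, LinearMap.lTensor_pow]
      rw [Finset.sum_congr rfl h2]
      have h3 := congrArg (LinearMap.lTensorHom (R := ZMod ℓ) V (N := W) (P := W)) h1
      rw [map_sum, map_zero] at h3
      exact h3
    · have hb : b = 1 := by
        by_contra hb
        have h1 : orderOf a = r := orderOf_eq_prime_iff (hp := ⟨hr⟩) |>.2 ⟨hpa, ha⟩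
        have h2 : orderOf b = r := orderOf_eq_prime_iff (hp := ⟨hr⟩) |>.2 ⟨hpb, hb⟩
        have h3 : r ∣ 1 := by
          rw [← Nat.coprime_iff_gcd_eq_one.1 hcop]
          exact Nat.dvd_gcd (h1 ▸ orderOf_dvd_natCard a) (h2 ▸ orderOf_dvd_natCard b)
        exact hr.one_lt.ne' (Nat.dvd_one.1 h3)
      subst hb
      have h1 := hρ.sum_zero ha hpa
      have h2 : ∀ i ∈ Finset.range r, σ (a, 1) ^ i = LinearMap.rTensor W (ρ a ^ i) := by
        intro i _
        rw [hσ1, LinearMap.rTensor_pow]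
      rw [Finset.sum_congr rfl h2]
      have h3 := congrArg (LinearMap.rTensorHom (R := ZMod ℓ) W (N := V) (P := V)) h1
      rw [map_sum, map_zero] at h3
      exact h3
  haveI : Nontrivial (V ⊗[ZMod ℓ] W) := by
    refine Module.nontrivial_of_finrank_pos (R := ZMod ℓ) ?_
    rw [Module.finrank_tensorProduct]
    exact Nat.mul_pos finrank_pos finrank_pos
  haveI : Finite (V ⊗[ZMod ℓ] W) := Module.finite_of_finite (ZMod ℓ)
  let F : A × B →* AddMonoid.End (V ⊗[ZMod ℓ] W) :=
    { toFun := fun g => (σ g).toAddMonoidHom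
      map_one' := by rw [map_one]; rfl
      map_mul' := fun g h => by rw [map_mul]; rfl }
  refine FC_of_act F ?_
  intro g hg a ha
  refine fpf_of_norm σ hnorm ?_ g hg a ha
  intro r hr hrG v hv
  rw [Nat.card_prod] at hrG
  have h1 : (r : ZMod ℓ) ≠ 0 := by
    rw [Ne, ZMod.natCast_eq_zero_iff]
    intro hd
    rw [(Nat.prime_dvd_prime_iff_eq hℓ hr).1 hd] at hℓG
    exact hℓG hrG
  have h2 : (r : ZMod ℓ) • v = 0 := by rw [Nat.cast_smul_eq_nsmul]; exact hv
  exact (smul_eq_zero.1 h2).resolve_left h1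

theorem FC_prod_iff {A : Type u} {B : Type v} [Group A] [Finite A] [Nontrivial A] [Group B] [Finite B] [Nontrivial B] :
    FC (A × B) ↔ FC A ∧ FC B ∧ (Nat.card A).Coprime (Nat.card B) := by
  constructor
  · intro h
    refine ⟨FC_sub h (MonoidHom.inl A B) ?_, FC_sub h (MonoidHom.inr A B) ?_, coprime_of_FC h⟩
    · intro x y hxy; exact congrArg Prod.fst hxy
    · intro x y hxy; exact congrArg Prod.snd hxy
  · rintro ⟨hA, hB, hc⟩
    exact FC_prod hA hB hc

theorem finite_of_tors {M : Type u} [AddCommGroup M] [Module.Finite ℤ M] {p : ℕ} (hp : 0 < p) (h : ∀ x : M, p • x = 0) : Finite M := by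
  haveI : NeZero p := ⟨hp.ne'⟩
  letI : Module (ZMod p) M := AddCommGroup.zmodModule (n := p) h
  haveI : IsScalarTower ℤ (ZMod p) M := inferInstance
  haveI : Module.Finite (ZMod p) M := Module.Finite.of_restrictScalars_finite ℤ (ZMod p) M
  exact Module.finite_of_finite (ZMod p)

/-- division rings -/
theorem FC_division {D : Type u} [DivisionRing D] (H : Subgroup Dˣ) [Finite H] (hH : H ≠ ⊥) : FC H := by
  classical
  haveI : Nontrivial H := (Subgroup.nontrivial_iff_ne_bot _).2 hH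
  -- the additive subgroup generated by H
  let Λ : Submodule ℤ D := Submodule.span ℤ (Set.range (fun h : H => ((h : Dˣ) : D)))
  have hmem : ∀ h : H, ((h : Dˣ) : D) ∈ Λ := fun h => Submodule.subset_span ⟨h, rfl⟩
  have hmul : ∀ (h : H) (x : D), x ∈ Λ → ((h : Dˣ) : D) * x ∈ Λ := by
    intro h x hx
    induction hx using Submodule.span_induction with
    | mem x hx =>
      obtain ⟨k, rfl⟩ := hx
      exact hmem (h * k)
    | zero => rw [mul_zero]; exact Λ.zero_mem
    | add x y _ _ hx hy => rw [mul_add]; exact Λ.add_mem hx hy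
    | smul a x _ hx => rw [mul_smul_comm]; exact Λ.smul_mem _ hx
  haveI : Module.Finite ℤ Λ := Module.Finite.span_of_finite ℤ (Set.finite_range _)
  let ρ : H →* Module.End ℤ Λ :=
    { toFun := fun h =>
        { toFun := fun x => ⟨((h : Dˣ) : D) * x, hmul h x x.2⟩
          map_add' := fun x y => Subtype.ext (mul_add _ _ _)
          map_smul' := fun a x => Subtype.ext (mul_smul_comm _ _ _) }
      map_one' := by
        refine LinearMap.ext fun x => Subtype.ext ?_
        change (((1 : H) : Dˣ) : D) * x = x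
        rw [Subgroup.coe_one, Units.val_one, one_mul]
      map_mul' := fun g h => by
        refine LinearMap.ext fun x => Subtype.ext ?_
        change (((g * h : H) : Dˣ) : D) * x = ((g : Dˣ) : D) * (((h : Dˣ) : D) * x)
        rw [Subgroup.coe_mul, Units.val_mul, mul_assoc] }
  have hρ : ∀ h (x : Λ), ((ρ h x : Λ) : D) = ((h : Dˣ) : D) * x := fun _ _ => rfl
  have hfree : ∀ h : H, h ≠ 1 → ∀ x : Λ, ρ h x = x → x = 0 := by
    intro h hh x hx
    have h1 : ((h : Dˣ) : D) * x = x := congrArg Subtype.val hx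
    have h2 : (((h : Dˣ) : D) - 1) * (x : D) = 0 := by rw [sub_mul, h1, one_mul, sub_self]
    rcases mul_eq_zero.1 h2 with h3 | h3
    · exfalso
      apply hh
      apply Subtype.ext
      apply Units.ext
      rw [sub_eq_zero] at h3
      exact h3
    · exact Subtype.ext h3
  obtain ⟨p, hp⟩ := CharP.exists D
  rcases Nat.eq_zero_or_pos p with h0 | hpos
  · subst h0
    haveI : CharZero D := CharP.charP_to_charZero D
    refine FC_of_Z ?_
    refine (?_ : HasZ H)
    have hnorm : NormM ρ := by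
      intro g r hr hgr
      refine LinearMap.ext fun x => ?_
      have hg : g ≠ 1 := by
        rintro rfl
        rw [orderOf_one] at hgr
        exact hr.one_lt.ne hgr
      apply hfree g hg
      have h1 := mul_geom_sum (ρ g) r
      rw [← map_pow, ← hgr, pow_orderOf_eq_one, map_one, sub_self, sub_mul, one_mul, sub_eq_zero] at h1
      have h2 := congrArg (fun f : Module.End ℤ Λ => f x) h1
      rw [← hgr]
      exact h2
    let U := ULift.{u} Λ
    exact ⟨Λ, inferInstance, inferInstance, ρ, hnorm, ⟨1, by simpa using hmem 1⟩, fun d hd => by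
      have h1 : d • (1 : D) = 0 := congrArg Subtype.val hd
      rw [zsmul_eq_mul, mul_one] at h1
      exact_mod_cast h1⟩
  · haveI : Finite Λ := finite_of_tors hpos (fun x => Subtype.ext (by
      change p • (x : D) = 0
      rw [nsmul_eq_mul, CharP.cast_eq_zero, zero_mul]))
    haveI : Nontrivial Λ := ⟨⟨⟨((1 : H) : Dˣ), hmem 1⟩, 0, fun h => by
      have h1 := congrArg Subtype.val h
      exact one_ne_zero (α := D) (by simpa using h1)⟩⟩
    let F : H →* AddMonoid.End Λ :=
      { toFun := fun g => (ρ g).toAddMonoidHom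
        map_one' := by rw [map_one]; rfl
        map_mul' := fun g h => by rw [map_mul]; rfl }
    exact FC_of_act F (fun g hg a ha => hfree g hg a ha)

end CfsgLib.H3Fld
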