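import Mathlib
import Cfsg.Prelude.Def_LocalStructure
import Cfsg.Prelude.Def_Transfer
import Cfsg.Agent.Lib.Core
import Cfsg.Agent.Lib.SZ
import Cfsg.Agent.Lib.Coprime
import Cfsg.Agent.Lib.H3Syl

/-!
# Irreducible actions of cyclic groups of prime order
-/

set_option autoImplicit false

open Polynomial

namespace CfsgLib.H3Irr

section Lin

variable {K V : Type*} [Field K] [AddCommGroup V] [Module K V] [FiniteDimensional K V]

theorem isUnit_of_natDegree {f : K[X]} (hf : f ≠ 0) (h : f.natDegree = 0) : IsUnit f := by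
  rw [eq_C_of_natDegree_eq_zero h] at hf ⊢
  exact isUnit_C.2 (isUnit_iff_ne_zero.2 (fun h0 => hf (by rw [h0, C_0])))

theorem ker_invariant (T : Module.End K V) (c : K[X]) : ∀ w ∈ LinearMap.ker (aeval T c), T w ∈ LinearMap.ker (aeval T c) := by
  intro w hw
  rw [LinearMap.mem_ker] at hw ⊢
  have h1 : aeval T c * T = T * aeval T c := by
    have h2 : aeval T (c * X) = aeval T (X * c) := by rw [mul_comm]
    rwa [map_mul, map_mul, aeval_X] at h2
  have h3 := congrArg (fun f : Module.End K V => f w) h1
  simp only [Module.End.mul_apply] at h3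
  rw [h3, hw, map_zero]

theorem minpoly_irreducible [Nontrivial V] (T : Module.End K V)
    (hirr : ∀ W : Submodule K V, (∀ w ∈ W, T w ∈ W) → W = ⊥ ∨ W = ⊤) : Irreducible (minpoly K T) := by
  have hint : IsIntegral K T := Algebra.IsIntegral.isIntegral T
  have hne : minpoly K T ≠ 0 := minpoly.ne_zero hint
  refine ⟨minpoly.not_isUnit K T, ?_⟩
  intro a b hab
  have ha0 : a ≠ 0 := by rintro rfl; rw [zero_mul] at hab; exact hne hab
  have hb0 : b ≠ 0 := by rintro rfl; rw [mul_zero] at hab; exact hne hab
  have hdeg : (minpoly K T).natDegree = a.natDegree + b.natDegree := by rw [hab, natDegree_mul ha0 hb0]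
  have hker := ker_invariant T
  have hab' : aeval T a * aeval T b = 0 := by rw [← map_mul, ← hab, minpoly.aeval]
  rcases hirr _ (hker b) with h | h
  · right
    have h1 : aeval T a = 0 := by
      have hinj : Function.Injective (aeval T b) := LinearMap.ker_eq_bot.1 h
      have hsurj : Function.Surjective (aeval T b) := LinearMap.injective_iff_surjective.1 hinj
      refine LinearMap.ext fun w => ?_
      obtain ⟨u, rfl⟩ := hsurj w
      exact congrArg (fun f : Module.End K V => f u) hab'
    have h2 := natDegree_le_of_dvd (minpoly.dvd K T h1) ha0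
    exact isUnit_of_natDegree hb0 (by omega)
  · left
    have h1 : aeval T b = 0 := LinearMap.ker_eq_top.1 h
    have h2 := natDegree_le_of_dvd (minpoly.dvd K T h1) hb0
    exact isUnit_of_natDegree ha0 (by omega)

theorem finrank_eq_minpoly [Nontrivial V] (T : Module.End K V)
    (hirr : ∀ W : Submodule K V, (∀ w ∈ W, T w ∈ W) → W = ⊥ ∨ W = ⊤) :
    Module.finrank K V = (minpoly K T).natDegree := by
  have hI := minpoly_irreducible T hirr
  obtain ⟨v, hv⟩ := exists_ne (0 : V)
  let φ : K[X] →ₗ[K] V := (LinearMap.applyₗ v).comp (aeval T).toLinearMap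
  have hφ : ∀ f, φ f = aeval T f v := fun f => rfl
  have hm : (minpoly K T).Monic := minpoly.monic (Algebra.IsIntegral.isIntegral T)
  have hrange : LinearMap.range φ = ⊤ := by
    rcases hirr (LinearMap.range φ) (by
      rintro _ ⟨f, rfl⟩
      refine ⟨X * f, ?_⟩
      rw [hφ, hφ, map_mul, aeval_X, Module.End.mul_apply]) with h | h
    · exfalso
      apply hv
      have h1 : v ∈ LinearMap.range φ := ⟨1, by rw [hφ, map_one]; rfl⟩
      rw [h, Submodule.mem_bot] at h1
      exact h1
    · exact h
  have hker : ∀ f, φ f = 0 → minpoly K T ∣ f := by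
    intro f hf
    apply minpoly.dvd
    rcases hirr _ (ker_invariant T f) with h | h
    · exfalso
      apply hv
      have h1 : v ∈ LinearMap.ker (aeval T f) := hf
      rw [h, Submodule.mem_bot] at h1
      exact h1
    · exact LinearMap.ker_eq_top.1 h
  set n := (minpoly K T).natDegree with hn
  have hinj : Function.Injective (φ.domRestrict (degreeLT K n)) := by
    rw [← LinearMap.ker_eq_bot, LinearMap.ker_eq_bot']
    rintro ⟨f, hf⟩ hf0
    have h1 : minpoly K T ∣ f := hker f hf0
    have h2 : f.degree < (minpoly K T).degree := by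
      rw [mem_degreeLT] at hf
      rwa [degree_eq_natDegree hm.ne_zero, ← hn]
    exact Subtype.ext (eq_zero_of_dvd_of_degree_lt h1 h2)
  have hsurj : Function.Surjective (φ.domRestrict (degreeLT K n)) := by
    intro w
    have hw : w ∈ LinearMap.range φ := hrange ▸ Submodule.mem_top
    obtain ⟨f, rfl⟩ := hw
    refine ⟨⟨f %ₘ minpoly K T, ?_⟩, ?_⟩
    · rw [mem_degreeLT, hn, ← degree_eq_natDegree hm.ne_zero]
      exact degree_modByMonic_lt f hm
    · change φ (f %ₘ minpoly K T) = φ f
      have h1 := modByMonic_add_div f (minpoly K T)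
      conv_rhs => rw [← h1]
      rw [map_add, hφ (minpoly K T * _), map_mul, minpoly.aeval, zero_mul, LinearMap.zero_apply, add_zero]
  have e := LinearEquiv.ofBijective (φ.domRestrict (degreeLT K n)) ⟨hinj, hsurj⟩
  rw [← e.finrank_eq, (degreeLTEquiv K n).finrank_eq, Module.finrank_fin_fun]

end Lin

/-- **Irreducible automorphisms of prime order.** -/
theorem card_of_irreducible {p q : ℕ} [hp : Fact p.Prime] [hq : Fact q.Prime] (hpq : p ≠ q) {V : Type*} [AddCommGroup V]
    [Module (ZMod p) V] [Finite V] [Nontrivial V] (T : Module.End (ZMod p) V) (hT : T ^ q = 1) (hT1 : T ≠ 1)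
    (hirr : ∀ W : Submodule (ZMod p) V, (∀ w ∈ W, T w ∈ W) → W = ⊥ ∨ W = ⊤) :
    minpoly (ZMod p) T ∣ cyclotomic q (ZMod p) ∧ Irreducible (minpoly (ZMod p) T) ∧
      (minpoly (ZMod p) T).natDegree = orderOf (p : ZMod q) ∧ Nat.card V = p ^ orderOf (p : ZMod q) := by
  haveI : FiniteDimensional (ZMod p) V := inferInstance
  have hI := minpoly_irreducible T hirr
  have hf := finrank_eq_minpoly T hirr
  have hdvd : minpoly (ZMod p) T ∣ X ^ q - 1 := by
    apply minpoly.dvd
    rw [map_sub, map_pow, aeval_X, map_one, hT, sub_self]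
  have hdvd2 : minpoly (ZMod p) T ∣ cyclotomic q (ZMod p) := by
    rw [← cyclotomic_prime_mul_X_sub_one (ZMod p) q] at hdvd
    rcases hI.prime.dvd_or_dvd hdvd with h | h
    · exact h
    · exfalso
      apply hT1
      have h1 : X - 1 ≠ (0 : (ZMod p)[X]) := X_sub_C_ne_zero (1 : ZMod p)
      obtain ⟨c, hc⟩ := h
      have h2 : Irreducible (X - 1 : (ZMod p)[X]) := irreducible_X_sub_C (1 : ZMod p)
      have h3 : IsUnit c := (h2.isUnit_or_isUnit hc).resolve_left hI.not_isUnit
      have h4 : aeval T (X - 1 : (ZMod p)[X]) = 0 := by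
        rw [hc, map_mul, minpoly.aeval, zero_mul]
      rw [map_sub, aeval_X, map_one, sub_eq_zero] at h4
      exact h4
  have hcop : p.Coprime q := (Nat.coprime_primes hp.out hq.out).2 hpq
  have hdeg := natDegree_of_dvd_cyclotomic_of_irreducible (K := ZMod p) (f := 1) (p := p) (n := q) (by rw [ZMod.card, pow_one]) hcop hdvd2 hI
  have hord : orderOf (ZMod.unitOfCoprime (p ^ 1) (hcop.pow_left 1)) = orderOf (p : ZMod q) := by
    rw [← orderOf_units, ZMod.coe_unitOfCoprime, pow_one]
  rw [hord] at hdeg
  refine ⟨hdvd2, hI, hdeg, ?_⟩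
  rw [← hdeg, ← hf, Module.natCard_eq_pow_finrank (K := ZMod p), Nat.card_zmod]

/-- multiplicative version -/
theorem card_of_irr {p q : ℕ} [hp : Fact p.Prime] [hq : Fact q.Prime] (hpq : p ≠ q) {V : Type*} [CommGroup V]
    [Finite V] [Nontrivial V] (hV : ∀ v : V, v ^ p = 1) (t : V →* V) (ht : ∀ v, t^[q] v = v) (ht1 : ∃ v, t v ≠ v)
    (hirr : ∀ W : Subgroup V, (∀ w ∈ W, t w ∈ W) → W = ⊥ ∨ W = ⊤) :
    Nat.card V = p ^ orderOf (p : ZMod q) := by
  letI : Module (ZMod p) (Additive V) := AddCommGroup.zmodModule (n := p) (fun x => Additive.toMul.injective (hV _))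
  let T : Module.End (ZMod p) (Additive V) := (MonoidHom.toAdditive t).toZModLinearMap p
  have hTv : ∀ v : Additive V, T v = Additive.ofMul (t v.toMul) := fun v => rfl
  have hTn : ∀ (n : ℕ) (v : Additive V), (T ^ n) v = Additive.ofMul (t^[n] v.toMul) := by
    intro n
    induction n with
    | zero => intro v; rfl
    | succ n ih =>
      intro v
      rw [pow_succ, Module.End.mul_apply, ih, hTv, Function.iterate_succ, Function.comp_apply]
      rfl
  have hTq : T ^ q = 1 := by
    refine LinearMap.ext fun v => ?_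
    rw [hTn, ht]
    rfl
  have hT1 : T ≠ 1 := by
    intro h
    obtain ⟨v, hv⟩ := ht1
    apply hv
    have h1 := congrArg (fun f : Module.End (ZMod p) (Additive V) => f (Additive.ofMul v)) h
    simp only [hTv, Module.End.one_apply] at h1
    exact h1
  have hirr' : ∀ W : Submodule (ZMod p) (Additive V), (∀ w ∈ W, T w ∈ W) → W = ⊥ ∨ W = ⊤ := by
    intro W hW
    let W' : Subgroup V :=
      { carrier := {v | Additive.ofMul v ∈ W}
        mul_mem' := fun {a b} ha hb => W.add_mem ha hb
        one_mem' := W.zero_mem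
        inv_mem' := fun {a} ha => W.neg_mem ha }
    have hW' : ∀ v : V, v ∈ W' ↔ Additive.ofMul v ∈ W := fun v => Iff.rfl
    have h1 := hirr W' (fun w hw => hW (Additive.ofMul w) hw)
    rcases h1 with h | h
    · left
      rw [eq_bot_iff]
      intro w hw
      have h2 : w.toMul ∈ W' := hw
      rw [h, Subgroup.mem_bot] at h2
      exact h2
    · right
      rw [eq_top_iff]
      intro w _
      have h2 : w.toMul ∈ W' := h ▸ Subgroup.mem_top _
      exact h2
  have h := (card_of_irreducible hpq T hTq hT1 hirr').2.2.2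
  rwa [Nat.card_congr (Additive.toMul (α := V))] at h

section Grp

open Subgroup
open scoped IsMulCommutative

variable {G : Type*} [Group G] [Finite G] {p q : ℕ} [hp : Fact p.Prime] [hq : Fact q.Prime]

/-- a nonabelian group with an abelian normal subgroup of prime index: no element outside centralizes the subgroup -/
theorem comm_of_outside (A : Subgroup G) [hAn : A.Normal] (hA : IsMulCommutative A) (hidx : A.index = p) (x : G) (hx : x ∉ A)
    (h : ∀ a ∈ A, x * a = a * x) : ∀ a b : G, a * b = b * a := by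
  have hcen : A ≤ center G := by
    have h1 : A < centralizer (A : Set G) := by
      refine lt_of_le_of_ne (fun a ha b hb => ?_) (fun he => hx ?_)
      · exact congrArg Subtype.val (mul_comm (⟨b, hb⟩ : A) ⟨a, ha⟩)
      · rw [he]
        intro a ha
        exact (h a ha).symm
    have h2 : centralizer (A : Set G) = ⊤ := by
      by_contra hne
      have h3 : (centralizer (A : Set G)).index ∣ p := hidx ▸ index_dvd_of_le h1.le
      rcases (Nat.dvd_prime hp.out).1 h3 with h4 | h4
      · exact hne (index_eq_one.1 h4)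
      · have h5 := relIndex_mul_index h1.le
        rw [h4, hidx] at h5
        have h6 : A.relIndex (centralizer (A : Set G)) = 1 := by
          have := hp.out.pos
          nlinarith
        exact absurd (relIndex_eq_one.1 h6) (not_le_of_gt h1)
    intro a ha
    rw [mem_center_iff]
    intro g
    have h3 : g ∈ centralizer (A : Set G) := h2 ▸ mem_top g
    exact (h3 a ha).symm
  have hcyc : IsCyclic (G ⧸ A) := by
    apply isCyclic_of_prime_card (p := p)
    rw [← hidx]
    rfl
  exact commutative_of_cyclic_center_quotient (QuotientGroup.mk' A) (by rw [QuotientGroup.ker_mk']; exact hcen)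

theorem normal_of_conj (A B : Subgroup G) [hAn : A.Normal] (hA : IsMulCommutative A) (hidx : A.index = p) (x : G) (hx : x ∉ A)
    (hB : B ≤ A) (h : ∀ b ∈ B, x * b * x⁻¹ ∈ B) : B.Normal := by
  have h1 : A < normalizer (B : Set G) := by
    refine lt_of_le_of_ne ?_ ?_
    · intro a ha
      rw [mem_normalizer_iff]
      have h2 : ∀ c ∈ A, a * c * a⁻¹ = c := by
        intro c hc
        have h3 : a * c = c * a := congrArg Subtype.val (mul_comm (⟨a, ha⟩ : A) ⟨c, hc⟩)
        rw [h3, mul_inv_cancel_right]
      intro c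
      constructor
      · intro hc
        rw [h2 c (hB hc)]
        exact hc
      · intro hc
        have h4 : c ∈ A := by
          have h5 := hAn.conj_mem _ (hB hc) a⁻¹
          simpa [mul_assoc] using h5
        rwa [h2 c h4] at hc
    · intro he
      apply hx
      rw [he]
      exact mem_normalizer_fintype h
  have h2 : normalizer (B : Set G) = ⊤ := by
    by_contra hne
    have h3 : (normalizer (B : Set G)).index ∣ p := hidx ▸ index_dvd_of_le h1.le
    rcases (Nat.dvd_prime hp.out).1 h3 with h4 | h4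
    · exact hne (index_eq_one.1 h4)
    · have h5 := relIndex_mul_index h1.le
      rw [h4, hidx] at h5
      have h6 : A.relIndex (normalizer (B : Set G)) = 1 := by
        have := hp.out.pos
        nlinarith
      exact absurd (relIndex_eq_one.1 h6) (not_le_of_gt h1)
  exact normalizer_eq_top_iff.1 h2

theorem card_of_minimal (hpq : q ≠ p) (hna : ¬ IsMulCommutative G) (A : Subgroup G) [hAn : A.Normal]
    (hA : Cfsg.IsElementaryAbelian q A) (hidx : A.index = p)
    (hmin : ∀ B : Subgroup G, B.Normal → B ≤ A → B = ⊥ ∨ B = A) : Nat.card A = q ^ orderOf (q : ZMod p) := by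
  have hAc := hA.1
  have hAt : A ≠ ⊤ := by
    rintro rfl
    rw [index_top] at hidx
    exact hp.out.one_lt.ne hidx
  obtain ⟨x, -, hx⟩ := SetLike.exists_of_lt (lt_top_iff_ne_top.2 hAt)
  have hA1 : A ≠ ⊥ := by
    rintro rfl
    apply hna
    have hc : IsCyclic G := isCyclic_of_prime_card (p := p) (by rw [← hidx, index_bot])
    exact ⟨⟨hc.commGroup.mul_comm⟩⟩
  haveI : Nontrivial A := (nontrivial_iff_ne_bot A).2 hA1
  have hxp : x ^ p ∈ A := hidx ▸ A.pow_index_mem x
  let t : A →* A := (MulAut.conjNormal x : MulAut A).toMonoidHom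
  have htv : ∀ a : A, ((t a : A) : G) = x * a * x⁻¹ := fun a => MulAut.conjNormal_apply x a
  have htn : ∀ (n : ℕ) (a : A), ((t^[n] a : A) : G) = x ^ n * a * (x ^ n)⁻¹ := by
    intro n
    induction n with
    | zero => intro a; simp
    | succ n ih =>
      intro a
      rw [Function.iterate_succ, Function.comp_apply, ih, htv]
      rw [pow_succ]; group
  refine card_of_irr hpq (V := A) (fun v => Subtype.ext (hA.2 v v.2)) t ?_ ?_ ?_
  · intro v
    apply Subtype.ext
    rw [htn]
    have h1 : x ^ p * (v : G) = v * x ^ p := congrArg Subtype.val (mul_comm (⟨x ^ p, hxp⟩ : A) v)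
    rw [h1, mul_inv_cancel_right]
  · by_contra hcon
    push Not at hcon
    apply hna
    have h1 := comm_of_outside A hAc hidx x hx (fun a ha => by
      have h2 := congrArg Subtype.val (hcon ⟨a, ha⟩)
      rw [htv] at h2
      exact mul_inv_eq_iff_eq_mul.1 h2)
    exact ⟨⟨h1⟩⟩
  · intro W hW
    have hW2 : (W.map A.subtype).Normal := normal_of_conj A _ hAc hidx x hx (map_subtype_le W) (by
      rintro _ ⟨b, hb, rfl⟩
      exact ⟨t b, hW b hb, htv b⟩)
    rcases hmin _ hW2 (map_subtype_le W) with h | h
    · left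
      exact (map_eq_bot_iff_of_injective _ A.subtype_injective).1 h
    · right
      apply map_injective A.subtype_injective
      rw [h, ← MonoidHom.range_eq_map, range_subtype]

theorem isPClosed_of_isPGroup {H : Type*} [Group H] (h : IsPGroup p H) : Cfsg.IsPClosed p H := by
  intro P
  have h1 : (P : Subgroup H) = ⊤ := (P.is_maximal' (h.to_subgroup ⊤) le_top).symm
  rw [h1]
  infer_instance

theorem isPClosed_of_not_dvd {H : Type*} [Group H] [Finite H] (h : ¬ p ∣ Nat.card H) : Cfsg.IsPClosed p H := by
  intro P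
  have h1 : (P : Subgroup H) = ⊥ := by
    have h2 := IsPGroup.iff_card.1 P.isPGroup'
    obtain ⟨n, hn⟩ := h2
    rcases Nat.eq_zero_or_pos n with h3 | h3
    · rw [h3, pow_zero] at hn
      exact card_eq_one.1 hn
    · exfalso
      apply h
      refine dvd_trans ?_ (card_subgroup_dvd_card (P : Subgroup H))
      rw [hn]
      exact dvd_pow_self p h3.ne'
  rw [h1]
  infer_instance

/-- S3869 -/
theorem minimal_non_closed (hpq : q ≠ p) (hna : ¬ IsMulCommutative G) (A : Subgroup G) [hAn : A.Normal]
    (hA : Cfsg.IsElementaryAbelian q A) (hidx : A.index = p)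
    (hmin : ∀ B : Subgroup G, B.Normal → B ≤ A → B = ⊥ ∨ B = A) :
    Nat.card A = q ^ orderOf (q : ZMod p) ∧ ¬ Cfsg.IsPClosed p G ∧ (∀ H : Subgroup G, H ≠ ⊤ → Cfsg.IsPClosed p H) ∧
      ∀ (N : Subgroup G) [N.Normal], N ≠ ⊥ → Cfsg.IsPClosed p (G ⧸ N) := by
  have hcA := card_of_minimal hpq hna A hA hidx hmin
  have hAc := hA.1
  have hcop : Nat.Coprime (Nat.card A) p := by
    rw [hcA]
    exact Nat.Coprime.pow_left _ ((Nat.coprime_primes hq.out hp.out).2 hpq)
  have hout : ∀ x : G, x ∉ A → ∃ a ∈ A, x * a ≠ a * x := by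
    intro x hx
    by_contra hcon
    push Not at hcon
    exact hna ⟨⟨comm_of_outside A hAc hidx x hx hcon⟩⟩
  have hcard : Nat.card G = Nat.card A * p := by rw [← hidx, card_mul_index]
  refine ⟨hcA, ?_, ?_, ?_⟩
  · intro hcl
    obtain ⟨P⟩ : Nonempty (Sylow p G) := inferInstance
    haveI := hcl P
    have hPA : (P : Subgroup G) ⊓ A = ⊥ := by
      obtain ⟨n, hn⟩ := IsPGroup.iff_card.1 P.isPGroup'
      apply inf_eq_bot_of_coprime
      rw [hn]
      exact Nat.Coprime.pow_left _ hcop.symm
    have hP1 : (P : Subgroup G) ≠ ⊥ := by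
      intro h
      have h1 := P.dvd_card_of_dvd_card (hcard ▸ Dvd.intro_left _ rfl)
      rw [h, card_bot] at h1
      exact hp.out.one_lt.ne' (Nat.dvd_one.1 h1)
    obtain ⟨x, hxP, hx1⟩ := (P : Subgroup G).bot_or_exists_ne_one.resolve_left hP1
    have hxA : x ∉ A := fun h => hx1 ((mem_bot).1 (hPA ▸ ⟨hxP, h⟩))
    obtain ⟨a, ha, hxa⟩ := hout x hxA
    apply hxa
    have h1 := commute_of_normal_of_disjoint (P : Subgroup G) A inferInstance inferInstance (disjoint_iff.2 hPA) x a hxP ha
    exact h1
  · intro H hH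
    by_cases hHA : H ≤ A
    · apply isPClosed_of_not_dvd
      intro h
      have h1 := h.trans (card_dvd_of_le hHA)
      exact hp.out.one_lt.ne' (Nat.dvd_one.1 (hcop ▸ Nat.dvd_gcd h1 dvd_rfl))
    · obtain ⟨x, hxH, hxA⟩ := SetLike.not_le_iff_exists.1 hHA
      have h1 : (H ⊓ A).Normal := normal_of_conj A _ hAc hidx x hxA inf_le_right (by
        intro b hb
        exact ⟨H.mul_mem (H.mul_mem hxH hb.1) (H.inv_mem hxH), hAn.conj_mem b hb.2 x⟩)
      rcases hmin _ h1 inf_le_right with h2 | h2
      · have h3 : Nat.card H ∣ p := by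
          have h4 : A.relIndex H ∣ A.index := relIndex_dvd_index_of_normal A H
          rw [← inf_relIndex_right, inf_comm, h2, relIndex_bot_left, hidx] at h4
          exact h4
        rcases (Nat.dvd_prime hp.out).1 h3 with h4 | h4
        · apply isPClosed_of_not_dvd
          rw [h4]
          exact hp.out.one_lt.ne' ∘ Nat.dvd_one.1
        · exact isPClosed_of_isPGroup (IsPGroup.of_card (n := 1) (by rw [h4, pow_one]))
      · exfalso
        have h3 : A ≤ H := inf_eq_right.1 h2
        have h4 := relIndex_mul_index h3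
        rw [hidx] at h4
        rcases (Nat.dvd_prime hp.out).1 (Dvd.intro_left _ h4) with h5 | h5
        · exact hH (index_eq_one.1 h5)
        · rw [h5] at h4
          have h6 : A.relIndex H = 1 := by
            have := hp.out.pos
            nlinarith
          exact hHA (relIndex_eq_one.1 h6)
  · intro N hN hN1
    rcases hmin (N ⊓ A) inferInstance inf_le_right with h1 | h1
    · exfalso
      have h2 : ∀ x ∈ N, x ∈ A := by
        intro x hx
        by_contra hxA
        obtain ⟨a, ha, hxa⟩ := hout x hxA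
        exact hxa (commute_of_normal_of_disjoint N A hN hAn (disjoint_iff.2 h1) x a hx ha)
      apply hN1
      rw [← h1]
      exact (inf_eq_left.2 h2).symm
    · have h2 : A ≤ N := inf_eq_right.1 h1
      have h3 : Nat.card (G ⧸ N) ∣ p := by
        have : N.index ∣ A.index := index_dvd_of_le h2
        rw [hidx] at this
        exact this
      rcases (Nat.dvd_prime hp.out).1 h3 with h4 | h4
      · apply isPClosed_of_not_dvd
        rw [h4]
        exact hp.out.one_lt.ne' ∘ Nat.dvd_one.1
      · exact isPClosed_of_isPGroup (IsPGroup.of_card (n := 1) (by rw [h4, pow_one]))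

omit hq in
theorem norm_of_closed {H K : Subgroup G} (hKH : K ≤ H) (hK : IsPGroup p K) (hi : ¬ p ∣ K.relIndex H) (hc : Cfsg.IsPClosed p H) :
    H ≤ normalizer (K : Set G) := by
  have h1 : IsPGroup p (K.subgroupOf H) := hK.comap_subtype
  have h2 := hc (h1.toSylow hi)
  exact (normal_subgroupOf_iff_le_normalizer hKH).1 h2

omit hq in
theorem normal_of_closed {H : Subgroup G} [hHn : H.Normal] (P : Sylow p G) (hPH : (P : Subgroup G) ≤ H) (hc : Cfsg.IsPClosed p H) :
    (P : Subgroup G).Normal := by
  have h1 := hc (P.subtype hPH)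
  haveI h2 : ((P.subtype hPH : Sylow p H) : Subgroup H).Characteristic := Sylow.characteristic_of_normal _ h1
  have h3 : (((P.subtype hPH : Sylow p H) : Subgroup H).map H.subtype).Normal := inferInstance
  have h4 : ((P.subtype hPH : Sylow p H) : Subgroup H).map H.subtype = P := by
    rw [Sylow.coe_subtype, map_subgroupOf_eq_of_le hPH]
  rwa [h4] at h3

omit hq in
theorem normal_sup_of_closed (P : Sylow p G) (N : Subgroup G) [hN : N.Normal] (hc : Cfsg.IsPClosed p (G ⧸ N)) :
    ((P : Subgroup G) ⊔ N).Normal := by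
  have h1 := hc (P.mapSurjective (QuotientGroup.mk'_surjective N))
  rw [Sylow.coe_mapSurjective] at h1
  have h2 := h1.comap (QuotientGroup.mk' N)
  rwa [comap_map_eq, QuotientGroup.ker_mk'] at h2

omit hq in
theorem closed_struct (hnc : ¬ Cfsg.IsPClosed p G) (hsub : ∀ H : Subgroup G, H ≠ ⊤ → Cfsg.IsPClosed p H)
    (hquo : ∀ (N : Subgroup G) [N.Normal], N ≠ ⊥ → Cfsg.IsPClosed p (G ⧸ N)) (hns : ¬ IsSimpleGroup G) :
    ∃ q : ℕ, q.Prime ∧ q ≠ p ∧ Nat.card G = p * q ^ orderOf (q : ZMod p) ∧
      ∃ A : Subgroup G, A.Normal ∧ Nat.card A = q ^ orderOf (q : ZMod p) ∧ Cfsg.IsElementaryAbelian q A ∧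
        ∀ B : Subgroup G, B.Normal → B ≤ A → B = ⊥ ∨ B = A := by
  have hnc' := hnc
  unfold Cfsg.IsPClosed at hnc
  push Not at hnc
  obtain ⟨P, hP⟩ := hnc
  have hna : ¬ IsMulCommutative G := by
    intro h
    apply hP
    refine ⟨fun n hn g => ?_⟩
    rw [mul_comm' g n, mul_inv_cancel_right]
    exact hn
  have hPbot : (P : Subgroup G) ≠ ⊥ := by
    intro h
    apply hP
    rw [h]
    infer_instance
  have hcore : ∀ R : Subgroup G, R.Normal → IsPGroup p R → R = ⊥ := by
    intro R hR hRp
    by_contra hne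
    have h1 := normal_sup_of_closed P R (hquo R hne)
    have h2 : R ≤ P := hRp.le_sylow_of_normal P
    rw [sup_eq_left.2 h2] at h1
    exact hP h1
  have hN : ∀ N : Subgroup G, N.Normal → N ≠ ⊥ → N ≠ ⊤ → ¬ p ∣ Nat.card N ∧ (P : Subgroup G) ⊔ N = ⊤ := by
    intro N hN hN1 hN2
    constructor
    · intro hdvd
      obtain ⟨S⟩ : Nonempty (Sylow p N) := inferInstance
      have h1 := hsub N hN2 S
      haveI h2 := Sylow.characteristic_of_normal S h1
      have h3 : ((S : Subgroup N).map N.subtype).Normal := inferInstance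
      have h4 := hcore _ h3 (S.isPGroup'.map _)
      have h5 := (map_eq_bot_iff_of_injective _ N.subtype_injective).1 h4
      have h6 := S.dvd_card_of_dvd_card hdvd
      rw [h5, card_bot] at h6
      exact hp.out.one_lt.ne' (Nat.dvd_one.1 h6)
    · by_contra hne
      haveI := normal_sup_of_closed P N (hquo N hN1)
      exact hP (normal_of_closed P le_sup_left (hsub _ hne))
  have hGt : ¬ (∀ N : Subgroup G, N.Normal → N = ⊥ ∨ N = ⊤) := by
    intro h
    apply hns
    haveI : Nontrivial G := by
      by_contra hnt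
      rw [not_nontrivial_iff_subsingleton] at hnt
      exact hPbot (Subsingleton.elim _ _)
    exact { eq_bot_or_eq_top_of_normal := h }
  push Not at hGt
  obtain ⟨N, hNn, hN1, hN2⟩ := hGt
  obtain ⟨hpN, hPN⟩ := hN N hNn hN1 hN2
  obtain ⟨k, hk⟩ := IsPGroup.iff_card.1 P.isPGroup'
  have hk0 : k ≠ 0 := by
    rintro rfl
    rw [pow_zero] at hk
    exact hPbot (card_eq_one.1 hk)
  have hcop : Nat.Coprime (Nat.card P) (Nat.card N) := by
    rw [hk]
    exact Nat.Coprime.pow_left _ ((Nat.Prime.coprime_iff_not_dvd hp.out).2 hpN)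
  have hcardN : ∀ M : Subgroup G, M.Normal → M ≠ ⊥ → M ≠ ⊤ → Nat.card M * Nat.card P = Nat.card G := by
    intro M hM hM1 hM2
    obtain ⟨h1, h2⟩ := hN M hM hM1 hM2
    have h3 : Nat.Coprime (Nat.card P) (Nat.card M) := by
      rw [hk]
      exact Nat.Coprime.pow_left _ ((Nat.Prime.coprime_iff_not_dvd hp.out).2 h1)
    have h4 := CfsgLib.Coprime.card_sup (A := (P : Subgroup G)) (K := M) le_normalizer_of_normal h3
    rw [sup_comm, h2, card_top] at h4
    exact h4.symm
  have hGcard := hcardN N hNn hN1 hN2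
  have hminN : ∀ B : Subgroup G, B.Normal → B ≤ N → B = ⊥ ∨ B = N := by
    intro B hB hBN
    by_cases h1 : B = ⊥
    · exact Or.inl h1
    · right
      have h2 := hcardN B hB h1 (fun h => hN2 (top_le_iff.1 (h ▸ hBN)))
      have h3 : Nat.card B = Nat.card N := by
        rw [← hGcard] at h2
        exact Nat.eq_of_mul_eq_mul_right Nat.card_pos h2
      exact SetLike.coe_injective (Set.eq_of_subset_of_ncard_le hBN (by
        change Nat.card N ≤ Nat.card B
        exact h3.ge) (Set.toFinite _))
  -- the Sylow subgroup has order p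
  have hcardP : Nat.card P = p := by
    by_contra hne
    haveI : Nontrivial (P : Subgroup G) := (nontrivial_iff_ne_bot _).2 hPbot
    haveI := P.isPGroup'.center_nontrivial
    obtain ⟨j, hj⟩ := IsPGroup.iff_card.1 (P.isPGroup'.to_subgroup (center (P : Subgroup G)))
    have hj0 : j ≠ 0 := by
      rintro rfl
      rw [pow_zero] at hj
      have := (Finite.one_lt_card (α := center (P : Subgroup G)))
      omega
    obtain ⟨z, hz⟩ := exists_prime_orderOf_dvd_card' (G := center (P : Subgroup G)) p (hj ▸ dvd_pow_self p hj0)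
    set z' : G := ((z : (P : Subgroup G)) : G) with hz'
    have hzo : orderOf z' = p := by
      rw [hz', orderOf_coe, orderOf_coe, hz]
    have hzP : zpowers z' ≤ P := zpowers_le.2 (z : (P : Subgroup G)).2
    have hzc : Nat.card (zpowers z') = p := by rw [Nat.card_zpowers, hzo]
    have hzp : IsPGroup p (zpowers z') := IsPGroup.of_card (n := 1) (by rw [hzc, pow_one])
    have hcz : Nat.Coprime (Nat.card (zpowers z')) (Nat.card N) := by
      rw [hzc]; exact (Nat.Prime.coprime_iff_not_dvd hp.out).2 hpN
    have h1 : zpowers z' ⊔ N ≠ ⊤ := by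
      intro h
      have h4 := CfsgLib.Coprime.card_sup (A := zpowers z') (K := N) le_normalizer_of_normal hcz
      rw [sup_comm, h, card_top, ← hGcard, hzc] at h4
      exact hne (Nat.eq_of_mul_eq_mul_left Nat.card_pos h4)
    have h2 : zpowers z' ⊔ N ≤ normalizer ((zpowers z' : Subgroup G) : Set G) := by
      refine norm_of_closed le_sup_left hzp ?_ (hsub _ h1)
      rw [CfsgLib.H3Syl.relIndex_sup_norm le_normalizer_of_normal]
      intro h3
      exact hpN (h3.trans (relIndex_dvd_card _ _))
    have h3 : (P : Subgroup G) ≤ normalizer ((zpowers z' : Subgroup G) : Set G) := by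
      intro g hg
      have h4 : z' * g = g * z' := by
        have h5 := (mem_center_iff.1 z.2 ⟨g, hg⟩)
        exact (congrArg Subtype.val h5).symm
      refine (centralizer_le_normalizer (zpowers z' : Set G)) ?_
      rw [mem_centralizer_iff]
      intro y hy
      obtain ⟨i, rfl⟩ := mem_zpowers_iff.1 hy
      exact (Commute.zpow_left h4 i)
    have h4 : normalizer ((zpowers z' : Subgroup G) : Set G) = ⊤ := by
      rw [eq_top_iff, ← hPN]
      exact sup_le h3 (le_sup_right.trans h2)
    have h5 := hcore _ (normalizer_eq_top_iff.1 h4) hzp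
    rw [h5, card_bot] at hzc
    exact hp.out.one_lt.ne hzc
  -- choose the prime
  have hn1 : (normalizer ((P : Subgroup G) : Set G)).index ≠ 1 := by
    intro h
    exact hP (normalizer_eq_top_iff.1 (index_eq_one.1 h))
  obtain ⟨q, hq, hqd⟩ := Nat.exists_prime_and_dvd hn1
  haveI : Fact q.Prime := ⟨hq⟩
  have hqN : q ∣ Nat.card N := by
    have h1 : (normalizer ((P : Subgroup G) : Set G)).index ∣ (P : Subgroup G).index := index_dvd_of_le le_normalizer
    have h2 : (P : Subgroup G).index = Nat.card N := by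
      have h3 := card_mul_index (P : Subgroup G)
      rw [← hGcard, mul_comm] at h3
      exact Nat.eq_of_mul_eq_mul_right Nat.card_pos h3
    exact h2 ▸ hqd.trans h1
  have hqp : q ≠ p := fun h => hpN (h ▸ hqN)
  have hact : CfsgLib.Coprime.CopAct (P : Subgroup G) N := ⟨le_normalizer_of_normal, hcop, Or.inl (by
    haveI := P.isPGroup'.isNilpotent
    infer_instance)⟩
  obtain ⟨R, hR, hPR⟩ := hact.exists_isSyl q
  have hRc : Nat.card R = q ^ (Nat.card G).factorization q := by
    rw [hR.2, ← hGcard, Nat.factorization_mul Nat.card_pos.ne' Nat.card_pos.ne', Finsupp.add_apply]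
    have h1 : (Nat.card P).factorization q = 0 := by
      rw [hcardP]
      exact Nat.factorization_eq_zero_of_not_dvd (fun h => hqp ((Nat.prime_dvd_prime_iff_eq hq hp.out).1 h))
    rw [h1, add_zero]
  have hRN : R = N := by
    have h1 : (P : Subgroup G) ⊔ R = ⊤ := by
      by_contra hne
      have h2 : (P : Subgroup G) ⊔ R ≤ normalizer ((P : Subgroup G) : Set G) := by
        refine norm_of_closed le_sup_left P.isPGroup' ?_ (hsub _ hne)
        rw [CfsgLib.H3Syl.relIndex_sup_norm hPR]
        intro h3
        have h4 := h3.trans (relIndex_dvd_card (P : Subgroup G) R)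
        exact hpN (h4.trans (card_dvd_of_le hR.1))
      have h3 : R ≤ normalizer ((P : Subgroup G) : Set G) := le_sup_right.trans h2
      have h4 : Nat.card R ∣ Nat.card (normalizer ((P : Subgroup G) : Set G)) := card_dvd_of_le h3
      have h5 := card_mul_index (normalizer ((P : Subgroup G) : Set G))
      have h6 : q ^ ((Nat.card G).factorization q + 1) ∣ Nat.card G := by
        rw [pow_succ, ← hRc]
        exact (mul_dvd_mul h4 hqd).trans (dvd_of_eq h5)
      exact Nat.pow_succ_factorization_not_dvd Nat.card_pos.ne' hq h6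
    have h2 : Nat.Coprime (Nat.card P) (Nat.card R) := hcop.coprime_dvd_right (card_dvd_of_le hR.1)
    have h4 := CfsgLib.Coprime.card_sup (A := (P : Subgroup G)) (K := R) hPR h2
    rw [sup_comm, h1, card_top, ← hGcard] at h4
    have h3 : Nat.card R = Nat.card N := (Nat.eq_of_mul_eq_mul_right Nat.card_pos h4).symm
    exact SetLike.coe_injective (Set.eq_of_subset_of_ncard_le hR.1 (by
        change Nat.card N ≤ Nat.card R
        exact h3.ge) (Set.toFinite _))
  rw [hRN] at hRc
  have hNq : IsPGroup q N := IsPGroup.of_card hRc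
  have hNs : Group.IsSolvable N := by
    haveI := hNq.isNilpotent
    infer_instance
  obtain ⟨M, hMn, hMN, hM1, -, hMc, r, hr, hMr⟩ := CfsgLib.SZ.exists_minimal_normal_le N hNs hN1
  have hMN' : M = N := (hminN M hMn hMN).resolve_left hM1
  rw [hMN'] at hMc hMr
  have hrq : r = q := by
    obtain ⟨z, hz⟩ := exists_prime_orderOf_dvd_card' (G := N) q hqN
    have h1 : (z : G) ^ r = 1 := hMr z z.2
    have h2 := orderOf_dvd_of_pow_eq_one h1
    rw [orderOf_coe, hz] at h2
    exact ((Nat.prime_dvd_prime_iff_eq hq hr).1 h2).symm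
  rw [hrq] at hMr
  have hidx : N.index = p := by
    have h3 := card_mul_index N
    rw [← hGcard, hcardP] at h3
    exact Nat.eq_of_mul_eq_mul_left Nat.card_pos h3
  have hfin := card_of_minimal (p := p) (q := q) hqp hna N ⟨hMc, hMr⟩ hidx hminN
  refine ⟨q, hq, hqp, ?_, N, hNn, hfin, ⟨hMc, hMr⟩, hminN⟩
  rw [← hGcard, hcardP, hfin, mul_comm]

end Grp

end CfsgLib.H3Irr
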