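import Mathlib
import Cfsg.Agent.Lib.BlockPrin
import Cfsg.Agent.Lib.BlockV4
import Cfsg.Agent.Lib.BlockDefect
import Cfsg.Agent.Lib.CharBasic3
import Cfsg.Agent.Lib.H3Misc
import Cfsg.Agent.Lib.Core

/-! Kazarin's theorem: the normal closure of an element with prime power class size is solvable (helper3). -/

open scoped ComplexConjugate

set_option linter.unusedSectionVars false
set_option linter.unusedVariables false

namespace CfsgLib.H3Kaz

open Cfsg CfsgLib.CharBasic CfsgLib.Block

universe u

variable {G : Type u} [Group G] [Fintype G]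

theorem linear_of_principal {p q : ℕ} (hp : p.Prime) {M : Ideal AlgInt} (hM : IsPModular q M) (hpq : p ≠ q) {x : G} {a : ℕ}
    (hx : (Subgroup.centralizer ({x} : Set G)).index = p ^ a) (hG : Subgroup.normalClosure ({x} : Set G) = ⊤)
    {χ : IrrCharacter G} (hχ : χ ∈ principalBlock M G) (hd : ¬ p ∣ charDegree (χ : G → ℂ)) : (χ : G → ℂ) 1 = 1 := by
  have hc := irr_isCharacter χ
  have h1 := one_eq_charDegree hc
  have hcop : Nat.Coprime (charDegree (χ : G → ℂ)) (Subgroup.centralizer ({x} : Set G)).index := by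
    rw [hx]
    exact Nat.Coprime.pow_right a ((Nat.Prime.coprime_iff_not_dvd hp).mpr hd).symm
  have hxc : ‖(χ : G → ℂ) x‖ = ‖(χ : G → ℂ) 1‖ := by
    rcases IsIrrCharacter.zero_or_norm_eq_of_coprime χ.2 h1 x hcop with h0 | h0
    · exfalso
      have h2 : MemLocalIdeal M (centralChar (fun _ : G => (1 : ℂ)) x - centralChar (χ : G → ℂ) x) := hχ x
      rw [centralChar, centralChar, h0, mul_zero, zero_div, sub_zero, mul_one, div_one, hx, locIdeal_nat_iff hM] at h2
      have h3 := hM.1.dvd_of_dvd_pow h2
      exact hpq ((Nat.prime_dvd_prime_iff_eq hM.1 hp).mp h3).symm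
    · exact h0
  have htop : charCenter hc = ⊤ := by
    have hN := charCenter_normal hc
    rw [eq_top_iff, ← hG]
    exact Subgroup.normalClosure_le_normal (Set.singleton_subset_iff.mpr hxc)
  have h2 := IsIrrCharacter.sum_norm_sq χ.2
  have h3 : ∀ g : G, (χ : G → ℂ) g * conj ((χ : G → ℂ) g) = ((charDegree (χ : G → ℂ) : ℂ)) ^ 2 := by
    intro g
    have h4 : g ∈ charCenter hc := by rw [htop]; trivial
    have h5 := (mem_charCenter hc).mp h4
    rw [Complex.mul_conj, Complex.normSq_eq_norm_sq, h5, h1]
    simp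
  rw [Finset.sum_congr rfl (fun g _ => h3 g), Finset.sum_const, Finset.card_univ, nsmul_eq_mul, Nat.card_eq_fintype_card] at h2
  have h4 : (Fintype.card G : ℂ) ≠ 0 := by exact_mod_cast Fintype.card_ne_zero
  have h5 : ((charDegree (χ : G → ℂ) : ℂ)) ^ 2 = 1 := by
    have := mul_left_cancel₀ h4 (h2.trans (mul_one _).symm)
    exact this
  have h6 : (charDegree (χ : G → ℂ)) ^ 2 = 1 := by exact_mod_cast h5
  have h7 : charDegree (χ : G → ℂ) = 1 := by
    rcases Nat.pow_eq_one.mp h6 with h | h
    · exact h
    · omega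
  rw [h1, h7, Nat.cast_one]

/-- roots of unity of order prime to `q` congruent to `1` are `1` -/
theorem eq_one_of_congr {q : ℕ} {M : Ideal AlgInt} (hM : IsPModular q M) {ζ : ℂ} {m : ℕ} (hm : ¬ q ∣ m) (hζ : ζ ^ m = 1)
    (h : MemLocalIdeal M (ζ - 1)) : ζ = 1 := by
  by_contra hne
  have hm0 : m ≠ 0 := by
    rintro rfl
    exact hm (dvd_zero q)
  have hint : IsIntegral ℤ ζ := by
    have : IsIntegral ℤ (ζ ^ m) := by rw [hζ]; exact isIntegral_one
    exact IsIntegral.of_pow (Nat.pos_of_ne_zero hm0) this
  have hζr : ζ ∈ locRing hM := isIntegral_mem_locRing hM hint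
  have h1 : ∑ i ∈ Finset.range m, ζ ^ i = 0 := by
    have h2 := mul_geom_sum ζ m
    rw [hζ, sub_self] at h2
    rcases mul_eq_zero.mp h2 with h3 | h3
    · exact absurd (sub_eq_zero.mp h3) hne
    · exact h3
  have h2 : MemLocalIdeal M (∑ i ∈ Finset.range m, (ζ ^ i - 1)) := by
    apply locIdeal_sum hM
    intro i _
    rw [← geom_sum_mul ζ i]
    exact locIdeal_mul_left hM ((locRing hM).sum_mem (fun j _ => (locRing hM).pow_mem hζr j)) h
  rw [Finset.sum_sub_distrib, h1, Finset.sum_const, Finset.card_range, nsmul_eq_mul, mul_one, zero_sub] at h2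
  have h3 := locIdeal_neg h2
  rw [neg_neg, locIdeal_nat_iff hM] at h3
  exact hm h3

/-- linear characters in the principal block are trivial on the `q'`-part of `x`. -/
theorem trivial_on_part {p q : ℕ} (hp : p.Prime) {M : Ideal AlgInt} (hM : IsPModular q M) (hpq : p ≠ q) {x : G} {a : ℕ}
    (hx : (Subgroup.centralizer ({x} : Set G)).index = p ^ a) {z : G} (hz : z ∈ Subgroup.zpowers x) (hzo : ¬ q ∣ orderOf z)
    {χ : IrrCharacter G} (hχ : χ ∈ principalBlock M G) (h1 : (χ : G → ℂ) 1 = 1) : (χ : G → ℂ) z = 1 := by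
  obtain ⟨lam, hlam⟩ := IsCharacter.exists_linear (irr_isCharacter χ) h1
  have h2 : MemLocalIdeal M (centralChar (fun _ : G => (1 : ℂ)) z - centralChar (χ : G → ℂ) z) := hχ z
  have hle : Subgroup.centralizer ({x} : Set G) ≤ Subgroup.centralizer ({z} : Set G) := by
    intro g hg
    rw [Subgroup.mem_centralizer_singleton_iff] at hg ⊢
    obtain ⟨k, rfl⟩ := Subgroup.mem_zpowers_iff.mp hz
    exact ((show Commute g x from hg).zpow_right k).eq
  have hdvd : (Subgroup.centralizer ({z} : Set G)).index ∣ p ^ a := by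
    rw [← hx]
    exact Subgroup.index_dvd_of_le hle
  have hq : ¬ q ∣ (Subgroup.centralizer ({z} : Set G)).index := by
    intro h
    have h3 := hM.1.dvd_of_dvd_pow (h.trans hdvd)
    exact hpq ((Nat.prime_dvd_prime_iff_eq hM.1 hp).mp h3).symm
  rw [centralChar, centralChar, h1, div_one, mul_one, div_one] at h2
  have h3 : MemLocalIdeal M ((χ : G → ℂ) z - 1) := by
    have h4 : (((Subgroup.centralizer ({z} : Set G)).index : ℕ) : ℂ) ≠ 0 := by
      have : (Subgroup.centralizer ({z} : Set G)).index ≠ 0 := Subgroup.index_ne_zero_of_finite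
      exact_mod_cast this
    have h5 : (χ : G → ℂ) z - 1 = (-(((Subgroup.centralizer ({z} : Set G)).index : ℕ) : ℂ)⁻¹) *
        (((Subgroup.centralizer ({z} : Set G)).index : ℂ) - ((Subgroup.centralizer ({z} : Set G)).index : ℂ) * (χ : G → ℂ) z) := by
      field_simp
      ring
    rw [h5]
    exact locIdeal_mul_left hM ((locRing hM).neg_mem (inv_nat_mem_locRing hM hq)) h2
  apply eq_one_of_congr hM hzo _ h3
  rw [hlam, ← Units.val_pow_eq_pow_val, ← map_pow, pow_orderOf_eq_one, map_one, Units.val_one]

/-- If `G` is the normal closure of `x` and `x` has a class of `p`-power size then `G'` is a `p`-group. -/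
theorem commutator_pgroup {p : ℕ} (hp : p.Prime) {x : G} {a : ℕ}
    (hx : (Subgroup.centralizer ({x} : Set G)).index = p ^ a) (hG : Subgroup.normalClosure ({x} : Set G) = ⊤) :
    IsPGroup p (commutator G) := by
  classical
  by_contra hnp
  obtain ⟨q, hq, hqp, hqd⟩ : ∃ q : ℕ, q.Prime ∧ q ≠ p ∧ q ∣ Nat.card (commutator G) := by
    by_contra hcon
    push Not at hcon
    apply hnp
    apply IsPGroup.of_card
    exact Nat.eq_prime_pow_of_unique_prime_dvd Nat.card_pos.ne' (fun {q} hq hd => by
      by_contra hne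
      exact hcon q hq hne hd)
  haveI : Fact q.Prime := ⟨hq⟩
  obtain ⟨y, hy⟩ := exists_prime_orderOf_dvd_card' q hqd
  have hyo : orderOf (y : G) = q := by rw [Subgroup.orderOf_coe]; exact hy
  obtain ⟨M, hM⟩ := exists_isPModular hq
  -- the `q'`-part of `x`
  obtain ⟨m, hm, hxm⟩ := exists_eq_pow_factorization_mul hq (orderOf_pos x).ne'
  set k := (orderOf x).factorization q with hk
  set z := x ^ (q ^ k) with hz
  have hzo : orderOf z = m := by
    rw [hz, orderOf_pow_of_dvd (pow_ne_zero _ hq.ne_zero) ⟨m, hxm⟩, hxm]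
    exact Nat.mul_div_cancel_left _ (pow_pos hq.pos _)
  set K : Subgroup G := commutator G ⊔ Subgroup.zpowers z with hK
  have hcK : commutator G ≤ K := le_sup_left
  have hzK : z ∈ K := (le_sup_right : Subgroup.zpowers z ≤ K) (Subgroup.mem_zpowers z)
  haveI hKn : K.Normal := by
    constructor
    intro n hn g
    have h1 : g * n * g⁻¹ * n⁻¹ ∈ K := hcK (by
      rw [commutator_def]
      exact Subgroup.commutator_mem_commutator (Subgroup.mem_top g) (Subgroup.mem_top n))
    have h2 := K.mul_mem h1 hn
    rwa [inv_mul_cancel_right] at h2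
  have hcomm : ∀ u v : G ⧸ K, u * v = v * u := by
    intro u v
    obtain ⟨g, rfl⟩ := QuotientGroup.mk'_surjective K u
    obtain ⟨h, rfl⟩ := QuotientGroup.mk'_surjective K v
    rw [← commutatorElement_eq_one_iff_mul_comm, ← map_commutatorElement, ← MonoidHom.mem_ker, QuotientGroup.ker_mk']
    apply hcK
    rw [commutator_def]
    exact Subgroup.commutator_mem_commutator (Subgroup.mem_top g) (Subgroup.mem_top h)
  have hpG : IsPGroup q (G ⧸ K) := by
    letI : CommGroup (G ⧸ K) := { (inferInstance : Group (G ⧸ K)) with mul_comm := hcomm }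
    set H := ((powMonoidHom (q ^ k) : G ⧸ K →* G ⧸ K).comp (QuotientGroup.mk' K)).ker with hH
    have hxH : x ∈ H := by
      rw [hH, MonoidHom.mem_ker, MonoidHom.comp_apply, powMonoidHom_apply, ← map_pow, ← MonoidHom.mem_ker, QuotientGroup.ker_mk']
      exact hzK
    have hHt : H = ⊤ := by
      rw [eq_top_iff, ← hG]
      exact Subgroup.normalClosure_le_normal (Set.singleton_subset_iff.mpr hxH)
    intro u
    obtain ⟨g, rfl⟩ := QuotientGroup.mk'_surjective K u
    refine ⟨k, ?_⟩
    have h1 : g ∈ H := by rw [hHt]; trivial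
    rw [hH, MonoidHom.mem_ker, MonoidHom.comp_apply, powMonoidHom_apply] at h1
    exact h1
  obtain ⟨j, hj⟩ := IsPGroup.iff_card.mp hpG
  have hKi : K.index = q ^ j := hj
  have hyK : (y : G) ∈ K := hcK y.2
  have hsum := colSum_eq_zero hM (isPBlock_principalBlock (G := G)) (x := (1 : G)) (y := (y : G))
    (by rw [orderOf_one]; exact hq.one_lt.ne' ∘ Nat.dvd_one.mp) (by rw [hyo])
  rw [colSum] at hsum
  -- compare with the sum of squares
  have hterm : ∀ χ : IrrCharacter G, ∃ c : ℂ, IsIntegral ℤ c ∧
      (if χ ∈ principalBlock M G then (χ : G → ℂ) 1 * conj ((χ : G → ℂ) (y : G)) else 0) =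
        (if (∀ n ∈ K, (χ : G → ℂ) n = (χ : G → ℂ) 1) then (χ : G → ℂ) 1 ^ 2 else 0) + (p : ℂ) * c := by
    intro χ
    by_cases h1 : ∀ n ∈ K, (χ : G → ℂ) n = (χ : G → ℂ) 1
    · refine ⟨0, isIntegral_zero, ?_⟩
      rw [if_pos (mem_principal_of_ker hM K hKi h1), if_pos h1, h1 _ hyK, mul_zero, add_zero,
        one_eq_charDegree (irr_isCharacter χ), Complex.conj_natCast, pow_two]
    · rw [if_neg h1]
      by_cases h2 : χ ∈ principalBlock M G
      · rw [if_pos h2]
        have h3 : p ∣ charDegree (χ : G → ℂ) := by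
          by_contra h3
          apply h1
          have h4 := linear_of_principal hp hM hqp.symm hx hG h2 h3
          have h5 := trivial_on_part hp hM hqp.symm hx (Subgroup.npow_mem_zpowers x (q ^ k)) (by rw [← hz, hzo]; exact hm) h2 h4
          obtain ⟨lam, hlam⟩ := IsCharacter.exists_linear (irr_isCharacter χ) h4
          have h6 : K ≤ lam.ker := by
            rw [hK, sup_le_iff]
            constructor
            · exact Abelianization.commutator_subset_ker lam
            · rw [Subgroup.zpowers_le, MonoidHom.mem_ker]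
              apply Units.ext
              rw [← hlam, Units.val_one]
              exact h5
          intro n hn
          rw [hlam, hlam, MonoidHom.mem_ker.mp (h6 hn), map_one]
        obtain ⟨d, hd⟩ := h3
        refine ⟨(d : ℂ) * conj ((χ : G → ℂ) (y : G)), ?_, ?_⟩
        · apply IsIntegral.mul (isIntegral_natCast d)
          have h4 : conj ((χ : G → ℂ) (y : G)) = (χ : G → ℂ) (y : G)⁻¹ := (IsCharacter.inv_apply (irr_isCharacter χ) _).symm
          rw [h4]
          exact IsCharacter.isIntegral (irr_isCharacter χ) _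
        · rw [one_eq_charDegree (irr_isCharacter χ), hd]
          push_cast
          ring
      · refine ⟨0, isIntegral_zero, ?_⟩
        rw [if_neg h2, mul_zero, add_zero]
  choose c hc1 hc2 using hterm
  rw [Finset.sum_congr rfl (fun χ _ => hc2 χ), Finset.sum_add_distrib, ← Finset.mul_sum] at hsum
  have hsq := sum_sq_infl K
  rw [hKi] at hsq
  rw [hsq] at hsum
  have hint : IsIntegral ℤ (((q ^ j : ℕ) : ℂ) / (p : ℕ)) := by
    have hp0 : (p : ℂ) ≠ 0 := by exact_mod_cast hp.ne_zero
    have h1 : ((q ^ j : ℕ) : ℂ) / (p : ℕ) = - ∑ χ, c χ := by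
      rw [div_eq_iff hp0]
      linear_combination hsum
    rw [h1]
    exact (IsIntegral.sum _ (fun χ _ => hc1 χ)).neg
  have h1 := dvd_of_isIntegral_div hp.ne_zero hint
  have h2 := hp.dvd_of_dvd_pow h1
  exact hqp ((Nat.prime_dvd_prime_iff_eq hp hq).mp h2).symm

omit [Fintype G] in
theorem solvable_sup [Finite G] (A B : Subgroup G) [A.Normal] (hA : Group.IsSolvable A) (hB : Group.IsSolvable B) :
    Group.IsSolvable (A ⊔ B : Subgroup G) := by
  have h1 : Group.IsSolvable (B.map (QuotientGroup.mk' A)) := by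
    have : Function.Surjective ((QuotientGroup.mk' A).subgroupMap B) := (QuotientGroup.mk' A).subgroupMap_surjective B
    exact Group.isSolvable_of_surjective this
  have h2 : (A ⊔ B : Subgroup G).map (QuotientGroup.mk' A) = B.map (QuotientGroup.mk' A) := by
    rw [Subgroup.map_sup]
    have h3 : A.map (QuotientGroup.mk' A) = ⊥ := by
      rw [Subgroup.map_eq_bot_iff, QuotientGroup.ker_mk']
    rw [h3, bot_sup_eq]
  rw [← h2] at h1
  apply Group.isSolvable_of_ker_le_range (Subgroup.inclusion (le_sup_left : A ≤ A ⊔ B)) ((QuotientGroup.mk' A).subgroupMap (A ⊔ B))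
  intro g hg
  rw [MonoidHom.mem_ker] at hg
  have h4 : QuotientGroup.mk' A (g : G) = 1 := congrArg Subtype.val hg
  rw [← MonoidHom.mem_ker, QuotientGroup.ker_mk'] at h4
  exact ⟨⟨g, h4⟩, rfl⟩

omit [Fintype G] in
/-- **Kazarin**: if the class of `x` has `p`-power size then the normal closure of `x` is solvable. -/
theorem kazarin_aux {p : ℕ} (hp : p.Prime) : ∀ (n : ℕ) (G : Type u) [Group G] [Finite G] (x : G) (a : ℕ), Nat.card G ≤ n →
    (Subgroup.centralizer ({x} : Set G)).index = p ^ a → Group.IsSolvable (Subgroup.normalClosure ({x} : Set G)) := by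
  intro n
  induction n with
  | zero =>
    intro G _ _ x a h
    have : 0 < Nat.card G := Nat.card_pos
    omega
  | succ n ih =>
    intro G _ _ x a hn hx
    haveI : Fintype G := Fintype.ofFinite G
    haveI : Fact p.Prime := ⟨hp⟩
    by_cases hG : Subgroup.normalClosure ({x} : Set G) = ⊤
    · have h1 := commutator_pgroup hp hx hG
      have h2 := h1.isNilpotent
      have h3 : Group.IsSolvable (commutator G) := inferInstance
      have h4 : Group.IsSolvable G := by
        apply Group.isSolvable_of_ker_le_range (commutator G).subtype (Abelianization.of (G := G))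
        rw [Abelianization.ker_of, Subgroup.range_subtype]
      rw [hG]
      infer_instance
    · set N := Subgroup.normalClosure ({x} : Set G) with hN
      have hxN : x ∈ N := Subgroup.subset_normalClosure rfl
      have hNc : Nat.card N ≤ n := by
        have h1 : Nat.card N < Nat.card G := by
          rw [← Subgroup.card_top (G := G)]
          have h2 : N < ⊤ := lt_top_iff_ne_top.mpr hG
          exact Set.Finite.card_lt_card (Set.toFinite _) h2
        omega
      have hcen : Subgroup.centralizer ({(⟨x, hxN⟩ : N)} : Set N) = (Subgroup.centralizer ({x} : Set G)).subgroupOf N := by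
        ext g
        rw [Subgroup.mem_subgroupOf, Subgroup.mem_centralizer_singleton_iff, Subgroup.mem_centralizer_singleton_iff]
        exact ⟨fun h => congrArg Subtype.val h, fun h => Subtype.ext h⟩
      obtain ⟨b, -, hb⟩ : ∃ b, b ≤ a ∧ (Subgroup.centralizer ({(⟨x, hxN⟩ : N)} : Set N)).index = p ^ b := by
        apply (Nat.dvd_prime_pow hp).mp
        rw [hcen, ← hx]
        exact CfsgLib.H3Misc.relIndex_dvd_right _ N
      have h1 := ih N ⟨x, hxN⟩ b hNc hb
      -- the solvable radical of `N`
      set R : Subgroup N := sSup {A : Subgroup N | A.Normal ∧ Group.IsSolvable A} with hR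
      have hRP : R.Normal ∧ Group.IsSolvable R := by
        apply CfsgLib.Core.pred_sSup (G := N) (fun A => A.Normal ∧ Group.IsSolvable A)
        · exact ⟨inferInstance, inferInstance⟩
        · rintro A B ⟨hA1, hA2⟩ ⟨hB1, hB2⟩
          exact ⟨inferInstance, solvable_sup A B hA2 hB2⟩
      have hxR : (⟨x, hxN⟩ : N) ∈ R := by
        have : Subgroup.normalClosure ({(⟨x, hxN⟩ : N)} : Set N) ≤ R := le_sSup ⟨inferInstance, h1⟩
        exact this (Subgroup.subset_normalClosure rfl)
      have hRc : R.Characteristic := by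
        rw [Subgroup.characteristic_iff_map_le]
        intro φ
        apply le_sSup
        refine ⟨Subgroup.Normal.map hRP.1 _ φ.surjective, ?_⟩
        have := hRP.2
        exact Group.isSolvable_of_surjective (φ.toMonoidHom.subgroupMap_surjective R)
      have hRn : (R.map N.subtype).Normal := by
        haveI := hRc
        exact ConjAct.normal_of_characteristic_of_normal
      have hle : N ≤ R.map N.subtype := by
        have : Subgroup.normalClosure ({x} : Set G) ≤ R.map N.subtype :=
          Subgroup.normalClosure_le_normal (Set.singleton_subset_iff.mpr ⟨⟨x, hxN⟩, hxR, rfl⟩)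
        exact this
      have hRt : R = ⊤ := by
        rw [eq_top_iff]
        rintro ⟨g, hg⟩ _
        obtain ⟨r, hr, hr'⟩ := hle hg
        have : r = ⟨g, hg⟩ := Subtype.ext hr'
        rwa [← this]
      have h2 := hRP.2
      rw [hRt] at h2
      exact Group.isSolvable_of_surjective (f := (Subgroup.topEquiv (G := N)).toMonoidHom) (Subgroup.topEquiv (G := N)).surjective

omit [Fintype G] in
theorem kazarin [Finite G] {p : ℕ} (hp : p.Prime) {x : G} {a : ℕ} (hx : (Subgroup.centralizer ({x} : Set G)).index = p ^ a) :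
    Group.IsSolvable (Subgroup.normalClosure ({x} : Set G)) := kazarin_aux hp _ G x a le_rfl hx

end CfsgLib.H3Kaz
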