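import Mathlib
import Cfsg.Agent.Lib.H5Fpf
set_option autoImplicit false
set_option linter.unusedSectionVars false
set_option linter.unusedVariables false

/-! Kegel's theorem on splitting automorphisms of prime order (helper3), following the proof of Thompson's theorem in H5Fpf. -/

namespace CfsgLib
namespace H3Kegel

open JSub NPC ThompsonNPC MonoidHom H5Fpf
open scoped Pointwise

universe u

/-- `nrm φ n x = x * φ x * φ² x * ⋯ * φ^(n-1) x` -/
def nrm {G : Type*} [Group G] (φ : G →* G) : ℕ → G → G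
  | 0, _ => 1
  | n + 1, x => nrm φ n x * φ^[n] x

theorem nrm_zero {G : Type*} [Group G] (φ : G →* G) (x : G) : nrm φ 0 x = 1 := rfl
theorem nrm_succ {G : Type*} [Group G] (φ : G →* G) (n : ℕ) (x : G) : nrm φ (n + 1) x = nrm φ n x * φ^[n] x := rfl
theorem nrm_one {G : Type*} [Group G] (φ : G →* G) (x : G) : nrm φ 1 x = x := by
  rw [nrm_succ, nrm_zero, one_mul]; rfl

theorem nrm_add {G : Type*} [Group G] (φ : G →* G) (m n : ℕ) (x : G) :
    nrm φ (m + n) x = nrm φ m x * φ^[m] (nrm φ n x) := by
  induction n with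
  | zero => rw [add_zero, nrm_zero, iterate_map_one, mul_one]
  | succ n ih =>
    rw [← add_assoc, nrm_succ, ih, nrm_succ, iterate_map_mul, mul_assoc, Function.iterate_add_apply]

/-- splitting endomorphisms -/
structure Spl {G : Type*} [Group G] (p : ℕ) (φ : G →* G) : Prop where
  pow : φ^[p] = _root_.id
  spl : ∀ x, nrm φ p x = 1

theorem nrm_mul_p {G : Type*} [Group G] {p : ℕ} {φ : G →* G} (h : Spl p φ) (k : ℕ) (x : G) : nrm φ (k * p) x = 1 := by
  induction k with
  | zero => rw [zero_mul, nrm_zero]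
  | succ k ih => rw [Nat.succ_mul, nrm_add, ih, h.spl, iterate_map_one, mul_one]

/-- `nrm φ (i * j) x` is determined by `nrm φ i x`. -/
theorem nrm_mul_eq {G : Type*} [Group G] (φ : G →* G) (i j : ℕ) {x y : G} (h : nrm φ i x = nrm φ i y) :
    nrm φ (i * j) x = nrm φ (i * j) y := by
  induction j with
  | zero => rw [mul_zero, nrm_zero, nrm_zero]
  | succ j ih => rw [Nat.mul_succ, nrm_add, nrm_add, ih, h]

theorem nrm_injective {G : Type*} [Group G] {p : ℕ} (hp : p.Prime) {φ : G →* G} (h : Spl p φ) {i : ℕ} (h0 : 0 < i) (h1 : i < p) :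
    Function.Injective (nrm φ i) := by
  intro x y hxy
  obtain ⟨j, hj⟩ : ∃ j, ∃ k, i * j = k * p + 1 := by
    have hc : Nat.Coprime i p := Nat.coprime_comm.mp ((Nat.Prime.coprime_iff_not_dvd hp).mpr (Nat.not_dvd_of_pos_of_lt h0 h1))
    obtain ⟨j, hj⟩ := Nat.exists_mul_mod_eq_one_of_coprime hc hp.one_lt
    refine ⟨j, i * j / p, ?_⟩
    have := Nat.div_add_mod (i * j) p
    rw [hj.2] at this
    rw [mul_comm (i * j / p) p]
    exact this.symm
  obtain ⟨k, hk⟩ := hj
  have h2 := nrm_mul_eq φ i j hxy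
  rw [hk, nrm_add, nrm_add, nrm_mul_p h, nrm_mul_p h, nrm_one, nrm_one, one_mul, one_mul] at h2
  have h3 : ∀ z : G, φ^[k * p] z = z := by
    intro z
    rw [mul_comm, Function.iterate_mul, h.pow, Function.iterate_id]; rfl
  rwa [h3, h3] at h2

section
variable {G : Type u} [Group G] [Finite G]

theorem res_nrm {φ : G →* G} (H : Subgroup G) (hH : ∀ x ∈ H, φ x ∈ H) (n : ℕ) (x : H) :
    ((nrm (res φ H hH) n x : H) : G) = nrm φ n x := by
  induction n with
  | zero => rfl
  | succ n ih => rw [nrm_succ, nrm_succ, Subgroup.coe_mul, ih, res_iterate]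

theorem Spl.res {p : ℕ} {φ : G →* G} (h : Spl p φ) (H : Subgroup G) (hH : ∀ x ∈ H, φ x ∈ H) : Spl p (res φ H hH) :=
  ⟨res_pow h.pow H hH, fun x => Subtype.ext (by rw [res_nrm, h.spl]; rfl)⟩

theorem quot_iterate {φ : G →* G} (N : Subgroup G) [N.Normal] (hN : N ≤ N.comap φ) (n : ℕ) (g : G) :
    (QuotientGroup.map N N φ hN)^[n] (QuotientGroup.mk' N g) = QuotientGroup.mk' N (φ^[n] g) := by
  induction n generalizing g with
  | zero => rfl
  | succ n ih => rw [Function.iterate_succ_apply, Function.iterate_succ_apply, ← ih]; rfl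

theorem quot_nrm {φ : G →* G} (N : Subgroup G) [N.Normal] (hN : N ≤ N.comap φ) (n : ℕ) (g : G) :
    nrm (QuotientGroup.map N N φ hN) n (QuotientGroup.mk' N g) = QuotientGroup.mk' N (nrm φ n g) := by
  induction n with
  | zero => rw [nrm_zero, nrm_zero, map_one]
  | succ n ih => rw [nrm_succ, nrm_succ, ih, quot_iterate, map_mul]

theorem Spl.quot {p : ℕ} {φ : G →* G} (h : Spl p φ) (N : Subgroup G) [N.Normal] (hN : N ≤ N.comap φ) :
    Spl p (QuotientGroup.map N N φ hN) := by
  refine ⟨quot_pow h.pow N hN, fun x => ?_⟩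
  obtain ⟨g, rfl⟩ := QuotientGroup.mk'_surjective N x
  rw [quot_nrm, h.spl, map_one]

/-- twisting by an inner automorphism -/
def tw (φ : G →* G) (g : G) : G →* G := (MulAut.conj g).toMonoidHom.comp φ

theorem tw_apply (φ : G →* G) (g x : G) : tw φ g x = g * φ x * g⁻¹ := rfl

theorem tw_iterate (φ : G →* G) (g : G) (n : ℕ) (x : G) : (tw φ g)^[n] x = nrm φ n g * φ^[n] x * (nrm φ n g)⁻¹ := by
  induction n generalizing x with
  | zero => simp [nrm_zero]
  | succ n ih =>
    rw [Function.iterate_succ_apply, ih, tw_apply, iterate_map_mul, iterate_map_mul, iterate_map_inv, nrm_succ,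
      Function.iterate_succ_apply]
    group

theorem tw_nrm (φ : G →* G) (g : G) (n : ℕ) (x : G) : nrm (tw φ g) n x * nrm φ n g = nrm φ n (x * g) := by
  induction n with
  | zero => simp [nrm_zero]
  | succ n ih =>
    rw [nrm_succ, nrm_succ, nrm_succ, ← ih, tw_iterate, iterate_map_mul]
    group

theorem Spl.tw {p : ℕ} {φ : G →* G} (h : Spl p φ) (g : G) : Spl p (tw φ g) := by
  constructor
  · funext x
    rw [tw_iterate, h.spl, h.pow]
    simp
  · intro x
    have := tw_nrm φ g p x
    rw [h.spl, h.spl, mul_one] at this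
    exact this

/-- invariant Sylow subgroups after twisting -/
theorem exists_sylow' {p : ℕ} (hp : p.Prime) {φ : G →* G} (h : Spl p φ) (q : ℕ) [Fact q.Prime] :
    ∃ (P : Sylow q G) (g : G), (P : Subgroup G).map (tw φ g) = P := by
  obtain ⟨P⟩ : Nonempty (Sylow q G) := inferInstance
  have hb := bijective_of_iterate hp h.pow
  have hc : Nat.card ((P : Subgroup G).map φ) = q ^ (Nat.card G).factorization q := by
    rw [Subgroup.card_map_of_injective hb.1]; exact P.card_eq_multiplicity
  obtain ⟨g, hg⟩ := MulAction.exists_smul_eq G (Sylow.ofCard _ hc) P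
  have hg' : ((P : Subgroup G).map φ).map (MulAut.conj g).toMonoidHom = (P : Subgroup G) := by
    have := congrArg (fun Q : Sylow q G => (Q : Subgroup G)) hg
    exact this
  refine ⟨P, g, ?_⟩
  rw [Subgroup.map_map] at hg'
  exact hg'

/-- averaging lemma -/
theorem smul_fixed' {R : Type*} [Group R] [Finite R] {M : Type*} [AddCommGroup M] {p : ℕ} (hp : p.Prime) {φ : R →* R}
    (h : Spl p φ) (ρ : R →* AddMonoid.End M) (f : AddMonoid.End M)
    (hsum : ∀ (x : R) (m : M), ∑ i ∈ Finset.range p, ρ (nrm φ i x) ((f ^ i) m) = 0) (m : M) (r : R) :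
    ρ r (Nat.card R • m) = Nat.card R • m := by
  classical
  have := Fintype.ofFinite R
  set N : M → M := fun m => ∑ y : R, ρ y m with hN
  have hNfix : ∀ m, ρ r (N m) = N m := by
    intro m
    rw [hN]
    simp only [map_sum]
    have : ∀ y : R, ρ r (ρ y m) = ρ (r * y) m := by intro y; rw [map_mul]; rfl
    simp only [this]
    exact Equiv.sum_comp (Equiv.mulLeft r) (fun y => ρ y m)
  have h2 : ∑ i ∈ Finset.range p, ∑ x : R, ρ (nrm φ i x) ((f ^ i) m) = 0 := by
    rw [Finset.sum_comm]
    exact Finset.sum_eq_zero fun x _ => hsum x m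
  have h3 : Nat.card R • m = - ∑ i ∈ Finset.Ico 1 p, N ((f ^ i) m) := by
    rw [Finset.range_eq_Ico, Finset.sum_eq_sum_Ico_succ_bot hp.pos] at h2
    have h4 : ∑ x : R, ρ (nrm φ 0 x) ((f ^ 0) m) = Nat.card R • m := by
      simp [Finset.card_univ, nrm_zero]
    rw [h4] at h2
    rw [eq_neg_iff_add_eq_zero, ← h2]
    congr 1
    apply Finset.sum_congr rfl
    intro i hi
    rw [Finset.mem_Ico] at hi
    exact ((nrm_injective hp h (i := i) hi.1 hi.2).bijective_of_finite.sum_comp (fun y => ρ y ((f ^ i) m))).symm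
  rw [h3, _root_.map_neg, map_sum]
  congr 1
  exact Finset.sum_congr rfl fun i _ => hNfix _

/-- `nrm φ n (v * u)` -/
theorem nrm_mul (φ : G →* G) (n : ℕ) (v u : G) :
    nrm φ n (v * u) = ((List.range n).map (fun i => nrm φ i u * φ^[i] v * (nrm φ i u)⁻¹)).prod * nrm φ n u := by
  induction n with
  | zero => simp [nrm_zero]
  | succ n ih =>
    rw [nrm_succ, nrm_succ, ih, List.range_succ, List.map_append, List.prod_append, iterate_map_mul]
    simp only [List.map_cons, List.map_nil, List.prod_cons, List.prod_nil]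
    group

/-- action lemma: `R` centralises an abelian normal `V` of coprime order -/
theorem centralize' {φ : G →* G} {p : ℕ} (hp : p.Prime) (h : Spl p φ)
    {V : Subgroup G} (hVn : V.Normal) (hV : ∀ x ∈ V, φ x ∈ V) (hVab : ∀ x ∈ V, ∀ y ∈ V, x * y = y * x)
    {R : Subgroup G} (hR : ∀ x ∈ R, φ x ∈ R) (hc : (Nat.card R).Coprime (Nat.card V)) :
    R ≤ Subgroup.centralizer (V : Set G) := by
  let _ : CommGroup V := { (inferInstance : Group V) with mul_comm := fun a b => Subtype.ext (hVab a a.2 b b.2) }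
  let ρ : R →* AddMonoid.End (Additive V) :=
    { toFun := fun r => MonoidHom.toAdditive
        { toFun := fun v => ⟨r * v * (r : G)⁻¹, hVn.conj_mem v v.2 r⟩
          map_one' := Subtype.ext (by simp)
          map_mul' := fun v w => Subtype.ext (by simp) }
      map_one' := AddMonoidHom.ext fun v => Additive.toMul.injective (Subtype.ext (by
        change (1 : G) * ((Additive.toMul v : V) : G) * (1 : G)⁻¹ = ((Additive.toMul v : V) : G)
        rw [one_mul, inv_one, mul_one]))
      map_mul' := fun g h => AddMonoidHom.ext fun v => Additive.toMul.injective (Subtype.ext (by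
        change ((g : G) * h) * ((Additive.toMul v : V) : G) * ((g : G) * h)⁻¹ = g * (h * ((Additive.toMul v : V) : G) * (h : G)⁻¹) * (g : G)⁻¹
        group)) }
  let f : AddMonoid.End (Additive V) := MonoidHom.toAdditive (H5Fpf.res φ V hV)
  have hρ : ∀ (r : R) (m : Additive V), ((Additive.toMul (ρ r m) : V) : G) = r * (Additive.toMul m : V) * (r : G)⁻¹ :=
    fun r m => rfl
  have hf : ∀ (m : Additive V), ((Additive.toMul (f m) : V) : G) = φ (Additive.toMul m : V) := fun m => rfl
  have hfi : ∀ (i : ℕ) (m : Additive V), Additive.toMul ((f ^ i) m) = (H5Fpf.res φ V hV)^[i] (Additive.toMul m) := by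
    intro i
    induction i with
    | zero => intro m; rfl
    | succ i ih =>
      intro m
      rw [pow_succ]
      change Additive.toMul ((f ^ i) (f m)) = _
      rw [ih]
      rfl
  intro r hr
  rw [Subgroup.mem_centralizer_iff]
  intro v hv
  have key := smul_fixed' hp (h.res R hR) ρ f (fun x m => by
      have h1 := nrm_mul φ p ((Additive.toMul m : V) : G) (x : G)
      rw [h.spl, h.spl, mul_one] at h1
      apply Additive.toMul.injective
      apply Subtype.ext
      rw [toMul_zero, Subgroup.coe_one, h1]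
      have h3 : ∀ n : ℕ, ((Additive.toMul (∑ i ∈ Finset.range n, ρ (nrm (H5Fpf.res φ R hR) i x) ((f ^ i) m)) : V) : G) =
          ((List.range n).map (fun i => nrm φ i (x : G) * φ^[i] ((Additive.toMul m : V) : G) * (nrm φ i (x : G))⁻¹)).prod := by
        intro n
        induction n with
        | zero => simp
        | succ n ih =>
          rw [Finset.sum_range_succ, toMul_add, Subgroup.coe_mul, ih, List.range_succ, List.map_append, List.prod_append, hρ,
            hfi, res_iterate, res_nrm]
          simp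
      exact h3 p) (Additive.ofMul ⟨v, hv⟩) ⟨r, hr⟩
  have key2 : r * v ^ Nat.card R * r⁻¹ = v ^ Nat.card R := congrArg (fun m : Additive V => ((Additive.toMul m : V) : G)) key
  obtain ⟨m, hm⟩ := exists_pow_eq_self_of_coprime (x := v) (n := Nat.card R)
    (Nat.Coprime.coprime_dvd_right (Subgroup.orderOf_dvd_natCard V hv) hc)
  have h1 : Commute r (v ^ Nat.card R) := by
    change r * v ^ Nat.card R = v ^ Nat.card R * r
    rw [← mul_inv_eq_iff_eq_mul]; exact key2
  have h2 := h1.pow_right m
  rw [hm] at h2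
  exact h2.eq.symm

/-- the solvable case -/
theorem solvable_case' {φ : G →* G} {p : ℕ} (hp : p.Prime) (h : Spl p φ)
    (IH : ∀ N : Subgroup G, ∀ _ : N.Normal, N ≠ ⊥ → (∀ x ∈ N, φ x ∈ N) → Group.IsNilpotent (G ⧸ N))
    (hs : Group.IsSolvable G) : Group.IsNilpotent G := by
  classical
  rcases subsingleton_or_nontrivial G with hsub | hnt
  · infer_instance
  have hb := bijective_of_iterate hp h.pow
  -- a minimal invariant normal subgroup
  let S : Set (Subgroup G) := {N | N.Normal ∧ N ≠ ⊥ ∧ ∀ x ∈ N, φ x ∈ N}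
  have hSne : S.Nonempty := ⟨⊤, inferInstance, by
    intro h; exact (not_subsingleton G) (Subgroup.subsingleton_iff.mp (subsingleton_of_bot_eq_top h.symm)), fun _ _ => trivial⟩
  obtain ⟨N, ⟨hNn, hNb, hNφ⟩, hmin⟩ := Set.exists_min_image S (fun N => Nat.card N) (Set.toFinite _) hSne
  have hmin' : ∀ X : Subgroup G, X.Normal → X ≤ N → (∀ x ∈ X, φ x ∈ X) → X ≠ ⊥ → X = N := by
    intro X h1 h2 h3 h4
    exact Subgroup.eq_of_le_of_card_ge h2 (hmin X ⟨h1, h4, h3⟩)
  have hNab : ∀ x ∈ N, ∀ y ∈ N, x * y = y * x := by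
    have h1 : (⁅N, N⁆ : Subgroup G) ≤ N := Subgroup.commutator_le_left N N
    have h2 : ∀ x ∈ (⁅N, N⁆ : Subgroup G), φ x ∈ (⁅N, N⁆ : Subgroup G) := by
      apply invariant_of_map_eq
      rw [Subgroup.map_commutator, map_eq_of_invariant hb.1 hNφ]
    by_cases h3 : (⁅N, N⁆ : Subgroup G) = ⊥
    · intro x hx y hy
      have h4 := Subgroup.commutator_mem_commutator hx hy
      rw [h3, Subgroup.mem_bot] at h4
      exact commutatorElement_eq_one_iff_mul_comm.mp h4
    · exfalso
      have h4 := hmin' _ (Subgroup.commutator_normal N N) h1 h2 h3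
      have h5 : Group.IsSolvable N := inferInstance
      obtain ⟨n, hn⟩ := hs.solvable
      have h6 : ∀ k, N ≤ derivedSeries G k := by
        intro k
        induction k with
        | zero => exact le_top
        | succ k ih => rw [derivedSeries_succ, ← h4]; exact Subgroup.commutator_mono ih ih
      exact hNb (le_bot_iff.mp (hn ▸ h6 n))
  -- prime dividing `|N|`
  have h1 : Nat.card N ≠ 1 := by rwa [Ne, Subgroup.card_eq_one]
  obtain ⟨q, hq, hqd⟩ := Nat.exists_prime_and_dvd h1
  have : Fact q.Prime := ⟨hq⟩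
  have hNq : IsPGroup q N := by
    let X : Subgroup G :=
      { carrier := {x | x ∈ N ∧ x ^ q = 1}
        one_mem' := ⟨N.one_mem, one_pow _⟩
        mul_mem' := by
          rintro a b ⟨ha, ha'⟩ ⟨hb, hb'⟩
          refine ⟨N.mul_mem ha hb, ?_⟩
          have : Commute a b := hNab a ha b hb
          rw [this.mul_pow, ha', hb', one_mul]
        inv_mem' := by
          rintro a ⟨ha, ha'⟩
          exact ⟨N.inv_mem ha, by rw [inv_pow, ha', inv_one]⟩ }
    have hX : X = N := by
      apply hmin'
      · constructor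
        rintro x ⟨hx, hx'⟩ g
        exact ⟨hNn.conj_mem x hx g, by rw [conj_pow, hx']; simp⟩
      · intro x hx; exact hx.1
      · rintro x ⟨hx, hx'⟩
        exact ⟨hNφ x hx, by rw [← map_pow, hx', map_one]⟩
      · obtain ⟨x, hx⟩ := exists_prime_orderOf_dvd_card' q hqd
        intro hXb
        have h2 : (x : G) ∈ X := ⟨x.2, by
          have : x ^ q = 1 := by rw [← hx]; exact pow_orderOf_eq_one x
          exact congrArg Subtype.val this⟩
        rw [hXb, Subgroup.mem_bot] at h2
        have h3 : x = 1 := Subtype.ext h2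
        rw [h3, orderOf_one] at hx
        exact hq.one_lt.ne hx
    rintro ⟨x, hx⟩
    rw [← hX] at hx
    exact ⟨1, Subtype.ext (by rw [pow_one]; exact hx.2)⟩
  -- Sylow subgroups for other primes centralize `N`
  have hcent : ∀ r : ℕ, ∀ _ : Fact r.Prime, r ≠ q → ∀ R : Sylow r G, (R : Subgroup G) ≤ Subgroup.centralizer (N : Set G) := by
    intro r hr hrq R
    obtain ⟨P, g0, hP⟩ := exists_sylow' hp h r
    have h2 : (P : Subgroup G) ≤ Subgroup.centralizer (N : Set G) := by
      apply centralize' hp (h.tw g0) hNn (fun x hx => hNn.conj_mem _ (hNφ x hx) g0) hNab (invariant_of_map_eq hP)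
      obtain ⟨a, ha⟩ := IsPGroup.iff_card.mp P.isPGroup'
      obtain ⟨b, hb⟩ := IsPGroup.iff_card.mp hNq
      rw [ha, hb]
      exact Nat.Coprime.pow _ _ ((Nat.coprime_primes hr.out hq).mpr hrq)
    obtain ⟨g, hg⟩ := MulAction.exists_smul_eq G P R
    have h3 : (R : Subgroup G) = (P : Subgroup G).map (MulAut.conj g).toMonoidHom := by rw [← hg]; rfl
    rw [h3]
    rintro _ ⟨x, hx, rfl⟩
    exact (Solv.normal_centralizer_of_normal hNn).conj_mem x (h2 hx) g
  -- the centre is nontrivial
  obtain ⟨Q⟩ : Nonempty (Sylow q G) := inferInstance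
  have hNQ : N ≤ Q := hNq.le_sylow_of_normal Q
  have hfix : ∃ x ∈ N, x ≠ 1 ∧ ∀ y ∈ (Q : Subgroup G), y * x = x * y := by
    have h2 : (Q : Subgroup G) ≤ Subgroup.normalizer (N : Set G) := by
      rw [Subgroup.normalizer_eq_top_iff.mpr hNn]; exact le_top
    have h0 : (N.subgroupOf Q).Normal := Subgroup.normal_subgroupOf_of_le_normalizer h2
    have hne : N.subgroupOf Q ≠ ⊥ := by
      intro hbot
      apply hNb
      rw [Subgroup.subgroupOf_eq_bot] at hbot
      rw [eq_bot_iff]
      intro x hx
      exact Subgroup.disjoint_def.mp hbot hx (hNQ hx)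
    have h3 := PGrp.inf_center_ne_bot Q.isPGroup' h0 hne
    obtain ⟨⟨x, hx⟩, hx1⟩ := (Subgroup.ne_bot_iff_exists_ne_one).mp h3
    refine ⟨x, hx.1, ?_, ?_⟩
    · intro h; apply hx1; apply Subtype.ext; exact Subtype.ext h
    · intro y hy
      exact congrArg Subtype.val (Subgroup.mem_center_iff.mp hx.2 ⟨y, hy⟩)
  obtain ⟨x, hxN, hx1, hxQ⟩ := hfix
  have hxc : x ∈ Subgroup.center G := by
    have htop : Subgroup.centralizer {x} = ⊤ := by
      rw [← Subgroup.index_eq_one]
      by_contra hne
      obtain ⟨r, hr, hrd⟩ := Nat.exists_prime_and_dvd hne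
      have : Fact r.Prime := ⟨hr⟩
      have hle : ∃ R : Sylow r G, (R : Subgroup G) ≤ Subgroup.centralizer {x} := by
        by_cases hrq : r = q
        · subst hrq
          refine ⟨Q, fun y hy => ?_⟩
          rw [Subgroup.mem_centralizer_singleton_iff]
          exact hxQ y hy
        · obtain ⟨R⟩ : Nonempty (Sylow r G) := inferInstance
          refine ⟨R, fun y hy => ?_⟩
          rw [Subgroup.mem_centralizer_singleton_iff]
          exact (Subgroup.mem_centralizer_iff.mp (hcent r ‹_› hrq R hy) x hxN).symm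
      obtain ⟨R, hR⟩ := hle
      exact R.not_dvd_index (hrd.trans (Subgroup.index_dvd_of_le hR))
    rw [Subgroup.mem_center_iff]
    intro g
    have : g ∈ Subgroup.centralizer {x} := by rw [htop]; trivial
    rwa [Subgroup.mem_centralizer_singleton_iff] at this
  have hZ : Subgroup.center G ≠ ⊥ := by
    intro h
    rw [h, Subgroup.mem_bot] at hxc
    exact hx1 hxc
  have := IH (Subgroup.center G) inferInstance hZ (char_invariant hb inferInstance)
  exact Group.of_quotient_center_nilpotent this

/-- **Kegel's theorem** on splitting automorphisms of prime order. -/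
theorem nilpotent_aux' {p : ℕ} (hp : p.Prime) (n : ℕ) : ∀ (G : Type u) [Group G] [Finite G], Nat.card G ≤ n →
    ∀ φ : G →* G, Spl p φ → Group.IsNilpotent G := by
  induction n with
  | zero =>
    intro G _ _ h
    have : 0 < Nat.card G := Nat.card_pos
    omega
  | succ n ih =>
    intro G _ _ hn φ hφ
    have hb := bijective_of_iterate hp hφ.pow
    have hquot : ∀ N : Subgroup G, N ≠ ⊥ → Nat.card (G ⧸ N) ≤ n := by
      intro N hN
      have h1 := Subgroup.card_mul_index N
      have h2 : 1 < Nat.card N := by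
        have := Nat.card_pos (α := N)
        have h3 : Nat.card N ≠ 1 := by rwa [Ne, Subgroup.card_eq_one]
        omega
      have h3 : Nat.card (G ⧸ N) = N.index := rfl
      have h4 : 0 < N.index := Nat.pos_of_ne_zero Subgroup.index_ne_zero_of_finite
      rw [h3]
      nlinarith
    have IH1 : ∀ N : Subgroup G, ∀ _ : N.Normal, N ≠ ⊥ → (∀ x ∈ N, φ x ∈ N) → Group.IsNilpotent (G ⧸ N) := by
      intro N hNn hN hNφ
      exact ih (G ⧸ N) (hquot N hN) (QuotientGroup.map N N φ hNφ) (hφ.quot N hNφ)
    have IH2 : ∀ M : Subgroup G, M ≠ ⊤ → ∀ φ : G →* G, Spl p φ → (∀ x ∈ M, φ x ∈ M) → Group.IsNilpotent M := by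
      intro M hM φ hφ hMφ
      have h1 : Nat.card M < Nat.card G := by
        rw [← Subgroup.card_top (G := G)]
        have h2 : M < ⊤ := lt_top_iff_ne_top.mpr hM
        exact Set.Finite.card_lt_card (Set.toFinite _) h2
      exact ih M (by omega) (H5Fpf.res φ M hMφ) (hφ.res M hMφ)
    by_cases hs : Group.IsSolvable G
    · exact solvable_case' hp hφ IH1 hs
    exfalso
    have hsolv : ∀ N : Subgroup G, ∀ _ : N.Normal, Group.IsSolvable N → Group.IsSolvable (G ⧸ N) → False := by
      intro N hNn h1 h2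
      exact hs (Group.isSolvable_of_ker_le_range N.subtype (QuotientGroup.mk' N) (by
        rw [QuotientGroup.ker_mk', Subgroup.range_subtype]))
    -- an odd prime divisor
    have hodd : ∃ q : ℕ, q.Prime ∧ q ≠ 2 ∧ q ∣ Nat.card G := by
      by_contra hc
      push Not at hc
      have h1 : IsPGroup 2 G := by
        have h2 : ∀ q : ℕ, q.Prime → q ∣ Nat.card G → q = 2 := fun q hq hd => by
          by_contra hne
          exact hc q hq hne hd
        exact IsPGroup.of_card (Nat.eq_prime_pow_of_unique_prime_dvd Nat.card_pos.ne' (fun {q} hq hd => h2 q hq hd))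
      have : Fact (Nat.Prime 2) := ⟨Nat.prime_two⟩
      have := h1.isNilpotent
      exact hs inferInstance
    obtain ⟨q, hq, hq2, hqd⟩ := hodd
    have : Fact q.Prime := ⟨hq⟩
    obtain ⟨P, g0, hP⟩ := exists_sylow' hp hφ q
    have hφ' := hφ.tw g0
    have hb' := bijective_of_iterate hp hφ'.pow
    have hPb : (P : Subgroup G) ≠ ⊥ := P.ne_bot_of_dvd_card hqd
    have hJ : (J q (P : Subgroup G)).map (tw φ g0) = J q (P : Subgroup G) := by
      rw [← J_map (tw φ g0) hb'.1.injOn, hP]
    have hZ : (Z (P : Subgroup G)).map (tw φ g0) = Z (P : Subgroup G) := by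
      rw [← Z_map (tw φ g0) hb'.1.injOn, hP]
    have key : ∀ W : Subgroup G, IsPGroup q W → W ≠ ⊥ → W.map (tw φ g0) = W → NPC q (Subgroup.normalizer (W : Set G)) := by
      intro W hW hWb hWφ
      by_cases ht : Subgroup.normalizer (W : Set G) = ⊤
      · exfalso
        have hWn : W.Normal := Subgroup.normalizer_eq_top_iff.mp ht
        have h1 := IH1 W hWn hWb (fun x hx => by
          have h3 := invariant_of_map_eq hWφ x hx
          have h4 := hWn.conj_mem _ h3 g0⁻¹
          have h5 : g0⁻¹ * tw φ g0 x * g0⁻¹⁻¹ = φ x := by rw [tw_apply]; group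
          rwa [h5] at h4)
        have h2 := hW.isNilpotent
        exact hsolv W hWn inferInstance inferInstance
      · have h1 := IH2 _ ht (tw φ g0) hφ' (by
          intro x hx
          have h2 := Subgroup.le_normalizer_map (H := W) (tw φ g0) ⟨x, hx, rfl⟩
          rwa [hWφ] at h2)
        exact npc_of_nilpotent h1
    have hnpc : NPC q G := by
      rw [thompson hq2 P]
      refine ⟨key _ (P.isPGroup'.to_le (J_le q _)) (J_ne_bot P.isPGroup' hPb) hJ, ?_⟩
      exact (key _ (P.isPGroup'.to_le (Z_le _)) (Z_ne_bot P.isPGroup' hPb) hZ).of_le (centralizer_le_normalizer _)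
    obtain ⟨K, hKn, hKc, k, hk⟩ := hnpc
    have hKφ : ∀ x ∈ K, φ x ∈ K := by
      intro x hx
      rw [mem_iff_coprime hKc hk] at hx ⊢
      rw [orderOf_injective φ hb.1]; exact hx
    have hKt : K ≠ ⊤ := by
      intro h
      rw [h, Subgroup.card_top] at hKc
      exact (Nat.Prime.coprime_iff_not_dvd hq).mp hKc.symm hqd
    have h1 := IH2 K hKt φ hφ hKφ
    have h2 : IsPGroup q (G ⧸ K) := IsPGroup.of_card hk
    have h3 := h2.isNilpotent
    exact hsolv K hKn inferInstance inferInstance



theorem nilpotent_of_spl {p : ℕ} (hp : p.Prime) (φ : G →* G) (hφ : Spl p φ) : Group.IsNilpotent G :=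
  nilpotent_aux' hp _ G le_rfl φ hφ

end

end H3Kegel
end CfsgLib
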