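import Mathlib
import Cfsg.Agent.Lib.H5Perm2

/-! Classes of derangements in primitive groups that are neither affine nor almost simple. -/

set_option autoImplicit false

namespace CfsgLib.H5Perm3

open MulAction CfsgLib.H5Sylow CfsgLib.H5MinNormal CfsgLib.H5Perm2

/-- fixing no point -/
def Der {G : Type*} (Ω : Type*) [Group G] [MulAction G Ω] (g : G) : Prop := ∀ ω : Ω, g • ω ≠ ω

theorem two_primes {T : Type*} [Group T] [Finite T] (hs : IsSimpleGroup T)
    (hna : ¬ IsMulCommutative T) : ∃ p q : ℕ, p.Prime ∧ q.Prime ∧ p ≠ q ∧
      (∃ x : T, orderOf x = p) ∧ ∃ y : T, orderOf y = q := by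
  have hnt : Nontrivial T := hs.toNontrivial
  have hc : Nat.card T ≠ 1 := (Finite.one_lt_card_iff_nontrivial.mpr hnt).ne'
  obtain ⟨p, hp, hpd⟩ := Nat.exists_prime_and_dvd hc
  have : Fact p.Prime := ⟨hp⟩
  have hnp := not_isPGroup_of_simple hs hna p
  have hex : ∃ q : ℕ, q.Prime ∧ q ∣ Nat.card T ∧ q ≠ p := by
    by_contra hcon
    push Not at hcon
    apply hnp
    rw [IsPGroup.iff_card]
    exact ⟨_, Nat.eq_prime_pow_of_unique_prime_dvd Nat.card_pos.ne' (fun {d} hd hdd => hcon d hd hdd)⟩
  obtain ⟨q, hq, hqd, hqp⟩ := hex
  have : Fact q.Prime := ⟨hq⟩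
  exact ⟨p, q, hp, hq, Ne.symm hqp, exists_prime_orderOf_dvd_card' p hpd,
    exists_prime_orderOf_dvd_card' q hqd⟩

theorem orderOf_conj' {G : Type*} [Group G] {a b : G} (h : IsConj a b) : orderOf a = orderOf b := by
  rw [isConj_iff] at h
  obtain ⟨c, rfl⟩ := h
  exact (orderOf_injective (MulAut.conj c).toMonoidHom (MulAut.conj c).injective a).symm

variable {G Ω : Type*} [Group G] [Finite G] [MulAction G Ω] [FaithfulSMul G Ω] [Finite Ω]

theorem cj_eq_or_comm {N T : Subgroup G} (hN : N.Normal) (hT : Factor N T) (g₁ g₂ : G) :
    cj g₁ T = cj g₂ T ∨ ∀ a ∈ cj g₁ T, ∀ b ∈ cj g₂ T, a * b = b * a := by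
  have h1 := (hT.cj hN g₁).eq_or_comm hN (g₂ * g₁⁻¹)
  rw [cj_cj, inv_mul_cancel_right] at h1
  rcases h1 with h1 | h1
  · left; exact h1.symm
  · right; exact h1

theorem center_cj {N T : Subgroup G} (hN : IsMinNormal N)
    (hna : ¬ ∀ a ∈ N, ∀ b ∈ N, a * b = b * a) (hT : Factor N T) (g : G) {x : G}
    (hx : x ∈ cj g T) (hc : ∀ y ∈ cj g T, y * x = x * y) : x = 1 := by
  have h1 := (hT.cj hN.1 g).inf_cen hN hna
  have h2 : x ∈ cj g T ⊓ cen N (cj g T) := ⟨hx, mem_cen.mpr ⟨hc, (hT.cj hN.1 g).le hx⟩⟩
  rw [h1] at h2
  exact h2

theorem three_classes (hprim : IsPreprimitive G Ω) (hΩ : 1 < Nat.card Ω)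
    (hnas : ¬ ∃ T : Subgroup G, T.Normal ∧ IsSimpleGroup T ∧ ¬ IsMulCommutative T ∧
      Subgroup.centralizer (T : Set G) = ⊥)
    {N : Subgroup G} (hN : IsMinNormal N) (hna : ¬ ∀ a ∈ N, ∀ b ∈ N, a * b = b * a) :
    ∃ a b c : G, Der Ω a ∧ Der Ω b ∧ Der Ω c ∧ ¬ IsConj a b ∧ ¬ IsConj a c ∧ ¬ IsConj b c := by
  have hNn := hN.1
  have htr := transitive_of_normal hprim N hN.1 hN.2.1
  obtain ⟨T, hT⟩ := exists_factor N hN.2.1
  have hTs := hT.simple hN
  have hTna := hT.not_comm hN hna
  obtain ⟨p, q, hp, hq, hpq, ⟨x, hx⟩, y, hy⟩ := two_primes hTs hTna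
  have hxo : orderOf (x : G) = p := by rw [Subgroup.orderOf_coe, hx]
  have hyo : orderOf (y : G) = q := by rw [Subgroup.orderOf_coe, hy]
  have hx1 : (x : G) ≠ 1 := by
    intro h; rw [h, orderOf_one] at hxo; exact hp.one_lt.ne hxo
  have hy1 : (y : G) ≠ 1 := by
    intro h; rw [h, orderOf_one] at hyo; exact hq.one_lt.ne hyo
  have hxy : ¬ IsConj (x : G) (y : G) := by
    intro h
    have := orderOf_conj' h
    rw [hxo, hyo] at this
    exact hpq this
  by_cases hC : Subgroup.centralizer (N : Set G) = ⊥
  · -- C_G(N) = 1
    have hcen : cen N T ≠ ⊥ := by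
      intro hcen
      have hTN := hT.eq_of_cen_bot hN hcen
      subst hTN
      exact hnas ⟨T, hN.1, hTs, hTna, hC⟩
    obtain ⟨g, hg⟩ := hT.exists_cj_le_cen hN hna hcen
    have hcjmem : ∀ z ∈ T, g * z * g⁻¹ ∈ cj g T := by
      intro z hz
      rw [mem_cj]
      have e : g⁻¹ * (g * z * g⁻¹) * g = z := by group
      rw [e]; exact hz
    have hordc : ∀ z : G, orderOf (g * z * g⁻¹) = orderOf z := fun z =>
      orderOf_injective (MulAut.conj g).toMonoidHom (MulAut.conj g).injective z
    have hcne : ∀ z : G, z ≠ 1 → g * z * g⁻¹ ≠ 1 := by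
      intro z hz h
      apply hz
      have : z = g⁻¹ * (g * z * g⁻¹) * g := by group
      rw [this, h]; group
    rcases factor_derangements hΩ hN hT htr with ⟨t, ht, htc⟩ | hB
    · -- case A
      have ht1 : t ≠ 1 := by
        rintro rfl
        obtain ⟨ω⟩ : Nonempty Ω := by rw [← Finite.card_pos_iff]; omega
        exact htc 1 (cen N T).one_mem ω (by simp)
      set c1 := g * (x : G) * g⁻¹ with hc1
      set c2 := g * (y : G) * g⁻¹ with hc2
      have hc1m : c1 ∈ cj g T := hcjmem _ x.2
      have hc2m : c2 ∈ cj g T := hcjmem _ y.2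
      have hc11 : c1 ≠ 1 := hcne _ hx1
      have hc21 : c2 ≠ 1 := hcne _ hy1
      have hc1o : orderOf c1 = p := by rw [hc1, hordc, hxo]
      have hc2o : orderOf c2 = q := by rw [hc2, hordc, hyo]
      have hTT' : cj g T ≠ T := by
        intro h
        apply hc11
        have h1 : c1 ∈ T ⊓ cen N T := ⟨by rw [← h]; exact hc1m, hg hc1m⟩
        rw [hT.inf_cen hN hna] at h1
        exact h1
      have hcomT : ∀ a ∈ T, ∀ b ∈ cj g T, a * b = b * a := by
        intro a ha b hb
        exact (mem_cen.mp (hg hb)).1 a ha
      -- t not conjugate to t c for c ≠ 1 in the conjugate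
      have hA1 : ∀ c ∈ cj g T, c ≠ 1 → ¬ IsConj t (t * c) := by
        intro c hc hc' hconj
        rw [isConj_iff] at hconj
        obtain ⟨h, hh⟩ := hconj
        have hmem : t * c ∈ cj h T := by
          rw [mem_cj, ← hh]
          have e : h⁻¹ * (h * t * h⁻¹) * h = t := by group
          rw [e]; exact ht
        rcases hT.eq_or_comm hN.1 h with h1 | h1
        · rw [h1] at hmem
          have h2 : c ∈ T := (Subgroup.mul_mem_cancel_left T ht).mp hmem
          have h3 : c ∈ T ⊓ cen N T := ⟨h2, hg hc⟩
          rw [hT.inf_cen hN hna] at h3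
          exact hc' h3
        · apply ht1
          have h2 : t ∈ T ⊓ cen N T := by
            refine ⟨ht, mem_cen.mpr ⟨fun a ha => ?_, hT.le ht⟩⟩
            have h3 := h1 a ha _ hmem
            have h4 := hcomT a ha c hc
            have h5 : a * t * c = t * a * c := by
              calc a * t * c = a * (t * c) := by group
                _ = t * c * a := h3
                _ = t * (c * a) := by group
                _ = t * (a * c) := by rw [h4]
                _ = t * a * c := by group
            exact mul_right_cancel h5
          rw [hT.inf_cen hN hna] at h2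
          exact h2
      refine ⟨t, t * c1, t * c2, ?_, htc c1 (hg hc1m), htc c2 (hg hc2m), hA1 c1 hc1m hc11,
        hA1 c2 hc2m hc21, ?_⟩
      · intro ω hω
        exact htc 1 (cen N T).one_mem ω (by rw [mul_one]; exact hω)
      · intro hconj
        rw [isConj_iff] at hconj
        obtain ⟨h, hh⟩ := hconj
        -- a := h t h⁻¹ ∈ T^h,  b := h c1 h⁻¹ ∈ T^(h g)
        set a := h * t * h⁻¹ with ha
        set b := h * c1 * h⁻¹ with hb
        have hab : a * b = t * c2 := by rw [← hh, ha, hb]; group
        have ham : a ∈ cj h T := by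
          rw [mem_cj]
          have e : h⁻¹ * (h * t * h⁻¹) * h = t := by group
          rw [ha, e]; exact ht
        have hbm : b ∈ cj (h * g) T := by
          rw [← cj_cj, mem_cj]
          have e : h⁻¹ * (h * c1 * h⁻¹) * h = c1 := by group
          rw [hb, e]; exact hc1m
        have ha1 : a ≠ 1 := by
          intro h0; apply ht1
          have : t = h⁻¹ * a * h := by rw [ha]; group
          rw [this, h0]; group
        have hb1 : b ≠ 1 := by
          intro h0; apply hc11
          have : c1 = h⁻¹ * b * h := by rw [hb]; group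
          rw [this, h0]; group
        have hbo : orderOf b = p := by
          rw [← hc1o]
          exact orderOf_injective (MulAut.conj h).toMonoidHom (MulAut.conj h).injective c1
        -- T^h and T^(hg) commute
        have hcomm2 : ∀ u ∈ cj h T, ∀ v ∈ cj (h * g) T, u * v = v * u := by
          intro u hu v hv
          rw [mem_cj] at hu
          rw [← cj_cj, mem_cj] at hv
          have h1 := hcomT _ hu _ hv
          have h2 : h * (h⁻¹ * u * h * (h⁻¹ * v * h)) * h⁻¹ = h * (h⁻¹ * v * h * (h⁻¹ * u * h)) * h⁻¹ := by
            rw [h1]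
          have e1 : h * (h⁻¹ * u * h * (h⁻¹ * v * h)) * h⁻¹ = u * v := by group
          have e2 : h * (h⁻¹ * v * h * (h⁻¹ * u * h)) * h⁻¹ = v * u := by group
          rwa [e1, e2] at h2
        have hT1 : cj (1 : G) T = T := cj_one T
        -- if T^h commutes with both T and T^g then a is central in T^h
        have hcase1 : cj h T = T ∨ cj h T = cj g T := by
          by_contra hcon
          push Not at hcon
          have h1 := (cj_eq_or_comm hN.1 hT h 1).resolve_left (by rw [hT1]; exact hcon.1)
          have h2 := (cj_eq_or_comm hN.1 hT h g).resolve_left hcon.2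
          rw [hT1] at h1
          apply ha1
          apply center_cj hN hna hT h ham
          intro z hz
          have h3 : z * (a * b) = a * b * z := by
            rw [hab]
            calc z * (t * c2) = z * t * c2 := by group
              _ = t * z * c2 := by rw [h1 z hz t ht]
              _ = t * (z * c2) := by group
              _ = t * (c2 * z) := by rw [h2 z hz c2 hc2m]
              _ = t * c2 * z := by group
          have h4 := hcomm2 z hz b hbm
          have h5 : z * a * b = a * z * b := by
            calc z * a * b = z * (a * b) := by group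
              _ = a * b * z := h3
              _ = a * (b * z) := by group
              _ = a * (z * b) := by rw [h4]
              _ = a * z * b := by group
          exact mul_right_cancel h5
        have hcase2 : cj (h * g) T = T ∨ cj (h * g) T = cj g T := by
          by_contra hcon
          push Not at hcon
          have h1 := (cj_eq_or_comm hN.1 hT (h * g) 1).resolve_left (by rw [hT1]; exact hcon.1)
          have h2 := (cj_eq_or_comm hN.1 hT (h * g) g).resolve_left hcon.2
          rw [hT1] at h1
          apply hb1
          apply center_cj hN hna hT (h * g) hbm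
          intro z hz
          have h3 : z * (a * b) = a * b * z := by
            rw [hab]
            calc z * (t * c2) = z * t * c2 := by group
              _ = t * z * c2 := by rw [h1 z hz t ht]
              _ = t * (z * c2) := by group
              _ = t * (c2 * z) := by rw [h2 z hz c2 hc2m]
              _ = t * c2 * z := by group
          have h4 := hcomm2 a ham z hz
          have h5 : a * (z * b) = a * (b * z) := by
            calc a * (z * b) = a * z * b := by group
              _ = z * a * b := by rw [h4]
              _ = z * (a * b) := by group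
              _ = a * b * z := h3
              _ = a * (b * z) := by group
          exact mul_left_cancel h5
        have hdiff : cj h T ≠ cj (h * g) T := by
          intro h0
          apply ha1
          apply center_cj hN hna hT h ham
          intro z hz
          have := hcomm2 a ham z (by rw [← h0]; exact hz)
          exact this.symm
        have hinf : ∀ u ∈ T, u ∈ cj g T → u = 1 := by
          intro u hu hu'
          have h1 : u ∈ T ⊓ cen N T := ⟨hu, hg hu'⟩
          rw [hT.inf_cen hN hna] at h1
          exact h1
        rcases hcase1 with h1 | h1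
        · rcases hcase2 with h2 | h2
          · exact hdiff (h1.trans h2.symm)
          · rw [h1] at ham; rw [h2] at hbm
            have h3 : t⁻¹ * a = c2 * b⁻¹ := by
              have : a = t * c2 * b⁻¹ := by rw [← hab]; group
              rw [this]; group
            have h4 : t⁻¹ * a = 1 := hinf _ (T.mul_mem (T.inv_mem ht) ham)
              (by rw [h3]; exact (cj g T).mul_mem hc2m ((cj g T).inv_mem hbm))
            rw [h4] at h3
            have h5 : c2 = b := by
              have := h3.symm
              rwa [mul_inv_eq_one] at this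
            rw [h5, hbo] at hc2o
            exact hpq hc2o
        · rcases hcase2 with h2 | h2
          · rw [h1] at ham; rw [h2] at hbm
            have h0 : b * a = t * c2 := by rw [hcomT b hbm a ham]; exact hab
            have h3 : t⁻¹ * b = c2 * a⁻¹ := by
              have : b = t * c2 * a⁻¹ := by rw [← h0]; group
              rw [this]; group
            have h4 : t⁻¹ * b = 1 := hinf _ (T.mul_mem (T.inv_mem ht) hbm)
              (by rw [h3]; exact (cj g T).mul_mem hc2m ((cj g T).inv_mem ham))
            rw [h4] at h3
            have h5 : c2 = a := by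
              have := h3.symm
              rwa [mul_inv_eq_one] at this
            have h6 : b = t := by
              rw [inv_mul_eq_one] at h4
              exact h4.symm
            have h7 : orderOf a = orderOf t :=
              orderOf_injective (MulAut.conj h).toMonoidHom (MulAut.conj h).injective t
            rw [← h5, hc2o, ← h6, hbo] at h7
            exact hpq h7.symm
          · exact hdiff (h1.trans h2.symm)
    · -- case B
      set c := g * (y : G) * g⁻¹ with hc
      have hcm : c ∈ cj g T := hcjmem _ y.2
      have hco : orderOf c = q := by rw [hc, hordc, hyo]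
      have hcommxc : Commute (x : G) c := (mem_cen.mp (hg hcm)).1 x x.2
      have hcop : (orderOf (x : G)).Coprime (orderOf c) := by
        rw [hxo, hco]; exact (Nat.coprime_primes hp hq).mpr hpq
      have hxc : orderOf ((x : G) * c) = p * q := by
        rw [hcommxc.orderOf_mul_eq_mul_orderOf_of_coprime hcop, hxo, hco]
      refine ⟨x, y, x * c, hB x x.2 hx1, hB y y.2 hy1, ?_, hxy, ?_, ?_⟩
      · intro ω hω
        have h1 : ((x : G) * c) ^ q • ω = ω := by
          have : (x : G) * c ∈ stabilizer G ω := hω
          exact (stabilizer G ω).pow_mem this q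
        rw [hcommxc.mul_pow] at h1
        have h2 : c ^ q = 1 := by rw [← hco]; exact pow_orderOf_eq_one c
        rw [h2, mul_one] at h1
        have h3 : (x : G) ^ q ≠ 1 := by
          intro h4
          have := orderOf_dvd_of_pow_eq_one h4
          rw [hxo] at this
          exact hpq ((Nat.prime_dvd_prime_iff_eq hp hq).mp this)
        exact hB _ (T.pow_mem x.2 q) h3 ω h1
      · intro h
        have h1 := orderOf_conj' h
        rw [hxo, hxc] at h1
        have : p * 1 = p * q := by rw [mul_one]; exact h1
        exact hq.one_lt.ne (Nat.eq_of_mul_eq_mul_left hp.pos this)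
      · intro h
        have h1 := orderOf_conj' h
        rw [hyo, hxc] at h1
        have : 1 * q = p * q := by rw [one_mul]; exact h1
        exact hp.one_lt.ne (Nat.eq_of_mul_eq_mul_right hq.pos this)
  · -- C_G(N) ≠ 1
    have hCn : (Subgroup.centralizer (N : Set G)).Normal := inferInstance
    have hCt := transitive_of_normal hprim (Subgroup.centralizer (N : Set G)) hCn hC
    have hder : ∀ n ∈ N, n ≠ 1 → Der Ω n := by
      intro n hn hn1 ω hω
      apply hn1
      apply eq_one_of_comm _ hCt _ hω
      intro a ha
      exact (Subgroup.mem_centralizer_iff.mp ha n hn).symm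
    have hderC : ∀ n ∈ Subgroup.centralizer (N : Set G), n ≠ 1 → Der Ω n := by
      intro n hn hn1 ω hω
      apply hn1
      apply eq_one_of_comm N htr _ hω
      intro a ha
      exact (Subgroup.mem_centralizer_iff.mp hn a ha)
    obtain ⟨z, hz, hz1⟩ := (Subgroup.ne_bot_iff_exists_ne_one.mp hC : _) |> fun ⟨a, h⟩ =>
      (⟨(a : G), a.2, fun hh => h (Subtype.ext hh)⟩ :
        ∃ x : G, x ∈ Subgroup.centralizer (N : Set G) ∧ x ≠ 1)
    have hnot : ∀ w ∈ T, w ≠ 1 → ¬ IsConj w z := by
      intro w hw hw1 hconj
      rw [isConj_iff] at hconj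
      obtain ⟨h, hh⟩ := hconj
      have h1 : w ∈ Subgroup.centralizer (N : Set G) := by
        have := hCn.conj_mem z hz h⁻¹
        rw [← hh] at this
        have e : h⁻¹ * (h * w * h⁻¹) * h⁻¹⁻¹ = w := by group
        rwa [e] at this
      apply hw1
      have h2 : w ∈ T ⊓ cen N T := by
        refine ⟨hw, mem_cen.mpr ⟨fun a ha => ?_, hT.le hw⟩⟩
        exact Subgroup.mem_centralizer_iff.mp h1 a (hT.le ha)
      rw [hT.inf_cen hN hna] at h2
      exact h2
    exact ⟨x, y, z, hder x (hT.le x.2) hx1, hder y (hT.le y.2) hy1, hderC z hz hz1, hxy,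
      hnot x x.2 hx1, hnot y y.2 hy1⟩

end CfsgLib.H5Perm3
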