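import Mathlib
import Cfsg.Agent.Lib.H5Fpf
import Cfsg.Agent.Lib.H5Perm2
import Cfsg.Agent.Lib.H5Perm3
set_option autoImplicit false
set_option linter.unusedSectionVars false
set_option linter.unusedVariables false

/-! A group with a "simple normal subgroup" and maximal subgroups `M t` (S3493). -/

namespace CfsgLib
namespace H5Ext

open JSub NPC
open scoped Pointwise

theorem not_npc {T : Type*} [Group T] [Finite T] (hs : IsSimpleGroup T) (hna : ¬ IsMulCommutative T)
    {p : ℕ} [hp : Fact p.Prime] (hd : p ∣ Nat.card T) : ¬ NPC p T := by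
  rintro ⟨N, hN, hc, k, hk⟩
  rcases hs.eq_bot_or_eq_top_of_normal N hN with h | h
  · rw [h, Subgroup.index_bot] at hk
    exact H5Perm2.not_isPGroup_of_simple hs hna p (IsPGroup.of_card hk)
  · rw [h, Subgroup.card_top] at hc
    exact (Nat.Prime.coprime_iff_not_dvd hp.out).mp hc.symm hd

theorem exists_pow_of_commute {T : Type*} [Group T] [Finite T] {x y : T} (h : Commute x y)
    (hc : (orderOf x).Coprime (orderOf y)) : ∃ k : ℕ, (x * y) ^ k = x := by
  obtain ⟨k, hk1, hk2⟩ := Nat.chineseRemainder hc 1 0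
  refine ⟨k, ?_⟩
  rw [h.mul_pow]
  have h1 : x ^ k = x ^ 1 := pow_eq_pow_iff_modEq.mpr hk1
  have h2 : y ^ k = y ^ 0 := pow_eq_pow_iff_modEq.mpr hk2
  rw [h1, h2, pow_one, pow_zero, mul_one]

theorem no_extreme {H T : Type*} [Group H] [Finite H] [Group T] [Finite T] (hs : IsSimpleGroup T)
    (hna : ¬ IsMulCommutative T) (δ : T →* H) (hδ : Function.Injective δ) (hn : δ.range.Normal)
    (M : T → Subgroup H) (hco : ∀ t, t ≠ 1 → IsCoatom (M t)) (hM : ∀ t u, δ u ∈ M t ↔ u * t = t * u)
    (hconj : ∀ t u, M (u * t * u⁻¹) = (M t).map (MulAut.conj (δ u)).toMonoidHom)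
    (hpow : ∀ t (k : ℕ), M t ≤ M (t ^ k)) : False := by
  classical
  -- equality of `M` for powers
  have hpe : ∀ t (k : ℕ), t ≠ 1 → t ^ k ≠ 1 → M t = M (t ^ k) := by
    intro t k h1 h2
    exact (((hco t h1).le_iff.mp (hpow t k)).resolve_left (hco _ h2).1).symm
  have hcc : ∀ x y, x ≠ 1 → y ≠ 1 → Commute x y → (orderOf x).Coprime (orderOf y) → M x = M y := by
    intro x y hx hy h hc
    obtain ⟨k, hk⟩ := exists_pow_of_commute h hc
    obtain ⟨l, hl⟩ := exists_pow_of_commute h.symm hc.symm
    rw [← h.eq] at hl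
    have hxy : x * y ≠ 1 := by
      intro h1
      rw [h1, one_pow] at hk
      exact hx hk.symm
    have e1 := hpe (x * y) k hxy (by rw [hk]; exact hx)
    have e2 := hpe (x * y) l hxy (by rw [hl]; exact hy)
    rw [hk] at e1
    rw [hl] at e2
    rw [← e1, e2]
  -- centre
  have hcen : ∀ z : T, (∀ u, u * z = z * u) → z = 1 := by
    intro z hz
    rcases hs.eq_bot_or_eq_top_of_normal (Subgroup.center T) inferInstance with h | h
    · have : z ∈ Subgroup.center T := Subgroup.mem_center_iff.mpr hz
      rw [h, Subgroup.mem_bot] at this; exact this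
    · exfalso
      apply hna
      refine ⟨⟨fun a b => ?_⟩⟩
      have : b ∈ Subgroup.center T := by rw [h]; trivial
      exact Subgroup.mem_center_iff.mp this a
  -- an odd prime
  obtain ⟨p, hp, hp2, hpd⟩ : ∃ p : ℕ, p.Prime ∧ p ≠ 2 ∧ p ∣ Nat.card T := by
    obtain ⟨p, q, hp, hq, hpq, ⟨x, hx⟩, ⟨y, hy⟩⟩ := H5Perm3.two_primes hs hna
    by_cases h : p = 2
    · exact ⟨q, hq, fun h2 => hpq (h.trans h2.symm), hy ▸ orderOf_dvd_natCard y⟩
    · exact ⟨p, hp, h, hx ▸ orderOf_dvd_natCard x⟩
  have : Fact p.Prime := ⟨hp⟩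
  have hnpc := not_npc hs hna hpd
  obtain ⟨P⟩ : Nonempty (Sylow p T) := inferInstance
  have hPb : (P : Subgroup T) ≠ ⊥ := P.ne_bot_of_dvd_card hpd
  obtain ⟨⟨z, hz⟩, hz1'⟩ := Subgroup.ne_bot_iff_exists_ne_one.mp (Z_ne_bot P.isPGroup' hPb)
  have hz1 : z ≠ 1 := fun h => hz1' (Subtype.ext h)
  have hzP := (mem_Z.mp hz).1
  have hzc := (mem_Z.mp hz).2
  have hPC : (P : Subgroup T) ≤ Subgroup.centralizer {z} := by
    intro x hx
    rw [Subgroup.mem_centralizer_singleton_iff]
    exact hzc x hx
  by_cases hC : IsPGroup p (Subgroup.centralizer {z})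
  · -- Case 1
    have hPeq : Subgroup.centralizer {z} = (P : Subgroup T) := P.is_maximal' hC hPC
    have hMP : M z ⊓ δ.range = (P : Subgroup T).map δ := by
      ext x
      constructor
      · rintro ⟨h1, u, rfl⟩
        refine ⟨u, ?_, rfl⟩
        rw [SetLike.mem_coe, ← hPeq, Subgroup.mem_centralizer_singleton_iff]
        exact (hM z u).mp h1
      · rintro ⟨u, hu, rfl⟩
        exact ⟨(hM z u).mpr (hzc u hu), u, rfl⟩
    have hMn : M z ≤ Subgroup.normalizer ((P : Subgroup T).map δ : Set H) := by
      rw [← hMP]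
      refine Coprime.le_normalizer_inf Subgroup.le_normalizer ?_
      rw [Subgroup.normalizer_eq_top_iff.mpr hn]; exact le_top
    have hPp : IsPGroup p ((P : Subgroup T).map δ) := P.isPGroup'.map _
    have key : ∀ W : Subgroup T, IsPGroup p W → W ≠ ⊥ → M z ≤ Subgroup.normalizer (W.map δ : Set H) →
        NPC p (Subgroup.normalizer (W : Set T)) := by
      intro W hW hWb hMW
      have h1 : Subgroup.normalizer (W.map δ : Set H) ≠ ⊤ := by
        intro htop
        have hWn : W.Normal := by
          constructor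
          intro w hw u
          have h2 : δ u ∈ Subgroup.normalizer (W.map δ : Set H) := by rw [htop]; trivial
          obtain ⟨w', hw', e⟩ := (Subgroup.mem_normalizer_iff.mp h2 (δ w)).mp ⟨w, hw, rfl⟩
          have h3 : w' = u * w * u⁻¹ := hδ (by rw [e]; simp)
          rw [← h3]; exact hw'
        rcases hs.eq_bot_or_eq_top_of_normal W hWn with h | h
        · exact hWb h
        · rw [h] at hW
          exact H5Perm2.not_isPGroup_of_simple hs hna p (hW.of_equiv Subgroup.topEquiv)
      have h2 : Subgroup.normalizer (W.map δ : Set H) = M z := ((hco z hz1).le_iff.mp hMW).resolve_left h1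
      have h3 : Subgroup.normalizer (W : Set T) ≤ P := by
        intro u hu
        have h4 : δ u ∈ Subgroup.normalizer (W.map δ : Set H) := Subgroup.le_normalizer_map δ ⟨u, hu, rfl⟩
        rw [h2] at h4
        rw [← hPeq, Subgroup.mem_centralizer_singleton_iff]
        exact (hM z u).mp h4
      exact npc_of_isPGroup (P.isPGroup'.to_le h3)
    apply hnpc
    rw [ThompsonNPC.thompson hp2 P]
    constructor
    · apply key _ (P.isPGroup'.to_le (J_le p _)) (J_ne_bot P.isPGroup' hPb)
      rw [← J_map δ hδ.injOn]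
      exact hMn.trans (normalizer_le_normalizer_J p _)
    · refine NPC.of_le (key _ (P.isPGroup'.to_le (Z_le _)) (Z_ne_bot P.isPGroup' hPb) ?_) (centralizer_le_normalizer _)
      rw [← Z_map δ hδ.injOn]
      exact hMn.trans (normalizer_le_normalizer_Z _)
  · -- Case 2
    obtain ⟨y, hyz, hy1, hyo⟩ : ∃ y : T, y * z = z * y ∧ y ≠ 1 ∧ (orderOf y).Coprime p := by
      unfold IsPGroup at hC
      push Not at hC
      obtain ⟨⟨g, hg⟩, hg2⟩ := hC
      rw [Subgroup.mem_centralizer_singleton_iff] at hg
      obtain ⟨i, j, hij, ⟨k, hk⟩, hj⟩ := Core.exists_ppart g p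
      refine ⟨g ^ j, (Commute.pow_left hg j).eq, ?_, ((Nat.Prime.coprime_iff_not_dvd hp).mpr hj).symm⟩
      intro h1
      apply hg2 k
      apply Subtype.ext
      rw [Subgroup.coe_pow, Subgroup.coe_one]
      change g ^ p ^ k = 1
      rw [hij, h1, mul_one, ← hk, pow_orderOf_eq_one]
    have hzo : ∃ n, orderOf z = p ^ n := by
      obtain ⟨n, hn⟩ := (IsPGroup.iff_orderOf.mp P.isPGroup') ⟨z, hzP⟩
      exact ⟨n, by rwa [Subgroup.orderOf_mk] at hn⟩
    obtain ⟨n, hzo⟩ := hzo
    have hzy : M z = M y := by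
      apply hcc z y hz1 hy1 hyz.symm
      rw [hzo]
      exact (Nat.Coprime.pow_right n hyo).symm
    have hCy : ∀ u, u * y = y * u ↔ u * z = z * u := by
      intro u; rw [← hM, ← hM, hzy]
    have hall : ∀ a, a ≠ 1 → a * z = z * a → M a = M z := by
      intro a ha1 haz
      have h1 : orderOf a ≠ 1 := by rwa [Ne, orderOf_eq_one_iff]
      obtain ⟨r, hr, hrd⟩ := Nat.exists_prime_and_dvd h1
      obtain ⟨m, hm⟩ := hrd
      have hm0 : m ≠ 0 := by
        rintro rfl
        have := orderOf_pos a
        omega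
      have hbo : orderOf (a ^ m) = r := by
        rw [orderOf_pow_of_dvd hm0 (by rw [hm]; exact Dvd.intro_left r rfl), hm]
        exact Nat.mul_div_cancel _ (Nat.pos_of_ne_zero hm0)
      have hb1 : a ^ m ≠ 1 := by
        intro h
        rw [h, orderOf_one] at hbo
        exact hr.one_lt.ne hbo
      rw [hpe a m ha1 hb1]
      have hbz : a ^ m * z = z * a ^ m := (Commute.pow_left haz m).eq
      by_cases hrp : r = p
      · rw [hzy]
        apply hcc _ _ hb1 hy1 ((hCy _).mpr hbz)
        rw [hbo, hrp]; exact hyo.symm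
      · apply hcc _ _ hb1 hz1 hbz
        rw [hbo, hzo]
        exact Nat.Coprime.pow_right n ((Nat.coprime_primes hr hp).mpr hrp)
    have hnMz : Subgroup.normalizer (M z : Set H) = M z := by
      refine ((hco z hz1).le_iff.mp Subgroup.le_normalizer).resolve_left ?_
      intro htop
      have hMn : (M z).Normal := Subgroup.normalizer_eq_top_iff.mp htop
      have hCn : (Subgroup.centralizer {z}).Normal := by
        constructor
        intro u hu t
        rw [Subgroup.mem_centralizer_singleton_iff] at hu ⊢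
        rw [← hM] at hu ⊢
        rw [map_mul, map_mul, map_inv]
        exact hMn.conj_mem _ hu _
      rcases hs.eq_bot_or_eq_top_of_normal _ hCn with h | h
      · have : z ∈ Subgroup.centralizer {z} := Subgroup.mem_centralizer_singleton_iff.mpr rfl
        rw [h, Subgroup.mem_bot] at this
        exact hz1 this
      · apply hz1
        apply hcen
        intro u
        have : u ∈ Subgroup.centralizer {z} := by rw [h]; trivial
        exact Subgroup.mem_centralizer_singleton_iff.mp this
    have hNP : Subgroup.normalizer ((P : Subgroup T) : Set T) ≤ Subgroup.centralizer ((P : Subgroup T) : Set T) := by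
      intro n hn
      have h1 : n * z * n⁻¹ ∈ (P : Subgroup T) := (Subgroup.mem_normalizer_iff.mp hn z).mp hzP
      have h2 : n * z * n⁻¹ ≠ 1 := by
        intro h
        apply hz1
        have : n * z = n := by rwa [mul_inv_eq_one] at h
        exact mul_eq_left.mp this
      have h3 := hall _ h2 (hzc _ h1)
      rw [hconj, Core.map_conj_eq_iff, hnMz] at h3
      rw [Subgroup.mem_centralizer_iff]
      intro a ha
      by_cases ha1 : a = 1
      · rw [ha1, one_mul, mul_one]
      · rw [← hall a ha1 (hzc a ha), hM] at h3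
        exact h3.symm
    apply hnpc
    rw [npc_iff_exists P]
    exact ⟨(MonoidHom.transferSylow P hNP).ker, inferInstance, MonoidHom.ker_transferSylow_isComplement' P hNP⟩

end H5Ext
end CfsgLib
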