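import Mathlib
import Cfsg.Agent.Lib.H5Ext
set_option autoImplicit false
set_option linter.unusedSectionVars false
set_option linter.unusedVariables false

/-! Extremely primitive groups: the diagonal case (S3493). -/

namespace CfsgLib
namespace H5Ext

open MulAction
open scoped Pointwise

variable {G : Type*} [Group G] [Finite G] {Ω : Type*} [MulAction G Ω]

theorem center_of_simple {T : Type*} [Group T] (hs : IsSimpleGroup T) (hna : ¬ IsMulCommutative T) :
    ∀ z : T, (∀ u, u * z = z * u) → z = 1 := by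
  intro z hz
  rcases hs.eq_bot_or_eq_top_of_normal (Subgroup.center T) inferInstance with h | h
  · have : z ∈ Subgroup.center T := Subgroup.mem_center_iff.mpr hz
    rw [h, Subgroup.mem_bot] at this; exact this
  · exfalso
    apply hna
    refine ⟨⟨fun a b => ?_⟩⟩
    have : b ∈ Subgroup.center T := by rw [h]; trivial
    exact Subgroup.mem_center_iff.mp this a

theorem diagonal_stage {T S : Subgroup G} (α : Ω) (hs : IsSimpleGroup T) (hna : ¬ IsMulCommutative T)
    (hcomm : ∀ t ∈ T, ∀ s ∈ S, t * s = s * t)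
    (hTtr : ∀ ω : Ω, ∃ t ∈ T, t • α = ω) (hTreg : ∀ t ∈ T, t • α = α → t = 1)
    (hStr : ∀ ω : Ω, ∃ s ∈ S, s • α = ω) (hSreg : ∀ s ∈ S, s • α = α → s = 1)
    (hsw : ∀ h ∈ stabilizer G α, (∀ t ∈ T, h * t * h⁻¹ ∈ T) ∨ (∀ t ∈ T, h * t * h⁻¹ ∈ S))
    (hnorm : ∀ h ∈ stabilizer G α, ∀ t ∈ T, ∀ s ∈ S, ∃ t' ∈ T, ∃ s' ∈ S, h * (t * s) * h⁻¹ = t' * s')
    (hco : ∀ β : Ω, β ≠ α → IsCoatom ((stabilizer G β).subgroupOf (stabilizer G α))) : False := by
  classical
  have hex : ∀ t : T, ∃ s ∈ S, s • α = (t : G)⁻¹ • α := fun t => hStr _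
  choose s hsS hsα using hex
  have huniq : ∀ a ∈ S, ∀ b ∈ S, a • α = b • α → a = b := by
    intro a ha b hb h
    have : b⁻¹ * a = 1 := by
      apply hSreg _ (S.mul_mem (S.inv_mem hb) ha)
      rw [mul_smul, h, inv_smul_smul]
    exact (inv_mul_eq_one.mp this).symm
  have hTuniq : ∀ a ∈ T, ∀ b ∈ T, a • α = b • α → a = b := by
    intro a ha b hb h
    have : b⁻¹ * a = 1 := by
      apply hTreg _ (T.mul_mem (T.inv_mem hb) ha)
      rw [mul_smul, h, inv_smul_smul]
    exact (inv_mul_eq_one.mp this).symm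
  have hst : ∀ t : T, (t : G) * s t ∈ stabilizer G α := by
    intro t
    rw [mem_stabilizer_iff, mul_smul, hsα, smul_inv_smul]
  let δ : T →* stabilizer G α :=
    { toFun := fun t => ⟨(t : G) * s t, hst t⟩
      map_one' := by
        apply Subtype.ext
        change ((1 : T) : G) * s 1 = 1
        rw [Subgroup.coe_one, one_mul]
        apply hSreg _ (hsS _)
        rw [hsα]; simp
      map_mul' := by
        intro t u
        apply Subtype.ext
        change ((t * u : T) : G) * s (t * u) = (t * s t) * (u * s u)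
        have h1 : s (t * u) = s t * s u := by
          apply huniq _ (hsS _) _ (S.mul_mem (hsS _) (hsS _))
          rw [hsα, mul_smul, hsα, ← mul_smul, ← hcomm _ (T.inv_mem u.2) _ (hsS t), mul_smul, hsα, ← mul_smul,
            Subgroup.coe_mul, mul_inv_rev]
        rw [h1, Subgroup.coe_mul]
        have h2 := hcomm _ u.2 _ (hsS t)
        calc (t : G) * u * (s t * s u) = t * (u * s t) * s u := by group
          _ = t * s t * (u * s u) := by rw [h2]; group }
  have hδ : ∀ t : T, ((δ t : stabilizer G α) : G) = (t : G) * s t := fun _ => rfl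
  have hkey : ∀ u t : T, ((δ u : stabilizer G α) : G) • (t : G) • α = ((u * t * u⁻¹ : T) : G) • α := by
    intro u t
    rw [hδ, ← mul_smul]
    have h2 := hcomm _ t.2 _ (hsS u)
    have : (u : G) * s u * t = (u * t) * s u := by rw [mul_assoc, ← h2]; group
    rw [this, mul_smul, hsα, ← mul_smul]
    simp
  have hM : ∀ t u : T, δ u ∈ (stabilizer G ((t : G) • α)).subgroupOf (stabilizer G α) ↔ u * t = t * u := by
    intro t u
    rw [Subgroup.mem_subgroupOf, mem_stabilizer_iff, hkey]
    constructor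
    · intro h
      have h1 := hTuniq _ (u * t * u⁻¹).2 _ t.2 h
      have h2 : u * t * u⁻¹ = t := Subtype.ext h1
      exact mul_inv_eq_iff_eq_mul.mp h2
    · intro h
      have : u * t * u⁻¹ = t := mul_inv_eq_iff_eq_mul.mpr h
      rw [this]
  refine no_extreme hs hna δ ?_ ?_ (fun t => (stabilizer G ((t : G) • α)).subgroupOf (stabilizer G α)) ?_ hM ?_ ?_
  · rw [injective_iff_map_eq_one]
    intro t ht
    apply center_of_simple hs hna
    intro u
    have h1 := (hM u t).mp (by rw [ht]; exact Subgroup.one_mem _)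
    exact h1.symm
  · constructor
    rintro _ ⟨t, rfl⟩ h
    obtain ⟨t', ht', s', hs', e⟩ := hnorm h h.2 t t.2 (s t) (hsS t)
    refine ⟨⟨t', ht'⟩, ?_⟩
    apply Subtype.ext
    change t' * s ⟨t', ht'⟩ = (h : G) * ((t : G) * s t) * (h : G)⁻¹
    rw [e]
    congr 1
    apply huniq _ (hsS _) _ hs'
    rw [hsα]
    have h1 : (t' * s') • α = α := by
      rw [← e]
      have h2 : (h : G) • α = α := h.2
      have h3 : ((h : G)⁻¹) • α = α := by rw [inv_smul_eq_iff]; exact h2.symm
      have h4 : ((t : G) * s t) • α = α := hst t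
      rw [mul_smul, mul_smul, h3, h4, h2]
    rw [mul_smul] at h1
    change (t')⁻¹ • α = s' • α
    rw [inv_smul_eq_iff]; exact h1.symm
  · intro t ht
    apply hco
    intro h
    exact ht (Subtype.ext (hTreg t t.2 h))
  · intro t u
    ext x
    rw [← hkey, Subgroup.mem_subgroupOf, stabilizer_smul_eq_stabilizer_map_conj]
    constructor
    · rintro ⟨y, hy, e⟩
      have hyH : y ∈ stabilizer G α := by
        have : y = ((δ u : stabilizer G α) : G)⁻¹ * x * ((δ u : stabilizer G α) : G) := by
          rw [← e]; simp; group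
        rw [this]
        exact Subgroup.mul_mem _ (Subgroup.mul_mem _ (Subgroup.inv_mem _ (δ u).2) x.2) (δ u).2
      exact ⟨⟨y, hyH⟩, hy, Subtype.ext e⟩
    · rintro ⟨y, hy, e⟩
      exact ⟨y, hy, congrArg Subtype.val e⟩
  · intro t k h hh
    rw [Subgroup.mem_subgroupOf, mem_stabilizer_iff] at hh ⊢
    have hhα : (h : G) • α = α := h.2
    have hhα' : (h : G)⁻¹ • α = α := by rw [inv_smul_eq_iff]; exact hhα.symm
    have e0 : ((h : G) * t * (h : G)⁻¹) • α = (t : G) • α := by rw [mul_smul, mul_smul, hhα', hh]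
    have e1 : (h : G) • ((t ^ k : T) : G) • α = (((h : G) * t * (h : G)⁻¹) ^ k) • α := by
      rw [conj_pow, mul_smul, mul_smul, hhα', Subgroup.coe_pow]
    rw [e1]
    rcases hsw h h.2 with h1 | h1
    · rw [hTuniq _ (h1 t t.2) _ t.2 e0, Subgroup.coe_pow]
    · rw [Subgroup.coe_pow]
      have h2 := h1 t t.2
      clear e1
      induction k with
      | zero => simp
      | succ k ih =>
        rw [pow_succ, mul_smul, e0, ← mul_smul, ← hcomm t t.2 _ (S.pow_mem h2 k), mul_smul, ih, ← mul_smul, ← pow_succ']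

end H5Ext
end CfsgLib
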