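import Mathlib
import Cfsg.Agent.Lib.H5Ext2
set_option autoImplicit false
set_option linter.unusedSectionVars false
set_option linter.unusedVariables false

/-! Extremely primitive groups: product cases (S3493). -/

namespace CfsgLib
namespace H5Ext

open MulAction H5MinNormal H5Sylow H5Perm3
open scoped Pointwise

variable {G : Type*} [Group G] [Finite G] {Ω : Type*} [MulAction G Ω]

theorem comm_mul {u a b : G} (h1 : u * a = a * u) (h2 : u * b = b * u) : u * (a * b) = (a * b) * u :=
  (Commute.mul_right h1 h2).eq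

theorem comm_cancel {u a b : G} (h : u * (a * b) = (a * b) * u) (h2 : u * b = b * u) : u * a = a * u := by
  have h3 : u * a * b = a * u * b := by
    calc u * a * b = u * (a * b) := by group
      _ = (a * b) * u := h
      _ = a * (b * u) := by group
      _ = a * u * b := by rw [← h2]; group
  exact mul_right_cancel h3

theorem comm_cancel_left {u a b : G} (h : u * (a * b) = (a * b) * u) (h1 : u * a = a * u) : u * b = b * u := by
  have h3 : a * (u * b) = a * (b * u) := by
    calc a * (u * b) = (a * u) * b := by group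
      _ = u * (a * b) := by rw [← h1]; group
      _ = a * (b * u) := by rw [h]; group
  exact mul_left_cancel h3

/-- coatom condition in ambient form -/
theorem eq_of_coatom {H X Y : Subgroup G} (hc : IsCoatom (X.subgroupOf H)) (h1 : X ⊓ H ≤ Y) (h2 : Y ≤ H)
    (h3 : Y ≠ H) : Y = X ⊓ H := by
  have h4 : X.subgroupOf H ≤ Y.subgroupOf H := by
    intro x hx
    rw [Subgroup.mem_subgroupOf] at hx ⊢
    exact h1 ⟨hx, x.2⟩
  rcases hc.le_iff.mp h4 with h5 | h5
  · exfalso
    apply h3
    rw [Subgroup.subgroupOf_eq_top] at h5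
    exact le_antisymm h2 h5
  · have h6 := congrArg (fun K : Subgroup H => K.map H.subtype) h5
    simp only [Subgroup.subgroupOf_map_subtype] at h6
    rwa [inf_eq_left.mpr h2] at h6

theorem ne_of_coatom {H X : Subgroup G} (hc : IsCoatom (X.subgroupOf H)) : ¬ H ≤ X := by
  intro h
  exact hc.1 (Subgroup.subgroupOf_eq_top.mpr h)

theorem exists_cj_mem {N T : Subgroup G} (hT : Factor N T) (hN : N.Normal) (α : Ω)
    (htr : ∀ ω : Ω, ∃ n ∈ N, n • α = ω) (g : G) : ∃ h ∈ stabilizer G α, cj g T = cj h T := by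
  obtain ⟨n, hn, hnα⟩ := htr (g • α)
  refine ⟨n⁻¹ * g, ?_, ?_⟩
  · rw [mem_stabilizer_iff, mul_smul, ← hnα, inv_smul_smul]
  · have h1 : g = n * (n⁻¹ * g) := by group
    conv_lhs => rw [h1, ← cj_cj]
    have h2 := (hT.cj hN (n⁻¹ * g)).inv n hn
    apply le_antisymm
    · intro x hx
      rw [mem_cj] at hx
      have := h2 _ hx
      have e : n * (n⁻¹ * x * n) * n⁻¹ = x := by group
      rwa [e] at this
    · intro x hx
      rw [mem_cj]
      have := (hT.cj hN (n⁻¹ * g)).inv n⁻¹ (N.inv_mem hn) x hx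
      rwa [inv_inv] at this

/-- regular product case -/
theorem regular_product {N T : Subgroup G} [FaithfulSMul G Ω] (hN : IsMinNormal N)
    (hna : ¬ ∀ a ∈ N, ∀ b ∈ N, a * b = b * a) (hT : Factor N T) (hcen : cen N T ≠ ⊥) (α : Ω)
    (htr : ∀ ω : Ω, ∃ n ∈ N, n • α = ω) (hreg : ∀ n ∈ N, n • α = α → n = 1)
    (hHb : stabilizer G α ≠ ⊥)
    (hco : ∀ β : Ω, β ≠ α → IsCoatom ((stabilizer G β).subgroupOf (stabilizer G α))) : False := by
  classical
  set H := stabilizer G α with hH
  -- fixing `n • α` is commuting with `n`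
  have hfix : ∀ g ∈ H, ∀ n ∈ N, g • n • α = n • α ↔ g * n = n * g := by
    intro g hg n hn
    have hgα : g⁻¹ • α = α := by rw [inv_smul_eq_iff]; exact (show g • α = α from hg).symm
    constructor
    · intro h
      have h1 : n⁻¹ * (g * n * g⁻¹) ∈ N := N.mul_mem (N.inv_mem hn) (hN.1.conj_mem n hn g)
      have h2 : (n⁻¹ * (g * n * g⁻¹)) • α = α := by
        rw [mul_smul, mul_smul, mul_smul, hgα, h, inv_smul_smul]
      have h3 := hreg _ h1 h2
      have h4 : g * n * g⁻¹ = n := (inv_mul_eq_one.mp h3).symm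
      exact mul_inv_eq_iff_eq_mul.mp h4
    · intro h
      rw [← mul_smul, h, mul_smul, show g • α = α from hg]
  have hne : ∀ n ∈ N, n ≠ 1 → n • α ≠ α := fun n hn h1 h2 => h1 (hreg n hn h2)
  obtain ⟨g0, hg0⟩ := hT.exists_cj_le_cen hN hna hcen
  obtain ⟨h0, hh0, hg0'⟩ := exists_cj_mem hT hN.1 α htr g0
  rw [hg0'] at hg0
  have hTne : ∃ x ∈ T, x ≠ 1 := by
    by_contra hc
    push Not at hc
    exact hT.ne_bot (by rw [eq_bot_iff]; intro x hx; exact hc x hx)
  -- `L`
  set L := H ⊓ Subgroup.normalizer (T : Set G) with hL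
  have hmemL : ∀ {g : G}, g ∈ L ↔ g ∈ H ∧ cj g T = T := by
    intro g
    rw [hL, Subgroup.mem_inf, cj_eq_iff_mem_normalizer]
  have hcent1 : ∀ g, ∀ x ∈ cj g T, (∀ y ∈ cj g T, y * x = x * y) → x = 1 := fun g x hx h =>
    center_cj hN hna hT g hx h
  have hcent : ∀ x ∈ T, (∀ y ∈ T, y * x = x * y) → x = 1 := by
    intro x hx h
    have := hcent1 1 x
    rw [cj_one] at this
    exact this hx h
  have hh0L : h0 ∉ L := by
    intro h
    rw [hmemL] at h
    rw [h.2] at hg0
    obtain ⟨x, hx, hx1⟩ := hTne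
    exact hx1 (hcent x hx (fun y hy => (mem_cen.mp (hg0 hx)).1 y hy))
  have hLH : L ≠ H := fun h => hh0L (h ▸ hh0)
  have hCL : ∀ n ∈ N, n ≠ 1 → (∀ g ∈ H, g * n = n * g → g ∈ L) → ∀ g ∈ L, g * n = n * g := by
    intro n hn hn1 hle g hg
    have h1 := eq_of_coatom (hco (n • α) (hne n hn hn1)) (Y := L) (by
      rintro g ⟨h1, h2⟩
      exact hle g h2 ((hfix g h2 n hn).mp h1)) inf_le_left hLH
    rw [h1] at hg
    exact (hfix g hg.2 n hn).mp hg.1
  -- `L` centralises `T`
  have hxL : ∀ x ∈ T, x ≠ 1 → ∀ g ∈ H, g * x = x * g → g ∈ L := by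
    intro x hx hx1 g hg h
    rw [hmemL]
    refine ⟨hg, ?_⟩
    rcases hT.eq_or_comm hN.1 g with h1 | h1
    · exact h1
    · exfalso
      apply hx1
      apply hcent x hx
      intro y hy
      apply h1 y hy x
      rw [mem_cj]
      rw [mul_assoc, ← h, ← mul_assoc, inv_mul_cancel, one_mul]; exact hx
  have hLT : ∀ g ∈ L, ∀ x ∈ T, g * x = x * g := by
    intro g hg x hx
    by_cases hx1 : x = 1
    · rw [hx1, mul_one, one_mul]
    · exact hCL x (hT.le hx) hx1 (hxL x hx hx1) g hg
  -- three distinct elements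
  obtain ⟨x, hx, hx1⟩ := hTne
  obtain ⟨x', hx', hxx', hx'1⟩ : ∃ x' ∈ T, x' ≠ x ∧ x' ≠ 1 := by
    by_contra hc
    push Not at hc
    apply hx1
    apply hcent x hx
    intro y hy
    by_cases h1 : y = x
    · rw [h1]
    · rw [hc y hy h1, one_mul, mul_one]
  have hconjL : ∀ h ∈ H, ∀ g ∈ L, h⁻¹ * g * h ∈ L := by
    intro h hh g hg
    by_cases hhL : h ∈ L
    · exact L.mul_mem (L.mul_mem (L.inv_mem hhL) hg) hhL
    have hTh : ∀ a ∈ T, ∀ b ∈ cj h T, a * b = b * a := by
      rcases hT.eq_or_comm hN.1 h with h1 | h1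
      · exact absurd (hmemL.mpr ⟨hh, h1⟩) hhL
      · exact h1
    set x2 := h * x' * h⁻¹ with hx2
    have hx2m : x2 ∈ cj h T := by
      rw [mem_cj, hx2]
      have : h⁻¹ * (h * x' * h⁻¹) * h = x' := by group
      rw [this]; exact hx'
    have hn : x * x2 ∈ N := N.mul_mem (hT.le hx) ((hT.cj hN.1 h).le hx2m)
    have hinter : ∀ y ∈ T, y ∈ cj h T → y = 1 := by
      intro y hy hy2
      exact hcent y hy (fun z hz => hTh z hz y hy2)
    have hn1 : x * x2 ≠ 1 := by
      intro h1
      apply hx1
      apply hinter x hx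
      rw [mul_eq_one_iff_eq_inv] at h1
      rw [h1]; exact Subgroup.inv_mem _ hx2m
    have key : ∀ g ∈ H, g * (x * x2) = (x * x2) * g → g ∈ L := by
      intro g hg hgc
      rw [hmemL]
      refine ⟨hg, ?_⟩
      by_contra hgT
      set a := g * x * g⁻¹ with ha
      set b := g * x2 * g⁻¹ with hb
      have hab : a * b = x * x2 := by
        rw [ha, hb]
        have : g * x * g⁻¹ * (g * x2 * g⁻¹) = (g * (x * x2)) * g⁻¹ := by group
        rw [this, hgc]; group
      have ham : a ∈ cj g T := by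
        rw [mem_cj, ha]
        have : g⁻¹ * (g * x * g⁻¹) * g = x := by group
        rw [this]; exact hx
      have hbm : b ∈ cj (g * h) T := by
        rw [mem_cj, hb, hx2]
        have : (g * h)⁻¹ * (g * (h * x' * h⁻¹) * g⁻¹) * (g * h) = x' := by group
        rw [this]; exact hx'
      have ha1 : a ≠ 1 := by
        intro h1
        rw [ha, mul_inv_eq_one] at h1
        exact hx1 (mul_eq_left.mp h1)
      have hgcomm : ∀ u ∈ T, ∀ v ∈ cj g T, u * v = v * u := by
        rcases hT.eq_or_comm hN.1 g with h1 | h1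
        · exact absurd h1 hgT
        · exact h1
      have hggh : ∀ u ∈ cj g T, ∀ v ∈ cj (g * h) T, u * v = v * u := by
        intro u hu v hv
        rw [mem_cj] at hu hv
        have h1 := hTh _ hu (g⁻¹ * v * g) (by
          rw [mem_cj]
          have : h⁻¹ * (g⁻¹ * v * g) * h = (g * h)⁻¹ * v * (g * h) := by group
          rw [this]; exact hv)
        have h2 : g⁻¹ * (u * v) * g = g⁻¹ * (v * u) * g := by
          calc g⁻¹ * (u * v) * g = (g⁻¹ * u * g) * (g⁻¹ * v * g) := by group
            _ = (g⁻¹ * v * g) * (g⁻¹ * u * g) := h1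
            _ = g⁻¹ * (v * u) * g := by group
        exact mul_left_cancel (mul_right_cancel h2)
      have hgh : cj g T = cj h T := by
        rcases cj_eq_or_comm hN.1 hT g h with h1 | h1
        · exact h1
        · exfalso
          apply ha1
          apply hcent1 g a ham
          intro u hu
          have e1 : u * x = x * u := (hgcomm x hx u hu).symm
          have e2 : u * x2 = x2 * u := h1 u hu x2 hx2m
          have e3 : u * b = b * u := hggh u hu b hbm
          have e4 : u * (a * b) = (a * b) * u := by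
            rw [hab]; exact comm_mul e1 e2
          exact comm_cancel e4 e3
      -- `h⁻¹ g` normalises `T`
      have hhgL : h⁻¹ * g ∈ L := by
        rw [hmemL]
        refine ⟨H.mul_mem (H.inv_mem hh) hg, ?_⟩
        rw [← cj_cj, hgh, cj_cj, inv_mul_cancel, cj_one]
      have e6 : a = h * x * h⁻¹ := by
        have h1 := hLT _ hhgL x hx
        rw [ha]
        have h2 : g * x = h * (h⁻¹ * g * x) := by group
        rw [h2, h1]; group
      have hgh2 : cj (g * h) T = T := by
        by_contra hne2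
        have h1 : ∀ u ∈ T, ∀ v ∈ cj (g * h) T, u * v = v * u := by
          rcases hT.eq_or_comm hN.1 (g * h) with h2 | h2
          · exact absurd h2 hne2
          · exact h2
        apply hx1
        apply hcent x hx
        intro u hu
        have e1 : u * a = a * u := hgcomm u hu a ham
        have e2 : u * b = b * u := h1 u hu b hbm
        have e3 : u * x2 = x2 * u := hTh u hu x2 hx2m
        have e4 : u * (x * x2) = (x * x2) * u := by
          rw [← hab]; exact comm_mul e1 e2
        exact comm_cancel e4 e3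
      rw [hgh2] at hbm
      have e7 : b * a = x * x2 := by rw [← hab]; exact hgcomm b hbm a ham
      have e8 : x⁻¹ * b = x2 * a⁻¹ := by
        rw [inv_mul_eq_iff_eq_mul, ← mul_assoc, ← e7]; group
      have e9 : x2 * a⁻¹ = 1 := by
        apply hinter
        · rw [← e8]; exact T.mul_mem (T.inv_mem hx) hbm
        · apply Subgroup.mul_mem _ hx2m
          apply Subgroup.inv_mem
          rw [← hgh]; exact ham
      rw [mul_inv_eq_one, e6, hx2] at e9
      exact hxx' (mul_left_cancel (mul_right_cancel e9))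
    have h3 := hCL _ hn hn1 key g hg
    have h4 : g * x = x * g := hLT g hg x hx
    have h5 : g * x2 = x2 * g := comm_cancel_left h3 h4
    apply hxL x' hx' hx'1 _ (H.mul_mem (H.mul_mem (H.inv_mem hh) (hmemL.mp hg).1) hh)
    rw [hx2] at h5
    have h6 : h⁻¹ * (g * (h * x' * h⁻¹)) * h = h⁻¹ * (h * x' * h⁻¹ * g) * h := by rw [h5]
    calc h⁻¹ * g * h * x' = h⁻¹ * (g * (h * x' * h⁻¹)) * h := by group
      _ = h⁻¹ * (h * x' * h⁻¹ * g) * h := h6
      _ = x' * (h⁻¹ * g * h) := by group
  -- `L = ⊥`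
  have hLb : L = ⊥ := by
    rw [eq_bot_iff]
    intro g hg
    rw [Subgroup.mem_bot]
    have h1 : N ≤ Subgroup.centralizer {g} := by
      apply le_of_all_conj_le hN hT
      intro k
      obtain ⟨h, hh, e⟩ := exists_cj_mem hT hN.1 α htr k
      rw [e]
      intro y hy
      rw [mem_cj] at hy
      rw [Subgroup.mem_centralizer_singleton_iff]
      have h2 := hLT _ (hconjL h hh g hg) _ hy
      have h3 : h⁻¹ * (g * y) * h = h⁻¹ * (y * g) * h := by
        calc h⁻¹ * (g * y) * h = (h⁻¹ * g * h) * (h⁻¹ * y * h) := by group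
          _ = (h⁻¹ * y * h) * (h⁻¹ * g * h) := h2
          _ = h⁻¹ * (y * g) * h := by group
      exact (mul_left_cancel (mul_right_cancel h3)).symm
    apply FaithfulSMul.eq_of_smul_eq_smul (α := Ω)
    intro ω
    obtain ⟨n, hn, rfl⟩ := htr ω
    have h2 := Subgroup.mem_centralizer_singleton_iff.mp (h1 hn)
    rw [one_smul, ← mul_smul, ← h2, mul_smul, show g • α = α from (hmemL.mp hg).1]
  -- `H` acts fixed-point-freely
  have hfpf : ∀ g ∈ H, g ≠ 1 → ∀ n ∈ N, g * n = n * g → n = 1 := by
    intro g hg hg1 n hn hgn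
    by_contra hn1
    -- the stabiliser of `n • α` in `H` is a nontrivial coatom, but `⊥` is a coatom
    have hco1 := hco (n • α) (hne n hn hn1)
    have hco2 : IsCoatom ((stabilizer G (x • α)).subgroupOf H) := hco _ (hne x (hT.le hx) hx1)
    have hb : (stabilizer G (x • α)).subgroupOf H = ⊥ := by
      rw [Subgroup.subgroupOf_eq_bot, disjoint_iff, eq_bot_iff, ← hLb]
      rintro k ⟨hk1, hk2⟩
      exact hxL x hx hx1 k hk2 ((hfix k hk2 x (hT.le hx)).mp hk1)
    rw [hb] at hco2
    have h1 := hco2.2 ((stabilizer G (n • α)).subgroupOf H) (by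
      rw [bot_lt_iff_ne_bot]
      intro h2
      have h3 : (⟨g, hg⟩ : H) ∈ (stabilizer G (n • α)).subgroupOf H := by
        rw [Subgroup.mem_subgroupOf]
        exact (hfix g hg n hn).mpr hgn
      rw [h2, Subgroup.mem_bot] at h3
      exact hg1 (congrArg Subtype.val h3))
    exact hco1.1 h1
  -- an element of prime order
  have h1 : Nat.card H ≠ 1 := by rwa [Ne, Subgroup.card_eq_one]
  obtain ⟨r, hr, hrd⟩ := Nat.exists_prime_and_dvd h1
  have : Fact r.Prime := ⟨hr⟩
  obtain ⟨⟨g, hg⟩, hgo⟩ := exists_prime_orderOf_dvd_card' r hrd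
  rw [Subgroup.orderOf_mk] at hgo
  have hg1 : g ≠ 1 := by
    rintro rfl
    rw [orderOf_one] at hgo
    exact hr.one_lt.ne hgo
  have hinv : ∀ n ∈ N, (MulAut.conj g).toMonoidHom n ∈ N := fun n hn => hN.1.conj_mem n hn g
  have hnil : Group.IsNilpotent N := by
    apply H5Fpf.nilpotent_of_fpf hr (H5Fpf.res (MulAut.conj g).toMonoidHom N hinv)
    · intro n hn
      have h2 : g * (n : G) * g⁻¹ = n := congrArg Subtype.val hn
      exact Subtype.ext (hfpf g hg hg1 n n.2 (mul_inv_eq_iff_eq_mul.mp h2))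
    · funext n
      apply Subtype.ext
      rw [H5Fpf.res_iterate]
      have h3 : ∀ (k : ℕ) (y : G), (MulAut.conj g).toMonoidHom^[k] y = g ^ k * y * (g ^ k)⁻¹ := by
        intro k
        induction k with
        | zero => intro y; simp
        | succ k ih =>
          intro y
          rw [Function.iterate_succ_apply, ih]
          change g ^ k * (g * y * g⁻¹) * (g ^ k)⁻¹ = _
          rw [pow_succ]; group
      rw [h3, ← hgo, pow_orderOf_eq_one]
      simp
  have hNs : Group.IsSolvable N := inferInstance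
  have hTs : Group.IsSolvable T :=
    Group.isSolvable_of_isSolvable_injective (Subgroup.inclusion_injective hT.le)
  have hs := hT.simple hN
  apply hT.not_comm hN hna
  exact ⟨⟨IsSimpleGroup.comm_iff_isSolvable.mpr hTs⟩⟩

end H5Ext
end CfsgLib
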