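import Mathlib
import Cfsg.Agent.Lib.H5Ext3
set_option autoImplicit false
set_option linter.unusedSectionVars false
set_option linter.unusedVariables false

/-! Extremely primitive groups: nonregular product cases (S3493). -/

namespace CfsgLib
namespace H5Ext

open MulAction H5MinNormal H5Sylow H5Perm3
open scoped Pointwise

variable {G : Type*} [Group G] [Finite G] {Ω : Type*} [MulAction G Ω]

theorem nonregular_product {N T : Subgroup G} [FaithfulSMul G Ω] (hN : IsMinNormal N)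
    (hna : ¬ ∀ a ∈ N, ∀ b ∈ N, a * b = b * a) (hT : Factor N T) (hcen : cen N T ≠ ⊥) (α : Ω)
    (hnt : ∃ β : Ω, β ≠ α)
    (htr : ∀ ω : Ω, ∃ n ∈ N, n • α = ω) 
    (hcoH : IsCoatom (stabilizer G α))
    (hMH : ∀ β : Ω, β ≠ α → ∀ h ∈ stabilizer G α, ∃ m ∈ N ⊓ stabilizer G α, h • β = m • β)
    (hco : ∀ β : Ω, β ≠ α → IsCoatom ((stabilizer G β).subgroupOf (stabilizer G α))) : False := by
  classical
  set H := stabilizer G α with hH
  have hfixα : ∀ h ∈ H, h • α = α := fun h hh => hh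
  obtain ⟨g0, hg0⟩ := hT.exists_cj_le_cen hN hna hcen
  obtain ⟨h0, hh0, hg0'⟩ := exists_cj_mem hT hN.1 α htr g0
  rw [hg0'] at hg0
  have hTne : ∃ x ∈ T, x ≠ 1 := by
    by_contra hc
    push Not at hc
    exact hT.ne_bot (by rw [eq_bot_iff]; intro x hx; exact hc x hx)
  have hcent1 : ∀ g, ∀ x ∈ cj g T, (∀ y ∈ cj g T, y * x = x * y) → x = 1 := fun g x hx h =>
    center_cj hN hna hT g hx h
  have hcent : ∀ x ∈ T, (∀ y ∈ T, y * x = x * y) → x = 1 := by
    intro x hx h
    have := hcent1 1 x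
    rw [cj_one] at this
    exact this hx h
  have hconj_mem : ∀ g x : G, x ∈ T → g * x * g⁻¹ ∈ cj g T := by
    intro g x hx
    rw [mem_cj]
    have : g⁻¹ * (g * x * g⁻¹) * g = x := by group
    rw [this]; exact hx
  have hcenT : ∀ c ∈ cen N T, ∀ t ∈ T, t * c = c * t := fun c hc t ht => (mem_cen.mp hc).1 t ht
  have hinter : ∀ y ∈ T, y ∈ cen N T → y = 1 := fun y hy hy2 => hcent y hy (fun z hz => hcenT y hy2 z hz)
  have hNM : ∀ x, x ∈ N → x ∈ H → x ∈ N ⊓ H := fun x h1 h2 => ⟨h1, h2⟩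
  have hMn : ∀ h ∈ H, ∀ m ∈ N ⊓ H, h⁻¹ * m * h ∈ N ⊓ H := by
    rintro h hh m ⟨hm1, hm2⟩
    refine ⟨?_, H.mul_mem (H.mul_mem (H.inv_mem hh) hm2) hh⟩
    have := hN.1.conj_mem m hm1 h⁻¹
    rwa [inv_inv] at this
  -- the projection `R`
  let R : Subgroup G :=
    { carrier := {t | t ∈ T ∧ ∃ c ∈ cen N T, t * c ∈ N ⊓ H}
      one_mem' := ⟨T.one_mem, 1, (cen N T).one_mem, by rw [one_mul]; exact Subgroup.one_mem _⟩
      mul_mem' := by
        rintro a b ⟨ha, c, hc, hac⟩ ⟨hb, d, hd, hbd⟩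
        refine ⟨T.mul_mem ha hb, c * d, (cen N T).mul_mem hc hd, ?_⟩
        have := Subgroup.mul_mem _ hac hbd
        have e : a * b * (c * d) = a * c * (b * d) := by
          have h1 := hcenT c hc b hb
          calc a * b * (c * d) = a * (b * c) * d := by group
            _ = a * c * (b * d) := by rw [h1]; group
        rw [e]; exact this
      inv_mem' := by
        rintro a ⟨ha, c, hc, hac⟩
        refine ⟨T.inv_mem ha, c⁻¹, (cen N T).inv_mem hc, ?_⟩
        have := Subgroup.inv_mem _ hac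
        have e : a⁻¹ * c⁻¹ = (a * c)⁻¹ := by rw [hcenT c hc a ha]; group
        rw [e]; exact this }
  have hmemR : ∀ {t : G}, t ∈ R ↔ t ∈ T ∧ ∃ c ∈ cen N T, t * c ∈ N ⊓ H := fun {t} => Iff.rfl
  by_cases hRT : R = T
  swap
  · -- product action type
    let X : Subgroup G :=
      { carrier := {n | n ∈ N ∧ ∀ h ∈ H, ∃ r ∈ R, ∃ c ∈ cen N T, h⁻¹ * n * h = r * c}
        one_mem' := ⟨N.one_mem, fun h hh => ⟨1, R.one_mem, 1, (cen N T).one_mem, by group⟩⟩
        mul_mem' := by
          rintro a b ⟨ha, ha2⟩ ⟨hb, hb2⟩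
          refine ⟨N.mul_mem ha hb, fun h hh => ?_⟩
          obtain ⟨r, hr, c, hc, e1⟩ := ha2 h hh
          obtain ⟨r', hr', c', hc', e2⟩ := hb2 h hh
          refine ⟨r * r', R.mul_mem hr hr', c * c', (cen N T).mul_mem hc hc', ?_⟩
          have h1 := hcenT c hc r' hr'.1
          calc h⁻¹ * (a * b) * h = (h⁻¹ * a * h) * (h⁻¹ * b * h) := by group
            _ = r * c * (r' * c') := by rw [e1, e2]
            _ = r * (c * r') * c' := by group
            _ = r * r' * (c * c') := by rw [← h1]; group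
        inv_mem' := by
          rintro a ⟨ha, ha2⟩
          refine ⟨N.inv_mem ha, fun h hh => ?_⟩
          obtain ⟨r, hr, c, hc, e1⟩ := ha2 h hh
          refine ⟨r⁻¹, R.inv_mem hr, c⁻¹, (cen N T).inv_mem hc, ?_⟩
          have h1 := hcenT c hc r hr.1
          calc h⁻¹ * a⁻¹ * h = (h⁻¹ * a * h)⁻¹ := by group
            _ = (c * r)⁻¹ := by rw [e1, h1]
            _ = r⁻¹ * c⁻¹ := by group }
    have hXN : ∀ x ∈ X, x ∈ N := fun x hx => hx.1
    have hHX : ∀ h ∈ H, ∀ x ∈ X, h * x * h⁻¹ ∈ X := by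
      rintro h hh x ⟨hx, hx2⟩
      refine ⟨hN.1.conj_mem x hx h, fun k hk => ?_⟩
      obtain ⟨r, hr, c, hc, e⟩ := hx2 (h⁻¹ * k) (H.mul_mem (H.inv_mem hh) hk)
      refine ⟨r, hr, c, hc, ?_⟩
      rw [← e]; group
    have hMX : ∀ m ∈ N ⊓ H, m ∈ X := by
      intro m hm
      refine ⟨hm.1, fun h hh => ?_⟩
      have h1 := hMn h hh m hm
      obtain ⟨t, ht, c, hc, e⟩ := hT.exists_mul hN h1.1
      exact ⟨t, ⟨ht, c, hc, by rw [← e]; exact h1⟩, c, hc, e⟩
    have hXH : X ≤ H := by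
      by_contra hne
      have h1 : H ⊔ X = ⊤ := by
        rcases hcoH.le_iff.mp (le_sup_left : H ≤ H ⊔ X) with h | h
        · exact h
        · exact absurd (le_sup_right.trans h.le) hne
      have h2 : ∀ n ∈ N, n ∈ X := by
        intro n hn
        have hnorm : H ≤ Subgroup.normalizer (X : Set G) := by
          intro h hh
          rw [Subgroup.mem_normalizer_iff]
          intro x
          constructor
          · intro hx; exact hHX h hh x hx
          · intro hx
            have := hHX h⁻¹ (H.inv_mem hh) _ hx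
            have e : h⁻¹ * (h * x * h⁻¹) * h⁻¹⁻¹ = x := by group
            rwa [e] at this
        have h3 : n ∈ X ⊔ H := by rw [sup_comm, h1]; trivial
        obtain ⟨x, hx, h, hh, rfl⟩ := (Coprime.mem_sup_iff hnorm n).mp h3
        have h4 : h ∈ N := by
          have := N.mul_mem (N.inv_mem (hXN x hx)) hn
          have e : x⁻¹ * (x * h) = h := by group
          rwa [e] at this
        exact X.mul_mem hx (hMX h ⟨h4, hh⟩)
      apply hRT
      apply le_antisymm (fun t ht => ht.1)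
      intro t ht
      obtain ⟨r, hr, c, hc, e⟩ := (h2 t (hT.le ht)).2 1 H.one_mem
      have e' : t = r * c := by rw [← e]; group
      have e2 : r⁻¹ * t = c := by rw [e']; group
      have h3 : r⁻¹ * t = 1 := hinter _ (T.mul_mem (T.inv_mem hr.1) ht) (by rw [e2]; exact hc)
      have h4 : t = r := (inv_mul_eq_one.mp h3).symm
      rw [h4]; exact hr
    have hRX : ∀ r ∈ R, r ∈ X := by
      intro r hr
      refine ⟨hT.le hr.1, fun h hh => ?_⟩
      rcases hT.eq_or_comm hN.1 h⁻¹ with h1 | h1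
      · obtain ⟨hrT, c, hc, hrc⟩ := hr
        have e1 : h⁻¹ * r * h ∈ T := by
          have := hconj_mem h⁻¹ r hrT
          rwa [h1, inv_inv] at this
        refine ⟨h⁻¹ * r * h, ⟨e1, h⁻¹ * c * h, ?_, ?_⟩, 1, (cen N T).one_mem, by group⟩
        · rw [mem_cen]
          constructor
          · intro t ht
            have e2 : h * t * h⁻¹ ∈ T := by
              rw [← h1, mem_cj] at ht
              have := ht
              rwa [inv_inv] at this
            have e3 := hcenT c hc _ e2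
            have e4 : h⁻¹ * (h * t * h⁻¹ * c) * h = h⁻¹ * (c * (h * t * h⁻¹)) * h := by rw [e3]
            calc t * (h⁻¹ * c * h) = h⁻¹ * (h * t * h⁻¹ * c) * h := by group
              _ = h⁻¹ * (c * (h * t * h⁻¹)) * h := e4
              _ = h⁻¹ * c * h * t := by group
          · have := hN.1.conj_mem c (mem_cen.mp hc).2 h⁻¹
            rwa [inv_inv] at this
        · have := hMn h hh _ hrc
          have e : h⁻¹ * r * h * (h⁻¹ * c * h) = h⁻¹ * (r * c) * h := by group
          rw [e]; exact this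
      · refine ⟨1, R.one_mem, h⁻¹ * r * h, ?_, by group⟩
        rw [mem_cen]
        have e1 := hconj_mem h⁻¹ r hr.1
        rw [inv_inv] at e1
        exact ⟨fun t ht => h1 t ht _ e1, (hT.cj hN.1 _).le e1⟩
    obtain ⟨t, ht, htR⟩ : ∃ t ∈ T, t ∉ R := by
      by_contra hc
      push Not at hc
      exact hRT (le_antisymm (fun t ht => ht.1) hc)
    have htH : t ∉ H := by
      intro h
      exact htR ⟨ht, 1, (cen N T).one_mem, by rw [mul_one]; exact ⟨hT.le ht, h⟩⟩
    obtain ⟨m, hm, e⟩ := hMH (t • α) (fun h => htH h) h0 hh0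
    have hs : h0 * t * h0⁻¹ ∈ cen N T := hg0 (hconj_mem h0 t ht)
    have ht' : m * t * m⁻¹ ∈ T := hT.inv m hm.1 t ht
    have hinv : ∀ h ∈ H, h⁻¹ • α = α := fun h hh => hfixα _ (H.inv_mem hh)
    have e1 : (h0 * t * h0⁻¹) • α = (m * t * m⁻¹) • α := by
      rw [mul_smul, mul_smul, hinv h0 hh0, e, mul_smul, mul_smul, hinv m hm.2]
    have h1 : (m * t * m⁻¹)⁻¹ * (h0 * t * h0⁻¹) ∈ N ⊓ H := by
      refine ⟨N.mul_mem (N.inv_mem (hT.le ht')) (mem_cen.mp hs).2, ?_⟩
      change ((m * t * m⁻¹)⁻¹ * (h0 * t * h0⁻¹)) • α = α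
      rw [mul_smul, e1, inv_smul_smul]
    have h2 : (m * t * m⁻¹)⁻¹ ∈ R := ⟨T.inv_mem ht', _, hs, h1⟩
    have h3 : (m * t * m⁻¹)⁻¹ ∈ H := hXH (hRX _ h2)
    apply htH
    have h4 := H.mul_mem (H.mul_mem (H.inv_mem hm.2) (H.inv_mem h3)) hm.2
    have e5 : m⁻¹ * (m * t * m⁻¹)⁻¹⁻¹ * m = t := by group
    rwa [e5] at h4
  · -- diagonal type
    have hmemT : ∀ t ∈ T, ∃ c ∈ cen N T, t * c ∈ N ⊓ H := by
      intro t ht
      rw [← hRT] at ht
      exact ht.2
    have hNle : ¬ N ≤ H := by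
      intro h
      obtain ⟨β, hβ⟩ := hnt
      obtain ⟨n, hn, e⟩ := htr β
      exact hβ (by rw [← e]; exact h hn)
    have hTM : ∀ t ∈ T, t ∈ H → t = 1 := by
      have hinv : ∀ n ∈ N, ∀ x ∈ T ⊓ H, n * x * n⁻¹ ∈ T ⊓ H := by
        rintro n hn x ⟨hx1, hx2⟩
        refine ⟨hT.inv n hn x hx1, ?_⟩
        obtain ⟨t, ht, c, hc, rfl⟩ := hT.exists_mul hN hn
        obtain ⟨c', hc', htc⟩ := hmemT t ht
        have e1 : (t * c) * x * (t * c)⁻¹ = (t * c') * x * (t * c')⁻¹ := by
          have h1 := hcenT c hc x hx1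
          have h2 := hcenT c' hc' x hx1
          calc (t * c) * x * (t * c)⁻¹ = t * (c * x) * c⁻¹ * t⁻¹ := by group
            _ = t * x * t⁻¹ := by rw [← h1]; group
            _ = t * (x * c') * c'⁻¹ * t⁻¹ := by group
            _ = (t * c') * x * (t * c')⁻¹ := by rw [h2]; group
        change _ ∈ H
        rw [e1]
        exact H.mul_mem (H.mul_mem htc.2 hx2) (H.inv_mem htc.2)
      rcases hT.min (T ⊓ H) inf_le_left hinv with h | h
      · intro t ht htH
        have : t ∈ T ⊓ H := ⟨ht, htH⟩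
        rwa [h, Subgroup.mem_bot] at this
      · exfalso
        apply hNle
        have hTH : T ≤ H := by rw [← h]; exact inf_le_right
        apply le_of_all_conj_le hN hT
        intro g
        obtain ⟨h, hh, e⟩ := exists_cj_mem hT hN.1 α htr g
        rw [e]
        intro x hx
        rw [mem_cj] at hx
        have := H.mul_mem (H.mul_mem hh (hTH hx)) (H.inv_mem hh)
        have e5 : h * (h⁻¹ * x * h) * h⁻¹ = x := by group
        rwa [e5] at this
    have hSH : ∀ h ∈ H, ∀ s ∈ cj h T, s ∈ H → s = 1 := by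
      intro h hh s hs hsH
      rw [mem_cj] at hs
      have h1 := hTM _ hs (H.mul_mem (H.mul_mem (H.inv_mem hh) hsH) hh)
      have : s = h * (h⁻¹ * s * h) * h⁻¹ := by group
      rw [this, h1]; group
    have hinvα : ∀ h ∈ H, h⁻¹ • α = α := fun h hh => hfixα _ (H.inv_mem hh)
    -- key
    have key1 : ∀ h ∈ H, ∀ s ∈ cj h T, ∃ t ∈ T, t * s ∈ N ⊓ H := by
      intro h hh s hs
      by_cases hs1 : s = 1
      · exact ⟨1, T.one_mem, by rw [hs1, one_mul]; exact Subgroup.one_mem _⟩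
      rw [mem_cj] at hs
      obtain ⟨t, ht⟩ : ∃ t, t = h⁻¹ * s * h := ⟨_, rfl⟩
      rw [← ht] at hs
      have hst : s = h * t * h⁻¹ := by rw [ht]; group
      have hsN : s ∈ N := by rw [hst]; exact hN.1.conj_mem t (hT.le hs) h
      have ht1 : t ≠ 1 := by
        intro h1
        apply hs1
        rw [hst, h1]; group
      have hta : t • α ≠ α := fun h1 => ht1 (hTM t hs h1)
      obtain ⟨m, hm, e⟩ := hMH (t • α) hta h hh
      refine ⟨(m * t * m⁻¹)⁻¹, T.inv_mem (hT.inv m hm.1 t hs), ?_⟩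
      refine ⟨N.mul_mem (N.inv_mem (hT.le (hT.inv m hm.1 t hs))) hsN, ?_⟩
      change ((m * t * m⁻¹)⁻¹ * s) • α = α
      have e1 : s • α = (m * t * m⁻¹) • α := by
        rw [hst, mul_smul, mul_smul, hinvα h hh, e, mul_smul, mul_smul, hinvα m hm.2]
      rw [mul_smul, e1, inv_smul_smul]
    have key2 : ∀ h ∈ H, (∀ a ∈ T, ∀ b ∈ cj h T, a * b = b * a) → ∀ t ∈ T, ∃ s ∈ cj h T, t * s ∈ N ⊓ H := by
      intro h hh hcm
      let P : Subgroup G :=
        { carrier := {t | t ∈ T ∧ ∃ s ∈ cj h T, t * s ∈ N ⊓ H}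
          one_mem' := ⟨T.one_mem, 1, Subgroup.one_mem _, by rw [one_mul]; exact Subgroup.one_mem _⟩
          mul_mem' := by
            rintro a b ⟨ha, c, hc, hac⟩ ⟨hb, d, hd, hbd⟩
            refine ⟨T.mul_mem ha hb, c * d, Subgroup.mul_mem _ hc hd, ?_⟩
            have := Subgroup.mul_mem _ hac hbd
            have e : a * b * (c * d) = a * c * (b * d) := by
              have h1 := hcm b hb c hc
              calc a * b * (c * d) = a * (b * c) * d := by group
                _ = a * c * (b * d) := by rw [h1]; group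
            rw [e]; exact this
          inv_mem' := by
            rintro a ⟨ha, c, hc, hac⟩
            refine ⟨T.inv_mem ha, c⁻¹, Subgroup.inv_mem _ hc, ?_⟩
            have := Subgroup.inv_mem _ hac
            have e : a⁻¹ * c⁻¹ = (a * c)⁻¹ := by rw [hcm a ha c hc]; group
            rw [e]; exact this }
      have hPinv : ∀ n ∈ N, ∀ x ∈ P, n * x * n⁻¹ ∈ P := by
        rintro n hn x ⟨hx, s, hs, hxs⟩
        refine ⟨hT.inv n hn x hx, ?_⟩
        obtain ⟨t1, ht1, c1, hc1, rfl⟩ := hT.exists_mul hN hn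
        obtain ⟨c2, hc2, htc⟩ := hmemT t1 ht1
        have hc2N := (mem_cen.mp hc2).2
        refine ⟨c2 * s * c2⁻¹, (hT.cj hN.1 h).inv c2 hc2N s hs, ?_⟩
        have h1 := hcenT c1 hc1 x hx
        have h2 := hcenT c2 hc2 x hx
        have h3 := hcm t1 ht1 (c2 * s * c2⁻¹) ((hT.cj hN.1 h).inv c2 hc2N s hs)
        have e : (t1 * c1) * x * (t1 * c1)⁻¹ * (c2 * s * c2⁻¹) = (t1 * c2) * (x * s) * (t1 * c2)⁻¹ := by
          have h4 := hcm (x * t1⁻¹) (T.mul_mem hx (T.inv_mem ht1)) (c2 * s * c2⁻¹) ((hT.cj hN.1 h).inv c2 hc2N s hs)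
          have h5 : c2 * (t1 * c2)⁻¹ = t1⁻¹ := by group
          have h6 := hcm t1⁻¹ (T.inv_mem ht1) (c2 * s * c2⁻¹) ((hT.cj hN.1 h).inv c2 hc2N s hs)
          calc (t1 * c1) * x * (t1 * c1)⁻¹ * (c2 * s * c2⁻¹) = t1 * (c1 * x) * c1⁻¹ * t1⁻¹ * (c2 * s * c2⁻¹) := by group
            _ = t1 * x * (t1⁻¹ * (c2 * s * c2⁻¹)) := by rw [← h1]; group
            _ = t1 * (x * c2) * s * c2⁻¹ * t1⁻¹ := by rw [h6]; group
            _ = (t1 * c2) * (x * s) * (t1 * c2)⁻¹ := by rw [h2]; group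
        rw [e]
        exact Subgroup.mul_mem _ (Subgroup.mul_mem _ htc hxs) (Subgroup.inv_mem _ htc)
      rcases hT.min P (fun x hx => hx.1) hPinv with h1 | h1
      · exfalso
        obtain ⟨x, hx, hx1⟩ := hTne
        have hs := hconj_mem h x hx
        obtain ⟨t, ht, hts⟩ := key1 h hh _ hs
        have h2 : t ∈ P := ⟨ht, _, hs, hts⟩
        rw [h1, Subgroup.mem_bot] at h2
        rw [h2, one_mul] at hts
        have h3 := hSH h hh _ hs hts.2
        rw [mul_inv_eq_one] at h3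
        exact hx1 (mul_eq_left.mp h3)
      · intro t ht
        rw [← h1] at ht
        exact ht.2
    -- `T` and `S`
    have hS0 : ∀ a ∈ T, ∀ b ∈ cj h0 T, a * b = b * a := fun a ha b hb => hcenT b (hg0 hb) a ha
    have hTna : ¬ IsMulCommutative T := hT.not_comm hN hna
    have htwo : ∀ h ∈ H, cj h T = T ∨ cj h T = cj h0 T := by
      intro h hh
      by_contra hc
      push Not at hc
      have c1 : ∀ a ∈ T, ∀ b ∈ cj h T, a * b = b * a := (hT.eq_or_comm hN.1 h).resolve_left hc.1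
      have c2 : ∀ a ∈ cj h T, ∀ b ∈ cj h0 T, a * b = b * a := (cj_eq_or_comm hN.1 hT h h0).resolve_left hc.2
      apply hTna
      refine ⟨⟨?_⟩⟩
      rintro ⟨t, ht⟩ ⟨u, hu⟩
      apply Subtype.ext
      change t * u = u * t
      obtain ⟨s, hs, hts⟩ := key2 h0 hh0 hS0 t ht
      obtain ⟨r, hr, hur⟩ := key2 h hh c1 u hu
      have e1 : s * u = u * s := (hS0 u hu s hs).symm
      have e2 : r * t = t * r := (c1 t ht r hr).symm
      have e3 : s * r = r * s := (c2 r hr s hs).symm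
      have e4 : (t * s) * (u * r) * (t * s)⁻¹ * (u * r)⁻¹ = t * u * t⁻¹ * u⁻¹ := by
        have f1 : Commute s u := e1
        have f2 : Commute r t := e2
        have f3 : Commute s r := e3
        calc (t * s) * (u * r) * (t * s)⁻¹ * (u * r)⁻¹ = t * ((s * u) * r) * s⁻¹ * t⁻¹ * r⁻¹ * u⁻¹ := by group
          _ = t * u * (s * r) * s⁻¹ * t⁻¹ * r⁻¹ * u⁻¹ := by rw [e1]; group
          _ = t * u * (r * t⁻¹) * r⁻¹ * u⁻¹ := by rw [e3]; group
          _ = t * u * t⁻¹ * u⁻¹ := by rw [(f2.inv_right).eq]; group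
      have h1 : t * u * t⁻¹ * u⁻¹ ∈ H := by
        rw [← e4]
        exact H.mul_mem (H.mul_mem (H.mul_mem hts.2 hur.2) (H.inv_mem hts.2)) (H.inv_mem hur.2)
      have h2 := hTM _ (T.mul_mem (T.mul_mem (T.mul_mem ht hu) (T.inv_mem ht)) (T.inv_mem hu)) h1
      rw [mul_inv_eq_one, mul_inv_eq_iff_eq_mul] at h2
      exact h2
    have hNTS : ∀ n ∈ N, ∃ t ∈ T, ∃ s ∈ cj h0 T, n = t * s := by
      let K : Subgroup G :=
        { carrier := {x | ∃ t ∈ T, ∃ s ∈ cj h0 T, x = t * s}
          one_mem' := ⟨1, T.one_mem, 1, Subgroup.one_mem _, by group⟩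
          mul_mem' := by
            rintro _ _ ⟨t, ht, c, hc, rfl⟩ ⟨t', ht', c', hc', rfl⟩
            refine ⟨t * t', T.mul_mem ht ht', c * c', Subgroup.mul_mem _ hc hc', ?_⟩
            have := hS0 t' ht' c hc
            calc t * c * (t' * c') = t * (c * t') * c' := by group
              _ = t * t' * (c * c') := by rw [← this]; group
          inv_mem' := by
            rintro _ ⟨t, ht, c, hc, rfl⟩
            refine ⟨t⁻¹, T.inv_mem ht, c⁻¹, Subgroup.inv_mem _ hc, ?_⟩
            rw [hS0 t ht c hc]; group }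
      have hK : N ≤ K := by
        apply le_of_all_conj_le hN hT
        intro g
        obtain ⟨h, hh, e⟩ := exists_cj_mem hT hN.1 α htr g
        rw [e]
        rcases htwo h hh with h1 | h1
        · rw [h1]; intro x hx; exact ⟨x, hx, 1, Subgroup.one_mem _, by group⟩
        · rw [h1]; intro x hx; exact ⟨1, T.one_mem, x, hx, by group⟩
      intro n hn
      exact hK hn
    refine diagonal_stage (T := T) (S := cj h0 T) α (hT.simple hN) hTna hS0 ?_ (fun t ht h => hTM t ht h) ?_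
      (fun s hs h => hSH h0 hh0 s hs h) ?_ ?_ hco
    · intro ω
      obtain ⟨n, hn, rfl⟩ := htr ω
      obtain ⟨t, ht, s, hs, rfl⟩ := hNTS n hn
      obtain ⟨t', ht', h1⟩ := key1 h0 hh0 s hs
      refine ⟨t * t'⁻¹, T.mul_mem ht (T.inv_mem ht'), ?_⟩
      have h2 : (t' * s) • α = α := h1.2
      rw [mul_smul, mul_smul]
      congr 1
      rw [inv_smul_eq_iff, ← mul_smul, h2]
    · intro ω
      obtain ⟨n, hn, rfl⟩ := htr ω
      obtain ⟨t, ht, s, hs, rfl⟩ := hNTS n hn
      obtain ⟨s', hs', h1⟩ := key2 h0 hh0 hS0 t ht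
      refine ⟨s * s'⁻¹, Subgroup.mul_mem _ hs (Subgroup.inv_mem _ hs'), ?_⟩
      have h2 : (t * s') • α = α := h1.2
      rw [hS0 t ht s hs, mul_smul, mul_smul]
      congr 1
      rw [inv_smul_eq_iff, ← mul_smul, ← hS0 t ht s' hs', h2]
    · intro h hh
      rcases htwo h hh with h1 | h1
      · left
        intro t ht
        have := hconj_mem h t ht
        rwa [h1] at this
      · right
        intro t ht
        have := hconj_mem h t ht
        rwa [h1] at this
    · intro h hh t ht s hs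
      have h1 : h * (t * s) * h⁻¹ ∈ N := hN.1.conj_mem _ (N.mul_mem (hT.le ht) ((hT.cj hN.1 h0).le hs)) h
      obtain ⟨t', ht', s', hs', e⟩ := hNTS _ h1
      exact ⟨t', ht', s', hs', e⟩

end H5Ext
end CfsgLib
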