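import Mathlib
import Cfsg.Agent.Lib.H5Perm3

/-! Sharply 2-transitive groups, abelian regular normal subgroups and classes of derangements. -/

set_option autoImplicit false
set_option linter.unusedSectionVars false
set_option linter.unusedVariables false

namespace CfsgLib.H5Perm4

open MulAction CfsgLib.H5Sylow CfsgLib.H5MinNormal CfsgLib.H5Perm2 CfsgLib.H5Perm3

section conj
variable {G : Type*} [Group G] [Finite G]

/-- number of conjugates times order of centralizer -/
theorem card_conjugatesOf (x : G) :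
    (conjugatesOf x).ncard * Nat.card (Subgroup.centralizer ({x} : Set G)) = Nat.card G := by
  have h1 : conjugatesOf x = orbit (ConjAct G) x := by
    ext y
    rw [ConjAct.mem_orbit_conjAct]
    show IsConj x y ↔ IsConj y x
    exact isConj_comm
  have h2 : (Subgroup.centralizer ({x} : Set G)).index = (conjugatesOf x).ncard := by
    rw [h1, ← index_stabilizer, Subgroup.centralizer_eq_comap_stabilizer]
    exact Subgroup.index_comap_of_surjective _ ConjAct.toConjAct.surjective
  rw [← h2]
  exact Subgroup.index_mul_card _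

theorem isConj_of_class_card_one {P : G → Prop}
    (h : Nat.card {c : ConjClasses G // ∃ g : G, ConjClasses.mk g = c ∧ P g} = 1) {a b : G}
    (ha : P a) (hb : P b) : IsConj a b := by
  have h1 := (Nat.card_eq_one_iff_unique.mp h).1
  have h2 := Subsingleton.elim
    (⟨ConjClasses.mk a, a, rfl, ha⟩ : {c : ConjClasses G // ∃ g : G, ConjClasses.mk g = c ∧ P g})
    ⟨ConjClasses.mk b, b, rfl, hb⟩
  exact ConjClasses.mk_eq_mk_iff_isConj.mp (congrArg Subtype.val h2)

theorem class_card_one {P : G → Prop} (a : G) (ha : P a) (h : ∀ b, P b → IsConj a b) :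
    Nat.card {c : ConjClasses G // ∃ g : G, ConjClasses.mk g = c ∧ P g} = 1 := by
  rw [Nat.card_eq_one_iff_unique]
  refine ⟨⟨?_⟩, ⟨⟨ConjClasses.mk a, a, rfl, ha⟩⟩⟩
  rintro ⟨_, x, rfl, hx⟩ ⟨_, y, rfl, hy⟩
  apply Subtype.ext
  exact ConjClasses.mk_eq_mk_iff_isConj.mpr ((h x hx).symm.trans (h y hy))

theorem isConj_of_class_card_two {P : G → Prop}
    (h : Nat.card {c : ConjClasses G // ∃ g : G, ConjClasses.mk g = c ∧ P g} = 2) {a b c : G}
    (ha : P a) (hb : P b) (hc : P c) : IsConj a b ∨ IsConj a c ∨ IsConj b c := by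
  obtain ⟨u, v, huv, huniv⟩ := Nat.card_eq_two_iff.mp h
  have key : ∀ x : G, P x → ConjClasses.mk x = u.1 ∨ ConjClasses.mk x = v.1 := by
    intro x hx
    have h1 : (⟨ConjClasses.mk x, x, rfl, hx⟩ :
      {c : ConjClasses G // ∃ g : G, ConjClasses.mk g = c ∧ P g}) ∈ ({u, v} : Set _) := by
      rw [huniv]; trivial
    rcases h1 with h1 | h1
    · left; exact congrArg Subtype.val h1
    · right; exact congrArg Subtype.val h1
  have e : ∀ x y : G, ConjClasses.mk x = ConjClasses.mk y → IsConj x y := fun x y h =>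
    ConjClasses.mk_eq_mk_iff_isConj.mp h
  rcases key a ha with h1 | h1 <;> rcases key b hb with h2 | h2 <;> rcases key c hc with h3 | h3
  · left; exact e _ _ (h1.trans h2.symm)
  · left; exact e _ _ (h1.trans h2.symm)
  · right; left; exact e _ _ (h1.trans h3.symm)
  · right; right; exact e _ _ (h2.trans h3.symm)
  · right; right; exact e _ _ (h2.trans h3.symm)
  · right; left; exact e _ _ (h1.trans h3.symm)
  · left; exact e _ _ (h1.trans h2.symm)
  · left; exact e _ _ (h1.trans h2.symm)

theorem exists_nonconj_of_class_card_two {P : G → Prop}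
    (h : Nat.card {c : ConjClasses G // ∃ g : G, ConjClasses.mk g = c ∧ P g} = 2) :
    ∃ a b : G, P a ∧ P b ∧ ¬ IsConj a b := by
  obtain ⟨⟨_, u, rfl, hu⟩, ⟨_, v, rfl, hv⟩, huv, huniv⟩ := Nat.card_eq_two_iff.mp h
  refine ⟨u, v, hu, hv, fun hc => huv ?_⟩
  exact Subtype.ext (ConjClasses.mk_eq_mk_iff_isConj.mpr hc)

end conj

variable {G Ω : Type*} [Group G] [Finite G] [MulAction G Ω] [FaithfulSMul G Ω] [Finite Ω]

/-- In a sharply 2-transitive group all derangements are conjugate. -/
theorem sharply_two (hΩ : 2 ≤ Nat.card Ω) (h2 : IsMultiplyPretransitive G Ω 2)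
    (hs : ∀ g : G, g ≠ 1 → ∀ a b : Ω, a ≠ b → g • a = a → g • b ≠ b) {x y : G}
    (hx : Der Ω x) (hy : Der Ω y) : IsConj x y := by
  classical
  have htr : IsPretransitive G Ω := isPretransitive_of_is_two_pretransitive
  obtain ⟨α⟩ : Nonempty Ω := by rw [← Finite.card_pos_iff]; omega
  have hnt : Nontrivial Ω := Finite.one_lt_card_iff_nontrivial.mp (by omega)
  obtain ⟨β, hβ⟩ := exists_ne α
  rw [is_two_pretransitive_iff] at h2
  set n := Nat.card Ω with hn
  -- |G| = n (n-1)
  have hcard : Nat.card G = n * (n - 1) := by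
    have h3 := index_stabilizer_of_transitive G α
    have h4 := (stabilizer G α).index_mul_card
    have h5 : (stabilizer (stabilizer G α) β).index = n - 1 := by
      rw [index_stabilizer]
      have : orbit (stabilizer G α) β = {α}ᶜ := by
        ext z
        constructor
        · rintro ⟨g, rfl⟩ hz
          apply hβ
          have h6 : (g : G) • β = α := hz
          have h7 : (g : G) • α = α := g.2
          exact smul_left_cancel (g : G) (h6.trans h7.symm)
        · intro hz
          obtain ⟨g, hg1, hg2⟩ := h2 (Ne.symm hβ) (Ne.symm hz)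
          exact ⟨⟨g, hg1⟩, hg2⟩
      rw [this, Set.ncard_compl, Set.ncard_singleton]
    have h6 : stabilizer (stabilizer G α) β = ⊥ := by
      rw [eq_bot_iff]
      intro g hg
      rw [Subgroup.mem_bot]
      by_contra hg1
      have hg1' : (g : G) ≠ 1 := fun h => hg1 (Subtype.ext h)
      exact hs _ hg1' α β (Ne.symm hβ) g.2 hg
    rw [h6, Subgroup.index_bot] at h5
    rw [h5, h3] at h4
    exact h4.symm
  -- number of derangements
  have := Fintype.ofFinite G
  have hfix : ∀ g : G, g ≠ 1 → ¬ Der Ω g → Nat.card (fixedBy Ω g) = 1 := by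
    intro g hg hd
    unfold Der at hd
    push Not at hd
    obtain ⟨ω, hω⟩ := hd
    rw [Nat.card_eq_one_iff_unique]
    refine ⟨⟨?_⟩, ⟨⟨ω, hω⟩⟩⟩
    rintro ⟨a, ha⟩ ⟨b, hb⟩
    apply Subtype.ext
    by_contra hab
    exact hs g hg a b hab ha hb
  have hfix0 : ∀ g : G, Der Ω g → Nat.card (fixedBy Ω g) = 0 := by
    intro g hd
    rw [Finite.card_eq_zero_iff]
    exact ⟨fun z => hd z.1 z.2⟩
  have hb := CfsgLib.Derange.burnside_top (G := G) (Ω := Ω)
  rw [CfsgLib.Derange.card_quotient_of_pretransitive htr, one_mul] at hb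
  have hsum : ∀ g : G, Nat.card (fixedBy Ω g) + (if Der Ω g then 1 else 0) =
      1 + (if g = 1 then n - 1 else 0) := by
    intro g
    by_cases hg : g = 1
    · subst hg
      have h1 : ¬ Der Ω (1 : G) := fun h => h α (one_smul G α)
      have h3 : fixedBy Ω (1 : G) = Set.univ := by ext x; simp
      rw [if_neg h1, if_pos rfl, h3, Nat.card_coe_set_eq, Set.ncard_univ]
      omega
    · by_cases hd : Der Ω g
      · rw [if_pos hd, if_neg hg, hfix0 g hd]
      · rw [if_neg hd, if_neg hg, hfix g hg hd]
  have hsum2 := Finset.sum_congr rfl (fun g (_ : g ∈ (Finset.univ : Finset G)) => hsum g)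
  rw [Finset.sum_add_distrib, Finset.sum_add_distrib, hb, Finset.sum_boole,
    Finset.sum_ite_eq' Finset.univ (1 : G) (fun _ => n - 1)] at hsum2
  simp only [Finset.mem_univ, if_true, Finset.sum_const, Finset.card_univ, smul_eq_mul, mul_one,
    ← Nat.card_eq_fintype_card, Nat.cast_id] at hsum2
  have hd : (Finset.univ.filter (fun g : G => Der Ω g)).card = n - 1 := by omega
  -- the centralizer of a derangement
  have hcen : Nat.card (Subgroup.centralizer ({x} : Set G)) ≤ n := by
    have h3 : (Finset.univ.filter (fun g : G => g ∈ Subgroup.centralizer ({x} : Set G))) ⊆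
        insert 1 (Finset.univ.filter (fun g : G => Der Ω g)) := by
      intro g hg
      simp only [Finset.mem_filter, Finset.mem_univ, true_and, Finset.mem_insert] at hg ⊢
      by_cases hg1 : g = 1
      · left; exact hg1
      · right
        intro ω hω
        have h4 : g * x = x * g := Subgroup.mem_centralizer_singleton_iff.mp hg
        have h5 : g • (x • ω) = x • ω := by rw [← mul_smul, h4, mul_smul, hω]
        exact hs g hg1 ω (x • ω) (fun h => hx ω h.symm) hω h5
    have h4 := Finset.card_le_card h3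
    have h5 := Finset.card_insert_le (1 : G) (Finset.univ.filter (fun g : G => Der Ω g))
    have h6 : (Finset.univ.filter (fun g : G => g ∈ Subgroup.centralizer ({x} : Set G))).card =
        Nat.card (Subgroup.centralizer ({x} : Set G)) := by
      rw [Nat.card_eq_fintype_card, Fintype.card_subtype]
    omega
  have hconj := card_conjugatesOf x
  have hle : n - 1 ≤ (conjugatesOf x).ncard := by
    rw [hcard] at hconj
    have h3 : n * (n - 1) ≤ (conjugatesOf x).ncard * n := by
      rw [← hconj]; exact Nat.mul_le_mul_left _ hcen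
    rw [mul_comm n] at h3
    exact Nat.le_of_mul_le_mul_right h3 (by omega)
  have hsub : conjugatesOf x ⊆ {g : G | Der Ω g} := by
    intro g hg ω hω
    have hg' : IsConj x g := hg
    rw [isConj_iff] at hg'
    obtain ⟨c, rfl⟩ := hg'
    apply hx (c⁻¹ • ω)
    rw [eq_inv_smul_iff, ← mul_smul, ← mul_smul]
    exact hω
  have hDn : ({g : G | Der Ω g} : Set G).ncard = n - 1 := by
    rw [← hd, ← Set.ncard_coe_finset]
    congr 1; ext g; simp
  have heq := Set.eq_of_subset_of_ncard_le hsub (by rw [hDn]; exact hle) (Set.toFinite _)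
  have : y ∈ conjugatesOf x := by rw [heq]; exact hy
  exact this

/-- abelian transitive normal subgroup: all nonidentity elements conjugate gives 2-transitivity -/
theorem two_trans_of_conj {N : Subgroup G} (hN : N.Normal)
    (hab : ∀ a ∈ N, ∀ b ∈ N, a * b = b * a) (htr : IsPretransitive N Ω)
    (hconj : ∀ a ∈ N, ∀ b ∈ N, a ≠ 1 → b ≠ 1 → IsConj a b) : IsMultiplyPretransitive G Ω 2 := by
  rw [is_two_pretransitive_iff]
  intro a b c d hab' hcd
  obtain ⟨n, hn⟩ := htr.exists_smul_eq a c
  have hn' : (n : G) • a = c := hn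
  have hb : (n : G) • b ≠ c := fun h => hab' (smul_left_cancel (n : G) (hn'.trans h.symm))
  obtain ⟨u, hu⟩ := htr.exists_smul_eq c ((n : G) • b)
  obtain ⟨v, hv⟩ := htr.exists_smul_eq c d
  have hu' : (u : G) • c = (n : G) • b := hu
  have hv' : (v : G) • c = d := hv
  have hu1 : (u : G) ≠ 1 := by
    intro h; rw [h, one_smul] at hu'; exact hb hu'.symm
  have hv1 : (v : G) ≠ 1 := by
    intro h; rw [h, one_smul] at hv'; exact hcd hv'
  obtain ⟨g, hg⟩ := isConj_iff.mp (hconj u u.2 v v.2 hu1 hv1)
  obtain ⟨m, hm⟩ := htr.exists_smul_eq c (g • c)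
  have hm' : (m : G) • c = g • c := hm
  set h : G := (m : G)⁻¹ * g with hh
  have hhc : h • c = c := by rw [hh, mul_smul, ← hm', inv_smul_smul]
  have hhu : h * u = v * h := by
    have h1 : g * u = v * g := by rw [← hg]; group
    have h2 : (m : G)⁻¹ * v = v * (m : G)⁻¹ := hab _ (N.inv_mem m.2) _ v.2
    rw [hh, mul_assoc, h1, ← mul_assoc, h2, mul_assoc]
  refine ⟨h * n, ?_, ?_⟩
  · rw [mul_smul, hn', hhc]
  · rw [mul_smul, ← hu', ← mul_smul, hhu, mul_smul, hhc, hv']

end CfsgLib.H5Perm4
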