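import Mathlib
import Cfsg.Agent.Lib.H5Perm
import Cfsg.Agent.Lib.H5Perm2
import Cfsg.Agent.Lib.Core
set_option autoImplicit false
set_option linter.unusedSectionVars false
set_option linter.unusedVariables false

/-! Primitive groups with nontrivial Fitting subgroup; conjugation action on elementary abelian groups as matrices. -/

namespace CfsgLib
namespace H5Prim

open MulAction
open scoped Pointwise

theorem exists_glHom_aux {H V : Type*} [Group H] [AddCommGroup V] [Finite V] {p : ℕ} [hp : Fact p.Prime] {e : ℕ}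
    (f : H →* AddMonoid.End V) (hexp : ∀ v : V, p • v = 0) (hcard : Nat.card V = p ^ e) :
    ∃ φ : H →* GL (Fin e) (ZMod p), φ.ker = f.ker := by
  classical
  let _ : Module (ZMod p) V := AddCommGroup.zmodModule (n := p) hexp
  have hrank : Module.finrank (ZMod p) V = e := by
    have h1 : Nat.card V = Nat.card (ZMod p) ^ Module.finrank (ZMod p) V :=
      Module.natCard_eq_pow_finrank
    rw [Nat.card_zmod, hcard] at h1
    exact (Nat.pow_right_injective hp.out.two_le h1).symm
  let b := Module.finBasisOfFinrankEq (ZMod p) V hrank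
  have hz : ∀ (g : V →+ V) (v : V), (AddMonoidHom.toZModLinearMap p g) v = g v :=
    fun g v => congrFun (AddMonoidHom.coe_toZModLinearMap p g) v
  let ρ : H →* Module.End (ZMod p) V :=
    { toFun := fun h => AddMonoidHom.toZModLinearMap p (f h : V →+ V)
      map_one' := LinearMap.ext fun v => (hz _ _).trans (by rw [map_one]; rfl)
      map_mul' := fun g h => LinearMap.ext fun v => (hz _ _).trans (by
        rw [map_mul]
        exact ((hz _ _).trans (congrArg _ (hz _ _))).symm) }
  have hρ : ∀ h v, ρ h v = f h v := fun h v => hz _ _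
  let β : Module.End (ZMod p) V →* Matrix (Fin e) (Fin e) (ZMod p) :=
    { toFun := fun g => LinearMap.toMatrixAlgEquiv b g
      map_one' := map_one (LinearMap.toMatrixAlgEquiv b)
      map_mul' := fun x y => map_mul (LinearMap.toMatrixAlgEquiv b) x y }
  refine ⟨MonoidHom.toHomUnits (β.comp ρ), ?_⟩
  ext h
  rw [MonoidHom.mem_ker, MonoidHom.mem_ker]
  constructor
  · intro h1
    have h2 : LinearMap.toMatrixAlgEquiv b (ρ h) = 1 := congrArg Units.val h1
    have h3 : ρ h = 1 := by
      apply (LinearMap.toMatrixAlgEquiv b).injective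
      rw [h2, map_one]
    refine AddMonoidHom.ext fun v => ((hρ h v).symm.trans ?_)
    rw [h3]; rfl
  · intro h1
    apply Units.ext
    change LinearMap.toMatrixAlgEquiv b (ρ h) = 1
    have h3 : ρ h = 1 := LinearMap.ext fun v => by
      rw [hρ, h1]; rfl
    rw [h3, map_one]

/-- conjugation on an elementary abelian normal subgroup of order `p ^ e` -/
theorem exists_glHom {H : Type*} [Group H] [Finite H] {p : ℕ} [hp : Fact p.Prime] {e : ℕ} (M : Subgroup H) (hM : M.Normal)
    (hab : ∀ x ∈ M, ∀ y ∈ M, x * y = y * x) (hexp : ∀ x ∈ M, x ^ p = 1) (hcard : Nat.card M = p ^ e) :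
    ∃ φ : H →* GL (Fin e) (ZMod p), φ.ker = Subgroup.centralizer (M : Set H) := by
  classical
  let _ : CommGroup M := { (inferInstance : Group M) with mul_comm := fun a b => Subtype.ext (hab a a.2 b b.2) }
  let f : H →* AddMonoid.End (Additive M) :=
    { toFun := fun h => MonoidHom.toAdditive
        { toFun := fun v : M => (⟨h * v * h⁻¹, hM.conj_mem v v.2 h⟩ : M)
          map_one' := Subtype.ext (by simp)
          map_mul' := fun v w => Subtype.ext (by simp) }
      map_one' := AddMonoidHom.ext fun v => Additive.toMul.injective (Subtype.ext (by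
        change (1 : H) * ((Additive.toMul v : M) : H) * (1 : H)⁻¹ = ((Additive.toMul v : M) : H)
        rw [one_mul, inv_one, mul_one]))
      map_mul' := fun g h => AddMonoidHom.ext fun v => Additive.toMul.injective (Subtype.ext (by
        change (g * h) * ((Additive.toMul v : M) : H) * (g * h)⁻¹ = g * (h * ((Additive.toMul v : M) : H) * h⁻¹) * g⁻¹
        group)) }
  have hf : ∀ h v, ((Additive.toMul (f h v) : M) : H) = h * (Additive.toMul v : M) * h⁻¹ := fun h v => rfl
  obtain ⟨φ, hφ⟩ := exists_glHom_aux (p := p) (e := e) f (fun x => by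
    apply Additive.toMul.injective
    apply Subtype.ext
    change ((Additive.toMul x : M) ^ p : M).val = 1
    rw [Subgroup.coe_pow]; exact hexp _ (Additive.toMul x : M).2) hcard
  refine ⟨φ, ?_⟩
  rw [hφ]
  ext h
  rw [MonoidHom.mem_ker, Subgroup.mem_centralizer_iff]
  constructor
  · intro h1 x hx
    have h5 : h * x * h⁻¹ = x := congrArg (fun f : AddMonoid.End (Additive M) =>
      ((Additive.toMul (f (Additive.ofMul ⟨x, hx⟩)) : M) : H)) h1
    exact (mul_inv_eq_iff_eq_mul.mp h5).symm
  · intro h1
    refine AddMonoidHom.ext fun v => Additive.toMul.injective (Subtype.ext ((hf h v).trans ?_))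
    rw [← h1 _ (Additive.toMul v : M).2, mul_inv_cancel_right]; rfl

/-- a faithful primitive group with nontrivial Fitting subgroup -/
theorem prim_fitting {H Δ : Type*} [Group H] [Finite H] [MulAction H Δ] [FaithfulSMul H Δ] [Finite Δ]
    (hprim : IsPreprimitive H Δ) (hF : Cfsg.fittingSubgroup H ≠ ⊥) (δ : Δ) :
    (∀ x ∈ Cfsg.fittingSubgroup H, ∀ y ∈ Cfsg.fittingSubgroup H, x * y = y * x) ∧
    (∃ p : ℕ, p.Prime ∧ (∀ x ∈ Cfsg.fittingSubgroup H, x ^ p = 1) ∧ ∃ e, Nat.card (Cfsg.fittingSubgroup H) = p ^ e) ∧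
    Subgroup.centralizer (Cfsg.fittingSubgroup H : Set H) = Cfsg.fittingSubgroup H ∧
    IsPretransitive (Cfsg.fittingSubgroup H) Δ ∧ Nat.card (Cfsg.fittingSubgroup H) = Nat.card Δ := by
  classical
  have hFn := Core.fitting_normal H
  have hFnil := Core.fitting_nilpotent H
  -- any abelian nontrivial normal subgroup is regular and self-centralizing
  have key : ∀ A : Subgroup H, A.Normal → A ≠ ⊥ → (∀ x ∈ A, ∀ y ∈ A, x * y = y * x) →
      IsPretransitive A Δ ∧ Subgroup.centralizer (A : Set H) = A ∧ Nat.card A = Nat.card Δ := by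
    intro A hAn hAb hAab
    have htr := H5Perm2.transitive_of_normal hprim A hAn hAb
    have h1 : ∀ x, (∀ a ∈ A, a * x = x * a) → x • δ = δ → x = 1 := fun x hx h =>
      H5Perm2.eq_one_of_comm A htr hx h
    refine ⟨htr, ?_, ?_⟩
    · apply le_antisymm
      · intro c hc
        rw [Subgroup.mem_centralizer_iff] at hc
        obtain ⟨a, ha⟩ := htr.exists_smul_eq δ (c • δ)
        have h2 : (a : H)⁻¹ * c = 1 := by
          apply h1
          · intro x hx
            have e1 : x * (a : H)⁻¹ = (a : H)⁻¹ * x := hAab x hx _ (A.inv_mem a.2)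
            rw [← mul_assoc, e1, mul_assoc, hc x hx, mul_assoc]
          · have e1 : (a : H) • δ = c • δ := ha
            rw [mul_smul, ← e1, inv_smul_smul]
        rw [← inv_mul_eq_one.mp h2]
        exact a.2
      · intro a ha
        rw [Subgroup.mem_centralizer_iff]
        intro b hb
        exact hAab b hb a ha
    · apply Nat.card_congr
      refine Equiv.ofBijective (fun a : A => (a : H) • δ) ⟨?_, ?_⟩
      · intro a b hab
        have h2 : (b : H)⁻¹ * a = 1 := by
          apply h1
          · intro x hx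
            exact hAab x hx _ (A.mul_mem (A.inv_mem b.2) a.2)
          · have e1 : (a : H) • δ = (b : H) • δ := hab
            rw [mul_smul, e1, inv_smul_smul]
        exact Subtype.ext (inv_mul_eq_one.mp h2).symm
      · intro ω
        obtain ⟨a, ha⟩ := htr.exists_smul_eq δ ω
        exact ⟨a, ha⟩
  -- the centre of the Fitting subgroup
  set F := Cfsg.fittingSubgroup H with hFdef
  let Z : Subgroup H := (Subgroup.center F).map F.subtype
  have hZn : Z.Normal := by
    have : (Subgroup.center F).Characteristic := inferInstance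
    infer_instance
  have hZb : Z ≠ ⊥ := by
    intro h
    have h1 : Subgroup.center F = ⊥ := (Subgroup.map_eq_bot_iff_of_injective _ F.subtype_injective).mp h
    have hnt : Nontrivial F := (Subgroup.nontrivial_iff_ne_bot F).mpr hF
    have h2 : Nontrivial (Subgroup.center F) := by
      exact (Subgroup.nontrivial_iff_ne_bot _).mpr (Group.IsNilpotent.center_ne_bot _)
    exact (Subgroup.nontrivial_iff_ne_bot _).mp h2 h1
  have hZab : ∀ x ∈ Z, ∀ y ∈ Z, x * y = y * x := by
    rintro _ ⟨x, hx, rfl⟩ _ ⟨y, hy, rfl⟩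
    exact (congrArg Subtype.val (Subgroup.mem_center_iff.mp hx y)).symm
  obtain ⟨-, hZc, -⟩ := key Z hZn hZb hZab
  have hFZ : F ≤ Z := by
    rw [← hZc]
    intro x hx
    rw [Subgroup.mem_centralizer_iff]
    rintro _ ⟨y, hy, rfl⟩
    exact (congrArg Subtype.val (Subgroup.mem_center_iff.mp hy ⟨x, hx⟩)).symm
  have hFab : ∀ x ∈ F, ∀ y ∈ F, x * y = y * x := fun x hx y hy => hZab x (hFZ hx) y (hFZ hy)
  obtain ⟨hFtr, hFc, hFcard⟩ := key F hFn hF hFab
  refine ⟨hFab, ?_, hFc, hFtr, hFcard⟩
  have h1 : Nat.card F ≠ 1 := by rwa [Ne, Subgroup.card_eq_one]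
  obtain ⟨p, hp, hpd⟩ := Nat.exists_prime_and_dvd h1
  have : Fact p.Prime := ⟨hp⟩
  let X : Subgroup H :=
    { carrier := {x | x ∈ F ∧ x ^ p = 1}
      one_mem' := ⟨F.one_mem, one_pow _⟩
      mul_mem' := by
        rintro a b ⟨ha, ha'⟩ ⟨hb, hb'⟩
        refine ⟨F.mul_mem ha hb, ?_⟩
        have : Commute a b := hFab a ha b hb
        rw [this.mul_pow, ha', hb', one_mul]
      inv_mem' := by
        rintro a ⟨ha, ha'⟩
        exact ⟨F.inv_mem ha, by rw [inv_pow, ha', inv_one]⟩ }
  have hXn : X.Normal := by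
    constructor
    rintro x ⟨hx, hx'⟩ g
    exact ⟨hFn.conj_mem x hx g, by rw [conj_pow, hx']; simp⟩
  have hXb : X ≠ ⊥ := by
    obtain ⟨x, hx⟩ := exists_prime_orderOf_dvd_card' p hpd
    intro hXb
    have h2 : (x : H) ∈ X := ⟨x.2, by
      have : x ^ p = 1 := by rw [← hx]; exact pow_orderOf_eq_one x
      exact congrArg Subtype.val this⟩
    rw [hXb, Subgroup.mem_bot] at h2
    have h3 : x = 1 := Subtype.ext h2
    rw [h3, orderOf_one] at hx
    exact hp.one_lt.ne hx
  have hXF : X ≤ F := fun x hx => hx.1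
  obtain ⟨-, -, hXcard⟩ := key X hXn hXb (fun x hx y hy => hFab x hx.1 y hy.1)
  have hXeq : X = F := Subgroup.eq_of_le_of_card_ge hXF (by rw [hXcard, hFcard])
  have hexp : ∀ x ∈ F, x ^ p = 1 := by
    intro x hx
    rw [← hXeq] at hx
    exact hx.2
  refine ⟨p, hp, hexp, ?_⟩
  have hpF : IsPGroup p F := fun x => ⟨1, Subtype.ext (by rw [pow_one]; exact hexp x x.2)⟩
  exact IsPGroup.iff_card.mp hpF

end H5Prim
end CfsgLib
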