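import Cfsg.Agent.Lib.H5TC5

set_option autoImplicit false
set_option maxRecDepth 1000000
set_option maxHeartbeats 0
set_option Elab.async false

namespace Cfsg.Agent.H5TC.A4_120

open Cfsg.Agent.H5TC

/-- number of vertices -/
abbrev n : ℕ := 120
abbrev k : ℕ := 4
abbrev E : ℕ := 16
abbrev En : ℕ := 1920
noncomputable def t0 : ℕ := 0x730070006d006b0077006700650076006200600075005d0074005c0059005700720054007100530050006f004d006e004c004a006c006a004800450069004200680041003f00660064003d003a0063003900370061005f0035005e0036005b0031002f005a002e002c00580056002a0055002b0052002600250051004f0023004e0049004b001f002100200047001c00460044001a0043003e0040001600180017003c003b001b003800110033003200340010000f00300024002d000b002800270029000a0009000d000c0022001e001d000500130012001900150014000200040003000e000700060008000000010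
noncomputable def f0 (c : ℕ) : ℕ := Nat.land (Nat.shiftRight t0 c) 65535
noncomputable def t1 : ℕ := 0x740071006e0077006a00680076006400630075005f0061005c0073005a00720056005800530070006f004f006c004c006d004e0049006b004b006900440066004100670043003e00650040004600390062005e00360060005b0033005d003200340051002e00590055002b005700520028005400270029003000240050002d0021004d00200047004a0048001d003b001b00450038001800420017003c003f003d00140013003a0012001900370035000f00150031000d002f000c0022002c002a0009001e00260025002300060007001f0008001c001a000300040016000e001000110001000a000b0000000500020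
noncomputable def f1 (c : ℕ) : ℕ := Nat.land (Nat.shiftRight t1 c) 65535
noncomputable def t2 : ℕ := 0x7500720077006c006d0076006600670069006100730074005d005b006f0058007000710054005200510059006e004d004b0055006b0048006a00460062006800420040005e0065003d00640063003a0038003b00600035005f003f0032005c003c005a002f002d00300057002a0056004a002700530047004e00500023004f00250020004c0022001e0049002600430045001a0044001c0017004100190015003e003100370012003900340010003600110033000e002c000c002e0029000a002b000b0028000800070024001f00210005001d0004001b001600180002001400130001000f000d00000009000600030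
noncomputable def f2 (c : ℕ) : ℕ := Nat.land (Nat.shiftRight t2 c) 65535
noncomputable def t3 : ℕ := 0x760077006f00710070006900740073007500630062005e006500640072005a00590055006b006a006e006d004e0050004f006c004a00530047006800670043004500440066003f005c003c003b0060005f0061003700390034005d00330031005b0030005700560058002c002e0029005400280026005200510025004c0022004d0021001f004b0049001d00480046001c004100190042001800160040003e0014003d003a0013001100380036000f0035000e0032002f000d000b002d002b0009002a0008002700240006002300050020001e001b0003001a0002001700150001001200100000000c000a000700040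
noncomputable def f3 (c : ℕ) : ℕ := Nat.land (Nat.shiftRight t3 c) 65535
noncomputable def T : ℕ → ℕ → ℕ
  | 0 => f0
  | 1 => f1
  | 2 => f2
  | 3 => f3
  | _ => f0
def inv : ℕ → ℕ
  | 0 => 0
  | 1 => 1
  | 2 => 2
  | 3 => 3
  | y => y
noncomputable def tpv : ℕ := 0x730070006d006b006a00670065006400620060005f005d005c005b0059005700560054005300520050004f004d004c004b004a00490048004700450044004200410040003f003e003d003c003a0039003800370036003500340033003200310031002f002e002d002c002b002a00290028002700260026002500240023002200210020001f001f001e001d001d001c001b001a0019001800170016001600150014001400130012001100110010000f000f000e000e000d000c000b000b000a0009000900080008000700060006000500050005000400030003000200020002000100010001000000000000000000000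
noncomputable def PV (c : ℕ) : ℕ := Nat.land (Nat.shiftRight tpv c) 65535
noncomputable def tpx : ℕ := 0x10000000000010000000000010000000100020000000000010000000100020000000100000001000200000001000200030000000100000001000200000001000200030000000100020000000100020003000100020003000000000001000200000001000200030001000200030000000000010002000300010002000300000002000300010000000100020003000100020003000000020003000100010002000300000002000300010003000200010002000300000002000300010003000200020003000100030002000000020003000100030002000000030002000100030002000100000000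
noncomputable def PX (c : ℕ) : ℕ := Nat.land (Nat.shiftRight tpx c) 65535
/-- relators -/
def rels : List (List ℕ) := [[0, 1, 0, 1, 0, 1], [0, 2, 0, 2], [0, 3, 0, 3], [1, 2, 1, 2, 1, 2], [1, 3, 1, 3], [2, 3, 2, 3, 2, 3]]
/-- trivial relators -/
def relsT : List (List ℕ) := [[0, 0], [1, 1], [2, 2], [3, 3]]
/-- subgroup words -/
def subw : List (List ℕ) := []
/-- further subgroup words -/
def seeds : List (List ℕ) := []
noncomputable def cA0 (i : ℕ) : Bool := chkA 16 1920 f0 f0 (Nat.mul 16 i)
theorem hA0_0 : all2 cA0 6 0 = true := by decide +kernel
theorem hA0_1 : all2 cA0 5 64 = true := by decide +kernel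
theorem hA0_2 : all2 cA0 4 96 = true := by decide +kernel
theorem hA0_3 : all2 cA0 3 112 = true := by decide +kernel
theorem hA0 : ∀ i < 120, cA0 i = true := by
  have h0 : ∀ i < 0, cA0 i = true := fun i hi => absurd hi (Nat.not_lt_zero i)
  have h1 : ∀ i < 64, cA0 i = true := range_step h0 hA0_0 (by norm_num)
  have h2 : ∀ i < 96, cA0 i = true := range_step h1 hA0_1 (by norm_num)
  have h3 : ∀ i < 112, cA0 i = true := range_step h2 hA0_2 (by norm_num)
  have h4 : ∀ i < 120, cA0 i = true := range_step h3 hA0_3 (by norm_num)
  exact h4
noncomputable def cA1 (i : ℕ) : Bool := chkA 16 1920 f1 f1 (Nat.mul 16 i)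
theorem hA1_0 : all2 cA1 6 0 = true := by decide +kernel
theorem hA1_1 : all2 cA1 5 64 = true := by decide +kernel
theorem hA1_2 : all2 cA1 4 96 = true := by decide +kernel
theorem hA1_3 : all2 cA1 3 112 = true := by decide +kernel
theorem hA1 : ∀ i < 120, cA1 i = true := by
  have h0 : ∀ i < 0, cA1 i = true := fun i hi => absurd hi (Nat.not_lt_zero i)
  have h1 : ∀ i < 64, cA1 i = true := range_step h0 hA1_0 (by norm_num)
  have h2 : ∀ i < 96, cA1 i = true := range_step h1 hA1_1 (by norm_num)
  have h3 : ∀ i < 112, cA1 i = true := range_step h2 hA1_2 (by norm_num)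
  have h4 : ∀ i < 120, cA1 i = true := range_step h3 hA1_3 (by norm_num)
  exact h4
noncomputable def cA2 (i : ℕ) : Bool := chkA 16 1920 f2 f2 (Nat.mul 16 i)
theorem hA2_0 : all2 cA2 6 0 = true := by decide +kernel
theorem hA2_1 : all2 cA2 5 64 = true := by decide +kernel
theorem hA2_2 : all2 cA2 4 96 = true := by decide +kernel
theorem hA2_3 : all2 cA2 3 112 = true := by decide +kernel
theorem hA2 : ∀ i < 120, cA2 i = true := by
  have h0 : ∀ i < 0, cA2 i = true := fun i hi => absurd hi (Nat.not_lt_zero i)
  have h1 : ∀ i < 64, cA2 i = true := range_step h0 hA2_0 (by norm_num)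
  have h2 : ∀ i < 96, cA2 i = true := range_step h1 hA2_1 (by norm_num)
  have h3 : ∀ i < 112, cA2 i = true := range_step h2 hA2_2 (by norm_num)
  have h4 : ∀ i < 120, cA2 i = true := range_step h3 hA2_3 (by norm_num)
  exact h4
noncomputable def cA3 (i : ℕ) : Bool := chkA 16 1920 f3 f3 (Nat.mul 16 i)
theorem hA3_0 : all2 cA3 6 0 = true := by decide +kernel
theorem hA3_1 : all2 cA3 5 64 = true := by decide +kernel
theorem hA3_2 : all2 cA3 4 96 = true := by decide +kernel
theorem hA3_3 : all2 cA3 3 112 = true := by decide +kernel
theorem hA3 : ∀ i < 120, cA3 i = true := by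
  have h0 : ∀ i < 0, cA3 i = true := fun i hi => absurd hi (Nat.not_lt_zero i)
  have h1 : ∀ i < 64, cA3 i = true := range_step h0 hA3_0 (by norm_num)
  have h2 : ∀ i < 96, cA3 i = true := range_step h1 hA3_1 (by norm_num)
  have h3 : ∀ i < 112, cA3 i = true := range_step h2 hA3_2 (by norm_num)
  have h4 : ∀ i < 120, cA3 i = true := range_step h3 hA3_3 (by norm_num)
  exact h4
theorem inv_lt : ∀ y < k, inv y < k := by decide
theorem inv_inv : ∀ y < k, inv (inv y) = y := by decide
theorem hA : ∀ y < k, ∀ c, Vc E n c → Vc E n (T y c) ∧ T (inv y) (T y c) = c := by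
  intro y hy c hc
  obtain ⟨i, hi, rfl⟩ := hc
  have hy' : y < 4 := hy
  interval_cases y
  · exact chkA_spec (E := 16) (n := 120) (hA0 i hi)
  · exact chkA_spec (E := 16) (n := 120) (hA1 i hi)
  · exact chkA_spec (E := 16) (n := 120) (hA2 i hi)
  · exact chkA_spec (E := 16) (n := 120) (hA3 i hi)
theorem tab : Tab k inv T (Vc E n) where
  inv_lt := inv_lt
  inv_inv := inv_inv
  maps := fun y hy c hc => (hA y hy c hc).1
  cancel := fun y hy c hc => (hA y hy c hc).2
  zero := ⟨0, by decide, rfl⟩
end Cfsg.Agent.H5TC.A4_120
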