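import Cfsg.Agent.Lib.H5TC5

set_option autoImplicit false
set_option maxRecDepth 1000000
set_option maxHeartbeats 0
set_option Elab.async false

namespace Cfsg.Agent.H5TC.He120

open Cfsg.Agent.H5TC

/-- number of vertices -/
abbrev n : ℕ := 120
abbrev k : ℕ := 4
abbrev E : ℕ := 16
abbrev En : ℕ := 1920
noncomputable def t0 : ℕ := 0x6e006c006a00680067006400630062006100770065007600690075006b007400730060006d007200710070006f006600550053005200510050004f004d004b004a0049005f004c005e005d005c005b005a004800590054005800570056004e003d003c003b003a003900380036003500340033004700460045004400430042003200410040003f003e003700280027002600250024002300220021002000310030002f002e002d002c002b002a00290018001700160015001400130012001f001e001d001c001b001a0019000c000b000a0009000800110010000f000e000d000400030002000700060005000000010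
noncomputable def f0 (c : ℕ) : ℕ := Nat.land (Nat.shiftRight t0 c) 65535
noncomputable def t1 : ℕ := 0x60005e00620072005a00740058006a0056006600590053005c007000510064004f006e004d0068004b007500490077004700760045006b00430073006d0071003f006f003d0041006c003b006900390067003e006500360063003400610033005f0031005d002f005b002e0054002b0057004e0055002800520026005000250029004c0022004a004800200046001e00440042001c001b0040001a0037003c0017003a003800150014003500130032001100300010002d002c002a000d000c0027000b0024002300210008001f001d00060007001900180016000300040012000e000f00010009000a0000000500020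
noncomputable def f1 (c : ℕ) : ℕ := Nat.land (Nat.shiftRight t1 c) 65535
noncomputable def t2 : ℕ := 0x5f006f0071005b0065005900750057007600550067006100520063005d0050006d004e0073004d006a004a006c0048007700470069004400740042007200400070003e006e003c003d006b003a006800380066006400460035006200330060005e004c0030005c002e005a002c0058002a005600530054002700510025004f00240023004b00210049002d001f0045001d004300320041001a003f00190018003b001600390037003600130034001200310010002f000f000e002b00290028000b0026000a0009002200200007001e001c001b00050004001700150014000200110001000d000c00000008000600030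
noncomputable def f2 (c : ℕ) : ℕ := Nat.land (Nat.shiftRight t2 c) 65535
noncomputable def t3 : ℕ := 0x73005d005c0071007700580074006900570067005400520062005100700063006e004f004c004b0068006b004a005a00460045007600750044006000410072006f003f003c006d003b006c006a003a006600370036006500640061003400320031005f005e005b002f002d0059002c00560029002800550053005000260024004e004d00230049002000480047001f0043001c00420040001b0019003e003d0018003900150038003500140012003300300011000f002e002b000d002a0027000c000a0025002200080021001e0006001d0005001a0017000300160002001300010010000e0000000b0009000700040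
noncomputable def f3 (c : ℕ) : ℕ := Nat.land (Nat.shiftRight t3 c) 65535
noncomputable def T : ℕ → ℕ → ℕ
  | 0 => f0
  | 1 => f1
  | 2 => f2
  | 3 => f3
  | _ => f0
def inv : ℕ → ℕ
  | 0 => 0
  | 1 => 1
  | 2 => 2
  | 3 => 3
  | y => y
noncomputable def tpv : ℕ := 0x5f005d005c005b005a00580058005700560055005400520052005100510050004f004e004c004b004b004a0049004800460045004500440043004200410040003f003e003c003c003b003b003a003900380037003600360035003400330032003100310030002f002e002d002c002b002a0029002800280027002600250024002400230022002100200020001f001e001d001c001c001b001a0019001900180017001600150015001400130012001200110010000f000f000e000d000d000c000b000a000a0009000800080007000600060005000500040003000300020002000100010001000000000000000000000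
noncomputable def PV (c : ℕ) : ℕ := Nat.land (Nat.shiftRight tpv c) 65535
noncomputable def tpx : ℕ := 0x200030003000200010003000100020001000200030003000200030001000200010002000300030001000200010002000300030001000200010002000300020001000200030002000300010002000100020003000300010002000100020003000300010002000100020003000200010002000300030001000200010002000300020002000100020003000100020001000200030001000100020003000200020001000200030001000100020003000200010002000300020002000300010001000200030002000200030001000200030001000300020002000300010003000200030002000100030002000100000000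
noncomputable def PX (c : ℕ) : ℕ := Nat.land (Nat.shiftRight tpx c) 65535
/-- relators -/
def rels : List (List ℕ) := [[0, 1, 0, 1], [0, 2, 0, 2], [0, 3, 0, 3], [1, 2, 1, 2, 1, 2, 1, 2, 1, 2, 1, 2, 1, 2, 1, 2, 1, 2, 1, 2], [1, 3, 1, 3], [2, 3, 2, 3, 2, 3], [0, 2, 1, 2, 1, 2, 1, 2, 1, 2, 1], [1, 2, 1, 2, 3, 2, 1, 2, 1, 2, 3, 2, 1, 2, 3]]
/-- trivial relators -/
def relsT : List (List ℕ) := [[0, 0], [1, 1], [2, 2], [3, 3]]
/-- subgroup words -/
def subw : List (List ℕ) := []
/-- further subgroup words -/
def seeds : List (List ℕ) := []
noncomputable def cA0 (i : ℕ) : Bool := chkA 16 1920 f0 f0 (Nat.mul 16 i)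
theorem hA0_0 : all2 cA0 6 0 = true := by decide +kernel
theorem hA0_1 : all2 cA0 5 64 = true := by decide +kernel
theorem hA0_2 : all2 cA0 4 96 = true := by decide +kernel
theorem hA0_3 : all2 cA0 3 112 = true := by decide +kernel
theorem hA0 : ∀ i < 120, cA0 i = true := by
  have h0 : ∀ i < 0, cA0 i = true := fun i hi => absurd hi (Nat.not_lt_zero i)
  have h1 : ∀ i < 64, cA0 i = true := range_step h0 hA0_0 (by norm_num)
  have h2 : ∀ i < 96, cA0 i = true := range_step h1 hA0_1 (by norm_num)
  have h3 : ∀ i < 112, cA0 i = true := range_step h2 hA0_2 (by norm_num)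
  have h4 : ∀ i < 120, cA0 i = true := range_step h3 hA0_3 (by norm_num)
  exact h4
noncomputable def cA1 (i : ℕ) : Bool := chkA 16 1920 f1 f1 (Nat.mul 16 i)
theorem hA1_0 : all2 cA1 6 0 = true := by decide +kernel
theorem hA1_1 : all2 cA1 5 64 = true := by decide +kernel
theorem hA1_2 : all2 cA1 4 96 = true := by decide +kernel
theorem hA1_3 : all2 cA1 3 112 = true := by decide +kernel
theorem hA1 : ∀ i < 120, cA1 i = true := by
  have h0 : ∀ i < 0, cA1 i = true := fun i hi => absurd hi (Nat.not_lt_zero i)
  have h1 : ∀ i < 64, cA1 i = true := range_step h0 hA1_0 (by norm_num)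
  have h2 : ∀ i < 96, cA1 i = true := range_step h1 hA1_1 (by norm_num)
  have h3 : ∀ i < 112, cA1 i = true := range_step h2 hA1_2 (by norm_num)
  have h4 : ∀ i < 120, cA1 i = true := range_step h3 hA1_3 (by norm_num)
  exact h4
noncomputable def cA2 (i : ℕ) : Bool := chkA 16 1920 f2 f2 (Nat.mul 16 i)
theorem hA2_0 : all2 cA2 6 0 = true := by decide +kernel
theorem hA2_1 : all2 cA2 5 64 = true := by decide +kernel
theorem hA2_2 : all2 cA2 4 96 = true := by decide +kernel
theorem hA2_3 : all2 cA2 3 112 = true := by decide +kernel
theorem hA2 : ∀ i < 120, cA2 i = true := by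
  have h0 : ∀ i < 0, cA2 i = true := fun i hi => absurd hi (Nat.not_lt_zero i)
  have h1 : ∀ i < 64, cA2 i = true := range_step h0 hA2_0 (by norm_num)
  have h2 : ∀ i < 96, cA2 i = true := range_step h1 hA2_1 (by norm_num)
  have h3 : ∀ i < 112, cA2 i = true := range_step h2 hA2_2 (by norm_num)
  have h4 : ∀ i < 120, cA2 i = true := range_step h3 hA2_3 (by norm_num)
  exact h4
noncomputable def cA3 (i : ℕ) : Bool := chkA 16 1920 f3 f3 (Nat.mul 16 i)
theorem hA3_0 : all2 cA3 6 0 = true := by decide +kernel
theorem hA3_1 : all2 cA3 5 64 = true := by decide +kernel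
theorem hA3_2 : all2 cA3 4 96 = true := by decide +kernel
theorem hA3_3 : all2 cA3 3 112 = true := by decide +kernel
theorem hA3 : ∀ i < 120, cA3 i = true := by
  have h0 : ∀ i < 0, cA3 i = true := fun i hi => absurd hi (Nat.not_lt_zero i)
  have h1 : ∀ i < 64, cA3 i = true := range_step h0 hA3_0 (by norm_num)
  have h2 : ∀ i < 96, cA3 i = true := range_step h1 hA3_1 (by norm_num)
  have h3 : ∀ i < 112, cA3 i = true := range_step h2 hA3_2 (by norm_num)
  have h4 : ∀ i < 120, cA3 i = true := range_step h3 hA3_3 (by norm_num)
  exact h4
theorem inv_lt : ∀ y < k, inv y < k := by decide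
theorem inv_inv : ∀ y < k, inv (inv y) = y := by decide
theorem hA : ∀ y < k, ∀ c, Vc E n c → Vc E n (T y c) ∧ T (inv y) (T y c) = c := by
  intro y hy c hc
  obtain ⟨i, hi, rfl⟩ := hc
  have hy' : y < 4 := hy
  interval_cases y
  · exact chkA_spec (E := 16) (n := 120) (hA0 i hi)
  · exact chkA_spec (E := 16) (n := 120) (hA1 i hi)
  · exact chkA_spec (E := 16) (n := 120) (hA2 i hi)
  · exact chkA_spec (E := 16) (n := 120) (hA3 i hi)
theorem tab : Tab k inv T (Vc E n) where
  inv_lt := inv_lt
  inv_inv := inv_inv
  maps := fun y hy c hc => (hA y hy c hc).1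
  cancel := fun y hy c hc => (hA y hy c hc).2
  zero := ⟨0, by decide, rfl⟩
end Cfsg.Agent.H5TC.He120
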