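import Cfsg.Agent.Lib.H5TCHe120

set_option autoImplicit false
set_option maxRecDepth 1000000
set_option maxHeartbeats 0
set_option Elab.async false

namespace Cfsg.Agent.H5TC.He120

open Cfsg.Agent.H5TC

noncomputable def rt0 : ℕ := 0x7800750062006b006f006c0061006300740078006e0075004f0062004f006b006f0079006e006c006100630074007900770076004e0055006a0070006d006000640073007700340076004e0055006a00700072006d0034006000640073007200710033004d005400690068003e005f0065006700710033004d005400690068000a003e005f00650067000a0032004c00530066000b003d005e005d00090032004c00530066000b003d005e005d00090031004b004a000c003c004600080031004b004a000c003c004600080030002f000d002e00070030002f000d002e000700030002000100030002000100000000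
noncomputable def g0 (c : ℕ) : ℕ := Nat.land (Nat.shiftRight rt0 c) 65535
noncomputable def rt1 : ℕ := 0x270024005a002100000021000000470000001900400016005000470000001300000019002d00130000005a000000270028002400000050000000000040000000000000001c0035001600000000000000000041002d0000000000000000002c0028000000000000000000420035000000000041001c0000000000000000001b0004000000000000002c0000000000000000004200000000000000560004000000000000001b0000000000000010000000000000002300000000005600000000000000150000000000100000000000230000001d000000000015000000060000001d0000000000060000000000000000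
noncomputable def g1 (c : ℕ) : ℕ := Nat.land (Nat.shiftRight rt1 c) 65535
noncomputable def rt2 : ℕ := 0x1e001f0000002a0022001f0000001e0000001a000e0000001100490000001a0000002a001400110000000e00000000002500490000000000000022000000000000000000000017000000000000000000000014002b00000000000000000025002b0000000000000000000000000000000000170000000000000000000000000000000000000000000500000000000000000005000000000000000000000000000000000000000000000000000000000000000000000000000000000000000000000000000000000000000000000000000000000000000000000000000000000000000000000000000000000000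
noncomputable def g2 (c : ℕ) : ℕ := Nat.land (Nat.shiftRight rt2 c) 65535
noncomputable def rt3 : ℕ := 0x5c000000000020005c0000002000480058005200000000000f00000048001200520051000000000012000f0037005b00000000000000000044005b000000000058005900000000000000000000003a005100000000000000000037003600000000000000000044004500000000004300590000000000000000003a003b0000000000000039003600000000000000570045000000000043003f0000000000000038003b0000000000390029000000000057002600000000003f000000000038001800000000002900000000002600000000000000000018000000000000000000000000000000000000000000000000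
noncomputable def g3 (c : ℕ) : ℕ := Nat.land (Nat.shiftRight rt3 c) 65535
noncomputable def R : ℕ → ℕ → ℕ
  | 0 => g0
  | 1 => g1
  | 2 => g2
  | 3 => g3
  | _ => g0
noncomputable def jt0 : ℕ := 0x200000002000000020001000200010000000100010001000200010002000000000000000000000000000000000000000000010000000100010002000100020000000200010002000100040003000000000000000000000000000000000000000000030001000200010004000300000002000100020003000100000000000000000000000000000000000000020001000200030001000100040003000200000000000000000000000000000001000400030002000200030001000000000000000000000004000300010003000200000000000000030004000500000000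
noncomputable def j0 (c : ℕ) : ℕ := Nat.land (Nat.shiftRight jt0 c) 65535
def lw0 : List (List ℕ) := [[2, 1, 2, 1, 2, 1, 2, 1, 2, 1], [1, 2, 1, 2, 1, 2, 1, 2, 1, 2], [3, 0, 3], [2, 0, 2], [1, 0, 1]]
def hw0 : List (ℕ × ℕ × Bool) := [(6, 0, false), (6, 10, true), (2, 0, false), (1, 0, false), (0, 0, false)]
def lb0 : List (List ℕ × List ℕ) := []
def hb0 : List (ℕ × Bool) := []
noncomputable def cB0 (i : ℕ) : Bool := chkB T R PV PX j0 0 0 (bcf 0 0) lw0 lb0 (Nat.mul 16 i)
theorem hB0_0 : all2 cB0 6 0 = true := by decide +kernel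
theorem hB0_1 : all2 cB0 5 64 = true := by decide +kernel
theorem hB0_2 : all2 cB0 4 96 = true := by decide +kernel
theorem hB0_3 : all2 cB0 3 112 = true := by decide +kernel
theorem hB0 : ∀ i < 120, cB0 i = true := by
  have h0 : ∀ i < 0, cB0 i = true := fun i hi => absurd hi (Nat.not_lt_zero i)
  have h1 : ∀ i < 64, cB0 i = true := range_step h0 hB0_0 (by norm_num)
  have h2 : ∀ i < 96, cB0 i = true := range_step h1 hB0_1 (by norm_num)
  have h3 : ∀ i < 112, cB0 i = true := range_step h2 hB0_2 (by norm_num)
  have h4 : ∀ i < 120, cB0 i = true := range_step h3 hB0_3 (by norm_num)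
  exact h4
theorem hw0' : wsOK2 inv (rels ++ relsT) 0 lw0 hw0 = true := by decide +kernel
theorem hb0' : bsOK inv (subw ++ seeds) 0 lb0 hb0 = true := by decide +kernel
theorem lt0 : ltOK k lw0 = true ∧ ltOK k (lb0.map Prod.fst) = true ∧ ltOK k (lb0.map Prod.snd) = true := by decide +kernel
noncomputable def jt1 : ℕ := 0x1000000000000000000000000000000010000000000000003000000010000000600000003000000010000000400000000000100000000000000000000000100000000000000000000000100000000000000000000000100000000000000000000000400000000000100010000000000000000000000000000000000000001000000000000000000010000000000000000000500000000000000010000000000000000000000000000000000000000000200000000000000000000000000010000000000010000000000000000000100000000000000020000000000020000000000000000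
noncomputable def j1 (c : ℕ) : ℕ := Nat.land (Nat.shiftRight jt1 c) 65535
def lw1 : List (List ℕ) := [[2, 1, 2, 3, 2, 1, 2, 1, 2, 3, 2, 1, 2, 3], [3, 1, 3], [2, 3, 1, 2, 1, 2, 3, 2, 1, 2, 1, 2, 3, 2], [2, 1, 2, 1, 2, 1, 0, 2, 1, 2], [2, 1, 2, 1, 2, 0, 1, 2, 1, 2], [3, 2, 1, 2, 3, 2, 1, 2, 1, 2, 3, 2, 1, 2]]
def hw1 : List (ℕ × ℕ × Bool) := [(7, 0, false), (4, 0, false), (7, 12, false), (6, 4, false), (6, 4, true), (7, 14, true)]
def lb1 : List (List ℕ × List ℕ) := []
def hb1 : List (ℕ × Bool) := []
noncomputable def cB1 (i : ℕ) : Bool := chkB T R PV PX j1 1 1 (bcf 1 1) lw1 lb1 (Nat.mul 16 i)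
theorem hB1_0 : all2 cB1 6 0 = true := by decide +kernel
theorem hB1_1 : all2 cB1 5 64 = true := by decide +kernel
theorem hB1_2 : all2 cB1 4 96 = true := by decide +kernel
theorem hB1_3 : all2 cB1 3 112 = true := by decide +kernel
theorem hB1 : ∀ i < 120, cB1 i = true := by
  have h0 : ∀ i < 0, cB1 i = true := fun i hi => absurd hi (Nat.not_lt_zero i)
  have h1 : ∀ i < 64, cB1 i = true := range_step h0 hB1_0 (by norm_num)
  have h2 : ∀ i < 96, cB1 i = true := range_step h1 hB1_1 (by norm_num)
  have h3 : ∀ i < 112, cB1 i = true := range_step h2 hB1_2 (by norm_num)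
  have h4 : ∀ i < 120, cB1 i = true := range_step h3 hB1_3 (by norm_num)
  exact h4
theorem hw1' : wsOK2 inv (rels ++ relsT) 1 lw1 hw1 = true := by decide +kernel
theorem hb1' : bsOK inv (subw ++ seeds) 1 lb1 hb1 = true := by decide +kernel
theorem lt1 : ltOK k lw1 = true ∧ ltOK k (lb1.map Prod.fst) = true ∧ ltOK k (lb1.map Prod.snd) = true := by decide +kernel
noncomputable def jt2 : ℕ := 0x300000002000000000000000000000000000000050000000600000003000000020000000000000001000000000000000100000000000000000000000000000000000000000000000100000000000000000000000100010000000000000000000000000000000000010000000000000000000000000000000000000000000000000000000000000004000000000000000000000000000000000000000000000000000000000000000000000000000000000000000000000000000000000000000000000000000000000000000000000000000000000000000000000000000000000000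
noncomputable def j2 (c : ℕ) : ℕ := Nat.land (Nat.shiftRight jt2 c) 65535
def lw2 : List (List ℕ) := [[1, 2, 1, 2, 3, 2, 1, 2, 1, 3, 2, 1, 2, 3], [3, 1, 2, 1, 2, 3, 2, 1, 2, 1, 2, 3, 2, 1], [3, 2, 1, 2, 3, 1, 2, 1, 2, 3, 2, 1, 2, 1], [1, 2, 1, 2, 1, 0, 2, 1, 2, 1], [3, 2, 1, 2, 1, 2, 3, 2, 1, 2, 1, 3, 2, 1], [1, 2, 3, 2, 1, 2, 1, 2, 3, 2, 1, 2, 1, 3]]
def hw2 : List (ℕ × ℕ × Bool) := [(7, 5, true), (7, 13, false), (7, 9, false), (6, 5, false), (7, 3, true), (7, 1, true)]
def lb2 : List (List ℕ × List ℕ) := []
def hb2 : List (ℕ × Bool) := []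
noncomputable def cB2 (i : ℕ) : Bool := chkB T R PV PX j2 2 2 (bcf 2 2) lw2 lb2 (Nat.mul 16 i)
theorem hB2_0 : all2 cB2 6 0 = true := by decide +kernel
theorem hB2_1 : all2 cB2 5 64 = true := by decide +kernel
theorem hB2_2 : all2 cB2 4 96 = true := by decide +kernel
theorem hB2_3 : all2 cB2 3 112 = true := by decide +kernel
theorem hB2 : ∀ i < 120, cB2 i = true := by
  have h0 : ∀ i < 0, cB2 i = true := fun i hi => absurd hi (Nat.not_lt_zero i)
  have h1 : ∀ i < 64, cB2 i = true := range_step h0 hB2_0 (by norm_num)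
  have h2 : ∀ i < 96, cB2 i = true := range_step h1 hB2_1 (by norm_num)
  have h3 : ∀ i < 112, cB2 i = true := range_step h2 hB2_2 (by norm_num)
  have h4 : ∀ i < 120, cB2 i = true := range_step h3 hB2_3 (by norm_num)
  exact h4
theorem hw2' : wsOK2 inv (rels ++ relsT) 2 lw2 hw2 = true := by decide +kernel
theorem hb2' : bsOK inv (subw ++ seeds) 2 lb2 hb2 = true := by decide +kernel
theorem lt2 : ltOK k lw2 = true ∧ ltOK k (lb2.map Prod.fst) = true ∧ ltOK k (lb2.map Prod.snd) = true := by decide +kernel
noncomputable def jt3 : ℕ := 0x10000000100000000000000000000000000000001000000010000000000000001000400000000000000000000000000000002000000000001000000000000000000000000000000020000000000000000000100000000000000000000000100000000000000000002000000000000000000010000000000000000000000020000000000000000000200000000000100000000000000000000000200000000000100000000000000010000000000000003000000000001000000000000000300000000000300000000000000000003000000000000000000000000000000000000000000000000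
noncomputable def j3 (c : ℕ) : ℕ := Nat.land (Nat.shiftRight jt3 c) 65535
def lw3 : List (List ℕ) := [[2, 1, 2, 3, 2, 1, 2, 1, 2, 3, 2, 1, 2, 1], [1, 2, 1, 2, 3, 2, 1, 2, 1, 2, 3, 2, 1, 2], [2, 3, 2, 3, 2], [2, 1, 2, 1, 2, 3, 2, 1, 2, 1, 3, 2, 1, 2]]
def hw3 : List (ℕ × ℕ × Bool) := [(7, 0, true), (7, 14, false), (5, 1, false), (7, 4, true)]
def lb3 : List (List ℕ × List ℕ) := []
def hb3 : List (ℕ × Bool) := []
noncomputable def cB3 (i : ℕ) : Bool := chkB T R PV PX j3 3 3 (bcf 3 3) lw3 lb3 (Nat.mul 16 i)
theorem hB3_0 : all2 cB3 6 0 = true := by decide +kernel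
theorem hB3_1 : all2 cB3 5 64 = true := by decide +kernel
theorem hB3_2 : all2 cB3 4 96 = true := by decide +kernel
theorem hB3_3 : all2 cB3 3 112 = true := by decide +kernel
theorem hB3 : ∀ i < 120, cB3 i = true := by
  have h0 : ∀ i < 0, cB3 i = true := fun i hi => absurd hi (Nat.not_lt_zero i)
  have h1 : ∀ i < 64, cB3 i = true := range_step h0 hB3_0 (by norm_num)
  have h2 : ∀ i < 96, cB3 i = true := range_step h1 hB3_1 (by norm_num)
  have h3 : ∀ i < 112, cB3 i = true := range_step h2 hB3_2 (by norm_num)
  have h4 : ∀ i < 120, cB3 i = true := range_step h3 hB3_3 (by norm_num)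
  exact h4
theorem hw3' : wsOK2 inv (rels ++ relsT) 3 lw3 hw3 = true := by decide +kernel
theorem hb3' : bsOK inv (subw ++ seeds) 3 lb3 hb3 = true := by decide +kernel
theorem lt3 : ltOK k lw3 = true ∧ ltOK k (lb3.map Prod.fst) = true ∧ ltOK k (lb3.map Prod.snd) = true := by decide +kernel
noncomputable def J : ℕ → ℕ → ℕ
  | 0 => j0
  | 1 => j1
  | 2 => j2
  | 3 => j3
  | _ => j0
def LW : ℕ → List (List ℕ)
  | 0 => lw0
  | 1 => lw1
  | 2 => lw2
  | 3 => lw3
  | _ => []
def LB : ℕ → List (List ℕ × List ℕ)
  | 0 => lb0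
  | 1 => lb1
  | 2 => lb2
  | 3 => lb3
  | _ => []
theorem rels_lt : ltOK k (rels ++ relsT) = true := by decide +kernel
theorem bases_lt : ltOK k (subw ++ seeds) = true := by decide +kernel
theorem hJ : ∀ y < k, ∀ i < n, chkB T R PV PX (J y) y (inv y) (bcf y (inv y)) (LW y) (LB y) (E * i) = true := by
  intro y hy i hi
  have hy' : y < 4 := hy
  interval_cases y
  · exact hB0 i hi
  · exact hB1 i hi
  · exact hB2 i hi
  · exact hB3 i hi
/-- The certificate theorem, given that the further words lie in the subgroup. -/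
theorem main0 {Γ X : Type*} [Group Γ] [MulAction Γ X] (γ : ℕ → Γ) (x0 : X)
    (hinv : ∀ y < k, γ (inv y) = (γ y)⁻¹) (hr : ∀ r ∈ rels, wd γ r = 1)
    (hb : ∀ b ∈ subw ++ seeds, (wd γ b)⁻¹ • x0 = x0) :
    ∃ p : ℕ → X, p 0 = x0 ∧ ∀ y < k, ∀ c, Vc E n c → (γ y)⁻¹ • p c = p (T y c) := by
  have hr' : ∀ r ∈ rels ++ relsT, wd γ r = 1 := by
    intro r h
    rcases List.mem_append.1 h with h | h
    · exact hr r h
    · simp only [relsT, List.mem_cons, List.not_mem_nil, or_false] at h
      rcases h with rfl | rfl | rfl | rfl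
      · have := hinv 0 (by decide); simp only [wd_cons, wd_nil, mul_one]; exact mul_eq_one_iff_inv_eq.2 (show γ 0 = (γ 0)⁻¹ from this).symm
      · have := hinv 1 (by decide); simp only [wd_cons, wd_nil, mul_one]; exact mul_eq_one_iff_inv_eq.2 (show γ 1 = (γ 1)⁻¹ from this).symm
      · have := hinv 2 (by decide); simp only [wd_cons, wd_nil, mul_one]; exact mul_eq_one_iff_inv_eq.2 (show γ 2 = (γ 2)⁻¹ from this).symm
      · have := hinv 3 (by decide); simp only [wd_cons, wd_nil, mul_one]; exact mul_eq_one_iff_inv_eq.2 (show γ 3 = (γ 3)⁻¹ from this).symm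
  have hi : ∀ r ∈ rels ++ relsT, ∀ y ∈ r, γ (inv y) = (γ y)⁻¹ := fun r h y hy =>
    hinv y (ltOK_spec _ rels_lt r h y hy)
  have hi2 : ∀ r ∈ subw ++ seeds, ∀ y ∈ r, γ (inv y) = (γ y)⁻¹ := fun r h y hy =>
    hinv y (ltOK_spec _ bases_lt r h y hy)
  refine mc_thm γ x0 (J := J) tab hinv LW LB ?_ ?_ hJ
  · intro y hy
    have hy' : y < 4 := hy
    interval_cases y
    · exact fun w hw => ⟨wsOK2_spec γ hr' hi 0 lw0 hw0 hw0' w hw, ltOK_spec _ lt0.1 w hw⟩
    · exact fun w hw => ⟨wsOK2_spec γ hr' hi 1 lw1 hw1 hw1' w hw, ltOK_spec _ lt1.1 w hw⟩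
    · exact fun w hw => ⟨wsOK2_spec γ hr' hi 2 lw2 hw2 hw2' w hw, ltOK_spec _ lt2.1 w hw⟩
    · exact fun w hw => ⟨wsOK2_spec γ hr' hi 3 lw3 hw3 hw3' w hw, ltOK_spec _ lt3.1 w hw⟩
  · intro y hy
    have hy' : y < 4 := hy
    interval_cases y
    · exact fun w hw => ⟨bsOK_spec γ x0 hb hi2 0 lb0 hb0 hb0' w hw, ltOK_spec _ lt0.2.1 w.1 (List.mem_map.2 ⟨w, hw, rfl⟩), ltOK_spec _ lt0.2.2 w.2 (List.mem_map.2 ⟨w, hw, rfl⟩)⟩
    · exact fun w hw => ⟨bsOK_spec γ x0 hb hi2 1 lb1 hb1 hb1' w hw, ltOK_spec _ lt1.2.1 w.1 (List.mem_map.2 ⟨w, hw, rfl⟩), ltOK_spec _ lt1.2.2 w.2 (List.mem_map.2 ⟨w, hw, rfl⟩)⟩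
    · exact fun w hw => ⟨bsOK_spec γ x0 hb hi2 2 lb2 hb2 hb2' w hw, ltOK_spec _ lt2.2.1 w.1 (List.mem_map.2 ⟨w, hw, rfl⟩), ltOK_spec _ lt2.2.2 w.2 (List.mem_map.2 ⟨w, hw, rfl⟩)⟩
    · exact fun w hw => ⟨bsOK_spec γ x0 hb hi2 3 lb3 hb3 hb3' w hw, ltOK_spec _ lt3.2.1 w.1 (List.mem_map.2 ⟨w, hw, rfl⟩), ltOK_spec _ lt3.2.2 w.2 (List.mem_map.2 ⟨w, hw, rfl⟩)⟩
end Cfsg.Agent.H5TC.He120
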