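import Cfsg.Agent.Lib.H5TC7
import Cfsg.Agent.Lib.H5TCHe2058H
import Cfsg.Agent.Lib.H5TCHe2058M
import Cfsg.Agent.Lib.H5TCHe2058O

set_option autoImplicit false
set_option linter.unusedSimpArgs false

namespace Cfsg.Agent.H5TC.He2058

open Cfsg.Agent.H5TC

abbrev HH : Subgroup Cfsg.Spor.He := (((Subgroup.closure ({Cfsg.Spor.He.a, Cfsg.Spor.He.c, Cfsg.Spor.He.d, Cfsg.Spor.He.e, Cfsg.Spor.He.f, (Cfsg.Spor.He.a * Cfsg.Spor.He.b) ^ 2, (Cfsg.Spor.He.b * Cfsg.Spor.He.c * Cfsg.Spor.He.d * Cfsg.Spor.He.e) ^ 7} : Set (FreeGroup Cfsg.Spor.He.Gen))).map (PresentedGroup.mk (Cfsg.Spor.coxRelators Cfsg.Spor.He.edges ∪ {r | r ∈ Cfsg.Spor.He.extra}))))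
theorem sw0 : (PresentedGroup.mk (Cfsg.Spor.coxRelators Cfsg.Spor.He.edges ∪ {r | r ∈ Cfsg.Spor.He.extra})) (Cfsg.Spor.He.a) = wd HeG.γ [0] := by
  rw [wd_cons, wd_nil, mul_one]
  rfl
theorem sw1 : (PresentedGroup.mk (Cfsg.Spor.coxRelators Cfsg.Spor.He.edges ∪ {r | r ∈ Cfsg.Spor.He.extra})) (Cfsg.Spor.He.c) = wd HeG.γ [2] := by
  rw [wd_cons, wd_nil, mul_one]
  rfl
theorem sw2 : (PresentedGroup.mk (Cfsg.Spor.coxRelators Cfsg.Spor.He.edges ∪ {r | r ∈ Cfsg.Spor.He.extra})) (Cfsg.Spor.He.d) = wd HeG.γ [3] := by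
  rw [wd_cons, wd_nil, mul_one]
  rfl
theorem sw3 : (PresentedGroup.mk (Cfsg.Spor.coxRelators Cfsg.Spor.He.edges ∪ {r | r ∈ Cfsg.Spor.He.extra})) (Cfsg.Spor.He.e) = wd HeG.γ [4] := by
  rw [wd_cons, wd_nil, mul_one]
  rfl
theorem sw4 : (PresentedGroup.mk (Cfsg.Spor.coxRelators Cfsg.Spor.He.edges ∪ {r | r ∈ Cfsg.Spor.He.extra})) (Cfsg.Spor.He.f) = wd HeG.γ [5] := by
  rw [wd_cons, wd_nil, mul_one]
  rfl
theorem sw5 : (PresentedGroup.mk (Cfsg.Spor.coxRelators Cfsg.Spor.He.edges ∪ {r | r ∈ Cfsg.Spor.He.extra})) ((Cfsg.Spor.He.a * Cfsg.Spor.He.b) ^ 2) = wd HeG.γ [0, 1, 0, 1] := by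
  simp only [map_pow, map_mul, pow_succ, pow_zero, one_mul, mul_assoc, wd_cons, wd_nil, mul_one]
  rfl
theorem sw6 : (PresentedGroup.mk (Cfsg.Spor.coxRelators Cfsg.Spor.He.edges ∪ {r | r ∈ Cfsg.Spor.He.extra})) ((Cfsg.Spor.He.b * Cfsg.Spor.He.c * Cfsg.Spor.He.d * Cfsg.Spor.He.e) ^ 7) = wd HeG.γ [1, 2, 3, 4, 1, 2, 3, 4, 1, 2, 3, 4, 1, 2, 3, 4, 1, 2, 3, 4, 1, 2, 3, 4, 1, 2, 3, 4] := by
  simp only [map_pow, map_mul, pow_succ, pow_zero, one_mul, mul_assoc, wd_cons, wd_nil, mul_one]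
  rfl
theorem HH_eq : HH = Subgroup.closure {g | ∃ w ∈ subw, g = wd HeG.γ w} := by
  apply map_closure_eq
  · rintro s (rfl | rfl | rfl | rfl | rfl | rfl | rfl)
    · exact ⟨[0], by simp [subw], sw0⟩
    · exact ⟨[2], by simp [subw], sw1⟩
    · exact ⟨[3], by simp [subw], sw2⟩
    · exact ⟨[4], by simp [subw], sw3⟩
    · exact ⟨[5], by simp [subw], sw4⟩
    · exact ⟨[0, 1, 0, 1], by simp [subw], sw5⟩
    · exact ⟨[1, 2, 3, 4, 1, 2, 3, 4, 1, 2, 3, 4, 1, 2, 3, 4, 1, 2, 3, 4, 1, 2, 3, 4, 1, 2, 3, 4], by simp [subw], sw6⟩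
  · intro w hw
    simp only [subw, List.mem_cons, List.not_mem_nil, or_false] at hw
    rcases hw with rfl | rfl | rfl | rfl | rfl | rfl | rfl
    · exact ⟨Cfsg.Spor.He.a, by simp, sw0⟩
    · exact ⟨Cfsg.Spor.He.c, by simp, sw1⟩
    · exact ⟨Cfsg.Spor.He.d, by simp, sw2⟩
    · exact ⟨Cfsg.Spor.He.e, by simp, sw3⟩
    · exact ⟨Cfsg.Spor.He.f, by simp, sw4⟩
    · exact ⟨(Cfsg.Spor.He.a * Cfsg.Spor.He.b) ^ 2, by simp, sw5⟩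
    · exact ⟨(Cfsg.Spor.He.b * Cfsg.Spor.He.c * Cfsg.Spor.He.d * Cfsg.Spor.He.e) ^ 7, by simp, sw6⟩
theorem hinv : ∀ y < k, HeG.γ (inv y) = (HeG.γ y)⁻¹ := by
  intro y hy
  rw [HeG.γ_inv y hy]
  have hy' : y < 7 := hy
  interval_cases y <;> rfl

theorem hr : ∀ r ∈ rels, wd HeG.γ r = 1 := by
  have : rels = HeG.fullrels := by decide +kernel
  rw [this]
  exact HeG.fullrels_spec

theorem subw_lt' : ∀ w ∈ subw, ∀ y ∈ w, y < k := ltOK_spec _ (by decide +kernel)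

theorem core : HH.index = n ∧ ∃ φ : Cfsg.Spor.He →* Equiv.Perm {c // Vc E n c}, ∃ p : ℕ → Cfsg.Spor.He ⧸ HH,
    p 0 = ((1 : Cfsg.Spor.He) : Cfsg.Spor.He ⧸ HH) ∧ (∀ y < k, φ (HeG.γ y) = tab.perm y) ∧
      Function.Bijective (fun c : {c // Vc E n c} => p c) ∧
      ∀ (g : Cfsg.Spor.He) (c : {c // Vc E n c}), p (φ g c : {c // Vc E n c}) = g • p c := by
  obtain ⟨φ, hφ⟩ := hom
  obtain ⟨h1, p, hp0, h2, h3⟩ := full_thm HeG.γ tab (by norm_num) hinv HeG.gen_top φ hφ htree HH subw subw_lt' HH_eq (by decide +kernel)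
    (main HeG.γ _ hinv hr (fix_words HeG.γ HH_eq))
  exact ⟨h1, φ, p, hp0, hφ, h2, h3⟩

theorem orb (φ : Cfsg.Spor.He →* Equiv.Perm {c // Vc E n c}) (p : ℕ → Cfsg.Spor.He ⧸ HH)
    (hφ : ∀ y < k, φ (HeG.γ y) = tab.perm y)
    (h2 : Function.Bijective (fun c : {c // Vc E n c} => p c))
    (h3 : ∀ (g : Cfsg.Spor.He) (c : {c // Vc E n c}), p (φ g c : {c // Vc E n c}) = g • p c)
    (l : ℕ) (hroot : Vc E n (nthN O.roots l)) (hrl : O.Lab (nthN O.roots l) = l) :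
    (MulAction.orbit HH (p (nthN O.roots l))) = p '' {c | Vc E n c ∧ O.Lab c = l} ∧
    (MulAction.orbit HH (p (nthN O.roots l))).ncard = {c | Vc E n c ∧ O.Lab c = l}.ncard :=
  orbit_thm2 HeG.γ tab _ p h2.1 φ hφ h3 HH O.ws O.ws_lt HH_eq O.Lab O.RK O.OD O.OW O.roots O.ws2
    O.ws2_ws O.ws2_lt O.hLab O.hO l hroot hrl

end Cfsg.Agent.H5TC.He2058
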