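import Cfsg.Agent.Lib.H5TCON122760P0
import Cfsg.Agent.Lib.H5TCON122760P1
import Cfsg.Agent.Lib.H5TCON122760P2
import Cfsg.Agent.Lib.H5TCON122760P3
import Cfsg.Agent.Lib.H5TCON122760P4
import Cfsg.Agent.Lib.H5TCON122760P5

set_option autoImplicit false
set_option maxRecDepth 1000000
set_option maxHeartbeats 0
set_option Elab.async false

namespace Cfsg.Agent.H5TC.ON122760

open Cfsg.Agent.H5TC

noncomputable def cP (i : ℕ) : Bool := chkP T PV PX k 22 2700720 (Nat.mul 22 (Nat.succ i))
theorem hP_0 : all2 cP 13 0 = true := by decide +kernel
theorem hP_1 : all2 cP 13 8192 = true := by decide +kernel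
theorem hP_2 : all2 cP 13 16384 = true := by decide +kernel
theorem hP_3 : all2 cP 13 24576 = true := by decide +kernel
theorem hP_4 : all2 cP 13 32768 = true := by decide +kernel
theorem hP_5 : all2 cP 13 40960 = true := by decide +kernel
theorem hP_6 : all2 cP 13 49152 = true := by decide +kernel
theorem hP_7 : all2 cP 13 57344 = true := by decide +kernel
theorem hP_8 : all2 cP 13 65536 = true := by decide +kernel
theorem hP_9 : all2 cP 13 73728 = true := by decide +kernel
theorem hP_10 : all2 cP 13 81920 = true := by decide +kernel
theorem hP_11 : all2 cP 13 90112 = true := by decide +kernel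
theorem hP_12 : all2 cP 13 98304 = true := by decide +kernel
theorem hP_13 : all2 cP 13 106496 = true := by decide +kernel
theorem hP_14 : all2 cP 12 114688 = true := by decide +kernel
theorem hP_15 : all2 cP 11 118784 = true := by decide +kernel
theorem hP_16 : all2 cP 10 120832 = true := by decide +kernel
theorem hP_17 : all2 cP 9 121856 = true := by decide +kernel
theorem hP_18 : all2 cP 8 122368 = true := by decide +kernel
theorem hP_19 : all2 cP 7 122624 = true := by decide +kernel
theorem hP_20 : all2 cP 2 122752 = true := by decide +kernel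
theorem hP_21 : all2 cP 1 122756 = true := by decide +kernel
theorem hP_22 : all2 cP 0 122758 = true := by decide +kernel
theorem hP : ∀ i < 122759, cP i = true := by
  have h0 : ∀ i < 0, cP i = true := fun i hi => absurd hi (Nat.not_lt_zero i)
  have h1 : ∀ i < 8192, cP i = true := range_step h0 hP_0 (by norm_num)
  have h2 : ∀ i < 16384, cP i = true := range_step h1 hP_1 (by norm_num)
  have h3 : ∀ i < 24576, cP i = true := range_step h2 hP_2 (by norm_num)
  have h4 : ∀ i < 32768, cP i = true := range_step h3 hP_3 (by norm_num)
  have h5 : ∀ i < 40960, cP i = true := range_step h4 hP_4 (by norm_num)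
  have h6 : ∀ i < 49152, cP i = true := range_step h5 hP_5 (by norm_num)
  have h7 : ∀ i < 57344, cP i = true := range_step h6 hP_6 (by norm_num)
  have h8 : ∀ i < 65536, cP i = true := range_step h7 hP_7 (by norm_num)
  have h9 : ∀ i < 73728, cP i = true := range_step h8 hP_8 (by norm_num)
  have h10 : ∀ i < 81920, cP i = true := range_step h9 hP_9 (by norm_num)
  have h11 : ∀ i < 90112, cP i = true := range_step h10 hP_10 (by norm_num)
  have h12 : ∀ i < 98304, cP i = true := range_step h11 hP_11 (by norm_num)
  have h13 : ∀ i < 106496, cP i = true := range_step h12 hP_12 (by norm_num)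
  have h14 : ∀ i < 114688, cP i = true := range_step h13 hP_13 (by norm_num)
  have h15 : ∀ i < 118784, cP i = true := range_step h14 hP_14 (by norm_num)
  have h16 : ∀ i < 120832, cP i = true := range_step h15 hP_15 (by norm_num)
  have h17 : ∀ i < 121856, cP i = true := range_step h16 hP_16 (by norm_num)
  have h18 : ∀ i < 122368, cP i = true := range_step h17 hP_17 (by norm_num)
  have h19 : ∀ i < 122624, cP i = true := range_step h18 hP_18 (by norm_num)
  have h20 : ∀ i < 122752, cP i = true := range_step h19 hP_19 (by norm_num)
  have h21 : ∀ i < 122756, cP i = true := range_step h20 hP_20 (by norm_num)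
  have h22 : ∀ i < 122758, cP i = true := range_step h21 hP_21 (by norm_num)
  have h23 : ∀ i < 122759, cP i = true := range_step h22 hP_22 (by norm_num)
  exact h23
theorem htree : ∀ c, Vc E n c → c ≠ 0 → ∃ y < k, ∃ d < c, Vc E n d ∧ T y d = c :=
  htree_of hP
end Cfsg.Agent.H5TC.ON122760
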