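import Cfsg.Agent.Lib.H5TC5

set_option autoImplicit false
set_option maxRecDepth 1000000
set_option maxHeartbeats 0
set_option Elab.async false

namespace Cfsg.Agent.H5TC.Suz135

open Cfsg.Agent.H5TC

/-- number of vertices -/
abbrev n : ℕ := 135
abbrev k : ℕ := 4
abbrev E : ℕ := 16
abbrev En : ℕ := 2160
noncomputable def t0 : ℕ := 0x860085007f007e007b007a0080008400830072007c00820081006b007500690076007800660062007d0061005c006c006e005b006f0079005700770055005900740052005e004f00730071004d004b0064004a0070006d004800670044006a00420068004100460065003e003d0063003c0060003a005f005d0037005a0036005300340058003200560054002f003f00510050004e002b004c002900380049004700270045002c0043002400250040002e00210033003b0020003900280035001b00300031001a0022002d002a00160017001d00120026002300100018001e001f000d000e0013001c000b0019000900140015000800110006000f000c0004000a0003000700050001000200000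
noncomputable def f0 (c : ℕ) : ℕ := Nat.land (Nat.shiftRight t0 c) 65535
noncomputable def t1 : ℕ := 0x8400830086008500820081007700740078007d006f006d006c0073007e008000680075007f0079005d00600070007c005b007b007a005800590064007600540066005a00690063004e004c00710050005e00720049006e0065006a006b00430046004f00670040003f0047005f00550062003b006100390038005c0048005100560035003300570031003000530052002e002d002c004d002a004b004a002800360045002600440025004200410023003e003d003c0020003a001e0037001c00340032001a002f00190017002b001f002900140027001100240022000f0021000e0015001d000c000b001b000a0018001600080013001200100005000d000700060009000200030004000000010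
noncomputable def f1 (c : ℕ) : ℕ := Nat.land (Nat.shiftRight t1 c) 65535
noncomputable def t2 : ℕ := 0x8600850082007d008400790080007b007200830076007f006b008100690075007c007700650073007e005c00610067006e005a0059007a005800780054006f00520074005d004e00620070004b004d004a006400710048006d006c006a0044004200410068004500660040003d003c0063005f004c0060005e0039005b00350034005300570032005600550051003f002f0050004f002d003a004900380029002700470046002500430026002c003e0022003b00300021001f0037001d003600310033001b0019002e002b0016002a00140028001c0024001000230018000e0020000f001e00130012000a001a001500170009000700060011000d0004000c000b0002000800010005000300000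
noncomputable def f2 (c : ℕ) : ℕ := Nat.land (Nat.shiftRight t2 c) 65535
noncomputable def t3 : ℕ := 0x85008600830084008100820076007e007f0070006e007a007b0071007400680080006600780060005c0079007d005b007c006c006d0061005600550077005300750051004f005e004d006b00730050006300490072006f00470046004c0042006a006900400067003e0065005f0064003b00620058003d0037005d0036005a00590035003a00310057002f0054002e0052004b002b004e0044002d0028004a004800450027002a0024004300230041003f00390020003c0033002100380034001c001a0032003000180029002c001500170013002600120025000f0022001e000d001f000c001d001b000b00090019000800160014001100050010000e00070003000a000400060002000100000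
noncomputable def f3 (c : ℕ) : ℕ := Nat.land (Nat.shiftRight t3 c) 65535
noncomputable def T : ℕ → ℕ → ℕ
  | 0 => f0
  | 1 => f1
  | 2 => f2
  | 3 => f3
  | _ => f0
def inv : ℕ → ℕ
  | 0 => 0
  | 1 => 1
  | 2 => 2
  | 3 => 3
  | y => y
noncomputable def tpv : ℕ := 0x840083007f007d007b00790076007400720070006e006d006b006b006900680068006600650060005c005c005c005b005b005a00590058005600550054005300520051004f004e004d004c004b004b004a00490049004800470046004400420042004100400040003e003e003d003c003b003b003a0039003700370036003500340034003300310031002f002f002e002e002d002b002b002a002900280028002700270026002500240024002300230022002100200020001f001e001d001c001b001a001a0019001800170016001500140013001200110010000f000f000e000d000d000c000c000b000a000900090008000800070006000500050004000400030002000200010001000000000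
noncomputable def PV (c : ℕ) : ℕ := Nat.land (Nat.shiftRight tpv c) 65535
noncomputable def tpx : ℕ := 0x100010000000200000002000300010002000300030001000200000002000300010003000200030003000200000003000100020002000100030003000200030002000300030002000300010002000000020003000100020003000300000003000000020003000100030000000000020003000100000001000300000003000200020000000100030001000300000003000100010003000000010000000300010002000000010002000300000003000100020000000300010002000100020001000000030001000200030001000200030002000300000001000200030001000200030000000300010001000200030000000300010002000200030001000200000003000200010002000000010000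
noncomputable def PX (c : ℕ) : ℕ := Nat.land (Nat.shiftRight tpx c) 65535
/-- relators -/
def rels : List (List ℕ) := [[0, 1, 0, 1, 0, 1, 0, 1, 0, 1], [0, 2, 0, 2], [0, 3, 0, 3], [1, 2, 1, 2, 1, 2], [1, 3, 1, 3], [2, 3, 2, 3, 2, 3, 2, 3, 2, 3, 2, 3, 2, 3, 2, 3], [0, 3, 2, 3, 2, 3, 2, 3, 2]]
/-- trivial relators -/
def relsT : List (List ℕ) := [[0, 0], [1, 1], [2, 2], [3, 3]]
/-- subgroup words -/
def subw : List (List ℕ) := [[0], [2], [3]]
/-- further subgroup words -/
def seeds : List (List ℕ) := [[1, 0, 1, 0, 2, 1, 0, 1, 2, 0, 1, 0, 1]]
noncomputable def cA0 (i : ℕ) : Bool := chkA 16 2160 f0 f0 (Nat.mul 16 i)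
theorem hA0_0 : all2 cA0 7 0 = true := by decide +kernel
theorem hA0_1 : all2 cA0 2 128 = true := by decide +kernel
theorem hA0_2 : all2 cA0 1 132 = true := by decide +kernel
theorem hA0_3 : all2 cA0 0 134 = true := by decide +kernel
theorem hA0 : ∀ i < 135, cA0 i = true := by
  have h0 : ∀ i < 0, cA0 i = true := fun i hi => absurd hi (Nat.not_lt_zero i)
  have h1 : ∀ i < 128, cA0 i = true := range_step h0 hA0_0 (by norm_num)
  have h2 : ∀ i < 132, cA0 i = true := range_step h1 hA0_1 (by norm_num)
  have h3 : ∀ i < 134, cA0 i = true := range_step h2 hA0_2 (by norm_num)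
  have h4 : ∀ i < 135, cA0 i = true := range_step h3 hA0_3 (by norm_num)
  exact h4
noncomputable def cA1 (i : ℕ) : Bool := chkA 16 2160 f1 f1 (Nat.mul 16 i)
theorem hA1_0 : all2 cA1 7 0 = true := by decide +kernel
theorem hA1_1 : all2 cA1 2 128 = true := by decide +kernel
theorem hA1_2 : all2 cA1 1 132 = true := by decide +kernel
theorem hA1_3 : all2 cA1 0 134 = true := by decide +kernel
theorem hA1 : ∀ i < 135, cA1 i = true := by
  have h0 : ∀ i < 0, cA1 i = true := fun i hi => absurd hi (Nat.not_lt_zero i)
  have h1 : ∀ i < 128, cA1 i = true := range_step h0 hA1_0 (by norm_num)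
  have h2 : ∀ i < 132, cA1 i = true := range_step h1 hA1_1 (by norm_num)
  have h3 : ∀ i < 134, cA1 i = true := range_step h2 hA1_2 (by norm_num)
  have h4 : ∀ i < 135, cA1 i = true := range_step h3 hA1_3 (by norm_num)
  exact h4
noncomputable def cA2 (i : ℕ) : Bool := chkA 16 2160 f2 f2 (Nat.mul 16 i)
theorem hA2_0 : all2 cA2 7 0 = true := by decide +kernel
theorem hA2_1 : all2 cA2 2 128 = true := by decide +kernel
theorem hA2_2 : all2 cA2 1 132 = true := by decide +kernel
theorem hA2_3 : all2 cA2 0 134 = true := by decide +kernel
theorem hA2 : ∀ i < 135, cA2 i = true := by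
  have h0 : ∀ i < 0, cA2 i = true := fun i hi => absurd hi (Nat.not_lt_zero i)
  have h1 : ∀ i < 128, cA2 i = true := range_step h0 hA2_0 (by norm_num)
  have h2 : ∀ i < 132, cA2 i = true := range_step h1 hA2_1 (by norm_num)
  have h3 : ∀ i < 134, cA2 i = true := range_step h2 hA2_2 (by norm_num)
  have h4 : ∀ i < 135, cA2 i = true := range_step h3 hA2_3 (by norm_num)
  exact h4
noncomputable def cA3 (i : ℕ) : Bool := chkA 16 2160 f3 f3 (Nat.mul 16 i)
theorem hA3_0 : all2 cA3 7 0 = true := by decide +kernel
theorem hA3_1 : all2 cA3 2 128 = true := by decide +kernel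
theorem hA3_2 : all2 cA3 1 132 = true := by decide +kernel
theorem hA3_3 : all2 cA3 0 134 = true := by decide +kernel
theorem hA3 : ∀ i < 135, cA3 i = true := by
  have h0 : ∀ i < 0, cA3 i = true := fun i hi => absurd hi (Nat.not_lt_zero i)
  have h1 : ∀ i < 128, cA3 i = true := range_step h0 hA3_0 (by norm_num)
  have h2 : ∀ i < 132, cA3 i = true := range_step h1 hA3_1 (by norm_num)
  have h3 : ∀ i < 134, cA3 i = true := range_step h2 hA3_2 (by norm_num)
  have h4 : ∀ i < 135, cA3 i = true := range_step h3 hA3_3 (by norm_num)
  exact h4
theorem inv_lt : ∀ y < k, inv y < k := by decide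
theorem inv_inv : ∀ y < k, inv (inv y) = y := by decide
theorem hA : ∀ y < k, ∀ c, Vc E n c → Vc E n (T y c) ∧ T (inv y) (T y c) = c := by
  intro y hy c hc
  obtain ⟨i, hi, rfl⟩ := hc
  have hy' : y < 4 := hy
  interval_cases y
  · exact chkA_spec (E := 16) (n := 135) (hA0 i hi)
  · exact chkA_spec (E := 16) (n := 135) (hA1 i hi)
  · exact chkA_spec (E := 16) (n := 135) (hA2 i hi)
  · exact chkA_spec (E := 16) (n := 135) (hA3 i hi)
theorem tab : Tab k inv T (Vc E n) where
  inv_lt := inv_lt
  inv_inv := inv_inv
  maps := fun y hy c hc => (hA y hy c hc).1
  cancel := fun y hy c hc => (hA y hy c hc).2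
  zero := ⟨0, by decide, rfl⟩
end Cfsg.Agent.H5TC.Suz135
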