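import Cfsg.Agent.Lib.H5TCSuz135

set_option autoImplicit false
set_option maxRecDepth 1000000
set_option maxHeartbeats 0
set_option Elab.async false

namespace Cfsg.Agent.H5TC.Suz135

open Cfsg.Agent.H5TC

noncomputable def rt0 : ℕ := 0x6d00840000004200000041007e00000042003f0092000000410000002d002c0085002d002e009f003f0099000000730093003a007300000039002c002b0088002e002f00780036009f0099009d0000007800320000003a00310088000000390000002b00280081002f0000000000360025009d0000000000320000003100210081000000000020000000280000005f00000000002500000000000000550000002100000000000f00200000000e0000005e0000000f000000100000005100000000000e0000000d00570000001000110015004a00000000000d000a004e0015001100000008004600000006000a0000000800000004000600030000000400000003000100000001000000000043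
noncomputable def g0 (c : ℕ) : ℕ := Nat.land (Nat.shiftRight rt0 c) 65535
noncomputable def rt1 : ℕ := 0x96009500400000007d0060003e00000087009c007d00400000006c0000009c003b0033005b003e00000000008700000080003d0000003800640091003d007f0035000000330019005c003b000000000091008000000030007b0037003800000026008d00190037003500000000000000220000006f008d007b0013000000300000001f0000002600000000001d000000000000002200000069001300000000001b0000001f000000000000001d000000000000000000000000001b000000000017000000000053000000140000000000000017000000000007004b00140000000000000005000000070000000000000005000000000047004d000000000048000000000000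
noncomputable def g1 (c : ℕ) : ℕ := Nat.land (Nat.shiftRight rt1 c) 65535
noncomputable def rt2 : ℕ := 0x9b006800970000009700000075009400000000008e0094000000000000002a008e002a0000009e00000000009a008a007a000000000000007000000000008a00000000007700000086009a000000a00000007700000000000000000070006a00710000000000890000002700a10000000000a000670000000000230000000000000089006a00620071000000270058001a00a10000001e005d00230052001800000000000000000062001c000c001a0000001e000c00160000001800000000001c000000120000000000160000000000000000006100120000000000540000000000090000004c0056000000000009000000020000000000000002000000000000000000000000000000000044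
noncomputable def g2 (c : ℕ) : ℕ := Nat.land (Nat.shiftRight rt2 c) 65535
noncomputable def rt3 : ℕ := 0x8f008f008b008b0090009000000083008300000000008c008c00980029000000000000002900000000009800000000000000740074003c000000000000000000000000000000790000003c000000820079000000000000000000000034000000000000000000000000000000820000000000000034007c0000000000000000000000720024000000000000000000000000007c00000000002400760000000000000072006b000b00000000000000000000007600000000000b006e0000006b00630000000000000000006e00000000006600000063005a00000000000000660000000000000000005a005000000000000000000000005000000000000000650000000000590000004f00490045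
noncomputable def g3 (c : ℕ) : ℕ := Nat.land (Nat.shiftRight rt3 c) 65535
noncomputable def R : ℕ → ℕ → ℕ
  | 0 => g0
  | 1 => g1
  | 2 => g2
  | 3 => g3
  | _ => g0
noncomputable def jt0 : ℕ := 0x400040000000000000000000400000002000000020000000200000000000000010003000000000001000000000000000300000005000000000003000000000005000000000000000400030000000000050000000000020000000400000001000000050000000000030000000000020000000400000000000100000001000000040000000000000000000100000003000000000001000000000000000300000002000000000000000100000000000000050000000300000000000000020000000000030000000000040000000500000000000100000000000500000004000200030000000000070000000000010000000100000000000200000000000200000001000000000002000000000006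
noncomputable def j0 (c : ℕ) : ℕ := Nat.land (Nat.shiftRight jt0 c) 65535
def lw0 : List (List ℕ) := [[3, 0, 3], [2, 0, 2], [2, 3, 2, 3, 2, 3, 2, 3], [1, 0, 1, 0, 1, 0, 1, 0, 1], [3, 2, 3, 2, 3, 2, 3, 2]]
def hw0 : List (ℕ × ℕ × Bool) := [(2, 0, false), (1, 0, false), (6, 8, true), (0, 0, false), (6, 0, false)]
def lb0 : List (List ℕ × List ℕ) := [([], []), ([1, 0, 1, 0, 2, 1], [1, 2, 0, 1, 0, 1])]
def hb0 : List (ℕ × Bool) := [(0, false), (3, false)]
noncomputable def cB0 (i : ℕ) : Bool := chkB T R PV PX j0 0 0 (bcf 0 0) lw0 lb0 (Nat.mul 16 i)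
theorem hB0_0 : all2 cB0 7 0 = true := by decide +kernel
theorem hB0_1 : all2 cB0 2 128 = true := by decide +kernel
theorem hB0_2 : all2 cB0 1 132 = true := by decide +kernel
theorem hB0_3 : all2 cB0 0 134 = true := by decide +kernel
theorem hB0 : ∀ i < 135, cB0 i = true := by
  have h0 : ∀ i < 0, cB0 i = true := fun i hi => absurd hi (Nat.not_lt_zero i)
  have h1 : ∀ i < 128, cB0 i = true := range_step h0 hB0_0 (by norm_num)
  have h2 : ∀ i < 132, cB0 i = true := range_step h1 hB0_1 (by norm_num)
  have h3 : ∀ i < 134, cB0 i = true := range_step h2 hB0_2 (by norm_num)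
  have h4 : ∀ i < 135, cB0 i = true := range_step h3 hB0_3 (by norm_num)
  exact h4
theorem hw0' : wsOK2 inv (rels ++ relsT) 0 lw0 hw0 = true := by decide +kernel
theorem hb0' : bsOK inv (subw ++ seeds) 0 lb0 hb0 = true := by decide +kernel
theorem lt0 : ltOK k lw0 = true ∧ ltOK k (lb0.map Prod.fst) = true ∧ ltOK k (lb0.map Prod.snd) = true := by decide +kernel
noncomputable def jt1 : ℕ := 0x30003000000000000000300000000000000000002000100000001000000010000000000030001000000000002000000000000000000000002000000010001000000000002000000020001000000000001000100000000000000000001000000000000000300020001000000000000000000000001000200020000000000010000000000000001000000000000000000000000000100000002000300000000000000000001000000000000000100000000000000000000000000010000000000000000000000030000000000000000000000010000000000000003000100000000000000000000000100000000000000010000000000030001000000000002000000000000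
noncomputable def j1 (c : ℕ) : ℕ := Nat.land (Nat.shiftRight jt1 c) 65535
def lw1 : List (List ℕ) := [[3, 1, 3], [2, 1, 2, 1, 2], [0, 1, 0, 1, 0, 1, 0, 1, 0]]
def hw1 : List (ℕ × ℕ × Bool) := [(4, 0, false), (3, 0, false), (0, 1, false)]
def lb1 : List (List ℕ × List ℕ) := []
def hb1 : List (ℕ × Bool) := []
noncomputable def cB1 (i : ℕ) : Bool := chkB T R PV PX j1 1 1 (bcf 1 1) lw1 lb1 (Nat.mul 16 i)
theorem hB1_0 : all2 cB1 7 0 = true := by decide +kernel
theorem hB1_1 : all2 cB1 2 128 = true := by decide +kernel
theorem hB1_2 : all2 cB1 1 132 = true := by decide +kernel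
theorem hB1_3 : all2 cB1 0 134 = true := by decide +kernel
theorem hB1 : ∀ i < 135, cB1 i = true := by
  have h0 : ∀ i < 0, cB1 i = true := fun i hi => absurd hi (Nat.not_lt_zero i)
  have h1 : ∀ i < 128, cB1 i = true := range_step h0 hB1_0 (by norm_num)
  have h2 : ∀ i < 132, cB1 i = true := range_step h1 hB1_1 (by norm_num)
  have h3 : ∀ i < 134, cB1 i = true := range_step h2 hB1_2 (by norm_num)
  have h4 : ∀ i < 135, cB1 i = true := range_step h3 hB1_3 (by norm_num)
  exact h4
theorem hw1' : wsOK2 inv (rels ++ relsT) 1 lw1 hw1 = true := by decide +kernel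
theorem hb1' : bsOK inv (subw ++ seeds) 1 lb1 hb1 = true := by decide +kernel
theorem lt1 : ltOK k lw1 = true ∧ ltOK k (lb1.map Prod.fst) = true ∧ ltOK k (lb1.map Prod.snd) = true := by decide +kernel
noncomputable def jt2 : ℕ := 0x100010000000000020000000100000000000000000001000000000000000000010003000000010000000000000000000100000000000000000000000000070000000000000000000100080000000000000004000000000000000000020000000000000000000000000000000000000000000200020000000000000000000000000002000100000006000000020003000000050000000000010002000400000000000000000000000500000000000100000002000300000000000100000000000200000000000000000001000000000000000000020001000000000001000000000000000000010001000000000002000000000000000000000001000000000000000000000000000000000009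
noncomputable def j2 (c : ℕ) : ℕ := Nat.land (Nat.shiftRight jt2 c) 65535
def lw2 : List (List ℕ) := [[1, 2, 1, 2, 1], [0, 2, 0], [3, 2, 3, 0, 2, 3, 2, 3], [3, 2, 3, 2, 3, 0, 2, 3], [3, 2, 0, 3, 2, 3, 2, 3], [3, 0, 2, 3, 2, 3, 2, 3], [3, 2, 3, 2, 3, 2, 0, 3], [0, 3, 2, 3, 2, 3, 2, 3]]
def hw2 : List (ℕ × ℕ × Bool) := [(3, 1, false), (1, 1, false), (6, 4, true), (6, 2, true), (6, 6, false), (6, 6, true), (6, 2, false), (6, 8, false)]
def lb2 : List (List ℕ × List ℕ) := [([], [])]
def hb2 : List (ℕ × Bool) := [(1, false)]
noncomputable def cB2 (i : ℕ) : Bool := chkB T R PV PX j2 2 2 (bcf 2 2) lw2 lb2 (Nat.mul 16 i)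
theorem hB2_0 : all2 cB2 7 0 = true := by decide +kernel
theorem hB2_1 : all2 cB2 2 128 = true := by decide +kernel
theorem hB2_2 : all2 cB2 1 132 = true := by decide +kernel
theorem hB2_3 : all2 cB2 0 134 = true := by decide +kernel
theorem hB2 : ∀ i < 135, cB2 i = true := by
  have h0 : ∀ i < 0, cB2 i = true := fun i hi => absurd hi (Nat.not_lt_zero i)
  have h1 : ∀ i < 128, cB2 i = true := range_step h0 hB2_0 (by norm_num)
  have h2 : ∀ i < 132, cB2 i = true := range_step h1 hB2_1 (by norm_num)
  have h3 : ∀ i < 134, cB2 i = true := range_step h2 hB2_2 (by norm_num)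
  have h4 : ∀ i < 135, cB2 i = true := range_step h3 hB2_3 (by norm_num)
  exact h4
theorem hw2' : wsOK2 inv (rels ++ relsT) 2 lw2 hw2 = true := by decide +kernel
theorem hb2' : bsOK inv (subw ++ seeds) 2 lb2 hb2 = true := by decide +kernel
theorem lt2 : ltOK k lw2 = true ∧ ltOK k (lb2.map Prod.fst) = true ∧ ltOK k (lb2.map Prod.snd) = true := by decide +kernel
noncomputable def jt3 : ℕ := 0x10000000200000002000000000001000000000000000100000000000000000000000300000000000700000000000000000005000000000000000000000000000000000000000000010000000000050000000000000000000000000000000000000000000000000000000200000000000000020000000000000000000000000000000000000000000000000000000000010000000000010000000000000000000200000000000000000000000000000002000000000003000000000001000000000000000000000001000000000000000000060000000000000000000400000000000000000001000000000000000000000000000400000000000000020000000000010000000200010008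
noncomputable def j3 (c : ℕ) : ℕ := Nat.land (Nat.shiftRight jt3 c) 65535
def lw3 : List (List ℕ) := [[1, 3, 1], [0, 3, 0], [2, 3, 2, 3, 0, 2, 3, 2], [2, 3, 2, 0, 3, 2, 3, 2], [0, 2, 3, 2, 3, 2, 3, 2], [2, 3, 2, 3, 2, 3, 2, 0], [2, 3, 0, 2, 3, 2, 3, 2]]
def hw3 : List (ℕ × ℕ × Bool) := [(4, 1, false), (2, 1, false), (6, 3, true), (6, 5, false), (6, 7, true), (6, 1, false), (6, 5, true)]
def lb3 : List (List ℕ × List ℕ) := [([], [])]
def hb3 : List (ℕ × Bool) := [(2, false)]
noncomputable def cB3 (i : ℕ) : Bool := chkB T R PV PX j3 3 3 (bcf 3 3) lw3 lb3 (Nat.mul 16 i)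
theorem hB3_0 : all2 cB3 7 0 = true := by decide +kernel
theorem hB3_1 : all2 cB3 2 128 = true := by decide +kernel
theorem hB3_2 : all2 cB3 1 132 = true := by decide +kernel
theorem hB3_3 : all2 cB3 0 134 = true := by decide +kernel
theorem hB3 : ∀ i < 135, cB3 i = true := by
  have h0 : ∀ i < 0, cB3 i = true := fun i hi => absurd hi (Nat.not_lt_zero i)
  have h1 : ∀ i < 128, cB3 i = true := range_step h0 hB3_0 (by norm_num)
  have h2 : ∀ i < 132, cB3 i = true := range_step h1 hB3_1 (by norm_num)
  have h3 : ∀ i < 134, cB3 i = true := range_step h2 hB3_2 (by norm_num)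
  have h4 : ∀ i < 135, cB3 i = true := range_step h3 hB3_3 (by norm_num)
  exact h4
theorem hw3' : wsOK2 inv (rels ++ relsT) 3 lw3 hw3 = true := by decide +kernel
theorem hb3' : bsOK inv (subw ++ seeds) 3 lb3 hb3 = true := by decide +kernel
theorem lt3 : ltOK k lw3 = true ∧ ltOK k (lb3.map Prod.fst) = true ∧ ltOK k (lb3.map Prod.snd) = true := by decide +kernel
noncomputable def J : ℕ → ℕ → ℕ
  | 0 => j0
  | 1 => j1
  | 2 => j2
  | 3 => j3
  | _ => j0
def LW : ℕ → List (List ℕ)
  | 0 => lw0
  | 1 => lw1
  | 2 => lw2
  | 3 => lw3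
  | _ => []
def LB : ℕ → List (List ℕ × List ℕ)
  | 0 => lb0
  | 1 => lb1
  | 2 => lb2
  | 3 => lb3
  | _ => []
theorem rels_lt : ltOK k (rels ++ relsT) = true := by decide +kernel
theorem bases_lt : ltOK k (subw ++ seeds) = true := by decide +kernel
theorem hJ : ∀ y < k, ∀ i < n, chkB T R PV PX (J y) y (inv y) (bcf y (inv y)) (LW y) (LB y) (E * i) = true := by
  intro y hy i hi
  have hy' : y < 4 := hy
  interval_cases y
  · exact hB0 i hi
  · exact hB1 i hi
  · exact hB2 i hi
  · exact hB3 i hi
/-- The certificate theorem, given that the further words lie in the subgroup. -/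
theorem main0 {Γ X : Type*} [Group Γ] [MulAction Γ X] (γ : ℕ → Γ) (x0 : X)
    (hinv : ∀ y < k, γ (inv y) = (γ y)⁻¹) (hr : ∀ r ∈ rels, wd γ r = 1)
    (hb : ∀ b ∈ subw ++ seeds, (wd γ b)⁻¹ • x0 = x0) :
    ∃ p : ℕ → X, p 0 = x0 ∧ ∀ y < k, ∀ c, Vc E n c → (γ y)⁻¹ • p c = p (T y c) := by
  have hr' : ∀ r ∈ rels ++ relsT, wd γ r = 1 := by
    intro r h
    rcases List.mem_append.1 h with h | h
    · exact hr r h
    · simp only [relsT, List.mem_cons, List.not_mem_nil, or_false] at h
      rcases h with rfl | rfl | rfl | rfl
      · have := hinv 0 (by decide); simp only [wd_cons, wd_nil, mul_one]; exact mul_eq_one_iff_inv_eq.2 (show γ 0 = (γ 0)⁻¹ from this).symm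
      · have := hinv 1 (by decide); simp only [wd_cons, wd_nil, mul_one]; exact mul_eq_one_iff_inv_eq.2 (show γ 1 = (γ 1)⁻¹ from this).symm
      · have := hinv 2 (by decide); simp only [wd_cons, wd_nil, mul_one]; exact mul_eq_one_iff_inv_eq.2 (show γ 2 = (γ 2)⁻¹ from this).symm
      · have := hinv 3 (by decide); simp only [wd_cons, wd_nil, mul_one]; exact mul_eq_one_iff_inv_eq.2 (show γ 3 = (γ 3)⁻¹ from this).symm
  have hi : ∀ r ∈ rels ++ relsT, ∀ y ∈ r, γ (inv y) = (γ y)⁻¹ := fun r h y hy =>
    hinv y (ltOK_spec _ rels_lt r h y hy)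
  have hi2 : ∀ r ∈ subw ++ seeds, ∀ y ∈ r, γ (inv y) = (γ y)⁻¹ := fun r h y hy =>
    hinv y (ltOK_spec _ bases_lt r h y hy)
  refine mc_thm γ x0 (J := J) tab hinv LW LB ?_ ?_ hJ
  · intro y hy
    have hy' : y < 4 := hy
    interval_cases y
    · exact fun w hw => ⟨wsOK2_spec γ hr' hi 0 lw0 hw0 hw0' w hw, ltOK_spec _ lt0.1 w hw⟩
    · exact fun w hw => ⟨wsOK2_spec γ hr' hi 1 lw1 hw1 hw1' w hw, ltOK_spec _ lt1.1 w hw⟩
    · exact fun w hw => ⟨wsOK2_spec γ hr' hi 2 lw2 hw2 hw2' w hw, ltOK_spec _ lt2.1 w hw⟩
    · exact fun w hw => ⟨wsOK2_spec γ hr' hi 3 lw3 hw3 hw3' w hw, ltOK_spec _ lt3.1 w hw⟩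
  · intro y hy
    have hy' : y < 4 := hy
    interval_cases y
    · exact fun w hw => ⟨bsOK_spec γ x0 hb hi2 0 lb0 hb0 hb0' w hw, ltOK_spec _ lt0.2.1 w.1 (List.mem_map.2 ⟨w, hw, rfl⟩), ltOK_spec _ lt0.2.2 w.2 (List.mem_map.2 ⟨w, hw, rfl⟩)⟩
    · exact fun w hw => ⟨bsOK_spec γ x0 hb hi2 1 lb1 hb1 hb1' w hw, ltOK_spec _ lt1.2.1 w.1 (List.mem_map.2 ⟨w, hw, rfl⟩), ltOK_spec _ lt1.2.2 w.2 (List.mem_map.2 ⟨w, hw, rfl⟩)⟩
    · exact fun w hw => ⟨bsOK_spec γ x0 hb hi2 2 lb2 hb2 hb2' w hw, ltOK_spec _ lt2.2.1 w.1 (List.mem_map.2 ⟨w, hw, rfl⟩), ltOK_spec _ lt2.2.2 w.2 (List.mem_map.2 ⟨w, hw, rfl⟩)⟩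
    · exact fun w hw => ⟨bsOK_spec γ x0 hb hi2 3 lb3 hb3 hb3' w hw, ltOK_spec _ lt3.2.1 w.1 (List.mem_map.2 ⟨w, hw, rfl⟩), ltOK_spec _ lt3.2.2 w.2 (List.mem_map.2 ⟨w, hw, rfl⟩)⟩
end Cfsg.Agent.H5TC.Suz135
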