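import Cfsg.Agent.Lib.PSolv
import Cfsg.Agent.Lib.CoprimeGen
import Cfsg.Agent.Lib.H6Super8
import Cfsg.Agent.Lib.H6LB5
import Cfsg.Agent.Lib.PGrp
import Cfsg.Agent.Lib.SylBridge

/-! S1892, S2909, S1901: coprime action. -/

set_option autoImplicit false
set_option linter.style.haveILetI false

open Subgroup
open scoped commutatorElement

namespace CfsgLib.H6Cp

open CfsgLib.Coprime

universe u
variable {G : Type u} [Group G] [Finite G] {p : ℕ} [hp : Fact p.Prime]

omit [Finite G] hp in
theorem comm_le_iff {A B C : Subgroup G} : ⁅A, B⁆ ≤ C ↔ ∀ a ∈ A, ∀ b ∈ B, ⁅a, b⁆ ∈ C := Subgroup.commutator_le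

/-- the Frattini quotient -/
theorem phi_quot {T : Subgroup G} [hTn : T.Normal] (hT : IsPGroup p T) :
    haveI := CfsgLib.H6Super.frattini_map_normal (P := T)
    IsMulCommutative (T.map (QuotientGroup.mk' ((frattini T).map T.subtype))) := by
  haveI := CfsgLib.H6Super.frattini_map_normal (P := T)
  refine ⟨⟨?_⟩⟩
  rintro ⟨_, ⟨a, ha, rfl⟩⟩ ⟨_, ⟨b, hb, rfl⟩⟩
  apply Subtype.ext
  show (QuotientGroup.mk' _ a) * (QuotientGroup.mk' _ b) = (QuotientGroup.mk' _ b) * (QuotientGroup.mk' _ a)
  have h1 : ⁅(⟨a, ha⟩ : T), ⟨b, hb⟩⁆ ∈ frattini T := CfsgLib.PGrp.commutator_le_frattini hT (by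
    rw [_root_.commutator_def]; exact commutator_mem_commutator (mem_top _) (mem_top _))
  have h2 : a * b * a⁻¹ * b⁻¹ ∈ (frattini T).map T.subtype := ⟨_, h1, rfl⟩
  have h3 : (QuotientGroup.mk' ((frattini T).map T.subtype)) (a * b * a⁻¹ * b⁻¹) = 1 := (QuotientGroup.eq_one_iff _).2 h2
  rw [map_mul, map_mul, map_mul, map_inv, map_inv, mul_inv_eq_one, mul_inv_eq_iff_eq_mul] at h3
  exact h3

theorem cent_of_quot {T Q : Subgroup G} [hTn : T.Normal] (hT : IsPGroup p T) (hQ : (Nat.card Q).Coprime p)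
    (h : haveI := CfsgLib.H6Super.frattini_map_normal (P := T)
      Q.map (QuotientGroup.mk' ((frattini T).map T.subtype)) ≤ centralizer (T.map (QuotientGroup.mk' ((frattini T).map T.subtype)) : Set _)) :
    Q ≤ centralizer (T : Set G) := by
  haveI := CfsgLib.H6Super.frattini_map_normal (P := T)
  obtain ⟨n, hn⟩ := (hT.to_subgroup (frattini T)).exists_card_eq
  apply le_centralizer_of_frattini
  · rw [hn]; exact Nat.Coprime.pow_right n hQ
  · intro a ha k hk
    have h1 := mem_centralizer_iff.1 (h ⟨a, ha, rfl⟩) _ ⟨k, hk, rfl⟩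
    rw [← QuotientGroup.eq_one_iff]
    change (QuotientGroup.mk' ((frattini T).map T.subtype)) (a * k * a⁻¹ * k⁻¹) = 1
    rw [map_mul, map_mul, map_mul, map_inv, map_inv, ← h1]
    group

theorem s1892 (hS : Cfsg.IsPSolvable p G) (hred : Cfsg.pPrimeCore p G = ⊥)
    (A Q : Subgroup G) (hQ : ¬ p ∣ Nat.card Q) (hQ1 : Q ≠ ⊥)
    (hinv : ∀ a ∈ A, ∀ x ∈ Q, a * x * a⁻¹ ∈ Q) (hAQ : ⁅A, Q⁆ = Q) :
    ⁅⁅Cfsg.pCore p G, A⁆, Q⁆ ≠ ⊥ := by
  intro h0
  have hQc : (Nat.card Q).Coprime p := ((Nat.Prime.coprime_iff_not_dvd hp.out).2 hQ).symm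
  obtain ⟨T, hTd⟩ : ∃ T, T = Cfsg.pCore p G := ⟨_, rfl⟩
  haveI hTn : T.Normal := by rw [hTd]; exact CfsgLib.Core.pCore_normal p G
  have hT : IsPGroup p T := by rw [hTd]; exact CfsgLib.Core.pCore_isPGroup p G
  rw [← hTd] at h0
  haveI hΦ := CfsgLib.H6Super.frattini_map_normal (P := T)
  let π := QuotientGroup.mk' ((frattini T).map T.subtype)
  have hπs : Function.Surjective π := QuotientGroup.mk'_surjective _
  have hVab : IsMulCommutative (T.map π) := phi_quot hT
  haveI hVn : (T.map π).Normal := hTn.map π hπs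
  have hVp : IsPGroup p (T.map π) := hT.map π
  have hAN : ∀ X : Subgroup (G ⧸ (frattini T).map T.subtype), X ≤ Subgroup.normalizer ((T.map π : Subgroup _) : Set _) := fun X => by
    rw [Subgroup.normalizer_eq_top]; exact le_top
  have hAQn : A.map π ≤ Subgroup.normalizer ((Q.map π : Subgroup _) : Set _) := by
    rintro _ ⟨a, ha, rfl⟩
    apply CfsgLib.H7Basic.mem_normalizer_of_conj_mem
    rintro _ ⟨x, hx, rfl⟩
    rw [← map_inv, ← map_mul, ← map_mul]
    exact ⟨_, hinv a ha x hx, rfl⟩
  have hcop : (Nat.card (Q.map π)).Coprime (Nat.card (T.map π)) := by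
    obtain ⟨n, hn⟩ := hVp.exists_card_eq
    rw [hn]
    exact Nat.Coprime.pow_right n (Nat.Coprime.coprime_dvd_left (Subgroup.card_map_dvd _ _) hQc)
  have hb := inf_commutator_eq_bot_of_abelian hVab (hAN (Q.map π)) hcop
  have h1 : ⁅⁅T.map π, A.map π⁆, Q.map π⁆ = ⊥ := by
    rw [← Subgroup.map_commutator, ← Subgroup.map_commutator, h0, Subgroup.map_bot]
  obtain ⟨U, hU⟩ : ∃ U, U = ⁅T.map π, Q.map π⁆ := ⟨_, rfl⟩
  have hUV : U ≤ T.map π := by rw [hU]; exact Subgroup.commutator_le_left _ _
  have hUA : A.map π ≤ Subgroup.normalizer (U : Set _) := by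
    intro a ha
    apply CfsgLib.H7Basic.mem_normalizer_of_conj_mem
    intro x hx
    have h2 : U ≤ U.comap (MulAut.conj a).toMonoidHom := by
      nth_rewrite 1 [hU]
      rw [Subgroup.commutator_le]
      intro v hv q hq
      show a * ⁅v, q⁆ * a⁻¹ ∈ U
      rw [conjugate_commutatorElement, hU]
      exact commutator_mem_commutator (hVn.conj_mem v hv a) ((mem_normalizer_iff.1 (hAQn ha) q).1 hq)
    exact h2 hx
  have h2 : ⁅U, A.map π⁆ = ⊥ := by
    rw [eq_bot_iff, ← hb]
    refine le_inf (le_inf ?_ ?_) ?_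
    · exact (commutator_le_of_le_normalizer hUA).trans hUV
    · exact (Subgroup.commutator_mono hUV le_rfl).trans (Subgroup.commutator_eq_bot_iff_le_centralizer.1 h1)
    · exact (commutator_le_of_le_normalizer hUA).trans hU.le
  have h3 : ⁅⁅A.map π, Q.map π⁆, U⁆ = ⊥ := by
    apply Subgroup.commutator_commutator_eq_bot_of_rotate
    · rw [eq_bot_iff, ← h2]
      apply Subgroup.commutator_mono _ le_rfl
      rw [Subgroup.commutator_comm]
      rw [hU]
      exact CfsgLib.Coprime.commutator_le_of_le_normalizer (Subgroup.normalizer_commutator_ge_right _ _)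
    · rw [h2, Subgroup.commutator_bot_left]
  have h4 : ⁅Q.map π, U⁆ = ⊥ := by
    have h5 : ⁅A.map π, Q.map π⁆ = Q.map π := by rw [← Subgroup.map_commutator, hAQ]
    rwa [h5] at h3
  have hcopact : CopAct (Q.map π) (T.map π) := copAct_of_abelian hVab (hAN _) hcop
  have h5 : Q ≤ centralizer (T : Set G) := by
    apply cent_of_quot hT hQc
    apply hcopact.le_centralizer_of_commutator_commutator
    rw [← hU, Subgroup.commutator_comm]; exact h4
  have h6 : Q ≤ T := by
    have h7 := CfsgLib.PSolv.hall_higman hred hS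
    rw [← hTd] at h7
    exact h5.trans h7
  apply hQ1
  obtain ⟨n, hn⟩ := hT.exists_card_eq
  rw [← Subgroup.card_eq_one]
  have h7 := Subgroup.card_dvd_of_le h6
  rw [hn] at h7
  exact Nat.eq_one_of_dvd_coprimes (Nat.Coprime.pow_right n hQc) dvd_rfl h7

/-- conjugation trick, general coprime form -/
theorem coprime_trick2 {g x z : G} (hgz : (orderOf g).Coprime (orderOf z)) (h : g * x * g⁻¹ * x⁻¹ = z) (hc : g * z = z * g) :
    z = 1 := by
  have h1 : x * g * x⁻¹ = z⁻¹ * g := by
    rw [← h]; group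
  have hcm : Commute z⁻¹ g := by
    have : Commute g z := hc
    exact this.symm.inv_left
  have h2 : (z⁻¹ * g) ^ orderOf g = 1 := by
    rw [← h1, conj_pow, pow_orderOf_eq_one]; group
  rw [hcm.mul_pow, pow_orderOf_eq_one, mul_one, inv_pow, inv_eq_one] at h2
  have h3 : orderOf z ∣ 1 := by
    rw [← Nat.Coprime.gcd_eq_one hgz]
    exact Nat.dvd_gcd (orderOf_dvd_of_pow_eq_one h2) dvd_rfl
  exact orderOf_eq_one_iff.1 (Nat.dvd_one.1 h3)

theorem s1901_aux (n : ℕ) : ∀ (G : Type u) [Group G] [Finite G], Nat.card G ≤ n → Cfsg.IsPSolvable p G → ∀ (Q : Subgroup G), ¬ p ∣ Nat.card Q →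
    ∀ P : Sylow p G, Q ≤ Subgroup.normalizer ((P : Subgroup G) : Set G) → ∀ a ∈ Subgroup.normalizer (Q : Set G), (∃ k, a ^ p ^ k = 1) →
    a ∈ centralizer (Q : Set G) := by
  induction n with
  | zero =>
    intro G _ _ hG
    exact absurd (Nat.card_pos (α := G)) (by omega)
  | succ n ih =>
    intro G _ _ hG hsol Q hQ P hQP a haQ ⟨k, hk⟩
    have hQc : (Nat.card Q).Coprime p := ((Nat.Prime.coprime_iff_not_dvd hp.out).2 hQ).symm
    have hordQ : ∀ q ∈ Q, (orderOf q).Coprime p := fun q hq => by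
      have h1 : orderOf q ∣ Nat.card Q := by
        have := orderOf_dvd_natCard (⟨q, hq⟩ : Q)
        rwa [orderOf_mk] at this
      exact Nat.Coprime.coprime_dvd_left h1 hQc
    have horda : ∀ m, m.Coprime p → (orderOf a).Coprime m := fun m hm =>
      Nat.Coprime.coprime_dvd_left (orderOf_dvd_of_pow_eq_one hk) ((Nat.Coprime.pow_right k hm).symm)
    by_cases htriv : Nontrivial G
    swap
    · haveI := not_nontrivial_iff_subsingleton.1 htriv
      rw [mem_centralizer_iff]
      intro q _
      exact Subsingleton.elim _ _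
    obtain ⟨M, hMn, hMne, hM⟩ : ∃ M : Subgroup G, M.Normal ∧ M ≠ ⊥ ∧ (IsPGroup p M ∨ (Nat.card M).Coprime p) := by
      rcases CfsgLib.PSolv.exists_core_ne_bot hsol htriv with h | h
      · exact ⟨_, CfsgLib.Core.pCore_normal p G, h, Or.inl (CfsgLib.Core.pCore_isPGroup p G)⟩
      · exact ⟨_, CfsgLib.Core.pPrimeCore_normal p G, h, Or.inr (CfsgLib.Core.card_pPrimeCore_coprime p G)⟩
    haveI := hMn
    let π := QuotientGroup.mk' M
    have hπs : Function.Surjective π := QuotientGroup.mk'_surjective M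
    have hcard : Nat.card (G ⧸ M) ≤ n := by
      have h1 := Subgroup.card_eq_card_quotient_mul_card_subgroup M
      have h2 : 1 < Nat.card M := by
        rw [Subgroup.one_lt_card_iff_ne_bot]; exact hMne
      have h3 : 0 < Nat.card (G ⧸ M) := Nat.card_pos
      nlinarith
    have hP' : CfsgLib.Coprime.IsSyl p ((P : Subgroup G).map π) ⊤ :=
      CfsgLib.CF.isSyl_map_surj π hπs (CfsgLib.SylBridge.isSyl_top_iff.2 ⟨P, rfl⟩)
    obtain ⟨P₁, hP₁⟩ := CfsgLib.SylBridge.isSyl_top_iff.1 hP'
    have hmapn : ∀ {X Y : Subgroup G}, X ≤ Subgroup.normalizer (Y : Set G) → X.map π ≤ Subgroup.normalizer ((Y.map π : Subgroup _) : Set (G ⧸ M)) := by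
      rintro X Y hXY _ ⟨x, hx, rfl⟩
      apply CfsgLib.H7Basic.mem_normalizer_of_conj_mem
      rintro _ ⟨y, hy, rfl⟩
      rw [← map_inv, ← map_mul, ← map_mul]
      exact ⟨_, (mem_normalizer_iff.1 (hXY hx) y).1 hy, rfl⟩
    have IH := ih (G ⧸ M) hcard (CfsgLib.PSolv.isPSolvable_quotient M hsol) (Q.map π) (fun h => hQ (h.trans (Subgroup.card_map_dvd _ _))) P₁
      (by rw [hP₁]; exact hmapn hQP) (π a) (by
        have := hmapn (X := zpowers a) (zpowers_le.2 haQ)
        exact this ⟨a, mem_zpowers a, rfl⟩) ⟨k, by rw [← map_pow, hk, map_one]⟩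
    have hcomm : ∀ q ∈ Q, a * q * a⁻¹ * q⁻¹ ∈ M ⊓ Q := by
      intro q hq
      refine mem_inf.2 ⟨?_, Q.mul_mem ((mem_normalizer_iff.1 haQ q).1 hq) (Q.inv_mem hq)⟩
      have h1 := mem_centralizer_iff.1 IH (π q) ⟨q, hq, rfl⟩
      rw [← QuotientGroup.eq_one_iff]
      change π (a * q * a⁻¹ * q⁻¹) = 1
      rw [map_mul, map_mul, map_mul, map_inv, map_inv, ← h1]
      group
    rw [mem_centralizer_iff]
    intro q hq
    have hz := hcomm q hq
    suffices h : a * q * a⁻¹ * q⁻¹ = 1 by
      rw [mul_inv_eq_one, mul_inv_eq_iff_eq_mul] at h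
      exact h.symm
    rcases hM with hM | hM
    · obtain ⟨m, hm⟩ := hM.exists_card_eq
      have h1 : M ⊓ Q = ⊥ := by
        rw [← Subgroup.card_eq_one]
        refine Nat.eq_one_of_dvd_coprimes (Nat.Coprime.pow_right m hQc) (Subgroup.card_dvd_of_le inf_le_right) ?_
        rw [← hm]; exact Subgroup.card_dvd_of_le inf_le_left
      rw [h1, mem_bot] at hz
      exact hz
    · -- `P` centralizes `M ⊓ Q`
      obtain ⟨m, hm⟩ := P.2.exists_card_eq
      have h1 : M ⊓ (P : Subgroup G) = ⊥ := by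
        rw [← Subgroup.card_eq_one]
        refine Nat.eq_one_of_dvd_coprimes (Nat.Coprime.pow_right m hM) (Subgroup.card_dvd_of_le inf_le_left) ?_
        rw [← hm]; exact Subgroup.card_dvd_of_le inf_le_right
      have h2 : (P : Subgroup G) ≤ centralizer ((M ⊓ Q : Subgroup G) : Set G) := by
        intro x hx
        rw [mem_centralizer_iff]
        intro y hy
        have hy' := mem_inf.1 hy
        have h3 : y * x * y⁻¹ * x⁻¹ ∈ M ⊓ (P : Subgroup G) := by
          refine mem_inf.2 ⟨?_, ?_⟩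
          · have h4 := M.mul_mem hy'.1 (hMn.conj_mem _ (M.inv_mem hy'.1) x)
            have h5 : y * (x * y⁻¹ * x⁻¹) = y * x * y⁻¹ * x⁻¹ := by group
            rwa [h5] at h4
          · exact Subgroup.mul_mem _ ((mem_normalizer_iff.1 (hQP hy'.2) x).1 hx) (Subgroup.inv_mem _ hx)
        rw [h1, mem_bot, mul_inv_eq_one, mul_inv_eq_iff_eq_mul] at h3
        exact h3
      obtain ⟨N, hN⟩ : ∃ N : Subgroup G, N = Subgroup.normalizer ((M ⊓ Q : Subgroup G) : Set G) := ⟨_, rfl⟩
      have hCN : centralizer ((M ⊓ Q : Subgroup G) : Set G) ≤ N := by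
        intro x hx
        rw [hN]
        apply CfsgLib.H7Basic.mem_normalizer_of_conj_mem
        intro y hy
        rw [← mem_centralizer_iff.1 hx y hy, mul_inv_cancel_right]; exact hy
      have haN : a ∈ N := by
        rw [hN]
        apply CfsgLib.H7Basic.mem_normalizer_of_conj_mem
        intro y hy
        exact mem_inf.2 ⟨hMn.conj_mem y (mem_inf.1 hy).1 a, (mem_normalizer_iff.1 haQ y).1 (mem_inf.1 hy).2⟩
      have hPN : CfsgLib.Coprime.IsSyl p (P : Subgroup G) N := CfsgLib.SylBridge.IsSyl.of_le' (CfsgLib.SylBridge.isSyl_top_iff.2 ⟨P, rfl⟩) (h2.trans hCN) le_top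
      have hap : IsPGroup p (zpowers a) := by
        apply IsPGroup.of_card (n := (orderOf a).factorization p)
        rw [Nat.card_zpowers]
        obtain ⟨j, -, hj⟩ := (Nat.dvd_prime_pow hp.out).1 (orderOf_dvd_of_pow_eq_one hk)
        rw [hj, Nat.Prime.factorization_pow hp.out, Finsupp.single_eq_same]
      obtain ⟨P₂, hP₂, haP₂⟩ := CfsgLib.Coprime.exists_isSyl_ge (p := p) (zpowers_le.2 haN) hap
      obtain ⟨c, hcN, hc⟩ := CfsgLib.Coprime.IsSyl.exists_conj hPN hP₂
      have haC : a ∈ centralizer ((M ⊓ Q : Subgroup G) : Set G) := by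
        have h3 : a ∈ P₂ := haP₂ (mem_zpowers a)
        rw [← hc, CfsgLib.CF.mem_smul] at h3
        have h4 := h2 h3
        rw [mem_centralizer_iff] at h4 ⊢
        intro y hy
        have h5 : c⁻¹ * y * c ∈ M ⊓ Q := by
          have := (mem_normalizer_iff.1 (inv_mem (hN ▸ hcN)) y).1 hy
          rwa [inv_inv] at this
        have h6 := h4 _ h5
        calc y * a = c * ((c⁻¹ * y * c) * (c⁻¹ * a * c)) * c⁻¹ := by group
          _ = a * y := by rw [h6]; group
      have h4 := mem_centralizer_iff.1 haC _ hz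
      exact coprime_trick2 (horda _ (Nat.Coprime.coprime_dvd_left (by
        have := orderOf_dvd_natCard (⟨_, (mem_inf.1 hz).1⟩ : M)
        rwa [orderOf_mk] at this) hM)) rfl h4.symm

theorem s1901 (hG : Cfsg.IsPSolvable p G) (Q : Subgroup G) (hQ : ¬ p ∣ Nat.card Q)
    (hA : p ∣ (Subgroup.centralizer (Q : Set G)).relIndex (Subgroup.normalizer (Q : Set G)))
    (P : Sylow p G) : ¬ Q ≤ Subgroup.normalizer ((P : Subgroup G) : Set G) := by
  intro h
  have key := s1901_aux (p := p) (Nat.card G) G le_rfl hG Q hQ P h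
  -- a Sylow subgroup of `N(Q)` lies in `C(Q)`
  obtain ⟨R, hR⟩ := CfsgLib.Coprime.exists_isSyl p (Subgroup.normalizer (Q : Set G))
  have hRC : R ≤ centralizer (Q : Set G) := by
    intro a ha
    obtain ⟨k, hk⟩ := hR.isPGroup ⟨a, ha⟩
    exact key a (hR.1 ha) ⟨k, congrArg Subtype.val hk⟩
  have h1 := (CfsgLib.SylBridge.isSyl_iff.1 hR).2.2
  exact h1 (hA.trans (Subgroup.relIndex_dvd_of_le_left _ hRC))

theorem s2909 (E : Subgroup G) [hEn : E.Normal] (hE : IsPGroup p ↥E) (U : Subgroup G) (hU : Cfsg.IsElementaryAbelian p U) (hnc : ¬ IsCyclic ↥U)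
    (hcond : (∀ u ∈ U, u ≠ 1 → E ⊓ Subgroup.centralizer (U : Set G) = E ⊓ Subgroup.centralizer ({u} : Set G)) ∨ (∀ u ∈ U, u ≠ 1 → ⁅E, U⁆ = ⁅E, Subgroup.zpowers u⁆))
    (R : Subgroup G) (hR : ¬ p ∣ Nat.card ↥R) (hRU : U ≤ Subgroup.normalizer (R : Set G)) : ⁅R, U⁆ ≤ Subgroup.centralizer (E : Set G) := by
  have hRc : (Nat.card R).Coprime p := ((Nat.Prime.coprime_iff_not_dvd hp.out).2 hR).symm
  have hUab : ∀ a ∈ U, ∀ b ∈ U, a * b = b * a := fun a ha b hb => congrArg Subtype.val (hU.1.is_comm.comm ⟨a, ha⟩ ⟨b, hb⟩)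
  have hUp : IsPGroup p U := by
    rintro ⟨a, ha⟩
    exact ⟨1, Subtype.ext (by rw [pow_one]; exact hU.2 a ha)⟩
  haveI hCn : (centralizer (E : Set G)).Normal := by
    have : E.Normal := hEn
    infer_instance
  obtain ⟨n, hn⟩ := hUp.exists_card_eq
  have hgen := CfsgLib.Coprime.le_cgen_of_not_isCyclic hU.1 hnc hRU (by rw [hn]; exact (Nat.Coprime.pow_right n hRc).symm)
  -- the key claim
  have key : ∀ u ∈ U, u ≠ 1 → ⁅R ⊓ centralizer ({u} : Set G), U⁆ ≤ centralizer (E : Set G) := by
    intro u hu hu1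
    obtain ⟨Ru, hRu⟩ : ∃ Ru, Ru = R ⊓ centralizer ({u} : Set G) := ⟨_, rfl⟩
    rw [← hRu]
    have hRuR : Ru ≤ R := by rw [hRu]; exact inf_le_left
    have hRuu : ∀ r ∈ Ru, r * u = u * r := by
      intro r hr
      rw [hRu] at hr
      exact mem_centralizer_singleton_iff.1 (mem_inf.1 hr).2
    have hURu : U ≤ Subgroup.normalizer (Ru : Set G) := by
      intro a ha
      apply CfsgLib.H7Basic.mem_normalizer_of_conj_mem
      intro r hr
      rw [hRu]
      refine mem_inf.2 ⟨(mem_normalizer_iff.1 (hRU ha) r).1 (hRuR hr), ?_⟩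
      rw [mem_centralizer_singleton_iff]
      have h1 := hRuu r hr
      have h2 := hUab a ha u hu
      calc a * r * a⁻¹ * u = a * r * (a⁻¹ * (u * a) * a⁻¹) := by group
        _ = a * (r * u) * a⁻¹ := by rw [← h2]; group
        _ = a * u * r * a⁻¹ := by rw [h1]; group
        _ = u * (a * r * a⁻¹) := by rw [h2]; group
    have hWR : ⁅Ru, U⁆ ≤ Ru := commutator_le_of_le_normalizer hURu
    have hWc : (Nat.card (⁅Ru, U⁆ : Subgroup G)).Coprime p :=
      Nat.Coprime.coprime_dvd_left (Subgroup.card_dvd_of_le (hWR.trans hRuR)) hRc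
    have hzu : IsPGroup p (zpowers u) := hUp.to_le (zpowers_le.2 hu)
    rcases hcond with hcond | hcond
    · have hX := hcond u hu hu1
      have h1 : ⁅⁅Ru, U⁆, E ⊓ centralizer (U : Set G)⁆ = ⊥ := by
        apply Subgroup.commutator_commutator_eq_bot_of_rotate
        · -- [[U, X], Ru]
          have h2 : ⁅U, E ⊓ centralizer (U : Set G)⁆ = ⊥ := by
            rw [Subgroup.commutator_comm, Subgroup.commutator_eq_bot_iff_le_centralizer]
            exact inf_le_right
          rw [h2, Subgroup.commutator_bot_left]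
        · have h2 : ⁅E ⊓ centralizer (U : Set G), Ru⁆ ≤ E ⊓ centralizer (U : Set G) := by
            rw [hX]
            apply commutator_le_of_le_normalizer
            intro r hr
            apply CfsgLib.H7Basic.mem_normalizer_of_conj_mem
            intro x hx
            refine mem_inf.2 ⟨hEn.conj_mem x (mem_inf.1 hx).1 r, ?_⟩
            rw [mem_centralizer_singleton_iff]
            have h3 := mem_centralizer_singleton_iff.1 (mem_inf.1 hx).2
            have h4 := hRuu r hr
            have h5 : r⁻¹ * u = u * r⁻¹ := by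
              rw [inv_mul_eq_iff_eq_mul, ← mul_assoc, h4, mul_inv_cancel_right]
            calc r * x * r⁻¹ * u = r * x * (r⁻¹ * u) := by group
              _ = r * (x * u) * r⁻¹ := by rw [h5]; group
              _ = (r * u) * x * r⁻¹ := by rw [h3]; group
              _ = u * (r * x * r⁻¹) := by rw [h4]; group
          rw [Subgroup.commutator_eq_bot_iff_le_centralizer]
          exact h2.trans inf_le_right
      refine thompson_PxQ (Nat.card E) (zpowers u) _ E le_rfl hzu hWc hE ?_ ?_ ?_ ?_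
      · rw [zpowers_le, mem_centralizer_iff]
        intro w hw
        exact hRuu w (hWR hw)
      · rw [Subgroup.normalizer_eq_top]; exact le_top
      · rw [Subgroup.normalizer_eq_top]; exact le_top
      · have h2 : E ⊓ centralizer (zpowers u : Set G) ≤ E ⊓ centralizer ({u} : Set G) := by
          refine le_inf inf_le_left (inf_le_right.trans ?_)
          exact Subgroup.centralizer_le (Set.singleton_subset_iff.2 (mem_zpowers u))
        refine h2.trans ?_
        rw [← hX, ← Subgroup.commutator_eq_bot_iff_le_centralizer, Subgroup.commutator_comm]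
        exact h1
    · -- second case
      have hD := hcond u hu hu1
      haveI hΦ := CfsgLib.H6Super.frattini_map_normal (P := E)
      let π := QuotientGroup.mk' ((frattini E).map E.subtype)
      have hπs : Function.Surjective π := QuotientGroup.mk'_surjective _
      have hVab : IsMulCommutative (E.map π) := phi_quot hE
      haveI hVn : (E.map π).Normal := hEn.map π hπs
      have hVp : IsPGroup p (E.map π) := hE.map π
      have hAN : ∀ X : Subgroup (G ⧸ (frattini E).map E.subtype), X ≤ Subgroup.normalizer ((E.map π : Subgroup _) : Set _) := fun X => by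
        rw [Subgroup.normalizer_eq_top]; exact le_top
      apply cent_of_quot hE hWc
      change (⁅Ru, U⁆ : Subgroup G).map π ≤ centralizer ((E.map π : Subgroup _) : Set _)
      obtain ⟨W, hW⟩ : ∃ W, W = (⁅Ru, U⁆ : Subgroup G).map π := ⟨_, rfl⟩
      obtain ⟨V, hV⟩ : ∃ V, V = E.map π := ⟨_, rfl⟩
      obtain ⟨A, hA⟩ : ∃ A, A = (zpowers u).map π := ⟨_, rfl⟩
      rw [← hW, ← hV]
      rw [← hV] at hVab hVn hVp hAN
      haveI := hVn
      have hWcard : (Nat.card W).Coprime p := by
        rw [hW]; exact Nat.Coprime.coprime_dvd_left (Subgroup.card_map_dvd _ _) hWc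
      have hcop : (Nat.card W).Coprime (Nat.card V) := by
        obtain ⟨m, hm⟩ := hVp.exists_card_eq
        rw [hm]; exact Nat.Coprime.pow_right m hWcard
      have hact : CopAct W V := copAct_of_abelian hVab (hAN _) hcop
      have hWA : ⁅W, A⁆ = ⊥ := by
        rw [hW, hA, ← Subgroup.map_commutator]
        have : ⁅⁅Ru, U⁆, zpowers u⁆ = ⊥ := by
          rw [Subgroup.commutator_eq_bot_iff_le_centralizer]
          intro w hw
          rw [mem_centralizer_iff]
          intro y hy
          obtain ⟨k, rfl⟩ := mem_zpowers_iff.1 hy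
          have : Commute u w := (hRuu w (hWR hw)).symm
          exact this.zpow_left k
        rw [this, Subgroup.map_bot]
      -- [V, W] ≤ [V, A]
      have hVU : ⁅V, U.map π⁆ = ⁅V, A⁆ := by
        rw [hV, hA, ← Subgroup.map_commutator, ← Subgroup.map_commutator, hD]
      have hVAV : ⁅V, A⁆ ≤ V := Subgroup.commutator_le_left _ _
      have hcommV : ∀ X ≤ V, V ≤ Subgroup.normalizer (X : Set _) := by
        intro X hX v hv
        apply CfsgLib.H7Basic.mem_normalizer_of_conj_mem
        intro x hx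
        have : v * x = x * v := congrArg Subtype.val (hVab.is_comm.comm ⟨v, hv⟩ ⟨x, hX hx⟩)
        rw [this, mul_inv_cancel_right]; exact hx
      have hnormVA : ∀ X : Subgroup (G ⧸ (frattini E).map E.subtype), ⁅X, A⁆ = ⊥ → X ≤ Subgroup.normalizer ((⁅V, A⁆ : Subgroup _) : Set _) := by
        intro X hX x hx
        apply CfsgLib.H7Basic.mem_normalizer_of_conj_mem
        intro y hy
        have h2 : (⁅V, A⁆ : Subgroup _) ≤ (⁅V, A⁆ : Subgroup _).comap (MulAut.conj x).toMonoidHom := by
          nth_rewrite 1 [Subgroup.commutator_le]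
          intro v hv q hq
          show x * ⁅v, q⁆ * x⁻¹ ∈ ⁅V, A⁆
          rw [conjugate_commutatorElement]
          have h3 : x * q * x⁻¹ = q := by
            have h4 : ⁅x, q⁆ ∈ ⁅X, A⁆ := commutator_mem_commutator hx hq
            rw [hX, mem_bot, commutatorElement_def, mul_inv_eq_one] at h4
            exact h4
          rw [h3]
          exact commutator_mem_commutator (hVn.conj_mem v hv x) hq
        exact h2 hy
      have hRuA : ⁅Ru.map π, A⁆ = ⊥ := by
        rw [hA, ← Subgroup.map_commutator]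
        have : ⁅Ru, zpowers u⁆ = ⊥ := by
          rw [Subgroup.commutator_eq_bot_iff_le_centralizer]
          intro w hw
          rw [mem_centralizer_iff]
          intro y hy
          obtain ⟨k, rfl⟩ := mem_zpowers_iff.1 hy
          have : Commute u w := (hRuu w hw).symm
          exact this.zpow_left k
        rw [this, Subgroup.map_bot]
      have hUA : ⁅U.map π, A⁆ = ⊥ := by
        rw [hA, ← Subgroup.map_commutator]
        have : ⁅U, zpowers u⁆ = ⊥ := by
          rw [Subgroup.commutator_eq_bot_iff_le_centralizer]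
          intro w hw
          rw [mem_centralizer_iff]
          intro y hy
          obtain ⟨k, rfl⟩ := mem_zpowers_iff.1 hy
          have : Commute u w := hUab u hu w hw
          exact this.zpow_left k
        rw [this, Subgroup.map_bot]
      have h1 : ⁅V, W⁆ ≤ ⁅V, A⁆ := by
        rw [Subgroup.commutator_comm, hW, Subgroup.map_commutator]
        apply CfsgLib.H6LB.three_rel (hnormVA _ hRuA) (hnormVA _ hUA) (hcommV _ hVAV)
        · -- [[U, V], Ru]
          rw [Subgroup.commutator_comm (U.map π) V, hVU]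
          exact commutator_le_of_le_normalizer (hnormVA _ hRuA)
        · -- [[V, Ru], U]
          refine (Subgroup.commutator_mono (Subgroup.commutator_le_left _ _) le_rfl).trans hVU.le
      -- V₁ = [V, W] ≤ [V₁, A]
      obtain ⟨V₁, hV₁⟩ : ∃ V₁, V₁ = ⁅V, W⁆ := ⟨_, rfl⟩
      have hV₁V : V₁ ≤ V := by rw [hV₁]; exact Subgroup.commutator_le_left _ _
      have hV₁W : ⁅V₁, W⁆ = V₁ := by rw [hV₁]; exact hact.commutator_commutator
      have hAV₁ : A ≤ Subgroup.normalizer (V₁ : Set _) := by
        intro a ha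
        apply CfsgLib.H7Basic.mem_normalizer_of_conj_mem
        intro y hy
        have h2 : V₁ ≤ V₁.comap (MulAut.conj a).toMonoidHom := by
          nth_rewrite 1 [hV₁]
          rw [Subgroup.commutator_le]
          intro v hv w hw
          show a * ⁅v, w⁆ * a⁻¹ ∈ V₁
          rw [conjugate_commutatorElement, hV₁]
          have h3 : a * w * a⁻¹ = w := by
            have h4 : ⁅w, a⁆ ∈ ⁅W, A⁆ := commutator_mem_commutator hw ha
            rw [hWA, mem_bot, commutatorElement_def, mul_inv_eq_one, mul_inv_eq_iff_eq_mul] at h4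
            rw [← h4, mul_inv_cancel_right]
          rw [h3]
          exact commutator_mem_commutator (hVn.conj_mem v hv a) hw
        exact h2 hy
      have hV₁A : ⁅V₁, A⁆ ≤ V := (commutator_le_of_le_normalizer hAV₁).trans hV₁V
      have hWN : W ≤ Subgroup.normalizer ((⁅V₁, A⁆ : Subgroup _) : Set _) := by
        intro x hx
        apply CfsgLib.H7Basic.mem_normalizer_of_conj_mem
        intro y hy
        have h2 : (⁅V₁, A⁆ : Subgroup _) ≤ (⁅V₁, A⁆ : Subgroup _).comap (MulAut.conj x).toMonoidHom := by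
          nth_rewrite 1 [Subgroup.commutator_le]
          intro v hv q hq
          show x * ⁅v, q⁆ * x⁻¹ ∈ ⁅V₁, A⁆
          rw [conjugate_commutatorElement]
          have h3 : x * q * x⁻¹ = q := by
            have h4 : ⁅x, q⁆ ∈ ⁅W, A⁆ := commutator_mem_commutator hx hq
            rw [hWA, mem_bot, commutatorElement_def, mul_inv_eq_one] at h4
            exact h4
          rw [h3]
          refine commutator_mem_commutator ?_ hq
          have h5 : W ≤ Subgroup.normalizer (V₁ : Set _) := by rw [hV₁]; exact Subgroup.normalizer_commutator_ge_right V W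
          exact (mem_normalizer_iff.1 (h5 hx) v).1 hv
        exact h2 hy
      have h2 : V₁ ≤ ⁅V₁, A⁆ := by
        have h3 : ⁅⁅V, A⁆, W⁆ ≤ ⁅V₁, A⁆ := by
          apply CfsgLib.H6LB.three_rel (hcommV _ hV₁A) (Subgroup.normalizer_commutator_ge_right V₁ A) hWN
          · rw [Subgroup.commutator_comm A W, hWA, Subgroup.commutator_bot_left]; exact bot_le
          · rw [Subgroup.commutator_comm W V, ← hV₁]
        refine le_trans ?_ h3
        nth_rewrite 1 [← hV₁W]
        rw [hV₁]
        exact Subgroup.commutator_mono h1 le_rfl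
      have h3 : V₁ = ⊥ := by
        by_contra hne
        have hAp : IsPGroup p A := by rw [hA]; exact hzu.map π
        exact (commutator_lt_of_isPGroup (hVp.to_le hV₁V) hAp hAV₁ hne).not_ge h2
      rw [← Subgroup.commutator_eq_bot_iff_le_centralizer, Subgroup.commutator_comm, ← hV₁, h3]
  -- conclude in `G / C(E)`
  let ρ := QuotientGroup.mk' (centralizer (E : Set G))
  have h1 : R ≤ (centralizer ((U.map ρ : Subgroup _) : Set _)).comap ρ := by
    refine hgen.trans (iSup₂_le ?_)
    rintro u ⟨hu, hu1⟩ r hr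
    rw [mem_comap, mem_centralizer_iff]
    rintro _ ⟨a, ha, rfl⟩
    have h2 := key u hu hu1 (commutator_mem_commutator hr ha)
    have h3 : ρ ⁅r, a⁆ = 1 := (QuotientGroup.eq_one_iff _).2 h2
    rw [map_commutatorElement, commutatorElement_def, mul_inv_eq_one, mul_inv_eq_iff_eq_mul] at h3
    exact h3.symm
  rw [Subgroup.commutator_le]
  intro r hr a ha
  have h2 := mem_centralizer_iff.1 (mem_comap.1 (h1 hr)) _ ⟨a, ha, rfl⟩
  rw [← QuotientGroup.eq_one_iff]
  change ρ ⁅r, a⁆ = 1
  rw [map_commutatorElement, commutatorElement_def, ← h2]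
  group

end CfsgLib.H6Cp
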