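import Mathlib
import Cfsg.Agent.Lib.PSolv
import Cfsg.Agent.Lib.SylBridge
import Cfsg.Agent.Lib.H7Basic

/-! S1907: conjugation of `p`-elements in `N_G(P ∩ O_{p'p}(G))` -/

namespace CfsgLib.H6Ct
open Subgroup Pointwise
open CfsgLib.Coprime

theorem s1907a {G : Type*} [Group G] [Finite G] {p : ℕ} [hp : Fact p.Prime] {D H : Subgroup G} (hDn : D.Normal)
    (hD : (Nat.card D).Coprime p) (hH : IsPGroup p H) {y : G} (hy : y ∈ normalizer (H : Set G)) (hyp : ∃ k : ℕ, orderOf y = p ^ k)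
    {d : G} (hd : d ∈ D) (hdy : d⁻¹ * y * d ∈ normalizer (H : Set G)) :
    ∃ d₁ ∈ D ⊓ centralizer ({y} : Set G), ∃ d₂ ∈ D ⊓ centralizer (H : Set G), d = d₁ * d₂ := by
  obtain ⟨k, hk⟩ := hyp
  have hDH : D ⊓ H = ⊥ := by
    obtain ⟨n, hn⟩ := IsPGroup.iff_card.1 hH
    exact inf_eq_bot_of_coprime (by rw [hn]; exact hD.pow_right _)
  set C := D ⊓ centralizer (H : Set G) with hC
  have hDN : ∀ x ∈ D, x ∈ normalizer (H : Set G) → x ∈ C := by
    intro x hx hxN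
    refine mem_inf.2 ⟨hx, ?_⟩
    rw [mem_centralizer_iff]
    intro h hh
    have h1 : h * x * h⁻¹ * x⁻¹ ∈ D ⊓ H := by
      refine mem_inf.2 ⟨mul_mem (hDn.conj_mem x hx h) (inv_mem hx), ?_⟩
      have h2 : x * h⁻¹ * x⁻¹ ∈ H := (mem_normalizer_iff.1 hxN h⁻¹).1 (inv_mem hh)
      have h3 : h * x * h⁻¹ * x⁻¹ = h * (x * h⁻¹ * x⁻¹) := by group
      rw [h3]; exact mul_mem hh h2
    rw [hDH, mem_bot] at h1
    have h4 : h * x = (h * x * h⁻¹ * x⁻¹) * (x * h) := by group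
    rw [h4, h1, one_mul]
  have hyD : y * d * y⁻¹ ∈ D := hDn.conj_mem d hd y
  have hyC : y ∈ normalizer (C : Set G) := by
    have h1 : D.map (MulAut.conj y).toMonoidHom = D := CfsgLib.H7Basic.cj_normal y D
    have h2 : H.map (MulAut.conj y).toMonoidHom = H := CfsgLib.H7Basic.cj_eq_self_iff.2 hy
    have h3 : C.map (MulAut.conj y).toMonoidHom = C := by
      rw [hC, CfsgLib.H7Basic.cj_inf, CfsgLib.H7Basic.cj_centralizer, h1, h2]
    exact CfsgLib.H7Basic.cj_eq_self_iff.1 h3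
  have hCD : C ≤ D := inf_le_left
  have hcopC : (Nat.card C).Coprime p := Nat.Coprime.coprime_dvd_left (card_dvd_of_le hCD) hD
  have hco : CopAct (zpowers y) C := by
    refine ⟨by rwa [zpowers_le], ?_, Or.inl inferInstance⟩
    rw [Nat.card_zpowers, hk]
    exact (hcopC.pow_right k).symm
  set u := d⁻¹ * y * d with hu
  have huy : u * y⁻¹ ∈ C := by
    apply hDN
    · have h5 : u * y⁻¹ = d⁻¹ * (y * d * y⁻¹) := by rw [hu]; group
      rw [h5]; exact mul_mem (inv_mem hd) hyD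
    · exact mul_mem hdy (inv_mem hy)
  have hB : zpowers u ≤ C ⊔ zpowers y := by
    rw [zpowers_le]
    have h6 : u = (u * y⁻¹) * y := by group
    rw [h6]
    exact mul_mem (mem_sup_left huy) (mem_sup_right (mem_zpowers y))
  have hou : orderOf u = orderOf y := by
    have h7 : u = (MulAut.conj d⁻¹) y := by rw [hu, MulAut.conj_apply, inv_inv]
    rw [h7]
    exact MulEquiv.orderOf_eq _ y
  obtain ⟨c, hc, hcB⟩ := hco.conj hB (by rw [Nat.card_zpowers, Nat.card_zpowers, hou])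
  have h7 : c * y * c⁻¹ ∈ zpowers u := by
    rw [← hcB]
    exact ⟨y, mem_zpowers y, rfl⟩
  have hBD : D ⊓ zpowers u = ⊥ := by
    apply inf_eq_bot_of_coprime
    rw [Nat.card_zpowers, hou, hk]
    exact hD.pow_right _
  have h8 : (c * y * c⁻¹) * u⁻¹ ∈ D ⊓ zpowers u := by
    refine mem_inf.2 ⟨?_, mul_mem h7 (inv_mem (mem_zpowers u))⟩
    have h9 : (c * y * c⁻¹) * u⁻¹ = (c * (y * c⁻¹ * y⁻¹)) * (u * y⁻¹)⁻¹ := by group
    rw [h9]
    exact mul_mem (mul_mem (hCD hc) (hDn.conj_mem _ (inv_mem (hCD hc)) y)) (inv_mem (hCD huy))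
  rw [hBD, mem_bot, mul_inv_eq_one] at h8
  refine ⟨d * c, mem_inf.2 ⟨mul_mem hd (hCD hc), ?_⟩, c⁻¹, inv_mem hc, by group⟩
  rw [mem_centralizer_singleton_iff]
  have h10 : y * c⁻¹ = c⁻¹ * u := by
    rw [← h8]; group
  have h11 : c * y = u * c := by
    rw [← h8]; group
  calc d * c * y = d * (u * c) := by rw [mul_assoc, h11]
    _ = y * (d * c) := by rw [hu]; group

theorem s1907 {G : Type*} [Group G] [Finite G] {p : ℕ} [Fact p.Prime] (P : Sylow p G) :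
    (∀ y ∈ Subgroup.normalizer (((P : Subgroup G) ⊓ Cfsg.pPrimePCore p G : Subgroup G) : Set G), (∃ k : ℕ, orderOf y = p ^ k) →
      ∀ d ∈ Cfsg.pPrimeCore p G, d⁻¹ * y * d ∈ Subgroup.normalizer (((P : Subgroup G) ⊓ Cfsg.pPrimePCore p G : Subgroup G) : Set G) →
        ∃ d₁ ∈ Cfsg.pPrimeCore p G ⊓ Subgroup.centralizer ({y} : Set G),
          ∃ d₂ ∈ Cfsg.pPrimeCore p G ⊓ Subgroup.centralizer (((P : Subgroup G) ⊓ Cfsg.pPrimePCore p G : Subgroup G) : Set G), d = d₁ * d₂) ∧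
    ∀ x y : G, x ∈ (P : Subgroup G) → y ∈ (P : Subgroup G) → IsConj x y →
      ∃ n ∈ Subgroup.normalizer (((P : Subgroup G) ⊓ Cfsg.pPrimePCore p G : Subgroup G) : Set G), n * x * n⁻¹ = y := by
  set K := Cfsg.pPrimePCore p G with hK
  set D := Cfsg.pPrimeCore p G with hDdef
  set H := (P : Subgroup G) ⊓ K with hH
  have hDn : D.Normal := CfsgLib.Core.pPrimeCore_normal p G
  have hKn : K.Normal := CfsgLib.PSolv.pPrimePCore_normal p G
  have hDc : (Nat.card D).Coprime p := CfsgLib.Core.card_pPrimeCore_coprime p G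
  have hHp : IsPGroup p H := P.isPGroup'.to_le inf_le_left
  have ha : ∀ y ∈ normalizer (H : Set G), (∃ k : ℕ, orderOf y = p ^ k) →
      ∀ d ∈ D, d⁻¹ * y * d ∈ normalizer (H : Set G) →
        ∃ d₁ ∈ D ⊓ centralizer ({y} : Set G), ∃ d₂ ∈ D ⊓ centralizer (H : Set G), d = d₁ * d₂ :=
    fun y hy hyp d hd hdy => s1907a hDn hDc hHp hy hyp hd hdy
  refine ⟨ha, ?_⟩
  intro x y hx hy hxy
  obtain ⟨g, hg⟩ := isConj_iff.1 hxy
  have hPN : (P : Subgroup G) ≤ normalizer (H : Set G) := by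
    intro a haP
    have h1 : (P : Subgroup G).map (MulAut.conj a).toMonoidHom = P := CfsgLib.H7Basic.cj_eq_of_mem haP
    have h2 : K.map (MulAut.conj a).toMonoidHom = K := CfsgLib.H7Basic.cj_normal a K
    have h3 : H.map (MulAut.conj a).toMonoidHom = H := by
      rw [hH, CfsgLib.H7Basic.cj_inf, h1, h2]
    exact CfsgLib.H7Basic.cj_eq_self_iff.1 h3
  have hPS : IsSyl p (P : Subgroup G) ⊤ := CfsgLib.SylBridge.isSyl_top_iff.2 ⟨P, rfl⟩
  have hHS : IsSyl p H K := CfsgLib.SylBridge.IsSyl.inf_normal hPS le_top (by rw [normalizer_eq_top]; )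
  obtain ⟨k, hk⟩ := CfsgLib.PSolv.relIndex_pPrimePCore (G := G) p
  have hKD : H ⊔ D = K := CfsgLib.PSolv.isSyl_sup_eq hHS (CfsgLib.PSolv.pPrimeCore_le_pPrimePCore p G) (by rw [normalizer_eq_top]; exact le_top) hk
  have hfr := CfsgLib.SylBridge.IsSyl.frattini hHS (le_top : K ≤ ⊤) (by rw [normalizer_eq_top])
  have hgD : g ∈ (normalizer (H : Set G)) ⊔ D := by
    have h4 : g ∈ K ⊔ (⊤ ⊓ normalizer (H : Set G)) := hfr (mem_top g)
    rw [top_inf_eq, ← hKD] at h4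
    have h5 : (H ⊔ D) ⊔ normalizer (H : Set G) ≤ (normalizer (H : Set G)) ⊔ D :=
      sup_le (sup_le (le_normalizer.trans le_sup_left) le_sup_right) le_sup_left
    exact h5 h4
  haveI := hDn
  obtain ⟨n, hn, d, hd, rfl⟩ := mem_sup_of_normal_right.1 hgD
  have h6 : d * x * d⁻¹ ∈ normalizer (H : Set G) := by
    have h7 : d * x * d⁻¹ = n⁻¹ * y * n := by rw [← hg]; group
    rw [h7]
    exact mul_mem (mul_mem (inv_mem hn) (hPN hy)) hn
  obtain ⟨j, hj⟩ := (IsPGroup.iff_orderOf.1 P.isPGroup') ⟨x, hx⟩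
  rw [orderOf_mk] at hj
  obtain ⟨d₁, hd₁, d₂, hd₂, hdd⟩ := ha x (hPN hx) ⟨j, hj⟩ d⁻¹ (inv_mem hd) (by rwa [inv_inv])
  have h8 : d = d₂⁻¹ * d₁⁻¹ := by rw [← inv_inj, hdd]; group
  refine ⟨n * d₂⁻¹, mul_mem hn (inv_mem ?_), ?_⟩
  · rw [mem_normalizer_iff]
    intro h
    have hc := mem_centralizer_iff.1 hd₂.2
    constructor
    · intro hh
      rwa [← hc h hh, mul_assoc, mul_inv_cancel, mul_one]
    · intro hh
      have h12 := hc _ hh
      have h13 : h = d₂⁻¹ * (d₂ * h * d₂⁻¹) * d₂ := by group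
      rw [h13, mul_assoc, h12]
      rwa [inv_mul_cancel_left]
  · rw [← hg, h8]
    have h9 : d₁⁻¹ * x * d₁ = x := by
      have h10 := mem_centralizer_singleton_iff.1 hd₁.2
      rw [mul_assoc, ← h10]; group
    calc n * d₂⁻¹ * x * (n * d₂⁻¹)⁻¹ = n * d₂⁻¹ * x * d₂ * n⁻¹ := by group
      _ = n * d₂⁻¹ * (d₁⁻¹ * x * d₁) * d₂ * n⁻¹ := by rw [h9]
      _ = _ := by group

end CfsgLib.H6Ct
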