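import Mathlib
import Cfsg.Agent.Lib.CharBasic

/-! S1922: counting conjugates of an involution fixing exactly one point -/

namespace CfsgLib.H6Ct
open Subgroup Pointwise
open scoped BigOperators

/-- parity: an involutive map of a finite set with exactly one fixed point -/
theorem odd_of_unique_fixed {α : Type*} [DecidableEq α] (s : Finset α) (f : α → α) (hf : ∀ a ∈ s, f a ∈ s) (hff : ∀ a ∈ s, f (f a) = a)
    (x : α) (hx : x ∈ s) (hfx : f x = x) (hu : ∀ a ∈ s, f a = a → a = x) : Odd s.card := by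
  have h1 : ∑ a ∈ s.erase x, (1 : ZMod 2) = 0 := by
    refine Finset.sum_involution (fun a _ => f a) ?_ ?_ ?_ ?_
    · intro a _; decide
    · intro a ha _ hcon
      rw [Finset.mem_erase] at ha
      exact ha.1 (hu a ha.2 hcon)
    · intro a ha
      rw [Finset.mem_erase] at ha ⊢
      refine ⟨?_, hf a ha.2⟩
      intro hcon
      apply ha.1
      rw [← hff a ha.2]
      show f (f a) = x
      rw [hcon, hfx]
    · intro a ha
      exact hff a (Finset.mem_of_mem_erase ha)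
  rw [Finset.sum_const, nsmul_eq_mul, mul_one, ZMod.natCast_eq_zero_iff] at h1
  rw [Finset.card_erase_of_mem hx] at h1
  have h2 : 0 < s.card := Finset.card_pos.2 ⟨x, hx⟩
  obtain ⟨k, hk⟩ := h1
  exact ⟨k, by omega⟩

section dih
variable {G : Type*} [Group G]

theorem inv_of_conj {z s : G} (hz : z * z = 1) (h : IsConj z s) : s * s = 1 := by
  obtain ⟨g, rfl⟩ := isConj_iff.1 h
  have : g * z * g⁻¹ * (g * z * g⁻¹) = g * (z * z) * g⁻¹ := by group
  rw [this, hz]; group

/-- conjugating powers of `a = z t` by `z` -/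
theorem zpow_inv {z t : G} (hz : z * z = 1) (ht : t * t = 1) (n : ℕ) : z * (z * t) ^ n * z = ((z * t) ^ n)⁻¹ := by
  have hzi : z⁻¹ = z := inv_eq_of_mul_eq_one_left hz
  have hti : t⁻¹ = t := inv_eq_of_mul_eq_one_left ht
  have h1 : z * (z * t) * z⁻¹ = (z * t)⁻¹ := by
    rw [mul_inv_rev, hzi, hti, ← mul_assoc, hz, one_mul]
  have h2 : z * (z * t) ^ n * z⁻¹ = ((z * t) ^ n)⁻¹ := by
    rw [← conj_pow, h1, inv_pow]
  rwa [hzi] at h2

/-- `z a^{2j}` is conjugate to `z` -/
theorem conj_even {z t : G} (hz : z * z = 1) (ht : t * t = 1) (j : ℕ) : IsConj z (z * (z * t) ^ (2 * j)) := by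
  rw [isConj_iff]
  refine ⟨((z * t) ^ j)⁻¹, ?_⟩
  have h1 := zpow_inv hz ht j
  have h2 : ((z * t) ^ j)⁻¹ * z * ((z * t) ^ j)⁻¹⁻¹ = (z * (z * t) ^ j * z) * z * (z * t) ^ j := by
    rw [h1, inv_inv]
  rw [h2, mul_assoc (z * (z * t) ^ j), hz, mul_one, mul_assoc, ← pow_add, two_mul]

/-- `z a^{2j+1}` is conjugate to `t` -/
theorem conj_odd {z t : G} (hz : z * z = 1) (ht : t * t = 1) (j : ℕ) : IsConj t (z * (z * t) ^ (2 * j + 1)) := by
  rw [isConj_iff]
  obtain ⟨a, ha⟩ : ∃ a, a = z * t := ⟨_, rfl⟩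
  have h1 := zpow_inv hz ht j
  rw [← ha] at h1 ⊢
  have h3 : (a ^ j)⁻¹ * z = z * a ^ j := by
    rw [← h1, mul_assoc, hz, mul_one]
  have hta : t = z * a := by rw [ha, ← mul_assoc, hz, one_mul]
  refine ⟨(a ^ j)⁻¹, ?_⟩
  calc (a ^ j)⁻¹ * t * (a ^ j)⁻¹⁻¹ = ((a ^ j)⁻¹ * z) * a * a ^ j := by rw [inv_inv, hta]; group
    _ = z * a ^ j * a * a ^ j := by rw [h3]
    _ = z * (a ^ j * a ^ 1 * a ^ j) := by rw [pow_one]; group
    _ = z * a ^ (2 * j + 1) := by
      rw [← pow_add, ← pow_add]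
      congr 2; ring

/-- involutions whose product has odd order are swapped by a conjugate -/
theorem swap_odd [Finite G] {z t : G} (hz : z * z = 1) (ht : t * t = 1) (ho : Odd (orderOf (z * t))) :
    ∃ w, IsConj z w ∧ w * z * w⁻¹ = t := by
  obtain ⟨k, hk⟩ := ho
  set a := z * t with ha
  have hak : a ^ (2 * k + 1) = 1 := by rw [← hk]; exact pow_orderOf_eq_one a
  -- w = z a^{k+1}, 2(k+1) = order + 1
  have hw1 : a ^ (k + 1) = a ^ (2 * ((k + 1) * (k + 1))) := by
    have h1 : 2 * ((k + 1) * (k + 1)) = (2 * k + 1) * (k + 1) + (k + 1) := by ring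
    rw [h1, pow_add a ((2 * k + 1) * (k + 1)) (k + 1), pow_mul, hak, one_pow, one_mul]
  refine ⟨z * a ^ (k + 1), ?_, ?_⟩
  · rw [hw1]; exact conj_even hz ht _
  · have h2 := zpow_inv hz ht (k + 1)
    rw [← ha] at h2
    have h3 : z * a ^ (k + 1) * z * (z * a ^ (k + 1))⁻¹ = (z * a ^ (k + 1) * z) * (a ^ (k + 1))⁻¹ * z⁻¹ := by group
    rw [h3, h2]
    have h4 : (a ^ (k + 1))⁻¹ * (a ^ (k + 1))⁻¹ = a⁻¹ := by
      rw [← mul_inv_rev, ← pow_add]
      have h5 : k + 1 + (k + 1) = (2 * k + 1) + 1 := by ring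
      rw [h5, pow_add, hak, one_mul, pow_one]
    rw [h4, ha, mul_inv_rev, inv_eq_of_mul_eq_one_left ht, mul_assoc, inv_eq_of_mul_eq_one_left hz, hz, mul_one]

/-- even order case: a central involution `u` with `z u`, `t u` conjugate to `z` or `t` -/
theorem even_case [Finite G] {z t : G} (hz : z * z = 1) (ht : t * t = 1) (hzt : IsConj z t) (ho : Even (orderOf (z * t))) :
    ∃ u : G, u ≠ 1 ∧ u * z = z * u ∧ u * t = t * u ∧ IsConj z (z * u) ∧ IsConj z (t * u) := by
  obtain ⟨k, hk⟩ := ho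
  set a := z * t with ha
  have hkpos : 0 < k := by
    have := orderOf_pos a
    omega
  have hu2 : a ^ k * a ^ k = 1 := by rw [← pow_add, ← hk]; exact pow_orderOf_eq_one a
  have hui : (a ^ k)⁻¹ = a ^ k := inv_eq_of_mul_eq_one_left hu2
  have hzi : z⁻¹ = z := inv_eq_of_mul_eq_one_left hz
  have hti : t⁻¹ = t := inv_eq_of_mul_eq_one_left ht
  have hzu : z * a ^ k = a ^ k * z := by
    have h1 := zpow_inv hz ht k
    rw [← ha, hui] at h1
    calc z * a ^ k = z * a ^ k * z * z := by rw [mul_assoc (z * a ^ k), hz, mul_one]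
      _ = a ^ k * z := by rw [h1]
  have hta : t = z * a := by rw [ha, ← mul_assoc, hz, one_mul]
  have htu : t * a ^ k = a ^ k * t := by
    calc t * a ^ k = z * a * a ^ k := by rw [← hta]
      _ = z * a ^ k * a := by rw [mul_assoc, ← pow_succ', pow_succ, mul_assoc]
      _ = a ^ k * z * a := by rw [hzu]
      _ = a ^ k * t := by rw [mul_assoc, ← hta]
  have hta2 : t * z = a⁻¹ := by rw [ha, mul_inv_rev, hti, hzi]
  refine ⟨a ^ k, ?_, hzu.symm, htu.symm, ?_, ?_⟩
  · intro hcon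
    have := orderOf_le_of_pow_eq_one hkpos hcon
    omega
  · rcases Nat.even_or_odd k with ⟨j, hj⟩ | ⟨j, hj⟩
    · rw [hj, ← two_mul]; exact conj_even hz ht j
    · rw [hj]; exact hzt.trans (conj_odd hz ht j)
  · rcases Nat.even_or_odd k with ⟨j, hj⟩ | ⟨j, hj⟩
    · have h4 : t * a ^ k = z * a ^ (2 * j + 1) := by
        calc t * a ^ k = z * a * a ^ k := by rw [← hta]
          _ = z * a ^ (2 * j + 1) := by
            rw [mul_assoc, ← pow_succ', hj]; congr 2; ring
      rw [h4]; exact hzt.trans (conj_odd hz ht j)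
    · have h4 : t * a ^ k = z * a ^ (2 * (j + 1)) := by
        calc t * a ^ k = z * a * a ^ k := by rw [← hta]
          _ = z * a ^ (2 * (j + 1)) := by
            rw [mul_assoc, ← pow_succ', hj]; congr 2
      rw [h4]; exact conj_even hz ht _
end dih

end CfsgLib.H6Ct
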