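import Mathlib
import Cfsg.Agent.Lib.H6Ct4
import Cfsg.Agent.Lib.CharBasic2
import Cfsg.Agent.Lib.SylBridge
import Cfsg.Agent.Lib.Core

/-! S1922: the counting argument -/

namespace CfsgLib.H6Ct
open Subgroup Pointwise
open scoped BigOperators

theorem count {G Ω : Type*} [Group G] [Fintype G] [Fintype Ω] [MulAction G Ω] [DecidableEq Ω] [Nontrivial Ω] [MulAction.IsPretransitive G Ω]
    (z : G) (hz : z * z = 1) (hU : ∀ t, IsConj z t → ∃! ω : Ω, t • ω = ω)
    (hP : ∀ s s', IsConj z s → IsConj z s' → s ≠ s' → s * s' = s' * s → ∀ ω : Ω, (s * s') • ω = ω ↔ s • ω = ω) :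
    Odd (Nat.card {x : G // IsConj z x}) := by
  classical
  set K : Finset G := Finset.univ.filter (fun t => IsConj z t) with hK
  have hKm : ∀ t, t ∈ K ↔ IsConj z t := fun t => by simp [hK]
  have hKinv : ∀ t ∈ K, t * t = 1 := fun t ht => inv_of_conj hz ((hKm t).1 ht)
  have hKconj : ∀ g, ∀ t ∈ K, g * t * g⁻¹ ∈ K := fun g t ht => (hKm _).2 (((hKm t).1 ht).trans (isConj_iff.2 ⟨g, rfl⟩))
  have hsw : ∀ {t : G} {ω ω' : Ω}, t ∈ K → t • ω = ω' → t • ω' = ω := by
    intro t ω ω' ht h
    rw [← h, smul_smul, hKinv t ht, one_smul]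
  -- the odd order claim
  have hodd : ∀ t ∈ K, ∀ α β : Ω, ∀ s ∈ K, s • α = α → t • β = β → α ≠ β → Odd (orderOf (s * t)) := by
    intro t ht α β s hs hsα htβ hαβ
    by_contra hcon
    rw [Nat.not_odd_iff_even] at hcon
    have hst : IsConj s t := ((hKm s).1 hs).symm.trans ((hKm t).1 ht)
    obtain ⟨u, hu1, hus, hut, hsu, htu⟩ := even_case (hKinv s hs) (hKinv t ht) hst hcon
    have hzs := (hKm s).1 hs
    have hzt := (hKm t).1 ht
    have h1 := hP s (s * u) hzs (hzs.trans hsu) (by
      intro h; apply hu1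
      exact (mul_eq_left.1 h.symm)) (by rw [mul_assoc, hus])
    have h2 := hP t (t * u) hzt (hzs.trans htu) (by
      intro h; apply hu1
      exact (mul_eq_left.1 h.symm)) (by rw [mul_assoc, hut])
    rw [← mul_assoc, hKinv s hs, one_mul] at h1
    rw [← mul_assoc, hKinv t ht, one_mul] at h2
    have h3 := (h2 α).1 ((h1 α).2 hsα)
    exact hαβ ((hU t hzt).unique h3 htβ)
  obtain ⟨α, hα, hαu⟩ := hU z (IsConj.refl z)
  have hzK : z ∈ K := (hKm z).2 (IsConj.refl z)
  -- fixed point fibres
  have hA : ∀ β : Ω, (K.filter (fun t => t • β = β)).card = (K.filter (fun t => t • α = α)).card := by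
    intro β
    obtain ⟨g, hg⟩ := MulAction.exists_smul_eq G α β
    symm
    refine Finset.card_bij (fun t _ => g * t * g⁻¹) ?_ ?_ ?_
    · intro t ht
      rw [Finset.mem_filter] at ht ⊢
      refine ⟨hKconj g t ht.1, ?_⟩
      rw [← hg, smul_smul, inv_mul_cancel_right, mul_smul, ht.2]
    · intro a _ b _ hab
      exact mul_left_cancel (mul_right_cancel hab)
    · intro t ht
      rw [Finset.mem_filter] at ht
      refine ⟨g⁻¹ * t * g, ?_, by group⟩
      rw [Finset.mem_filter]
      refine ⟨?_, ?_⟩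
      · have := hKconj g⁻¹ t ht.1
        rwa [inv_inv] at this
      · rw [mul_smul, mul_smul, hg, ht.2, ← hg, inv_smul_smul]
  set m := (K.filter (fun t => t • α = α)).card with hm
  have h1 : K.card = Fintype.card Ω * m := by
    have h2 := Finset.sum_card_bipartiteAbove_eq_sum_card_bipartiteBelow (s := K) (t := (Finset.univ : Finset Ω)) (fun (t : G) (β : Ω) => t • β = β)
    have h3 : ∀ t ∈ K, (Finset.bipartiteAbove (fun (t : G) (β : Ω) => t • β = β) Finset.univ t).card = 1 := by
      intro t ht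
      obtain ⟨ω, hω, hωu⟩ := hU t ((hKm t).1 ht)
      rw [Finset.card_eq_one]
      refine ⟨ω, ?_⟩
      ext β
      simp only [Finset.mem_bipartiteAbove, Finset.mem_univ, true_and, Finset.mem_singleton]
      exact ⟨fun h => hωu β h, fun h => by rw [h]; exact hω⟩
    rw [Finset.sum_congr rfl h3, Finset.sum_const, smul_eq_mul, mul_one] at h2
    have h3' : ∀ β ∈ (Finset.univ : Finset Ω), (Finset.bipartiteBelow (fun (t : G) (β : Ω) => t • β = β) K β).card = m := fun β _ => hA β
    rw [h2, Finset.sum_congr rfl h3', Finset.sum_const, Finset.card_univ, smul_eq_mul]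
  have h4 : K.card = ∑ β : Ω, (K.filter (fun w => w • α = β)).card :=
    Finset.card_eq_sum_card_fiberwise (fun w _ => Finset.mem_univ (w • α))
  have h5 : ∀ β ∈ (Finset.univ : Finset Ω), m ≤ (K.filter (fun w => w • α = β)).card := by
    intro β _
    by_cases hβ : β = α
    · rw [hβ]
    · rw [← hA β]
      have h6 : ∀ t ∈ K.filter (fun t => t • β = β), ∃ w, IsConj z w ∧ w * z * w⁻¹ = t := by
        intro t ht
        rw [Finset.mem_filter] at ht
        exact swap_odd hz (hKinv t ht.1) (hodd t ht.1 α β z hzK hα ht.2 (Ne.symm hβ))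
      choose! f hf1 hf2 using h6
      refine Finset.card_le_card_of_injOn f ?_ ?_
      · intro t ht
        have ht' := ht
        rw [Finset.mem_coe, Finset.mem_filter] at ht
        rw [Finset.mem_coe, Finset.mem_filter]
        refine ⟨(hKm _).2 (hf1 t ht'), ?_⟩
        have h7 : t • (f t • α) = f t • α := by
          calc t • (f t • α) = (f t * z * (f t)⁻¹) • (f t • α) := by rw [hf2 t ht']
            _ = f t • (z • α) := by rw [smul_smul, inv_mul_cancel_right, mul_smul]
            _ = f t • α := by rw [hα]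
        exact (hU t ((hKm t).1 ht.1)).unique h7 ht.2
      · intro t ht t' ht' htt
        rw [← hf2 t ht, ← hf2 t' ht', htt]
  have h8 : ∀ β : Ω, m = (K.filter (fun w => w • α = β)).card := by
    have h9 : ∑ β : Ω, m = ∑ β : Ω, (K.filter (fun w => w • α = β)).card := by
      rw [← h4, h1, Finset.sum_const, Finset.card_univ, smul_eq_mul]
    exact fun β => (Finset.sum_eq_sum_iff_of_le h5).1 h9 β (Finset.mem_univ β)
  -- m is odd
  have hmodd : Odd m := by
    obtain ⟨β, hβ⟩ := exists_ne α
    have hmpos : 0 < m := Finset.card_pos.2 ⟨z, Finset.mem_filter.2 ⟨hzK, hα⟩⟩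
    rw [h8 β] at hmpos ⊢
    obtain ⟨w, hw⟩ := Finset.card_pos.1 hmpos
    rw [Finset.mem_filter] at hw
    refine odd_of_unique_fixed _ (fun v => w * v * w⁻¹) ?_ ?_ w (Finset.mem_filter.2 hw) (by group) ?_
    · intro v hv
      rw [Finset.mem_filter] at hv ⊢
      refine ⟨hKconj w v hv.1, ?_⟩
      have hwi : w⁻¹ = w := inv_eq_of_mul_eq_one_left (hKinv w hw.1)
      rw [hwi, mul_smul, mul_smul, hw.2, hsw hv.1 hv.2, hw.2]
    · intro v hv
      have h10 : w * (w * v * w⁻¹) * w⁻¹ = (w * w) * v * (w * w)⁻¹ := by group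
      show w * (w * v * w⁻¹) * w⁻¹ = v
      rw [h10, hKinv w hw.1]; group
    · intro v hv hvw
      rw [Finset.mem_filter] at hv
      by_contra hne
      have hcomm : w * v = v * w := by
        have h11 : w * v * w⁻¹ = v := hvw
        rwa [mul_inv_eq_iff_eq_mul] at h11
      have h12 := hP w v ((hKm w).1 hw.1) ((hKm v).1 hv.1) (Ne.symm hne) hcomm α
      have h13 : (w * v) • α = α := by rw [mul_smul, hv.2, hsw hw.1 hw.2]
      have h14 := h12.1 h13
      exact hβ (by rw [← hw.2, h14])
  -- the number of points is odd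
  have hn : Odd (Fintype.card Ω) := by
    rw [← Finset.card_univ]
    refine odd_of_unique_fixed _ (fun ω => z • ω) (fun _ _ => Finset.mem_univ _) ?_ α (Finset.mem_univ _) hα ?_
    · intro ω _
      show z • z • ω = ω
      rw [smul_smul, hz, one_smul]
    · intro ω _ h
      exact hαu ω h
  have h15 : Nat.card {x : G // IsConj z x} = K.card := by
    rw [Nat.card_eq_fintype_card, Fintype.card_subtype]
  rw [h15, h1]
  exact hn.mul hmodd

theorem mem_cj {G : Type*} [Group G] {H : Subgroup G} {u g : G} : u ∈ H.map (MulAut.conj g).toMonoidHom ↔ g⁻¹ * u * g ∈ H := by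
  constructor
  · rintro ⟨h, hh, rfl⟩
    have : g⁻¹ * (MulAut.conj g).toMonoidHom h * g = h := by
      show g⁻¹ * (g * h * g⁻¹) * g = h
      group
    rwa [this]
  · intro h
    exact ⟨_, h, by show g * (g⁻¹ * u * g) * g⁻¹ = u; group⟩

theorem smul_mk_iff {G : Type*} [Group G] {H : Subgroup G} {u g : G} :
    u • (QuotientGroup.mk g : G ⧸ H) = QuotientGroup.mk g ↔ g⁻¹ * u * g ∈ H := by
  have h1 : u • (QuotientGroup.mk g : G ⧸ H) = QuotientGroup.mk (u * g) := rfl
  rw [h1, QuotientGroup.eq]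
  have h2 : (u * g)⁻¹ * g = (g⁻¹ * u * g)⁻¹ := by group
  rw [h2, inv_mem_iff]

theorem s1922 {G : Type*} [Group G] [Finite G] (z : G) (hz : orderOf z = 2) (H : Subgroup G) (hH : H ≠ ⊤)
    (h0 : ∀ g : G, z ∈ H.map (MulAut.conj g).toMonoidHom ↔ g ∈ H) :
    (∀ t : G, IsConj z t → t ≠ z → t * z = z * t → ∀ g : G, z * t ∈ H.map (MulAut.conj g).toMonoidHom ↔ g ∈ H) ↔
      ((∃ P : Sylow 2 G, z ∈ (Subgroup.center ↥(P : Subgroup G)).map (P : Subgroup G).subtype) ∧
        ∀ t : G, IsConj z t → t ≠ z → t * z = z * t → Subgroup.centralizer ({z * t} : Set G) ≤ H) := by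
  classical
  haveI : Fact (Nat.Prime 2) := ⟨Nat.prime_two⟩
  have hz2 : z * z = 1 := by rw [← sq, ← hz]; exact pow_orderOf_eq_one z
  have hzH : z ∈ H := by
    have := (h0 1).2 (one_mem H)
    rw [mem_cj] at this
    simpa using this
  constructor
  · intro h1
    refine ⟨?_, ?_⟩
    · haveI : Fintype G := Fintype.ofFinite G
      haveI : Fintype (G ⧸ H) := Fintype.ofFinite _
      haveI : Nontrivial (G ⧸ H) := by
        obtain ⟨x, hx⟩ := SetLike.exists_not_mem_of_ne_top H hH
        refine ⟨⟨QuotientGroup.mk x, QuotientGroup.mk 1, ?_⟩⟩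
        intro hcon
        rw [QuotientGroup.eq, mul_one, inv_mem_iff] at hcon
        exact hx hcon
      have hfix : ∀ (y x : G), (y * z * y⁻¹) • (QuotientGroup.mk x : G ⧸ H) = QuotientGroup.mk x ↔ (QuotientGroup.mk y : G ⧸ H) = QuotientGroup.mk x := by
        intro y x
        rw [smul_mk_iff, QuotientGroup.eq, ← h0 (y⁻¹ * x), mem_cj]
        have : x⁻¹ * (y * z * y⁻¹) * x = (y⁻¹ * x)⁻¹ * z * (y⁻¹ * x) := by group
        rw [this]
      have hcnt := count (Ω := G ⧸ H) z hz2 (by
        intro t ht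
        obtain ⟨y, rfl⟩ := isConj_iff.1 ht
        refine ⟨QuotientGroup.mk y, (hfix y y).2 rfl, ?_⟩
        intro ω hω
        induction ω using QuotientGroup.induction_on with
        | H x => exact ((hfix y x).1 hω).symm) (by
        intro s s' hs hs' hne hcomm ω
        obtain ⟨y, rfl⟩ := isConj_iff.1 hs
        induction ω using QuotientGroup.induction_on with
        | H x =>
          rw [hfix, smul_mk_iff, QuotientGroup.eq]
          have hc' : IsConj z (y⁻¹ * s' * y) := hs'.trans (isConj_iff.2 ⟨y⁻¹, by rw [inv_inv]⟩)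
          rw [← h1 (y⁻¹ * s' * y) hc' (by
            intro h; apply hne
            rw [← h]; group) (by
            have h2 : y⁻¹ * s' * y * z = y⁻¹ * (s' * (y * z * y⁻¹)) * y := by group
            rw [h2, ← hcomm]; group) (y⁻¹ * x), mem_cj]
          have : x⁻¹ * (y * z * y⁻¹ * s') * x = (y⁻¹ * x)⁻¹ * (z * (y⁻¹ * s' * y)) * (y⁻¹ * x) := by group
          rw [this])
      rw [CfsgLib.CharBasic.card_isConj_eq_index] at hcnt
      obtain ⟨P0⟩ : Nonempty (Sylow 2 (centralizer ({z} : Set G))) := inferInstance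
      have hi : ¬ 2 ∣ ((P0 : Subgroup (centralizer ({z} : Set G))).map (centralizer ({z} : Set G)).subtype).index := by
        rw [Subgroup.index_map_subtype]
        intro hcon
        rcases (Nat.Prime.dvd_mul Nat.prime_two).1 hcon with h | h
        · exact P0.not_dvd_index h
        · exact (Nat.not_even_iff_odd.2 hcnt) (even_iff_two_dvd.2 h)
      have hzc : z ∈ centralizer ({z} : Set G) := mem_centralizer_singleton_iff.2 rfl
      have hzcc : (⟨z, hzc⟩ : centralizer ({z} : Set G)) ∈ center (centralizer ({z} : Set G)) := by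
        rw [mem_center_iff]
        rintro ⟨g, hg⟩
        exact Subtype.ext (mem_centralizer_singleton_iff.1 hg)
      have hzP0 : (⟨z, hzc⟩ : centralizer ({z} : Set G)) ∈ (P0 : Subgroup (centralizer ({z} : Set G))) := by
        have h3 : zpowers (⟨z, hzc⟩ : centralizer ({z} : Set G)) ≤ Cfsg.pCore 2 (centralizer ({z} : Set G)) := by
          refine CfsgLib.Core.le_pCore ?_ ?_
          · constructor
            intro n hn g
            have h4 : n ∈ center (centralizer ({z} : Set G)) := (zpowers_le.2 hzcc) hn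
            have h5 : g * n * g⁻¹ = n := by rw [mem_center_iff.1 h4 g]; group
            rwa [h5]
          · refine IsPGroup.of_card (n := 1) ?_
            rw [Nat.card_zpowers, Subgroup.orderOf_mk, hz, pow_one]
        exact CfsgLib.Core.pCore_le_sylow P0 (h3 (mem_zpowers _))
      refine ⟨IsPGroup.toSylow (P0.isPGroup'.map _) hi, ?_⟩
      refine ⟨⟨z, ⟨⟨z, hzc⟩, hzP0, rfl⟩⟩, ?_, rfl⟩
      show _ ∈ center _
      rw [mem_center_iff]
      rintro ⟨g, hg⟩
      obtain ⟨c, _, rfl⟩ := hg
      exact Subtype.ext (mem_centralizer_singleton_iff.1 c.2)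
    · intro t ht hne hcomm c hc
      rw [← h1 t ht hne hcomm c, mem_cj]
      have h2 := mem_centralizer_singleton_iff.1 hc
      have h3 : c⁻¹ * (z * t) * c = z * t := by
        rw [mul_assoc, ← h2]; group
      rw [h3]
      have h4 := (h1 t ht hne hcomm 1).2 (one_mem H)
      rw [mem_cj] at h4
      simpa using h4
  · rintro ⟨⟨P, hP⟩, h2⟩ t ht hne hcomm g
    have hCz : centralizer ({z} : Set G) ≤ H := by
      intro c hc
      rw [← h0 c, mem_cj]
      have h3 := mem_centralizer_singleton_iff.1 hc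
      have h4 : c⁻¹ * z * c = z := by rw [mul_assoc, ← h3]; group
      rwa [h4]
    have hPz : ∀ x ∈ (P : Subgroup G), x * z = z * x := by
      intro x hx
      obtain ⟨⟨z', hz'P⟩, hz', rfl⟩ := hP
      exact congrArg Subtype.val (mem_center_iff.1 hz' ⟨x, hx⟩)
    have hPC : (P : Subgroup G) ≤ centralizer ({z} : Set G) := fun x hx => mem_centralizer_singleton_iff.2 (hPz x hx)
    have htH : t ∈ H := hCz (mem_centralizer_singleton_iff.2 hcomm)
    have huH : z * t ∈ H := mul_mem hzH htH
    have hC := h2 t ht hne hcomm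
    rw [mem_cj]
    constructor
    · intro hg
      have ht2 : t * t = 1 := inv_of_conj hz2 ht
      have hu2 : (z * t) ^ 2 = 1 := by
        rw [sq]
        calc z * t * (z * t) = z * (t * z) * t := by group
          _ = (z * z) * (t * t) := by rw [hcomm]; group
          _ = 1 := by rw [hz2, ht2, one_mul]
      have hv2 : (g⁻¹ * (z * t) * g) ^ 2 = 1 := by
        have h5 : (g⁻¹ * (z * t) * g) ^ 2 = g⁻¹ * (z * t) ^ 2 * g := by rw [sq, sq]; group
        rw [h5, hu2]; group
      have hvp : IsPGroup 2 (zpowers (g⁻¹ * (z * t) * g)) := by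
        have hd : orderOf (g⁻¹ * (z * t) * g) ∣ 2 ^ 1 := by rw [pow_one]; exact orderOf_dvd_of_pow_eq_one hv2
        obtain ⟨k, -, hk⟩ := (Nat.dvd_prime_pow Nat.prime_two).1 hd
        exact IsPGroup.of_card (n := k) (by rw [Nat.card_zpowers, hk])
      obtain ⟨P', hP', hvP'⟩ := CfsgLib.Coprime.exists_isSyl_ge (zpowers_le.2 hg) hvp
      have hPS : CfsgLib.Coprime.IsSyl 2 (P : Subgroup G) H :=
        CfsgLib.SylBridge.IsSyl.of_le' (CfsgLib.SylBridge.isSyl_top_iff.2 ⟨P, rfl⟩) (hPC.trans hCz) le_top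
      obtain ⟨k, hk, hkP⟩ := hP'.exists_conj hPS
      have hv : k * (g⁻¹ * (z * t) * g) * k⁻¹ ∈ (P : Subgroup G) := by
        rw [← hkP]
        exact ⟨_, hvP' (mem_zpowers _), rfl⟩
      have h6 := hPz _ hv
      set x := g * k⁻¹ with hx
      have h7 : x * z * x⁻¹ ∈ centralizer ({z * t} : Set G) := by
        rw [mem_centralizer_singleton_iff]
        have h8 : x * z * x⁻¹ * (z * t) = x * (z * (k * (g⁻¹ * (z * t) * g) * k⁻¹)) * x⁻¹ := by
          rw [hx]; simp only [mul_assoc, mul_inv_rev, inv_inv, mul_inv_cancel_left, inv_mul_cancel_left, inv_mul_cancel, mul_inv_cancel, mul_one]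
        have h8' : z * t * (x * z * x⁻¹) = x * ((k * (g⁻¹ * (z * t) * g) * k⁻¹) * z) * x⁻¹ := by
          rw [hx]; simp only [mul_assoc, mul_inv_rev, inv_inv, mul_inv_cancel_left, inv_mul_cancel_left, inv_mul_cancel, mul_inv_cancel, mul_one]
        rw [h8, h8', ← h6]
      have h9 : x⁻¹ ∈ H := by
        rw [← h0 x⁻¹, mem_cj, inv_inv]
        exact hC h7
      have h10 : g = x * k := by rw [hx]; group
      rw [h10]
      exact mul_mem (inv_mem_iff.1 h9) hk
    · intro hg
      exact mul_mem (mul_mem (inv_mem hg) huH) hg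

end CfsgLib.H6Ct
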