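import Mathlib
import Cfsg.Agent.Lib.SylBridge
import Cfsg.Agent.Lib.H7Basic
import Cfsg.Prelude.Def_Local

/-! S1910: tightly embedded subgroups -/

namespace CfsgLib.H6Ct
open Subgroup Pointwise
open CfsgLib.Coprime

variable {G : Type*} [Group G] [Finite G]

theorem bot_of_odd {A B : Subgroup G} (hA : IsPGroup 2 A) (hAB : A ≤ B) (hB : Odd (Nat.card B)) : A = ⊥ := by
  obtain ⟨k, hk⟩ := IsPGroup.iff_card.1 hA
  have h1 : Nat.card A ∣ Nat.card B := card_dvd_of_le hAB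
  rcases Nat.eq_zero_or_pos k with h | h
  · rw [h, pow_zero] at hk
    exact (Subgroup.card_eq_one).1 hk
  · exfalso
    have h2 : 2 ∣ Nat.card B := (dvd_pow_self 2 h.ne').trans (hk ▸ h1)
    exact (Nat.not_even_iff_odd.2 hB) (even_iff_two_dvd.2 h2)

theorem te_conj {Q : Subgroup G} (hQ : Cfsg.IsTightlyEmbedded Q) (g : G) : Cfsg.IsTightlyEmbedded (Q.map (MulAut.conj g).toMonoidHom) := by
  refine ⟨by rw [Subgroup.card_map_of_injective (MulAut.conj g).injective]; exact hQ.1, ?_⟩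
  intro x hx
  have h1 : g⁻¹ * x * g ∉ normalizer (Q : Set G) := by
    intro h
    apply hx
    apply CfsgLib.H7Basic.cj_eq_self_iff.1
    have h2 := CfsgLib.H7Basic.cj_eq_self_iff.2 h
    rw [CfsgLib.H7Basic.cj_cj]
    have h3 : x * g = g * (g⁻¹ * x * g) := by group
    rw [h3, ← CfsgLib.H7Basic.cj_cj, h2]
  have h4 := hQ.2 _ h1
  have h5 : (Q ⊓ Q.map (MulAut.conj (g⁻¹ * x * g)).toMonoidHom).map (MulAut.conj g).toMonoidHom =
      Q.map (MulAut.conj g).toMonoidHom ⊓ (Q.map (MulAut.conj g).toMonoidHom).map (MulAut.conj x).toMonoidHom := by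
    rw [CfsgLib.H7Basic.cj_inf, CfsgLib.H7Basic.cj_cj, CfsgLib.H7Basic.cj_cj]
    have h3 : g * (g⁻¹ * x * g) = x * g := by group
    rw [h3]
  rw [← h5, Subgroup.card_map_of_injective (MulAut.conj g).injective]
  exact h4

/-- a subgroup centralizing a nontrivial `2`-subgroup of a tightly embedded subgroup normalizes it -/
theorem te_norm {Q : Subgroup G} (hQ : Cfsg.IsTightlyEmbedded Q) {T : Subgroup G} (hT : IsPGroup 2 T) (hT1 : T ≠ ⊥) (hTQ : T ≤ Q)
    {r : G} (hr : ∀ t ∈ T, t * r = r * t) : r ∈ normalizer (Q : Set G) := by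
  by_contra hcon
  refine hT1 (bot_of_odd hT (le_inf hTQ ?_) (hQ.2 r hcon))
  intro t ht
  refine ⟨t, hTQ ht, ?_⟩
  show r * t * r⁻¹ = t
  rw [← hr t ht]; group

theorem embed {Q : Subgroup G} (hQ : Cfsg.IsTightlyEmbedded Q) {g : G} (hg : g ∉ normalizer (Q : Set G))
    {T : Subgroup G} (hT : IsSyl 2 T (Q.map (MulAut.conj g).toMonoidHom ⊓ normalizer (Q : Set G)))
    {S : Subgroup G} (hTS : T ≤ S) (hS : IsSyl 2 S (Q ⊔ T)) :
    T ⊓ Q = ⊥ ∧ (∀ t ∈ T, ∀ r ∈ S ⊓ normalizer (T : Set G) ⊓ Q, t * r = r * t) ∧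
      T ⊔ (S ⊓ normalizer (T : Set G) ⊓ Q) = S ⊓ normalizer (T : Set G) ∧
      ∃ f : T →* ↥(S ⊓ normalizer (T : Set G) ⊓ Q), Function.Injective f := by
  classical
  haveI : Fact (Nat.Prime 2) := ⟨Nat.prime_two⟩
  set Q₂ := Q.map (MulAut.conj g).toMonoidHom with hQ₂
  set R := S ⊓ normalizer (T : Set G) ⊓ Q with hR
  have hTp : IsPGroup 2 T := hT.isPGroup
  have hSp : IsPGroup 2 S := hS.isPGroup
  have hTQ2 : T ≤ Q₂ := hT.1.trans inf_le_left
  have hTN : T ≤ normalizer (Q : Set G) := hT.1.trans inf_le_right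
  have hTQ : T ⊓ Q = ⊥ := bot_of_odd (hTp.to_le inf_le_left) (le_inf inf_le_right (inf_le_left.trans hTQ2)) (hQ.2 g hg)
  have hcomm : ∀ t ∈ T, ∀ r ∈ R, t * r = r * t := by
    intro t ht r hr
    have hrN : r ∈ normalizer (T : Set G) := (mem_inf.1 (mem_inf.1 hr).1).2
    have hrQ : r ∈ Q := (mem_inf.1 hr).2
    have h1 : t * r * t⁻¹ * r⁻¹ ∈ T ⊓ Q := by
      refine mem_inf.2 ⟨?_, mul_mem ((mem_normalizer_iff.1 (hTN ht) r).1 hrQ) (inv_mem hrQ)⟩
      have h2 : t * r * t⁻¹ * r⁻¹ = t * (r * t⁻¹ * r⁻¹) := by group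
      rw [h2]
      exact mul_mem ht ((mem_normalizer_iff.1 hrN t⁻¹).1 (inv_mem ht))
    rw [hTQ, mem_bot] at h1
    have h3 : t * r = (t * r * t⁻¹ * r⁻¹) * (r * t) := by group
    rw [h3, h1, one_mul]
  have hTR : T ⊔ R = S ⊓ normalizer (T : Set G) := by
    apply le_antisymm
    · exact sup_le (le_inf hTS le_normalizer) inf_le_left
    · intro x hx
      obtain ⟨q, hq, t, ht, rfl⟩ := (mem_sup_iff hTN x).1 (hS.1 (mem_inf.1 hx).1)
      have h1 : q ∈ R := by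
        refine mem_inf.2 ⟨?_, hq⟩
        have h2 : q = (q * t) * t⁻¹ := by group
        rw [h2]
        exact mul_mem hx (inv_mem (mem_inf.2 ⟨hTS ht, le_normalizer ht⟩))
      exact mul_mem (mem_sup_right h1) (mem_sup_left ht)
  refine ⟨hTQ, hcomm, hTR, ?_⟩
  have hQTN : Q ⊔ T ≤ normalizer (Q : Set G) := sup_le le_normalizer hTN
  by_cases hSN : S ≤ normalizer (T : Set G)
  · have hRe : R = S ⊓ Q := by rw [hR, inf_eq_left.2 hSN]
    have hSQ : IsSyl 2 (S ⊓ Q) Q := CfsgLib.SylBridge.IsSyl.inf_normal hS le_sup_left hQTN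
    have h1 : T.map (MulAut.conj g⁻¹).toMonoidHom ≤ Q := by
      have h2 : Q = Q₂.map (MulAut.conj g⁻¹).toMonoidHom := by
        rw [hQ₂, CfsgLib.H7Basic.cj_cj, inv_mul_cancel, CfsgLib.H7Basic.cj_one]
      rw [h2]; exact map_mono hTQ2
    obtain ⟨P, hP, hTP⟩ := exists_isSyl_ge h1 (hTp.map _)
    obtain ⟨k, hk, hkP⟩ := hP.exists_conj hSQ
    have h3 : ∀ t ∈ T, (k * g⁻¹) * t * (k * g⁻¹)⁻¹ ∈ R := by
      intro t ht
      rw [hRe, ← hkP]
      refine ⟨g⁻¹ * t * g, hTP ⟨t, ht, ?_⟩, ?_⟩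
      · show g⁻¹ * t * g⁻¹⁻¹ = g⁻¹ * t * g
        group
      · show k * (g⁻¹ * t * g) * k⁻¹ = _
        group
    refine ⟨MonoidHom.mk' (fun t => ⟨(k * g⁻¹) * t * (k * g⁻¹)⁻¹, h3 t t.2⟩) ?_, ?_⟩
    · intro a b
      apply Subtype.ext
      show (k * g⁻¹) * (a * b : G) * (k * g⁻¹)⁻¹ = (k * g⁻¹) * a * (k * g⁻¹)⁻¹ * ((k * g⁻¹) * b * (k * g⁻¹)⁻¹)
      group
    · intro a b hab
      have h4 : (k * g⁻¹) * (a : G) * (k * g⁻¹)⁻¹ = (k * g⁻¹) * b * (k * g⁻¹)⁻¹ := congrArg Subtype.val hab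
      exact Subtype.ext (mul_left_cancel (mul_right_cancel h4))
  · have hlt : S ⊓ normalizer (T : Set G) < S := lt_of_le_of_ne inf_le_left (fun h => hSN (inf_eq_left.1 h))
    have h5 := exists_normalizer_gt hSp hlt
    obtain ⟨s, hs, hsP⟩ := SetLike.exists_of_lt h5
    set P := S ⊓ normalizer (T : Set G) with hP
    have hsS : s ∈ S := (mem_inf.1 hs).1
    have hsN : s ∉ normalizer (T : Set G) := fun h => hsP (mem_inf.2 ⟨hsS, h⟩)
    have hsPP : P.map (MulAut.conj s).toMonoidHom = P := CfsgLib.H7Basic.cj_eq_self_iff.2 (mem_inf.1 hs).2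
    have hTP : T ≤ P := le_inf hTS le_normalizer
    have hsTP : T.map (MulAut.conj s).toMonoidHom ≤ P := by rw [← hsPP]; exact map_mono hTP
    have hinf : T.map (MulAut.conj s).toMonoidHom ⊓ T = ⊥ := by
      by_cases hsQ : s ∈ normalizer (Q₂ : Set G)
      · exfalso
        have h6 : T = Q₂ ⊓ P := isSyl_of_le hT (le_inf inf_le_left (inf_le_right.trans (inf_le_left.trans (hS.1.trans hQTN))))
          (hSp.to_le (inf_le_right.trans inf_le_left)) (le_inf hTQ2 hTP)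
        have h7 : T.map (MulAut.conj s).toMonoidHom ≤ T := by
          conv_rhs => rw [h6]
          refine le_inf ?_ hsTP
          have h8 : Q₂.map (MulAut.conj s).toMonoidHom = Q₂ := CfsgLib.H7Basic.cj_eq_self_iff.2 hsQ
          rw [← h8]; exact map_mono hTQ2
        apply hsN
        apply CfsgLib.H7Basic.cj_eq_self_iff.1
        exact Subgroup.eq_of_le_of_card_ge h7 (by rw [Subgroup.card_map_of_injective (MulAut.conj s).injective])
      · exact bot_of_odd (hTp.to_le inf_le_right) (le_inf (inf_le_right.trans hTQ2) (inf_le_left.trans (map_mono hTQ2)))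
          ((te_conj hQ g).2 s hsQ)
    have hTRb : ∀ x, x ∈ T → x ∈ R → x = 1 := by
      intro x hx hx'
      have : x ∈ T ⊓ Q := mem_inf.2 ⟨hx, (mem_inf.1 hx').2⟩
      rwa [hTQ, mem_bot] at this
    have hex : ∀ t : T, ∃ a ∈ T, ∃ r ∈ R, s * t * s⁻¹ = a * r := by
      intro t
      have h9 : s * t * s⁻¹ ∈ T ⊔ R := by
        rw [hTR]
        exact hsTP ⟨t, t.2, rfl⟩
      have hRN : R ≤ normalizer (T : Set G) := inf_le_left.trans inf_le_right
      obtain ⟨k, hk, a, ha, hka⟩ := (mem_sup_iff hRN _).1 h9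
      exact ⟨k, hk, a, ha, hka.symm⟩
    choose a ha r hr har using hex
    have huniq : ∀ x y x' y', x ∈ T → x' ∈ T → y ∈ R → y' ∈ R → x * y = x' * y' → y = y' := by
      intro x y x' y' hx hx' hy hy' h
      have h10 : x'⁻¹ * x = y' * y⁻¹ := by
        calc x'⁻¹ * x = x'⁻¹ * (x * y) * y⁻¹ := by group
          _ = y' * y⁻¹ := by rw [h]; group
      have h11 : y' * y⁻¹ = 1 := hTRb _ (h10 ▸ mul_mem (inv_mem hx') hx) (mul_mem hy' (inv_mem hy))
      exact (mul_inv_eq_one.1 h11).symm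
    refine ⟨MonoidHom.mk' (fun t => ⟨r t, hr t⟩) ?_, ?_⟩
    · intro t t'
      apply Subtype.ext
      show r (t * t') = r t * r t'
      apply huniq (a (t * t')) _ (a t * a t') _ (ha _) (mul_mem (ha t) (ha t')) (hr _) (mul_mem (hr t) (hr t'))
      rw [← har]
      have h12 : s * ((t * t' : T) : G) * s⁻¹ = (s * t * s⁻¹) * (s * t' * s⁻¹) := by
        rw [Subgroup.coe_mul]; group
      rw [h12, har, har]
      have h13 := hcomm (a t') (ha t') (r t) (hr t)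
      calc a t * r t * (a t' * r t') = a t * (r t * a t') * r t' := by group
        _ = a t * a t' * (r t * r t') := by rw [← h13]; group
    · rw [injective_iff_map_eq_one]
      intro t ht
      have h14 : r t = 1 := congrArg Subtype.val ht
      have h15 : s * t * s⁻¹ ∈ T.map (MulAut.conj s).toMonoidHom ⊓ T :=
        mem_inf.2 ⟨⟨t, t.2, rfl⟩, by rw [har, h14, mul_one]; exact ha t⟩
      rw [hinf, mem_bot] at h15
      apply Subtype.ext
      show (t : G) = 1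
      have h16 : (t : G) = s⁻¹ * (s * t * s⁻¹) * s := by group
      rw [h16, h15]; group

theorem s1910 (Q : Subgroup G) (hQ : Cfsg.IsTightlyEmbedded Q)
    (g : G) (hg : g ∉ Subgroup.normalizer (Q : Set G))
    (T : Subgroup G) (hT1 : T ≠ ⊥) (hT : T ≤ Q.map (MulAut.conj g).toMonoidHom ⊓ Subgroup.normalizer (Q : Set G))
    (hTsyl : IsPGroup 2 T ∧ ¬ 2 ∣ T.relIndex (Q.map (MulAut.conj g).toMonoidHom ⊓ Subgroup.normalizer (Q : Set G)))
    (S : Subgroup G) (hTS : T ≤ S) (hS : S ≤ Q ⊔ T) (hSsyl : IsPGroup 2 S ∧ ¬ 2 ∣ S.relIndex (Q ⊔ T)) :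
    T ⊓ Q = ⊥ ∧
      T ⊓ (S ⊓ Subgroup.normalizer (T : Set G) ⊓ Q) = ⊥ ∧
      ⁅T, S ⊓ Subgroup.normalizer (T : Set G) ⊓ Q⁆ = ⊥ ∧
      T ⊔ (S ⊓ Subgroup.normalizer (T : Set G) ⊓ Q) = S ⊓ Subgroup.normalizer (T : Set G) ∧
      Nonempty (↥(S ⊓ Subgroup.normalizer (T : Set G) ⊓ Q) ≃* T) := by
  haveI : Fact (Nat.Prime 2) := ⟨Nat.prime_two⟩
  have hTS' : IsSyl 2 T (Q.map (MulAut.conj g).toMonoidHom ⊓ normalizer (Q : Set G)) := CfsgLib.SylBridge.isSyl_iff.2 ⟨hT, hTsyl.1, hTsyl.2⟩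
  have hSS' : IsSyl 2 S (Q ⊔ T) := CfsgLib.SylBridge.isSyl_iff.2 ⟨hS, hSsyl.1, hSsyl.2⟩
  have hemb := embed hQ hg hTS' hTS hSS'
  set R := S ⊓ normalizer (T : Set G) ⊓ Q with hR
  set Q₂ := Q.map (MulAut.conj g).toMonoidHom with hQ₂
  obtain ⟨h1, h2, h3, f, hf⟩ := hemb
  have hQ2 : Cfsg.IsTightlyEmbedded Q₂ := te_conj hQ g
  refine ⟨h1, ?_, ?_, h3, ?_⟩
  · rw [eq_bot_iff, ← h1]
    exact inf_le_inf_left _ inf_le_right
  · rw [eq_bot_iff, commutator_le]
    intro t ht r hr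
    rw [mem_bot, commutatorElement_def, h2 t ht r hr]; group
  · have hTQ2 : T ≤ Q₂ := hT.trans inf_le_left
    have hRp : IsPGroup 2 R := hSsyl.1.to_le (inf_le_left.trans inf_le_left)
    have hRN : R ≤ Q ⊓ normalizer (Q₂ : Set G) := by
      intro r hr
      exact mem_inf.2 ⟨(mem_inf.1 hr).2, te_norm hQ2 hTsyl.1 hT1 hTQ2 (fun t ht => h2 t ht r hr)⟩
    obtain ⟨T', hT', hRT'⟩ := exists_isSyl_ge hRN hRp
    have hback : Q₂.map (MulAut.conj g⁻¹).toMonoidHom = Q := by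
      rw [hQ₂, CfsgLib.H7Basic.cj_cj, inv_mul_cancel, CfsgLib.H7Basic.cj_one]
    have hg' : g⁻¹ ∉ normalizer (Q₂ : Set G) := by
      intro h
      apply hg
      have h4 := CfsgLib.H7Basic.cj_eq_self_iff.2 h
      rw [hback] at h4
      exact CfsgLib.H7Basic.cj_eq_self_iff.1 h4.symm
    have hT'' : IsSyl 2 T' (Q₂.map (MulAut.conj g⁻¹).toMonoidHom ⊓ normalizer (Q₂ : Set G)) := by rw [hback]; exact hT'
    obtain ⟨S', hS', hTS''⟩ := exists_isSyl_ge (le_sup_right : T' ≤ Q₂ ⊔ T') hT'.isPGroup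
    have hemb' := embed hQ2 hg' hT'' hTS'' hS'
    set R' := S' ⊓ normalizer (T' : Set G) ⊓ Q₂ with hR'
    obtain ⟨k1, k2, k3, f', hf'⟩ := hemb'
    have hcTR : Nat.card T ≤ Nat.card R := Nat.card_le_card_of_injective f hf
    have hcRT' : Nat.card R ≤ Nat.card T' := Nat.card_le_card_of_injective _ (inclusion_injective hRT')
    have hcT'R' : Nat.card T' ≤ Nat.card R' := Nat.card_le_card_of_injective f' hf'
    have hT'1 : T' ≠ ⊥ := by
      intro h
      rw [h] at hcRT'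
      have h5 : Nat.card T ≤ 1 := hcTR.trans (hcRT'.trans (by simp))
      exact hT1 ((Subgroup.card_eq_one).1 (le_antisymm h5 Nat.card_pos))
    have hR'N : R' ≤ Q₂ ⊓ normalizer (Q : Set G) := by
      intro r hr
      exact mem_inf.2 ⟨(mem_inf.1 hr).2, te_norm hQ hT'.isPGroup hT'1 (hT'.1.trans inf_le_left) (fun t ht => k2 t ht r hr)⟩
    obtain ⟨T3, hT3, hR'T3⟩ := exists_isSyl_ge hR'N (hS'.isPGroup.to_le (inf_le_left.trans inf_le_left))
    have hcR'T : Nat.card R' ≤ Nat.card T := by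
      have h6 : Nat.card T3 = Nat.card T := by rw [hT3.2, hTS'.2]
      rw [← h6]
      exact Nat.card_le_card_of_injective _ (inclusion_injective hR'T3)
    have hcard : Nat.card T = Nat.card R := le_antisymm hcTR (hcRT'.trans (hcT'R'.trans hcR'T))
    have hbij : Function.Bijective f := (Nat.bijective_iff_injective_and_card f).2 ⟨hf, hcard⟩
    exact ⟨(MulEquiv.ofBijective f hbij).symm⟩

end CfsgLib.H6Ct
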