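import Mathlib
import Cfsg.Agent.Lib.PGrp

/-! S2880, S2881: elements of order 4 of the extraspecial group of plus type -/

namespace CfsgLib.H6Ct
open Subgroup
open scoped BigOperators commutatorElement

section esp
variable {E : Type*} [Group E] [Fintype E] [DecidableEq E]

/-- the sign function -/
def sg (x : E) : ℤ := if x = 1 then 1 else -1

theorem sg_one : sg (1 : E) = 1 := by simp [sg]

theorem sg_mul (hZ : Nat.card (center E) = 2) {x y : E} (hx : x ∈ center E) (hy : y ∈ center E) : sg (x * y) = sg x * sg y := by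
  have h2 : ∀ w ∈ center E, w ^ 2 = 1 := by
    intro w hw
    have h1 : (⟨w, hw⟩ : center E) ^ Nat.card (center E) = 1 := pow_card_eq_one'
    rw [hZ] at h1
    exact congrArg Subtype.val h1
  by_cases h1 : x = 1
  · simp [sg, h1]
  · by_cases h3 : y = 1
    · simp [sg, h3]
    · have h4 : x * y = 1 := by
        by_contra hne
        -- x, y, xy, 1 would be distinct unless x = y
        have h5 : x ≠ y := by
          rintro rfl
          apply hne
          rw [← sq]; exact h2 x hx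
        have h6 : ({1, x, y} : Finset E) ⊆ Finset.univ.filter (fun w => w ∈ center E) := by
          intro w hw
          simp only [Finset.mem_insert, Finset.mem_singleton] at hw
          rw [Finset.mem_filter]
          refine ⟨Finset.mem_univ _, ?_⟩
          rcases hw with rfl | rfl | rfl
          · exact one_mem _
          · exact hx
          · exact hy
        have h7 := Finset.card_le_card h6
        have h8 : (Finset.univ.filter (fun w => w ∈ center E)).card = 2 := by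
          rw [← hZ, Nat.card_eq_fintype_card, ← Fintype.card_subtype]
        have h9 : ({1, x, y} : Finset E).card = 3 := by
          rw [Finset.card_insert_of_notMem, Finset.card_insert_of_notMem, Finset.card_singleton]
          · simpa using h5
          · simp only [Finset.mem_insert, Finset.mem_singleton, not_or]
            exact ⟨fun h => h1 h.symm, fun h => h3 h.symm⟩
        omega
      simp [sg, h1, h3, h4]

theorem comm_mul_right (hc : ∀ x y : E, ⁅x, y⁆ ∈ center E) (x a b : E) : ⁅x, a * b⁆ = ⁅x, a⁆ * ⁅x, b⁆ := by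
  have h1 := mem_center_iff.1 (hc x b) a
  simp only [commutatorElement_def] at *
  calc x * (a * b) * x⁻¹ * (a * b)⁻¹ = (x * a * x⁻¹ * a⁻¹) * (a * (x * b * x⁻¹ * b⁻¹)) * a⁻¹ := by group
    _ = _ := by rw [h1]; group

theorem comm_mul_left (hc : ∀ x y : E, ⁅x, y⁆ ∈ center E) (x y a : E) : ⁅x * y, a⁆ = ⁅x, a⁆ * ⁅y, a⁆ := by
  have h1 := mem_center_iff.1 (hc y a) x
  have h2 := mem_center_iff.1 (hc y a) (x * a * x⁻¹ * a⁻¹)
  simp only [commutatorElement_def] at *
  calc x * y * a * (x * y)⁻¹ * a⁻¹ = (x * (y * a * y⁻¹ * a⁻¹)) * a * x⁻¹ * a⁻¹ := by group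
    _ = (y * a * y⁻¹ * a⁻¹) * (x * a * x⁻¹ * a⁻¹) := by rw [h1]; group
    _ = _ := h2.symm

/-- the character `a ↦ [x, a]` -/
def chiR (hZ : Nat.card (center E) = 2) (hc : ∀ x y : E, ⁅x, y⁆ ∈ center E) (A : Subgroup E) (x : E) : A →* ℤ where
  toFun a := sg ⁅x, (a : E)⁆
  map_one' := by simp [sg_one]
  map_mul' a b := by
    rw [Subgroup.coe_mul, comm_mul_right hc, sg_mul hZ (hc _ _) (hc _ _)]

def chiL (hZ : Nat.card (center E) = 2) (hc : ∀ x y : E, ⁅x, y⁆ ∈ center E) (a : E) : E →* ℤ where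
  toFun x := sg ⁅x, a⁆
  map_one' := by simp [sg_one]
  map_mul' x y := by
    rw [comm_mul_left hc, sg_mul hZ (hc _ _) (hc _ _)]

theorem sg_eq_one {x : E} : sg x = 1 ↔ x = 1 := by
  unfold sg
  split_ifs with h
  · simp [h]
  · simp [h]

theorem sumR (hZ : Nat.card (center E) = 2) (hc : ∀ x y : E, ⁅x, y⁆ ∈ center E) (A : Subgroup E) [Fintype A] (x : E) [Decidable (x ∈ centralizer (A : Set E))] :
    ∑ a : A, sg ⁅x, (a : E)⁆ = if x ∈ centralizer (A : Set E) then (Nat.card A : ℤ) else 0 := by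
  classical
  have h1 := sum_hom_units (chiR hZ hc A x)
  have h2 : chiR hZ hc A x = 1 ↔ x ∈ centralizer (A : Set E) := by
    rw [mem_centralizer_iff]
    constructor
    · intro h a ha
      have h3 : sg ⁅x, a⁆ = 1 := DFunLike.congr_fun h ⟨a, ha⟩
      rw [sg_eq_one, commutatorElement_eq_one_iff_mul_comm] at h3
      exact h3.symm
    · intro h
      ext a
      show sg ⁅x, (a : E)⁆ = 1
      rw [sg_eq_one, commutatorElement_eq_one_iff_mul_comm]
      exact (h a a.2).symm
  have h4 : ∑ a : A, sg ⁅x, (a : E)⁆ = ∑ a : A, chiR hZ hc A x a := rfl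
  rw [h4, h1]
  by_cases h5 : x ∈ centralizer (A : Set E)
  · rw [if_pos h5, if_pos (h2.2 h5), Nat.card_eq_fintype_card]
  · rw [if_neg h5, if_neg (fun h => h5 (h2.1 h))]; rfl

theorem sumL (hZ : Nat.card (center E) = 2) (hc : ∀ x y : E, ⁅x, y⁆ ∈ center E) (a : E) [Decidable (a ∈ center E)] :
    ∑ x : E, sg ⁅x, a⁆ = if a ∈ center E then (Nat.card E : ℤ) else 0 := by
  classical
  have h1 := sum_hom_units (chiL hZ hc a)
  have h2 : chiL hZ hc a = 1 ↔ a ∈ center E := by
    rw [mem_center_iff]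
    constructor
    · intro h x
      have h3 : sg ⁅x, a⁆ = 1 := DFunLike.congr_fun h x
      rwa [sg_eq_one, commutatorElement_eq_one_iff_mul_comm] at h3
    · intro h
      ext x
      show sg ⁅x, a⁆ = 1
      rw [sg_eq_one, commutatorElement_eq_one_iff_mul_comm]
      exact h x
  have h4 : ∑ x : E, sg ⁅x, a⁆ = ∑ x : E, chiL hZ hc a x := rfl
  rw [h4, h1]
  by_cases h5 : a ∈ center E
  · rw [if_pos h5, if_pos (h2.2 h5), Nat.card_eq_fintype_card]
  · rw [if_neg h5, if_neg (fun h => h5 (h2.1 h))]; rfl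

/-- `|A| |C(A)| = |E| |A ∩ Z(E)|` -/
theorem card_cent (hZ : Nat.card (center E) = 2) (hc : ∀ x y : E, ⁅x, y⁆ ∈ center E) (A : Subgroup E) :
    Nat.card A * Nat.card (centralizer (A : Set E)) = Nat.card E * Nat.card (A ⊓ center E : Subgroup E) := by
  classical
  have h1 : ∑ x : E, ∑ a : A, sg ⁅x, (a : E)⁆ = ∑ a : A, ∑ x : E, sg ⁅x, (a : E)⁆ := Finset.sum_comm
  rw [Finset.sum_congr rfl (fun x _ => sumR hZ hc A x), Finset.sum_congr rfl (fun (a : A) _ => sumL hZ hc (a : E)),
    ← Finset.sum_filter, ← Finset.sum_filter, Finset.sum_const, Finset.sum_const] at h1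
  have h2 : (Finset.univ.filter (fun x : E => x ∈ centralizer (A : Set E))).card = Nat.card (centralizer (A : Set E)) := by
    rw [Nat.card_eq_fintype_card, ← Fintype.card_subtype]
  have h3 : (Finset.univ.filter (fun a : A => (a : E) ∈ center E)).card = Nat.card (A ⊓ center E : Subgroup E) := by
    rw [← Fintype.card_subtype, ← Nat.card_eq_fintype_card]
    exact Nat.card_congr
      { toFun := fun a => ⟨(a : A), mem_inf.2 ⟨(a : A).2, a.2⟩⟩
        invFun := fun b => ⟨⟨b, (mem_inf.1 b.2).1⟩, (mem_inf.1 b.2).2⟩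
        left_inv := fun a => rfl
        right_inv := fun b => rfl }
  rw [h2, h3, nsmul_eq_mul, nsmul_eq_mul] at h1
  have h4 : Nat.card (centralizer (A : Set E)) * Nat.card A = Nat.card (A ⊓ center E : Subgroup E) * Nat.card E := by exact_mod_cast h1
  rw [mul_comm, h4, mul_comm]

theorem sum_sq (hZ : Nat.card (center E) = 2) (hc : ∀ x y : E, ⁅x, y⁆ ∈ center E) (hsq : ∀ x : E, x ^ 2 ∈ center E) (A : Subgroup E)
    (hA : ∀ a ∈ A, a ^ 2 = 1) (hCA : centralizer (A : Set E) = A) : ∑ x : E, sg (x ^ 2) = Nat.card A := by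
  classical
  have hA1 : (0 : ℤ) < Nat.card A := by exact_mod_cast Nat.card_pos
  have h1 : ∀ a : A, ∑ x : E, sg ((x * a) ^ 2) = ∑ x : E, sg (x ^ 2) := fun a =>
    Fintype.sum_equiv (Equiv.mulRight (a : E)) _ _ (fun x => rfl)
  have hsq2 : ∀ w ∈ center E, w * w = 1 := by
    intro w hw
    have h1 : (⟨w, hw⟩ : center E) ^ Nat.card (center E) = 1 := pow_card_eq_one'
    rw [hZ, sq] at h1
    exact congrArg Subtype.val h1
  have h2 : ∀ (x : E) (a : A), sg ((x * a) ^ 2) = sg (x ^ 2) * sg ⁅x, (a : E)⁆ := by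
    intro x a
    have h3 : (x * (a : E)) ^ 2 = x ^ 2 * ⁅x, (a : E)⁆ := by
      have h4 := mem_center_iff.1 (hc (a : E) x) x
      have h5 : ⁅(a : E), x⁆ = ⁅x, (a : E)⁆ := by
        rw [← commutatorElement_inv]
        exact inv_eq_of_mul_eq_one_left (hsq2 _ (hc _ _))
      have h6 : (a : E) * a = 1 := by rw [← sq]; exact hA a a.2
      rw [← h5]
      have h7 : (x * (a : E)) ^ 2 = x * ⁅(a : E), x⁆ * x * (a * a) := by rw [commutatorElement_def, sq]; group
      rw [h7, h6, mul_one, h4, sq, mul_assoc, ← mem_center_iff.1 (hc (a : E) x) (x * x)]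
    rw [h3, sg_mul hZ (hsq x) (hc _ _)]
  have h8 : ∑ a : A, ∑ x : E, sg ((x * a) ^ 2) = ∑ x : E, ∑ a : A, sg ((x * (a : E)) ^ 2) := Finset.sum_comm
  rw [Finset.sum_congr rfl (fun a _ => h1 a), Finset.sum_const, Finset.card_univ] at h8
  have h9 : ∀ x : E, ∑ a : A, sg ((x * (a : E)) ^ 2) = if x ∈ A then (Nat.card A : ℤ) else 0 := by
    intro x
    rw [Finset.sum_congr rfl (fun a _ => h2 x a), ← Finset.mul_sum, sumR hZ hc A x]
    by_cases hx : x ∈ A
    · have hx' : x ∈ centralizer (A : Set E) := by rw [hCA]; exact hx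
      rw [if_pos hx, if_pos hx', hA x hx, sg_one, one_mul]
    · have hx' : x ∉ centralizer (A : Set E) := by rw [hCA]; exact hx
      rw [if_neg hx, if_neg hx', mul_zero]
  rw [Finset.sum_congr rfl (fun x _ => h9 x), ← Finset.sum_filter, Finset.sum_const] at h8
  have h10 : (Finset.univ.filter (fun x : E => x ∈ A)).card = Nat.card A := by
    rw [Nat.card_eq_fintype_card, ← Fintype.card_subtype]
  rw [h10, nsmul_eq_mul, nsmul_eq_mul, ← Nat.card_eq_fintype_card] at h8
  exact mul_left_cancel₀ hA1.ne' h8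

theorem count4 (hZ : Nat.card (center E) = 2) (hsq : ∀ x : E, x ^ 2 ∈ center E) (s : ℤ) (hs : ∑ x : E, sg (x ^ 2) = s) :
    (Nat.card E : ℤ) - 2 * Nat.card {x : E // orderOf x = 4} = s := by
  classical
  have h1 : ∀ x : E, orderOf x = 4 ↔ x ^ 2 ≠ 1 := by
    intro x
    have h2 : (x ^ 2) ^ 2 = 1 := by
      have h1 : (⟨x ^ 2, hsq x⟩ : center E) ^ Nat.card (center E) = 1 := pow_card_eq_one'
      rw [hZ] at h1
      exact congrArg Subtype.val h1
    constructor
    · intro h h3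
      have := orderOf_dvd_of_pow_eq_one h3
      rw [h] at this
      omega
    · intro h
      have h4 : ¬ x ^ (2 ^ 1) = 1 := by rwa [pow_one]
      have h5 : x ^ (2 ^ (1 + 1)) = 1 := by
        have : x ^ (2 ^ (1 + 1)) = (x ^ 2) ^ 2 := by rw [← pow_mul]; norm_num
        rw [this]; exact h2
      haveI : Fact (Nat.Prime 2) := ⟨Nat.prime_two⟩
      have := orderOf_eq_prime_pow h4 h5
      simpa using this
  have h6 : ∀ x : E, sg (x ^ 2) = 1 - 2 * (if orderOf x = 4 then 1 else 0) := by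
    intro x
    by_cases hx : x ^ 2 = 1
    · rw [hx, sg_one, if_neg (fun h => (h1 x).1 h hx)]; norm_num
    · rw [if_pos ((h1 x).2 hx)]
      simp [sg, hx]
  rw [← hs, Finset.sum_congr rfl (fun x _ => h6 x), Finset.sum_sub_distrib, ← Finset.mul_sum, Finset.sum_const, Finset.card_univ,
    Finset.sum_ite, Finset.sum_const_zero, add_zero, Finset.sum_const, Nat.card_eq_fintype_card, Nat.card_eq_fintype_card, Fintype.card_subtype]
  simp
end esp

theorem s2880 {E : Type*} [Group E] [Finite E] (m : ℕ) (hm : 1 ≤ m) (hE : Cfsg.IsExtraspecial 2 E) (hcard : Nat.card E = 2 ^ (2 * m + 1)) (hplus : ∃ A : Subgroup E, Cfsg.IsElementaryAbelian 2 A ∧ Nat.card A = 2 ^ (m + 1)) : Nat.card {x : E // orderOf x = 4} = 2 ^ (2 * m) - 2 ^ m := by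
  classical
  haveI : Fintype E := Fintype.ofFinite E
  haveI : Fact (Nat.Prime 2) := ⟨Nat.prime_two⟩
  obtain ⟨A, ⟨hAc, hA2⟩, hAcard⟩ := hplus
  have hZ : Nat.card (center E) = 2 := hE.2
  have hc : ∀ x y : E, ⁅x, y⁆ ∈ center E := by
    intro x y
    rw [← hE.1.2.2]
    exact commutator_mem_commutator (mem_top x) (mem_top y)
  have hsq : ∀ x : E, x ^ 2 ∈ center E := fun x => CfsgLib.PGrp.esp_pow_mem hE x
  have h1 := card_cent hZ hc A
  have hAC : A ≤ centralizer (A : Set E) := by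
    intro a ha
    rw [mem_centralizer_iff]
    intro b hb
    exact congrArg Subtype.val (hAc.is_comm.comm (⟨b, hb⟩ : A) ⟨a, ha⟩)
  have h2 : Nat.card A ∣ Nat.card (centralizer (A : Set E)) := card_dvd_of_le hAC
  have h3 : Nat.card (A ⊓ center E : Subgroup E) ∣ 2 := by rw [← hZ]; exact card_dvd_of_le inf_le_right
  have hCA : centralizer (A : Set E) = A := by
    symm
    apply Subgroup.eq_of_le_of_card_ge hAC
    rw [hAcard, hcard] at h1
    have h4 : Nat.card (A ⊓ center E : Subgroup E) ≤ 2 := Nat.le_of_dvd (by norm_num) h3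
    have h5 : 2 ^ (m + 1) * Nat.card (centralizer (A : Set E)) ≤ 2 ^ (m + 1) * 2 ^ (m + 1) := by
      rw [h1]
      calc 2 ^ (2 * m + 1) * Nat.card (A ⊓ center E : Subgroup E) ≤ 2 ^ (2 * m + 1) * 2 := Nat.mul_le_mul_left _ h4
        _ = 2 ^ (m + 1) * 2 ^ (m + 1) := by ring
    rw [hAcard]
    exact Nat.le_of_mul_le_mul_left h5 (by positivity)
  have h6 := count4 hZ hsq _ (sum_sq hZ hc hsq A hA2 hCA)
  rw [hcard, hAcard] at h6
  have h7 : 2 ^ m ≤ 2 ^ (2 * m) := Nat.pow_le_pow_right (by norm_num) (by omega)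
  have h8 : (2 : ℤ) * Nat.card {x : E // orderOf x = 4} = 2 * (2 ^ (2 * m) - 2 ^ m) := by
    push_cast at h6
    have h9 : (2 : ℤ) ^ (2 * m + 1) = 2 * 2 ^ (2 * m) := by ring
    have h10 : (2 : ℤ) ^ (m + 1) = 2 * 2 ^ m := by ring
    rw [h9, h10] at h6
    linarith
  have h11 : (Nat.card {x : E // orderOf x = 4} : ℤ) = 2 ^ (2 * m) - 2 ^ m := by linarith
  have h12 : ((Nat.card {x : E // orderOf x = 4} : ℕ) : ℤ) = ((2 ^ (2 * m) - 2 ^ m : ℕ) : ℤ) := by
    rw [h11, Nat.cast_sub h7, Nat.cast_pow, Nat.cast_pow]; rfl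
  exact Int.ofNat_inj.1 h12

theorem s2881 {E : Type*} [Group E] [Finite E] (m : ℕ) (hm : 1 ≤ m) (hE : Cfsg.IsExtraspecial 2 E) (hcard : Nat.card E = 2 ^ (2 * m + 1)) (hplus : ∃ A : Subgroup E, Cfsg.IsElementaryAbelian 2 A ∧ Nat.card A = 2 ^ (m + 1)) (ω : E ≃* E) (hω : orderOf ω = 5) (hfix : ∀ x : E, ω x = x ↔ x ∈ Subgroup.center E) : 4 ∣ m := by
  classical
  have h1 := s2880 m hm hE hcard hplus
  haveI : Fact (Nat.Prime 5) := ⟨by norm_num⟩
  let X := {x : E // orderOf x = 4}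
  letI : MulAction (zpowers (ω : MulAut E)) X :=
    { smul := fun g x => ⟨(g : MulAut E) x, by rw [MulEquiv.orderOf_eq]; exact x.2⟩
      one_smul := fun x => rfl
      mul_smul := fun g h x => rfl }
  have h2 : IsPGroup 5 (zpowers (ω : MulAut E)) := IsPGroup.of_card (n := 1) (by rw [Nat.card_zpowers, pow_one]; exact hω)
  have h3 := h2.card_modEq_card_fixedPoints X
  have h4 : IsEmpty (MulAction.fixedPoints (zpowers (ω : MulAut E)) X) := by
    constructor
    rintro ⟨x, hx⟩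
    have h5 := hx ⟨ω, mem_zpowers _⟩
    have h6 : ω (x : E) = x := congrArg Subtype.val h5
    have h7 := (hfix _).1 h6
    have h8 := orderOf_dvd_natCard (⟨(x : E), h7⟩ : center E)
    rw [Subgroup.orderOf_mk, x.2, hE.2] at h8
    omega
  rw [Nat.card_of_isEmpty (α := MulAction.fixedPoints (zpowers (ω : MulAut E)) X)] at h3
  have h9 : 5 ∣ 2 ^ (2 * m) - 2 ^ m := by
    rw [← h1]
    exact (Nat.modEq_zero_iff_dvd).1 h3
  have h10 : 2 ^ (2 * m) - 2 ^ m = 2 ^ m * (2 ^ m - 1) := by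
    rw [Nat.mul_sub, mul_one, ← pow_add, two_mul]
  rw [h10] at h9
  have h11 : 5 ∣ 2 ^ m - 1 := by
    rcases (Nat.Prime.dvd_mul (by norm_num)).1 h9 with h | h
    · exfalso
      have := Nat.Prime.dvd_of_dvd_pow (by norm_num) h
      omega
    · exact h
  have h12 : ∀ k r : ℕ, 2 ^ (4 * k + r) % 5 = 2 ^ r % 5 := by
    intro k r
    rw [pow_add, pow_mul, Nat.mul_mod, Nat.pow_mod]
    norm_num
  have h13 : m = 4 * (m / 4) + m % 4 := (Nat.div_add_mod m 4).symm
  have h14 : m % 4 < 4 := Nat.mod_lt _ (by norm_num)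
  have h15 := h12 (m / 4) (m % 4)
  rw [← h13] at h15
  have h16 : 1 ≤ 2 ^ m := Nat.one_le_two_pow
  have h17 : 2 ^ m % 5 = 1 := by omega
  rw [Nat.dvd_iff_mod_eq_zero]
  interval_cases h : m % 4
  · rfl
  · rw [h17] at h15; norm_num at h15
  · rw [h17] at h15; norm_num at h15
  · rw [h17] at h15; norm_num at h15

end CfsgLib.H6Ct
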