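import Cfsg.Agent.Lib.H6LG1
import Cfsg.Agent.Lib.NPC
import Cfsg.Agent.Lib.Transfer
import Cfsg.Agent.Lib.PGrp
import Cfsg.Agent.Lib.Coprime2
import Cfsg.Prelude.Def_IsolatedElements

/-! Isolated elements. -/

set_option autoImplicit false
set_option linter.style.haveILetI false

open Subgroup
open scoped commutatorElement

namespace CfsgLib.H6Iso

open CfsgLib.Coprime CfsgLib.H6LS CfsgLib.SylBridge CfsgLib.H6CP

universe u
variable {G : Type u} [Group G] [Finite G] {p : ℕ} [hp : Fact p.Prime]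

theorem eq_of_card_eq_top {C : Type*} [Group C] [Finite C] [IsCyclic C] {D E : Subgroup C} (h : Nat.card D = Nat.card E) : D = E := by
  classical
  haveI := Fintype.ofFinite C
  have h1 := IsCyclic.card_pow_eq_one_le (α := C) (n := Nat.card D) Nat.card_pos
  have key : ∀ F : Subgroup C, Nat.card F = Nat.card D → (F : Set C) = {x | x ^ Nat.card D = 1} := by
    intro F hF
    apply Set.eq_of_subset_of_ncard_le
    · intro x hx
      change x ^ Nat.card D = 1
      rw [← hF]
      exact orderOf_dvd_iff_pow_eq_one.1 (orderOf_dvd_natCard F hx)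
    · rw [← Nat.card_coe_set_eq (F : Set C)]
      change _ ≤ Nat.card F
      rw [hF]
      refine le_trans (le_of_eq ?_) h1
      rw [Set.ncard_eq_toFinset_card']
      congr 1
      ext x
      simp
    · exact Set.toFinite _
  exact SetLike.coe_injective ((key D rfl).trans (key E h.symm).symm)

theorem iso_normalizer {x : G} (hiso : Cfsg.IsIsolated x) {R : Subgroup G} (hR : IsPGroup p R) (hx : x ∈ R) :
    Subgroup.normalizer (R : Set G) ≤ Subgroup.centralizer ({x} : Set G) := by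
  have hC : R ⊓ Subgroup.centralizer ({x} : Set G) = R := by
    by_contra hne
    have hlt : R ⊓ Subgroup.centralizer ({x} : Set G) < R := lt_of_le_of_ne inf_le_left hne
    obtain ⟨r, hr, hrn, hrN⟩ := CfsgLib.H7Basic.exists_normalizing hR hlt
    apply hrn
    have hxC : x ∈ R ⊓ Subgroup.centralizer ({x} : Set G) := mem_inf.2 ⟨hx, mem_centralizer_singleton_iff.2 rfl⟩
    have h1 := (mem_normalizer_iff.1 hrN x).1 hxC
    have h2 : Commute x (r * x * r⁻¹) := (mem_centralizer_singleton_iff.1 (mem_inf.1 h1).2).symm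
    have h3 := hiso r h2
    refine mem_inf.2 ⟨hr, mem_centralizer_singleton_iff.2 ?_⟩
    calc r * x = (r * x * r⁻¹) * r := by group
      _ = x * r := by rw [h3]
  intro g hg
  have h1 : g * x * g⁻¹ ∈ R := (mem_normalizer_iff.1 hg x).1 hx
  rw [← hC] at h1
  have h2 : Commute x (g * x * g⁻¹) := (mem_centralizer_singleton_iff.1 (mem_inf.1 h1).2).symm
  have h3 := hiso g h2
  rw [mem_centralizer_singleton_iff]
  calc g * x = (g * x * g⁻¹) * g := by group
    _ = x * g := by rw [h3]

theorem s2969 (x : G) (hx : ∃ k : ℕ, orderOf x = p ^ k) (hiso : Cfsg.IsIsolated x) : (∀ R : Subgroup G, IsPGroup p ↥R → x ∈ R → Subgroup.normalizer (R : Set G) ≤ Subgroup.centralizer ({x} : Set G)) ∧ (∀ H N : Subgroup G, N ≤ H → H ≤ Subgroup.normalizer (N : Set G) → x ∈ N → N ⊔ (H ⊓ Subgroup.centralizer ({x} : Set G)) = H) := by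
  refine ⟨fun R hR hxR => iso_normalizer hiso hR hxR, fun H N hNH hHN hxN => ?_⟩
  apply le_antisymm (sup_le hNH inf_le_left)
  have h1 : Subgroup.zpowers x ≤ N := by rwa [zpowers_le]
  obtain ⟨R, hR, hxR⟩ := CfsgLib.Coprime.exists_isSyl_ge h1 (pe_iff_zpowers.1 hx)
  refine (IsSyl.frattini hR hNH hHN).trans (sup_le_sup_left (inf_le_inf_left H ?_) N)
  exact iso_normalizer hiso hR.isPGroup (hxR (mem_zpowers x))

theorem s2970a (x : G) (hx : ∃ k : ℕ, orderOf x = p ^ k) (hiso : Cfsg.IsIsolated x) (N : Subgroup G) [hN : N.Normal] : Cfsg.IsIsolated (QuotientGroup.mk x : G ⧸ N) := by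
  intro q hq
  obtain ⟨g, rfl⟩ := QuotientGroup.mk_surjective q
  set y := g * x * g⁻¹ with hy
  have hc : Commute (QuotientGroup.mk x : G ⧸ N) (QuotientGroup.mk y : G ⧸ N) := hq
  show (QuotientGroup.mk y : G ⧸ N) = QuotientGroup.mk x
  have hype : PE p y := by rw [hy]; exact pe_conj hx g
  -- `H = ⟨x, y⟩ N`
  let A : Subgroup (G ⧸ N) := Subgroup.closure {(QuotientGroup.mk x : G ⧸ N), (QuotientGroup.mk y : G ⧸ N)}
  have hAc : ∀ a ∈ A, ∀ b ∈ A, a * b = b * a := by
    have h1 : A ≤ Subgroup.centralizer (A : Set (G ⧸ N)) := by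
      rw [Subgroup.closure_le]
      intro a ha
      rw [SetLike.mem_coe, mem_centralizer_iff]
      intro b hb
      have h2 : A ≤ Subgroup.centralizer ({a} : Set (G ⧸ N)) := by
        rw [Subgroup.closure_le]
        intro c hc'
        rw [SetLike.mem_coe, mem_centralizer_singleton_iff]
        rcases ha with rfl | rfl <;> rcases hc' with rfl | rfl
        · rfl
        · exact hc.eq.symm
        · exact hc.eq
        · rfl
      exact mem_centralizer_singleton_iff.1 (h2 hb)
    intro a ha b hb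
    exact mem_centralizer_iff.1 (h1 hb) a ha
  have hAp : ∀ a ∈ A, PE p a := by
    intro a ha
    let E : Subgroup (G ⧸ N) :=
      { carrier := {a | a ∈ A ∧ PE p a}
        one_mem' := ⟨one_mem _, ⟨0, by rw [orderOf_one, pow_zero]⟩⟩
        mul_mem' := by
          rintro a b ⟨ha, k, hk⟩ ⟨hb, l, hl⟩
          refine ⟨mul_mem ha hb, ?_⟩
          have h1 : orderOf (a * b) ∣ p ^ (k + l) := by
            rw [pow_add, ← hk, ← hl]
            exact (show Commute a b from hAc a ha b hb).orderOf_mul_dvd_mul_orderOf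
          obtain ⟨m, -, hm⟩ := (Nat.dvd_prime_pow hp.out).1 h1
          exact ⟨m, hm⟩
        inv_mem' := by
          rintro a ⟨ha, k, hk⟩
          exact ⟨inv_mem ha, k, by rw [orderOf_inv, hk]⟩ }
    have h1 : A ≤ E := by
      rw [Subgroup.closure_le]
      rintro a (rfl | rfl)
      · exact ⟨Subgroup.subset_closure (Or.inl rfl), pe_map (QuotientGroup.mk' N) hx⟩
      · exact ⟨Subgroup.subset_closure (Or.inr rfl), pe_map (QuotientGroup.mk' N) hype⟩
    exact (h1 ha).2
  set H := A.comap (QuotientGroup.mk' N) with hH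
  have hNH : N ≤ H := by
    intro n hn
    show QuotientGroup.mk' N n ∈ A
    have : QuotientGroup.mk' N n = 1 := (QuotientGroup.eq_one_iff n).2 hn
    rw [this]; exact one_mem _
  have hxH : x ∈ H := (Subgroup.subset_closure (Or.inl rfl) : (QuotientGroup.mk x : G ⧸ N) ∈ A)
  have hyH : y ∈ H := (Subgroup.subset_closure (Or.inr rfl) : (QuotientGroup.mk y : G ⧸ N) ∈ A)
  -- `P` a Sylow subgroup of `H` containing `x`
  have h1 : Subgroup.zpowers x ≤ H := by rwa [zpowers_le]
  obtain ⟨P, hP, hxP⟩ := CfsgLib.Coprime.exists_isSyl_ge h1 (pe_iff_zpowers.1 hx)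
  have h2 : Subgroup.zpowers y ≤ H := by rwa [zpowers_le]
  obtain ⟨Q, hQ, hyQ⟩ := CfsgLib.Coprime.exists_isSyl_ge h2 (pe_iff_zpowers.1 hype)
  obtain ⟨h, hh, hhc⟩ := hQ.exists_conj hP
  have hhc' : Q.map (MulAut.conj h).toMonoidHom = P := hhc
  have h3 : h * y * h⁻¹ ∈ P := by rw [← hhc']; exact ⟨y, hyQ (mem_zpowers y), rfl⟩
  have h4 : x * (h * y * h⁻¹) = (h * y * h⁻¹) * x := (mem_centralizer_singleton_iff.1 (iso_normalizer hiso hP.isPGroup (hxP (mem_zpowers x)) (le_normalizer h3))).symm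
  have h5 : h * y * h⁻¹ = x := by
    have e : h * y * h⁻¹ = (h * g) * x * (h * g)⁻¹ := by rw [hy]; group
    rw [e] at h4 ⊢
    exact hiso _ h4
  have h6 : (QuotientGroup.mk h : G ⧸ N) ∈ A := hh
  have h7 := hAc _ h6 _ (show (QuotientGroup.mk y : G ⧸ N) ∈ A from hyH)
  have h8 : (QuotientGroup.mk (h * y * h⁻¹) : G ⧸ N) = QuotientGroup.mk x := by rw [h5]
  rw [← h8]
  show _ = (QuotientGroup.mk h : G ⧸ N) * QuotientGroup.mk y * (QuotientGroup.mk h)⁻¹
  rw [h7, mul_inv_cancel_right]

theorem s2970b (x : G) (hx : ∃ k : ℕ, orderOf x = p ^ k) (hiso : Cfsg.IsIsolated x) (hx1 : x ≠ 1) (hcyc : ∀ P : Sylow p G, IsCyclic ↥(P : Subgroup G)) : Cfsg.HasNormalPComplement p G := by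
  rw [CfsgLib.NPC.npc_iff]
  obtain ⟨P, hxP⟩ := exists_sylow_mem hx
  haveI := hcyc P
  apply CfsgLib.Transfer.npc_of_normalizer_le P
  have hPc : IsMulCommutative (P : Subgroup G) := ⟨⟨(IsCyclic.commGroup (α := (P : Subgroup G))).mul_comm⟩⟩
  have hn := iso_normalizer hiso P.isPGroup' hxP
  -- an element of order `p` in `⟨x⟩`
  obtain ⟨k, hk⟩ := hx
  have hk0 : k ≠ 0 := by
    rintro rfl
    rw [pow_zero, orderOf_eq_one_iff] at hk
    exact hx1 hk
  set z := x ^ p ^ (k - 1) with hz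
  have hzo : orderOf z = p := by
    rw [hz, orderOf_pow' x (pow_ne_zero _ hp.out.ne_zero), hk]
    have e : p ^ k = p ^ (k - 1) * p := by rw [← pow_succ]; congr 1; omega
    rw [e, Nat.gcd_comm, Nat.gcd_eq_left (dvd_mul_right _ _), Nat.mul_div_cancel_left _ (pow_pos hp.out.pos _)]
  have hzP : z ∈ (P : Subgroup G) := pow_mem hxP _
  -- `p'`-elements of the normalizer centralize `P`
  have key : ∀ g ∈ Subgroup.normalizer ((P : Subgroup G) : Set G), (orderOf g).Coprime p → g ∈ Subgroup.centralizer ((P : Subgroup G) : Set G) := by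
    intro g hg hc
    have h1 : Subgroup.zpowers g ≤ Subgroup.centralizer ((P : Subgroup G) : Set G) := by
      apply le_centralizer_of_abelian_prime hPc
      · rwa [zpowers_le]
      · rw [Nat.card_zpowers]
        obtain ⟨n, hn⟩ := IsPGroup.iff_card.1 P.isPGroup'
        rw [hn]; exact Nat.Coprime.pow_right n hc
      · intro v hv hvp a ha
        have hvo : orderOf v = p := by
          obtain ⟨l, hl⟩ := pe_of_mem P.isPGroup' hv
          have h2 : p ∣ orderOf v := by
            rw [hl]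
            rcases Nat.eq_zero_or_pos l with rfl | hl0
            · rw [pow_zero] at hl; rw [hl] at hvp; exact absurd hvp Nat.not_prime_one
            · exact dvd_pow_self p hl0.ne'
          exact ((Nat.prime_dvd_prime_iff_eq hp.out hvp).1 h2).symm
        -- `v ∈ ⟨z⟩`
        have h2 : Subgroup.zpowers (⟨v, hv⟩ : (P : Subgroup G)) = Subgroup.zpowers (⟨z, hzP⟩ : (P : Subgroup G)) := by
          apply eq_of_card_eq_top
          rw [Nat.card_zpowers, Nat.card_zpowers, Subgroup.orderOf_mk, Subgroup.orderOf_mk, hvo, hzo]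
        have h3 : (⟨v, hv⟩ : (P : Subgroup G)) ∈ Subgroup.zpowers (⟨z, hzP⟩ : (P : Subgroup G)) := h2 ▸ mem_zpowers _
        obtain ⟨i, hi⟩ := h3
        have h4 : z ^ i = v := congrArg Subtype.val hi
        have h5 : a ∈ Subgroup.centralizer ({x} : Set G) := (by rwa [zpowers_le] : Subgroup.zpowers g ≤ Subgroup.normalizer ((P : Subgroup G) : Set G)).trans hn ha
        have h6 : Commute a x := mem_centralizer_singleton_iff.1 h5
        rw [← h4, hz]
        exact ((h6.pow_right _).zpow_right i).eq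
    exact h1 (mem_zpowers g)
  have hPC : (P : Subgroup G) ≤ Subgroup.centralizer ((P : Subgroup G) : Set G) := by
    intro a ha
    rw [mem_centralizer_iff]
    intro b hb
    exact congrArg Subtype.val (hPc.is_comm.comm ⟨b, hb⟩ ⟨a, ha⟩)
  set C := Subgroup.centralizer ((P : Subgroup G) : Set G) with hC
  have h1 : C ⊔ (P : Subgroup G) = Subgroup.normalizer ((P : Subgroup G) : Set G) := by
    apply sup_eq_of_ppelements (p := p) (centralizer_le_normalizer _)
    · exact CfsgLib.H6LG.norm_cent _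
    · exact key
    · exact IsSyl.of_le' (isSyl_top_iff.2 ⟨P, rfl⟩) le_normalizer le_top
  exact h1.ge.trans (sup_le le_rfl hPC)

theorem s2971 (hp2 : p ≠ 2) (hrk : Cfsg.PRankLE p 1 G) (x : G) (hx : orderOf x = p) (hiso : Cfsg.IsIsolated x) : Cfsg.InZStar p x := by
  have hx1 : x ≠ 1 := by
    rintro rfl
    rw [orderOf_one] at hx
    exact hp.out.one_lt.ne hx
  have hcyc : ∀ P : Sylow p G, IsCyclic ↥(P : Subgroup G) := by
    intro P
    by_contra hnc
    obtain ⟨N, -, hN2, hNp⟩ := CfsgLib.PGrp.exists_normal_sq hp2 P.isPGroup' hnc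
    have h1 := hrk (N.map (P : Subgroup G).subtype) (by
      haveI : IsMulCommutative N := ⟨⟨(IsPGroup.commGroupOfCardEqPrimeSq (p := p) hN2).mul_comm⟩⟩
      exact Subgroup.map_isMulCommutative N _) (by
      rintro _ ⟨a, ha, rfl⟩
      rw [← map_pow, hNp a ha, map_one])
    rw [Subgroup.card_map_of_injective (Subgroup.subtype_injective _), hN2, pow_one] at h1
    have : p * 1 < p * p := Nat.mul_lt_mul_of_pos_left hp.out.one_lt hp.out.pos
    rw [mul_one, ← sq] at this
    omega
  obtain ⟨P, N, hN, hNP⟩ := s2970b x ⟨1, by rw [hx, pow_one]⟩ hiso hx1 hcyc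
  have hNc : (Nat.card N).Coprime p := by
    rw [Nat.coprime_comm, hp.out.coprime_iff_not_dvd]
    have h1 := hNP.index_eq_card
    have h2 : ¬ p ∣ (P : Subgroup G).index := P.not_dvd_index
    rwa [h1] at h2
  intro g
  apply CfsgLib.Core.le_pPrimeCore hN hNc
  have hdec : ∀ y : G, ∃ a ∈ (P : Subgroup G), (QuotientGroup.mk y : G ⧸ N) = QuotientGroup.mk a := by
    intro y
    have h1 : y ∈ N ⊔ (P : Subgroup G) := by rw [hNP.sup_eq_top]; trivial
    obtain ⟨n, hn, a, ha, rfl⟩ := Subgroup.mem_sup_of_normal_left.1 h1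
    refine ⟨a, ha, ?_⟩
    rw [QuotientGroup.mk_mul, (QuotientGroup.eq_one_iff n).2 hn, one_mul]
  haveI := hcyc P
  obtain ⟨a, ha, hga⟩ := hdec g
  obtain ⟨b, hb, hxb⟩ := hdec x
  rw [← QuotientGroup.eq_one_iff]
  have h1 : a * b = b * a := congrArg Subtype.val ((IsCyclic.commGroup (α := (P : Subgroup G))).mul_comm ⟨a, ha⟩ ⟨b, hb⟩)
  show (QuotientGroup.mk g : G ⧸ N) * QuotientGroup.mk x * (QuotientGroup.mk g)⁻¹ * (QuotientGroup.mk x)⁻¹ = 1
  rw [hga, hxb]
  show (QuotientGroup.mk (a * b * a⁻¹ * b⁻¹) : G ⧸ N) = 1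
  have e : a * b * a⁻¹ * b⁻¹ = 1 := by rw [h1]; group
  rw [e]; rfl

end CfsgLib.H6Iso
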