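import Cfsg.Agent.Lib.H6CP3
import Cfsg.Agent.Lib.H6LS3

/-! The `L`-lemma; `Y`-minimal groups of characteristic `p`. -/

set_option autoImplicit false
set_option linter.style.haveILetI false

open Subgroup
open scoped commutatorElement

namespace CfsgLib.H6LS4

open CfsgLib.Coprime CfsgLib.H6LS CfsgLib.SylBridge CfsgLib.H6Amal CfsgLib.H6PR CfsgLib.H6LG CfsgLib.H6FM CfsgLib.H6CP

universe u
variable {G : Type u} [Group G] [Finite G] {p : ℕ} [hp : Fact p.Prime]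

theorem s2837 (hchar : Subgroup.centralizer (Cfsg.pCore p G : Set G) ≤ Cfsg.pCore p G) (L₀ : Subgroup G) (hL₀ : IsCoatom L₀) (Y : Subgroup G) (hYL₀ : Y ≤ L₀) (hYel : Cfsg.IsElementaryAbelian p Y) (hmin : Cfsg.IsMinimalOver Y) (hOY : Cfsg.pCore p G ≤ Subgroup.normalizer (Y : Set G)) (A : Subgroup G) (hA : A = Subgroup.normalClosure (((Cfsg.pCore p G ⊓ Y : Subgroup G)) : Set G)) (g : G) (hg : g ∉ L₀) : (frattini ↥A).map A.subtype = ⁅A, A⁆ ∧ ⁅A, A⁆ = ⁅A ⊓ Y, A⁆ ∧ ⁅A ⊓ Y, A⁆ = ⁅A ⊓ Y, A ⊓ Y.map (MulAut.conj g).toMonoidHom⁆ ∧ ⁅A ⊓ Y, A⁆ ≤ Y ⊓ Subgroup.center G ∧ Y ⊓ Y.map (MulAut.conj g).toMonoidHom = Y ⊓ Subgroup.center G ∧ (A ⊓ Y) ⊓ (A ⊓ Y.map (MulAut.conj g).toMonoidHom) = Y ⊓ Subgroup.center G ∧ A ⊓ Subgroup.center G = Y ⊓ Subgroup.center G := by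
  obtain ⟨hYc, hYp⟩ := ea_iff.1 hYel
  set Q := Cfsg.pCore p G with hQ
  haveI hQn : Q.Normal := CfsgLib.Core.pCore_normal p G
  have hQp : IsPGroup p Q := CfsgLib.Core.pCore_isPGroup p G
  set Y' := Y.map (MulAut.conj g).toMonoidHom with hY'
  set B := Q ⊓ Y with hB
  set C := Q ⊓ Y' with hC
  have hgen : Y ⊔ Y' = ⊤ := ymin_gen hL₀ hmin hYL₀ hg
  have hint : Y ⊓ Y' = Y ⊓ Subgroup.center G := ymin_inter hL₀ hmin hYL₀ hYel.1 hg
  have hY'c : ∀ a ∈ Y', ∀ b ∈ Y', a * b = b * a := by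
    rintro _ ⟨a, ha, rfl⟩ _ ⟨b, hb, rfl⟩
    rw [← map_mul, ← map_mul, hYc a ha b hb]
  have hY'p : ∀ a ∈ Y', a ^ p = 1 := by
    rintro _ ⟨a, ha, rfl⟩
    rw [← map_pow, hYp a ha, map_one]
  have hOY' : Q ≤ Subgroup.normalizer (Y' : Set G) := by
    intro q hq
    rw [hY', ← CfsgLib.H7Basic.cj_normalizer]
    have h1 : g⁻¹ * q * g ∈ Q := by have := hQn.conj_mem q hq g⁻¹; rwa [inv_inv] at this
    exact ⟨g⁻¹ * q * g, hOY h1, by show g * (g⁻¹ * q * g) * g⁻¹ = q; group⟩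
  -- `Y` normalizes `B ⊔ C`
  have hcomm1 : ∀ q ∈ Q, ∀ y ∈ Y, y * q * y⁻¹ * q⁻¹ ∈ B := by
    intro q hq y hy
    refine mem_inf.2 ⟨mul_mem (hQn.conj_mem q hq y) (inv_mem hq), ?_⟩
    have e : y * q * y⁻¹ * q⁻¹ = y * (q * y⁻¹ * q⁻¹) := by group
    rw [e]; exact mul_mem hy ((mem_normalizer_iff.1 (hOY hq) _).1 (inv_mem hy))
  have hcomm2 : ∀ q ∈ Q, ∀ y ∈ Y', y * q * y⁻¹ * q⁻¹ ∈ C := by
    intro q hq y hy
    refine mem_inf.2 ⟨mul_mem (hQn.conj_mem q hq y) (inv_mem hq), ?_⟩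
    have e : y * q * y⁻¹ * q⁻¹ = y * (q * y⁻¹ * q⁻¹) := by group
    rw [e]; exact mul_mem hy ((mem_normalizer_iff.1 (hOY' hq) _).1 (inv_mem hy))
  have hBCQ : B ⊔ C ≤ Q := sup_le inf_le_left inf_le_left
  have hn1 : Y ≤ Subgroup.normalizer ((B ⊔ C : Subgroup G) : Set G) := by
    intro y hy
    apply CfsgLib.H7Basic.mem_normalizer_of_conj_mem
    intro x hx
    have h1 := hcomm1 x (hBCQ hx) y hy
    have e : y * x * y⁻¹ = (y * x * y⁻¹ * x⁻¹) * x := by group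
    rw [e]; exact mul_mem (mem_sup_left h1) hx
  have hn2 : Y' ≤ Subgroup.normalizer ((B ⊔ C : Subgroup G) : Set G) := by
    intro y hy
    apply CfsgLib.H7Basic.mem_normalizer_of_conj_mem
    intro x hx
    have h1 := hcomm2 x (hBCQ hx) y hy
    have e : y * x * y⁻¹ = (y * x * y⁻¹ * x⁻¹) * x := by group
    rw [e]; exact mul_mem (mem_sup_right h1) hx
  have hBCn : (B ⊔ C).Normal := normalizer_eq_top_iff.1 (top_le_iff.1 (hgen ▸ sup_le hn1 hn2))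
  have hCB : C = B.map (MulAut.conj g).toMonoidHom := by
    rw [hC, hB, CfsgLib.H7Basic.cj_inf, CfsgLib.H7Basic.cj_normal]
  have hAeq : A = B ⊔ C := by
    apply le_antisymm
    · rw [hA]; exact normalClosure_le_normal (SetLike.coe_subset_coe.2 le_sup_left)
    · apply sup_le
      · rw [hA]; exact le_normalClosure
      · rw [hCB, hA]
        rintro _ ⟨x, hx, rfl⟩
        exact (normalClosure_normal (s := ((Q ⊓ Y : Subgroup G) : Set G))).conj_mem x (le_normalClosure hx) g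
  have hAQ : A ≤ Q := hAeq ▸ hBCQ
  have hAY : A ⊓ Y = B := le_antisymm (inf_le_inf_right _ hAQ) (le_inf (hAeq ▸ le_sup_left) inf_le_right)
  have hAY' : A ⊓ Y' = C := le_antisymm (inf_le_inf_right _ hAQ) (le_inf (hAeq ▸ le_sup_right) inf_le_right)
  -- `[B, C]`
  have hD1 : ⁅B, C⁆ ≤ Y ⊓ Y' := by
    rw [commutator_le]
    intro b hb c hc
    rw [commutatorElement_def]
    refine mem_inf.2 ⟨?_, ?_⟩
    · have e : b * c * b⁻¹ * c⁻¹ = b * (c * b⁻¹ * c⁻¹) := by group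
      rw [e]
      exact mul_mem (mem_inf.1 hb).2 ((mem_normalizer_iff.1 (hOY (mem_inf.1 hc).1) _).1 (inv_mem (mem_inf.1 hb).2))
    · exact mul_mem ((mem_normalizer_iff.1 (hOY' (mem_inf.1 hb).1) _).1 (mem_inf.1 hc).2) (inv_mem (mem_inf.1 hc).2)
  have hD : ⁅B, C⁆ ≤ Subgroup.center G := hD1.trans (hint ▸ inf_le_right)
  have hDn : (⁅B, C⁆ : Subgroup G).Normal := by
    refine ⟨fun x hx y => ?_⟩
    have := mem_center_iff.1 (hD hx) y
    rwa [this, mul_inv_cancel_right]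
  have hAA : ⁅A, A⁆ ≤ ⁅B, C⁆ := by
    have h1 : (⁅A, A⁆ : Subgroup G).map (QuotientGroup.mk' ⁅B, C⁆) = ⊥ := by
      rw [Subgroup.map_commutator, commutator_eq_bot_iff_le_centralizer, hAeq, Subgroup.map_sup]
      set f := QuotientGroup.mk' (⁅B, C⁆ : Subgroup G) with hf
      have hBB : B.map f ≤ Subgroup.centralizer (B.map f : Set (G ⧸ (⁅B, C⁆ : Subgroup G))) := by
        rintro _ ⟨a, ha, rfl⟩
        rw [mem_centralizer_iff]
        rintro _ ⟨b, hb, rfl⟩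
        rw [← map_mul, ← map_mul, hYc b (mem_inf.1 hb).2 a (mem_inf.1 ha).2]
      have hCC : C.map f ≤ Subgroup.centralizer (C.map f : Set (G ⧸ (⁅B, C⁆ : Subgroup G))) := by
        rintro _ ⟨a, ha, rfl⟩
        rw [mem_centralizer_iff]
        rintro _ ⟨b, hb, rfl⟩
        rw [← map_mul, ← map_mul, hY'c b (mem_inf.1 hb).2 a (mem_inf.1 ha).2]
      have hBC : B.map f ≤ Subgroup.centralizer (C.map f : Set (G ⧸ (⁅B, C⁆ : Subgroup G))) := by
        rw [← commutator_eq_bot_iff_le_centralizer, ← Subgroup.map_commutator, Subgroup.map_eq_bot_iff, hf, QuotientGroup.ker_mk']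
      have hCB' : C.map f ≤ Subgroup.centralizer (B.map f : Set (G ⧸ (⁅B, C⁆ : Subgroup G))) := Subgroup.le_centralizer_iff.1 hBC
      apply sup_le
      · rw [Subgroup.le_centralizer_iff]
        exact sup_le hBB hCB'
      · rw [Subgroup.le_centralizer_iff]
        exact sup_le hBC hCC
    rwa [Subgroup.map_eq_bot_iff, QuotientGroup.ker_mk'] at h1
  have hBA : B ≤ A := hAeq ▸ le_sup_left
  have hCA : C ≤ A := hAeq ▸ le_sup_right
  have hZQ : Subgroup.center G ≤ Q := (Subgroup.center_le_centralizer _).trans hchar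
  rw [hAY, hAY']
  have e1 : ⁅B, A⁆ = ⁅B, C⁆ := le_antisymm ((commutator_mono hBA le_rfl).trans hAA) (commutator_mono le_rfl hCA)
  have e2 : ⁅A, A⁆ = ⁅B, C⁆ := le_antisymm hAA (commutator_mono hBA hCA)
  refine ⟨?_, by rw [e1, e2], e1, ?_, hint, ?_, ?_⟩
  · apply le_antisymm
    · apply phi_le (hQp.to_le hAQ)
      · intro u hu
        have hu' := hu
        rw [hAeq] at hu'
        have hBnC : C ≤ Subgroup.normalizer (B : Set G) := (inf_le_left : C ≤ Q).trans (le_normalizer_inf le_normalizer hOY)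
        obtain ⟨b, hb, c, hc, rfl⟩ := (mem_sup_iff hBnC u).1 hu'
        have h1 := mul_pow_mod (P := A) (hBA hb) (hCA hc) p
        rw [hYp b (mem_inf.1 hb).2, hY'p c (mem_inf.1 hc).2, mul_one, inv_one, mul_one] at h1
        exact h1
      · intro u hu v hv
        exact commutator_mem_commutator hu hv
    · rw [← Subgroup.map_subtype_commutator]
      exact Subgroup.map_mono (CfsgLib.PGrp.commutator_le_frattini (hQp.to_le hAQ))
  · rw [e1]; exact le_inf (hD1.trans inf_le_left) hD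
  · have h1 : B ⊓ C = Q ⊓ (Y ⊓ Y') := by
      rw [hB, hC]; apply le_antisymm
      · exact le_inf (inf_le_left.trans inf_le_left) (inf_le_inf inf_le_right inf_le_right)
      · exact le_inf (inf_le_inf_left _ inf_le_left) (inf_le_inf_left _ inf_le_right)
    rw [h1, hint]
    exact inf_eq_right.2 (inf_le_right.trans hZQ)
  · apply le_antisymm
    · intro x hx
      obtain ⟨hxA, hxZ⟩ := mem_inf.1 hx
      refine mem_inf.2 ⟨?_, hxZ⟩
      rw [hAeq] at hxA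
      have hBnC : C ≤ Subgroup.normalizer (B : Set G) := (inf_le_left : C ≤ Q).trans (le_normalizer_inf le_normalizer hOY)
      obtain ⟨b, hb, c, hc, rfl⟩ := (mem_sup_iff hBnC x).1 hxA
      -- `c` centralizes `Y` and `Y'`
      have h1 : Subgroup.centralizer ({c} : Set G) = ⊤ := by
        rw [← top_le_iff, ← hgen]
        apply sup_le
        · intro y hy
          rw [mem_centralizer_singleton_iff]
          have h2 : Commute y (b * c) := mem_center_iff.1 hxZ y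
          have h3 : Commute y b := hYc y hy b (mem_inf.1 hb).2
          have h4 := h3.inv_right.mul_right h2
          rw [inv_mul_cancel_left] at h4
          exact h4.eq
        · intro y hy
          rw [mem_centralizer_singleton_iff]
          exact hY'c y hy c (mem_inf.1 hc).2
      have h2 : c ∈ Subgroup.center G := by
        rw [mem_center_iff]
        intro y
        exact mem_centralizer_singleton_iff.1 (by rw [h1]; exact mem_top y)
      -- `c ∈ Y`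
      have h3 : c ∈ Y := by
        obtain ⟨d, hd, hdc⟩ := (mem_inf.1 hc).2
        have h4 : g * d * g⁻¹ = c := hdc
        have h5 : d = c := by
          have := mem_center_iff.1 h2 g⁻¹
          calc d = g⁻¹ * (g * d * g⁻¹) * g := by group
            _ = g⁻¹ * c * g := by rw [h4]
            _ = c * g⁻¹ * g := by rw [this]
            _ = c := by group
        rw [← h5]; exact hd
      exact mul_mem (mem_inf.1 hb).2 h3
    · refine le_inf ?_ inf_le_right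
      refine le_trans ?_ hBA
      exact le_inf (inf_le_right.trans hZQ) inf_le_left

/-! ### The `L`-lemma -/

section LLemma

variable {T M A : Subgroup G}

/-- `(T', M')` is conjugate to `(T, M)` -/
def Gd (T M T' M' : Subgroup G) : Prop :=
  ∃ h : G, T' = T.map (MulAut.conj h).toMonoidHom ∧ M' = M.map (MulAut.conj h).toMonoidHom

structure Uq (p : ℕ) (T M : Subgroup G) : Prop where
  syl : IsSyl p T ⊤
  co : IsCoatom M
  le : T ≤ M
  uniq : ∀ K : Subgroup G, T ≤ K → K ≠ ⊤ → K ≤ M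
  ngen : Subgroup.normalClosure (T : Set G) = ⊤

omit hp [Finite G] in
theorem cj_ne_top {K : Subgroup G} {h : G} (hK : K.map (MulAut.conj h).toMonoidHom ≠ ⊤) : K ≠ ⊤ := by
  rintro rfl
  exact hK (CfsgLib.H7Basic.cj_normal h _)

omit hp in
theorem Gd.uniq (hU : Uq p T M) {T' M' : Subgroup G} (h : Gd T M T' M') : Uq p T' M' := by
  obtain ⟨g, rfl, rfl⟩ := h
  refine ⟨⟨le_top, ?_⟩, ?_, CfsgLib.H7Basic.cj_le_cj.2 hU.le, ?_, ?_⟩
  · rw [Subgroup.card_map_of_injective (MulAut.conj g).injective, hU.syl.2]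
  · refine ⟨fun h1 => hU.co.1 ?_, fun K hK => ?_⟩
    · rw [CfsgLib.H7Basic.cj_eq_iff] at h1
      rw [h1, CfsgLib.H7Basic.cj_normal]
    · have h1 : M < K.map (MulAut.conj g⁻¹).toMonoidHom := by
        have h2 : M ≤ K.map (MulAut.conj g⁻¹).toMonoidHom := by
          rw [← CfsgLib.H7Basic.cj_le_iff]; exact hK.le
        refine lt_of_le_of_ne h2 ?_
        intro h3
        rw [h3, CfsgLib.H7Basic.cj_cj, mul_inv_cancel, CfsgLib.H7Basic.cj_one] at hK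
        exact lt_irrefl _ hK
      have h2 := hU.co.2 _ h1
      rw [CfsgLib.H7Basic.cj_eq_iff] at h2
      rw [h2, CfsgLib.H7Basic.cj_normal]
  · intro K hTK hK
    have h1 : T ≤ K.map (MulAut.conj g⁻¹).toMonoidHom := by
      rw [← CfsgLib.H7Basic.cj_le_iff]; exact hTK
    have h2 := hU.uniq _ h1 (fun h3 => hK (by
      rw [CfsgLib.H7Basic.cj_eq_iff] at h3
      rw [h3, CfsgLib.H7Basic.cj_normal]))
    have h3 := CfsgLib.H7Basic.cj_le_cj (g := g).2 h2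
    rwa [CfsgLib.H7Basic.cj_cj, mul_inv_cancel, CfsgLib.H7Basic.cj_one] at h3
  · rw [eq_top_iff, ← hU.ngen]
    apply normalClosure_le_normal
    intro t ht
    have h1 : g * t * g⁻¹ ∈ Subgroup.normalClosure ((T.map (MulAut.conj g).toMonoidHom : Subgroup G) : Set G) :=
      subset_normalClosure ⟨t, ht, rfl⟩
    have h2 := (normalClosure_normal (s := ((T.map (MulAut.conj g).toMonoidHom : Subgroup G) : Set G))).conj_mem _ h1 g⁻¹
    rwa [show g⁻¹ * (g * t * g⁻¹) * g⁻¹⁻¹ = t by group] at h2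

omit hp in
theorem Uq.eq_of_le (hU : Uq p T M) {M' : Subgroup G} (hM' : IsCoatom M') (h : T ≤ M') : M' = M :=
  (hM'.le_iff_eq hU.co.1).1 (hU.uniq _ h hM'.1) |>.symm

/-- existence of a good pair above a `p`-subgroup of a conjugate of `M` -/
theorem Gd.exists_ge (hU : Uq p T M) {h : G} {E : Subgroup G} (hE : IsPGroup p E) (hEM : E ≤ M.map (MulAut.conj h).toMonoidHom) :
    ∃ T', E ≤ T' ∧ Gd T M T' (M.map (MulAut.conj h).toMonoidHom) := by
  obtain ⟨T', hT', hET'⟩ := CfsgLib.Coprime.exists_isSyl_ge hEM hE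
  refine ⟨T', hET', ?_⟩
  have hU' : Uq p (T.map (MulAut.conj h).toMonoidHom) (M.map (MulAut.conj h).toMonoidHom) := Gd.uniq hU ⟨h, rfl, rfl⟩
  have h1 : IsSyl p (T.map (MulAut.conj h).toMonoidHom) (M.map (MulAut.conj h).toMonoidHom) := IsSyl.of_le' hU'.syl hU'.le le_top
  obtain ⟨m, hm, hmc⟩ := h1.exists_conj hT'
  have hmc' : (T.map (MulAut.conj h).toMonoidHom).map (MulAut.conj m).toMonoidHom = T' := hmc
  refine ⟨m * h, ?_, ?_⟩
  · rw [← hmc', CfsgLib.H7Basic.cj_cj]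
  · rw [← CfsgLib.H7Basic.cj_cj, CfsgLib.H7Basic.cj_eq_self_iff.2 (le_normalizer hm)]

/-- the conjugates of `A` inside `R` -/
def CA (A R : Subgroup G) : Set (Subgroup G) := {B | (∃ h : G, B = A.map (MulAut.conj h).toMonoidHom) ∧ B ≤ R}

omit hp [Finite G] in
theorem CA_norm {R : Subgroup G} {g : G} (hg : g ∈ Subgroup.normalizer (R : Set G)) : g ∈ Subgroup.normalizer ((sSup (CA A R) : Subgroup G) : Set G) := by
  have key : ∀ g ∈ Subgroup.normalizer (R : Set G), (sSup (CA A R)).map (MulAut.conj g).toMonoidHom ≤ sSup (CA A R) := by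
    intro g hg
    rw [Subgroup.map_le_iff_le_comap]
    apply sSup_le
    rintro B ⟨⟨h, rfl⟩, hB⟩
    rw [← Subgroup.map_le_iff_le_comap]
    apply le_sSup
    refine ⟨⟨g * h, by rw [CfsgLib.H7Basic.cj_cj]⟩, ?_⟩
    have h1 := CfsgLib.H7Basic.cj_le_cj (g := g).2 hB
    rwa [CfsgLib.H7Basic.cj_eq_self_iff.2 hg] at h1
  rw [← CfsgLib.H7Basic.cj_eq_self_iff]
  apply le_antisymm (key g hg)
  have h1 := CfsgLib.H7Basic.cj_le_cj (g := g).2 (key g⁻¹ (inv_mem hg))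
  rwa [CfsgLib.H7Basic.cj_cj, mul_inv_cancel, CfsgLib.H7Basic.cj_one] at h1

omit hp in
/-- Alperin--Lyons -/
theorem exists_next {T₁ I : Subgroup G} (hT₁ : IsPGroup p T₁) [Fact p.Prime] (hI : I ≤ T₁) (hne : CA A T₁ ≠ CA A I) :
    ∃ B ∈ CA A T₁, B ∉ CA A I ∧ B ≤ Subgroup.normalizer ((sSup (CA A I) : Subgroup G) : Set G) := by
  obtain ⟨R, hR, hmax⟩ := (Set.toFinite {R : Subgroup G | I ≤ R ∧ R ≤ T₁ ∧ CA A R = CA A I}).exists_maximal ⟨I, le_rfl, hI, rfl⟩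
  obtain ⟨hIR, hRT, hRI⟩ := hR
  have hlt : R < T₁ := lt_of_le_of_ne hRT (fun h => hne (h ▸ hRI))
  obtain ⟨r, hr, hrn, hrN⟩ := CfsgLib.H7Basic.exists_normalizing hT₁ hlt
  set R' := R ⊔ Subgroup.zpowers r with hR'
  have hR'T : R' ≤ T₁ := sup_le hRT (by rwa [zpowers_le])
  have hR'N : R' ≤ Subgroup.normalizer (R : Set G) := sup_le le_normalizer (by rwa [zpowers_le])
  have hne2 : ¬ (CA A R' ⊆ CA A I) := by
    intro h1
    have h2 : CA A R' = CA A I := by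
      apply Set.Subset.antisymm h1
      intro B hB
      rw [← hRI] at hB
      exact ⟨hB.1, hB.2.trans le_sup_left⟩
    have h3 := hmax ⟨hIR.trans le_sup_left, hR'T, h2⟩ le_sup_left
    exact hrn (h3 (mem_sup_right (mem_zpowers r)))
  obtain ⟨B, hB, hBI⟩ := Set.not_subset.1 hne2
  refine ⟨B, ⟨hB.1, hB.2.trans hR'T⟩, hBI, ?_⟩
  intro b hb
  rw [← hRI]
  exact CA_norm (hR'N (hB.2 hb))

theorem L_lemma (hU : Uq p T M) (hAT : A ≤ T) (hA : ¬ A ≤ Cfsg.pCore p G) : ∃ L : Subgroup G, A ⊔ Cfsg.pCore p G ≤ L ∧ ∃ L₀ : Subgroup G, A ⊔ (Cfsg.pCoreOf p L) ≤ L₀ ∧ L₀ < L ∧ (∀ X : Subgroup G, A ⊔ (Cfsg.pCoreOf p L) ≤ X → X < L → X ≤ L₀) ∧ (∃ g : G, L₀ = L ⊓ ((M : Subgroup G).map (MulAut.conj (g : G)).toMonoidHom)) ∧ ∀ x ∈ L, x ∉ L₀ → (A ⊔ ((A : Subgroup G).map (MulAut.conj (x : G)).toMonoidHom)) ⊔ (Cfsg.pCoreOf p L) = L := by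
  set Q := Cfsg.pCore p G with hQ
  haveI hQn : Q.Normal := CfsgLib.Core.pCore_normal p G
  have hQp : IsPGroup p Q := CfsgLib.Core.pCore_isPGroup p G
  -- `M` is not normal
  obtain ⟨h₀, hh₀⟩ : ∃ h : G, ¬ T.map (MulAut.conj h).toMonoidHom ≤ M := by
    by_contra hcon
    push Not at hcon
    apply hU.co.1
    have h1 : Subgroup.normalClosure (T : Set G) ≤ M := by
      rw [← ncl_top]
      exact iSup_le fun h => hcon (h : G)
    rw [hU.ngen] at h1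
    exact top_le_iff.1 h1
  -- choose the pair
  let PPs : Set (Subgroup G × Subgroup G × Subgroup G × Subgroup G) :=
    {x | Gd T M x.1 x.2.1 ∧ Gd T M x.2.2.1 x.2.2.2 ∧ x.2.1 ≠ x.2.2.2}
  have hPPne : PPs.Nonempty := by
    refine ⟨(T, M, T.map (MulAut.conj h₀).toMonoidHom, M.map (MulAut.conj h₀).toMonoidHom),
      ⟨1, (CfsgLib.H7Basic.cj_one _).symm, (CfsgLib.H7Basic.cj_one _).symm⟩, ⟨h₀, rfl, rfl⟩, ?_⟩
    intro h1
    have h2 : M = M.map (MulAut.conj h₀).toMonoidHom := h1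
    apply hh₀
    rw [h2]
    exact CfsgLib.H7Basic.cj_le_cj.2 hU.le
  obtain ⟨⟨T₁, M₁, T₂, M₂⟩, hmem, hmax⟩ := Set.exists_max_image PPs (fun x => (CA A (x.1 ⊓ x.2.2.1)).ncard) (Set.toFinite _) hPPne
  obtain ⟨hG₁, hG₂, hne⟩ := hmem
  change Gd T M T₁ M₁ at hG₁
  change Gd T M T₂ M₂ at hG₂
  change M₁ ≠ M₂ at hne
  have hU₁ := Gd.uniq hU hG₁
  have hU₂ := Gd.uniq hU hG₂
  set I := T₁ ⊓ T₂ with hI
  set W := sSup (CA A I) with hW
  have hWI : W ≤ I := sSup_le fun B hB => hB.2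
  have hWp : IsPGroup p W := hU₁.syl.isPGroup.to_le (hWI.trans inf_le_left)
  -- the number of conjugates
  have hcount : ∀ {T' : Subgroup G}, (∃ h : G, T' = T.map (MulAut.conj h).toMonoidHom) → (CA A T').ncard = (CA A T).ncard := by
    rintro _ ⟨h, rfl⟩
    apply Set.ncard_congr (fun B _ => B.map (MulAut.conj h⁻¹).toMonoidHom)
    · rintro B ⟨⟨k, rfl⟩, hB⟩
      refine ⟨⟨h⁻¹ * k, by rw [CfsgLib.H7Basic.cj_cj]⟩, ?_⟩
      rw [CfsgLib.H7Basic.cj_le_iff, inv_inv]; exact hB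
    · intro B C _ _ hBC
      have := congrArg (Subgroup.map (MulAut.conj h).toMonoidHom) hBC
      rwa [CfsgLib.H7Basic.cj_cj, CfsgLib.H7Basic.cj_cj, mul_inv_cancel, CfsgLib.H7Basic.cj_one, CfsgLib.H7Basic.cj_one] at this
    · rintro B ⟨⟨k, rfl⟩, hB⟩
      refine ⟨(A.map (MulAut.conj k).toMonoidHom).map (MulAut.conj h).toMonoidHom, ⟨⟨h * k, by rw [CfsgLib.H7Basic.cj_cj]⟩, CfsgLib.H7Basic.cj_le_cj.2 hB⟩, ?_⟩
      rw [CfsgLib.H7Basic.cj_cj, inv_mul_cancel, CfsgLib.H7Basic.cj_one]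
  have hsub : ∀ {X Y : Subgroup G}, X ≤ Y → CA A X ⊆ CA A Y := fun h B hB => ⟨hB.1, hB.2.trans h⟩
  have hneither : ∀ {T' T'' M' M'' : Subgroup G}, Gd T M T' M' → Gd T M T'' M'' → M' ≠ M'' → CA A T' ≠ CA A (T' ⊓ T'') := by
    intro T' T'' M' M'' hG' hG'' hne' heq
    have hU' := Gd.uniq hU hG'
    have hU'' := Gd.uniq hU hG''
    have h1 : CA A T' ⊆ CA A T'' := by rw [heq]; exact hsub inf_le_right
    have h2 : CA A T' = CA A T'' := by
      apply Set.eq_of_subset_of_ncard_le h1 _ (Set.toFinite _)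
      obtain ⟨a, ha, -⟩ := hG'
      obtain ⟨b, hb, -⟩ := hG''
      rw [hcount ⟨a, ha⟩, hcount ⟨b, hb⟩]
    set W' := sSup (CA A T') with hW'
    have h3 : T' ≤ Subgroup.normalizer (W' : Set G) := fun t ht => CA_norm (le_normalizer ht)
    have h4 : T'' ≤ Subgroup.normalizer (W' : Set G) := fun t ht => by rw [hW', h2]; exact CA_norm (le_normalizer ht)
    have h5 : Subgroup.normalizer (W' : Set G) = ⊤ := by
      by_contra hnt
      have h6 := hU'.uniq _ h3 hnt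
      exact hne' (hU''.eq_of_le hU'.co (h4.trans h6))
    have h6 : W'.Normal := normalizer_eq_top_iff.1 h5
    have h7 : W' ≤ Q := CfsgLib.Core.le_pCore h6 (hU'.syl.isPGroup.to_le (sSup_le fun B hB => hB.2))
    obtain ⟨h, rfl, -⟩ := hG'
    have h8 : A.map (MulAut.conj h).toMonoidHom ≤ W' := le_sSup ⟨⟨h, rfl⟩, CfsgLib.H7Basic.cj_le_cj.2 hAT⟩
    apply hA
    have h9 := h8.trans h7
    rw [CfsgLib.H7Basic.cj_le_iff, CfsgLib.H7Basic.cj_normal] at h9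
    exact h9
  obtain ⟨A₁, hA₁T, hA₁I, hA₁N⟩ := exists_next (A := A) hU₁.syl.isPGroup (inf_le_left : I ≤ T₁) (hneither hG₁ hG₂ hne)
  obtain ⟨A₂, hA₂T, hA₂I, hA₂N⟩ := exists_next (A := A) hU₂.syl.isPGroup (inf_le_right : I ≤ T₂) (by
    have h1 := hneither hG₂ hG₁ (Ne.symm hne)
    rwa [inf_comm] at h1)
  -- uniqueness
  have huq : ∀ B : Subgroup G, (∃ h : G, B = A.map (MulAut.conj h).toMonoidHom) → B ∉ CA A I → B ≤ Subgroup.normalizer (W : Set G) → ∀ a b : G,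
      W ⊔ B ≤ M.map (MulAut.conj a).toMonoidHom → W ⊔ B ≤ M.map (MulAut.conj b).toMonoidHom → M.map (MulAut.conj a).toMonoidHom = M.map (MulAut.conj b).toMonoidHom := by
    intro B hB hBI hBN a b ha hb
    have hBp : IsPGroup p B := by
      obtain ⟨h, rfl⟩ := hB
      exact (hU.syl.isPGroup.to_le hAT).map _
    have hWB : IsPGroup p (W ⊔ B : Subgroup G) := hWp.to_sup_of_normal_left' hBp hBN
    obtain ⟨T', hT', hG'⟩ := Gd.exists_ge hU hWB ha
    obtain ⟨T'', hT'', hG''⟩ := Gd.exists_ge hU hWB hb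
    by_contra hne'
    have h1 := hmax (T', M.map (MulAut.conj a).toMonoidHom, T'', M.map (MulAut.conj b).toMonoidHom) ⟨hG', hG'', hne'⟩
    change (CA A (T' ⊓ T'')).ncard ≤ (CA A I).ncard at h1
    have h2 : CA A I ⊂ CA A (T' ⊓ T'') := by
      refine ⟨?_, ?_⟩
      · intro C hC
        exact ⟨hC.1, ((le_sSup hC : C ≤ W).trans le_sup_left).trans (le_inf hT' hT'')⟩
      · intro h3
        exact hBI (h3 ⟨hB, le_sup_right.trans (le_inf hT' hT'')⟩)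
    exact absurd (Set.ncard_lt_ncard h2 (Set.toFinite _)) (not_lt_of_ge h1)
  obtain ⟨a₁, ha₁⟩ := hA₁T.1
  obtain ⟨g₁, hT₁g, hM₁g⟩ := hG₁
  obtain ⟨g₂, hT₂g, hM₂g⟩ := hG₂
  have hWA₁ : W ⊔ A₁ ≤ M₁ := sup_le ((hWI.trans inf_le_left).trans hU₁.le) (hA₁T.2.trans hU₁.le)
  have hWA₂ : W ⊔ A₂ ≤ M₂ := sup_le ((hWI.trans inf_le_right).trans hU₂.le) (hA₂T.2.trans hU₂.le)
  -- the minimal `L`
  have hQM : ∀ {M' : Subgroup G}, (∃ g : G, M' = M.map (MulAut.conj g).toMonoidHom) → Q ≤ M' := by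
    rintro _ ⟨g, rfl⟩
    rw [← CfsgLib.H7Basic.cj_normal g Q]
    apply CfsgLib.H7Basic.cj_le_cj.2
    obtain ⟨P, hP⟩ := isSyl_top_iff.1 hU.syl
    exact (CfsgLib.Core.pCore_le_sylow P).trans (hP.le.trans hU.le)
  have hXne : ¬ Subgroup.normalizer (W : Set G) ≤ M₁ := by
    intro h1
    have h2 : W ⊔ A₂ ≤ M₁ := sup_le ((hWI.trans inf_le_left).trans hU₁.le) (hA₂N.trans h1)
    apply hne
    rw [hM₁g, hM₂g]
    rw [hM₁g] at h2
    rw [hM₂g] at hWA₂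
    exact huq A₂ hA₂T.1 hA₂I hA₂N g₁ g₂ h2 hWA₂
  have hQI : Q ≤ I := by
    apply le_inf
    · obtain ⟨P, hP⟩ := isSyl_top_iff.1 hU₁.syl
      exact (CfsgLib.Core.pCore_le_sylow P).trans hP.le
    · obtain ⟨P, hP⟩ := isSyl_top_iff.1 hU₂.syl
      exact (CfsgLib.Core.pCore_le_sylow P).trans hP.le
  have hQW : Q ≤ Subgroup.normalizer (W : Set G) := fun q hq => CA_norm (le_normalizer (hQI hq))
  obtain ⟨L, hL⟩ := (Set.toFinite {L : Subgroup G | (A₁ ⊔ W) ⊔ Q ≤ L ∧ L ≤ Subgroup.normalizer (W : Set G) ∧ ¬ L ≤ M₁}).exists_minimal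
    ⟨_, sup_le (sup_le hA₁N le_normalizer) hQW, le_rfl, hXne⟩
  obtain ⟨⟨hL1, hL2, hL3⟩, hLmin⟩ := hL
  have hWL : W ≤ L := (le_sup_right.trans le_sup_left).trans hL1
  have hA₁L : A₁ ≤ L := (le_sup_left.trans le_sup_left).trans hL1
  have hQL : Q ≤ L := le_sup_right.trans hL1
  have hWc : W ≤ Cfsg.pCoreOf p L := H6CP.le_core hWL hL2 hWp
  have hQc : Q ≤ Cfsg.pCoreOf p L := H6CP.le_core hQL (by rw [normalizer_eq_top_iff.2 hQn]; exact le_top) hQp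
  have hA₁p : IsPGroup p A₁ := hU₁.syl.isPGroup.to_le hA₁T.2
  have hA₁O : IsPGroup p (Cfsg.pCoreOf p L ⊔ A₁ : Subgroup G) := (core_isPGroup L).to_sup_of_normal_left' hA₁p (hA₁L.trans (core_normal L))
  have hOM : Cfsg.pCoreOf p L ⊔ A₁ ≤ M₁ := by
    obtain ⟨P, hP⟩ := hA₁O.exists_le_sylow
    obtain ⟨P₀, hP₀⟩ := isSyl_top_iff.1 hU.syl
    obtain ⟨a, ha⟩ := CfsgLib.H7Basic.exists_cj_sylow_eq P₀ P
    rw [← ha, hP₀] at hP
    have h1 : Cfsg.pCoreOf p L ⊔ A₁ ≤ M.map (MulAut.conj a).toMonoidHom := hP.trans (CfsgLib.H7Basic.cj_le_cj.2 hU.le)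
    have h2 : W ⊔ A₁ ≤ M.map (MulAut.conj a).toMonoidHom := (sup_le_sup_right hWc A₁).trans h1
    rw [hM₁g] at hWA₁
    have h3 := huq A₁ hA₁T.1 hA₁I hA₁N a g₁ h2 hWA₁
    rw [h3, ← hM₁g] at h1
    exact h1
  have hfin : ∃ L : Subgroup G, A₁ ⊔ Q ≤ L ∧ ∃ L₀ : Subgroup G, A₁ ⊔ (Cfsg.pCoreOf p L) ≤ L₀ ∧ L₀ < L ∧ (∀ X : Subgroup G, A₁ ⊔ (Cfsg.pCoreOf p L) ≤ X → X < L → X ≤ L₀) ∧ (∃ g : G, L₀ = L ⊓ ((M : Subgroup G).map (MulAut.conj (g : G)).toMonoidHom)) ∧ ∀ x ∈ L, x ∉ L₀ → (A₁ ⊔ ((A₁ : Subgroup G).map (MulAut.conj (x : G)).toMonoidHom)) ⊔ (Cfsg.pCoreOf p L) = L := by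
    refine ⟨L, sup_le hA₁L hQL, L ⊓ M₁, ?_, ?_, ?_, ⟨g₁, by rw [← hM₁g]⟩, ?_⟩
    · exact le_inf (sup_le hA₁L (H6CP.core_le L)) (by rw [sup_comm]; exact hOM)
    · exact lt_of_le_of_ne inf_le_left (fun h => hL3 (inf_eq_left.1 h))
    · intro X hX hXL
      refine le_inf hXL.le ?_
      by_contra hXM
      have h1 := hLmin ⟨sup_le (sup_le (le_sup_left.trans hX) (hWc.trans (le_sup_right.trans hX))) (hQc.trans (le_sup_right.trans hX)), hXL.le.trans hL2, hXM⟩ hXL.le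
      exact absurd h1 (not_le_of_gt hXL)
    · intro x hx hxn
      set X := (A₁ ⊔ A₁.map (MulAut.conj x).toMonoidHom) ⊔ Cfsg.pCoreOf p L with hX
      have hxL : L.map (MulAut.conj x).toMonoidHom = L := CfsgLib.H7Basic.cj_eq_self_iff.2 (le_normalizer hx)
      have hXL : X ≤ L := by
        refine sup_le (sup_le hA₁L ?_) (H6CP.core_le L)
        have := CfsgLib.H7Basic.cj_le_cj (g := x).2 hA₁L
        rwa [hxL] at this
      apply le_antisymm hXL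
      by_contra hnle
      have hXM : X ≤ M₁ := by
        by_contra hXM
        exact hnle (hLmin ⟨sup_le (sup_le (le_sup_left.trans le_sup_left) (hWc.trans le_sup_right)) (hQc.trans le_sup_right), hXL.trans hL2, hXM⟩ hXL)
      apply hxn
      refine mem_inf.2 ⟨hx, ?_⟩
      have hWx : W.map (MulAut.conj x).toMonoidHom = W := CfsgLib.H7Basic.cj_eq_self_iff.2 (hL2 hx)
      set B := A₁.map (MulAut.conj x).toMonoidHom with hB
      have hBc : ∃ h : G, B = A.map (MulAut.conj h).toMonoidHom := ⟨x * a₁, by rw [hB, ha₁, CfsgLib.H7Basic.cj_cj]⟩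
      have hBI : B ∉ CA A I := by
        intro h1
        have h2 : B ≤ W := le_sSup h1
        rw [← hWx] at h2
        have h3 : A₁ ≤ W := CfsgLib.H7Basic.cj_le_cj.1 h2
        exact hA₁I ⟨hA₁T.1, h3.trans hWI⟩
      have hBN : B ≤ Subgroup.normalizer (W : Set G) := by
        have := CfsgLib.H7Basic.cj_le_cj (g := x).2 hA₁L
        rw [hxL] at this
        exact this.trans hL2
      have h1 : W ⊔ B ≤ M₁ := (sup_le (hWc.trans le_sup_right) (le_sup_right.trans le_sup_left)).trans hXM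
      have h2 : W ⊔ B ≤ M₁.map (MulAut.conj x).toMonoidHom := by
        conv_lhs => rw [← hWx, hB, ← CfsgLib.H7Basic.cj_sup]
        exact CfsgLib.H7Basic.cj_le_cj.2 hWA₁
      rw [hM₁g] at h1
      rw [hM₁g, CfsgLib.H7Basic.cj_cj] at h2
      have h3 := huq B hBc hBI hBN g₁ (x * g₁) h1 h2
      have h4 : x ∈ Subgroup.normalizer (M₁ : Set G) := by
        rw [← CfsgLib.H7Basic.cj_eq_self_iff, hM₁g, CfsgLib.H7Basic.cj_cj]
        exact h3.symm
      rcases (le_normalizer : M₁ ≤ Subgroup.normalizer (M₁ : Set G)).lt_or_eq with h5 | h5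
      · exfalso
        have h6 := hU₁.co.2 _ h5
        have h7 : M₁.Normal := normalizer_eq_top_iff.1 h6
        apply hU₁.co.1
        rw [← top_le_iff, ← hU₁.ngen]
        exact normalClosure_le_normal hU₁.le
      · rw [h5]; exact h4
  -- conjugate back
  obtain ⟨L', hL'1, L₀, h1, h2, h3, ⟨g, hg⟩, h4⟩ := hfin
  have hAA : A = A₁.map (MulAut.conj a₁⁻¹).toMonoidHom := by
    rw [ha₁, CfsgLib.H7Basic.cj_cj, inv_mul_cancel, CfsgLib.H7Basic.cj_one]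
  have hQc' : Q.map (MulAut.conj a₁⁻¹).toMonoidHom = Q := CfsgLib.H7Basic.cj_normal _ _
  have hlt : ∀ {X Y : Subgroup G}, X < Y → X.map (MulAut.conj a₁⁻¹).toMonoidHom < Y.map (MulAut.conj a₁⁻¹).toMonoidHom := by
    intro X Y h
    refine lt_of_le_not_ge (CfsgLib.H7Basic.cj_le_cj.2 h.le) (fun h' => ?_)
    exact absurd (CfsgLib.H7Basic.cj_le_cj.1 h') (not_le_of_gt h)
  refine ⟨L'.map (MulAut.conj a₁⁻¹).toMonoidHom, ?_, L₀.map (MulAut.conj a₁⁻¹).toMonoidHom, ?_, hlt h2, ?_, ⟨a₁⁻¹ * g, ?_⟩, ?_⟩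
  · rw [← hQc', hAA, ← CfsgLib.H7Basic.cj_sup]; exact CfsgLib.H7Basic.cj_le_cj.2 hL'1
  · rw [core_conj, hAA, ← CfsgLib.H7Basic.cj_sup]; exact CfsgLib.H7Basic.cj_le_cj.2 h1
  · intro X hX hXL
    rw [core_conj, hAA, ← CfsgLib.H7Basic.cj_sup] at hX
    have e : (X.map (MulAut.conj a₁).toMonoidHom).map (MulAut.conj a₁⁻¹).toMonoidHom = X := by
      rw [CfsgLib.H7Basic.cj_cj, inv_mul_cancel, CfsgLib.H7Basic.cj_one]
    rw [← e] at hX hXL ⊢
    apply CfsgLib.H7Basic.cj_le_cj.2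
    apply h3 _ (CfsgLib.H7Basic.cj_le_cj.1 hX)
    exact lt_of_le_not_ge (CfsgLib.H7Basic.cj_le_cj.1 hXL.le) (fun h' => absurd (CfsgLib.H7Basic.cj_le_cj.2 h') (not_le_of_gt hXL))
  · rw [← CfsgLib.H7Basic.cj_cj, ← CfsgLib.H7Basic.cj_inf, ← hg]
  · intro x hx hxn
    have h5 : a₁ * x * a₁⁻¹ ∈ L' := by
      obtain ⟨y, hy, hyx⟩ := hx
      have : a₁⁻¹ * y * a₁⁻¹⁻¹ = x := hyx
      rw [← this]
      rwa [show a₁ * (a₁⁻¹ * y * a₁⁻¹⁻¹) * a₁⁻¹ = y by group]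
    have h6 : a₁ * x * a₁⁻¹ ∉ L₀ := by
      intro h7
      apply hxn
      exact ⟨_, h7, by show a₁⁻¹ * (a₁ * x * a₁⁻¹) * a₁⁻¹⁻¹ = x; group⟩
    have h7 := congrArg (Subgroup.map (MulAut.conj a₁⁻¹).toMonoidHom) (h4 _ h5 h6)
    rw [CfsgLib.H7Basic.cj_sup, CfsgLib.H7Basic.cj_sup, ← core_conj, ← hAA, CfsgLib.H7Basic.cj_cj,
      show a₁⁻¹ * (a₁ * x * a₁⁻¹) = x * a₁⁻¹ by group, ← CfsgLib.H7Basic.cj_cj, ← hAA] at h7
    exact h7

theorem s2834 (T : Sylow p G) (hmin : Cfsg.IsMinimalOver (T : Subgroup G)) (M : Subgroup G) (hM : IsCoatom M ∧ (T : Subgroup G) ≤ M) (A : Subgroup G) (hAT : A ≤ (T : Subgroup G)) (hA : ¬ A ≤ Cfsg.pCore p G) : ∃ L : Subgroup G, A ⊔ Cfsg.pCore p G ≤ L ∧ ∃ L₀ : Subgroup G, A ⊔ (Cfsg.pCoreOf p L) ≤ L₀ ∧ L₀ < L ∧ (∀ X : Subgroup G, A ⊔ (Cfsg.pCoreOf p L) ≤ X → X < L → X ≤ L₀) ∧ (∃ g : G, L₀ = L ⊓ ((M : Subgroup G).map (MulAut.conj (g : G)).toMonoidHom)) ∧ ∀ x ∈ L, x ∉ L₀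 → (A ⊔ ((A : Subgroup G).map (MulAut.conj (x : G)).toMonoidHom)) ⊔ (Cfsg.pCoreOf p L) = L :=
  L_lemma ⟨syl_top T, hM.1, hM.2, fun K hTK hK => le_unique hmin hM.1 hM.2 hK hTK, hmin.1⟩ hAT hA

end LLemma

end CfsgLib.H6LS4
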