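import Cfsg.Agent.Lib.PGrp
import Cfsg.Agent.Lib.Core
import Cfsg.Agent.Lib.H7Basic
import Cfsg.Prelude.Def_Transfer

/-! Assorted: S1898, S3027. -/

set_option autoImplicit false
set_option linter.style.haveILetI false

open Subgroup
open scoped commutatorElement

namespace CfsgLib.H6Ms

universe u v

section s1898
variable {X : Type u} [Group X]

theorem step_1898 (hc2 : ∀ x y : X, (x * y * x⁻¹ * y⁻¹) ^ 2 = 1) (hcc : ∀ x y w : X, (x * y * x⁻¹ * y⁻¹) * w = w * (x * y * x⁻¹ * y⁻¹))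
    (ψ : MulAut X) (n : ℕ) (hn : 2 ≤ n) (h : ∀ x : X, x ^ 2 ^ n = 1 → ψ x = x) (x : X) (hx : x ^ 2 ^ (n + 1) = 1) : (ψ ^ 4) x = x := by
  have h1 : ψ (x ^ 2) = x ^ 2 := h _ (by rw [← pow_mul, ← pow_succ']; exact hx)
  obtain ⟨y, hy⟩ : ∃ y, y = x⁻¹ * ψ x := ⟨_, rfl⟩
  have h2 : ψ x = x * y := by rw [hy]; group
  rw [map_pow, h2, sq, sq] at h1
  have h3 : y * (x * y) = x := by
    have : x * (y * (x * y)) = x * x := by rw [← h1]; group
    exact mul_left_cancel this
  have h4 : y * x = (y * x * y⁻¹ * x⁻¹) * (x * y) := by group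
  have h5 : (y * x * y⁻¹ * x⁻¹) * (y * y) = 1 := by
    have h6 : x * ((y * x * y⁻¹ * x⁻¹) * (y * y)) = x * 1 := by
      rw [← mul_assoc, ← hcc, mul_one]
      calc y * x * y⁻¹ * x⁻¹ * x * (y * y) = y * (x * y) := by group
        _ = x := h3
    exact mul_left_cancel h6
  have h7 : y ^ 4 = 1 := by
    have h8 : y * y = (y * x * y⁻¹ * x⁻¹)⁻¹ := eq_inv_of_mul_eq_one_right h5
    have h9 : y ^ 4 = (y * y) ^ 2 := by rw [← sq, ← pow_mul]
    rw [h9, h8, inv_pow, hc2, inv_one]
  have h8 : ψ y = y := by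
    apply h
    obtain ⟨m, rfl⟩ := Nat.exists_eq_add_of_le hn
    rw [pow_add, pow_mul]
    norm_num
    rw [h7, one_pow]
  have h9 : ∀ k : ℕ, (ψ ^ k) x = x * y ^ k := by
    intro k
    induction k with
    | zero => simp
    | succ k ih =>
      rw [pow_succ', MulAut.mul_apply, ih, map_mul, map_pow, h2, h8, pow_succ']
      group
  rw [h9, h7, mul_one]

theorem s1898 [Finite X] (hX : IsPGroup 2 X)
    (hel : Cfsg.IsElementaryAbelian 2 (commutator X)) (hcen : commutator X ≤ Subgroup.center X) :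
    (∀ x ∈ Subgroup.closure {g : X | g ^ 4 = 1}, x ^ 4 = 1) ∧
      ∀ φ : MulAut X, (∀ g : X, g ^ 4 = 1 → φ g = g) → ∃ k : ℕ, φ ^ (2 ^ k) = 1 := by
  have hcm : ∀ x y : X, x * y * x⁻¹ * y⁻¹ ∈ commutator X := fun x y => Subgroup.commutator_mem_commutator (mem_top x) (mem_top y)
  have hc2 : ∀ x y : X, (x * y * x⁻¹ * y⁻¹) ^ 2 = 1 := fun x y => hel.2 _ (hcm x y)
  have hcc : ∀ x y w : X, (x * y * x⁻¹ * y⁻¹) * w = w * (x * y * x⁻¹ * y⁻¹) := fun x y w => (mem_center_iff.1 (hcen (hcm x y)) w).symm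
  constructor
  · intro x hx
    induction hx using Subgroup.closure_induction with
    | mem x hx => exact hx
    | one => exact one_pow _
    | mul x y _ _ hx hy =>
      rw [CfsgLib.PGrp.mul_pow_of_class_two (hcc y x x) (hcc y x y), hx, hy]
      have : 4 * (4 - 1) / 2 = 2 * 3 := rfl
      rw [this, pow_mul, hc2, one_pow]; simp
    | inv x _ hx => rw [inv_pow, hx, inv_one]
  · intro φ hφ
    have key : ∀ k : ℕ, ∀ x : X, x ^ 2 ^ (k + 2) = 1 → (φ ^ 4 ^ k) x = x := by
      intro k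
      induction k with
      | zero => intro x hx; simpa using hφ x (by simpa using hx)
      | succ k ih =>
        intro x hx
        have := step_1898 hc2 hcc (φ ^ 4 ^ k) (k + 2) (by omega) ih x (by rw [show k + 2 + 1 = k + 1 + 2 by ring]; exact hx)
        rw [pow_succ, pow_mul]
        exact this
    obtain ⟨m, hm⟩ := IsPGroup.iff_card.1 hX
    refine ⟨2 * m, ?_⟩
    ext x
    rw [pow_mul]
    have h1 : (φ ^ (4 : ℕ) ^ m) x = x := by
      apply key
      rw [pow_add, pow_mul, ← hm, pow_card_eq_one', one_pow]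
    exact h1

end s1898

section s3027

theorem exists_normal_of_subnormal {G : Type u} [Group G] {B : Subgroup G} (h : B.IsSubnormal) : B ≠ ⊤ → ∃ M : Subgroup G, M.Normal ∧ M ≠ ⊤ ∧ B ≤ M := by
  induction h with
  | top => intro h; exact absurd rfl h
  | step H K hle hK hN ih =>
    intro hH
    by_cases hKt : K = ⊤
    · subst hKt
      refine ⟨H, ?_, hH, le_rfl⟩
      rw [← Subgroup.normalizer_eq_top_iff, eq_top_iff]
      exact (Subgroup.normal_subgroupOf_iff_le_normalizer hle).1 hN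
    · obtain ⟨M, h1, h2, h3⟩ := ih hKt
      exact ⟨M, h1, h2, hle.trans h3⟩

theorem s3027_aux (n : ℕ) : ∀ {G : Type u} [Group G] [Finite G] (D : Subgroup G) [D.Normal], Nat.card G ≤ n →
    ⁅(⊤ : Subgroup G), (⊤ : Subgroup G)⁆ ⊔ D = ⊤ →
    ∃ B : Subgroup G, B.Normal ∧ B ⊔ D = ⊤ ∧ ∀ B' : Subgroup G, B'.IsSubnormal → B' ⊔ D = ⊤ → B ≤ B' := by
  induction n with
  | zero =>
    intro G _ _ D _ hn
    exact absurd (Nat.card_pos (α := G)) (by omega)
  | succ n ih =>
    intro G _ _ D hD hn hperf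
    -- intersection of two normal supplements
    have hint : ∀ B₁ B₂ : Subgroup G, B₁.Normal → B₂.Normal → B₁ ⊔ D = ⊤ → B₂ ⊔ D = ⊤ → (B₁ ⊓ B₂) ⊔ D = ⊤ := by
      intro B₁ B₂ h1 h2 h3 h4
      rw [eq_top_iff, ← hperf]
      apply sup_le _ le_sup_right
      rw [Subgroup.commutator_le]
      intro x _ y _
      have hx : x ∈ B₁ ⊔ D := by rw [h3]; exact mem_top x
      have hy : y ∈ B₂ ⊔ D := by rw [h4]; exact mem_top y
      obtain ⟨b, hb, d, hd, rfl⟩ := Subgroup.mem_sup_of_normal_right.1 hx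
      obtain ⟨c, hc, e, he, rfl⟩ := Subgroup.mem_sup_of_normal_right.1 hy
      have h5 : ⁅b, c⁆ ∈ B₁ ⊓ B₂ := by
        rw [commutatorElement_def]
        refine mem_inf.2 ⟨?_, ?_⟩
        · have : b * c * b⁻¹ * c⁻¹ = b * (c * b⁻¹ * c⁻¹) := by group
          rw [this]
          exact B₁.mul_mem hb (h1.conj_mem _ (B₁.inv_mem hb) c)
        · exact B₂.mul_mem (h2.conj_mem c hc b) (B₂.inv_mem hc)
      -- modulo `D`
      have h6 : (QuotientGroup.mk ⁅b * d, c * e⁆ : G ⧸ D) = QuotientGroup.mk ⁅b, c⁆ := by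
        have hd' : (QuotientGroup.mk d : G ⧸ D) = 1 := (QuotientGroup.eq_one_iff d).2 hd
        have he' : (QuotientGroup.mk e : G ⧸ D) = 1 := (QuotientGroup.eq_one_iff e).2 he
        simp only [commutatorElement_def, QuotientGroup.mk_mul, QuotientGroup.mk_inv, hd', he', mul_one]
      rw [QuotientGroup.eq] at h6
      have h7 : ⁅b * d, c * e⁆ = ⁅b, c⁆ * (⁅b * d, c * e⁆⁻¹ * ⁅b, c⁆)⁻¹ := by group
      rw [h7]
      exact mul_mem_sup h5 (D.inv_mem h6)
    -- least normal supplement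
    obtain ⟨B, ⟨hBn, hBD⟩, hBmin⟩ : ∃ B ∈ {B : Subgroup G | B.Normal ∧ B ⊔ D = ⊤}, ∀ B' ∈ {B : Subgroup G | B.Normal ∧ B ⊔ D = ⊤}, B' ≤ B → B' = B := by
      have hfin : Set.Finite {B : Subgroup G | B.Normal ∧ B ⊔ D = ⊤} := Set.toFinite _
      obtain ⟨B, hB⟩ := hfin.exists_minimal ⟨⊤, inferInstance, top_sup_eq D⟩
      exact ⟨B, hB.1, fun B' h1 h2 => le_antisymm h2 (hB.2 h1 h2)⟩
    have hleast : ∀ B' : Subgroup G, B'.Normal → B' ⊔ D = ⊤ → B ≤ B' := by
      intro B' h1 h2
      haveI := hBn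
      haveI := h1
      have h3 := hBmin (B ⊓ B') ⟨inferInstance, hint B B' hBn h1 hBD h2⟩ inf_le_left
      rw [← h3]; exact inf_le_right
    refine ⟨B, hBn, hBD, ?_⟩
    intro B' hs hB'D
    by_cases htop : B' = ⊤
    · rw [htop]; exact le_top
    · obtain ⟨M, hMn, hMt, hBM⟩ := exists_normal_of_subnormal hs htop
      haveI := hMn
      have hMD : M ⊔ D = ⊤ := by
        rw [eq_top_iff, ← hB'D]
        exact sup_le_sup_right hBM D
      have hcard : Nat.card M ≤ n := by
        have h1 : Nat.card M < Nat.card G := by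
          rcases lt_or_ge (Nat.card M) (Nat.card G) with h | h
          · exact h
          · exact absurd (Subgroup.eq_top_of_le_card M h) hMt
        omega
      -- `M / (D ∩ M)` is perfect
      have hperfM : ⁅(⊤ : Subgroup M), (⊤ : Subgroup M)⁆ ⊔ D.subgroupOf M = ⊤ := by
        rw [eq_top_iff]
        rintro ⟨x, hx⟩ _
        have h1 : x ∈ ⁅M, M⁆ ⊔ D := by
          have h2 : ⁅(⊤ : Subgroup G), (⊤ : Subgroup G)⁆ ≤ ⁅M, M⁆ ⊔ D := by
            rw [Subgroup.commutator_le]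
            intro x _ y _
            have hx : x ∈ M ⊔ D := by rw [hMD]; exact mem_top x
            have hy : y ∈ M ⊔ D := by rw [hMD]; exact mem_top y
            obtain ⟨b, hb, d, hd, rfl⟩ := Subgroup.mem_sup_of_normal_right.1 hx
            obtain ⟨c, hc, e, he, rfl⟩ := Subgroup.mem_sup_of_normal_right.1 hy
            have h6 : (QuotientGroup.mk ⁅b * d, c * e⁆ : G ⧸ D) = QuotientGroup.mk ⁅b, c⁆ := by
              have hd' : (QuotientGroup.mk d : G ⧸ D) = 1 := (QuotientGroup.eq_one_iff d).2 hd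
              have he' : (QuotientGroup.mk e : G ⧸ D) = 1 := (QuotientGroup.eq_one_iff e).2 he
              simp only [commutatorElement_def, QuotientGroup.mk_mul, QuotientGroup.mk_inv, hd', he', mul_one]
            rw [QuotientGroup.eq] at h6
            have h7 : ⁅b * d, c * e⁆ = ⁅b, c⁆ * (⁅b * d, c * e⁆⁻¹ * ⁅b, c⁆)⁻¹ := by group
            rw [h7]
            exact mul_mem_sup (Subgroup.commutator_mem_commutator hb hc) (D.inv_mem h6)
          have h3 : (⊤ : Subgroup G) ≤ ⁅M, M⁆ ⊔ D := by rw [← hperf]; exact sup_le h2 le_sup_right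
          exact h3 (mem_top x)
        obtain ⟨c, hc, d, hd, hcd⟩ := Subgroup.mem_sup_of_normal_right.1 h1
        have hcM : c ∈ M := (Subgroup.commutator_le_left M M) hc
        have hdM : d ∈ M := by
          have : d = c⁻¹ * x := by rw [← hcd]; group
          rw [this]; exact M.mul_mem (M.inv_mem hcM) hx
        have h4 : (⟨x, hx⟩ : M) = ⟨c, hcM⟩ * ⟨d, hdM⟩ := Subtype.ext hcd.symm
        rw [h4]
        refine mul_mem_sup ?_ hd
        have h5 : ⁅M, M⁆ = (⁅(⊤ : Subgroup M), (⊤ : Subgroup M)⁆).map M.subtype := by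
          rw [Subgroup.map_commutator, ← MonoidHom.range_eq_map, Subgroup.range_subtype]
        rw [h5] at hc
        obtain ⟨c', hc', hcc'⟩ := hc
        have : c' = ⟨c, hcM⟩ := Subtype.ext hcc'
        rw [← this]; exact hc'
      obtain ⟨B₁, hB₁n, hB₁D, hB₁min⟩ := ih (G := M) (D.subgroupOf M) hcard hperfM
      -- `B₁` is normal in `G`
      have hB₁G : (B₁.map M.subtype).Normal := by
        constructor
        rintro _ ⟨b, hb, rfl⟩ g
        let e : M ≃* M := MulAut.conjNormal g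
        have h1 : B₁ ≤ B₁.map (MulAut.conjNormal (H := M) g⁻¹).toMonoidHom := by
          apply hB₁min
          · have : (B₁.map (MulAut.conjNormal (H := M) g⁻¹).toMonoidHom).Normal := hB₁n.map _ (MulAut.conjNormal (H := M) g⁻¹).surjective
            exact this.isSubnormal
          · rw [eq_top_iff]
            rintro ⟨x, hx⟩ _
            have h2 : (⟨g * x * g⁻¹, hMn.conj_mem x hx g⟩ : M) ∈ B₁ ⊔ D.subgroupOf M := by rw [hB₁D]; exact mem_top _
            obtain ⟨c, hc, d, hd, hcd⟩ := Subgroup.mem_sup_of_normal_right.1 h2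
            have h3 : (⟨x, hx⟩ : M) = (MulAut.conjNormal (H := M) g⁻¹) c * (MulAut.conjNormal (H := M) g⁻¹) d := by
              rw [← map_mul, hcd]
              apply Subtype.ext
              rw [MulAut.conjNormal_apply]
              show x = g⁻¹ * (g * x * g⁻¹) * g⁻¹⁻¹
              group
            rw [h3]
            refine mul_mem_sup ⟨c, hc, rfl⟩ ?_
            rw [mem_subgroupOf, MulAut.conjNormal_apply]
            exact hD.conj_mem _ hd g⁻¹
        obtain ⟨c, hc, hcb⟩ := h1 hb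
        refine ⟨c, hc, ?_⟩
        have h2 : ((MulAut.conjNormal (H := M) g⁻¹) c : G) = b := congrArg Subtype.val hcb
        rw [MulAut.conjNormal_apply] at h2
        show (c : G) = g * (b : G) * g⁻¹
        rw [← h2]; group
      have hB₁Dt : B₁.map M.subtype ⊔ D = ⊤ := by
        rw [eq_top_iff, ← hMD]
        apply sup_le _ le_sup_right
        intro x hx
        have h2 : (⟨x, hx⟩ : M) ∈ B₁ ⊔ D.subgroupOf M := by rw [hB₁D]; exact mem_top _
        obtain ⟨c, hc, d, hd, hcd⟩ := Subgroup.mem_sup_of_normal_right.1 h2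
        have h3 : x = (c : G) * d := (congrArg Subtype.val hcd).symm
        rw [h3]
        exact mul_mem_sup ⟨c, hc, rfl⟩ hd
      refine (hleast _ hB₁G hB₁Dt).trans ?_
      have h2 : B₁ ≤ B'.subgroupOf M := by
        apply hB₁min
        · exact hs.subgroupOf
        · rw [eq_top_iff]
          rintro ⟨x, hx⟩ _
          have h2 : x ∈ B' ⊔ D := by rw [hB'D]; exact mem_top _
          obtain ⟨c, hc, d, hd, hcd⟩ := Subgroup.mem_sup_of_normal_right.1 h2
          have hdM : d ∈ M := by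
            have : d = c⁻¹ * x := by rw [← hcd]; group
            rw [this]; exact M.mul_mem (M.inv_mem (hBM hc)) hx
          have h4 : (⟨x, hx⟩ : M) = ⟨c, hBM hc⟩ * ⟨d, hdM⟩ := Subtype.ext hcd.symm
          rw [h4]
          exact mul_mem_sup hc hd
      rintro _ ⟨b, hb, rfl⟩
      exact h2 hb

theorem s3027 {G : Type u} [Group G] [Finite G] (D : Subgroup G) [D.Normal] (hperf : ⁅(⊤ : Subgroup G), (⊤ : Subgroup G)⁆ ⊔ D = ⊤) :
    ∃ B : Subgroup G, B.Normal ∧ B ⊔ D = ⊤ ∧ ∀ B' : Subgroup G, B'.IsSubnormal → B' ⊔ D = ⊤ → B ≤ B' :=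
  s3027_aux (Nat.card G) D le_rfl hperf

end s3027

end CfsgLib.H6Ms
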