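import Cfsg.Agent.Lib.Comp
import Cfsg.Agent.Lib.Core
import Cfsg.Agent.Lib.H7Basic
import Cfsg.Agent.Lib.H9SC
import Cfsg.Prelude.Def_Transfer

/-! Assorted: S1921, S3075, S1885. -/

set_option autoImplicit false
set_option linter.style.haveILetI false

open Subgroup
open scoped commutatorElement

namespace CfsgLib.H6Ms

universe u v

section s1921
open CfsgLib.Comp

variable {H : Type u} [Group H] [Finite H]

theorem s1921 (a : H) (ha : orderOf a = 2) (L : Subgroup H) (hL : Cfsg.IsComponent L)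
    (hLa : L.map (MulAut.conj a).toMonoidHom ≠ L) (x : H) (hxM : x ∈ L ⊔ L.map (MulAut.conj a).toMonoidHom)
    (hxJ : x ∉ Subgroup.closure {y : H | ∃ l ∈ L, y = l * (a * l * a⁻¹)} ⊔
      ((L ⊔ L.map (MulAut.conj a).toMonoidHom) ⊓ Subgroup.centralizer ((L ⊔ L.map (MulAut.conj a).toMonoidHom : Subgroup H) : Set H))) :
    Subgroup.closure {y : H | ∃ l ∈ L, y = l * (a * l * a⁻¹)} ⊔ Subgroup.zpowers x = L ⊔ L.map (MulAut.conj a).toMonoidHom := by
  obtain ⟨L', hL'⟩ : ∃ L' : Subgroup H, L' = L.map (MulAut.conj a).toMonoidHom := ⟨_, rfl⟩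
  rw [← hL'] at hLa hxM hxJ ⊢
  have hL'c : Cfsg.IsComponent L' := by rw [hL']; exact conj_component hL a
  have hcomm : ∀ l ∈ L, ∀ m ∈ L', l * m = m * l := by
    rcases eq_or_comm hL hL'c with h | h
    · exact absurd h.symm hLa
    · exact comm_iff.1 h
  have ha' : ∀ l ∈ L, a * l * a⁻¹ ∈ L' := by
    intro l hl; rw [hL']; exact ⟨l, hl, rfl⟩
  obtain ⟨J, hJ⟩ : ∃ J : Subgroup H, J = Subgroup.closure {y : H | ∃ l ∈ L, y = l * (a * l * a⁻¹)} := ⟨_, rfl⟩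
  rw [← hJ] at hxJ ⊢
  have hJm : ∀ l ∈ L, l * (a * l * a⁻¹) ∈ J := by
    intro l hl; rw [hJ]; exact Subgroup.subset_closure ⟨l, hl, rfl⟩
  have hJM : J ≤ L ⊔ L' := by
    rw [hJ, closure_le]
    rintro _ ⟨l, hl, rfl⟩
    exact mul_mem_sup hl (ha' l hl)
  obtain ⟨X, hX⟩ : ∃ X : Subgroup H, X = J ⊔ Subgroup.zpowers x := ⟨_, rfl⟩
  rw [← hX]
  have hJX : J ≤ X := by rw [hX]; exact le_sup_left
  have hxX : x ∈ X := by rw [hX]; exact mem_sup_right (mem_zpowers x)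
  have hXM : X ≤ L ⊔ L' := by rw [hX]; exact sup_le hJM (by rwa [zpowers_le])
  have hL'n : L' ≤ Subgroup.normalizer (L : Set H) := by
    intro m hm
    apply CfsgLib.H7Basic.mem_normalizer_of_conj_mem
    intro l hl
    rw [← hcomm l hl m hm, mul_inv_cancel_right]; exact hl
  obtain ⟨l₁, hl₁, l₂, hl₂, rfl⟩ := CfsgLib.H9SC.mem_sup_norm hL'n hxM
  obtain ⟨l', hl', hll⟩ : ∃ l' ∈ L, a * l' * a⁻¹ = l₂ := by
    rw [hL'] at hl₂
    obtain ⟨l', hl', h⟩ := hl₂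
    exact ⟨l', hl', h⟩
  -- `y = l₁ l'⁻¹`
  have hy : l₁ * l'⁻¹ ∈ X := by
    have h1 := X.mul_mem hxX (X.inv_mem (hJX (hJm l' hl')))
    have h2 : l₁ * l₂ * (l' * (a * l' * a⁻¹))⁻¹ = l₁ * l'⁻¹ := by
      rw [hll]; group
    rwa [h2] at h1
  have hyL : l₁ * l'⁻¹ ∈ L := L.mul_mem hl₁ (L.inv_mem hl')
  -- `X ⊓ L` is normal in `L`
  have hn : ((X ⊓ L).subgroupOf L).Normal := by
    constructor
    rintro ⟨n, hn⟩ hn' ⟨l, hl⟩
    rw [mem_subgroupOf] at hn' ⊢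
    have hn2 := mem_inf.1 hn'
    refine mem_inf.2 ⟨?_, L.mul_mem (L.mul_mem hl hn) (L.inv_mem hl)⟩
    have h1 := X.mul_mem (X.mul_mem (hJX (hJm l hl)) hn2.1) (X.inv_mem (hJX (hJm l hl)))
    have h2 : l * (a * l * a⁻¹) * n * (l * (a * l * a⁻¹))⁻¹ = l * n * l⁻¹ := by
      have h3 := hcomm n hn _ (ha' l hl)
      calc l * (a * l * a⁻¹) * n * (l * (a * l * a⁻¹))⁻¹ = l * ((a * l * a⁻¹) * n) * (a * l * a⁻¹)⁻¹ * l⁻¹ := by group
        _ = l * n * l⁻¹ := by rw [← h3]; group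
    show l * n * l⁻¹ ∈ X
    have h4 : l * (a * l * a⁻¹) * n * (l * (a * l * a⁻¹))⁻¹ ∈ X := h1
    rwa [h2] at h4
  have hLX : L ≤ X := by
    rcases qs_normal hL.2 _ hn with h | h
    · rw [Subgroup.subgroupOf_eq_top] at h
      exact h.trans inf_le_left
    · exfalso
      apply hxJ
      have h1 : (⟨l₁ * l'⁻¹, hyL⟩ : L) ∈ center L := h (by rw [mem_subgroupOf]; exact mem_inf.2 ⟨hy, hyL⟩)
      have h2 : l₁ * l₂ = (l' * (a * l' * a⁻¹)) * (l₁ * l'⁻¹) := by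
        rw [hll]
        have h3 : l' * (l₁ * l'⁻¹) = (l₁ * l'⁻¹) * l' := congrArg Subtype.val (mem_center_iff.1 h1 ⟨l', hl'⟩)
        calc l₁ * l₂ = ((l₁ * l'⁻¹) * l') * l₂ := by group
          _ = (l' * (l₁ * l'⁻¹)) * l₂ := by rw [h3]
          _ = l' * ((l₁ * l'⁻¹) * l₂) := by group
          _ = l' * l₂ * (l₁ * l'⁻¹) := by rw [hcomm _ hyL l₂ hl₂]; group
      rw [h2]
      refine mul_mem_sup (hJm l' hl') (mem_inf.2 ⟨mem_sup_left hyL, ?_⟩)
      rw [mem_centralizer_iff]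
      intro m hm
      obtain ⟨m₁, hm₁, m₂, hm₂, rfl⟩ := CfsgLib.H9SC.mem_sup_norm hL'n hm
      have h3 : m₁ * (l₁ * l'⁻¹) = (l₁ * l'⁻¹) * m₁ := congrArg Subtype.val (mem_center_iff.1 h1 ⟨m₁, hm₁⟩)
      have h4 := hcomm _ hyL m₂ hm₂
      calc m₁ * m₂ * (l₁ * l'⁻¹) = m₁ * ((l₁ * l'⁻¹) * m₂) := by rw [h4]; group
        _ = (l₁ * l'⁻¹) * (m₁ * m₂) := by rw [← mul_assoc, h3]; group
  apply le_antisymm hXM
  apply sup_le hLX
  rw [hL']
  rintro _ ⟨l, hl, rfl⟩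
  have h1 := X.mul_mem (X.inv_mem (hLX hl)) (hJX (hJm l hl))
  have h2 : l⁻¹ * (l * (a * l * a⁻¹)) = a * l * a⁻¹ := by group
  rw [h2] at h1
  exact h1

end s1921

section s3075
variable {N : Type u} [Group N] [Finite N] {p : ℕ} [hp : Fact p.Prime]

/-- commutators centralize normalized subgroups of prime order -/
theorem comm_act {C : Subgroup N} (hC : Nat.card C = p) {n m : N} (hn : ∀ c ∈ C, n * c * n⁻¹ ∈ C) (hm : ∀ c ∈ C, m * c * m⁻¹ ∈ C) :
    ∀ c ∈ C, (n * m) * c * (n * m)⁻¹ = (m * n) * c * (m * n)⁻¹ := by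
  intro c hc
  by_cases hc1 : c = 1
  · rw [hc1]; group
  have hz : zpowers c = C := by
    apply Subgroup.eq_of_le_of_card_ge (zpowers_le.2 hc)
    rw [hC, Nat.card_zpowers]
    have h2 := Subgroup.orderOf_dvd_natCard C hc
    rw [hC] at h2
    rcases (Nat.dvd_prime hp.out).1 h2 with h | h
    · exact absurd (orderOf_eq_one_iff.1 h) hc1
    · exact h.ge
  have h1 := hn c hc
  have h2 := hm c hc
  rw [← hz] at h1 h2
  obtain ⟨i, hi⟩ := mem_zpowers_iff.1 h1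
  obtain ⟨j, hj⟩ := mem_zpowers_iff.1 h2
  have e1 : (n * m) * c * (n * m)⁻¹ = n * (m * c * m⁻¹) * n⁻¹ := by group
  have e2 : (m * n) * c * (m * n)⁻¹ = m * (n * c * n⁻¹) * m⁻¹ := by group
  rw [e1, e2, ← hi, ← hj, ← conj_zpow, ← conj_zpow, ← hi, ← hj, ← zpow_mul, ← zpow_mul, mul_comm]

theorem s3075 (hp2 : p ≠ 2)
    (A : Subgroup N) [hAn : A.Normal] (hAcomm : IsMulCommutative A) (hAcard : Nat.card A = p ^ 2) (hAexp : Monoid.exponent ↥A = p)
    (hAself : Subgroup.centralizer (A : Set N) = A)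
    {F : Type v} [Field F] [Fintype F] (hF : Fintype.card F = p) (e : N ⧸ A ≃* Matrix.SpecialLinearGroup (Fin 2) F) :
    ∃ U : Subgroup N, A ⊓ U = ⊥ ∧ A ⊔ U = ⊤ := by
  classical
  have hpodd : Odd p := hp.out.odd_of_ne_two hp2
  have hAc : ∀ x ∈ A, ∀ y ∈ A, x * y = y * x := fun x hx y hy => congrArg Subtype.val (hAcomm.is_comm.comm ⟨x, hx⟩ ⟨y, hy⟩)
  have hAp : ∀ x ∈ A, x ^ p = 1 := by
    intro x hx
    have := Monoid.pow_exponent_eq_one (⟨x, hx⟩ : A)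
    rw [hAexp] at this
    exact congrArg Subtype.val this
  -- characteristic of `F`
  have h2F : (2 : F) ≠ 0 := by
    intro h2
    have h3 : ((p : ℕ) : F) = 0 := by rw [← hF]; exact Nat.cast_card_eq_zero F
    obtain ⟨k, hk⟩ := hpodd
    rw [hk] at h3
    push_cast at h3
    rw [h2, zero_mul, zero_add] at h3
    exact one_ne_zero h3
  let s : N ⧸ A := e.symm (-1)
  have hs1 : s ≠ 1 := by
    intro h
    have h1 : (-1 : Matrix.SpecialLinearGroup (Fin 2) F) = 1 := by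
      have := congrArg e h
      rwa [MulEquiv.apply_symm_apply, map_one] at this
    have h2 := congrArg (fun M : Matrix.SpecialLinearGroup (Fin 2) F => (M : Matrix (Fin 2) (Fin 2) F) 0 0) h1
    simp at h2
    apply h2F
    have h3 : (1 : F) + 1 = 0 := by
      nth_rewrite 1 [← h2]; ring
    rw [← one_add_one_eq_two]; exact h3
  have hs2 : s * s = 1 := by
    show e.symm (-1) * e.symm (-1) = 1
    rw [← map_mul, neg_mul_neg, one_mul, map_one]
  have hsc : ∀ y : N ⧸ A, y * s = s * y := by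
    intro y
    apply e.injective
    show e (y * e.symm (-1)) = e (e.symm (-1) * y)
    rw [map_mul, map_mul, MulEquiv.apply_symm_apply, mul_neg, neg_mul, mul_one, one_mul]
  obtain ⟨t₀, ht₀⟩ := QuotientGroup.mk_surjective s
  have ht₀2 : t₀ * t₀ ∈ A := by
    rw [← QuotientGroup.eq_one_iff, QuotientGroup.mk_mul, ht₀, hs2]
  obtain ⟨t, ht⟩ : ∃ t, t = t₀ ^ p := ⟨_, rfl⟩
  have hts : (QuotientGroup.mk t : N ⧸ A) = s := by
    rw [ht, QuotientGroup.mk_pow, ht₀]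
    obtain ⟨k, hk⟩ := hpodd
    rw [hk, pow_succ, pow_mul, sq, hs2, one_pow, one_mul]
  have ht2 : t * t = 1 := by
    rw [ht, ← sq, ← pow_mul, mul_comm, pow_mul, sq]
    exact hAp _ ht₀2
  have hti : t⁻¹ = t := inv_eq_of_mul_eq_one_right ht2
  -- conjugates of `t` act as `t`
  have htn : ∀ n : N, n * t * n⁻¹ * t⁻¹ ∈ A := by
    intro n
    rw [← QuotientGroup.eq_one_iff]
    rw [QuotientGroup.mk_mul, QuotientGroup.mk_mul, QuotientGroup.mk_mul, QuotientGroup.mk_inv, QuotientGroup.mk_inv, hts, hsc]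
    group
  have hact : ∀ n : N, ∀ a ∈ A, t * (n * a * n⁻¹) * t⁻¹ = n * (t * a * t⁻¹) * n⁻¹ := by
    intro n a ha
    obtain ⟨b, hb⟩ : ∃ b, b = n⁻¹ * t * n⁻¹⁻¹ * t⁻¹ := ⟨_, rfl⟩
    have hbA : b ∈ A := by rw [hb]; exact htn n⁻¹
    have h1 : t * n = n * (b * t) := by rw [hb]; group
    have h2 : b * (t * a * t⁻¹) = (t * a * t⁻¹) * b := hAc b hbA _ (hAn.conj_mem a ha t)
    calc t * (n * a * n⁻¹) * t⁻¹ = (t * n) * a * (t * n)⁻¹ := by group
      _ = n * (b * (t * a * t⁻¹)) * b⁻¹ * n⁻¹ := by rw [h1]; group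
      _ = n * (t * a * t⁻¹) * n⁻¹ := by rw [h2]; group
  let C : Subgroup N :=
    { carrier := {a | a ∈ A ∧ t * a * t⁻¹ = a}
      one_mem' := ⟨A.one_mem, by group⟩
      mul_mem' := by
        rintro a b ⟨ha, ha'⟩ ⟨hb, hb'⟩
        refine ⟨A.mul_mem ha hb, ?_⟩
        have h1 : t * (a * b) * t⁻¹ = (t * a * t⁻¹) * (t * b * t⁻¹) := by group
        rw [h1, ha', hb']
      inv_mem' := by
        rintro a ⟨ha, ha'⟩
        refine ⟨A.inv_mem ha, ?_⟩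
        have h1 : t * a⁻¹ * t⁻¹ = (t * a * t⁻¹)⁻¹ := by group
        rw [h1, ha'] }
  let I : Subgroup N :=
    { carrier := {a | a ∈ A ∧ t * a * t⁻¹ = a⁻¹}
      one_mem' := ⟨A.one_mem, by group⟩
      mul_mem' := by
        rintro a b ⟨ha, ha'⟩ ⟨hb, hb'⟩
        refine ⟨A.mul_mem ha hb, ?_⟩
        have h1 : t * (a * b) * t⁻¹ = (t * a * t⁻¹) * (t * b * t⁻¹) := by group
        rw [h1, ha', hb', ← mul_inv_rev, hAc b hb a ha]
      inv_mem' := by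
        rintro a ⟨ha, ha'⟩
        refine ⟨A.inv_mem ha, ?_⟩
        have h1 : t * a⁻¹ * t⁻¹ = (t * a * t⁻¹)⁻¹ := by group
        rw [h1, ha'] }
  have hCm : ∀ a, a ∈ C ↔ a ∈ A ∧ t * a * t⁻¹ = a := fun a => Iff.rfl
  have hIm : ∀ a, a ∈ I ↔ a ∈ A ∧ t * a * t⁻¹ = a⁻¹ := fun a => Iff.rfl
  have hCA : C ≤ A := fun a ha => ha.1
  have hIA : I ≤ A := fun a ha => ha.1
  have hCn : ∀ n : N, ∀ c ∈ C, n * c * n⁻¹ ∈ C := by
    intro n c hc
    rw [hCm] at hc ⊢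
    exact ⟨hAn.conj_mem c hc.1 n, by rw [hact n c hc.1, hc.2]⟩
  have hIn : ∀ n : N, ∀ c ∈ I, n * c * n⁻¹ ∈ I := by
    intro n c hc
    rw [hIm] at hc ⊢
    exact ⟨hAn.conj_mem c hc.1 n, by rw [hact n c hc.1, hc.2]; group⟩
  have htt : ∀ a : N, t * (t * a * t⁻¹) * t⁻¹ = a := by
    intro a
    calc t * (t * a * t⁻¹) * t⁻¹ = (t * t) * a * (t * t)⁻¹ := by group
      _ = a := by rw [ht2]; group
  have hsum : ∀ a ∈ A, a * (t * a * t⁻¹) ∈ C := by
    intro a ha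
    rw [hCm]
    refine ⟨A.mul_mem ha (hAn.conj_mem a ha t), ?_⟩
    have h1 : t * (a * (t * a * t⁻¹)) * t⁻¹ = (t * a * t⁻¹) * (t * (t * a * t⁻¹) * t⁻¹) := by group
    rw [h1, htt, hAc a ha _ (hAn.conj_mem a ha t)]
  have hdiff : ∀ a ∈ A, a * (t * a * t⁻¹)⁻¹ ∈ I := by
    intro a ha
    rw [hIm]
    refine ⟨A.mul_mem ha (A.inv_mem (hAn.conj_mem a ha t)), ?_⟩
    have h1 : t * (a * (t * a * t⁻¹)⁻¹) * t⁻¹ = (t * a * t⁻¹) * (t * (t * a * t⁻¹) * t⁻¹)⁻¹ := by group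
    rw [h1, htt]; group
  have hodd : ∀ a ∈ A, a * a = 1 → a = 1 := by
    intro a ha h2
    have h3 := hAp a ha
    obtain ⟨k, hk⟩ := hpodd
    rw [hk, pow_succ, pow_mul, sq, h2, one_pow, one_mul] at h3
    exact h3
  have hCI : ∀ a, a ∈ C → a ∈ I → a = 1 := by
    intro a h1 h2
    apply hodd a (hCA h1)
    have h3 := ((hCm a).1 h1).2.symm.trans ((hIm a).1 h2).2
    nth_rewrite 1 [h3]; group
  have hCneA : ¬ A ≤ C := by
    intro h
    apply hs1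
    rw [← hts, QuotientGroup.eq_one_iff, ← hAself, mem_centralizer_iff]
    intro a ha
    have h1 := ((hCm a).1 (h ha)).2
    calc a * t = (t * a * t⁻¹) * t := by rw [h1]
      _ = t * a := by group
  have hCb : C = ⊥ := by
    by_contra hCb
    have hIb : I ≠ ⊥ := by
      intro hIb
      apply hCneA
      intro a ha
      rw [hCm]
      refine ⟨ha, ?_⟩
      have h1 := hdiff a ha
      rw [hIb, mem_bot, mul_inv_eq_one] at h1
      exact h1.symm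
    have hcard : ∀ B : Subgroup N, B ≤ A → B ≠ ⊥ → B ≠ A → Nat.card B = p := by
      intro B hB hBb hBA
      have h1 := Subgroup.card_dvd_of_le hB
      rw [hAcard] at h1
      obtain ⟨k, hk, hBk⟩ := (Nat.dvd_prime_pow hp.out).1 h1
      have hk0 : k ≠ 0 := by
        rintro rfl
        rw [pow_zero] at hBk
        exact hBb (Subgroup.card_eq_one.1 hBk)
      have hk2 : k ≠ 2 := by
        rintro rfl
        exact hBA (Subgroup.eq_of_le_of_card_ge hB (by rw [hBk, hAcard]))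
      have : k = 1 := by omega
      rw [hBk, this, pow_one]
    have hC1 := hcard C hCA hCb (fun h => hCneA h.ge)
    have hI1 := hcard I hIA hIb (fun h => by
      apply hCb
      rw [eq_bot_iff]
      intro c hc
      rw [mem_bot]
      exact hCI c hc (by rw [h]; exact hCA hc))
    -- everything in `A` is a product
    have hprod : ∀ a ∈ A, ∃ c ∈ C, ∃ i ∈ I, a = c * i := by
      intro a ha
      obtain ⟨k, hk⟩ := hpodd
      have h1 : a = (a * a) ^ (k + 1) := by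
        rw [← sq, ← pow_mul]
        have h3 : 2 * (k + 1) = p + 1 := by omega
        rw [h3, pow_succ, hAp a ha, one_mul]
      have hta := hAn.conj_mem a ha t
      have h2 : a * a = (a * (t * a * t⁻¹)) * (a * (t * a * t⁻¹)⁻¹) := by
        have h3 := hAc a ha _ hta
        calc a * a = a * a * ((t * a * t⁻¹) * (t * a * t⁻¹)⁻¹) := by group
          _ = a * (a * (t * a * t⁻¹)) * (t * a * t⁻¹)⁻¹ := by group
          _ = a * (t * a * t⁻¹ * a) * (t * a * t⁻¹)⁻¹ := by rw [h3]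
          _ = _ := by group
      have hcm : Commute (a * (t * a * t⁻¹)) (a * (t * a * t⁻¹)⁻¹) := hAc _ (A.mul_mem ha hta) _ (A.mul_mem ha (A.inv_mem hta))
      refine ⟨_, C.pow_mem (hsum a ha) (k + 1), _, I.pow_mem (hdiff a ha) (k + 1), ?_⟩
      rw [← hcm.mul_pow, ← h2]; exact h1
    have hcomm : ∀ n m : N, n * m * (m * n)⁻¹ ∈ A := by
      intro n m
      rw [← hAself, mem_centralizer_iff]
      intro a ha
      obtain ⟨c, hc, i, hi, rfl⟩ := hprod a ha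
      have h1 := comm_act hC1 (hCn n⁻¹) (hCn m⁻¹) c hc
      have h2 := comm_act hI1 (hIn n⁻¹) (hIn m⁻¹) i hi
      -- conjugation of `c * i` by `n⁻¹ m⁻¹` and `m⁻¹ n⁻¹` agree
      have h3 : (n⁻¹ * m⁻¹) * (c * i) * (n⁻¹ * m⁻¹)⁻¹ = (m⁻¹ * n⁻¹) * (c * i) * (m⁻¹ * n⁻¹)⁻¹ := by
        calc (n⁻¹ * m⁻¹) * (c * i) * (n⁻¹ * m⁻¹)⁻¹ = ((n⁻¹ * m⁻¹) * c * (n⁻¹ * m⁻¹)⁻¹) * ((n⁻¹ * m⁻¹) * i * (n⁻¹ * m⁻¹)⁻¹) := by group
          _ = ((m⁻¹ * n⁻¹) * c * (m⁻¹ * n⁻¹)⁻¹) * ((m⁻¹ * n⁻¹) * i * (m⁻¹ * n⁻¹)⁻¹) := by rw [h1, h2]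
          _ = _ := by group
      calc c * i * (n * m * (m * n)⁻¹) = (n * m) * ((m⁻¹ * n⁻¹) * (c * i) * (m⁻¹ * n⁻¹)⁻¹) * (m * n)⁻¹ := by group
        _ = (n * m) * ((n⁻¹ * m⁻¹) * (c * i) * (n⁻¹ * m⁻¹)⁻¹) * (m * n)⁻¹ := by rw [h3]
        _ = (n * m * (m * n)⁻¹) * (c * i) := by group
    have hab : ∀ x y : Matrix.SpecialLinearGroup (Fin 2) F, x * y = y * x := by
      intro x y
      obtain ⟨n, hn⟩ := QuotientGroup.mk_surjective (e.symm x)
      obtain ⟨m, hm⟩ := QuotientGroup.mk_surjective (e.symm y)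
      apply e.symm.injective
      rw [map_mul, map_mul, ← hn, ← hm, ← QuotientGroup.mk_mul, ← QuotientGroup.mk_mul]
      have h1 := hcomm n m
      rw [← QuotientGroup.eq_one_iff, QuotientGroup.mk_mul, QuotientGroup.mk_inv, mul_inv_eq_one] at h1
      exact h1
    have h1 := hab ⟨!![1, 1; 0, 1], by simp [Matrix.det_fin_two]⟩ ⟨!![1, 0; 1, 1], by simp [Matrix.det_fin_two]⟩
    have h2 := congrArg (fun M : Matrix.SpecialLinearGroup (Fin 2) F => (M : Matrix (Fin 2) (Fin 2) F) 0 0) h1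
    change ((!![1, 1; 0, 1] * !![1, 0; 1, 1] : Matrix (Fin 2) (Fin 2) F)) 0 0 = ((!![1, 0; 1, 1] * !![1, 1; 0, 1] : Matrix (Fin 2) (Fin 2) F)) 0 0 at h2
    rw [Matrix.mul_apply, Matrix.mul_apply, Fin.sum_univ_two, Fin.sum_univ_two] at h2
    simp at h2
  have hinv : ∀ a ∈ A, t * a * t⁻¹ = a⁻¹ := by
    intro a ha
    have := hsum a ha
    rw [hCb, mem_bot] at this
    exact eq_inv_of_mul_eq_one_right this
  refine ⟨Subgroup.centralizer {t}, ?_, ?_⟩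
  · rw [eq_bot_iff]
    intro a ha
    have ha' := mem_inf.1 ha
    have h1 := mem_centralizer_singleton_iff.1 ha'.2
    have h2 := hinv a ha'.1
    rw [← h1, mul_inv_cancel_right] at h2
    rw [mem_bot]
    apply hodd a ha'.1
    nth_rewrite 1 [h2]; group
  · rw [eq_top_iff]
    intro n _
    obtain ⟨a₀, ha₀⟩ : ∃ a₀, a₀ = n * t * n⁻¹ * t⁻¹ := ⟨_, rfl⟩
    have ha₀A : a₀ ∈ A := by rw [ha₀]; exact htn n
    obtain ⟨k, hk⟩ := hpodd
    obtain ⟨b, hb⟩ : ∃ b, b = a₀ ^ (k + 1) := ⟨_, rfl⟩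
    have hbA : b ∈ A := by rw [hb]; exact A.pow_mem ha₀A _
    have hb2 : b * b = a₀ := by
      rw [hb, ← pow_add]
      have h3 : k + 1 + (k + 1) = p + 1 := by omega
      rw [h3, pow_succ, hAp a₀ ha₀A, one_mul]
    have h1 : n = b * (b⁻¹ * n) := by group
    rw [h1]
    refine mul_mem_sup hbA ?_
    rw [mem_centralizer_singleton_iff]
    have h2 : t * b * t⁻¹ = b⁻¹ := hinv b hbA
    have h3 : t * b = b⁻¹ * t := by rw [← h2]; group
    have h4 : n * t = a₀ * t * n := by rw [ha₀]; group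
    calc b⁻¹ * n * t = b⁻¹ * (n * t) := by group
      _ = b⁻¹ * (b * b * t * n) := by rw [h4, hb2]
      _ = b * t * n := by group
      _ = t * (b⁻¹ * n) := by
        have h5 : t * b⁻¹ = b * t := by
          have h6 : t * b⁻¹ * t⁻¹ = b := by
            have : t * b⁻¹ * t⁻¹ = (t * b * t⁻¹)⁻¹ := by group
            rw [this, h2, inv_inv]
          calc t * b⁻¹ = (t * b⁻¹ * t⁻¹) * t := by group
            _ = b * t := by rw [h6]
        rw [← mul_assoc, h5]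

end s3075

end CfsgLib.H6Ms
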