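import Mathlib
set_option autoImplicit false
set_option maxHeartbeats 400000

/-! Yoshida's theorem: recognising `C_p ≀ C_p` as a quotient. -/

namespace CfsgLib.H9Yo

open Subgroup

variable {p : ℕ} [hp : Fact p.Prime]

/-- the shift on functions on `ZMod p` -/
def shift (p : ℕ) : Module.End (ZMod p) (ZMod p → ZMod p) where
  toFun c := fun i => c (i - 1)
  map_add' _ _ := rfl
  map_smul' _ _ := rfl

theorem shift_pow (n : ℕ) (c : ZMod p → ZMod p) (i : ZMod p) : ((shift p) ^ n) c i = c (i - n) := by
  induction n generalizing i with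
  | zero => simp
  | succ n ih =>
    rw [pow_succ', Module.End.mul_apply]
    show ((shift p) ^ n) c (i - 1) = _
    rw [ih]
    congr 1
    push_cast
    ring

theorem nilp : (shift p - 1) ^ p = 0 := by
  haveI : CharP (Module.End (ZMod p) (ZMod p → ZMod p)) p :=
    charP_of_injective_algebraMap (algebraMap (ZMod p) (Module.End (ZMod p) (ZMod p → ZMod p))).injective p
  have h := sub_pow_char_of_commute (R := Module.End (ZMod p) (ZMod p → ZMod p)) (p := p) (x := shift p) (y := 1) (Commute.one_right _)
  rw [h, one_pow]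
  refine LinearMap.ext fun c => funext fun i => ?_
  show ((shift p) ^ p) c i - c i = 0
  rw [shift_pow, CharP.cast_eq_zero, sub_zero, sub_self]

/-- a shift-closed nonzero set of functionals contains a nonzero constant -/
theorem exists_const (C : Submodule (ZMod p) (ZMod p → ZMod p)) (hC : ∀ c ∈ C, shift p c ∈ C) (hne : C ≠ ⊥) :
    ∃ κ : ZMod p, κ ≠ 0 ∧ (fun _ => κ) ∈ C := by
  classical
  obtain ⟨c, hc, hc0⟩ := Submodule.exists_mem_ne_zero_of_ne_bot hne
  set D := shift p - 1 with hD
  have hDC : ∀ c ∈ C, D c ∈ C := fun c hc => C.sub_mem (hC c hc) hc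
  have hDn : ∀ n, (D ^ n) c ∈ C := by
    intro n
    induction n with
    | zero => exact hc
    | succ n ih => rw [pow_succ']; exact hDC _ ih
  have hex : ∃ n, (D ^ n) c = 0 := ⟨p, by rw [nilp]; rfl⟩
  obtain ⟨n, hn⟩ : ∃ n, Nat.find hex = n + 1 := by
    refine Nat.exists_eq_succ_of_ne_zero ?_
    intro h
    have := Nat.find_spec hex
    rw [h] at this
    exact hc0 this
  have h1 : (D ^ (n + 1)) c = 0 := by rw [← hn]; exact Nat.find_spec hex
  have h2 : (D ^ n) c ≠ 0 := Nat.find_min hex (by omega)
  set c' := (D ^ n) c with hc'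
  have h3 : ∀ i, c' (i - 1) = c' i := by
    intro i
    rw [pow_succ'] at h1
    have := congrFun h1 i
    have h4 : c' (i - 1) - c' i = 0 := this
    exact sub_eq_zero.mp h4
  have h4 : ∀ n : ℕ, c' (n : ZMod p) = c' 0 := by
    intro n
    induction n with
    | zero => simp
    | succ n ih => rw [← ih, ← h3]; congr 1; push_cast; ring
  have h5 : c' = fun _ => c' 0 := by
    funext i
    rw [← h4 i.val, ZMod.natCast_zmod_val]
  refine ⟨c' 0, ?_, ?_⟩
  · intro h
    apply h2
    rw [h5, h]; rfl
  · rw [← h5]; exact hDn n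

/-- a shift-invariant additive subgroup of `F_p^p` containing a vector of nonzero sum is everything -/
theorem eq_top_of_sum (M : Submodule (ZMod p) (ZMod p → ZMod p)) (hM : ∀ v ∈ M, (fun i => v (i + 1)) ∈ M) {v : ZMod p → ZMod p}
    (hv : v ∈ M) (hs : ∑ i, v i ≠ 0) : M = ⊤ := by
  classical
  by_contra hne
  obtain ⟨f, hf0, hfM⟩ := Submodule.exists_le_ker_of_lt_top M (lt_top_iff_ne_top.mpr hne)
  let C : Submodule (ZMod p) (ZMod p → ZMod p) :=
    { carrier := {c | ∀ v ∈ M, ∑ i, v i * c i = 0}
      add_mem' := by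
        intro a b ha hb v hv
        simp only [Pi.add_apply, mul_add, Finset.sum_add_distrib]
        rw [ha v hv, hb v hv, add_zero]
      zero_mem' := by intro v _; simp
      smul_mem' := by
        intro k a ha v hv
        have : ∑ i, v i * (k • a) i = k * ∑ i, v i * a i := by
          rw [Finset.mul_sum]
          apply Finset.sum_congr rfl
          intro i _
          simp only [Pi.smul_apply, smul_eq_mul]; ring
        rw [this, ha v hv, mul_zero] }
  have hC : ∀ c ∈ C, shift p c ∈ C := by
    intro c hc v hv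
    have h1 := hc _ (hM v hv)
    rw [← h1]
    show ∑ i, v i * c (i - 1) = ∑ i, v (i + 1) * c i
    rw [← Equiv.sum_comp (Equiv.addRight (1 : ZMod p)) (fun i => v i * c (i - 1))]
    apply Finset.sum_congr rfl
    intro i _
    simp
  have hCne : C ≠ ⊥ := by
    intro hb
    apply hf0
    have h1 : (fun i => f (fun j => if i = j then 1 else 0)) ∈ C := by
      intro v hv
      have := hfM hv
      rw [LinearMap.mem_ker, LinearMap.pi_apply_eq_sum_univ] at this
      simpa using this
    rw [hb, Submodule.mem_bot] at h1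
    refine LinearMap.ext fun v => ?_
    rw [LinearMap.pi_apply_eq_sum_univ]
    have h2 : ∀ i, f (fun j => if i = j then 1 else 0) = 0 := fun i => congrFun h1 i
    simp [h2]
  obtain ⟨κ, hκ, hκC⟩ := exists_const C hC hCne
  have h1 := hκC v hv
  have h2 : (∑ i, v i) * κ = 0 := by rw [Finset.sum_mul]; exact h1
  rcases mul_eq_zero.mp h2 with h | h
  · exact hs h
  · exact hκ h

section core

variable {S : Type*} [Group S] [Finite S]

/-- The homomorphism to the base group. -/
theorem ker_index (R : Subgroup S) (hRn : R.Normal) (hR : R.index = p) (lam : R →* Multiplicative (ZMod p))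
    (u : S) (x : R)
    (hne : ∏ i ∈ Finset.range p, lam ⟨(u ^ i)⁻¹ * x * u ^ i, by simpa using hRn.conj_mem x.1 x.2 (u ^ i)⁻¹⟩ ≠ 1) :
    ∃ v : R →* Multiplicative (ZMod p → ZMod p), Function.Surjective v ∧
      ∀ r : R, (∀ i : ℕ, lam ⟨(u ^ i)⁻¹ * r * u ^ i, by simpa using hRn.conj_mem r.1 r.2 (u ^ i)⁻¹⟩ = 1) → v r = 1 := by
  classical
  let c : ℕ → R →* R := fun i =>
    { toFun := fun r => ⟨(u ^ i)⁻¹ * r * u ^ i, by simpa using hRn.conj_mem r.1 r.2 (u ^ i)⁻¹⟩
      map_one' := Subtype.ext (by simp)
      map_mul' := fun a b => Subtype.ext (by simp [mul_assoc]) }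
  have hc : ∀ i r, (c i r : S) = (u ^ i)⁻¹ * r * u ^ i := fun i r => rfl
  have hcc : ∀ i j r, c i (c j r) = c (j + i) r := by
    intro i j r
    apply Subtype.ext
    rw [hc, hc, hc, pow_add]
    group
  have hup : u ^ p ∈ R := by
    haveI := hRn
    rw [← hR]; exact Subgroup.pow_index_mem R u
  have hper : ∀ r, lam (c p r) = lam r := by
    intro r
    have : c p r = ⟨u ^ p, hup⟩⁻¹ * r * ⟨u ^ p, hup⟩ := Subtype.ext rfl
    rw [this, map_mul, map_mul, map_inv]
    rw [mul_comm, ← mul_assoc, mul_inv_cancel, one_mul]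
  have hper2 : ∀ (m : ℕ) r, lam (c (m % p) r) = lam (c m r) := by
    intro m r
    have key : ∀ (q : ℕ) r, lam (c (q * p) r) = lam r := by
      intro q
      induction q with
      | zero => intro r; congr 1; exact Subtype.ext (by simp [hc])
      | succ q ih =>
        intro r
        rw [Nat.succ_mul, ← hcc, hper, ih]
    conv_rhs => rw [← Nat.mod_add_div m p, mul_comm p, ← hcc, key]
  let v : R →* Multiplicative (ZMod p → ZMod p) :=
    { toFun := fun r => Multiplicative.ofAdd (fun i : ZMod p => Multiplicative.toAdd (lam (c i.val r)))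
      map_one' := by
        apply Multiplicative.toAdd.injective
        funext i
        simp
      map_mul' := by
        intro a b
        apply Multiplicative.toAdd.injective
        funext i
        simp }
  have hv : ∀ r i, Multiplicative.toAdd (v r) i = Multiplicative.toAdd (lam (c i.val r)) := fun r i => rfl
  refine ⟨v, ?_, ?_⟩
  swap
  · intro r hr
    apply Multiplicative.toAdd.injective
    funext i
    rw [hv]
    have : lam (c i.val r) = 1 := hr i.val
    rw [this]; rfl
  · let M₀ : AddSubgroup (ZMod p → ZMod p) :=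
      { carrier := {w | ∃ r, Multiplicative.toAdd (v r) = w}
        add_mem' := by
          rintro _ _ ⟨a, rfl⟩ ⟨b, rfl⟩
          exact ⟨a * b, by rw [map_mul]; rfl⟩
        zero_mem' := ⟨1, by rw [map_one]; rfl⟩
        neg_mem' := by
          rintro _ ⟨a, rfl⟩
          exact ⟨a⁻¹, by rw [map_inv]; rfl⟩ }
    let M : Submodule (ZMod p) (ZMod p → ZMod p) := AddSubgroup.toZModSubmodule p M₀
    have hmem : ∀ w, w ∈ M ↔ ∃ r, Multiplicative.toAdd (v r) = w := fun w => Iff.rfl
    have htop : M = ⊤ := by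
      refine eq_top_of_sum M ?_ ((hmem _).mpr ⟨x, rfl⟩) ?_
      · intro w hw
        obtain ⟨r, rfl⟩ := (hmem _).mp hw
        refine (hmem _).mpr ⟨c 1 r, ?_⟩
        funext i
        rw [hv, hv, hcc]
        have h1 : (i + 1 : ZMod p).val = (i.val + 1) % p := by
          haveI : Fact (1 < p) := ⟨hp.out.one_lt⟩
          rw [ZMod.val_add, ZMod.val_one]
        rw [h1, hper2, add_comm 1]
      · intro h0
        apply hne
        apply Multiplicative.toAdd.injective
        rw [toAdd_prod, toAdd_one]
        have h2 : ∑ i : ZMod p, Multiplicative.toAdd (v x) i = ∑ i ∈ Finset.range p, Multiplicative.toAdd (lam (c i x)) := by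
          rw [Finset.sum_range]
          have e := (ZMod.finEquiv p).toEquiv
          rw [← Equiv.sum_comp (ZMod.finEquiv p).toEquiv]
          apply Finset.sum_congr rfl
          intro i _
          rw [hv]
          congr 3
          obtain ⟨n, rfl⟩ := Nat.exists_eq_succ_of_ne_zero hp.out.ne_zero
          rfl
        exact h2.symm.trans h0
    intro w
    have h1 : Multiplicative.toAdd w ∈ M := by rw [htop]; trivial
    obtain ⟨r, hr⟩ := (hmem _).mp h1
    exact ⟨r, Multiplicative.toAdd.injective hr⟩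

theorem fact_val : ((p ^ 2).factorial).factorization p = p + 1 := by
  have h := sub_one_mul_padicValNat_factorial (p := p) (p ^ 2)
  have h1 : (p.digits (p ^ 2)).sum = 1 := by
    have := Nat.digits_base_pow_mul (b := p) (k := 2) (m := 1) hp.out.one_lt one_pos
    rw [mul_one] at this
    rw [this, List.sum_append, List.sum_replicate, Nat.digits_of_lt p 1 one_ne_zero hp.out.one_lt]
    simp
  rw [h1] at h
  rw [Nat.factorization_def _ hp.out]
  have h2 : p ^ 2 - 1 = (p - 1) * (p + 1) := by
    obtain ⟨q, rfl⟩ := Nat.exists_eq_succ_of_ne_zero hp.out.ne_zero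
    simp only [Nat.succ_eq_add_one, Nat.add_sub_cancel]
    have : (q + 1) ^ 2 = q * (q + 1 + 1) + 1 := by ring
    rw [this, Nat.add_sub_cancel]
  rw [h2] at h
  exact Nat.eq_of_mul_eq_mul_left (Nat.sub_pos_of_lt hp.out.one_lt) h

/-- a quotient isomorphic to a Sylow subgroup of the symmetric group of degree `p²` -/
theorem exists_surj (hS : IsPGroup p S) (R : Subgroup S) (hRn : R.Normal) (hR : R.index = p) (lam : R →* Multiplicative (ZMod p))
    (u : S) (x : R)
    (hne : ∏ i ∈ Finset.range p, lam ⟨(u ^ i)⁻¹ * x * u ^ i, by simpa using hRn.conj_mem x.1 x.2 (u ^ i)⁻¹⟩ ≠ 1) :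
    ∃ (W : Sylow p (Equiv.Perm (Fin (p ^ 2)))) (f : S →* ↥(W : Subgroup (Equiv.Perm (Fin (p ^ 2))))), Function.Surjective f := by
  classical
  obtain ⟨v, hvs, hv⟩ := ker_index R hRn hR lam u x hne
  have hkv : v.ker.index = p ^ p := by
    rw [Subgroup.index_ker, MonoidHom.range_eq_top.mpr hvs, Subgroup.card_top]
    rw [Nat.card_congr Multiplicative.toAdd]
    rw [Nat.card_fun, Nat.card_zmod]
  -- lam is surjective
  have hlam : lam.ker.index = p := by
    rw [Subgroup.index_ker]
    have h1 : Nat.card lam.range ∣ p := by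
      have := Subgroup.card_subgroup_dvd_card lam.range
      rwa [Nat.card_congr Multiplicative.toAdd, Nat.card_zmod] at this
    rcases (Nat.dvd_prime hp.out).mp h1 with h2 | h2
    · exfalso
      apply hne
      apply Finset.prod_eq_one
      intro i _
      have h3 : lam.range = ⊥ := Subgroup.card_eq_one.mp h2
      have h4 : lam ⟨(u ^ i)⁻¹ * x * u ^ i, by simpa using hRn.conj_mem x.1 x.2 (u ^ i)⁻¹⟩ ∈ lam.range := ⟨_, rfl⟩
      rw [h3] at h4
      exact h4
    · exact h2
  set L : Subgroup S := lam.ker.map R.subtype with hL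
  have hLidx : L.index = p ^ 2 := by
    rw [hL, Subgroup.index_map_subtype, hlam, hR, pow_two]
  have hcore : L.normalCore ≤ v.ker.map R.subtype := by
    intro k hk
    have hkL : ∀ i : ℕ, (u ^ i)⁻¹ * k * u ^ i ∈ L := fun i => by
      have h1 := (inferInstance : L.normalCore.Normal).conj_mem k hk (u ^ i)⁻¹
      rw [inv_inv] at h1
      exact L.normalCore_le h1
    have hkR : k ∈ R := by
      have h2 := hkL 0
      rw [pow_zero, inv_one, one_mul, mul_one] at h2
      exact map_subtype_le _ h2
    refine ⟨⟨k, hkR⟩, ?_, rfl⟩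
    refine hv _ fun i => ?_
    obtain ⟨y, hy, hyk⟩ := hkL i
    have : y = ⟨(u ^ i)⁻¹ * k * u ^ i, by simpa using hRn.conj_mem k hkR (u ^ i)⁻¹⟩ := Subtype.ext hyk
    rw [← this]
    exact hy
  have hidx : p ^ (p + 1) ∣ L.normalCore.index := by
    have h1 := Subgroup.index_dvd_of_le hcore
    rw [Subgroup.index_map_subtype, hkv, hR] at h1
    rwa [pow_succ]
  have hfin : Nat.card (S ⧸ L) = p ^ 2 := hLidx
  have e : (S ⧸ L) ≃ Fin (p ^ 2) := Finite.equivFinOfCardEq hfin
  let f₁ : S →* Equiv.Perm (Fin (p ^ 2)) := (e.permCongrHom).toMonoidHom.comp (MulAction.toPermHom S (S ⧸ L))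
  have hker : f₁.ker = L.normalCore := by
    rw [Subgroup.normalCore_eq_ker]
    ext s
    rw [MonoidHom.mem_ker, MonoidHom.mem_ker]
    show e.permCongrHom _ = 1 ↔ _
    rw [map_eq_one_iff _ (MulEquiv.injective _)]
  have hcard : p ^ (p + 1) ∣ Nat.card f₁.range := by
    rw [← Subgroup.index_ker, hker]; exact hidx
  have hpg : IsPGroup p f₁.range := hS.of_surjective f₁.rangeRestrict f₁.rangeRestrict_surjective
  obtain ⟨k, hk⟩ := (IsPGroup.iff_card (p := p)).mp hpg
  have hperm : Nat.card (Equiv.Perm (Fin (p ^ 2))) = (p ^ 2).factorial := by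
    rw [Nat.card_eq_fintype_card, Fintype.card_perm, Fintype.card_fin]
  have hk1 : k = p + 1 := by
    apply le_antisymm
    · have h1 : p ^ k ∣ (p ^ 2).factorial := by
        rw [← hk, ← hperm]; exact Subgroup.card_subgroup_dvd_card _
      have h2 := (hp.out.pow_dvd_iff_le_factorization (Nat.factorial_ne_zero _)).mp h1
      rwa [fact_val] at h2
    · rw [hk] at hcard
      exact (Nat.pow_dvd_pow_iff_le_right hp.out.one_lt).mp hcard
  refine ⟨Sylow.ofCard f₁.range ?_, f₁.rangeRestrict, f₁.rangeRestrict_surjective⟩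
  rw [hk, hk1, hperm, fact_val]

end core

end CfsgLib.H9Yo
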