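import Mathlib
import Cfsg.Agent.Lib.PGrp
set_option autoImplicit false
set_option maxHeartbeats 400000

/-! Yoshida's theorem: the transfer computation. -/

namespace CfsgLib.H9Yo

open Subgroup MulAction

section cocycle

variable {S : Type*} [Group S] {Y : Type*} [MulAction S Y] {A : Type*} [CommGroup A] {W : S → Y → A}

theorem W_one (hW : ∀ a b y, W (a * b) y = W a (b • y) * W b y) (y : Y) : W 1 y = 1 := by
  have h := hW 1 1 y
  rw [mul_one, one_smul] at h
  exact mul_left_cancel (a := W 1 y) (by rw [← h, mul_one])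

theorem cyc (hW : ∀ a b y, W (a * b) y = W a (b • y) * W b y) (x : S) (B : Finset Y)
    (hB : ∀ y ∈ B, ∀ s ∈ zpowers x, s • y ∈ B) (h : ∀ y ∈ B, ∀ s ∈ zpowers x, s • y = y → W s y = 1) :
    ∏ y ∈ B, W x y = 1 := by
  classical
  let rep : Y → Y := fun y => Quotient.out (Quotient.mk (orbitRel (zpowers x) Y) y)
  have hrep : ∀ y, ∃ s : S, s ∈ zpowers x ∧ s • rep y = y := by
    intro y
    have h1 : Quotient.mk (orbitRel (zpowers x) Y) (rep y) = Quotient.mk (orbitRel (zpowers x) Y) y := Quotient.out_eq _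
    have h2 := Quotient.exact h1
    have h3 := (orbitRel (zpowers x) Y).symm h2
    obtain ⟨s, hs⟩ := h3
    exact ⟨s.1, s.2, hs⟩
  choose z hz1 hz2 using hrep
  have hrx : ∀ y, rep (x • y) = rep y := by
    intro y
    have : Quotient.mk (orbitRel (zpowers x) Y) (x • y) = Quotient.mk (orbitRel (zpowers x) Y) y :=
      Quotient.sound ⟨⟨x, mem_zpowers x⟩, rfl⟩
    show Quotient.out (Quotient.mk (orbitRel (zpowers x) Y) (x • y)) = _
    rw [this]
  let k : Y → A := fun y => W (z y) (rep y)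
  have hk : ∀ y ∈ B, k (x • y) = W x y * k y := by
    intro y hy
    have hrB : rep y ∈ B := by
      have := hB y hy (z y)⁻¹ ((zpowers x).inv_mem (hz1 y))
      rwa [inv_smul_eq_iff.mpr (hz2 y).symm] at this
    have h1 : z (x • y) • rep y = x • y := by
      have := hz2 (x • y)
      rwa [hrx] at this
    set s := (z (x • y))⁻¹ * (x * z y) with hs
    have hsm : s ∈ zpowers x := (zpowers x).mul_mem ((zpowers x).inv_mem (hz1 _)) ((zpowers x).mul_mem (mem_zpowers x) (hz1 _))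
    have hsr : s • rep y = rep y := by
      rw [hs, mul_smul, mul_smul, hz2, inv_smul_eq_iff, h1]
    have h2 := h (rep y) hrB s hsm hsr
    have h3 : x * z y = z (x • y) * s := by rw [hs]; group
    show W (z (x • y)) (rep (x • y)) = W x y * W (z y) (rep y)
    rw [hrx]
    have h4 := hW (z (x • y)) s (rep y)
    rw [← h3, hsr, h2, mul_one] at h4
    rw [← h4, hW, hz2]
  have h5 : ∏ y ∈ B, k (x • y) = ∏ y ∈ B, k y := by
    refine Finset.prod_bij (fun y _ => x • y) (fun y hy => hB y hy x (mem_zpowers x)) (fun a _ b _ hab => smul_left_cancel x hab) ?_ (fun _ _ => rfl)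
    intro b hb
    exact ⟨x⁻¹ • b, hB b hb x⁻¹ ((zpowers x).inv_mem (mem_zpowers x)), smul_inv_smul x b⟩
  rw [Finset.prod_congr rfl hk, Finset.prod_mul_distrib] at h5
  exact mul_right_cancel (b := ∏ y ∈ B, k y) (by rw [h5, one_mul])

end cocycle

section tp

variable {p : ℕ} [hp : Fact p.Prime] {S : Type*} [Group S] [Finite S] {Y : Type*} [MulAction S Y] [Fintype Y]
  {A : Type*} [CommGroup A] {W : S → Y → A}

/-- some nontrivial orbit has nontrivial transfer value -/
theorem exists_orbit (hS : IsPGroup p S) (hY : ¬ p ∣ Fintype.card Y) (hA : ∀ a : A, a ^ p = 1)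
    (x : S) (h1 : ∏ y, W x y = 1) (t : A) (ht : t ≠ 1)
    (h2 : ∀ y, (∀ a : S, a • y = y) → W x y = t) :
    ∃ y₀ : Y, (∃ a : S, a • y₀ ≠ y₀) ∧ ∃ B : Finset Y, (∀ y, y ∈ B ↔ y ∈ orbit S y₀) ∧ ∏ y ∈ B, W x y ≠ 1 := by
  classical
  by_contra hno
  push Not at hno
  let π : Y → orbitRel.Quotient S Y := fun y => Quotient.mk _ y
  let Fx : Finset Y := Finset.univ.filter (fun y => ∀ a : S, a • y = y)
  have hsplit := Finset.prod_mul_prod_compl Fx (fun y => W x y)
  have hc : ∏ y ∈ Fxᶜ, W x y = 1 := by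
    rw [← Finset.prod_fiberwise_of_maps_to (g := π) (t := Finset.univ) (fun _ _ => Finset.mem_univ _)]
    apply Finset.prod_eq_one
    intro ω _
    by_cases hne : ∃ y ∈ Fxᶜ, π y = ω
    · obtain ⟨y₀, hy₀, hω⟩ := hne
      have hnf : ∃ a : S, a • y₀ ≠ y₀ := by
        simpa [Fx] using hy₀
      refine hno y₀ hnf _ ?_
      intro y
      rw [Finset.mem_filter, Finset.mem_compl]
      constructor
      · rintro ⟨-, hy⟩
        rw [← hω] at hy
        exact Quotient.exact hy
      · intro hy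
        have hπ : π y = π y₀ := Quotient.sound hy
        refine ⟨?_, by rw [hπ, hω]⟩
        intro hyF
        have hyF' : ∀ a : S, a • y = y := by simpa [Fx] using hyF
        obtain ⟨b, rfl⟩ := hy
        obtain ⟨a, ha⟩ := hnf
        apply ha
        have h3 := hyF' b⁻¹
        simp only [inv_smul_smul] at h3
        have h4 : a • (b • y₀) = b • y₀ := hyF' a
        have h3' : b • y₀ = y₀ := h3.symm
        rw [h3'] at h4
        exact h4
    · apply Finset.prod_eq_one
      intro y hy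
      exfalso
      rw [Finset.mem_filter] at hy
      exact hne ⟨y, hy.1, hy.2⟩
  have hf : ∏ y ∈ Fx, W x y = t ^ Fx.card := by
    rw [Finset.prod_congr rfl (g := fun _ => t), Finset.prod_const]
    intro y hy
    exact h2 y (by simpa [Fx] using hy)
  have hcard : Fx.card = Nat.card (fixedPoints S Y) := by
    rw [Nat.card_eq_fintype_card, Fintype.card_subtype]
    congr 1
  have hmod : Fintype.card Y ≡ Nat.card (fixedPoints S Y) [MOD p] := by
    have := hS.card_modEq_card_fixedPoints Y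
    rwa [Nat.card_eq_fintype_card] at this
  rw [h1, hf, hc, mul_one, hcard] at hsplit
  have hnd : ¬ p ∣ Nat.card (fixedPoints S Y) := by
    intro hd
    exact hY ((Nat.modEq_zero_iff_dvd.mp (hmod.trans (Nat.modEq_zero_iff_dvd.mpr hd))))
  have hord : orderOf t ∣ p := orderOf_dvd_of_pow_eq_one (hA t)
  rcases (Nat.dvd_prime hp.out).mp hord with h3 | h3
  · exact ht (orderOf_eq_one_iff.mp h3)
  · apply hnd
    rw [← h3]
    exact orderOf_dvd_of_pow_eq_one hsplit

/-- the transfer computation -/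
theorem tp (hS : IsPGroup p S) (hY : ¬ p ∣ Fintype.card Y) (hA : ∀ a : A, a ^ p = 1)
    (hW : ∀ a b y, W (a * b) y = W a (b • y) * W b y)
    (x : S) (h1 : ∏ y, W x y = 1) (t : A) (ht : t ≠ 1)
    (h2 : ∀ y, (∀ a : S, a • y = y) → W x y = t)
    (h3 : ∀ y, x • y ≠ y → ∀ s ∈ zpowers x, s • y = y → W s y = 1) :
    ∃ (R : Subgroup S) (hRn : R.Normal) (_ : R.index = p) (lam : R →* A) (u : S) (x' : R), (x' : S) = x ∧
      ∏ i ∈ Finset.range p, lam ⟨(u ^ i)⁻¹ * x' * u ^ i, by simpa using hRn.conj_mem x'.1 x'.2 (u ^ i)⁻¹⟩ ≠ 1 := by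
  classical
  obtain ⟨y₁, ⟨a₁, ha₁⟩, O, hO, hne⟩ := exists_orbit hS hY hA x h1 t ht h2
  -- `x` fixes a point of the orbit
  obtain ⟨y₀, hy₀O, hxy₀⟩ : ∃ y₀ ∈ O, x • y₀ = y₀ := by
    by_contra hno
    push Not at hno
    apply hne
    refine cyc hW x O ?_ ?_
    · intro y hy s _
      rw [hO] at hy ⊢
      exact (mem_orbit_of_mem_orbit s hy)
    · intro y hy s hs hsy
      exact h3 y (hno y hy) s hs hsy
  have horb : orbit S y₀ = orbit S y₁ := orbit_eq_iff.mpr ((hO _).mp hy₀O)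
  set P := stabilizer S y₀ with hP
  have hPtop : P ≠ ⊤ := by
    intro htop
    have h4 : ∀ a : S, a • y₀ = y₀ := fun a => by
      have : a ∈ P := by rw [htop]; trivial
      exact this
    have h5 : y₁ ∈ orbit S y₀ := by rw [horb]; exact mem_orbit_self y₁
    obtain ⟨b, hb⟩ := h5
    have h6 : y₁ = y₀ := by rw [← hb]; exact h4 b
    rw [h6] at ha₁
    exact ha₁ (h4 a₁)
  obtain ⟨R, hRc, hPR⟩ := (eq_top_or_exists_le_coatom P).resolve_left hPtop
  have hnil : Group.IsNilpotent S := hS.isNilpotent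
  haveI hRn : R.Normal := NormalizerCondition.normal_of_coatom R normalizerCondition_of_isNilpotent hRc
  have hRi : R.index = p := CfsgLib.PGrp.index_of_coatom hS hRc
  obtain ⟨u, hu⟩ : ∃ u : S, u ∉ R := by
    by_contra hno
    push Not at hno
    exact hRc.1 (eq_top_iff.mpr fun s _ => hno s)
  -- block
  let B : Finset Y := Finset.univ.filter (fun y => ∃ r ∈ R, r • y₀ = y)
  have hB : ∀ y, y ∈ B ↔ ∃ r ∈ R, r • y₀ = y := fun y => by simp [B]
  have hperm : ∀ r ∈ R, ∀ F : Y → A, ∏ y ∈ B, F (r • y) = ∏ y ∈ B, F y := by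
    intro r hr F
    refine Finset.prod_bij (fun y _ => r • y) ?_ (fun a _ b _ hab => smul_left_cancel r hab) ?_ (fun _ _ => rfl)
    · intro y hy
      obtain ⟨s, hs, rfl⟩ := (hB y).mp hy
      exact (hB _).mpr ⟨r * s, R.mul_mem hr hs, mul_smul _ _ _⟩
    · intro y hy
      obtain ⟨s, hs, rfl⟩ := (hB y).mp hy
      exact ⟨(r⁻¹ * s) • y₀, (hB _).mpr ⟨r⁻¹ * s, R.mul_mem (R.inv_mem hr) hs, rfl⟩, by rw [← mul_smul, mul_inv_cancel_left]⟩
  let lam : R →* A :=
    { toFun := fun r => ∏ y ∈ B, W r y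
      map_one' := Finset.prod_eq_one fun y _ => W_one hW y
      map_mul' := by
        intro a b
        show ∏ y ∈ B, W ((a : S) * b) y = _
        rw [Finset.prod_congr rfl (fun y _ => hW a b y), Finset.prod_mul_distrib]
        congr 1
        exact hperm b b.2 (fun y => W a y) }
  have hlam : ∀ r : R, lam r = ∏ y ∈ B, W r y := fun r => rfl
  have hxR : x ∈ R := hPR hxy₀
  refine ⟨R, hRn, hRi, lam, u, ⟨x, hxR⟩, rfl, ?_⟩
  intro hprod
  apply hne
  rw [← hprod]
  -- split the orbit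
  have hcardQ : Nat.card (S ⧸ R) = p := hRi
  have hubar : orderOf (u : S ⧸ R) = p := by
    have h4 := _root_.orderOf_dvd_natCard (u : S ⧸ R)
    rw [hcardQ] at h4
    rcases (Nat.dvd_prime hp.out).mp h4 with h5 | h5
    · exact absurd ((QuotientGroup.eq_one_iff u).mp (orderOf_eq_one_iff.mp h5)) hu
    · exact h5
  have hpow : ∀ i j : ℕ, i < p → j < p → (u ^ i)⁻¹ * u ^ j ∈ R → i = j := by
    intro i j hi hj h4
    have h5 : (u : S ⧸ R) ^ i = (u : S ⧸ R) ^ j := by
      rw [← QuotientGroup.mk_pow, ← QuotientGroup.mk_pow]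
      exact QuotientGroup.eq.mpr h4
    exact pow_injOn_Iio_orderOf (by rw [hubar]; exact hi) (by rw [hubar]; exact hj) h5
  have hcov : ∀ g : S, ∃ i < p, ∃ r ∈ R, g = u ^ i * r := by
    intro g
    have h4 : (g : S ⧸ R) ∈ zpowers (u : S ⧸ R) := by
      refine mem_zpowers_of_prime_card hcardQ ?_
      intro h5
      exact hu ((QuotientGroup.eq_one_iff u).mp h5)
    have h5 := mem_powers_iff_mem_zpowers.mpr h4
    rw [mem_powers_iff_mem_range_orderOf, hubar] at h5
    obtain ⟨i, hi, hig⟩ := Finset.mem_image.mp h5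
    refine ⟨i, Finset.mem_range.mp hi, (u ^ i)⁻¹ * g, ?_, (mul_inv_cancel_left _ _).symm⟩
    apply QuotientGroup.eq.mp
    rw [QuotientGroup.mk_pow]
    exact hig
  have e1 : ∏ y ∈ O, W x y = ∏ q ∈ Finset.range p ×ˢ B, W x (u ^ q.1 • q.2) := by
    symm
    refine Finset.prod_bij (fun q _ => u ^ q.1 • q.2) ?_ ?_ ?_ (fun _ _ => rfl)
    · rintro ⟨i, y⟩ hq
      obtain ⟨hi, hy⟩ := Finset.mem_product.mp hq
      obtain ⟨r, hr, hry⟩ := (hB y).mp hy
      rw [hO, ← horb]
      have hry' : r • y₀ = y := hry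
      show u ^ i • y ∈ orbit S y₀
      rw [← hry', ← mul_smul]
      exact ⟨_, rfl⟩
    · rintro ⟨i, y⟩ hq ⟨j, y'⟩ hq' heq
      obtain ⟨hi, hy⟩ := Finset.mem_product.mp hq
      obtain ⟨hj, hy'⟩ := Finset.mem_product.mp hq'
      obtain ⟨r, hr, hry⟩ := (hB y).mp hy
      obtain ⟨r', hr', hry'⟩ := (hB y').mp hy'
      have heq' : u ^ i • y = u ^ j • y' := heq
      have hry1 : r • y₀ = y := hry
      have hry2 : r' • y₀ = y' := hry'
      rw [← hry1, ← hry2, ← mul_smul, ← mul_smul] at heq'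
      have h4 : (u ^ i * r)⁻¹ * (u ^ j * r') ∈ P := by
        show ((u ^ i * r)⁻¹ * (u ^ j * r')) • y₀ = y₀
        rw [mul_smul, ← heq', inv_smul_smul]
      have h5 := hPR h4
      have h6 : (u ^ i)⁻¹ * u ^ j ∈ R := by
        have h7 := R.mul_mem (R.mul_mem hr h5) (R.inv_mem hr')
        have e : r * ((u ^ i * r)⁻¹ * (u ^ j * r')) * r'⁻¹ = (u ^ i)⁻¹ * u ^ j := by group
        rwa [e] at h7
      have h7 : i = j := hpow i j (Finset.mem_range.mp hi) (Finset.mem_range.mp hj) h6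
      subst h7
      have h8 : y = y' := smul_left_cancel (u ^ i) heq
      rw [h8]
    · intro y hy
      rw [hO, ← horb] at hy
      obtain ⟨g, rfl⟩ := hy
      obtain ⟨i, hi, r, hr, rfl⟩ := hcov g
      exact ⟨⟨i, r • y₀⟩, Finset.mem_product.mpr ⟨Finset.mem_range.mpr hi, (hB _).mpr ⟨r, hr, rfl⟩⟩, (mul_smul _ _ _).symm⟩
  rw [e1, Finset.prod_product]
  apply Finset.prod_congr rfl
  intro i _
  rw [hlam]
  set x' := (u ^ i)⁻¹ * x * u ^ i with hx'
  have hx'R : x' ∈ R := by
    have := hRn.conj_mem x hxR (u ^ i)⁻¹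
    rwa [inv_inv] at this
  have e2 : ∀ y, W x (u ^ i • y) * W (u ^ i) y = W (u ^ i) (x' • y) * W x' y := by
    intro y
    rw [← hW, ← hW]
    congr 1
    rw [hx']; group
  have e3 : ∏ y ∈ B, (W x (u ^ i • y) * W (u ^ i) y) = ∏ y ∈ B, (W (u ^ i) (x' • y) * W x' y) :=
    Finset.prod_congr rfl fun y _ => e2 y
  rw [Finset.prod_mul_distrib, Finset.prod_mul_distrib, hperm x' hx'R (fun y => W (u ^ i) y), mul_comm] at e3
  exact mul_left_cancel e3

end tp

end CfsgLib.H9Yo
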