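import Mathlib
import Cfsg.Agent.Lib.BSetTate
import Cfsg.Agent.Lib.PGrp
import Cfsg.Agent.Lib.FusionCore
import Cfsg.Agent.Lib.H9Yo
import Cfsg.Agent.Lib.H9Yo2
set_option autoImplicit false
set_option maxHeartbeats 400000

/-! Yoshida's theorem for saturated fusion systems. -/

namespace CfsgLib.H9Yo

open MulAction Cfsg Cfsg.FusionSystem CfsgLib.Fusion CfsgLib.BSet

universe u

variable {Ω : Type u} [Group Ω] {S : Subgroup Ω} {F : FusionSystem S}

/-- left action on the right orbits -/
@[reducible] def leftAct {X : Type*} [MulAction S X] {l : Ω → Equiv.Perm X} (h : Bis F X l) :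
    MulAction S (orbitRel.Quotient S X) where
  smul a y := Quotient.map (l a) (by
    rintro x x' ⟨b, hb⟩
    refine ⟨b, ?_⟩
    have hb' : b • x' = x := hb
    show b • l a x' = l a x
    rw [← h.l_comm a a.2, hb']) y
  one_smul y := by
    induction y using Quotient.inductionOn with
    | h x =>
    show Quotient.mk _ (l (1 : S) x) = Quotient.mk _ x
    congr 1
    exact h.l_one x
  mul_smul a b y := by
    induction y using Quotient.inductionOn with
    | h x =>
    show Quotient.mk _ (l ((a * b : S) : Ω) x) = Quotient.mk _ (l a (l b x))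
    congr 1
    exact h.l_mul a a.2 b b.2 x

theorem yoshida_core [Finite S] {p : ℕ} [hp : Fact p.Prime] (hS : IsPGroup p S) (hF : F.IsSaturated p)
    (θ : S →* Multiplicative (ZMod p))
    (hθ : ∀ g, FMap F S g → ∀ a (ha : a ∈ S) (hga : g a ∈ S), θ ⟨g a, hga⟩ = θ ⟨a, ha⟩)
    (x₀ : S) (hx₀ : (x₀ : Ω) ∈ F.focalSubgroup) (hne : θ x₀ ≠ 1) :
    ∃ (W : Sylow p (Equiv.Perm (Fin (p ^ 2)))) (f : ↥S →* ↥(W : Subgroup (Equiv.Perm (Fin (p ^ 2))))), Function.Surjective f := by
  classical
  -- choose `x` of minimal order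
  obtain ⟨x, ⟨hxf, hxθ⟩, hmin⟩ := Set.exists_min_image {x : S | (x : Ω) ∈ F.focalSubgroup ∧ θ x ≠ 1} (fun x => orderOf x)
    (Set.toFinite _) ⟨x₀, hx₀, hne⟩
  obtain ⟨X, hXf, A', l, n, hl, hn1, hn2⟩ := exists_bis hS hF
  have : Finite (orbitRel.Quotient S X) := Quotient.finite _
  letI := Fintype.ofFinite (orbitRel.Quotient S X)
  have hSpos : 0 < Nat.card S := Nat.card_pos
  have hcard : Nat.card (orbitRel.Quotient S X) = n := by
    have h1 := card_orbits hl.free
    rw [hn1] at h1
    exact Nat.eq_of_mul_eq_mul_right hSpos h1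
  have hι : Function.Injective (MonoidHom.id (Multiplicative (ZMod p))) := fun _ _ h => h
  have hc : ∀ a b : Multiplicative (ZMod p), (MonoidHom.id (Multiplicative (ZMod p))) a * b = b * (MonoidHom.id (Multiplicative (ZMod p))) a := fun a b => mul_comm _ _
  obtain ⟨H, hH⟩ := exists_REq (B := Multiplicative (ZMod p)) θ hl.free
  let w : S → X → Multiplicative (ZMod p) := fun a x => H (l a x) * (H x)⁻¹
  have hw : ∀ a : S, IsTr (MonoidHom.id (Multiplicative (ZMod p))) H (l a) (w a) := by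
    intro a x
    show H (l a x) = H (l a x) * (H x)⁻¹ * H x
    rw [inv_mul_cancel_right]
  have hwinv : ∀ (a b : S) (x : X), w a (b • x) = w a x := fun a b x => (hw a).inv hι hH (hl.comm a.2) b x
  let D : S →* Multiplicative (ZMod p) := MonoidHom.mk' (fun a => PP S (w a)) (by
    intro a b
    have h1 := (IsTr.comp hι hc hH (hl.comm a.2) (hl.comm b.2) (hw a) (hw b)).2
    rw [← h1]
    congr 1
    funext x
    show H (l (a * b : S) x) * (H x)⁻¹ = H (l a (l b x)) * (H (l b x))⁻¹ * (H (l b x) * (H x)⁻¹)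
    have h2 : l ((a * b : S) : Ω) x = l a (l b x) := hl.l_mul a a.2 b b.2 x
    rw [h2]; group)
  have hD : ∀ a : S, D a = PP S (w a) := fun a => rfl
  have hDinv : ∀ P f, FMap F P f → ∀ a (ha : a ∈ P) (haS : a ∈ S) (hfa : f a ∈ S),
        D ⟨f a, hfa⟩ = D ⟨a, haS⟩ := by
    intro P f hf a ha haS hfa
    obtain ⟨θ, hθ1, hθ2⟩ := hl.inter P f S (fun x => x) hf (FMap.id le_rfl)
    have hθ : ∀ (b : S) x, θ (b • x) = b • θ x := fun b x => hθ2 b b.2 b.2 b.2 x
    obtain ⟨h1, h2, h3⟩ := IsTr.conj hι hH (hl.comm hfa) hθ (g' := l a) (hθ1 a ha) (hw ⟨f a, hfa⟩)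
    rw [hD, hD, ← h3]
    exact IsTr.indep hι hc h1 hH (hl.comm haS) h2 (hw ⟨a, haS⟩)
  have hDx : D x = 1 := by
    have h1 : F.focalSubgroup ≤ D.ker.map S.subtype := by
      rw [foc_le_iff]
      intro P f hf a ha
      have haS := hf.le ha
      have hfa := hf.mapsTo ha
      refine ⟨⟨a, haS⟩⁻¹ * ⟨f a, hfa⟩, ?_, rfl⟩
      show D (⟨a, haS⟩⁻¹ * ⟨f a, hfa⟩) = 1
      rw [map_mul, map_inv, hDinv P f hf a ha haS hfa, inv_mul_cancel]
    obtain ⟨y, hy, hyx⟩ := h1 hxf
    have : y = x := Subtype.ext hyx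
    rw [← this]; exact hy
  letI act := leftAct hl
  have hact : ∀ (a : S) (x : X), a • (Quotient.mk (orbitRel S X) x : orbitRel.Quotient S X) = Quotient.mk (orbitRel S X) (l a x) := fun _ _ => rfl
  let W : S → orbitRel.Quotient S X → Multiplicative (ZMod p) := fun a y => w a (Quotient.out y)
  have hWm : ∀ a x, W a (Quotient.mk (orbitRel S X) x) = w a x := by
    intro a x
    have h1 : Quotient.mk (orbitRel S X) (Quotient.out (Quotient.mk (orbitRel S X) x)) = Quotient.mk (orbitRel S X) x := Quotient.out_eq _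
    obtain ⟨b, hb⟩ := Quotient.exact h1
    show w a (Quotient.out (Quotient.mk (orbitRel S X) x)) = w a x
    have hb' : b • x = Quotient.out (Quotient.mk (orbitRel S X) x) := hb
    rw [← hb', hwinv]
  -- stabilizer values
  have hval : ∀ (a : S) (x : X), a • (Quotient.mk (orbitRel S X) x : orbitRel.Quotient S X) = Quotient.mk (orbitRel S X) x →
      ∃ P f, FMap F P f ∧ (a : Ω) ∈ P ∧ (∀ c : S, (c : Ω) ∈ P → c • (Quotient.mk (orbitRel S X) x : orbitRel.Quotient S X) = Quotient.mk (orbitRel S X) x) ∧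
        (∀ c : S, c • (Quotient.mk (orbitRel S X) x : orbitRel.Quotient S X) = Quotient.mk (orbitRel S X) x → (c : Ω) ∈ P) ∧
        ∀ (hfa : f a ∈ S), w a x = θ ⟨f a, hfa⟩ := by
    intro a x ha
    obtain ⟨P, f, hf, hPf⟩ := hl.stab x
    have key : ∀ c : S, c • (Quotient.mk (orbitRel S X) x : orbitRel.Quotient S X) = Quotient.mk (orbitRel S X) x →
        (c : Ω) ∈ P ∧ ∀ (hfa : f c ∈ S), w c x = θ ⟨f c, hfa⟩ := by
      intro c hc
      rw [hact] at hc
      obtain ⟨b, hb⟩ := Quotient.exact hc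
      have hb' : b • x = l c x := hb
      obtain ⟨h1, h2⟩ := (hPf c c.2 b⁻¹).1 (by rw [inv_inv]; exact hb'.symm)
      refine ⟨h1, fun hfa => ?_⟩
      show H (l c x) * (H x)⁻¹ = _
      rw [← hb', hH]
      have : (⟨f c, hfa⟩ : S) = b⁻¹ := Subtype.ext h2.symm
      rw [this, map_inv]
      exact mul_inv_cancel_comm _ _
    refine ⟨P, f, hf, (key a ha).1, ?_, fun c hc => (key c hc).1, (key a ha).2⟩
    intro c hc
    rw [hact]
    have h1 := (hPf c c.2 ⟨f c, hf.mapsTo hc⟩).2 ⟨hc, rfl⟩
    rw [h1]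
    exact Quotient.sound ⟨(⟨f c, hf.mapsTo hc⟩ : S)⁻¹, rfl⟩
  have hA : ∀ a : Multiplicative (ZMod p), a ^ p = 1 := by
    intro a
    apply Multiplicative.toAdd.injective
    rw [toAdd_pow, toAdd_one]
    simp
  obtain ⟨R, hRn, hR, lam, u, x', hx', hprod⟩ := tp (p := p) (S := S) (Y := orbitRel.Quotient S X) (A := Multiplicative (ZMod p)) (W := W) hS
    (by rw [← Nat.card_eq_fintype_card, hcard]; exact hn2) hA
    (by
      intro a b y
      induction y using Quotient.inductionOn with
      | h x =>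
      rw [hact, hWm, hWm, hWm]
      show H (l (a * b : S) x) * (H x)⁻¹ = H (l a (l b x)) * (H (l b x))⁻¹ * (H (l b x) * (H x)⁻¹)
      have h2 : l ((a * b : S) : Ω) x = l a (l b x) := hl.l_mul a a.2 b b.2 x
      rw [h2]; group)
    x (by
      have : ∏ y, W x y = D x := rfl
      rw [this, hDx]) (θ x) hxθ (by
      intro y hy
      induction y using Quotient.inductionOn with
      | h z =>
      obtain ⟨P, f, hf, hxP, h1, h2, h3⟩ := hval x z (hy x)
      have hPS : P = S := le_antisymm hf.le (fun c hc => h2 ⟨c, hc⟩ (hy _))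
      rw [hWm, h3 (hf.mapsTo hxP)]
      subst hPS
      exact hθ f hf x x.2 _) (by
      intro y hy s hs hsy
      induction y using Quotient.inductionOn with
      | h z =>
      obtain ⟨P, f, hf, hsP, h1, h2, h3⟩ := hval s z hsy
      rw [hWm, h3 (hf.mapsTo hsP)]
      by_contra hne'
      have hsf : (s : Ω) ∈ F.focalSubgroup := by
        obtain ⟨m, hm⟩ := hs
        have : ((x ^ m : S) : Ω) ∈ F.focalSubgroup := by
          rw [Subgroup.coe_zpow]; exact F.focalSubgroup.zpow_mem hxf m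
        rw [← hm]; exact this
      have hff : f s ∈ F.focalSubgroup := by
        have h4 := foc_mem hf hsP
        have h5 := F.focalSubgroup.mul_mem hsf h4
        rwa [mul_inv_cancel_left] at h5
      have h6 := hmin ⟨f s, hf.mapsTo hsP⟩ ⟨hff, hne'⟩
      have h7 : orderOf (⟨f s, hf.mapsTo hsP⟩ : S) ≤ orderOf s := by
        apply Nat.le_of_dvd (orderOf_pos s)
        apply orderOf_dvd_of_pow_eq_one
        apply Subtype.ext
        show f s ^ orderOf s = 1
        rw [← hf.map_pow hsP]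
        have : ((s : Ω) ^ orderOf s) = ((s ^ orderOf s : S) : Ω) := rfl
        rw [this, pow_orderOf_eq_one]
        exact hf.map_one
      have h8 : orderOf x ≤ orderOf s := h6.trans h7
      have h9 : Subgroup.zpowers s = Subgroup.zpowers x := by
        apply Subgroup.eq_of_le_of_card_ge
        · rwa [Subgroup.zpowers_le]
        · rw [Nat.card_zpowers, Nat.card_zpowers]; exact h8
      apply hy
      have h10 : x ∈ Subgroup.zpowers s := by rw [h9]; exact Subgroup.mem_zpowers x
      obtain ⟨m, hm⟩ := h10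
      have h11 : s ∈ stabilizer S (Quotient.mk (orbitRel S X) z : orbitRel.Quotient S X) := hsy
      have h12 := Subgroup.zpow_mem _ h11 m
      have hm' : s ^ m = x := hm
      rw [hm'] at h12
      exact h12)
  exact exists_surj hS R hRn hR lam u x' hprod

end CfsgLib.H9Yo
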