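import Mathlib
import Cfsg.Agent.Lib.H9Yo3
import Cfsg.Agent.Lib.FusionAb
set_option autoImplicit false
set_option maxHeartbeats 400000

/-! Yoshida's theorem for saturated fusion systems: the reduction to elementary abelian quotients. -/

namespace CfsgLib.H9Yo

open MulAction Cfsg Cfsg.FusionSystem CfsgLib.Fusion CfsgLib.BSet
open scoped commutatorElement

theorem exists_hom_ne_one {p : ℕ} [hp : Fact p.Prime] {Q : Type*} [CommGroup Q] (hQ : ∀ q : Q, q ^ p = 1) {x : Q} (hx : x ≠ 1) :
    ∃ f : Q →* Multiplicative (ZMod p), f x ≠ 1 := by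
  letI : Module (ZMod p) (Additive Q) := AddCommGroup.zmodModule (n := p) (fun x => Additive.toMul.injective (hQ _))
  by_contra hno
  push Not at hno
  apply hx
  have h1 : Additive.ofMul x = 0 := by
    rw [← Module.forall_dual_apply_eq_zero_iff (ZMod p)]
    intro f
    have h2 := hno (AddMonoidHom.toMultiplicativeRight (f : Additive Q →ₗ[ZMod p] ZMod p).toAddMonoidHom)
    exact congrArg Multiplicative.toAdd h2
  exact h1

universe u

variable {Ω : Type u} [Group Ω] {S : Subgroup Ω} {F : FusionSystem S}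

/-- Tate -/
theorem tate_foc [Finite S] {p : ℕ} [Fact p.Prime] (hS : IsPGroup p S) (hF : F.IsSaturated p) {H : FusionSystem S} (hH : H.IsSaturated p)
    (hle : ∀ P f, FMap H P f → FMap F P f) (h : F.focalSubgroup ≤ (frattini ↥S).map S.subtype ⊔ H.focalSubgroup) :
    F.focalSubgroup = H.focalSubgroup := by
  have hSS : ⁅S, S⁆ ≤ (frattini ↥S).map S.subtype := commutator_le_frattini hS
  have hypHF : H.hyperfocalSubgroup p ≤ F.hyperfocalSubgroup p := by
    rw [hyp_le_iff]
    intro P f hf hfP n hn hfn x hx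
    exact (hyp_le_iff (F := F) (p := p)).1 le_rfl P f (hle P f hf) hfP n hn hfn x hx
  have h3 : F.hyperfocalSubgroup p = H.hyperfocalSubgroup p := by
    apply tate hS hF hypHF (fun s hs x hx => hyp_conj_mem hs hx)
    have h1 : F.hyperfocalSubgroup p ≤ (frattini ↥S).map S.subtype ⊔ H.focalSubgroup := hyp_le_foc.trans h
    refine h1.trans (sup_le le_sup_left ?_)
    rw [foc_eq hS hH]
    exact sup_le le_sup_right (hSS.trans le_sup_left)
  rw [foc_eq hS hF, foc_eq hS hH, h3]

theorem foc_eq_cast {T : Subgroup Ω} (hT : T = S) {N : FusionSystem T} {E : FusionSystem S}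
    (h : ∀ P f, FMap N P f ↔ FMap E P f) : N.focalSubgroup = E.focalSubgroup := by
  apply le_antisymm
  · rw [foc_le_iff]
    intro P f hf x hx
    exact foc_mem ((h P f).1 hf) hx
  · rw [foc_le_iff]
    intro P f hf x hx
    exact foc_mem ((h P f).2 hf) hx

/-- S5225 -/
theorem yoshida [Finite S] {p : ℕ} [hp : Fact p.Prime] (hS : IsPGroup p S) (F : FusionSystem S) (hF : F.IsSaturated p)
    (N : FusionSystem (normalizerIn S S)) (hN : F.IsNormalizerSystem S N) (hne : N.focalSubgroup ≠ F.focalSubgroup) :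
    ∃ (W : Sylow p (Equiv.Perm (Fin (p ^ 2)))) (f : ↥S →* ↥(W : Subgroup (Equiv.Perm (Fin (p ^ 2))))), Function.Surjective f := by
  have hNS : normalizerIn S S = S := inf_eq_left.2 Subgroup.le_normalizer
  have hSfn : F.IsFullyNormalized S := by
    refine ⟨le_rfl, fun R _ => ?_⟩
    rw [hNS]; exact card_le_of_le inf_le_left
  set E := castFS hNS (normSys F S le_rfl) with hE
  have hEs : E.IsSaturated p := by
    rw [hE, castFS_saturated]; exact normSys_saturated hS hF hSfn
  have hEm : ∀ P f, FMap E P f ↔ FMap (normSys F S le_rfl) P f := fun P f => by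
    rw [hE, FMap_castFS]
  have hNE : N.focalSubgroup = E.focalSubgroup := by
    rw [eq_normSys le_rfl hN]
    exact foc_eq_cast hNS (fun P f => (hEm P f).symm)
  have hle : ∀ P f, FMap E P f → FMap F P f := by
    intro P f hf
    rw [hEm, FMap_normSys] at hf
    exact hf.1
  have hno : ¬ F.focalSubgroup ≤ (frattini ↥S).map S.subtype ⊔ E.focalSubgroup := by
    intro h
    exact hne (hNE.trans (tate_foc hS hF hEs hle h).symm)
  obtain ⟨x₀, hx₀, hx₀K⟩ := Set.not_subset.mp hno
  have hx₀S : x₀ ∈ S := foc_le hx₀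
  set K := (frattini ↥S).map S.subtype ⊔ E.focalSubgroup with hK
  have hKn : (K.subgroupOf S).Normal := by
    refine ⟨fun x hx g => ?_⟩
    show (g : Ω) * x * (g : Ω)⁻¹ ∈ K
    have h1 : ⁅(g : Ω), (x : Ω)⁆ ∈ K := by
      apply Subgroup.mem_sup_left
      exact commutator_le_frattini hS (Subgroup.commutator_mem_commutator g.2 x.2)
    have e : (g : Ω) * x * (g : Ω)⁻¹ = ⁅(g : Ω), (x : Ω)⁆ * x := by rw [commutatorElement_def]; group
    rw [e]
    exact K.mul_mem h1 hx
  let Q := S ⧸ K.subgroupOf S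
  letI iQ : CommGroup Q := { (inferInstance : Group (S ⧸ K.subgroupOf S)) with
    mul_comm := by
      intro a b
      induction a using QuotientGroup.induction_on with
      | H a =>
      induction b using QuotientGroup.induction_on with
      | H b =>
      show ((a * b : S) : S ⧸ K.subgroupOf S) = ((b * a : S) : S ⧸ K.subgroupOf S)
      rw [QuotientGroup.eq]
      show ((a : Ω) * b)⁻¹ * (b * a) ∈ K
      have e : ((a : Ω) * b)⁻¹ * (b * a) = ⁅(b : Ω)⁻¹, (a : Ω)⁻¹⁆ := by rw [commutatorElement_def]; group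
      rw [e]
      apply Subgroup.mem_sup_left
      exact commutator_le_frattini hS (Subgroup.commutator_mem_commutator (S.inv_mem b.2) (S.inv_mem a.2)) }
  have hQp : ∀ q : Q, q ^ p = 1 := by
    intro q
    induction q using QuotientGroup.induction_on with
    | H a =>
    show ((a ^ p : S) : S ⧸ K.subgroupOf S) = 1
    rw [QuotientGroup.eq_one_iff]
    apply Subgroup.mem_sup_left
    exact ⟨a ^ p, CfsgLib.PGrp.pow_mem_frattini hS a, rfl⟩
  obtain ⟨f, hf⟩ := exists_hom_ne_one (p := p) hQp (x := ((⟨x₀, hx₀S⟩ : S) : Q)) (by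
    intro h
    have h' := (QuotientGroup.eq_one_iff (N := K.subgroupOf S) (⟨x₀, hx₀S⟩ : S)).mp h
    exact hx₀K h')
  let π : S →* Q := QuotientGroup.mk' (K.subgroupOf S)
  refine yoshida_core hS hF (f.comp π) ?_ ⟨x₀, hx₀S⟩ hx₀ hf
  intro g hg a ha hga
  show f (π ⟨g a, hga⟩) = f (π ⟨a, ha⟩)
  congr 1
  symm
  apply QuotientGroup.eq.mpr
  show a⁻¹ * g a ∈ K
  apply Subgroup.mem_sup_right
  refine foc_mem ?_ ha
  rw [hEm]
  exact FMap_normSys_of_le hg le_rfl (by rw [hNS]) (eq_of_le_card hg.img_le (le_of_eq hg.card_img.symm))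

end CfsgLib.H9Yo
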