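import Cfsg.Agent.Lib.H6SJ
import Cfsg.Agent.Lib.H6CP2
import Cfsg.Agent.Lib.H9Yo4
import Cfsg.Agent.Lib.FusionGroup
import Cfsg.Agent.Lib.CFLocal

/-! S3028, S3023, S1952, S2807. -/

set_option autoImplicit false
set_option linter.style.haveILetI false

open Subgroup

namespace CfsgLib.H6Ms5

open CfsgLib.Coprime CfsgLib.H6LS CfsgLib.SylBridge CfsgLib.H6Amal CfsgLib.H6PR CfsgLib.H6LG CfsgLib.H6FM CfsgLib.H6CP CfsgLib.H6SJ

universe u

section
variable {G : Type u} [Group G] [Finite G] {p : ℕ} [hp : Fact p.Prime]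

theorem s3028 (S : Sylow p G) (A₁ A₂ : Subgroup G)
    (h₁ : A₁.IsSubnormal) (h₂ : A₂.IsSubnormal) :
    (A₁ ⊔ A₂) ⊓ (S : Subgroup G) = (A₁ ⊓ (S : Subgroup G)) ⊔ (A₂ ⊓ (S : Subgroup G)) := by
  rw [inf_comm, inf_comm A₁, inf_comm A₂]
  exact (syl_join h₁ h₂ (CfsgLib.SylBridge.isSyl_top_iff.2 ⟨S, rfl⟩)).symm

theorem subnormal_rel {K L : Subgroup G} (h : CP p K) (hL : L ≤ K) (hs : (L.subgroupOf K).IsSubnormal) : CP p L := by
  have h1 : CP p (⊤ : Subgroup K) := by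
    rw [← cp_map_iff (f := K.subtype) K.subtype_injective, ← MonoidHom.range_eq_map, Subgroup.range_subtype]
    exact h
  have h2 := CP.subnormal h1 hs
  rw [← cp_map_iff (f := K.subtype) K.subtype_injective, Subgroup.map_subgroupOf_eq_of_le hL] at h2
  exact h2

theorem s3023 (hG : Cfsg.IsOfParabolicCharacteristic p G) (S : Sylow p G) (G₁ : Subgroup G) (hsn : G₁.IsSubnormal)
    (hle : ((S : Subgroup G) ⊓ G₁) ⊓ Subgroup.centralizer (((S : Subgroup G) ⊓ G₁ : Subgroup G) : Set G) ≤ (S : Subgroup G) ⊓ Subgroup.centralizer ((S : Subgroup G) : Set G)) :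
    Cfsg.IsOfParabolicCharacteristic p ↥G₁ := by
  have hS₁ : IsSyl p ((S : Subgroup G) ⊓ G₁) G₁ := CfsgLib.SolvStr.isSyl_inf_subnormal G₁ hsn S (syl_top S)
  obtain ⟨S₁, hS₁'⟩ := exists_sylow_of hS₁
  rw [parchar_iff S₁]
  intro z hz1 hz
  have hle' : OZ p ((S : Subgroup G) ⊓ G₁) ≤ OZ p (S : Subgroup G) := by
    rw [OZ, Cfsg.omegaOne, closure_le]
    rintro x ⟨hx, hxp⟩
    exact subset_closure ⟨hle hx, hxp⟩
  have hzG : (z : G) ∈ OZ p ((S : Subgroup G) ⊓ G₁) := by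
    rw [← hS₁', OZ_map G₁.subtype_injective]
    exact mem_map_of_mem _ hz
  have h1 := (parchar_iff S).1 hG (z : G) (fun h => hz1 (Subtype.ext h)) (hle' hzG)
  rw [← cp_map_iff G₁.subtype_injective]
  have h2 : (Subgroup.centralizer ({z} : Set G₁)).map G₁.subtype = Subgroup.centralizer ({(z : G)} : Set G) ⊓ G₁ := by
    ext x
    rw [mem_map, mem_inf, mem_centralizer_singleton_iff]
    constructor
    · rintro ⟨y, hy, rfl⟩
      rw [mem_centralizer_singleton_iff] at hy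
      exact ⟨congrArg Subtype.val hy, y.2⟩
    · rintro ⟨hx1, hx2⟩
      refine ⟨⟨x, hx2⟩, ?_, rfl⟩
      rw [mem_centralizer_singleton_iff]
      exact Subtype.ext hx1
  rw [h2]
  apply subnormal_rel h1 inf_le_left
  rw [Subgroup.inf_subgroupOf_left]
  exact hsn.subgroupOf

end

open scoped Classical in
theorem s1952 {P : Type*} [Group P] [Finite P] {p : ℕ} [hp : Fact p.Prime] (hP : IsPGroup p P) (A : Subgroup P) [hAn : A.Normal]
    (hA : Cfsg.IsElementaryAbelian p A) (hidx : A.index = p) (x y : P) (hx : x ∈ A)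
    (hprod : ((List.range p).map (fun i => (y ^ i)⁻¹ * x * y ^ i)).prod ≠ 1) :
    ∃ (Q : Sylow p (Equiv.Perm (Fin (p ^ 2)))) (f : P →* ↥(Q : Subgroup (Equiv.Perm (Fin (p ^ 2))))), Function.Surjective f := by
  letI : CommGroup A := { (inferInstance : Group A) with mul_comm := hA.1.is_comm.comm }
  have hmem : ∀ i : ℕ, (y ^ i)⁻¹ * x * y ^ i ∈ A := fun i => by simpa using hAn.conj_mem x hx (y ^ i)⁻¹
  let w : A := ((List.range p).map (fun i => (⟨(y ^ i)⁻¹ * x * y ^ i, hmem i⟩ : A))).prod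
  have hw : (w : P) = ((List.range p).map (fun i => (y ^ i)⁻¹ * x * y ^ i)).prod := by
    show A.subtype (((List.range p).map (fun i => (⟨(y ^ i)⁻¹ * x * y ^ i, hmem i⟩ : A))).prod) = _
    rw [map_list_prod, List.map_map]
    rfl
  have hw1 : w ≠ 1 := by
    intro h
    apply hprod
    rw [← hw, h]; rfl
  obtain ⟨f, hf⟩ := CfsgLib.H9Yo.exists_hom_ne_one (p := p) (Q := A) (fun q => Subtype.ext (hA.2 q q.2)) hw1
  refine CfsgLib.H9Yo.exists_surj hP A hAn hidx f y ⟨x, hx⟩ ?_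
  intro h
  apply hf
  rw [← h]
  show f (((List.range p).map (fun i => (⟨(y ^ i)⁻¹ * x * y ^ i, hmem i⟩ : A))).prod) = _
  rw [map_list_prod, List.map_map]
  rfl

end CfsgLib.H6Ms5
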