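import Cfsg.Agent.Lib.H6CP4
import Cfsg.Agent.Lib.H6CP9
import Cfsg.Agent.Lib.SolvStr
import Cfsg.Agent.Lib.PL3

/-! Wielandt: Sylow subgroups of joins of subnormal subgroups. Point stabilizers. -/

set_option autoImplicit false
set_option linter.style.haveILetI false

open Subgroup
open scoped commutatorElement

namespace CfsgLib.H6SJ

open CfsgLib.Coprime CfsgLib.H6LS CfsgLib.SylBridge CfsgLib.H6Amal CfsgLib.H6PR CfsgLib.H6LG CfsgLib.H6FM CfsgLib.H6CP
open CfsgLib.Comp (qs_normal component_perfect le_or_comm_normal component_subgroupOf component_map le_or_comm eq_or_comm comm_iff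
  commutator_eq_bot_of_perfect component_ne_bot component_le_layer layer_le_gfs fitting_le_gfs layer_comm_fitting)

universe u
variable {G : Type u} [Group G] [Finite G] {p : ℕ} [hp : Fact p.Prime]

theorem isSyl_map_of {H : Type*} [Group H] [Finite H] (f : G →* H) {P K : Subgroup G} (h : IsSyl p P K) : IsSyl p (P.map f) (K.map f) := by
  rw [isSyl_iff] at h ⊢
  refine ⟨Subgroup.map_mono h.1, h.2.1.map f, fun hd => h.2.2 (hd.trans ?_)⟩
  have h1 : ((P.subgroupOf K).map (f.subgroupMap K)).index ∣ (P.subgroupOf K).index :=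
    Subgroup.index_map_dvd _ (f.subgroupMap_surjective K)
  have h2 : (P.subgroupOf K).map (f.subgroupMap K) = (P.map f).subgroupOf (K.map f) := by
    ext ⟨x, hx⟩
    rw [mem_subgroupOf]
    constructor
    · rintro ⟨y, hy, hyx⟩
      exact ⟨y, hy, congrArg Subtype.val hyx⟩
    · rintro ⟨y, hy, hyx⟩
      exact ⟨⟨y, h.1 hy⟩, hy, Subtype.ext hyx⟩
  rw [h2] at h1
  exact h1

theorem isSyl_eq_of_le {P Q K : Subgroup G} (hP : IsSyl p P K) (hQ : IsPGroup p Q) (hQK : Q ≤ K) (hPQ : P ≤ Q) : P = Q := by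
  rw [isSyl_iff_isSylowIn] at hP
  exact (hP.eq_of_le hQK hQ hPQ).symm

/-- Sylow subgroups of a product of two normal subgroups -/
theorem syl_prod {E N₁ N₂ S : Subgroup G} (hE : N₁ ⊔ N₂ = E) (h1 : E ≤ Subgroup.normalizer (N₁ : Set G)) (h2 : E ≤ Subgroup.normalizer (N₂ : Set G))
    (hS : IsSyl p S E) : (S ⊓ N₁) ⊔ (S ⊓ N₂) = S := by
  have hN₁ : N₁ ≤ E := hE ▸ le_sup_left
  have hN₂ : N₂ ≤ E := hE ▸ le_sup_right
  have hS₁ : IsSyl p (S ⊓ N₁) N₁ := IsSyl.inf_normal hS hN₁ h1
  have hS₂ : IsSyl p (S ⊓ N₂) N₂ := IsSyl.inf_normal hS hN₂ h2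
  have hS₁₂ : IsSyl p (S ⊓ (N₁ ⊓ N₂)) (N₁ ⊓ N₂ : Subgroup G) := IsSyl.inf_normal hS (inf_le_left.trans hN₁) (le_normalizer_inf h1 h2)
  have e1 := CfsgLib.PL3.card_sup_mul (W := N₁) (B := N₂) (hN₂.trans h1)
  have e2 := CfsgLib.PL3.card_sup_mul (W := S ⊓ N₁) (B := S ⊓ N₂) (inf_le_left.trans (le_normalizer_inf le_normalizer (hS.1.trans h1)))
  have e3 : (S ⊓ N₁) ⊓ (S ⊓ N₂) = S ⊓ (N₁ ⊓ N₂) := by
    apply le_antisymm
    · exact le_inf (inf_le_left.trans inf_le_left) (inf_le_inf inf_le_right inf_le_right)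
    · exact le_inf (inf_le_inf_left _ inf_le_left) (inf_le_inf_left _ inf_le_right)
  apply Subgroup.eq_of_le_of_card_ge (sup_le inf_le_left inf_le_left)
  rw [e3, hS₁.2, hS₂.2, hS₁₂.2] at e2
  rw [hE] at e1
  have e4 := congrArg (fun n => Nat.factorization n p) e1
  rw [Nat.factorization_mul Nat.card_pos.ne' Nat.card_pos.ne', Nat.factorization_mul Nat.card_pos.ne' Nat.card_pos.ne', Finsupp.add_apply, Finsupp.add_apply] at e4
  rw [hS.2]
  have e5 : p ^ (Nat.card E).factorization p * p ^ (Nat.card (N₁ ⊓ N₂ : Subgroup G)).factorization p =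
      p ^ (Nat.card N₁).factorization p * p ^ (Nat.card N₂).factorization p := by
    rw [← pow_add, ← pow_add, e4]
  rw [← e5] at e2
  exact (Nat.eq_of_mul_eq_mul_right (pow_pos hp.out.pos _) e2).ge

theorem syl_join_aux : ∀ (n : ℕ) (G : Type u) [Group G] [Finite G], Nat.card G = n → ∀ A B T : Subgroup G, A.IsSubnormal → B.IsSubnormal →
    A ⊔ B = ⊤ → IsSyl p T ⊤ → (T ⊓ A) ⊔ (T ⊓ B) = T := by
  intro n
  induction n using Nat.strong_induction_on with
  | _ n ih =>
  intro G _ _ hn A B T hA hB hAB hT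
  subst hn
  set R := (T ⊓ A) ⊔ (T ⊓ B) with hR
  have hRT : R ≤ T := sup_le inf_le_left inf_le_left
  by_contra hne
  have hTp : IsPGroup p T := hT.isPGroup
  have hTA : IsSyl p (T ⊓ A) A := CfsgLib.SolvStr.isSyl_inf_subnormal A hA T hT
  have hTB : IsSyl p (T ⊓ B) B := CfsgLib.SolvStr.isSyl_inf_subnormal B hB T hT
  -- quotients
  have step1 : ∀ M : Subgroup G, M.Normal → M ≠ ⊥ → T ≤ R ⊔ M := by
    intro M hM hM1
    haveI := hM
    set f := QuotientGroup.mk' M with hf
    have hfs : Function.Surjective f := QuotientGroup.mk'_surjective M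
    have hcard : Nat.card (G ⧸ M) < Nat.card G := by
      rw [← Subgroup.index_eq_card]
      have h1 := Subgroup.card_mul_index M
      have h2 : 1 < Nat.card M := Subgroup.one_lt_card_iff_ne_bot M |>.2 hM1
      have h3 : 0 < M.index := Nat.pos_of_ne_zero (Subgroup.index_ne_zero_of_finite)
      nlinarith
    have hTf : IsSyl p (T.map f) ⊤ := by
      have := isSyl_map_of f hT
      rwa [Subgroup.map_top_of_surjective f hfs] at this
    have h1 := ih _ hcard (G ⧸ M) rfl (A.map f) (B.map f) (T.map f) (hA.map hfs) (hB.map hfs)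
      (by rw [← Subgroup.map_sup, hAB, Subgroup.map_top_of_surjective f hfs]) hTf
    have h2 : (T ⊓ A).map f = T.map f ⊓ A.map f :=
      isSyl_eq_of_le (isSyl_map_of f hTA) ((hTp.map f).to_le inf_le_left) inf_le_right (Subgroup.map_inf_le _ _ f)
    have h3 : (T ⊓ B).map f = T.map f ⊓ B.map f :=
      isSyl_eq_of_le (isSyl_map_of f hTB) ((hTp.map f).to_le inf_le_left) inf_le_right (Subgroup.map_inf_le _ _ f)
    rw [← h2, ← h3, ← Subgroup.map_sup, ← hR] at h1
    have h4 : T ≤ (R.map f).comap f := by rw [h1]; exact Subgroup.le_comap_map f T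
    rwa [Subgroup.comap_map_eq, hf, QuotientGroup.ker_mk'] at h4
  -- no `q`-core
  have hOq : ∀ q : ℕ, q.Prime → q ≠ p → Cfsg.pCore q G = ⊥ := by
    intro q hq hqp
    haveI : Fact q.Prime := ⟨hq⟩
    by_contra hM1
    have hMn := CfsgLib.Core.pCore_normal q G
    have h1 := step1 _ hMn hM1
    have h2 := CfsgLib.Core.card_sup_dvd (M := Cfsg.pCore q G) (N := R) hMn
    rw [sup_comm] at h1
    have h3 := (Subgroup.card_dvd_of_le h1).trans h2
    obtain ⟨k, hk⟩ := IsPGroup.iff_card.1 (CfsgLib.Core.pCore_isPGroup q G)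
    obtain ⟨l, hl⟩ := IsPGroup.iff_card.1 hTp
    have hcop : (Nat.card T).Coprime (Nat.card (Cfsg.pCore q G)) := by
      rw [hk, hl]
      exact Nat.Coprime.pow _ _ ((Nat.coprime_primes hp.out hq).2 (Ne.symm hqp))
    have h4 := hcop.dvd_of_dvd_mul_left h3
    exact hne (Subgroup.eq_of_le_of_card_ge hRT (Nat.le_of_dvd Nat.card_pos h4))
  have ded : ∀ M : Subgroup G, M.Normal → T ≤ R ⊔ M → T ⊓ M ≤ R → False := by
    intro M hM h1 h2
    apply hne
    apply le_antisymm hRT
    intro t ht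
    have h3 := h1 ht
    obtain ⟨r, hr, m, hm, rfl⟩ := Subgroup.mem_sup_of_normal_right.1 h3
    refine mul_mem hr (h2 (mem_inf.2 ⟨?_, hm⟩))
    have := mul_mem (inv_mem (hRT hr)) ht
    rwa [inv_mul_cancel_left] at this
  -- no components
  have hlay : Cfsg.layer G = ⊥ := by
    by_contra hE1
    set E := Cfsg.layer G with hE
    have hEn : E.Normal := inferInstance
    apply ded E hEn (step1 E hEn hE1)
    set EA : Subgroup G := sSup {K : Subgroup G | Cfsg.IsComponent K ∧ K ≤ A} with hEA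
    set EB : Subgroup G := sSup {K : Subgroup G | Cfsg.IsComponent K ∧ K ≤ B} with hEB
    have hEAE : EA ≤ E := sSup_le fun K hK => component_le_layer hK.1
    have hEBE : EB ≤ E := sSup_le fun K hK => component_le_layer hK.1
    have hsup : EA ⊔ EB = E := by
      apply le_antisymm (sup_le hEAE hEBE)
      apply sSup_le
      intro K hK
      have hK' : Cfsg.IsComponent K := hK
      rcases le_or_comm hK' A hA with h1 | h1
      · exact le_sup_of_le_left (le_sSup ⟨hK', h1⟩)
      · rcases le_or_comm hK' B hB with h2 | h2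
        · exact le_sup_of_le_right (le_sSup ⟨hK', h2⟩)
        · exfalso
          rw [commutator_eq_bot_iff_le_centralizer] at h1 h2
          have h3 : K ≤ Subgroup.centralizer ((⊤ : Subgroup G) : Set G) := by
            rw [← hAB, Subgroup.le_centralizer_iff]
            exact sup_le (Subgroup.le_centralizer_iff.1 h1) (Subgroup.le_centralizer_iff.1 h2)
          apply component_ne_bot hK'
          rw [← component_perfect hK', commutator_eq_bot_iff_le_centralizer]
          exact h3.trans (centralizer_le (SetLike.coe_subset_coe.2 le_top))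
    have hnorm : ∀ S : Set (Subgroup G), (∀ K ∈ S, Cfsg.IsComponent K) → E ≤ Subgroup.normalizer ((sSup S : Subgroup G) : Set G) := by
      intro S hS x hx
      apply CfsgLib.H7Basic.mem_normalizer_of_conj_mem
      have h1 : sSup S ≤ (sSup S).comap (MulAut.conj x).toMonoidHom := by
        apply sSup_le
        intro K hK y hy
        have h2 : x * y * x⁻¹ ∈ K := (mem_normalizer_iff.1 (CfsgLib.Comp.layer_le_normalizer (hS K hK) hx) y).1 hy
        exact (le_sSup hK : K ≤ sSup S) h2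
      intro y hy
      exact h1 hy
    have hTE : IsSyl p (T ⊓ E) E := IsSyl.inf_normal hT le_top (by rw [normalizer_eq_top_iff.2 hEn])
    have h1 := syl_prod hsup (hnorm _ fun K hK => hK.1) (hnorm _ fun K hK => hK.1) hTE
    rw [← h1]
    apply sup_le
    · exact le_sup_of_le_left (le_inf (inf_le_left.trans inf_le_left) (inf_le_right.trans (sSup_le fun K hK => hK.2)))
    · exact le_sup_of_le_right (le_inf (inf_le_left.trans inf_le_left) (inf_le_right.trans (sSup_le fun K hK => hK.2)))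
  -- `F* = O_p`
  set P := Cfsg.pCore p G with hP
  haveI hPn : P.Normal := CfsgLib.Core.pCore_normal p G
  have hPp : IsPGroup p P := CfsgLib.Core.pCore_isPGroup p G
  have hPT : P ≤ T := by
    obtain ⟨T', hT'⟩ := isSyl_top_iff.1 hT
    exact (CfsgLib.Core.pCore_le_sylow T').trans hT'.le
  have hFP : Cfsg.generalizedFittingSubgroup G ≤ P := by
    rw [Cfsg.generalizedFittingSubgroup, hlay, bot_sup_eq]
    have hFp : IsPGroup p (Cfsg.fittingSubgroup G) := by
      rw [IsPGroup.iff_card]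
      refine ⟨_, Nat.eq_prime_pow_of_unique_prime_dvd Nat.card_pos.ne' (fun {d} hd hdd => ?_)⟩
      by_contra hdp
      haveI : Fact d.Prime := ⟨hd⟩
      obtain ⟨x, hx⟩ := exists_prime_orderOf_dvd_card' d hdd
      have h1 : (x : G) ∈ Cfsg.pCore d G := CfsgLib.Core.mem_pCore_of_mem_fitting x.2 (k := 1) (by rw [orderOf_coe, hx, pow_one])
      rw [hOq d hd hdp, mem_bot] at h1
      have h2 : x = 1 := Subtype.ext h1
      rw [h2, orderOf_one] at hx
      exact hd.one_lt.ne hx
    exact CfsgLib.Core.le_pCore (CfsgLib.Core.fitting_normal G) hFp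
  have hCP : Subgroup.centralizer (P : Set G) ≤ P :=
    (centralizer_le (SetLike.coe_subset_coe.2 hFP)).trans (CfsgLib.Comp.centralizer_gfs_le.trans hFP)
  by_cases hP1 : P = ⊥
  · have h1 : (⊤ : Subgroup G) ≤ ⊥ := by
      rw [hP1] at hCP
      refine le_trans ?_ hCP
      intro x _
      rw [mem_centralizer_iff]
      intro y hy
      have : y = 1 := hy
      rw [this, one_mul, mul_one]
    exact hne (le_antisymm hRT ((le_top.trans h1).trans bot_le))
  -- the center of `P`
  set M := P ⊓ Subgroup.centralizer (P : Set G) with hM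
  have hMn : M.Normal := inferInstance
  have hM1 : M ≠ ⊥ := by
    obtain ⟨z, hz, hz1, hzP⟩ := exists_fix hPp hPp le_normalizer hP1
    intro h
    apply hz1
    have : z ∈ M := mem_inf.2 ⟨hz, hzP⟩
    rw [h, mem_bot] at this
    exact this
  have hTRM := step1 M hMn hM1
  have hTN : T ≤ Subgroup.normalizer ((R ⊓ P : Subgroup G) : Set G) := by
    refine hTRM.trans (sup_le (le_normalizer_inf le_normalizer (by rw [normalizer_eq_top_iff.2 hPn]; exact le_top)) ?_)
    refine (inf_le_right : M ≤ Subgroup.centralizer (P : Set G)).trans ?_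
    exact (centralizer_le (SetLike.coe_subset_coe.2 inf_le_right)).trans (centralizer_le_normalizer _)
  have hres : ∀ X : Subgroup G, X.IsSubnormal → T ⊓ X ≤ R → ⁅P, Res p X⁆ ≤ R ⊓ P := by
    intro X hX hXR
    have h1 : ⁅P, Res p X⁆ ≤ X := comm_res_le hPp (by rw [normalizer_eq_top_iff.2 hPn]; exact le_top) hX
    have h2 : ⁅P, Res p X⁆ ≤ P := commutator_le_of_le_normalizer (by rw [normalizer_eq_top_iff.2 hPn]; exact le_top)
    exact le_inf ((le_inf (h2.trans hPT) h1).trans hXR) h2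
  have hXn : ∀ X : Subgroup G, X.IsSubnormal → T ⊓ X ≤ R → IsSyl p (T ⊓ X) X → X ≤ Subgroup.normalizer ((R ⊓ P : Subgroup G) : Set G) := by
    intro X hX hXR hXs
    have h1 := sup_eq_of_ppelements (Res_le X) (le_normalizer.trans (Res_norm X)) (fun g hg hc => mem_Res hg hc) hXs
    rw [← h1]
    apply sup_le _ (inf_le_left.trans hTN)
    intro x hx
    apply CfsgLib.H7Basic.mem_normalizer_of_conj_mem
    intro u hu
    have h2 : x * u * x⁻¹ * u⁻¹ ∈ R ⊓ P := by
      apply hres X hX hXR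
      rw [commutator_comm, ← commutatorElement_def]
      exact commutator_mem_commutator hx (mem_inf.1 hu).2
    have := mul_mem h2 hu
    rwa [inv_mul_cancel_right] at this
  have hRPn : (R ⊓ P).Normal := by
    apply normalizer_eq_top_iff.1
    rw [← top_le_iff, ← hAB]
    exact sup_le (hXn A hA le_sup_left hTA) (hXn B hB le_sup_right hTB)
  have hRP : R ⊓ P = ⊥ := by
    by_contra h1
    have h2 := step1 _ hRPn h1
    exact hne (le_antisymm hRT (h2.trans (sup_le le_rfl inf_le_left)))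
  have hXT : ∀ X : Subgroup G, X.IsSubnormal → T ⊓ X ≤ R → IsSyl p (T ⊓ X) X → X ≤ T := by
    intro X hX hXR hXs
    have h1 := sup_eq_of_ppelements (Res_le X) (le_normalizer.trans (Res_norm X)) (fun g hg hc => mem_Res hg hc) hXs
    rw [← h1]
    apply sup_le _ inf_le_left
    have h2 := hres X hX hXR
    rw [hRP, le_bot_iff, commutator_comm, commutator_eq_bot_iff_le_centralizer] at h2
    exact h2.trans (hCP.trans hPT)
  have hAT := hXT A hA le_sup_left hTA
  have hBT := hXT B hB le_sup_right hTB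
  apply hne
  apply le_antisymm hRT
  rw [hR, inf_eq_right.2 hAT, inf_eq_right.2 hBT, hAB]
  exact le_top

/-- **Wielandt**: Sylow subgroups of the join of two subnormal subgroups -/
theorem syl_join {A B T : Subgroup G} (hA : A.IsSubnormal) (hB : B.IsSubnormal) (hT : IsSyl p T ⊤) :
    (T ⊓ A) ⊔ (T ⊓ B) = T ⊓ (A ⊔ B) := by
  set J := A ⊔ B with hJ
  have hJs : J.IsSubnormal := CfsgLib.Subnorm.sup_isSubnormal hA hB
  have hTJ : IsSyl p (T ⊓ J) J := CfsgLib.SolvStr.isSyl_inf_subnormal J hJs T hT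
  obtain ⟨S, hS⟩ := exists_sylow_of hTJ
  have hAJ : A ≤ J := le_sup_left
  have hBJ : B ≤ J := le_sup_right
  have h1 := syl_join_aux (p := p) _ J rfl (A.subgroupOf J) (B.subgroupOf J) (S : Subgroup J) hA.subgroupOf hB.subgroupOf (by
    rw [← Subgroup.subgroupOf_sup hAJ hBJ, subgroupOf_self]) (syl_top S)
  have h2 := congrArg (Subgroup.map J.subtype) h1
  rw [Subgroup.map_sup, Subgroup.map_inf _ _ _ J.subtype_injective, Subgroup.map_inf _ _ _ J.subtype_injective, hS,
    map_subgroupOf_eq_of_le hAJ, map_subgroupOf_eq_of_le hBJ, inf_assoc, inf_assoc, inf_eq_right.2 hAJ, inf_eq_right.2 hBJ] at h2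
  exact h2

theorem pe_mem_of_subnormal {W S : Subgroup G} (hW : W.IsSubnormal) (hS : IsSyl p S ⊤) (hSW : S ≤ W) {x : G} (hx : PE p x) : x ∈ W := by
  obtain ⟨T', hT'⟩ := exists_sylow_mem hx
  have h1 : IsSyl p ((T' : Subgroup G) ⊓ W) W := CfsgLib.SolvStr.isSyl_inf_subnormal W hW T' (syl_top T')
  have h2 : IsSyl p S W := IsSyl.of_le' hS hSW le_top
  have h3 : (T' : Subgroup G) ⊓ W = T' := by
    apply Subgroup.eq_of_le_of_card_ge inf_le_left
    rw [h1.2, ← h2.2, hS.2, (syl_top T').2]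
  exact inf_eq_left.1 h3 hT'

theorem cp_inf {N K : Subgroup G} (hN : CP p N) (hK : K.IsSubnormal) : CP p (K ⊓ N) := by
  induction hK with
  | top => rwa [top_inf_eq]
  | step A B hAB hB hn ih =>
      exact ih.normal (inf_le_inf_right _ hAB) (le_normalizer_inf (inf_le_left.trans ((normal_subgroupOf_iff_le_normalizer hAB).1 hn)) (inf_le_right.trans le_normalizer))

/-- the subgroup generated by the `p`-elements of `C_L(Z)` -/
def PSt (p : ℕ) (L Z : Subgroup G) : Subgroup G := Subgroup.closure {x : G | x ∈ L ⊓ Subgroup.centralizer (Z : Set G) ∧ PE p x}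

omit [Finite G] hp in
theorem PSt_le (L Z : Subgroup G) : PSt p L Z ≤ L ⊓ Subgroup.centralizer (Z : Set G) := by
  unfold PSt
  rw [Subgroup.closure_le]
  intro x hx
  exact hx.1

theorem PSt_norm (L Z : Subgroup G) : L ⊓ Subgroup.centralizer (Z : Set G) ≤ Subgroup.normalizer (PSt p L Z : Set G) := by
  intro g hg
  apply CfsgLib.H7Basic.mem_normalizer_of_conj_mem
  have h1 : PSt p L Z ≤ (PSt p L Z).comap (MulAut.conj g).toMonoidHom := by
    conv_lhs => unfold PSt
    rw [Subgroup.closure_le]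
    rintro x ⟨hx, hpe⟩
    exact Subgroup.subset_closure ⟨mul_mem (mul_mem hg hx) (inv_mem hg), pe_conj hpe g⟩
  intro x hx
  exact h1 hx

theorem cp_local_norm (hG : Cfsg.IsOfLocalCharacteristic p G) {D : Subgroup G} (hD : IsPGroup p D) (hD1 : D ≠ ⊥) : CP p (Subgroup.normalizer (D : Set G)) :=
  cp_iff.2 (hG.2 D hD hD1)

theorem OZ_ne_bot' {S : Subgroup G} (hS : IsPGroup p S) (h : S ≠ ⊥) : OZ p S ≠ ⊥ := by
  obtain ⟨y, -, hy1, hyZ⟩ := exists_OZ hS le_rfl le_normalizer h
  exact fun h => hy1 (by rw [h, mem_bot] at hyZ; exact hyZ)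

/-- Kieler's lemma in groups of local characteristic `p` -/
theorem kieler_local (hG : Cfsg.IsOfLocalCharacteristic p G) {T L : Subgroup G} (hT : IsSyl p T ⊤) (hL : L.IsSubnormal) (h1 : T ⊓ L ≠ ⊥) :
    L ⊓ Subgroup.centralizer (OZ p T : Set G) = L ⊓ Subgroup.centralizer (OZ p (T ⊓ L) : Set G) := by
  induction hL with
  | top => rw [inf_top_eq]
  | step A B hAB hB hn ih =>
      have hTB : IsSyl p (T ⊓ B) B := CfsgLib.SolvStr.isSyl_inf_subnormal B hB T hT
      have hAn : B ≤ Subgroup.normalizer (A : Set G) := (normal_subgroupOf_iff_le_normalizer hAB).1 hn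
      have hTBA : T ⊓ B ⊓ A = T ⊓ A := by rw [inf_assoc, inf_eq_right.2 hAB]
      have hTB1 : T ⊓ B ≠ ⊥ := fun h => h1 (by rw [← hTBA, h, bot_inf_eq])
      have ih' := ih hTB1
      have hp1 : IsPGroup p (T ⊓ A : Subgroup G) := hT.isPGroup.to_le inf_le_left
      have hp2 : IsPGroup p (T ⊓ B : Subgroup G) := hT.isPGroup.to_le inf_le_left
      have hZA : OZ p (T ⊓ A) ≠ ⊥ := OZ_ne_bot' hp1 h1
      have hZB : OZ p (T ⊓ B) ≠ ⊥ := OZ_ne_bot' hp2 hTB1
      have hZAp : IsPGroup p (OZ p (T ⊓ A)) := hp1.to_le (OZ_le _)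
      have hZBp : IsPGroup p (OZ p (T ⊓ B)) := hp2.to_le (OZ_le _)
      have hTBn : T ⊓ B ≤ Subgroup.normalizer (OZ p (T ⊓ A) : Set G) := by
        refine le_trans ?_ (norm_OZ (T ⊓ A))
        exact le_normalizer_inf (inf_le_left.trans le_normalizer) (inf_le_right.trans hAn)
      have hcenZ : ∀ S : Subgroup G, S ≤ Subgroup.centralizer (OZ p S : Set G) := by
        intro S
        rw [le_centralizer_iff]
        exact OZ_cent S
      have key : A ⊓ Subgroup.centralizer (OZ p (T ⊓ B) : Set G) = A ⊓ Subgroup.centralizer (OZ p (T ⊓ A) : Set G) := by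
        apply le_antisymm
        · set X := Subgroup.centralizer (OZ p (T ⊓ B) : Set G) with hX
          have hXcp : CP p X := (cp_norm_iff hZBp).1 (cp_local_norm hG hZBp hZB)
          have h2 := kieler (H := B ⊓ X) (L := A ⊓ X) (T := T ⊓ B) (cp_inf hXcp hB) (inf_le_inf_right _ hAB)
            (le_normalizer_inf (inf_le_left.trans hAn) (inf_le_right.trans le_normalizer))
            (IsSyl.of_le' hTB (le_inf inf_le_right (hcenZ _)) inf_le_left)
          have h3 : T ⊓ B ⊓ (A ⊓ X) = T ⊓ A := by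
            rw [← inf_assoc, hTBA]
            exact inf_eq_left.2 ((inf_le_inf_left T hAB).trans (hcenZ _))
          rw [h3] at h2
          have h4 : A ⊓ X ≤ A ⊓ X ⊓ Subgroup.centralizer (OZ p (T ⊓ A) : Set G) := by
            rw [← h2]
            exact le_inf le_rfl inf_le_right
          exact le_inf inf_le_left (h4.trans inf_le_right)
        · set N := Subgroup.normalizer (OZ p (T ⊓ A) : Set G) with hN
          have hNcp : CP p N := cp_local_norm hG hZAp hZA
          have h2 := kieler (H := B ⊓ N) (L := A ⊓ N) (T := T ⊓ B) (cp_inf hNcp hB) (inf_le_inf_right _ hAB)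
            (le_normalizer_inf (inf_le_left.trans hAn) (inf_le_right.trans le_normalizer))
            (IsSyl.of_le' hTB (le_inf inf_le_right hTBn) inf_le_left)
          have h3 : T ⊓ B ⊓ (A ⊓ N) = T ⊓ A := by
            rw [← inf_assoc, hTBA]
            exact inf_eq_left.2 ((inf_le_inf_left T hAB).trans hTBn)
          rw [h3] at h2
          refine le_inf inf_le_left ?_
          have h4 : A ⊓ Subgroup.centralizer (OZ p (T ⊓ A) : Set G) ≤ A ⊓ N ⊓ Subgroup.centralizer (OZ p (T ⊓ A) : Set G) :=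
            le_inf (inf_le_inf_left _ (centralizer_le_normalizer _)) inf_le_right
          rw [← h2] at h4
          exact h4.trans inf_le_right
      rw [← key]
      have h6 : A ⊓ (B ⊓ Subgroup.centralizer (OZ p T : Set G)) = A ⊓ (B ⊓ Subgroup.centralizer (OZ p (T ⊓ B) : Set G)) := by rw [ih']
      rwa [← inf_assoc, ← inf_assoc, inf_eq_left.2 hAB] at h6

theorem point_eq (hG : Cfsg.IsOfLocalCharacteristic p G) {T L : Subgroup G} (hT : IsSyl p T ⊤) (hL : L.IsSubnormal) :
    Cfsg.pointStabilizer p L (T ⊓ L) = PSt p L (OZ p T) := by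
  change PSt p L (OZ p (T ⊓ L)) = PSt p L (OZ p T)
  have hTL : IsSyl p (T ⊓ L) L := CfsgLib.SolvStr.isSyl_inf_subnormal L hL T hT
  by_cases h1 : T ⊓ L = ⊥
  · have h2 : ∀ Z : Subgroup G, PSt p L Z = ⊥ := by
      intro Z
      rw [eq_bot_iff]
      unfold PSt
      rw [Subgroup.closure_le]
      rintro x ⟨hx, hpe⟩
      obtain ⟨S, hS, hxS⟩ := CfsgLib.Coprime.exists_isSyl_ge (K := L) (by rw [zpowers_le]; exact (mem_inf.1 hx).1) (pe_iff_zpowers.1 hpe)
      obtain ⟨l, hl, hlc⟩ := hTL.exists_conj hS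
      have hlc' : (T ⊓ L).map (MulAut.conj l).toMonoidHom = S := hlc
      rw [h1, Subgroup.map_bot] at hlc'
      have := hxS (mem_zpowers x)
      rw [← hlc'] at this
      exact this
    rw [h2, h2]
  · unfold PSt
    rw [kieler_local hG hT hL h1]

theorem s2806 (hG : Cfsg.IsOfLocalCharacteristic p G) (T : Sylow p G) (L₁ L₂ : Subgroup G) (h₁ : L₁.IsSubnormal) (h₂ : L₂.IsSubnormal) : Cfsg.pointStabilizer p (L₁ ⊔ L₂) ((T : Subgroup G) ⊓ (L₁ ⊔ L₂)) = Cfsg.pointStabilizer p L₁ ((T : Subgroup G) ⊓ L₁) ⊔ Cfsg.pointStabilizer p L₂ ((T : Subgroup G) ⊓ L₂) := by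
  have hT := syl_top T
  have hLs := CfsgLib.Subnorm.sup_isSubnormal h₁ h₂
  rw [point_eq hG hT h₁, point_eq hG hT h₂, point_eq hG hT hLs]
  set Z := OZ p (T : Subgroup G) with hZ
  set L := L₁ ⊔ L₂ with hL
  have hTZ : (T : Subgroup G) ≤ Subgroup.centralizer (Z : Set G) := by
    rw [le_centralizer_iff]
    exact OZ_cent _
  set C := L ⊓ Subgroup.centralizer (Z : Set G) with hC
  have hsub : ∀ L' : Subgroup G, L'.IsSubnormal → L' ≤ L → ((PSt p L' Z).subgroupOf C).IsSubnormal ∧ PSt p L' Z ≤ C ∧ (T : Subgroup G) ⊓ L' ≤ PSt p L' Z := by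
    intro L' hL' hle
    have h3 : PSt p L' Z ≤ L' ⊓ Subgroup.centralizer (Z : Set G) := PSt_le L' Z
    have h4 : L' ⊓ Subgroup.centralizer (Z : Set G) ≤ C := inf_le_inf_right _ hle
    refine ⟨?_, h3.trans h4, ?_⟩
    · have h5 : ((L' ⊓ Subgroup.centralizer (Z : Set G)).subgroupOf C).IsSubnormal := by
        have e : (L' ⊓ Subgroup.centralizer (Z : Set G)).subgroupOf C = L'.subgroupOf C := by
          ext x
          rw [mem_subgroupOf, mem_subgroupOf, mem_inf]
          exact ⟨fun h => h.1, fun h => ⟨h, (mem_inf.1 x.2).2⟩⟩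
        rw [e]; exact hL'.subgroupOf
      apply subnormal_of_normal h5
      · intro x hx
        exact h3 hx
      · intro x hx
        apply CfsgLib.H7Basic.mem_normalizer_of_conj_mem
        intro y hy
        exact (mem_normalizer_iff.1 (PSt_norm L' Z hx) _).1 hy
    · intro t ht
      exact Subgroup.subset_closure ⟨mem_inf.2 ⟨(mem_inf.1 ht).2, hTZ (mem_inf.1 ht).1⟩, pe_of_mem T.isPGroup' (mem_inf.1 ht).1⟩
  obtain ⟨a1, a2, a3⟩ := hsub L₁ h₁ le_sup_left
  obtain ⟨b1, b2, b3⟩ := hsub L₂ h₂ le_sup_right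
  apply le_antisymm
  · set W := PSt p L₁ Z ⊔ PSt p L₂ Z with hW
    have hWs : (W.subgroupOf C).IsSubnormal := by
      rw [hW, Subgroup.subgroupOf_sup a2 b2]
      exact CfsgLib.Subnorm.sup_isSubnormal a1 b1
    have hTL : IsSyl p ((T : Subgroup G) ⊓ L) L := CfsgLib.SolvStr.isSyl_inf_subnormal L hLs T hT
    have hTC : IsSyl p ((T : Subgroup G) ⊓ L) C := IsSyl.of_le' hTL (le_inf inf_le_right (inf_le_left.trans hTZ)) inf_le_left
    have hTW : (T : Subgroup G) ⊓ L ≤ W := by
      rw [← syl_join h₁ h₂ hT]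
      exact sup_le_sup a3 b3
    obtain ⟨S, hS⟩ := exists_sylow_of hTC
    conv_lhs => unfold PSt
    rw [Subgroup.closure_le]
    rintro x ⟨hx, hpe⟩
    have h5 : (⟨x, hx⟩ : C) ∈ W.subgroupOf C := by
      apply pe_mem_of_subnormal hWs (syl_top S)
      · intro s hs
        rw [mem_subgroupOf]
        apply hTW
        rw [← hS]
        exact ⟨s, hs, rfl⟩
      · exact pe_coe.1 hpe
    exact h5
  · apply sup_le
    · exact Subgroup.closure_mono fun x hx => ⟨mem_inf.2 ⟨le_sup_left (a := L₁) (b := L₂) (mem_inf.1 hx.1).1, (mem_inf.1 hx.1).2⟩, hx.2⟩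
    · exact Subgroup.closure_mono fun x hx => ⟨mem_inf.2 ⟨le_sup_right (a := L₁) (b := L₂) (mem_inf.1 hx.1).1, (mem_inf.1 hx.1).2⟩, hx.2⟩

end CfsgLib.H6SJ
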