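import Cfsg.Agent.Lib.NPC
import Cfsg.Agent.Lib.H6HSub
import Cfsg.Agent.Lib.Coprime2
import Cfsg.Agent.Lib.H7Basic
import Cfsg.Agent.Lib.H6Tr1
import Cfsg.Prelude.Def_CaseTheorems

/-! S1946, S1947, S2910: `p`-nilpotence and elements of order `p` (or 4). -/

set_option autoImplicit false
set_option linter.style.haveILetI false

open Subgroup
open scoped commutatorElement

namespace CfsgLib.H6Tr

universe u
variable {G : Type u} [Group G] [Finite G] {p : ℕ} [hp : Fact p.Prime]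

/-- if `g x g⁻¹ x⁻¹ = z` commutes with `g` and `z` is a `p`-element, `g` a `p'`-element, then `z = 1` -/
theorem coprime_trick {g x z : G} (hg : (orderOf g).Coprime p) (hz : ∃ k, z ^ p ^ k = 1) (h : g * x * g⁻¹ * x⁻¹ = z) (hc : g * z = z * g) :
    z = 1 := by
  obtain ⟨k, hk⟩ := hz
  have h1 : x * g * x⁻¹ = z⁻¹ * g := by
    rw [← h]; group
  have hcm : Commute z⁻¹ g := by
    have : Commute g z := hc
    exact this.symm.inv_left
  have h2 : (z⁻¹ * g) ^ orderOf g = 1 := by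
    rw [← h1, conj_pow, pow_orderOf_eq_one]; group
  rw [hcm.mul_pow, pow_orderOf_eq_one, mul_one, inv_pow, inv_eq_one] at h2
  have h3 : orderOf z ∣ 1 := by
    have h4 := orderOf_dvd_of_pow_eq_one h2
    have h5 := orderOf_dvd_of_pow_eq_one hk
    have h6 : (orderOf g).Coprime (p ^ k) := Nat.Coprime.pow_right k hg
    rw [← Nat.Coprime.gcd_eq_one h6]
    exact Nat.dvd_gcd h4 h5
  exact orderOf_eq_one_iff.1 (Nat.dvd_one.1 h3)

theorem npc_of_omega (P : Sylow p G) (h : ∀ Q : Subgroup G, Q ≤ (P : Subgroup G) → ∀ g ∈ Subgroup.normalizer (Q : Set G), (orderOf g).Coprime p →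
    ∀ x ∈ Q, (x ^ p = 1 ∨ (p = 2 ∧ x ^ 4 = 1)) → g * x = x * g) : Cfsg.HasNormalPComplement p G := by
  rw [CfsgLib.NPC.npc_iff, CfsgLib.NPC.npc_iff_frobCond]
  apply CfsgLib.NPC.frobCond_of_sylow P
  intro Q hQ g hg hgc
  rw [mem_centralizer_iff]
  intro x hx
  exact (CfsgLib.H6HSub.comm_of_omega hgc (Nat.card Q) Q le_rfl (P.2.to_le hQ) hg (fun x hx ho => h Q hQ g hg hgc x hx ho) x hx).symm

theorem s1947 (n : ℕ)
    (h : ∀ a : G, (a ^ p = 1 ∨ (p = 2 ∧ a ^ 4 = 1)) → a ∈ Subgroup.upperCentralSeries G n) : Cfsg.HasNormalPComplement p G := by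
  obtain ⟨P⟩ : Nonempty (Sylow p G) := inferInstance
  apply npc_of_omega P
  intro Q hQ g hg hgc x hx ho
  have key : ∀ i : ℕ, ∀ x ∈ Q, x ∈ Subgroup.upperCentralSeries G i → g * x = x * g := by
    intro i
    induction i with
    | zero =>
      intro x _ h1
      rw [Subgroup.upperCentralSeries_zero, mem_bot] at h1
      rw [h1, mul_one, one_mul]
    | succ i ih =>
      intro x hx h1
      obtain ⟨z, hz⟩ : ∃ z, g * x * g⁻¹ * x⁻¹ = z := ⟨_, rfl⟩
      have hzQ : z ∈ Q := by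
        rw [← hz]
        exact Q.mul_mem ((mem_normalizer_iff.1 hg x).1 hx) (Q.inv_mem hx)
      have hzZ : z ∈ Subgroup.upperCentralSeries G i := by
        have h2 := (Subgroup.mem_upperCentralSeries_succ_iff).1 h1 g
        have h3 := Subgroup.inv_mem _ h2
        have h4 : (⁅x, g⁆)⁻¹ = z := by rw [← hz, commutatorElement_def]; group
        rwa [h4] at h3
      have h5 := ih z hzQ hzZ
      have h6 := coprime_trick (p := p) hgc (by
        obtain ⟨k, hk⟩ := (P.2.to_le hQ) ⟨z, hzQ⟩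
        exact ⟨k, congrArg Subtype.val hk⟩) hz h5
      rw [h6, mul_inv_eq_one, mul_inv_eq_iff_eq_mul] at hz
      exact hz
  exact key n x hx (h x ho)

theorem s2910 (hp2 : p ≠ 2) (hdiv : p ∣ Nat.card G) (P : Sylow p G) (hZ : Cfsg.omegaOne p (P : Subgroup G) ≤ Subgroup.center G) :
    Cfsg.HasNormalPComplement p G ∧ ¬ Cfsg.IsQuasisimple G := by
  have h1 : Cfsg.HasNormalPComplement p G := by
    apply npc_of_omega P
    intro Q hQ g hg hgc x hx ho
    rcases ho with ho | ⟨ho, -⟩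
    · have h1 : x ∈ center G := hZ (subset_closure ⟨hQ hx, ho⟩)
      exact mem_center_iff.1 h1 g
    · exact absurd ho hp2
  refine ⟨h1, ?_⟩
  intro hq
  rw [CfsgLib.NPC.npc_iff] at h1
  obtain ⟨N, hN, hNc, k, hk⟩ := h1
  have h2 : N ≠ ⊤ := by
    intro h
    rw [h, Subgroup.card_top] at hNc
    exact (Nat.Prime.coprime_iff_not_dvd hp.out).1 hNc.symm hdiv
  haveI := hN
  have h3 : Nontrivial (G ⧸ N) := by
    rw [← not_subsingleton_iff_nontrivial]
    intro hs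
    exact h2 (QuotientGroup.subsingleton_iff.1 hs)
  have h4 : IsPGroup p (G ⧸ N) := IsPGroup.of_card hk
  haveI := h4.isNilpotent
  have h5 := Group.IsSolvable.commutator_lt_top_of_nontrivial (G := G ⧸ N)
  apply h5.ne
  have h6 : commutator G = ⊤ := hq.1.commutator_eq_top
  rw [_root_.commutator_def] at h6 ⊢
  rw [← Subgroup.map_top_of_surjective _ (QuotientGroup.mk'_surjective N), ← Subgroup.map_commutator, h6]

theorem control_core (P : Sylow p G) (h : ∀ a ∈ (P : Subgroup G), (a ^ p = 1 ∨ (p = 2 ∧ a ^ 4 = 1)) → ∀ g : G, g * a * g⁻¹ ∈ (P : Subgroup G) →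
        ∃ x ∈ (P : Subgroup G), g * a * g⁻¹ = x * a * x⁻¹) {Q : Subgroup G} (hQ : Q ≤ (P : Subgroup G)) {g : G}
    (hg : g ∈ Subgroup.normalizer (Q : Set G)) (hgc : (orderOf g).Coprime p) (n : ℕ) : ∀ T : Subgroup G, Nat.card T ≤ n → T ≤ (P : Subgroup G) →
      (P : Subgroup G) ≤ Subgroup.normalizer (T : Set G) → ∀ x ∈ Q, x ∈ T → (x ^ p = 1 ∨ (p = 2 ∧ x ^ 4 = 1)) → g * x = x * g := by
  induction n with
  | zero =>
    intro T hT
    exact absurd (Nat.card_pos (α := T)) (by omega)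
  | succ n ih =>
    intro T hT hTP hPT x hxQ hxT hxo
    by_cases hTb : T = ⊥
    · rw [hTb, mem_bot] at hxT
      rw [hxT, mul_one, one_mul]
    have hlt := CfsgLib.Coprime.commutator_lt_of_isPGroup (P.2.to_le hTP) P.2 hPT hTb
    obtain ⟨T₁, hT₁⟩ : ∃ T₁, T₁ = ⁅T, (P : Subgroup G)⁆ := ⟨_, rfl⟩
    rw [← hT₁] at hlt
    have hT₁n : (P : Subgroup G) ≤ Subgroup.normalizer (T₁ : Set G) := by
      rw [hT₁]
      exact Subgroup.normalizer_commutator_ge_right T (P : Subgroup G)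
    have hT₁P : T₁ ≤ P := hlt.le.trans hTP
    have IH := ih T₁ (by
      have := CfsgLib.CF.card_lt_of_lt hlt
      omega) hT₁P hT₁n
    -- the subgroup generated by the small elements of `Q ⊓ T`
    obtain ⟨D, hD⟩ : ∃ D : Subgroup G, D = Subgroup.closure {y | y ∈ Q ∧ y ∈ T ∧ (y ^ p = 1 ∨ (p = 2 ∧ y ^ 4 = 1))} := ⟨_, rfl⟩
    have hDQ : D ≤ Q := by rw [hD, closure_le]; intro y hy; exact hy.1
    have hDT : D ≤ T := by rw [hD, closure_le]; intro y hy; exact hy.2.1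
    have hxD : x ∈ D := by rw [hD]; exact subset_closure ⟨hxQ, hxT, hxo⟩
    have hstep : ∀ y ∈ Q, y ∈ T → (y ^ p = 1 ∨ (p = 2 ∧ y ^ 4 = 1)) → g * y * g⁻¹ ∈ T ∧ g * y * g⁻¹ * y⁻¹ ∈ T₁ := by
      intro y hyQ hyT hyo
      obtain ⟨u, hu, hgu⟩ := h y (hQ hyQ) hyo g (hQ ((mem_normalizer_iff.1 hg y).1 hyQ))
      rw [hgu]
      refine ⟨(mem_normalizer_iff.1 (hPT hu) y).1 hyT, ?_⟩
      rw [hT₁]
      have := commutator_mem_commutator hyT hu
      have h1 := inv_mem this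
      have h2 : (⁅y, u⁆)⁻¹ = u * y * u⁻¹ * y⁻¹ := by rw [commutatorElement_def]; group
      rwa [h2] at h1
    have hgD : ∀ y ∈ D, g * y * g⁻¹ ∈ D := by
      intro y hy
      have h1 : D ≤ D.comap (MulAut.conj g).toMonoidHom := by
        nth_rewrite 1 [hD]
        rw [closure_le]
        rintro z ⟨hzQ, hzT, hzo⟩
        show g * z * g⁻¹ ∈ D
        rw [hD]
        refine subset_closure ⟨(mem_normalizer_iff.1 hg z).1 hzQ, (hstep z hzQ hzT hzo).1, ?_⟩
        rcases hzo with hzo | ⟨h2, hzo⟩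
        · left; rw [conj_pow, hzo]; group
        · right; exact ⟨h2, by rw [conj_pow, hzo]; group⟩
      exact h1 hy
    have hgT₁ : ∀ y ∈ D, g * y * g⁻¹ * y⁻¹ ∈ T₁ := by
      intro y hy
      rw [hD] at hy
      induction hy using Subgroup.closure_induction with
      | mem y hy => exact (hstep y hy.1 hy.2.1 hy.2.2).2
      | one => rw [mul_one, mul_inv_cancel, inv_one, mul_one]; exact T₁.one_mem
      | mul a b ha hb iha ihb =>
        rw [← hD] at ha hb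
        have h1 : g * (a * b) * g⁻¹ * (a * b)⁻¹ = (g * a * g⁻¹ * a⁻¹) * (a * (g * b * g⁻¹ * b⁻¹) * a⁻¹) := by group
        rw [h1]
        exact T₁.mul_mem iha ((mem_normalizer_iff.1 (hT₁n (hQ (hDQ ha))) _).1 ihb)
      | inv a ha iha =>
        rw [← hD] at ha
        have h1 : g * a⁻¹ * g⁻¹ * a⁻¹⁻¹ = (g * a * g⁻¹)⁻¹ * (g * a * g⁻¹ * a⁻¹)⁻¹ * (g * a * g⁻¹) := by group
        rw [h1]
        have h2 : g * a * g⁻¹ ∈ (P : Subgroup G) := hQ (hDQ (hgD a ha))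
        have h3 := (mem_normalizer_iff.1 (hT₁n (Subgroup.inv_mem _ h2)) _).1 (T₁.inv_mem iha)
        rwa [inv_inv] at h3
    -- `g` centralizes `D ⊓ T₁`
    have hDT₁ : ∀ y ∈ D ⊓ T₁, g * y = y * g := by
      refine CfsgLib.H6HSub.comm_of_omega hgc (Nat.card (D ⊓ T₁ : Subgroup G)) (D ⊓ T₁) le_rfl (P.2.to_le (inf_le_right.trans hT₁P)) ?_ ?_
      · apply CfsgLib.H7Basic.mem_normalizer_of_conj_mem
        intro y hy
        have hy' := mem_inf.1 hy
        refine mem_inf.2 ⟨hgD y hy'.1, ?_⟩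
        have := T₁.mul_mem (hgT₁ y hy'.1) hy'.2
        rwa [inv_mul_cancel_right] at this
      · intro y hy hyo
        exact IH y (hDQ (mem_inf.1 hy).1) (mem_inf.1 hy).2 hyo
    obtain ⟨z, hz⟩ : ∃ z, g * x * g⁻¹ * x⁻¹ = z := ⟨_, rfl⟩
    have hzD : z ∈ D ⊓ T₁ := by
      rw [← hz]
      exact mem_inf.2 ⟨D.mul_mem (hgD x hxD) (D.inv_mem hxD), hgT₁ x hxD⟩
    have h5 := hDT₁ z hzD
    have h6 := coprime_trick (p := p) hgc (by
      obtain ⟨k, hk⟩ := (P.2.to_le (inf_le_right.trans hT₁P)) ⟨z, hzD⟩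
      exact ⟨k, congrArg Subtype.val hk⟩) hz h5
    rw [h6, mul_inv_eq_one, mul_inv_eq_iff_eq_mul] at hz
    exact hz

theorem s1946 (P : Sylow p G) :
    Cfsg.HasNormalPComplement p G ↔
      ∀ a ∈ (P : Subgroup G), (a ^ p = 1 ∨ (p = 2 ∧ a ^ 4 = 1)) → ∀ g : G, g * a * g⁻¹ ∈ (P : Subgroup G) →
        ∃ x ∈ (P : Subgroup G), g * a * g⁻¹ = x * a * x⁻¹ := by
  constructor
  · intro h a ha _ g hg
    rw [CfsgLib.NPC.npc_iff] at h
    obtain ⟨N, hN, hNc, k, hk⟩ := h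
    have hc := CfsgLib.NPC.isComplement'_sylow hNc hk P
    haveI := hN
    have hsup := hc.sup_eq_top
    have hinf : N ⊓ (P : Subgroup G) = ⊥ := hc.disjoint.eq_bot
    have hgt : g ∈ N ⊔ (P : Subgroup G) := by rw [hsup]; exact mem_top g
    obtain ⟨n, hn, x, hx, rfl⟩ := (Subgroup.mem_sup_of_normal_left).1 hgt
    refine ⟨x, hx, ?_⟩
    have h1 : n * (x * a * x⁻¹) * n⁻¹ * (x * a * x⁻¹)⁻¹ ∈ N ⊓ (P : Subgroup G) := by
      refine mem_inf.2 ⟨?_, ?_⟩
      · have h2 := N.mul_mem hn (hN.conj_mem _ (N.inv_mem hn) (x * a * x⁻¹))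
        have h3 : n * ((x * a * x⁻¹) * n⁻¹ * (x * a * x⁻¹)⁻¹) = n * (x * a * x⁻¹) * n⁻¹ * (x * a * x⁻¹)⁻¹ := by group
        rwa [h3] at h2
      · have h2 : n * (x * a * x⁻¹) * n⁻¹ = n * x * a * (n * x)⁻¹ := by group
        rw [h2]
        exact Subgroup.mul_mem _ hg (Subgroup.inv_mem _ (Subgroup.mul_mem _ (Subgroup.mul_mem _ hx ha) (Subgroup.inv_mem _ hx)))
    rw [hinf, mem_bot, mul_inv_eq_one] at h1
    rw [← h1]; group
  · intro h
    apply npc_of_omega P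
    intro Q hQ g hg hgc x hx ho
    exact control_core P h hQ hg hgc (Nat.card (P : Subgroup G)) P le_rfl le_rfl le_normalizer x hx (hQ hx) ho

end CfsgLib.H6Tr
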