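import Mathlib
import Cfsg.Agent.Lib.H7Npc
import Cfsg.Agent.Lib.PG3

set_option autoImplicit false
set_option linter.style.haveILetI false

/-! Extraspecial groups: an involution with a large centralizer. -/

namespace CfsgLib.H7Esp

open Subgroup
open scoped commutatorElement

theorem esp_of_equiv {p : ℕ} {P Q : Type*} [Group P] [Group Q] (e : P ≃* Q) (h : Cfsg.IsExtraspecial p Q) :
    Cfsg.IsExtraspecial p P := by
  obtain ⟨⟨h1, h2, h3⟩, h4⟩ := h
  have hf : frattini P = (frattini Q).comap e.toMonoidHom := by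
    apply le_antisymm
    · exact frattini_le_comap_frattini_of_surjective e.surjective
    · intro x hx
      have h5 := frattini_le_comap_frattini_of_surjective (φ := e.symm.toMonoidHom) e.symm.surjective hx
      have h6 : e.symm (e x) ∈ frattini P := h5
      rwa [e.symm_apply_apply] at h6
  have hc : center P = (center Q).comap e.toMonoidHom := by
    ext x
    rw [mem_comap, mem_center_iff, mem_center_iff]
    constructor
    · intro h y
      obtain ⟨y, rfl⟩ := e.surjective y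
      change e y * e x = e x * e y
      rw [← map_mul, ← map_mul, h y]
    · intro h y
      apply e.injective
      rw [map_mul, map_mul]
      exact h (e y)
  have hk : commutator P = (commutator Q).comap e.toMonoidHom := by
    have h5 : (commutator P).map e.toMonoidHom = commutator Q := by
      rw [_root_.commutator_def, _root_.commutator_def, Subgroup.map_commutator, ← MonoidHom.range_eq_map,
        MonoidHom.range_eq_top.2 e.surjective]
    rw [← h5, Subgroup.comap_map_eq_self_of_injective e.injective]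
  refine ⟨⟨h1.of_equiv e.symm, ?_, ?_⟩, ?_⟩
  · rw [hf, hc, h2]
  · rw [hk, hc, h3]
  · rw [← h4, hc]
    exact Nat.card_congr ((Equiv.subtypeEquiv e.toEquiv (by intro a; rfl)))

variable {G : Type*} [Group G] [Finite G]

theorem mem_sup_of_trivial {Q : Subgroup G} (hQ : Cfsg.IsExtraspecial 2 Q) {t : G} (ht : orderOf t = 2)
    (htN : t ∈ normalizer (Q : Set G))
    (h : ∀ q ∈ Q, q⁻¹ * (t * q * t⁻¹) ∈ Q ⊓ centralizer (Q : Set G)) : t ∈ Q ⊔ centralizer (Q : Set G) := by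
  haveI : Fact (Nat.Prime 2) := ⟨Nat.prime_two⟩
  have hQ2 : IsPGroup 2 Q := hQ.1.1
  -- the set of elements acting trivially on `Q / Z(Q)`
  have hZn : ∀ g ∈ normalizer (Q : Set G), ∀ x ∈ Q ⊓ centralizer (Q : Set G), g * x * g⁻¹ ∈ Q ⊓ centralizer (Q : Set G) := by
    intro g hg x hx
    refine Subgroup.mem_inf.2 ⟨(Subgroup.mem_normalizer_iff.1 hg x).1 hx.1, ?_⟩
    rw [mem_centralizer_iff]
    intro q hq
    have h1 : g⁻¹ * q * g ∈ Q := (Subgroup.mem_normalizer_iff''.1 hg q).1 hq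
    have h2 := mem_centralizer_iff.1 (Subgroup.mem_inf.1 hx).2 _ h1
    calc q * (g * x * g⁻¹) = g * ((g⁻¹ * q * g) * x) * g⁻¹ := by group
      _ = g * (x * (g⁻¹ * q * g)) * g⁻¹ := by rw [h2]
      _ = g * x * g⁻¹ * q := by group
  let N : Subgroup G :=
    { carrier := {g | g ∈ normalizer (Q : Set G) ∧ ∀ q ∈ Q, q⁻¹ * (g * q * g⁻¹) ∈ Q ⊓ centralizer (Q : Set G)}
      one_mem' := by
        refine ⟨one_mem _, fun q hq => ?_⟩
        have : q⁻¹ * (1 * q * 1⁻¹) = 1 := by group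
        rw [this]; exact one_mem _
      mul_mem' := by
        rintro a b ⟨ha1, ha2⟩ ⟨hb1, hb2⟩
        refine ⟨mul_mem ha1 hb1, fun q hq => ?_⟩
        have e : q⁻¹ * (a * b * q * (a * b)⁻¹) = (q⁻¹ * (a * q * a⁻¹)) * (a * (q⁻¹ * (b * q * b⁻¹)) * a⁻¹) := by group
        rw [e]
        exact mul_mem (ha2 q hq) (hZn a ha1 _ (hb2 q hq))
      inv_mem' := by
        rintro a ⟨ha1, ha2⟩
        refine ⟨inv_mem ha1, fun q hq => ?_⟩
        have hq' : a⁻¹ * q * a ∈ Q := (Subgroup.mem_normalizer_iff''.1 ha1 q).1 hq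
        have h1 := inv_mem (ha2 _ hq')
        have e : q⁻¹ * (a⁻¹ * q * a⁻¹⁻¹) = ((a⁻¹ * q * a)⁻¹ * (a * (a⁻¹ * q * a) * a⁻¹))⁻¹ := by group
        rw [e]; exact h1 }
  have hcomm : ∀ x ∈ Q, ∀ q ∈ Q, q⁻¹ * (x * q * x⁻¹) ∈ Q ⊓ centralizer (Q : Set G) := by
    intro x hx q hq
    refine Subgroup.mem_inf.2 ⟨mul_mem (inv_mem hq) (mul_mem (mul_mem hx hq) (inv_mem hx)), ?_⟩
    have h1 : ⁅(⟨q, hq⟩ : Q)⁻¹, ⟨x, hx⟩⁆ ∈ center Q := by
      rw [← hQ.1.2.2, _root_.commutator_def]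
      exact Subgroup.commutator_mem_commutator (Subgroup.mem_top _) (Subgroup.mem_top _)
    rw [mem_centralizer_iff]
    intro y hy
    have h2 := congrArg Subtype.val (mem_center_iff.1 h1 ⟨y, hy⟩)
    simp only [commutatorElement_def, Subgroup.coe_mul, Subgroup.coe_inv, inv_inv] at h2
    have e : q⁻¹ * (x * q * x⁻¹) = q⁻¹ * x * q * x⁻¹ := by group
    rw [e]; exact h2
  have hLN : Q ⊔ zpowers t ≤ N := by
    rw [sup_le_iff]
    refine ⟨fun x hx => ⟨le_normalizer hx, hcomm x hx⟩, ?_⟩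
    rw [zpowers_le]
    exact ⟨htN, h⟩
  obtain ⟨L, hL⟩ : ∃ L, L = Q ⊔ zpowers t := ⟨_, rfl⟩
  have hQL : Q ≤ L := by rw [hL]; exact le_sup_left
  have htL : t ∈ L := by rw [hL]; exact (le_sup_right : zpowers t ≤ _) (mem_zpowers t)
  have hLp : IsPGroup 2 L := by
    rw [hL]
    have h1 : IsPGroup 2 (zpowers t) := IsPGroup.of_card (n := 1) (by rw [Nat.card_zpowers, ht, pow_one])
    exact IsPGroup.to_sup_of_normal_left' hQ2 h1 (by rw [zpowers_le]; exact htN)
  have hE : Cfsg.IsExtraspecial 2 (Q.subgroupOf L) := esp_of_equiv (Subgroup.subgroupOfEquivOfLe hQL) hQ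
  have h3 := CfsgLib.PG3.esp_sup_centralizer hLp (Q.subgroupOf L) hE (by
    rw [Subgroup.commutator_le]
    rintro ⟨g, hg⟩ - ⟨q, hqL⟩ hq
    have hq' : q ∈ Q := hq
    have hgN := hLN (by rw [← hL]; exact hg)
    have h4 := inv_mem (hgN.2 q hq')
    have h4' := hZn q (le_normalizer hq') _ (inv_mem h4)
    have e : q * ((q⁻¹ * (g * q * g⁻¹))⁻¹)⁻¹ * q⁻¹ = g * q * g⁻¹ * q⁻¹ := by group
    rw [e] at h4'
    refine Subgroup.mem_inf.2 ⟨?_, ?_⟩
    · change g * q * g⁻¹ * q⁻¹ ∈ Q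
      exact (Subgroup.mem_inf.1 h4').1
    · rw [mem_centralizer_iff]
      rintro ⟨y, hyL⟩ hy
      apply Subtype.ext
      exact mem_centralizer_iff.1 (Subgroup.mem_inf.1 h4').2 y hy)
  have h5 : (⟨t, htL⟩ : L) ∈ Q.subgroupOf L ⊔ centralizer (Q.subgroupOf L : Set L) := by rw [h3]; exact Subgroup.mem_top _
  have h6 : (Q.subgroupOf L ⊔ centralizer (Q.subgroupOf L : Set L)).map L.subtype ≤ Q ⊔ centralizer (Q : Set G) := by
    rw [Subgroup.map_sup, sup_le_iff]
    constructor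
    · rintro _ ⟨x, hx, rfl⟩
      exact (le_sup_left : Q ≤ Q ⊔ centralizer (Q : Set G)) hx
    · rintro _ ⟨x, hx, rfl⟩
      refine (le_sup_right : centralizer (Q : Set G) ≤ Q ⊔ centralizer (Q : Set G)) ?_
      rw [mem_centralizer_iff]
      intro q hq
      exact congrArg Subtype.val (mem_centralizer_iff.1 hx ⟨q, hQL hq⟩ hq)
  exact h6 ⟨_, h5, rfl⟩

end CfsgLib.H7Esp
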