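import Mathlib
import Cfsg.Agent.Lib.H7Mult5

set_option autoImplicit false
set_option linter.style.haveILetI false

/-! Variant of the `M₂₃` argument. -/

namespace CfsgLib.H7Mult

open Subgroup
open scoped commutatorElement

section

variable {Q : Type*} [Group Q] {Γ : Type*} [Group Γ] {σ : Γ →* Q}

theorem base_comm' (hc : σ.ker ≤ center Γ) (h2 : ∀ z ∈ σ.ker, z * z = 1)
    (hsur : Function.Surjective σ) {v1 v2 v3 v4 : Q}
    (hS : ∀ x ∈ ({v1, v2, v3, v4} : Set Q), ∀ y ∈ ({v1, v2, v3, v4} : Set Q), x * y = y * x)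
    (p12 : ∃ g, g * v1 = v1 * g ∧ NN g v2 = 1) (p13 : ∃ g, g * v1 = v1 * g ∧ NN g v3 = 1)
    (p14 : ∃ g, g * v1 = v1 * g ∧ NN g v4 = 1) (p23 : ∃ g, g * v2 = v2 * g ∧ NN g v3 = 1)
    (p24 : ∃ g, g * v2 = v2 * g ∧ NN g v4 = 1) (p34 : ∃ g, g * v3 = v3 * g ∧ NN g v4 = 1) :
    ∀ x ∈ (closure {v1, v2, v3, v4}).comap σ, ∀ y ∈ (closure {v1, v2, v3, v4}).comap σ, x * y = y * x := by
  obtain ⟨s, hs⟩ : ∃ s : Q → Γ, ∀ g, σ (s g) = g := ⟨_, Function.surjInv_eq hsur⟩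
  have m1 : v1 ∈ ({v1, v2, v3, v4} : Set Q) := by simp
  have m2 : v2 ∈ ({v1, v2, v3, v4} : Set Q) := by simp
  have m3 : v3 ∈ ({v1, v2, v3, v4} : Set Q) := by simp
  have m4 : v4 ∈ ({v1, v2, v3, v4} : Set Q) := by simp
  obtain ⟨g12, a12, b12⟩ := p12
  obtain ⟨g13, a13, b13⟩ := p13
  obtain ⟨g14, a14, b14⟩ := p14
  obtain ⟨g23, a23, b23⟩ := p23
  obtain ⟨g24, a24, b24⟩ := p24
  obtain ⟨g34, a34, b34⟩ := p34
  have p12 := pair_one s hs hc h2 (hS v1 m1 v2 m2) a12 b12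
  have p13 := pair_one s hs hc h2 (hS v1 m1 v3 m3) a13 b13
  have p14 := pair_one s hs hc h2 (hS v1 m1 v4 m4) a14 b14
  have p23 := pair_one s hs hc h2 (hS v2 m2 v3 m3) a23 b23
  have p24 := pair_one s hs hc h2 (hS v2 m2 v4 m4) a24 b24
  have p34 := pair_one s hs hc h2 (hS v3 m3 v4 m4) a34 b34
  have h3 := closure_comm s hs hc {v1, v2, v3, v4} (by
    rintro x (rfl | rfl | rfl | rfl) y (rfl | rfl | rfl | rfl)
    · rfl
    · exact p12
    · exact p13
    · exact p14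
    · exact p12.symm
    · rfl
    · exact p23
    · exact p24
    · exact p13.symm
    · exact p23.symm
    · rfl
    · exact p34
    · exact p14.symm
    · exact p24.symm
    · exact p34.symm
    · rfl)
  intro x hx y hy
  have h4 : ⁅x, y⁆ ∈ ⁅(closure {v1, v2, v3, v4}).comap σ, (closure {v1, v2, v3, v4}).comap σ⁆ :=
    Subgroup.commutator_mem_commutator hx hy
  rw [h3, Subgroup.mem_bot] at h4
  exact commutatorElement_eq_one_iff_mul_comm.1 h4

theorem m23_two' [Finite Γ] (hσ : Cfsg.IsStemExtension σ) (hcard : Nat.card σ.ker = 2)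
    {v1 v2 v3 v4 t a c : Q}
    (hS : ∀ x ∈ ({v1, v2, v3, v4} : Set Q), ∀ y ∈ ({v1, v2, v3, v4} : Set Q), x * y = y * x)
    (hq : ∀ x ∈ ({v1, v2, v3, v4} : Set Q), x * x = 1)
    (p12 : ∃ g, g * v1 = v1 * g ∧ NN g v2 = 1) (p13 : ∃ g, g * v1 = v1 * g ∧ NN g v3 = 1)
    (p14 : ∃ g, g * v1 = v1 * g ∧ NN g v4 = 1) (p23 : ∃ g, g * v2 = v2 * g ∧ NN g v3 = 1)
    (p24 : ∃ g, g * v2 = v2 * g ∧ NN g v4 = 1) (p34 : ∃ g, g * v3 = v3 * g ∧ NN g v4 = 1)
    (nt : ∀ x ∈ ({v1, v2, v3, v4} : Set Q), t * x * t⁻¹ ∈ closure {v1, v2, v3, v4})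
    (Nt : ∀ x ∈ ({v1, v2, v3, v4} : Set Q), NN t x = 1)
    (na : ∀ x ∈ ({v1, v2, v3, v4} : Set Q), a * x * a⁻¹ ∈ closure {v1, v2, v3, v4})
    (nc : ∀ x ∈ ({v1, v2, v3, v4} : Set Q), c * x * c⁻¹ ∈ closure {v1, v2, v3, v4})
    (ca : t * (a * t * a⁻¹) = (a * t * a⁻¹) * t) (cc : t * (c * t * c⁻¹) = (c * t * c⁻¹) * t)
    (hac : a * c * a⁻¹ = c⁻¹) (L2 : ∃ h, h * (c * c) * h⁻¹ ∈ closure {v1, v2, v3, v4})
    (hUV : c * c ∉ closure {v1, v2, v3, v4})
    (hi : ¬ 2 ∣ (closure {v1, v2, v3, v4} ⊔ closure {a, c}).index) : False := by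
  have hc := hσ.2.1
  have h2 : ∀ z ∈ σ.ker, z * z = 1 := by
    intro z hz
    have := pow_ker hz hcard
    rwa [sq] at this
  have hW := base_comm' hc h2 hσ.1 hS p12 p13 p14 p23 p24 p34
  have hV := closure_sq hS hq
  obtain ⟨T, hT⟩ := hσ.1 t
  obtain ⟨A, hA⟩ := hσ.1 a
  obtain ⟨C, hC⟩ := hσ.1 c
  have gT := good_lift (σ := σ) hS nt Nt hT
  have LL : ∀ {u : Q}, (∃ h : Q, h * u * h⁻¹ ∈ closure {v1, v2, v3, v4}) → ∀ {x : Γ}, σ x = u → x * x = 1 :=
    fun hu x hx => L_lift hc h2 hσ.1 hW hV gT hu hx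
  obtain ⟨k, hk, hACk⟩ : ∃ k ∈ σ.ker, A * C * A⁻¹ = C⁻¹ * k := by
    refine ⟨C * (A * C * A⁻¹), ?_, by group⟩
    rw [MonoidHom.mem_ker, map_mul, map_mul, map_mul, map_inv, hA, hC, hac, mul_inv_cancel]
  have hkc := fun g => Subgroup.mem_center_iff.1 (hc hk) g
  have hk2' : k * k = 1 := h2 k hk
  have C4 : (C * C) * (C * C) = 1 := LL L2 (by rw [map_mul, hC])
  have C4' : C⁻¹ * C⁻¹ = C * C := by
    have : (C * C)⁻¹ = C * C := inv_eq_of_mul_eq_one_right C4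
    rwa [mul_inv_rev] at this
  obtain ⟨D, hD⟩ : ∃ D, D = ⁅A, C⁆ := ⟨_, rfl⟩
  have hD' : D = C * C * k := by
    rw [hD, commutatorElement_def, hACk]
    calc C⁻¹ * k * C⁻¹ = C⁻¹ * (k * C⁻¹) := by group
      _ = C⁻¹ * (C⁻¹ * k) := by rw [hkc C⁻¹]
      _ = (C⁻¹ * C⁻¹) * k := by group
      _ = C * C * k := by rw [C4']
  have sD : σ D = c * c := by
    rw [hD', map_mul, map_mul, hC, MonoidHom.mem_ker.1 hk, mul_one]
  have hDD : D * D = 1 := LL L2 sD
  have hCD : C * D * C⁻¹ = D := by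
    rw [hD']
    calc C * (C * C * k) * C⁻¹ = C * C * (C * k) * C⁻¹ := by group
      _ = C * C * (k * C) * C⁻¹ := by rw [hkc C]
      _ = C * C * k := by group
  have hAD : A * D * A⁻¹ = D := by
    have e1 : A * D * A⁻¹ = (A * C * A⁻¹) * (A * C * A⁻¹) * k := by
      rw [hD']
      calc A * (C * C * k) * A⁻¹ = A * C * C * (k * A⁻¹) := by group
        _ = A * C * C * (A⁻¹ * k) := by rw [hkc A⁻¹]
        _ = (A * C * A⁻¹) * (A * C * A⁻¹) * k := by group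
    rw [e1, hACk, hD']
    calc C⁻¹ * k * (C⁻¹ * k) * k = C⁻¹ * (k * C⁻¹) * (k * k) := by group
      _ = C⁻¹ * (C⁻¹ * k) * 1 := by rw [hkc C⁻¹, hk2']
      _ = (C⁻¹ * C⁻¹) * k := by group
      _ = C * C * k := by rw [C4']
  have mD : D ∈ closure ({D} : Set Γ) := subset_closure rfl
  refine final_step hσ hcard hW gT {A, C} ?_ ?_ {D} ?_ ?_ ?_ ?_ ?_
  · rintro s (rfl | rfl)
    · exact norm_lift na hA
    · exact norm_lift nc hC
  · rintro s (rfl | rfl) x hx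
    · exact NN_inv hc h2 hW (ker_le_comap _) (norm_lift na hA) gT gT rfl
        (by rw [map_mul, map_mul, map_inv, hA, hT]; exact ca) hx
    · exact NN_inv hc h2 hW (ker_le_comap _) (norm_lift nc hC) gT gT rfl
        (by rw [map_mul, map_mul, map_inv, hC, hT]; exact cc) hx
  · rintro u rfl
    have mA' : A ∈ closure ({A, C} : Set Γ) := subset_closure (by simp)
    have mC' : C ∈ closure ({A, C} : Set Γ) := subset_closure (by simp)
    rw [hD, commutatorElement_def]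
    exact mul_mem (mul_mem (mul_mem mA' mC') (inv_mem mA')) (inv_mem mC')
  · intro u hu huV
    have hu' : u ∈ closure (insert D (∅ : Set Γ)) := by
      rw [insert_empty_eq]; exact hu
    rcases closure_insert_inv hDD (T := ∅) (by simp) hu' with h | ⟨w, h, rfl⟩
    · rw [Subgroup.closure_empty, Subgroup.mem_bot] at h
      exact h
    · rw [Subgroup.closure_empty, Subgroup.mem_bot] at h
      rw [h, mul_one, sD] at huV
      exact absurd huV hUV
  · rintro s (rfl | rfl) u rfl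
    · rw [hAD]; exact mD
    · rw [hCD]; exact mD
  · rintro s (rfl | rfl) s' (rfl | rfl)
    · rw [commutatorElement_self]; exact one_mem _
    · rw [← hD]; exact mD
    · rw [← commutatorElement_inv, ← hD]; exact inv_mem mD
    · rw [commutatorElement_self]; exact one_mem _
  · have e : (closure ({A, C} : Set Γ)).map σ = closure {a, c} := by
      rw [MonoidHom.map_closure]
      congr 1
      rw [Set.image_insert_eq, Set.image_singleton, hA, hC]
    rw [e]; exact hi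

end

end CfsgLib.H7Mult
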