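import Mathlib
import Cfsg.Prelude.Def_LieExceptional

/-!
# The Suzuki groups: ovoid and explicit elements
-/

set_option autoImplicit false
set_option linter.style.haveILetI false
set_option linter.unusedSectionVars false

open MulAction Cfsg Matrix

namespace CfsgLib.H7S

universe u

variable {F : Type u} [Field F]

/-- the quadratic-like polynomial of the ovoid -/
def ff (m : ℕ) (x y : F) : F := x * y + x ^ (2 ^ (m + 1) + 2) + y ^ (2 ^ (m + 1))

/-- the affine vectors of the ovoid -/
def vec (m : ℕ) (x y : F) : Fin 4 → F := ![ff m x y, y, x, 1]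

theorem vec_ne (m : ℕ) (x y : F) : vec m x y ≠ 0 := by
  intro h
  have := congrFun h 3
  simp [vec] at this

/-- the affine points of the ovoid -/
def pt (m : ℕ) (x y : F) : Projectivization F (Fin 4 → F) := Projectivization.mk F (vec m x y) (vec_ne m x y)

theorem mem_ovoid {m : ℕ} {p : Projectivization F (Fin 4 → F)} : p ∈ suzukiOvoid F m ↔ p = suzukiPointInfinity F ∨ ∃ x y : F, p = pt m x y := by
  constructor
  · rintro ⟨v, hv, rfl, rfl | ⟨x, y, rfl⟩⟩
    · exact Or.inl rfl
    · exact Or.inr ⟨x, y, rfl⟩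
  · rintro (rfl | ⟨x, y, rfl⟩)
    · exact ⟨![1, 0, 0, 0], by simp, rfl, Or.inl rfl⟩
    · exact ⟨vec m x y, vec_ne m x y, rfl, Or.inr ⟨x, y, rfl⟩⟩

theorem mk_eq_pt {m : ℕ} {v : Fin 4 → F} (hv : v ≠ 0) {x y : F} :
    Projectivization.mk F v hv = pt m x y ↔ v 0 = ff m x y * v 3 ∧ v 1 = y * v 3 ∧ v 2 = x * v 3 := by
  rw [pt, Projectivization.mk_eq_mk_iff']
  constructor
  · rintro ⟨a, rfl⟩
    simp [vec, mul_comm]
  · rintro ⟨h0, h1, h2⟩
    refine ⟨v 3, ?_⟩
    ext i
    fin_cases i
    · simp [vec, h0, mul_comm]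
    · simp [vec, h1, mul_comm]
    · simp [vec, h2, mul_comm]
    · simp [vec]

theorem mk_eq_inf {v : Fin 4 → F} (hv : v ≠ 0) :
    Projectivization.mk F v hv = suzukiPointInfinity F ↔ v 1 = 0 ∧ v 2 = 0 ∧ v 3 = 0 := by
  rw [suzukiPointInfinity, Projectivization.mk_eq_mk_iff']
  constructor
  · rintro ⟨a, rfl⟩
    simp
  · rintro ⟨h0, h1, h2⟩
    refine ⟨v 0, ?_⟩
    ext i
    fin_cases i
    · simp
    · simp [h0]
    · simp [h1]
    · simp [h2]

theorem pt_ne_inf (m : ℕ) (x y : F) : pt m x y ≠ suzukiPointInfinity F := by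
  rw [pt, Ne, mk_eq_inf]
  simp [vec]

theorem pt_inj {m : ℕ} {x y x' y' : F} : pt m x y = pt m x' y' ↔ x = x' ∧ y = y' := by
  constructor
  · intro h
    nth_rewrite 1 [pt] at h
    rw [mk_eq_pt] at h
    simp [vec] at h
    exact ⟨h.2.2, h.2.1⟩
  · rintro ⟨rfl, rfl⟩
    rfl

theorem pt_zero (m : ℕ) : pt m (0 : F) 0 = suzukiPointZero F := by
  rw [suzukiPointZero, pt]
  congr 1
  simp [vec, ff]

/-- the ovoid is `Option (F × F)` -/
noncomputable def ovoidEquiv (F : Type u) [Field F] (m : ℕ) : Option (F × F) ≃ suzukiOvoid F m :=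
  Equiv.ofBijective (fun o => match o with
    | none => ⟨suzukiPointInfinity F, mem_ovoid.mpr (Or.inl rfl)⟩
    | some p => ⟨pt m p.1 p.2, mem_ovoid.mpr (Or.inr ⟨_, _, rfl⟩)⟩) (by
    constructor
    · rintro (_ | ⟨x, y⟩) (_ | ⟨x', y'⟩) h
      · rfl
      · exact absurd (congrArg Subtype.val h).symm (pt_ne_inf m x' y')
      · exact absurd (congrArg Subtype.val h) (pt_ne_inf m x y)
      · have h1 : pt m x y = pt m x' y' := congrArg Subtype.val h
        rw [pt_inj] at h1
        rw [h1.1, h1.2]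
    · rintro ⟨p, hp⟩
      rcases mem_ovoid.mp hp with rfl | ⟨x, y, rfl⟩
      · exact ⟨none, rfl⟩
      · exact ⟨some (x, y), rfl⟩)

theorem card_ovoid (F : Type u) [Field F] [Fintype F] (m : ℕ) : Nat.card (suzukiOvoid F m) = Fintype.card F ^ 2 + 1 := by
  rw [← Nat.card_congr (ovoidEquiv F m), Nat.card_eq_fintype_card, Fintype.card_option, Fintype.card_prod, sq]

/-- field data: the automorphism with square the Frobenius map -/
structure SD (F : Type u) [Field F] (m : ℕ) where
  t : F →+* F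
  two : (2 : F) = 0
  ht : ∀ x, t x = x ^ (2 ^ (m + 1))
  tt : ∀ x, t (t x) = x ^ 2

theorem exists_SD [Fintype F] {m : ℕ} (hF : Fintype.card F = 2 ^ (2 * m + 1)) : Nonempty (SD F m) := by
  have h2 : (2 : F) = 0 := by
    have h := FiniteField.cast_card_eq_zero F
    rw [hF] at h
    push_cast at h
    exact pow_eq_zero_iff (by omega) |>.mp h
  haveI : CharP F 2 := CharTwo.of_one_ne_zero_of_two_eq_zero one_ne_zero h2
  refine ⟨⟨iterateFrobenius F 2 (m + 1), h2, fun x => iterateFrobenius_def 2 (m + 1) x, fun x => ?_⟩⟩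
  rw [iterateFrobenius_def, iterateFrobenius_def, ← pow_mul, ← pow_add]
  have e : 2 ^ (m + 1 + (m + 1)) = Fintype.card F * 2 := by
    rw [hF, ← pow_succ]; congr 1; omega
  rw [e, pow_mul, FiniteField.pow_card]

namespace SD

variable {m : ℕ} (D : SD F m)

include D

theorem three : (3 : F) = 1 := by linear_combination D.two
theorem four : (4 : F) = 0 := by linear_combination 2 * D.two
theorem five : (5 : F) = 1 := by linear_combination 2 * D.two
theorem six : (6 : F) = 0 := by linear_combination 3 * D.two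

theorem ff_eq (x y : F) : ff m x y = x * y + D.t x * x ^ 2 + D.t y := by
  rw [ff, pow_add, D.ht, D.ht]

theorem add_self (x : F) : x + x = 0 := by linear_combination x * D.two

theorem neg_eq (x : F) : -x = x := by linear_combination -x * D.two

theorem add_eq_zero {x y : F} : x + y = 0 ↔ x = y := by
  constructor
  · intro h
    linear_combination h - y * D.two
  · rintro rfl
    exact D.add_self x

theorem t_inj : Function.Injective D.t := D.t.injective

theorem t_eq_zero {x : F} : D.t x = 0 ↔ x = 0 := by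
  rw [map_eq_zero_iff _ D.t_inj]

/-- `x ^ (σ + 1) = 1` only for `x = 1` -/
theorem eq_one_of_t_mul {x : F} (h : D.t x * x = 1) : x = 1 := by
  have h1 : D.t x = x⁻¹ := eq_inv_of_mul_eq_one_left h
  have h2 : x ^ 2 = x := by
    rw [← D.tt, h1, map_inv₀, h1, inv_inv]
  have h3 : x ≠ 0 := by
    rintro rfl
    simp at h
  have h4 : x * (x - 1) = 0 := by linear_combination h2
  rcases mul_eq_zero.mp h4 with h5 | h5
  · exact absurd h5 h3
  · exact sub_eq_zero.mp h5

theorem sq_inj {x y : F} (h : x ^ 2 = y ^ 2) : x = y := by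
  have h1 : (x + y) ^ 2 = 0 := by linear_combination h + (y ^ 2 + x * y) * D.two
  have h2 := pow_eq_zero_iff (two_ne_zero) |>.mp h1
  exact D.add_eq_zero.mp h2

/-- the ovoid meets the tangent plane at zero only in zero -/
theorem ff_eq_zero {x y : F} : ff m x y = 0 ↔ x = 0 ∧ y = 0 := by
  rw [D.ff_eq]
  constructor
  · intro h
    by_cases hx : x = 0
    · subst hx
      refine ⟨rfl, ?_⟩
      rw [map_zero, zero_mul, zero_mul, zero_add, zero_add, D.t_eq_zero] at h
      exact h
    · exfalso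
      have htx : D.t x ≠ 0 := fun h => hx (D.t_eq_zero.mp h)
      obtain ⟨s, hs⟩ : ∃ s, y = D.t x * x * s := ⟨y / (D.t x * x), by field_simp⟩
      rw [hs, map_mul, map_mul, D.tt] at h
      have h1 : x ^ 2 * D.t x * (s + 1 + D.t s) = 0 := by linear_combination h
      have h2 : s + 1 + D.t s = 0 := by
        rcases mul_eq_zero.mp h1 with h3 | h3
        · exact absurd h3 (mul_ne_zero (pow_ne_zero 2 hx) htx)
        · exact h3
      have h3 : D.t s = s + 1 := by linear_combination h2 - (s + 1) * D.two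
      have h4 : s ^ 2 = s := by
        rw [← D.tt, h3, map_add, map_one, h3]
        linear_combination D.two
      have h5 : s * (s - 1) = 0 := by linear_combination h4
      rcases mul_eq_zero.mp h5 with h6 | h6
      · rw [h6, map_zero] at h3
        simp at h3
      · have h7 : s = 1 := sub_eq_zero.mp h6
        rw [h7, map_one] at h3
        have : (1 : F) = 0 := by linear_combination -h3
        exact one_ne_zero this
  · rintro ⟨rfl, rfl⟩
    simp

/-- root elements -/
def TT (a b : F) : SpecialLinearGroup (Fin 4) F :=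
  ⟨!![1, a, b + D.t a * a, a * b + D.t a * a ^ 2 + D.t b; 0, 1, D.t a, b; 0, 0, 1, a; 0, 0, 0, 1], by
    simp [Matrix.det_succ_row_zero, Fin.sum_univ_succ, Matrix.submatrix, Fin.succAbove]⟩

/-- torus elements -/
def HH (μ : Fˣ) : SpecialLinearGroup (Fin 4) F :=
  ⟨!![μ * D.t μ, 0, 0, 0; 0, μ, 0, 0; 0, 0, (μ : F)⁻¹, 0; 0, 0, 0, ((μ : F) * D.t μ)⁻¹], by
    have h1 : (μ : F) ≠ 0 := μ.ne_zero
    have h2 : D.t μ ≠ 0 := fun h => h1 (D.t_eq_zero.mp h)
    simp [Matrix.det_succ_row_zero, Fin.sum_univ_succ, Matrix.submatrix, Fin.succAbove]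
    field_simp⟩

end SD

/-- the swap -/
def WW (F : Type u) [Field F] : SpecialLinearGroup (Fin 4) F :=
  ⟨!![0, 0, 0, 1; 0, 0, 1, 0; 0, 1, 0, 0; 1, 0, 0, 0], by
    simp [Matrix.det_succ_row_zero, Fin.sum_univ_succ, Matrix.submatrix, Fin.succAbove]
    try norm_num⟩

end CfsgLib.H7S
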