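import Mathlib
import Cfsg.Agent.Lib.H7S1

/-!
# The Suzuki groups: action of the explicit elements
-/

set_option autoImplicit false
set_option linter.style.haveILetI false
set_option linter.unusedSectionVars false

open MulAction Cfsg Matrix

namespace CfsgLib.H7S

universe u

variable {F : Type u} [Field F]

theorem smul_mk' (g : SpecialLinearGroup (Fin 4) F) {v : Fin 4 → F} (hv : v ≠ 0) :
    ∃ hw : g.1 *ᵥ v ≠ 0, g • Projectivization.mk F v hv = Projectivization.mk F (g.1 *ᵥ v) hw :=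
  ⟨(smul_ne_zero_iff_ne g).mpr hv, rfl⟩

theorem smul_pt_eq_pt {g : SpecialLinearGroup (Fin 4) F} {m : ℕ} {x y x' y' : F} :
    g • pt m x y = pt m x' y' ↔ (g.1 *ᵥ vec m x y) 0 = ff m x' y' * (g.1 *ᵥ vec m x y) 3 ∧ (g.1 *ᵥ vec m x y) 1 = y' * (g.1 *ᵥ vec m x y) 3 ∧
      (g.1 *ᵥ vec m x y) 2 = x' * (g.1 *ᵥ vec m x y) 3 := by
  obtain ⟨hw, h⟩ := smul_mk' g (vec_ne m x y)
  rw [show pt m x y = Projectivization.mk F (vec m x y) (vec_ne m x y) from rfl, h, mk_eq_pt]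

theorem smul_pt_eq_inf {g : SpecialLinearGroup (Fin 4) F} {m : ℕ} {x y : F} :
    g • pt m x y = suzukiPointInfinity F ↔ (g.1 *ᵥ vec m x y) 1 = 0 ∧ (g.1 *ᵥ vec m x y) 2 = 0 ∧ (g.1 *ᵥ vec m x y) 3 = 0 := by
  obtain ⟨hw, h⟩ := smul_mk' g (vec_ne m x y)
  rw [show pt m x y = Projectivization.mk F (vec m x y) (vec_ne m x y) from rfl, h, mk_eq_inf]

theorem smul_inf_eq_pt {g : SpecialLinearGroup (Fin 4) F} {m : ℕ} {x' y' : F} :
    g • suzukiPointInfinity F = pt m x' y' ↔ g.1 0 0 = ff m x' y' * g.1 3 0 ∧ g.1 1 0 = y' * g.1 3 0 ∧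
      g.1 2 0 = x' * g.1 3 0 := by
  have h0 : (![1, 0, 0, 0] : Fin 4 → F) ≠ 0 := by simp
  obtain ⟨hw, h⟩ := smul_mk' g h0
  rw [show suzukiPointInfinity F = Projectivization.mk F ![1, 0, 0, 0] h0 from rfl, h, mk_eq_pt]
  simp [Matrix.mulVec, dotProduct, Fin.sum_univ_four]

theorem smul_inf_eq_inf {g : SpecialLinearGroup (Fin 4) F} :
    g • suzukiPointInfinity F = suzukiPointInfinity F ↔ g.1 1 0 = 0 ∧ g.1 2 0 = 0 ∧ g.1 3 0 = 0 := by
  have h0 : (![1, 0, 0, 0] : Fin 4 → F) ≠ 0 := by simp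
  obtain ⟨hw, h⟩ := smul_mk' g h0
  nth_rewrite 1 [show suzukiPointInfinity F = Projectivization.mk F ![1, 0, 0, 0] h0 from rfl]
  rw [h, mk_eq_inf]
  simp [Matrix.mulVec, dotProduct, Fin.sum_univ_four]

namespace SD

variable {m : ℕ} (D : SD F m)

theorem TT_inf (a b : F) : D.TT a b • suzukiPointInfinity F = suzukiPointInfinity F := by
  rw [smul_inf_eq_inf]
  simp [TT]

theorem TT_pt (a b x y : F) : D.TT a b • pt m x y = pt m (x + a) (y + b + D.t a * x) := by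
  rw [smul_pt_eq_pt]
  refine ⟨?_, ?_, ?_⟩
  · rw [D.ff_eq]
    simp [TT, vec, Matrix.mulVec, dotProduct, Fin.sum_univ_four, D.ff_eq, D.tt]
    linear_combination (-(a * x * D.t a + a * x * D.t x + x ^ 2 * D.t a  + a ^ 2 * D.t x)) * D.two
  · simp [TT, vec, Matrix.mulVec, dotProduct, Fin.sum_univ_four]
    ring
  · simp [TT, vec, Matrix.mulVec, dotProduct, Fin.sum_univ_four]

theorem HH_inf (μ : Fˣ) : D.HH μ • suzukiPointInfinity F = suzukiPointInfinity F := by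
  rw [smul_inf_eq_inf]
  simp [HH]

theorem HH_pt (μ : Fˣ) (x y : F) : D.HH μ • pt m x y = pt m (D.t μ * x) (μ ^ 2 * D.t μ * y) := by
  have h1 : (μ : F) ≠ 0 := μ.ne_zero
  have h2 : D.t μ ≠ 0 := fun h => h1 (D.t_eq_zero.mp h)
  rw [smul_pt_eq_pt]
  refine ⟨?_, ?_, ?_⟩
  · rw [D.ff_eq]
    simp [HH, vec, Matrix.mulVec, dotProduct, Fin.sum_univ_four, D.ff_eq, D.tt]
    field_simp
  · simp [HH, vec, Matrix.mulVec, dotProduct, Fin.sum_univ_four]
    field_simp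
  · simp [HH, vec, Matrix.mulVec, dotProduct, Fin.sum_univ_four]
    field_simp

theorem WW_inf : WW F • suzukiPointInfinity F = pt m 0 0 := by
  rw [smul_inf_eq_pt]
  simp [WW, ff]

include D in
theorem WW_pt {x y : F} (h : ff m x y ≠ 0) : WW F • pt m x y = pt m (y / ff m x y) (x / ff m x y) := by
  rw [smul_pt_eq_pt]
  refine ⟨?_, ?_, ?_⟩
  · obtain ⟨z, hz⟩ : ∃ z, z = ff m x y := ⟨_, rfl⟩
    have hz' : x * y + D.t x * x ^ 2 + D.t y = z := by rw [hz, D.ff_eq]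
    have hz2 : D.t x * D.t y + x ^ 2 * D.t x ^ 2 + y ^ 2 = D.t z := by
      rw [← hz']
      simp [D.tt]
    have htz : D.t z ≠ 0 := by
      rw [← hz] at h
      exact fun h' => h (D.t_eq_zero.mp h')
    rw [D.ff_eq (y / ff m x y)]
    simp only [WW, vec, Matrix.mulVec, dotProduct, Fin.sum_univ_four]
    simp
    rw [← hz] at h ⊢
    field_simp
    have key : D.t z * z = x * y * D.t z + D.t y * y ^ 2 + D.t x * z ^ 2 := by
      rw [← hz2, ← hz']
      linear_combination (-(D.t x * D.t y * x * y) - D.t x ^ 2 * x ^ 3 * y) * D.two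
    linear_combination key
  · simp [WW, vec, Matrix.mulVec, dotProduct, Fin.sum_univ_four]
    field_simp
  · simp [WW, vec, Matrix.mulVec, dotProduct, Fin.sum_univ_four]
    field_simp

end SD

end CfsgLib.H7S
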