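import Mathlib
import Cfsg.Agent.Lib.H7S2

/-!
# The Suzuki groups: the two-point stabilizer
-/

set_option autoImplicit false
set_option linter.style.haveILetI false
set_option linter.unusedSectionVars false

open MulAction Cfsg Matrix
open scoped Pointwise

namespace CfsgLib.H7S

universe u

variable {F : Type u} [Field F] [Fintype F] {m : ℕ}

theorem mem_Sz {g : SpecialLinearGroup (Fin 4) F} (h : ∀ p ∈ suzukiOvoid F m, g • p ∈ suzukiOvoid F m) : g ∈ Sz F m := by
  have hfin : (suzukiOvoid F m).Finite := by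
    haveI : Finite (suzukiOvoid F m) := Finite.of_equiv _ (ovoidEquiv F m)
    exact Set.toFinite _
  rw [Sz, mem_stabilizer_set_iff_smul_set_subset hfin]
  rintro _ ⟨p, hp, rfl⟩
  exact h p hp

omit [Fintype F] in
theorem smul_mem_ovoid {g : SpecialLinearGroup (Fin 4) F} (hg : g ∈ Sz F m) {p : Projectivization F (Fin 4 → F)} (hp : p ∈ suzukiOvoid F m) :
    g • p ∈ suzukiOvoid F m := by
  rw [Sz, mem_stabilizer_set] at hg
  exact (hg p).mpr hp

omit [Fintype F] in
theorem inf_mem : suzukiPointInfinity F ∈ suzukiOvoid F m := mem_ovoid.mpr (Or.inl rfl)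

omit [Fintype F] in
theorem pt_mem (x y : F) : pt m x y ∈ suzukiOvoid F m := mem_ovoid.mpr (Or.inr ⟨x, y, rfl⟩)

namespace SD

variable (D : SD F m)

theorem TT_mem (a b : F) : D.TT a b ∈ Sz F m := by
  apply mem_Sz
  intro p hp
  rcases mem_ovoid.mp hp with rfl | ⟨x, y, rfl⟩
  · rw [D.TT_inf]; exact inf_mem
  · rw [D.TT_pt]; exact pt_mem _ _

theorem HH_mem (μ : Fˣ) : D.HH μ ∈ Sz F m := by
  apply mem_Sz
  intro p hp
  rcases mem_ovoid.mp hp with rfl | ⟨x, y, rfl⟩
  · rw [D.HH_inf]; exact inf_mem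
  · rw [D.HH_pt]; exact pt_mem _ _

include D in
theorem WW_zero : WW F • pt m (0 : F) 0 = suzukiPointInfinity F := by
  rw [smul_pt_eq_inf]
  simp [WW, vec, Matrix.mulVec, dotProduct, Fin.sum_univ_four, ff]

include D in
theorem WW_mem : WW F ∈ Sz F m := by
  apply mem_Sz
  intro p hp
  rcases mem_ovoid.mp hp with rfl | ⟨x, y, rfl⟩
  · rw [WW_inf (m := m)]; exact pt_mem _ _
  · by_cases h : ff m x y = 0
    · rw [D.ff_eq_zero] at h
      rw [h.1, h.2, D.WW_zero]
      exact inf_mem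
    · rw [D.WW_pt h]; exact pt_mem _ _

include D in
theorem poly_zero (hm : 1 ≤ m) (hF : Fintype.card F = 2 ^ (2 * m + 1)) {p q r : F} (h : ∀ x : F, p * x ^ 2 + q * D.t x + r * (D.t x * x ^ 2) = 0) : p = 0 ∧ q = 0 ∧ r = 0 := by
  have h4 : 4 ≤ 2 ^ (m + 1) := by
    calc 4 = 2 ^ 2 := by norm_num
      _ ≤ 2 ^ (m + 1) := Nat.pow_le_pow_right (by norm_num) (by omega)
  obtain ⟨P, hP⟩ : ∃ P : Polynomial F, P = Polynomial.C p * Polynomial.X ^ 2 + Polynomial.C q * Polynomial.X ^ (2 ^ (m + 1)) + Polynomial.C r * Polynomial.X ^ (2 ^ (m + 1) + 2) := ⟨_, rfl⟩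
  have hP0 : P = 0 := by
    apply Polynomial.eq_zero_of_natDegree_lt_card_of_eval_eq_zero P (f := (id : F → F)) Function.injective_id
    · intro x
      rw [hP]
      simp only [Polynomial.eval_add, Polynomial.eval_mul, Polynomial.eval_C, Polynomial.eval_pow, Polynomial.eval_X, id]
      have := h x
      rw [D.ht] at this
      rw [pow_add]
      linear_combination this
    · rw [hF, hP]
      have h5 : 2 ^ (m + 1) + 2 < 2 ^ (2 * m + 1) := by
        have h6 : 2 ^ (m + 2) ≤ 2 ^ (2 * m + 1) := Nat.pow_le_pow_right (by norm_num) (by omega)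
        have h7 : 2 ^ (m + 2) = 2 ^ (m + 1) + 2 ^ (m + 1) := by rw [pow_succ]; ring
        omega
      refine lt_of_le_of_lt ?_ h5
      refine (Polynomial.natDegree_add_le _ _).trans (max_le ?_ ?_)
      · refine (Polynomial.natDegree_add_le _ _).trans (max_le ?_ ?_)
        · exact (Polynomial.natDegree_C_mul_X_pow_le _ _).trans (by omega)
        · exact (Polynomial.natDegree_C_mul_X_pow_le _ _).trans (by omega)
      · exact Polynomial.natDegree_C_mul_X_pow_le _ _
  have hc : ∀ n, P.coeff n = (if n = 2 then p else 0) + (if n = 2 ^ (m + 1) then q else 0) + (if n = 2 ^ (m + 1) + 2 then r else 0) := by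
    intro n
    rw [hP]
    simp only [Polynomial.coeff_add, Polynomial.coeff_C_mul, Polynomial.coeff_X_pow]
    congr 1
    · congr 1
      · split_ifs <;> simp
      · split_ifs <;> simp
    · split_ifs <;> simp
  refine ⟨?_, ?_, ?_⟩
  · have := hc 2
    rw [hP0, Polynomial.coeff_zero, if_pos rfl, if_neg (by omega), if_neg (by omega)] at this
    simpa using this.symm
  · have := hc (2 ^ (m + 1))
    rw [hP0, Polynomial.coeff_zero, if_neg (by omega), if_pos rfl, if_neg (by omega)] at this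
    simpa using this.symm
  · have := hc (2 ^ (m + 1) + 2)
    rw [hP0, Polynomial.coeff_zero, if_neg (by omega), if_neg (by omega), if_pos rfl] at this
    simpa using this.symm

omit [Fintype F] D in
theorem last_row {g : SpecialLinearGroup (Fin 4) F} (hg : g ∈ Sz F m) (h1 : g • suzukiPointInfinity F = suzukiPointInfinity F) : g.1 3 1 = 0 ∧ g.1 3 2 = 0 := by
  by_contra hcon
  have h30 := (smul_inf_eq_inf.mp h1).2.2
  obtain ⟨x, y, hxy⟩ : ∃ x y : F, g.1 3 1 * y + g.1 3 2 * x + g.1 3 3 = 0 := by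
    by_cases h : g.1 3 1 = 0
    · have h' : g.1 3 2 ≠ 0 := fun h' => hcon ⟨h, h'⟩
      exact ⟨-(g.1 3 3) / g.1 3 2, 0, by field_simp; ring⟩
    · exact ⟨0, -(g.1 3 3) / g.1 3 1, by field_simp; ring⟩
  have hv : (g.1 *ᵥ vec m x y) 3 = 0 := by
    simp only [vec, Matrix.mulVec, dotProduct, Fin.sum_univ_four]
    simp
    rw [h30]
    linear_combination hxy
  rcases mem_ovoid.mp (smul_mem_ovoid hg (pt_mem (m := m) x y)) with h | ⟨x', y', h⟩
  · have h2 : pt m x y = suzukiPointInfinity F := by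
      rw [← h1] at h
      exact smul_left_cancel g h
    exact pt_ne_inf m x y h2
  · obtain ⟨hw, -⟩ := smul_mk' g (vec_ne m x y)
    rw [smul_pt_eq_pt, hv] at h
    apply hw
    ext i
    fin_cases i
    · simpa using h.1
    · simpa using h.2.1
    · simpa using h.2.2
    · exact hv

omit [Fintype F] in
theorem WgW (g : SpecialLinearGroup (Fin 4) F) : (WW F * g * WW F).1 3 1 = g.1 0 2 ∧ (WW F * g * WW F).1 3 2 = g.1 0 1 := by
  constructor
  · show ((!![0, 0, 0, 1; 0, 0, 1, 0; 0, 1, 0, 0; 1, 0, 0, 0] : Matrix (Fin 4) (Fin 4) F) * g.1 * !![0, 0, 0, 1; 0, 0, 1, 0; 0, 1, 0, 0; 1, 0, 0, 0] : Matrix (Fin 4) (Fin 4) F) 3 1 = g.1 0 2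
    simp [Matrix.mul_apply, Matrix.vecMul, dotProduct, Fin.sum_univ_four]
  · show ((!![0, 0, 0, 1; 0, 0, 1, 0; 0, 1, 0, 0; 1, 0, 0, 0] : Matrix (Fin 4) (Fin 4) F) * g.1 * !![0, 0, 0, 1; 0, 0, 1, 0; 0, 1, 0, 0; 1, 0, 0, 0] : Matrix (Fin 4) (Fin 4) F) 3 2 = g.1 0 1
    simp [Matrix.mul_apply, Matrix.vecMul, dotProduct, Fin.sum_univ_four]

omit [Fintype F] in
theorem WW_WW : WW F * WW F = 1 := by
  apply Subtype.ext
  show (!![0, 0, 0, 1; 0, 0, 1, 0; 0, 1, 0, 0; 1, 0, 0, 0] : Matrix (Fin 4) (Fin 4) F) * !![0, 0, 0, 1; 0, 0, 1, 0; 0, 1, 0, 0; 1, 0, 0, 0] = 1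
  ext i j
  fin_cases i <;> fin_cases j <;> simp [Matrix.mul_apply, Fin.sum_univ_four]

include D in
theorem stab2 (hm : 1 ≤ m) (hF : Fintype.card F = 2 ^ (2 * m + 1)) {g : SpecialLinearGroup (Fin 4) F} (hg : g ∈ Sz F m)
    (h1 : g • suzukiPointInfinity F = suzukiPointInfinity F) (h0 : g • pt m (0 : F) 0 = pt m (0 : F) 0) : ∃ μ : Fˣ, g = D.HH μ := by
  obtain ⟨g10, g20, g30⟩ := smul_inf_eq_inf.mp h1
  obtain ⟨g31, g32⟩ := last_row hg h1
  have hg' : WW F * g * WW F ∈ Sz F m := mul_mem (mul_mem D.WW_mem hg) D.WW_mem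
  obtain ⟨g02, g01⟩ := last_row hg' (by rw [mul_smul, mul_smul, WW_inf (m := m), h0, D.WW_zero])
  rw [(WgW g).1] at g02
  rw [(WgW g).2] at g01
  rw [smul_pt_eq_pt] at h0
  obtain ⟨g03, g13, g23⟩ := h0
  simp [vec, Matrix.mulVec, dotProduct, Fin.sum_univ_four, ff] at g03 g13 g23
  obtain ⟨A, hA⟩ : ∃ A, A = g.1 0 0 := ⟨_, rfl⟩
  obtain ⟨d, hd⟩ : ∃ d, d = g.1 3 3 := ⟨_, rfl⟩
  have hdet : A * d * (g.1 1 1 * g.1 2 2 - g.1 1 2 * g.1 2 1) = 1 := by
    have h2 := g.2
    rw [Matrix.det_succ_row_zero] at h2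
    simp [Fin.sum_univ_succ, Matrix.det_succ_row_zero, Matrix.submatrix, Fin.succAbove] at h2
    simp [g10, g20, g30, g31, g32, g01, g02, g03, g13, g23] at h2
    rw [hA, hd]
    linear_combination h2
  have hd0 : d ≠ 0 := by
    rintro rfl
    simp at hdet
  obtain ⟨c, hc⟩ : ∃ c, c = A / d := ⟨_, rfl⟩
  obtain ⟨α, hα⟩ : ∃ α, α = g.1 2 2 / d := ⟨_, rfl⟩
  obtain ⟨β, hβ⟩ : ∃ β, β = g.1 2 1 / d := ⟨_, rfl⟩
  obtain ⟨γ, hγ⟩ : ∃ γ, γ = g.1 1 2 / d := ⟨_, rfl⟩
  obtain ⟨δ, hδ⟩ : ∃ δ, δ = g.1 1 1 / d := ⟨_, rfl⟩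
  have key : ∀ x y : F, ff m (α * x + β * y) (γ * x + δ * y) = c * ff m x y := by
    intro x y
    rcases mem_ovoid.mp (smul_mem_ovoid hg (pt_mem (m := m) x y)) with h | ⟨x', y', h⟩
    · exfalso
      have h2 : pt m x y = suzukiPointInfinity F := by
        rw [← h1] at h
        exact smul_left_cancel g h
      exact pt_ne_inf m x y h2
    · rw [smul_pt_eq_pt] at h
      simp only [vec, Matrix.mulVec, dotProduct, Fin.sum_univ_four] at h
      simp [g10, g20, g30, g31, g32, g01, g02, g03, g13, g23] at h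
      rw [← hA, ← hd] at h
      obtain ⟨e0, e1, e2⟩ := h
      have ey : γ * x + δ * y = y' := by
        rw [hγ, hδ]; field_simp; linear_combination e1
      have ex : α * x + β * y = x' := by
        rw [hα, hβ]; field_simp; linear_combination e2
      rw [ex, ey, hc]
      field_simp
      linear_combination -e0
  have hy : ∀ x : F, (α * γ) * x ^ 2 + D.t γ * D.t x + (α ^ 2 * D.t α + c) * (D.t x * x ^ 2) = 0 := by
    intro x
    have := key x 0
    rw [D.ff_eq, D.ff_eq] at this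
    simp at this
    linear_combination this + c * (D.t x * x ^ 2) * D.two
  have hx : ∀ y : F, (β * δ) * y ^ 2 + (D.t δ + c) * D.t y + (β ^ 2 * D.t β) * (D.t y * y ^ 2) = 0 := by
    intro y
    have := key 0 y
    rw [D.ff_eq, D.ff_eq] at this
    simp at this
    linear_combination this + c * D.t y * D.two
  obtain ⟨-, k1, k2⟩ := D.poly_zero hm hF hy
  obtain ⟨-, k3, k4⟩ := D.poly_zero hm hF hx
  have hγ0 : γ = 0 := D.t_eq_zero.mp k1
  have hβ0 : β = 0 := by
    rcases mul_eq_zero.mp k4 with h | h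
    · exact pow_eq_zero_iff (two_ne_zero) |>.mp h
    · exact D.t_eq_zero.mp h
  have k2 : α ^ 2 * D.t α = c := D.add_eq_zero.mp k2
  have k3 : D.t δ = c := D.add_eq_zero.mp k3
  have k5 : α * δ = c := by
    have := key 1 1
    rw [D.ff_eq, D.ff_eq, hγ0, hβ0] at this
    simp at this
    linear_combination this - k2 - k3
  have e11 : g.1 1 1 = δ * d := by rw [hδ]; field_simp
  have e22 : g.1 2 2 = α * d := by rw [hα]; field_simp
  have e12 : g.1 1 2 = 0 := by
    have : g.1 1 2 = γ * d := by rw [hγ]; field_simp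
    rw [this, hγ0, zero_mul]
  have e21 : g.1 2 1 = 0 := by
    have : g.1 2 1 = β * d := by rw [hβ]; field_simp
    rw [this, hβ0, zero_mul]
  have eA : A = c * d := by rw [hc]; field_simp
  rw [e11, e22, e12, e21, eA] at hdet
  have hcd : c * d ^ 2 = 1 := by
    apply D.sq_inj
    rw [one_pow]
    linear_combination hdet - c * d ^ 4 * k5
  have htd : δ * D.t d = 1 := by
    apply D.sq_inj
    rw [one_pow]
    have h3 := congrArg D.t hcd
    rw [map_mul, map_pow, map_one, ← k3, D.tt] at h3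
    linear_combination h3
  have hμ0 : δ * d ≠ 0 := by
    intro h
    have : (1 : F) = 0 := by linear_combination -hcd - d ^ 2 * k5 + α * d * h
    exact one_ne_zero this
  have htμ : D.t (δ * d) = α := by
    rw [map_mul, k3]
    linear_combination α * htd - D.t d * k5
  refine ⟨Units.mk0 (δ * d) hμ0, ?_⟩
  apply Subtype.ext
  have hH : (D.HH (Units.mk0 (δ * d) hμ0)).1 = !![δ * d * D.t (δ * d), 0, 0, 0; 0, δ * d, 0, 0; 0, 0, (δ * d)⁻¹, 0; 0, 0, 0, (δ * d * D.t (δ * d))⁻¹] := rfl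
  have i1 : (δ * d)⁻¹ = α * d := by
    apply inv_eq_of_mul_eq_one_right
    linear_combination hcd + d ^ 2 * k5
  have i0 : δ * d * D.t (δ * d) = A := by
    rw [htμ, eA]
    linear_combination d * k5
  have i2 : (δ * d * D.t (δ * d))⁻¹ = d := by
    rw [i0, eA]
    have : c * d ≠ 0 := by
      intro h
      have : (1 : F) = 0 := by linear_combination -hcd + d * h
      exact one_ne_zero this
    apply inv_eq_of_mul_eq_one_right
    linear_combination hcd
  rw [hH, i2, i1, i0]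
  ext i j
  fin_cases i <;> fin_cases j
  · simp [hA]
  · simp [g01]
  · simp [g02]
  · simp [g03]
  · simp [g10]
  · simp [e11]
  · simp [e12]
  · simp [g13]
  · simp [g20]
  · simp [e21]
  · simp [e22]
  · simp [g23]
  · simp [g30]
  · simp [g31]
  · simp [g32]
  · simp [hd]

end SD

end CfsgLib.H7S
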