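import Mathlib
import Cfsg.Agent.Lib.H7S3

/-!
# The Suzuki groups: Zassenhaus property
-/

set_option autoImplicit false
set_option linter.style.haveILetI false
set_option linter.unusedSectionVars false

open MulAction Cfsg Matrix
open scoped Pointwise

namespace CfsgLib.H7S

universe u

variable {F : Type u} [Field F] [Fintype F] {m : ℕ}

/-- the point at infinity -/
def oinf (F : Type u) [Field F] (m : ℕ) : suzukiOvoid F m := ⟨suzukiPointInfinity F, inf_mem⟩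

/-- the affine points -/
def opt {F : Type u} [Field F] (m : ℕ) (x y : F) : suzukiOvoid F m := ⟨pt m x y, pt_mem x y⟩

omit [Fintype F] in
theorem opt_ne_inf (x y : F) : opt m x y ≠ oinf F m := fun h => pt_ne_inf m x y (congrArg Subtype.val h)

omit [Fintype F] in
theorem opt_inj {x y x' y' : F} : opt m x y = opt m x' y' ↔ x = x' ∧ y = y' := by
  rw [← pt_inj (m := m)]
  exact Subtype.ext_iff

omit [Fintype F] in
theorem oex (p : suzukiOvoid F m) : p = oinf F m ∨ ∃ x y : F, p = opt m x y := by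
  rcases mem_ovoid.mp p.2 with h | ⟨x, y, h⟩
  · exact Or.inl (Subtype.ext h)
  · exact Or.inr ⟨x, y, Subtype.ext h⟩

instance instFiniteOvoid : Finite (suzukiOvoid F m) := Finite.of_equiv _ (ovoidEquiv F m)

/-- the swap in the Suzuki group -/
def wS (D : SD F m) : Sz F m := ⟨WW F, D.WW_mem⟩

namespace SD

variable (D : SD F m)

/-- root elements in the Suzuki group -/
def T (a b : F) : Sz F m := ⟨D.TT a b, D.TT_mem a b⟩

/-- torus elements in the Suzuki group -/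
def h (μ : Fˣ) : Sz F m := ⟨D.HH μ, D.HH_mem μ⟩

theorem T_inf (a b : F) : D.T a b • oinf F m = oinf F m := Subtype.ext (D.TT_inf a b)

theorem T_pt (a b x y : F) : D.T a b • opt m x y = opt m (x + a) (y + b + D.t a * x) := Subtype.ext (D.TT_pt a b x y)

theorem h_inf (μ : Fˣ) : D.h μ • oinf F m = oinf F m := Subtype.ext (D.HH_inf μ)

theorem h_pt (μ : Fˣ) (x y : F) : D.h μ • opt m x y = opt m (D.t μ * x) (μ ^ 2 * D.t μ * y) := Subtype.ext (D.HH_pt μ x y)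

theorem w_inf : wS D • oinf F m = opt m (0 : F) 0 := Subtype.ext (WW_inf)

theorem w_zero : wS D • opt m (0 : F) 0 = oinf F m := Subtype.ext D.WW_zero

theorem w_pt {x y : F} (h : ff m x y ≠ 0) : wS D • opt m x y = opt m (y / ff m x y) (x / ff m x y) := Subtype.ext (D.WW_pt h)

theorem w_w : wS D * wS D = 1 := Subtype.ext WW_WW

theorem stab2' (hm : 1 ≤ m) (hF : Fintype.card F = 2 ^ (2 * m + 1)) {g : Sz F m}
    (h1 : g • oinf F m = oinf F m) (h0 : g • opt m (0 : F) 0 = opt m (0 : F) 0) : ∃ μ : Fˣ, g = D.h μ := by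
  obtain ⟨μ, hμ⟩ := D.stab2 hm hF g.2 (congrArg Subtype.val h1) (congrArg Subtype.val h0)
  exact ⟨μ, Subtype.ext hμ⟩

theorem T_to_zero (x y : F) : D.T x (y + D.t x * x) • opt m x y = opt m (0 : F) 0 := by
  rw [D.T_pt, opt_inj]
  exact ⟨D.add_self x, by linear_combination (y + D.t x * x) * D.two⟩

theorem T_from_zero (x y : F) : D.T x y • opt m (0 : F) 0 = opt m x y := by
  rw [D.T_pt, opt_inj]
  constructor
  · ring
  · ring

include D in
theorem exists_to_inf (p : suzukiOvoid F m) : ∃ g : Sz F m, g • p = oinf F m := by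
  rcases oex p with rfl | ⟨x, y, rfl⟩
  · exact ⟨1, one_smul _ _⟩
  · exact ⟨wS D * D.T x (y + D.t x * x), by rw [mul_smul, D.T_to_zero, D.w_zero]⟩

include D in
theorem exists_to_std {p q : suzukiOvoid F m} (hpq : p ≠ q) : ∃ g : Sz F m, g • p = oinf F m ∧ g • q = opt m (0 : F) 0 := by
  obtain ⟨g, hg⟩ := D.exists_to_inf p
  rcases oex (g • q) with h | ⟨x, y, h⟩
  · exact absurd (smul_left_cancel g (hg.trans h.symm)) hpq
  · exact ⟨D.T x (y + D.t x * x) * g, by rw [mul_smul, hg, D.T_inf], by rw [mul_smul, h, D.T_to_zero]⟩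

include D in
theorem two_trans : IsMultiplyPretransitive (Sz F m) (suzukiOvoid F m) 2 := by
  rw [is_two_pretransitive_iff]
  intro a b c d hab hcd
  obtain ⟨g, h1, h2⟩ := D.exists_to_std hab
  obtain ⟨k, h3, h4⟩ := D.exists_to_std hcd
  exact ⟨k⁻¹ * g, by rw [mul_smul, h1, ← h3, inv_smul_smul], by rw [mul_smul, h2, ← h4, inv_smul_smul]⟩

theorem h_one : D.h 1 = 1 := by
  apply Subtype.ext
  apply Subtype.ext
  show (!![((1 : Fˣ) : F) * D.t ((1 : Fˣ) : F), 0, 0, 0; 0, ((1 : Fˣ) : F), 0, 0; 0, 0, (((1 : Fˣ) : F))⁻¹, 0; 0, 0, 0, (((1 : Fˣ) : F) * D.t ((1 : Fˣ) : F))⁻¹] : Matrix (Fin 4) (Fin 4) F) = 1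
  ext i j
  fin_cases i <;> fin_cases j <;> simp

theorem h_fix {μ : Fˣ} {x y : F} (hxy : ¬ (x = 0 ∧ y = 0)) (h : D.h μ • opt m x y = opt m x y) : μ = 1 := by
  rw [D.h_pt, opt_inj] at h
  by_cases hx : x = 0
  · have hy : y ≠ 0 := fun hy => hxy ⟨hx, hy⟩
    have h1 : (μ : F) ^ 2 * D.t μ = 1 := mul_right_cancel₀ hy (by rw [h.2, one_mul])
    have h2 : D.t (D.t μ) * D.t μ = 1 := by rw [D.tt, h1]
    have h3 := D.eq_one_of_t_mul h2
    have h4 : (μ : F) = 1 := D.t_inj (by rw [h3, map_one])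
    exact Units.ext h4
  · have h1 : D.t μ = 1 := mul_right_cancel₀ hx (by rw [h.1, one_mul])
    have h4 : (μ : F) = 1 := D.t_inj (by rw [h1, map_one])
    exact Units.ext h4

theorem T_zero : D.T 0 0 = 1 := by
  apply Subtype.ext
  apply Subtype.ext
  show (!![1, 0, 0 + D.t 0 * 0, 0 * 0 + D.t 0 * 0 ^ 2 + D.t 0; 0, 1, D.t 0, 0; 0, 0, 1, 0; 0, 0, 0, 1] : Matrix (Fin 4) (Fin 4) F) = 1
  ext i j
  fin_cases i <;> fin_cases j <;> simp

theorem T_mul (a b c d : F) : D.T a b * D.T c d = D.T (a + c) (b + d + D.t a * c) := by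
  apply Subtype.ext
  apply Subtype.ext
  show (!![1, a, b + D.t a * a, a * b + D.t a * a ^ 2 + D.t b; 0, 1, D.t a, b; 0, 0, 1, a; 0, 0, 0, 1] : Matrix (Fin 4) (Fin 4) F) *
    !![1, c, d + D.t c * c, c * d + D.t c * c ^ 2 + D.t d; 0, 1, D.t c, d; 0, 0, 1, c; 0, 0, 0, 1] =
    !![1, a + c, (b + d + D.t a * c) + D.t (a + c) * (a + c), (a + c) * (b + d + D.t a * c) + D.t (a + c) * (a + c) ^ 2 + D.t (b + d + D.t a * c);
      0, 1, D.t (a + c), (b + d + D.t a * c); 0, 0, 1, (a + c); 0, 0, 0, 1]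
  have h2 := D.two
  have h3 := D.three
  have ht := D.tt
  ext i j
  fin_cases i <;> fin_cases j <;> simp [Matrix.mul_apply, Fin.sum_univ_four, ht]
  all_goals try ring_nf
  all_goals try simp only [h2, h3, mul_zero, add_zero, mul_one]

theorem T_inj {a b c d : F} : D.T a b = D.T c d ↔ a = c ∧ b = d := by
  constructor
  · intro h
    have h1 := D.T_from_zero a b
    rw [h, D.T_from_zero, opt_inj] at h1
    exact ⟨h1.1.symm, h1.2.symm⟩
  · rintro ⟨rfl, rfl⟩; rfl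

theorem T_sq (a b : F) : D.T a b * D.T a b = D.T 0 (D.t a * a) := by
  rw [D.T_mul, D.T_inj]
  exact ⟨D.add_self a, by linear_combination b * D.two⟩

theorem h_mul (μ ν : Fˣ) : D.h μ * D.h ν = D.h (μ * ν) := by
  apply Subtype.ext
  apply Subtype.ext
  show (!![(μ : F) * D.t μ, 0, 0, 0; 0, (μ : F), 0, 0; 0, 0, (μ : F)⁻¹, 0; 0, 0, 0, ((μ : F) * D.t μ)⁻¹] : Matrix (Fin 4) (Fin 4) F) *
    !![(ν : F) * D.t ν, 0, 0, 0; 0, (ν : F), 0, 0; 0, 0, (ν : F)⁻¹, 0; 0, 0, 0, ((ν : F) * D.t ν)⁻¹] =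
    !![((μ * ν : Fˣ) : F) * D.t ((μ * ν : Fˣ) : F), 0, 0, 0; 0, ((μ * ν : Fˣ) : F), 0, 0; 0, 0, (((μ * ν : Fˣ) : F))⁻¹, 0; 0, 0, 0, (((μ * ν : Fˣ) : F) * D.t ((μ * ν : Fˣ) : F))⁻¹]
  have h1 : (μ : F) ≠ 0 := μ.ne_zero
  have h2 : D.t μ ≠ 0 := fun h => h1 (D.t_eq_zero.mp h)
  have h3 : (ν : F) ≠ 0 := ν.ne_zero
  have h4 : D.t ν ≠ 0 := fun h => h3 (D.t_eq_zero.mp h)
  ext i j
  fin_cases i <;> fin_cases j <;> simp [Matrix.mul_apply, Fin.sum_univ_four]
  all_goals field_simp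

theorem h_inj {μ ν : Fˣ} (h : D.h μ = D.h ν) : μ = ν := by
  have h1 := D.h_pt μ 1 0
  rw [h, D.h_pt, opt_inj] at h1
  have h2 : D.t ν = D.t μ := by simpa using h1.1
  exact Units.ext (D.t_inj h2.symm)

end SD

end CfsgLib.H7S
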