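import Mathlib
import Cfsg.Agent.Lib.H7S4
import Cfsg.Agent.Lib.Invol

/-!
# The Suzuki groups are Zassenhaus groups
-/

set_option autoImplicit false
set_option linter.style.haveILetI false
set_option linter.unusedSectionVars false

open MulAction Cfsg Matrix
open scoped Pointwise

namespace CfsgLib.H7S

universe u

variable {F : Type u} [Field F] [Fintype F] {m : ℕ}

namespace SD

variable (D : SD F m)

include D in
theorem faithful (hm : 1 ≤ m) (hF : Fintype.card F = 2 ^ (2 * m + 1)) {g : Sz F m} (hg : ∀ p : suzukiOvoid F m, g • p = p) : g = 1 := by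
  obtain ⟨μ, rfl⟩ := D.stab2' hm hF (hg _) (hg _)
  have h1 := D.h_fix (x := 1) (y := 0) (fun h => one_ne_zero h.1) (hg _)
  rw [h1, D.h_one]

include D in
theorem three_fix (hm : 1 ≤ m) (hF : Fintype.card F = 2 ^ (2 * m + 1)) {g : Sz F m} {p q r : suzukiOvoid F m} (hpq : p ≠ q) (hqr : q ≠ r) (hpr : p ≠ r)
    (hp : g • p = p) (hq : g • q = q) (hr : g • r = r) : g = 1 := by
  obtain ⟨k, h1, h2⟩ := D.exists_to_std hpq
  have h3 : (k * g * k⁻¹) • oinf F m = oinf F m := by rw [← h1, smul_smul, inv_mul_cancel_right, mul_smul, hp]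
  have h4 : (k * g * k⁻¹) • opt m (0 : F) 0 = opt m (0 : F) 0 := by rw [← h2, smul_smul, inv_mul_cancel_right, mul_smul, hq]
  have h5 : (k * g * k⁻¹) • (k • r) = k • r := by rw [smul_smul, inv_mul_cancel_right, mul_smul, hr]
  obtain ⟨μ, hμ⟩ := D.stab2' hm hF h3 h4
  rcases oex (k • r) with h | ⟨x, y, h⟩
  · exact absurd (smul_left_cancel k (h1.trans h.symm)) hpr
  · rw [hμ, h] at h5
    have h6 : ¬ (x = 0 ∧ y = 0) := by
      rintro ⟨rfl, rfl⟩
      exact hqr (smul_left_cancel k (h2.trans h.symm))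
    have h7 := D.h_fix h6 h5
    rw [h7, D.h_one] at hμ
    have h8 : g = k⁻¹ * (k * g * k⁻¹) * k := by group
    rw [h8, hμ]; group

omit [Fintype F] in
theorem card_ge [Fintype F] (hm : 1 ≤ m) (hF : Fintype.card F = 2 ^ (2 * m + 1)) : 8 ≤ Fintype.card F := by
  rw [hF]
  calc 8 = 2 ^ 3 := by norm_num
    _ ≤ 2 ^ (2 * m + 1) := Nat.pow_le_pow_right (by norm_num) (by omega)

theorem exists_ne (hm : 1 ≤ m) (hF : Fintype.card F = 2 ^ (2 * m + 1)) : ∃ b : F, b ≠ 0 ∧ b ≠ 1 := by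
  classical
  by_contra hcon
  push Not at hcon
  have h1 : Fintype.card F ≤ 2 := by
    have : (Finset.univ : Finset F) ⊆ {0, 1} := by
      intro x _
      by_cases h : x = 0
      · simp [h]
      · simp [hcon x h]
    have := Finset.card_le_card this
    rw [Finset.card_univ] at this
    exact this.trans (Finset.card_le_two)
  have := card_ge hm hF
  omega

theorem exists_unit_ne (hm : 1 ≤ m) (hF : Fintype.card F = 2 ^ (2 * m + 1)) : ∃ b : Fˣ, b ≠ 1 := by
  obtain ⟨b, h0, h1⟩ := exists_ne hm hF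
  exact ⟨Units.mk0 b h0, fun h => h1 (congrArg Units.val h)⟩

theorem T_fix {a b : F} (hab : ¬ (a = 0 ∧ b = 0)) {p : suzukiOvoid F m} (hp : D.T a b • p = p) : p = oinf F m := by
  rcases oex p with h | ⟨x, y, rfl⟩
  · exact h
  · exfalso
    rw [D.T_pt, opt_inj] at hp
    apply hab
    have h1 : a = 0 := by linear_combination hp.1
    refine ⟨h1, ?_⟩
    have h2 := hp.2
    rw [h1, map_zero] at h2
    linear_combination h2

include D in
theorem zassenhaus (hm : 1 ≤ m) (hF : Fintype.card F = 2 ^ (2 * m + 1)) : IsZassenhausGroup (Sz F m) (suzukiOvoid F m) := by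
  refine ⟨⟨fun {g k} h => ?_⟩, D.two_trans, ?_, ?_, ?_⟩
  · have h1 : k⁻¹ * g = 1 := D.faithful hm hF (fun p => by rw [mul_smul, h p, inv_smul_smul])
    exact (inv_mul_eq_one.mp h1).symm
  · intro g a b c hab hbc hac ha hb hc
    exact D.three_fix hm hF hab hbc hac ha hb hc
  · obtain ⟨μ, hμ⟩ := exists_unit_ne hm hF
    refine ⟨D.h μ, fun h => hμ (D.h_inj (h.trans D.h_one.symm)), oinf F m, opt m (0 : F) 0, (opt_ne_inf _ _).symm, D.h_inf μ, ?_⟩
    rw [D.h_pt, opt_inj]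
    simp
  · intro N hN hpre
    by_contra hcon
    push Not at hcon
    -- regular normal subgroup
    have key : ∀ b : F, b ≠ 0 → ∀ n ∈ N, D.T 0 b * n * (D.T 0 b)⁻¹ = n⁻¹ := by
      intro b hb
      have hss : D.T 0 b * D.T 0 b = 1 := by rw [D.T_sq, mul_zero, D.T_zero]
      have hsi : (D.T 0 b)⁻¹ = D.T 0 b := inv_eq_of_mul_eq_one_left hss
      have hfpf : ∀ n ∈ N, D.T 0 b * n = n * D.T 0 b → n = 1 := by
        intro n hn hc
        have h1 : D.T 0 b • (n • oinf F m) = n • oinf F m := by rw [← mul_smul, hc, mul_smul, D.T_inf]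
        have h2 := D.T_fix (fun h => hb h.2) h1
        have h3 : (⟨n, hn⟩ : N) ∈ stabilizer N (oinf F m) := h2
        rw [hcon, Subgroup.mem_bot] at h3
        exact congrArg Subtype.val h3
      obtain ⟨f, hf⟩ : ∃ f : N → N, ∀ n : N, (f n : Sz F m) = (n : Sz F m)⁻¹ * (D.T 0 b * n * (D.T 0 b)⁻¹) :=
        ⟨fun n => ⟨(n : Sz F m)⁻¹ * (D.T 0 b * n * (D.T 0 b)⁻¹), mul_mem (inv_mem n.2) (hN.conj_mem _ n.2 _)⟩, fun n => rfl⟩
      have hfinj : Function.Injective f := by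
        intro n k hnk
        have h1 := congrArg (Subtype.val : N → Sz F m) hnk
        rw [hf, hf] at h1
        have h2 : D.T 0 b * ((k : Sz F m)  * (n : Sz F m)⁻¹) = ((k : Sz F m) * (n : Sz F m)⁻¹) * D.T 0 b := by
          have h3 : (k : Sz F m) * ((n : Sz F m)⁻¹ * (D.T 0 b * n * (D.T 0 b)⁻¹)) = D.T 0 b * k * (D.T 0 b)⁻¹ := by rw [h1]; group
          calc D.T 0 b * ((k : Sz F m)  * (n : Sz F m)⁻¹) = (D.T 0 b * k * (D.T 0 b)⁻¹) * D.T 0 b * (n : Sz F m)⁻¹ := by group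
            _ = ((k : Sz F m) * ((n : Sz F m)⁻¹ * (D.T 0 b * n * (D.T 0 b)⁻¹))) * D.T 0 b * (n : Sz F m)⁻¹ := by rw [h3]
            _ = ((k : Sz F m) * (n : Sz F m)⁻¹) * D.T 0 b := by group
        have h3 := hfpf _ (mul_mem k.2 (inv_mem n.2)) h2
        exact Subtype.ext (mul_inv_eq_one.mp h3).symm
      have hfsurj := Finite.surjective_of_injective hfinj
      intro n hn
      obtain ⟨k, hk⟩ := hfsurj ⟨n, hn⟩
      have h1 := hf k
      rw [hk] at h1
      have h1 : n = (k : Sz F m)⁻¹ * (D.T 0 b * k * (D.T 0 b)⁻¹) := h1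
      rw [h1, hsi]
      calc D.T 0 b * ((k : Sz F m)⁻¹ * (D.T 0 b * k * D.T 0 b)) * D.T 0 b = D.T 0 b * (k : Sz F m)⁻¹ * D.T 0 b * k * (D.T 0 b * D.T 0 b) := by group
        _ = D.T 0 b * (k : Sz F m)⁻¹ * D.T 0 b * k := by rw [hss, mul_one]
        _ = (D.T 0 b)⁻¹ * (k : Sz F m)⁻¹ * (D.T 0 b)⁻¹ * k := by rw [hsi]
        _ = ((k : Sz F m)⁻¹ * (D.T 0 b * k * D.T 0 b))⁻¹ := by group
    obtain ⟨b, hb0, hb1⟩ := exists_ne hm hF
    have hcen : ∀ n ∈ N, (D.T 0 b * D.T 0 1) * n = n * (D.T 0 b * D.T 0 1) := by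
      intro n hn
      have h1 := key 1 one_ne_zero n hn
      have h2 := key b hb0 n⁻¹ (inv_mem hn)
      rw [inv_inv] at h2
      rw [← h1] at h2
      calc (D.T 0 b * D.T 0 1) * n = (D.T 0 b * (D.T 0 1 * n * (D.T 0 1)⁻¹) * (D.T 0 b)⁻¹) * (D.T 0 b * D.T 0 1) := by group
        _ = n * (D.T 0 b * D.T 0 1) := by rw [h2]
    have h1 : D.T 0 b * D.T 0 1 = 1 := by
      apply D.faithful hm hF
      intro p
      obtain ⟨n, hn⟩ := hpre.exists_smul_eq (oinf F m) p
      have hn' : (n : Sz F m) • oinf F m = p := hn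
      rw [← hn', ← mul_smul, hcen n n.2, mul_smul, mul_smul, D.T_inf, D.T_inf]
    rw [D.T_mul, ← D.T_zero, D.T_inj] at h1
    apply hb1
    have h2 := h1.2
    rw [map_zero, zero_mul, add_zero] at h2
    exact D.add_eq_zero.mp h2

end SD

end CfsgLib.H7S
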