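import Mathlib
import Cfsg.Agent.Lib.PermG3

set_option autoImplicit false

namespace CfsgLib.PermG4

open MulAction CfsgLib.PermG3

universe u v

section sharp2

variable {α : Type u} [Fintype α] [DecidableEq α] (G : Type v) [Group G] [Finite G] [MulAction G α]

/-- sharp 2-transitivity in elementwise form -/
theorem sharp_two (hsharp : ∀ x : Fin 2 ↪ α, stabilizer G x = ⊥) {a b : α} (hab : a ≠ b) {g : G}
    (ha : g • a = a) (hb : g • b = b) : g = 1 := by
  let x : Fin 2 ↪ α := ⟨![a, b], by
    intro i j hij
    fin_cases i <;> fin_cases j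
    · rfl
    · exact absurd hij hab
    · exact absurd hij.symm hab
    · rfl⟩
  have : g ∈ stabilizer G x := by
    rw [mem_stabilizer_iff]
    ext i
    fin_cases i
    · exact ha
    · exact hb
  rw [hsharp, Subgroup.mem_bot] at this
  exact this

theorem card_sharp_two (h2 : IsMultiplyPretransitive G α 2)
    (hsharp : ∀ x : Fin 2 ↪ α, stabilizer G x = ⊥) (hα : 2 ≤ Fintype.card α) :
    Nat.card G = Fintype.card α * (Fintype.card α - 1) := by
  classical
  have hne : Nonempty (Fin 2 ↪ α) := by
    apply Function.Embedding.nonempty_of_card_le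
    rwa [Fintype.card_fin]
  obtain ⟨x⟩ := hne
  have hbij : Function.Bijective (fun g : G => g • x) := by
    constructor
    · intro g g' h
      have h' : g • x = g' • x := h
      have h1 : g'⁻¹ * g ∈ stabilizer G x := by
        rw [mem_stabilizer_iff, mul_smul]
        exact inv_smul_eq_iff.2 h'
      rw [hsharp, Subgroup.mem_bot, inv_mul_eq_one] at h1
      exact h1.symm
    · intro y
      exact h2.exists_smul_eq x y
  rw [Nat.card_congr (Equiv.ofBijective _ hbij), Nat.card_eq_fintype_card, Fintype.card_embedding_eq,
    Fintype.card_fin, Nat.descFactorial_succ, Nat.descFactorial_one]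
  ring

theorem card_stab_sharp_two (h2 : IsMultiplyPretransitive G α 2)
    (hsharp : ∀ x : Fin 2 ↪ α, stabilizer G x = ⊥) (hα : 2 ≤ Fintype.card α) (a : α) :
    Nat.card (stabilizer G a) = Fintype.card α - 1 := by
  classical
  obtain ⟨b, hb⟩ := Fintype.exists_ne_of_one_lt_card (by omega) a
  have hbij : Function.Bijective (fun g : stabilizer G a => (⟨(g : G) • b, fun h => hb (by
      have h1 : (g : G) • a = a := g.2
      exact smul_left_cancel (g : G) (h.trans h1.symm))⟩ : {x // x ≠ a})) := by
    constructor
    · intro g g' h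
      have h' : (g : G) • b = (g' : G) • b := congrArg Subtype.val h
      apply Subtype.ext
      have h1 : ((g' : G)⁻¹ * (g : G)) = 1 := by
        apply sharp_two G hsharp hb.symm
        · rw [mul_smul, (g.2 : (g : G) • a = a), inv_smul_eq_iff, (g'.2 : (g' : G) • a = a)]
        · rw [mul_smul, h', inv_smul_smul]
      rw [inv_mul_eq_one] at h1
      exact h1.symm
    · rintro ⟨y, hy⟩
      obtain ⟨g, hg1, hg2⟩ := (mt_two_iff.1 h2) a b a y hb.symm (Ne.symm hy)
      exact ⟨⟨g, hg1⟩, Subtype.ext hg2⟩
  rw [Nat.card_congr (Equiv.ofBijective _ hbij), Nat.card_eq_fintype_card, Fintype.card_subtype_compl,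
    Fintype.card_subtype_eq]

/-- the derangements together with the identity -/
theorem sharp_two_kernel (h2 : IsMultiplyPretransitive G α 2)
    (hsharp : ∀ x : Fin 2 ↪ α, stabilizer G x = ⊥) (hα : 2 ≤ Fintype.card α) :
    ∃ (p j : ℕ) (A : Subgroup G), p.Prime ∧ 1 ≤ j ∧ Fintype.card α = p ^ j ∧ A.Normal ∧
      (∀ x ∈ A, ∀ y ∈ A, x * y = y * x) ∧ (∀ x ∈ A, x ^ p = 1) ∧ Nat.card A = Fintype.card α ∧
      (∀ g : G, g ∈ A ↔ g = 1 ∨ ∀ a : α, g • a ≠ a) := by
  classical
  set n := Fintype.card α with hn
  have hcardG := card_sharp_two G h2 hsharp hα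
  -- number of elements with no fixed point
  letI : Fintype G := Fintype.ofFinite G
  have hfix : ∀ g : G, g ≠ 1 → (∃ a : α, g • a = a) → ∃! a : α, g • a = a := by
    rintro g hg ⟨a, ha⟩
    refine ⟨a, ha, ?_⟩
    intro b hb
    by_contra hab
    exact hg (sharp_two G hsharp (Ne.symm hab) ha hb)
  -- count: nonidentity elements with a fixed point
  have hcount1 : (Finset.univ.filter (fun g : G => g ≠ 1 ∧ ∃ a : α, g • a = a)).card = n * (n - 2) := by
    have h1 : (Finset.univ.filter (fun g : G => g ≠ 1 ∧ ∃ a : α, g • a = a)) =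
        Finset.univ.biUnion (fun a : α => Finset.univ.filter (fun g : G => g ≠ 1 ∧ g • a = a)) := by
      ext g
      simp only [Finset.mem_filter, Finset.mem_univ, true_and, Finset.mem_biUnion]
      constructor
      · rintro ⟨h, a, ha⟩; exact ⟨a, h, ha⟩
      · rintro ⟨a, h, ha⟩; exact ⟨h, a, ha⟩
    rw [h1, Finset.card_biUnion]
    · have h3 : ∀ a : α, (Finset.univ.filter (fun g : G => g ≠ 1 ∧ g • a = a)).card = n - 2 := by
        intro a
        have h4 : (Finset.univ.filter (fun g : G => g ≠ 1 ∧ g • a = a)) =
            (Finset.univ.filter (fun g : G => g • a = a)).erase 1 := by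
          ext g
          simp [Finset.mem_erase]
        rw [h4, Finset.card_erase_of_mem (by simp)]
        have h5 : (Finset.univ.filter (fun g : G => g • a = a)).card = n - 1 := by
          rw [← card_stab_sharp_two G h2 hsharp hα a, Nat.card_eq_fintype_card]
          exact (Fintype.card_subtype _).symm
        rw [h5]
        omega
      rw [Finset.sum_congr rfl (fun a _ => h3 a), Finset.sum_const, Finset.card_univ, smul_eq_mul]
    · intro a _ b _ hab
      rw [Function.onFun, Finset.disjoint_left]
      intro g hg hg'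
      simp only [Finset.mem_filter, Finset.mem_univ, true_and] at hg hg'
      exact hg.1 (sharp_two G hsharp hab hg.2 hg'.2)
  set D := (Finset.univ.filter (fun g : G => ∀ a : α, g • a ≠ a)) with hD
  have hcountD : D.card = n - 1 := by
    have h1 : (Finset.univ : Finset G) = insert 1 ((Finset.univ.filter (fun g : G => g ≠ 1 ∧ ∃ a : α, g • a = a)) ∪ D) := by
      ext g
      simp only [Finset.mem_univ, Finset.mem_insert, Finset.mem_union, Finset.mem_filter, true_and, hD, true_iff]
      by_cases hg : g = 1
      · exact Or.inl hg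
      · right
        by_cases h : ∃ a : α, g • a = a
        · exact Or.inl ⟨hg, h⟩
        · right
          push Not at h
          exact h
    have h2' : (Finset.univ : Finset G).card = n * (n - 1) := by
      rw [Finset.card_univ, ← Nat.card_eq_fintype_card, hcardG]
    haveI : Nonempty α := Fintype.card_pos_iff.1 (by omega)
    rw [h1, Finset.card_insert_of_notMem, Finset.card_union_of_disjoint, hcount1] at h2'
    · obtain ⟨m, hm⟩ : ∃ m, n = m + 2 := ⟨n - 2, by omega⟩
      rw [hm] at h2' ⊢
      have e1 : m + 2 - 2 = m := by omega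
      have e2 : m + 2 - 1 = m + 1 := by omega
      rw [e1, e2] at h2'
      rw [e2]
      nlinarith [h2']
    · rw [Finset.disjoint_left]
      intro g hg hg'
      simp only [Finset.mem_filter, Finset.mem_univ, true_and, hD] at hg hg'
      obtain ⟨a, ha⟩ := hg.2
      exact hg' a ha
    · simp only [Finset.mem_union, Finset.mem_filter, Finset.mem_univ, true_and, hD, not_or]
      refine ⟨fun h => h.1 rfl, ?_⟩
      push Not
      obtain ⟨a⟩ : Nonempty α := inferInstance
      exact ⟨a, one_smul _ _⟩
  -- prime dividing n
  obtain ⟨p, hp, hpn⟩ := Nat.exists_prime_and_dvd (n := n) (by omega)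
  haveI := Fact.mk hp
  obtain ⟨z, hz⟩ := exists_prime_orderOf_dvd_card' (G := G) p (by rw [hcardG]; exact Dvd.dvd.mul_right hpn _)
  have hz1 : z ≠ 1 := by
    rintro rfl
    rw [orderOf_one] at hz
    exact hp.one_lt.ne hz
  have hzD : z ∈ D := by
    rw [hD, Finset.mem_filter]
    refine ⟨Finset.mem_univ _, fun a ha => ?_⟩
    have h1 : orderOf (⟨z, ha⟩ : stabilizer G a) ∣ Nat.card (stabilizer G a) := orderOf_dvd_natCard _
    rw [card_stab_sharp_two G h2 hsharp hα a, ← Subgroup.orderOf_coe] at h1
    change orderOf z ∣ _ at h1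
    rw [hz] at h1
    have h2 : p ∣ 1 := by
      have h3 := Nat.dvd_sub hpn h1
      have h4 : n - (n - 1) = 1 := by omega
      rwa [h4] at h3
    exact hp.one_lt.ne' (Nat.dvd_one.1 h2)
  -- centraliser of a derangement is semiregular
  have hDconj : ∀ g x : G, x ∈ D → g * x * g⁻¹ ∈ D := by
    intro g x hx
    rw [hD, Finset.mem_filter] at hx ⊢
    refine ⟨Finset.mem_univ _, fun a ha => ?_⟩
    apply hx.2 (g⁻¹ • a)
    rw [mul_smul, mul_smul] at ha
    rw [eq_inv_smul_iff]
    exact ha
  have hcent : ∀ x ∈ D, ∀ c : G, c * x = x * c → c = 1 ∨ c ∈ D := by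
    intro x hx c hc
    by_cases h : ∃ a : α, c • a = a
    · left
      obtain ⟨a, ha⟩ := h
      rw [hD, Finset.mem_filter] at hx
      apply sharp_two G hsharp (a := a) (b := x • a) (Ne.symm (hx.2 a)) ha
      rw [← mul_smul, hc, mul_smul, ha]
    · right
      push Not at h
      rw [hD, Finset.mem_filter]
      exact ⟨Finset.mem_univ _, h⟩
  have hcentcard : ∀ x ∈ D, Nat.card (Subgroup.centralizer ({x} : Set G)) ≤ n := by
    intro x hx
    have h1 : Nat.card (Subgroup.centralizer ({x} : Set G)) ≤ (insert 1 D).card := by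
      rw [Nat.card_eq_fintype_card]
      have : Fintype.card (Subgroup.centralizer ({x} : Set G)) = (Finset.univ.filter (fun g : G => g ∈ Subgroup.centralizer ({x} : Set G))).card :=
        Fintype.card_subtype _
      rw [this]
      apply Finset.card_le_card
      intro c hc
      rw [Finset.mem_filter, Subgroup.mem_centralizer_singleton_iff] at hc
      rw [Finset.mem_insert]
      exact hcent x hx c hc.2
    refine h1.trans ((Finset.card_insert_le _ _).trans ?_)
    rw [hcountD]
    omega
  -- the class of `x`
  have hclass : ∀ x ∈ D, ∀ y ∈ D, ∃ g : G, g * x * g⁻¹ = y := by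
    intro x hx
    let C : Finset G := Finset.univ.image (fun g : G => g * x * g⁻¹)
    have hCD : C ⊆ D := by
      intro y hy
      obtain ⟨g, -, rfl⟩ := Finset.mem_image.1 hy
      exact hDconj g x hx
    have hCcard : C.card * Nat.card (Subgroup.centralizer ({x} : Set G)) = Nat.card G := by
      have h3 : C.card = Nat.card (orbit (ConjAct G) x) := by
        rw [Nat.card_eq_fintype_card, ← Set.toFinset_card]
        congr 1
        ext y
        simp only [C, Finset.mem_image, Finset.mem_univ, true_and, Set.mem_toFinset]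
        constructor
        · rintro ⟨g, rfl⟩; exact ⟨ConjAct.toConjAct g, rfl⟩
        · rintro ⟨g, rfl⟩; exact ⟨ConjAct.ofConjAct g, rfl⟩
      have h4 : Nat.card (stabilizer (ConjAct G) x) = Nat.card (Subgroup.centralizer ({x} : Set G)) := by
        apply Nat.card_congr
        refine ⟨fun g => ⟨ConjAct.ofConjAct (g : ConjAct G), ?_⟩, fun g => ⟨ConjAct.toConjAct (g : G), ?_⟩, fun g => rfl, fun g => rfl⟩
        · rw [Subgroup.mem_centralizer_singleton_iff]
          have h5 : ConjAct.ofConjAct (g : ConjAct G) * x * (ConjAct.ofConjAct (g : ConjAct G))⁻¹ = x := g.2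
          rwa [mul_inv_eq_iff_eq_mul] at h5
        · have h5 := Subgroup.mem_centralizer_singleton_iff.1 g.2
          change (g : G) * x * (g : G)⁻¹ = x
          rw [mul_inv_eq_iff_eq_mul]
          exact h5
      rw [h3, ← h4]
      have h6 := Nat.card_congr (orbitProdStabilizerEquivGroup (ConjAct G) x)
      rw [Nat.card_prod] at h6
      exact h6
    have hCD' : C = D := by
      apply Finset.eq_of_subset_of_card_le hCD
      rw [hcountD]
      rw [hcardG] at hCcard
      have h5 := hcentcard x hx
      by_contra hlt
      push Not at hlt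
      have h6 : C.card * Nat.card (Subgroup.centralizer ({x} : Set G)) < (n - 1) * n :=
        calc _ ≤ C.card * n := Nat.mul_le_mul_left _ h5
          _ < (n - 1) * n := Nat.mul_lt_mul_of_pos_right hlt (by omega)
      rw [hCcard, mul_comm] at h6
      exact lt_irrefl _ h6
    intro y hy
    rw [← hCD'] at hy
    obtain ⟨g, -, hg⟩ := Finset.mem_image.1 hy
    exact ⟨g, hg⟩
  have hcentall : ∀ x ∈ D, ∀ y ∈ D, y * x = x * y := by
    intro x hx
    have h1 : Nat.card (Subgroup.centralizer ({x} : Set G)) = n := by
      apply le_antisymm (hcentcard x hx)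
      -- class size at most n-1
      have hCcard : Nat.card (orbit (ConjAct G) x) * Nat.card (stabilizer (ConjAct G) x) = Nat.card G := by
        have h6 := Nat.card_congr (orbitProdStabilizerEquivGroup (ConjAct G) x)
        rw [Nat.card_prod] at h6
        exact h6
      have h4 : Nat.card (stabilizer (ConjAct G) x) = Nat.card (Subgroup.centralizer ({x} : Set G)) := by
        apply Nat.card_congr
        refine ⟨fun g => ⟨ConjAct.ofConjAct (g : ConjAct G), ?_⟩, fun g => ⟨ConjAct.toConjAct (g : G), ?_⟩, fun g => rfl, fun g => rfl⟩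
        · rw [Subgroup.mem_centralizer_singleton_iff]
          have h5 : ConjAct.ofConjAct (g : ConjAct G) * x * (ConjAct.ofConjAct (g : ConjAct G))⁻¹ = x := g.2
          rwa [mul_inv_eq_iff_eq_mul] at h5
        · have h5 := Subgroup.mem_centralizer_singleton_iff.1 g.2
          change (g : G) * x * (g : G)⁻¹ = x
          rw [mul_inv_eq_iff_eq_mul]
          exact h5
      have h3 : Nat.card (orbit (ConjAct G) x) ≤ n - 1 := by
        rw [Nat.card_eq_fintype_card, ← Set.toFinset_card, ← hcountD]
        apply Finset.card_le_card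
        intro y hy
        rw [Set.mem_toFinset] at hy
        obtain ⟨g, rfl⟩ := hy
        exact hDconj (ConjAct.ofConjAct g) x hx
      rw [h4, hcardG] at hCcard
      by_contra hlt
      push Not at hlt
      have h6 : Nat.card (orbit (ConjAct G) x) * Nat.card (Subgroup.centralizer ({x} : Set G)) < (n - 1) * n := by
        calc _ ≤ (n - 1) * Nat.card (Subgroup.centralizer ({x} : Set G)) := Nat.mul_le_mul_right _ h3
          _ < (n - 1) * n := Nat.mul_lt_mul_of_pos_left hlt (by omega)
      rw [hCcard, mul_comm] at h6
      exact lt_irrefl _ h6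
    have h2 : (Finset.univ.filter (fun g : G => g ∈ Subgroup.centralizer ({x} : Set G))) = insert 1 D := by
      apply Finset.eq_of_subset_of_card_le
      · intro c hc
        rw [Finset.mem_filter, Subgroup.mem_centralizer_singleton_iff] at hc
        rw [Finset.mem_insert]
        exact hcent x hx c hc.2
      · refine (Finset.card_insert_le _ _).trans ?_
        rw [hcountD]
        have : Fintype.card (Subgroup.centralizer ({x} : Set G)) = (Finset.univ.filter (fun g : G => g ∈ Subgroup.centralizer ({x} : Set G))).card :=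
          Fintype.card_subtype _
        rw [← this, ← Nat.card_eq_fintype_card, h1]
        omega
    intro y hy
    have h3 : y ∈ (Finset.univ.filter (fun g : G => g ∈ Subgroup.centralizer ({x} : Set G))) := by
      rw [h2]; exact Finset.mem_insert_of_mem hy
    rw [Finset.mem_filter, Subgroup.mem_centralizer_singleton_iff] at h3
    exact h3.2
  have hmemD : ∀ g : G, g ∈ D ↔ ∀ a : α, g • a ≠ a := by
    intro g
    rw [hD, Finset.mem_filter]
    simp
  let A : Subgroup G :=
    { carrier := {g | g = 1 ∨ g ∈ D}
      mul_mem' := by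
        rintro x y (rfl | hx) (rfl | hy)
        · left; rw [one_mul]
        · right; rw [one_mul]; exact hy
        · right; rw [mul_one]; exact hx
        · exact hcent x hx (x * y) (by rw [mul_assoc, hcentall x hx y hy])
      one_mem' := Or.inl rfl
      inv_mem' := by
        rintro x (rfl | hx)
        · left; rw [inv_one]
        · right
          rw [hmemD] at hx ⊢
          intro a ha
          rw [inv_smul_eq_iff] at ha
          exact hx a ha.symm }
  have hAmem : ∀ g : G, g ∈ A ↔ g = 1 ∨ g ∈ D := fun g => Iff.rfl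
  have hord : ∀ x ∈ D, x ^ p = 1 := by
    intro x hx
    obtain ⟨g, hg⟩ := hclass z hzD x hx
    rw [← hg, conj_pow, ← hz, pow_orderOf_eq_one, mul_one, mul_inv_cancel]
  have hAp : ∀ x ∈ A, x ^ p = 1 := by
    rintro x (rfl | hx)
    · exact one_pow _
    · exact hord x hx
  have hAcard : Nat.card A = n := by
    have h1 : Nat.card A = (insert 1 D).card := by
      rw [Nat.card_eq_fintype_card]
      have : Fintype.card A = (Finset.univ.filter (fun g : G => g ∈ A)).card := Fintype.card_subtype _
      rw [this]
      congr 1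
      ext g
      simp [hAmem]
    rw [h1, Finset.card_insert_of_notMem, hcountD]
    · omega
    · rw [hmemD]
      push Not
      haveI : Nonempty α := Fintype.card_pos_iff.1 (by omega)
      obtain ⟨a⟩ : Nonempty α := inferInstance
      exact ⟨a, one_smul _ _⟩
  have hApg : IsPGroup p A := by
    intro x
    refine ⟨1, ?_⟩
    rw [pow_one]
    exact Subtype.ext (hAp x x.2)
  obtain ⟨j, hj⟩ := IsPGroup.iff_card.1 hApg
  rw [hAcard] at hj
  refine ⟨p, j, A, hp, ?_, hj, ⟨?_⟩, ?_, hAp, hAcard, ?_⟩
  · by_contra h
    have : j = 0 := by omega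
    rw [this, pow_zero] at hj
    omega
  · rintro x (rfl | hx) g
    · left; rw [mul_one, mul_inv_cancel]
    · right; exact hDconj g x hx
  · rintro x (rfl | hx) y (rfl | hy)
    · rfl
    · rw [one_mul, mul_one]
    · rw [one_mul, mul_one]
    · exact hcentall y hy x hx
  · intro g
    rw [hAmem, hmemD]

end sharp2

end CfsgLib.PermG4
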