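import Mathlib
import Cfsg.Prelude.Def_Perm
import Cfsg.Agent.Lib.PermG4

set_option autoImplicit false

namespace CfsgLib.PermG5

open MulAction CfsgLib.PermG3 CfsgLib.PermG4 Cfsg

universe u

variable {α : Type u} [Fintype α] [DecidableEq α] (G : Subgroup (Equiv.Perm α))

theorem exists_nearField (h2 : IsMultiplyPretransitive G α 2)
    (hsharp : ∀ x : Fin 2 ↪ α, stabilizer G x = ⊥) (a₀ a₁ : α) (h01 : a₀ ≠ a₁) :
    ∃ nf : NearField α, nf.toAddGroup.toSubNegMonoid.toAddMonoid.toAddSemigroup.toAdd = nf.toAddGroup.toSubNegMonoid.toAddMonoid.toAddSemigroup.toAdd ∧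
      (0 : α) = a₀ ∧ (1 : α) = a₁ ∧
      (∀ σ : Equiv.Perm α, σ ∈ G ↔ ∃ a b : α, a ≠ 0 ∧ ∀ x : α, σ x = x * a + b) ∧
      (∀ g : G, g • a₀ = a₀ → ∀ x : α, g • x = x * (g • a₁)) := by
  classical
  have hα : 2 ≤ Fintype.card α := by
    rw [← Nat.lt_iff_add_one_le, Fintype.one_lt_card_iff]
    exact ⟨a₀, a₁, h01⟩
  obtain ⟨p, j, A, hp, hj1, hj, hAn, hAc, hAp, hAcard, hAmem⟩ := sharp_two_kernel G h2 hsharp hα
  -- A is regular
  have hAuniq : ∀ s t : G, s ∈ A → t ∈ A → ∀ a : α, s • a = t • a → s = t := by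
    intro s t hs ht a h
    have h1 : t⁻¹ * s ∈ A := mul_mem (inv_mem ht) hs
    rcases (hAmem _).1 h1 with h2 | h2
    · rw [inv_mul_eq_one] at h2
      exact h2.symm
    · exact absurd (by rw [mul_smul, h, inv_smul_smul]) (h2 a)
  have hAreg : ∀ x : α, ∃ s : G, s ∈ A ∧ s • a₀ = x := by
    have hbij : Function.Bijective (fun s : A => (s : G) • a₀) := by
      rw [Fintype.bijective_iff_injective_and_card]
      constructor
      · intro s t h
        exact Subtype.ext (hAuniq s t s.2 t.2 a₀ h)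
      · rw [← hAcard, Nat.card_eq_fintype_card]
    intro x
    obtain ⟨s, hs⟩ := hbij.2 x
    exact ⟨s, s.2, hs⟩
  choose T hTA hT using hAreg
  have hMex : ∀ a : α, ∃ m : G, a ≠ a₀ → (m • a₀ = a₀ ∧ m • a₁ = a) := by
    intro a
    by_cases ha : a = a₀
    · exact ⟨1, fun h => absurd ha h⟩
    · obtain ⟨m, hm⟩ := mt_two_iff.1 h2 a₀ a₁ a₀ a h01 (Ne.symm ha)
      exact ⟨m, fun _ => hm⟩
  choose M hM using hMex
  have hMuniq : ∀ g h : G, g • a₀ = h • a₀ → g • a₁ = h • a₁ → g = h := by
    intro g h h0 h1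
    have : h⁻¹ * g = 1 := sharp_two G hsharp h01 (by rw [mul_smul, h0, inv_smul_smul])
      (by rw [mul_smul, h1, inv_smul_smul])
    rw [inv_mul_eq_one] at this
    exact this.symm
  have hTeq : ∀ s : G, s ∈ A → T (s • a₀) = s := fun s hs => hAuniq _ _ (hTA _) hs a₀ (hT _)
  have hT0 : T a₀ = 1 := by
    have := hTeq 1 (one_mem _)
    rwa [one_smul] at this
  have hTadd : ∀ y z : α, T (T z • y) = T z * T y := by
    intro y z
    have h1 := hTeq (T z * T y) (mul_mem (hTA z) (hTA y))
    rwa [mul_smul, hT] at h1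
  have hMeq : ∀ g : G, g • a₀ = a₀ → M (g • a₁) = g := by
    intro g hg
    have hne : g • a₁ ≠ a₀ := by
      intro h
      exact h01 (smul_left_cancel g (hg.trans h.symm))
    have h1 := hM _ hne
    exact hMuniq _ _ (by rw [h1.1, hg]) h1.2
  have hM1 : M a₁ = 1 := by
    have := hMeq 1 (one_smul _ _)
    rwa [one_smul] at this
  have hMne : ∀ a b : α, a ≠ a₀ → b ≠ a₀ → M b • a ≠ a₀ := by
    intro a b ha hb h
    apply ha
    exact smul_left_cancel (M b) (h.trans (hM b hb).1.symm)
  have hMmul : ∀ a b : α, a ≠ a₀ → b ≠ a₀ → M (M b • a) = M b * M a := by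
    intro a b ha hb
    have h1 := hMeq (M b * M a) (by rw [mul_smul, (hM a ha).1, (hM b hb).1])
    rwa [mul_smul, (hM a ha).2] at h1
  have hMT : ∀ c y x : α, c ≠ a₀ → M c • (T y • x) = T (M c • y) • (M c • x) := by
    intro c y x hc
    have h1 : M c * T y * (M c)⁻¹ ∈ A := hAn.conj_mem _ (hTA y) _
    have h2 := hTeq _ h1
    have h3 : (M c * T y * (M c)⁻¹) • a₀ = M c • y := by
      have h4 : (M c)⁻¹ • a₀ = a₀ := by
        rw [inv_smul_eq_iff]; exact (hM c hc).1.symm
      rw [mul_smul, mul_smul, h4, hT]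
    rw [h3] at h2
    rw [h2, ← mul_smul, ← mul_smul, inv_mul_cancel_right]
  let nf : NearField α :=
    { add := fun x y => T y • x
      add_assoc := fun x y z => by
        change T z • (T y • x) = T (T z • y) • x
        rw [hTadd, mul_smul]
      zero := a₀
      zero_add := fun x => hT x
      add_zero := fun x => by
        change T a₀ • x = x
        rw [hT0, one_smul]
      nsmul := @nsmulRec _ ⟨a₀⟩ ⟨fun x y => T y • x⟩
      neg := fun x => (T x)⁻¹ • a₀
      zsmul := @zsmulRec _ ⟨a₀⟩ ⟨fun x y => T y • x⟩ ⟨fun x => (T x)⁻¹ • a₀⟩ (@nsmulRec _ ⟨a₀⟩ ⟨fun x y => T y • x⟩)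
      neg_add_cancel := fun x => by
        change T x • ((T x)⁻¹ • a₀) = a₀
        rw [smul_inv_smul]
      mul := fun x a => if a = a₀ then a₀ else M a • x
      mul_assoc := fun x a b => by
        change (if b = a₀ then a₀ else M b • (if a = a₀ then a₀ else M a • x)) =
          if (if b = a₀ then a₀ else M b • a) = a₀ then a₀ else M (if b = a₀ then a₀ else M b • a) • x
        by_cases hb : b = a₀
        · rw [if_pos hb, if_pos hb, if_pos rfl]
        · rw [if_neg hb, if_neg hb]
          by_cases ha : a = a₀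
          · rw [if_pos ha, ha, (hM b hb).1, if_pos rfl]
          · rw [if_neg ha, if_neg (hMne a b ha hb), hMmul a b ha hb, mul_smul]
      one := a₁
      one_mul := fun a => by
        change (if a = a₀ then a₀ else M a • a₁) = a
        by_cases ha : a = a₀
        · rw [if_pos ha, ha]
        · rw [if_neg ha, (hM a ha).2]
      mul_one := fun a => by
        change (if a₁ = a₀ then a₀ else M a₁ • a) = a
        rw [if_neg h01.symm, hM1, one_smul]
      npow := @npowRec _ ⟨a₁⟩ ⟨fun x a => if a = a₀ then a₀ else M a • x⟩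
      right_distrib := fun x y c => by
        change (if c = a₀ then a₀ else M c • (T y • x)) =
          T (if c = a₀ then a₀ else M c • y) • (if c = a₀ then a₀ else M c • x)
        by_cases hc : c = a₀
        · rw [if_pos hc, if_pos hc, if_pos hc, hT0, one_smul]
        · rw [if_neg hc, if_neg hc, if_neg hc, hMT c y x hc]
      mul_zero := fun a => if_pos rfl
      zero_ne_one := h01
      exists_inv := fun a ha => by
        have ha' : a ≠ a₀ := ha
        have h1 : (M a)⁻¹ • a₀ = a₀ := by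
          rw [inv_smul_eq_iff]; exact (hM a ha').1.symm
        have hb : (M a)⁻¹ • a₁ ≠ a₀ := by
          intro h
          exact h01 (smul_left_cancel (M a)⁻¹ (h1.trans h.symm))
        refine ⟨(M a)⁻¹ • a₁, ?_, ?_⟩
        · change (if (M a)⁻¹ • a₁ = a₀ then a₀ else M ((M a)⁻¹ • a₁) • a) = a₁
          rw [if_neg hb, hMeq _ h1, inv_smul_eq_iff, (hM a ha').2]
        · change (if a = a₀ then a₀ else M a • ((M a)⁻¹ • a₁)) = a₁
          rw [if_neg ha', smul_inv_smul] }
  have hmul : ∀ x a : α, a ≠ a₀ → @HMul.hMul α α α (@instHMul α nf.toMonoid.toMulOneClass.toMul) x a = M a • x :=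
    fun x a ha => if_neg ha
  refine ⟨nf, rfl, rfl, rfl, ?_, ?_⟩
  · intro σ
    constructor
    · intro hσ
      set g : G := ⟨σ, hσ⟩ with hg
      set m : G := (T (g • a₀))⁻¹ * g with hm
      have hm0 : m • a₀ = a₀ := by
        rw [hm, mul_smul, inv_smul_eq_iff, hT]
      refine ⟨m • a₁, g • a₀, ?_, ?_⟩
      · intro h
        exact h01 (smul_left_cancel m (hm0.trans (h : m • a₁ = a₀).symm))
      · intro x
        have hne : m • a₁ ≠ a₀ := by
          intro h
          exact h01 (smul_left_cancel m (hm0.trans h.symm))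
        change g • x = T (g • a₀) • (@HMul.hMul α α α (@instHMul α nf.toMonoid.toMulOneClass.toMul) x (m • a₁))
        rw [hmul _ _ hne, hMeq m hm0, hm, mul_smul, smul_inv_smul]
    · rintro ⟨a, b, ha, hab⟩
      have : σ = ((T b * M a : G) : Equiv.Perm α) := by
        ext x
        rw [hab]
        change T b • (@HMul.hMul α α α (@instHMul α nf.toMonoid.toMulOneClass.toMul) x a) = (T b * M a) • x
        rw [hmul x a ha, mul_smul]
      rw [this]
      exact (T b * M a : G).2
  · intro g hg x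
    have hne : g • a₁ ≠ a₀ := by
      intro h
      exact h01 (smul_left_cancel g (hg.trans h.symm))
    rw [hmul _ _ hne, hMeq g hg]

end CfsgLib.PermG5
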