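import Mathlib
import Cfsg.Agent.Lib.PermG5

set_option autoImplicit false

namespace CfsgLib.PermG6

open MulAction CfsgLib.PermG3 CfsgLib.PermG4 Cfsg

universe u

variable {α : Type u}

theorem inj3 {x y z : α} (hxy : x ≠ y) (hxz : x ≠ z) (hyz : y ≠ z) : Function.Injective ![x, y, z] := by
  intro i j hij
  fin_cases i <;> fin_cases j <;> first | rfl | exact absurd hij hxy | exact absurd hij hxz | exact absurd hij hyz | exact absurd hij.symm hxy | exact absurd hij.symm hxz | exact absurd hij.symm hyz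

theorem mt_three {G : Type*} [Group G] [MulAction G α] (h3 : IsMultiplyPretransitive G α 3)
    {x y z : α} (hxy : x ≠ y) (hxz : x ≠ z) (hyz : y ≠ z) {x' y' z' : α} (hxy' : x' ≠ y') (hxz' : x' ≠ z')
    (hyz' : y' ≠ z') : ∃ g : G, g • x = x' ∧ g • y = y' ∧ g • z = z' := by
  rw [mt_iff] at h3
  obtain ⟨g, hg⟩ := h3 ⟨_, inj3 hxy hxz hyz⟩ ⟨_, inj3 hxy' hxz' hyz'⟩
  exact ⟨g, hg 0, hg 1, hg 2⟩

theorem mt_three_of {G : Type*} [Group G] [MulAction G α]
    (h : ∀ x y z x' y' z' : α, x ≠ y → x ≠ z → y ≠ z → x' ≠ y' → x' ≠ z' → y' ≠ z' →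
      ∃ g : G, g • x = x' ∧ g • y = y' ∧ g • z = z') : IsMultiplyPretransitive G α 3 := by
  rw [mt_iff]
  intro u v
  have hu : ∀ (w : Fin 3 ↪ α) (i j : Fin 3), i ≠ j → w i ≠ w j := fun w i j hij h => hij (w.injective h)
  obtain ⟨g, h0, h1, h2⟩ := h (u 0) (u 1) (u 2) (v 0) (v 1) (v 2) (hu u 0 1 (by decide)) (hu u 0 2 (by decide))
    (hu u 1 2 (by decide)) (hu v 0 1 (by decide)) (hu v 0 2 (by decide)) (hu v 1 2 (by decide))
  refine ⟨g, fun i => ?_⟩
  fin_cases i
  · exact h0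
  · exact h1
  · exact h2

theorem sharp_three {G : Type*} [Group G] [MulAction G α] (hsharp : ∀ x : Fin 3 ↪ α, stabilizer G x = ⊥)
    {g : G} {x y z : α} (hxy : x ≠ y) (hxz : x ≠ z) (hyz : y ≠ z) (h1 : g • x = x) (h2 : g • y = y)
    (h3 : g • z = z) : g = 1 := by
  have : g ∈ stabilizer G (⟨_, inj3 hxy hxz hyz⟩ : Fin 3 ↪ α) := by
    rw [mem_stabilizer_iff]
    ext i
    fin_cases i
    · exact h1
    · exact h2
    · exact h3
  rw [hsharp, Subgroup.mem_bot] at this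
  exact this

theorem fix_le_two {G : Type*} [Group G] [MulAction G α] [Fintype α] [DecidableEq α]
    (hsharp : ∀ x : Fin 3 ↪ α, stabilizer G x = ⊥) {g : G} (hg : g ≠ 1) :
    (Finset.univ.filter (fun x : α => g • x = x)).card ≤ 2 := by
  classical
  by_contra hcon
  push Not at hcon
  obtain ⟨x, y, z, hx, hy, hz, hxy, hxz, hyz⟩ := Finset.two_lt_card_iff.1 hcon
  simp only [Finset.mem_filter, Finset.mem_univ, true_and] at hx hy hz
  exact hg (sharp_three hsharp hxy hxz hyz hx hy hz)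

theorem card_triples [Fintype α] [DecidableEq α] :
    (Finset.univ.filter (fun u : α × α × α => u.1 ≠ u.2.1 ∧ u.1 ≠ u.2.2 ∧ u.2.1 ≠ u.2.2)).card =
      Fintype.card α * (Fintype.card α - 1) * (Fintype.card α - 2) := by
  have h2 : Fintype.card (Fin 3 ↪ α) = Fintype.card α * (Fintype.card α - 1) * (Fintype.card α - 2) := by
    rw [Fintype.card_embedding_eq, Fintype.card_fin, Nat.descFactorial_succ,
      Nat.descFactorial_succ, Nat.descFactorial_one]
    ring
  rw [← h2, ← Finset.card_univ]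
  have hu : ∀ (w : Fin 3 ↪ α) (i j : Fin 3), i ≠ j → w i ≠ w j := fun w i j hij h => hij (w.injective h)
  symm
  refine Finset.card_bij (fun w _ => (w 0, w 1, w 2)) ?_ ?_ ?_
  · intro w _
    rw [Finset.mem_filter]
    exact ⟨Finset.mem_univ _, hu w 0 1 (by decide), hu w 0 2 (by decide), hu w 1 2 (by decide)⟩
  · intro w _ w' _ h
    rw [Prod.mk.injEq, Prod.mk.injEq] at h
    ext i
    fin_cases i
    · exact h.1
    · exact h.2.1
    · exact h.2.2
  · rintro ⟨x, y, z⟩ h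
    rw [Finset.mem_filter] at h
    exact ⟨⟨_, inj3 h.2.1 h.2.2.1 h.2.2.2⟩, Finset.mem_univ _, rfl⟩

theorem smul_cube {G : Type*} [Group G] [MulAction G α] (g : G) (x : α) : g • (g • (g • x)) = (g ^ 3) • x := by
  rw [← mul_smul, ← mul_smul]
  congr 1
  rw [pow_succ, pow_two]

/-- count of elements of order 3 -/
theorem count_three {G : Type*} [Group G] [Finite G] [Fintype G] [DecidableEq G] [MulAction G α] [Fintype α] [DecidableEq α]
    (h3 : IsMultiplyPretransitive G α 3) (hsharp : ∀ x : Fin 3 ↪ α, stabilizer G x = ⊥) :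
    (Finset.univ.filter (fun p : G × α => p.1 ^ 3 = 1 ∧ p.1 • p.2 ≠ p.2)).card =
      Fintype.card α * (Fintype.card α - 1) * (Fintype.card α - 2) := by
  rw [← card_triples]
  have hprop : ∀ p : G × α, (p.1 ^ 3 = 1 ∧ p.1 • p.2 ≠ p.2) →
      (p.1 • (p.1 • p.2) ≠ p.2 ∧ p.1 • (p.1 • p.2) ≠ p.1 • p.2 ∧ p.1 • (p.1 • (p.1 • p.2)) = p.2) := by
    rintro ⟨g, x⟩ ⟨hg3, hx⟩
    change g ^ 3 = 1 at hg3
    change g • x ≠ x at hx
    have h3 : g • (g • (g • x)) = x := by rw [smul_cube, hg3, one_smul]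
    refine ⟨?_, ?_, h3⟩
    · intro h4
      change g • (g • x) = x at h4
      rw [h4] at h3
      exact hx h3
    · intro h4
      exact hx (smul_left_cancel g h4)
  refine Finset.card_bij (fun p _ => (p.2, p.1 • p.2, p.1 • (p.1 • p.2))) ?_ ?_ ?_
  · intro p hp
    rw [Finset.mem_filter] at hp ⊢
    obtain ⟨h1, h2, h4⟩ := hprop p hp.2
    exact ⟨Finset.mem_univ _, hp.2.2.symm, h1.symm, h2.symm⟩
  · rintro ⟨g, x⟩ hp ⟨g', x'⟩ hp' h
    rw [Finset.mem_filter] at hp hp'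
    obtain ⟨h1, h2, h4⟩ := hprop _ hp.2
    obtain ⟨h1', h2', h4'⟩ := hprop _ hp'.2
    simp only [Prod.mk.injEq] at h
    obtain ⟨e1, e2, e3⟩ := h
    have e4 : g • (g • (g • x)) = g' • (g' • (g' • x')) := by rw [h4, h4', e1]
    have : g'⁻¹ * g = 1 := by
      apply sharp_three hsharp (x := x) (y := g • x) (z := g • (g • x)) hp.2.2.symm h1.symm h2.symm
      · rw [mul_smul, e2, inv_smul_smul, e1]
      · rw [mul_smul, e3, inv_smul_smul, e2]
      · rw [mul_smul, e4, inv_smul_smul, e3]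
    rw [inv_mul_eq_one] at this
    rw [this, e1]
  · rintro ⟨x, y, z⟩ h
    rw [Finset.mem_filter] at h
    obtain ⟨-, hxy, hxz, hyz⟩ := h
    obtain ⟨g, hg1, hg2, hg3⟩ := mt_three h3 hxy hxz hyz hyz hxy.symm hxz.symm
    refine ⟨(g, x), ?_, ?_⟩
    · rw [Finset.mem_filter]
      refine ⟨Finset.mem_univ _, ?_, ?_⟩
      · change g ^ 3 = 1
        apply sharp_three hsharp hxy hxz hyz
        · rw [← smul_cube, hg1, hg2, hg3]
        · rw [← smul_cube, hg2, hg3, hg1]
        · rw [← smul_cube, hg3, hg1, hg2]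
      · change g • x ≠ x
        rw [hg1]; exact hxy.symm
    · change (x, g • x, g • (g • x)) = (x, y, z)
      rw [hg1, hg2]

end CfsgLib.PermG6
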