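import Mathlib
import Cfsg.Agent.Lib.PermG3
import Cfsg.Agent.Lib.PermG6

set_option autoImplicit false

/-! Sharply 3-transitive groups: elements interchanging two points. -/
namespace CfsgLib.PermZ3

open MulAction CfsgLib.PermG3 CfsgLib.PermG6

universe u

theorem card_involution {α : Type u} [Fintype α] [DecidableEq α] (σ : α → α) (hσ : ∀ x, σ (σ x) = x) :
    ((Fintype.card α : ℕ) : ZMod 2) = (((Finset.univ.filter (fun x => σ x = x)).card : ℕ) : ZMod 2) := by
  have h1 : ∑ x ∈ Finset.univ.filter (fun x => ¬ σ x = x), (1 : ZMod 2) = 0 := by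
    apply Finset.sum_involution (fun x _ => σ x)
    · intro x _; decide
    · intro x hx _ h
      rw [Finset.mem_filter] at hx
      exact hx.2 h
    · intro x hx
      rw [Finset.mem_filter] at hx ⊢
      refine ⟨Finset.mem_univ _, fun h => hx.2 ?_⟩
      rw [hσ] at h
      exact h.symm
    · intro x hx
      exact hσ x
  rw [Finset.sum_const, nsmul_eq_mul, mul_one] at h1
  have h2 := Finset.card_filter_add_card_filter_not (s := (Finset.univ : Finset α)) (fun x => σ x = x)
  rw [← Finset.card_univ, ← h2, Nat.cast_add, h1, add_zero]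

variable {α : Type u} [Fintype α] [DecidableEq α] (G : Subgroup (Equiv.Perm α))

/-- if the degree is odd, every element interchanging two points is an involution -/
theorem swap_sq (h3 : IsMultiplyPretransitive G α 3) (hsharp : ∀ x : Fin 3 ↪ α, stabilizer G x = ⊥)
    (hodd : Odd (Fintype.card α)) {a b : α} (hab : a ≠ b) (w : Equiv.Perm α) (hw : w ∈ G) (hwa : w a = b) (hwb : w b = a) :
    w * w = 1 := by
  classical
  have hsh : ∀ g ∈ G, ∀ x y z : α, x ≠ y → x ≠ z → y ≠ z → g x = x → g y = y → g z = z → g = 1 := by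
    intro g hg x y z hxy hxz hyz h1 h2 h3'
    have := sharp_three hsharp (g := (⟨g, hg⟩ : G)) hxy hxz hyz h1 h2 h3'
    exact congrArg Subtype.val this
  let X := {x : α // x ≠ a ∧ x ≠ b}
  let W := {w : Equiv.Perm α // w ∈ G ∧ w a = b ∧ w b = a}
  -- choose w_x
  have hex : ∀ x : X, ∃ w : W, w.1 x.1 = x.1 := by
    intro x
    obtain ⟨g, hg1, hg2, hg3⟩ := mt_three h3 (x := a) (y := b) (z := x.1) hab (Ne.symm x.2.1) (Ne.symm x.2.2)
      (x' := b) (y' := a) (z' := x.1) (Ne.symm hab) (Ne.symm x.2.2) (Ne.symm x.2.1)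
    exact ⟨⟨g, g.2, hg1, hg2⟩, hg3⟩
  choose f hf using hex
  have hsq : ∀ (w : W) (x : X), w.1 x.1 = x.1 → w.1 * w.1 = 1 := by
    intro w x hx
    apply hsh _ (mul_mem w.2.1 w.2.1) a b x.1 hab (Ne.symm x.2.1) (Ne.symm x.2.2)
    · rw [Equiv.Perm.mul_apply, w.2.2.1, w.2.2.2]
    · rw [Equiv.Perm.mul_apply, w.2.2.2, w.2.2.1]
    · rw [Equiv.Perm.mul_apply, hx, hx]
  have hinj : Function.Injective f := by
    intro x y hxy
    by_contra hne
    have hx := hf x
    have hy := hf y
    rw [← hxy] at hy
    have hs := hsq _ _ hx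
    have hs' : ∀ z, (f x).1 ((f x).1 z) = z := fun z => congrArg (fun σ : Equiv.Perm α => σ z) hs
    have h1 := card_involution (fun z => (f x).1 z) hs'
    have h2 : (Finset.univ.filter (fun z => (f x).1 z = z)) = {x.1, y.1} := by
      ext z
      rw [Finset.mem_filter, Finset.mem_insert, Finset.mem_singleton]
      constructor
      · rintro ⟨-, hz⟩
        by_contra hcon
        rw [not_or] at hcon
        have h4 := hsh _ (f x).2.1 x.1 y.1 z (fun h => hne (Subtype.ext h)) (Ne.symm hcon.1) (Ne.symm hcon.2) hx hy hz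
        have h5 := (f x).2.2.1
        rw [h4] at h5
        exact hab h5
      · rintro (rfl | rfl)
        · exact ⟨Finset.mem_univ _, hx⟩
        · exact ⟨Finset.mem_univ _, hy⟩
    rw [h2, Finset.card_pair (fun h => hne (Subtype.ext h))] at h1
    obtain ⟨k, hk⟩ := hodd
    rw [hk] at h1
    push_cast at h1
    have h3 : (2 : ZMod 2) = 0 := by decide
    rw [h3] at h1
    simp at h1
  -- W embeds in X
  by_cases hX : Nonempty X
  · obtain ⟨c⟩ := hX
    have hW : ∀ w : W, w.1 c.1 ≠ a ∧ w.1 c.1 ≠ b := by
      intro w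
      constructor
      · intro h
        apply c.2.2
        exact w.1.injective (h.trans w.2.2.2.symm)
      · intro h
        apply c.2.1
        exact w.1.injective (h.trans w.2.2.1.symm)
    let g : W → X := fun w => ⟨w.1 c.1, hW w⟩
    have hg : Function.Injective g := by
      intro w w' h
      have h1 : w.1 c.1 = w'.1 c.1 := congrArg Subtype.val h
      have h2 : w'.1⁻¹ * w.1 = 1 := by
        apply hsh _ (mul_mem (inv_mem w'.2.1) w.2.1) a b c.1 hab (Ne.symm c.2.1) (Ne.symm c.2.2)
        · rw [Equiv.Perm.mul_apply, w.2.2.1, Equiv.Perm.inv_eq_iff_eq, w'.2.2.1]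
        · rw [Equiv.Perm.mul_apply, w.2.2.2, Equiv.Perm.inv_eq_iff_eq, w'.2.2.2]
        · rw [Equiv.Perm.mul_apply, h1, inv_apply]
      exact Subtype.ext (inv_mul_eq_one.1 h2).symm
    have hsurj : Function.Surjective f := by
      haveI : Finite X := inferInstance
      haveI : Finite W := inferInstance
      have h1 := Nat.card_le_card_of_injective f hinj
      have h2 := Nat.card_le_card_of_injective g hg
      exact ((Nat.bijective_iff_injective_and_card f).2 ⟨hinj, le_antisymm h1 h2⟩).2
    obtain ⟨x, hx⟩ := hsurj ⟨w, hw, hwa, hwb⟩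
    have := hsq (f x) x (hf x)
    rw [hx] at this
    exact this
  · -- only the points a, b: degree 2
    exfalso
    have h1 : (Finset.univ : Finset α) = {a, b} := by
      ext z
      simp only [Finset.mem_univ, Finset.mem_insert, Finset.mem_singleton, true_iff]
      by_contra hcon
      rw [not_or] at hcon
      exact hX ⟨⟨z, hcon⟩⟩
    have h2 : Fintype.card α = 2 := by rw [← Finset.card_univ, h1, Finset.card_pair hab]
    rw [h2] at hodd
    exact absurd hodd (by decide)

end CfsgLib.PermZ3
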