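import Mathlib
import Cfsg.Prelude.Def_LieExceptional
import Cfsg.Agent.Lib.PermG3
import Cfsg.Agent.Lib.PermZ3

set_option autoImplicit false

/-! Involutions in Zassenhaus groups. -/
namespace CfsgLib.PermZ4

open MulAction CfsgLib.PermG3 Cfsg

universe u v

variable {G : Type u} {Ω : Type v} [Group G] [Finite G] [MulAction G Ω] [Fintype Ω]

/-- an element fixing two points and different from `1` fixes exactly two points -/
theorem fix_two [DecidableEq Ω] (hZ : IsZassenhausGroup G Ω) {w : G} (hw : w ≠ 1) :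
    (Finset.univ.filter (fun x : Ω => w • x = x)).card ≤ 2 := by
  by_contra hcon
  push Not at hcon
  obtain ⟨a, b, c, ha, hb, hc, hab, hac, hbc⟩ := Finset.two_lt_card_iff.1 hcon
  rw [Finset.mem_filter] at ha hb hc
  exact hw (hZ.2.2.1 w a b c hab hbc hac ha.2 hb.2 hc.2)

theorem parity [DecidableEq Ω] {w : G} (hw : w * w = 1) :
    ((Fintype.card Ω : ℕ) : ZMod 2) = (((Finset.univ.filter (fun x : Ω => w • x = x)).card : ℕ) : ZMod 2) :=
  CfsgLib.PermZ3.card_involution (fun x => w • x) (fun x => by rw [← mul_smul, hw, one_smul])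

theorem three_le (hZ : IsZassenhausGroup G Ω) : 3 ≤ Fintype.card Ω := by
  classical
  obtain ⟨hf, h2, -, ⟨g, hg, a, b, hab, ha, hb⟩, -⟩ := hZ
  obtain ⟨c, hc⟩ : ∃ c : Ω, g • c ≠ c := by
    by_contra hcon
    push Not at hcon
    exact hg (FaithfulSMul.eq_of_smul_eq_smul (α := Ω) (fun x => by rw [hcon, one_smul]))
  have h1 : ({a, b, c} : Finset Ω).card = 3 := by
    rw [Finset.card_eq_three]
    refine ⟨a, b, c, hab, ?_, ?_, rfl⟩
    · rintro rfl; exact hc ha
    · rintro rfl; exact hc hb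
  rw [← h1]
  exact Finset.card_le_univ _

/-- any two points are interchanged by an involution -/
theorem exists_swap (hZ : IsZassenhausGroup G Ω) {a b : Ω} (hab : a ≠ b) :
    ∃ s : G, orderOf s = 2 ∧ s • a = b ∧ s • b = a := by
  classical
  haveI := hZ.1
  have h2 := hZ.2.1
  rw [mt_two_iff] at h2
  have hgen : ∀ t : G, orderOf t = 2 → ∃ s : G, orderOf s = 2 ∧ s • a = b ∧ s • b = a := by
    intro t ht
    have htt : t * t = 1 := by
      have := pow_orderOf_eq_one t
      rwa [ht, pow_two] at this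
    obtain ⟨x, hx⟩ : ∃ x : Ω, t • x ≠ x := by
      by_contra hcon
      push Not at hcon
      have : t = 1 := FaithfulSMul.eq_of_smul_eq_smul (α := Ω) (fun x => by rw [hcon, one_smul])
      rw [this, orderOf_one] at ht
      norm_num at ht
    obtain ⟨g, hg1, hg2⟩ := h2 x (t • x) a b (Ne.symm hx) hab
    refine ⟨g * t * g⁻¹, ?_, ?_, ?_⟩
    · rw [← ht]
      exact orderOf_injective (MulAut.conj g).toMonoidHom (MulAut.conj g).injective t
    · rw [mul_smul, mul_smul, ← hg1, inv_smul_smul, hg2]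
    · rw [mul_smul, mul_smul, ← hg2, inv_smul_smul, ← mul_smul t t, htt, one_smul, hg1]
  haveI : Fact (Nat.Prime 2) := ⟨Nat.prime_two⟩
  have hcard := three_le hZ
  have hdvd : Nat.card Ω * (Nat.card Ω - 1) ∣ Nat.card G := by
    haveI : IsPretransitive G (Fin 2 ↪ Ω) := hZ.2.1
    obtain ⟨x⟩ : Nonempty (Fin 2 ↪ Ω) := Function.Embedding.nonempty_of_card_le (by rw [Fintype.card_fin]; omega)
    have h3 := MulAction.index_stabilizer_of_transitive G x
    rw [Nat.card_eq_fintype_card, Fintype.card_embedding_eq, Fintype.card_fin] at h3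
    have h4 : (Fintype.card Ω).descFactorial 2 = Nat.card Ω * (Nat.card Ω - 1) := by
      rw [Nat.card_eq_fintype_card, Nat.descFactorial_succ, Nat.descFactorial_one, mul_comm]
    rw [← h4, ← h3]
    exact Subgroup.index_dvd_card _
  have heven : 2 ∣ Nat.card G := by
    refine dvd_trans ?_ hdvd
    rw [Nat.card_eq_fintype_card]
    exact (Nat.even_mul_pred_self _).two_dvd
  obtain ⟨t, ht⟩ := exists_prime_orderOf_dvd_card' (G := G) 2 heven
  exact hgen t ht

theorem card_fixedBy [DecidableEq Ω] (s : G) : Nat.card (fixedBy Ω s) = (Finset.univ.filter (fun x : Ω => s • x = x)).card := by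
  classical
  rw [Nat.card_eq_fintype_card, ← Set.toFinset_card]
  congr 1
  ext x
  simp

/-- the counting argument: `2d ≥ n - 1` when `d` is even -/
theorem even_bound (hZ : IsZassenhausGroup G Ω) {a b : Ω} (hab : a ≠ b)
    (heven : Even (Nat.card ↥(stabilizer G a ⊓ stabilizer G b))) :
    Fintype.card Ω - 2 ≤ 2 * Nat.card ↥(stabilizer G a ⊓ stabilizer G b) := by
  classical
  haveI := hZ.1
  haveI : Fintype G := Fintype.ofFinite G
  haveI : Fact (Nat.Prime 2) := ⟨Nat.prime_two⟩
  have h2 := hZ.2.1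
  rw [mt_two_iff] at h2
  set m := Fintype.card Ω with hm
  have hm3 := three_le hZ
  let T : Finset G := Finset.univ.filter (fun w => w * w = 1 ∧ w ≠ 1 ∧ ∃ x y : Ω, x ≠ y ∧ w • x = x ∧ w • y = y)
  have hT : ∀ w, w ∈ T ↔ w * w = 1 ∧ w ≠ 1 ∧ ∃ x y : Ω, x ≠ y ∧ w • x = x ∧ w • y = y := by
    intro w; simp [T]
  let P : Finset (Ω × Ω) := Finset.univ.offDiag
  have hP : ∀ p : Ω × Ω, p ∈ P ↔ p.1 ≠ p.2 := by
    intro p; simp [P]
  have hPc : P.card = m * m - m := by
    rw [Finset.offDiag_card, Finset.card_univ]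
  have hconjT : ∀ g w : G, w ∈ T → g * w * g⁻¹ ∈ T := by
    intro g w hw
    rw [hT] at hw ⊢
    obtain ⟨h1, h3, x, y, hxy, hx, hy⟩ := hw
    refine ⟨?_, ?_, g • x, g • y, fun h => hxy (smul_left_cancel g h), ?_, ?_⟩
    · have : g * w * g⁻¹ * (g * w * g⁻¹) = g * (w * w) * g⁻¹ := by group
      rw [this, h1, mul_one, mul_inv_cancel]
    · intro h
      apply h3
      rw [mul_inv_eq_one] at h
      exact (mul_eq_left.1 h)
    · rw [mul_smul, mul_smul, inv_smul_smul, hx]
    · rw [mul_smul, mul_smul, inv_smul_smul, hy]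
  have hfix : ∀ w ∈ T, (Finset.univ.filter (fun x : Ω => w • x = x)).card = 2 := by
    intro w hw
    rw [hT] at hw
    obtain ⟨h1, h3, x, y, hxy, hx, hy⟩ := hw
    apply le_antisymm (fix_two hZ h3)
    rw [← Finset.card_pair hxy]
    apply Finset.card_le_card
    intro z hz
    rw [Finset.mem_insert, Finset.mem_singleton] at hz
    rw [Finset.mem_filter]
    rcases hz with rfl | rfl
    · exact ⟨Finset.mem_univ _, hx⟩
    · exact ⟨Finset.mem_univ _, hy⟩
  have hmove : ∀ w ∈ T, (Finset.univ.filter (fun x : Ω => ¬ w • x = x)).card = m - 2 := by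
    intro w hw
    have h1 := Finset.card_filter_add_card_filter_not (s := (Finset.univ : Finset Ω)) (fun x => w • x = x)
    rw [hfix w hw, Finset.card_univ] at h1
    omega
  -- first count
  let r1 : G → Ω × Ω → Prop := fun w p => w • p.1 = p.2
  let r2 : G → Ω × Ω → Prop := fun w p => w • p.1 = p.1 ∧ w • p.2 = p.2
  have c1 := Finset.sum_card_bipartiteAbove_eq_sum_card_bipartiteBelow (s := T) (t := P) r1
  have c2 := Finset.sum_card_bipartiteAbove_eq_sum_card_bipartiteBelow (s := T) (t := P) r2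
  have a1 : ∀ w ∈ T, (P.bipartiteAbove r1 w).card = m - 2 := by
    intro w hw
    rw [← hmove w hw]
    symm
    apply Finset.card_bij (fun x _ => (x, w • x))
    · intro x hx
      rw [Finset.mem_filter] at hx
      rw [Finset.mem_bipartiteAbove, hP]
      exact ⟨fun h => hx.2 h.symm, rfl⟩
    · intro x _ y _ h
      exact (Prod.ext_iff.1 h).1
    · intro p hp
      rw [Finset.mem_bipartiteAbove, hP] at hp
      refine ⟨p.1, ?_, ?_⟩
      · rw [Finset.mem_filter]
        refine ⟨Finset.mem_univ _, fun h => hp.1 ?_⟩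
        have h4 : w • p.1 = p.2 := hp.2
        rw [h] at h4
        exact h4
      · exact Prod.ext rfl hp.2
  have a2 : ∀ w ∈ T, (P.bipartiteAbove r2 w).card = 2 := by
    intro w hw
    have h1 : P.bipartiteAbove r2 w = (Finset.univ.filter (fun x : Ω => w • x = x)).offDiag := by
      ext p
      rw [Finset.mem_bipartiteAbove, hP, Finset.mem_offDiag, Finset.mem_filter, Finset.mem_filter]
      constructor
      · rintro ⟨h4, h5, h6⟩
        exact ⟨⟨Finset.mem_univ _, h5⟩, ⟨Finset.mem_univ _, h6⟩, h4⟩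
      · rintro ⟨⟨-, h5⟩, ⟨-, h6⟩, h4⟩
        exact ⟨h4, h5, h6⟩
    rw [h1, Finset.offDiag_card, hfix w hw]
  -- constancy
  have hconst : ∀ (r : G → Ω × Ω → Prop) [∀ p, DecidablePred fun w => r w p], (∀ (g w : G) (p : Ω × Ω), r w p → r (g * w * g⁻¹) (g • p.1, g • p.2)) →
      ∀ p ∈ P, (T.bipartiteBelow r p).card = (T.bipartiteBelow r (a, b)).card := by
    intro r _ hr p hp
    rw [hP] at hp
    have key : ∀ p q : Ω × Ω, p.1 ≠ p.2 → q.1 ≠ q.2 → (T.bipartiteBelow r p).card ≤ (T.bipartiteBelow r q).card := by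
      intro p q hp hq
      obtain ⟨g, hg1, hg2⟩ := h2 p.1 p.2 q.1 q.2 hp hq
      apply Finset.card_le_card_of_injOn (fun w => g * w * g⁻¹)
      · intro w hw
        rw [Finset.mem_coe, Finset.mem_bipartiteBelow] at hw ⊢
        refine ⟨hconjT g w hw.1, ?_⟩
        have := hr g w p hw.2
        rw [hg1, hg2] at this
        exact this
      · intro w _ w' _ h
        exact (MulAut.conj g).injective h
    exact le_antisymm (key _ _ hp hab) (key _ _ hab hp)
  have b1 := hconst r1 (by
    intro g w p h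
    change (g * w * g⁻¹) • g • p.1 = g • p.2
    have h' : w • p.1 = p.2 := h
    rw [mul_smul, mul_smul, inv_smul_smul, h'])
  have b2 := hconst r2 (by
    rintro g w p ⟨h5, h6⟩
    constructor
    · change (g * w * g⁻¹) • g • p.1 = g • p.1
      rw [mul_smul, mul_smul, inv_smul_smul, h5]
    · change (g * w * g⁻¹) • g • p.2 = g • p.2
      rw [mul_smul, mul_smul, inv_smul_smul, h6])
  rw [Finset.sum_congr rfl a1, Finset.sum_congr rfl b1, Finset.sum_const, Finset.sum_const, smul_eq_mul, smul_eq_mul] at c1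
  rw [Finset.sum_congr rfl a2, Finset.sum_congr rfl b2, Finset.sum_const, Finset.sum_const, smul_eq_mul, smul_eq_mul] at c2
  set N := (T.bipartiteBelow r1 (a, b)).card with hN
  set i2 := (T.bipartiteBelow r2 (a, b)).card with hi2
  -- i2 ≥ 1
  have hi2pos : 1 ≤ i2 := by
    obtain ⟨z, hz⟩ := exists_prime_orderOf_dvd_card' (G := ↥(stabilizer G a ⊓ stabilizer G b)) 2 heven.two_dvd
    have hzz : (z : G) * z = 1 := by
      have := pow_orderOf_eq_one z
      rw [hz, pow_two] at this
      exact congrArg Subtype.val this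
    rw [hi2, Nat.one_le_iff_ne_zero, ← Nat.pos_iff_ne_zero, Finset.card_pos]
    refine ⟨(z : G), ?_⟩
    rw [Finset.mem_bipartiteBelow, hT]
    have h5 : (z : G) • a = a := z.2.1
    have h6 : (z : G) • b = b := z.2.2
    refine ⟨⟨hzz, ?_, a, b, hab, h5, h6⟩, h5, h6⟩
    intro h
    have : z = 1 := Subtype.ext h
    rw [this, orderOf_one] at hz
    norm_num at hz
  -- N ≤ |H|
  have hNle : N ≤ Nat.card ↥(stabilizer G a ⊓ stabilizer G b) := by
    rcases Finset.eq_empty_or_nonempty (T.bipartiteBelow r1 (a, b)) with h0 | ⟨w0, hw0⟩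
    · rw [hN, h0, Finset.card_empty]; exact Nat.zero_le _
    · have hsw : ∀ w ∈ T.bipartiteBelow r1 (a, b), w • a = b ∧ w • b = a ∧ w * w = 1 := by
        intro w hw
        rw [Finset.mem_bipartiteBelow, hT] at hw
        have h5 : w • a = b := hw.2
        refine ⟨h5, ?_, hw.1.1⟩
        rw [← h5, ← mul_smul, hw.1.1, one_smul]
      have h7 : N = Nat.card {w // w ∈ T.bipartiteBelow r1 (a, b)} := by
        rw [hN, Nat.card_eq_fintype_card, Fintype.card_coe]
      rw [h7]
      apply Nat.card_le_card_of_injective (fun w : {w // w ∈ T.bipartiteBelow r1 (a, b)} => (⟨w0 * w.1, by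
        obtain ⟨e1, e2, -⟩ := hsw w0 hw0
        obtain ⟨e3, e4, -⟩ := hsw w.1 w.2
        refine ⟨?_, ?_⟩
        · change (w0 * w.1) • a = a
          rw [mul_smul, e3, e2]
        · change (w0 * w.1) • b = b
          rw [mul_smul, e4, e1]⟩ : ↥(stabilizer G a ⊓ stabilizer G b)))
      intro w w' h
      have h8 := congrArg Subtype.val h
      exact Subtype.ext (mul_left_cancel h8)
  -- conclusion
  have hPpos : 0 < P.card := by
    rw [Finset.card_pos]; exact ⟨(a, b), (hP _).2 hab⟩
  have h9 : P.card * (2 * N) = P.card * (i2 * (m - 2)) := by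
    calc P.card * (2 * N) = 2 * (P.card * N) := by ring
      _ = 2 * (T.card * (m - 2)) := by rw [← c1]
      _ = (T.card * 2) * (m - 2) := by ring
      _ = (P.card * i2) * (m - 2) := by rw [c2]
      _ = P.card * (i2 * (m - 2)) := by ring
  have h10 := Nat.eq_of_mul_eq_mul_left hPpos h9
  calc m - 2 = 1 * (m - 2) := (one_mul _).symm
    _ ≤ i2 * (m - 2) := Nat.mul_le_mul_right _ hi2pos
    _ = 2 * N := h10.symm
    _ ≤ _ := Nat.mul_le_mul_left _ hNle

end CfsgLib.PermZ4
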