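import Mathlib
import Cfsg.Prelude.Def_LieExceptional
import Cfsg.Prelude.Def_Solvable
import Cfsg.Agent.Lib.PermG3
import Cfsg.Agent.Lib.PermZ4
import Cfsg.Agent.Lib.FrobTI
import Cfsg.Agent.Lib.FrobAct
import Cfsg.Agent.Lib.FrobNil
import Cfsg.Agent.Lib.Invol

/-!
# Zassenhaus groups: basic structure
-/

set_option autoImplicit false
set_option linter.style.haveILetI false
set_option linter.unusedSectionVars false

open MulAction Cfsg
open scoped Pointwise

namespace CfsgLib.H7Z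

universe u v

variable {G : Type u} {Ω : Type v} [Group G] [MulAction G Ω]

theorem fix3 (hZ : IsZassenhausGroup G Ω) {g : G} (hg : g ≠ 1) {a b c : Ω} (hab : a ≠ b) (ha : g • a = a) (hb : g • b = b) (hc : g • c = c) :
    c = a ∨ c = b := by
  by_contra h
  push Not at h
  exact hg (hZ.2.2.1 g a b c hab (Ne.symm h.2) (Ne.symm h.1) ha hb hc)

theorem exists_map2 (hZ : IsZassenhausGroup G Ω) {a b c d : Ω} (hab : a ≠ b) (hcd : c ≠ d) : ∃ g : G, g • a = c ∧ g • b = d := by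
  have h2 := hZ.2.1
  rw [CfsgLib.PermG3.mt_two_iff] at h2
  exact h2 a b c d hab hcd

theorem mem_EE {a b : Ω} {g : G} : g ∈ stabilizer G a ⊓ stabilizer G b ↔ g • a = a ∧ g • b = b := by
  rw [Subgroup.mem_inf, mem_stabilizer_iff, mem_stabilizer_iff]

theorem conj_fix {g x : G} {c : Ω} : (g * x * g⁻¹) • c = c ↔ x • (g⁻¹ • c) = g⁻¹ • c := by
  rw [mul_smul, mul_smul, smul_eq_iff_eq_inv_smul]

theorem conj_fix' {g x : G} {c : Ω} : (g * x * g⁻¹) • (g • c) = g • c ↔ x • c = c := by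
  rw [conj_fix, inv_smul_smul]

theorem exists_ne_one_EE (hZ : IsZassenhausGroup G Ω) {a b : Ω} (hab : a ≠ b) : ∃ g ∈ stabilizer G a ⊓ stabilizer G b, g ≠ 1 := by
  obtain ⟨x, hx1, c, d, hcd, hc, hd⟩ := hZ.2.2.2.1
  obtain ⟨g, hgc, hgd⟩ := exists_map2 hZ hcd hab
  refine ⟨g * x * g⁻¹, ?_, ?_⟩
  · rw [mem_EE, ← hgc, ← hgd, conj_fix', conj_fix']
    exact ⟨hc, hd⟩
  · intro h
    apply hx1
    have : x = g⁻¹ * (g * x * g⁻¹) * g := by group
    rw [this, h]; group

/-- elements normalizing `E` -/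
theorem mem_normalizer_iff (hZ : IsZassenhausGroup G Ω) {a b : Ω} (hab : a ≠ b) {g : G} :
    g ∈ Subgroup.normalizer ((stabilizer G a ⊓ stabilizer G b : Subgroup G) : Set G) ↔ (g • a = a ∧ g • b = b) ∨ (g • a = b ∧ g • b = a) := by
  constructor
  · intro hg
    obtain ⟨x, hxE, hx1⟩ := exists_ne_one_EE hZ hab
    have h1 := (Subgroup.mem_normalizer_iff.mp hg x).mp hxE
    rw [mem_EE] at h1 hxE
    have h2 : g * x * g⁻¹ ≠ 1 := by
      intro h
      apply hx1
      have : x = g⁻¹ * (g * x * g⁻¹) * g := by group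
      rw [this, h]; group
    have h3 := fix3 hZ h2 hab h1.1 h1.2 (conj_fix'.mpr hxE.1)
    have h4 := fix3 hZ h2 hab h1.1 h1.2 (conj_fix'.mpr hxE.2)
    have h5 : g • a ≠ g • b := fun h => hab (smul_left_cancel g h)
    rcases h3 with h3 | h3 <;> rcases h4 with h4 | h4
    · exact absurd (h3.trans h4.symm) h5
    · exact Or.inl ⟨h3, h4⟩
    · exact Or.inr ⟨h3, h4⟩
    · exact absurd (h3.trans h4.symm) h5
  · intro hg
    rw [Subgroup.mem_normalizer_iff]
    intro x
    rw [mem_EE, mem_EE, conj_fix, conj_fix]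
    rcases hg with ⟨h1, h2⟩ | ⟨h1, h2⟩
    · rw [inv_smul_eq_iff.mpr h1.symm, inv_smul_eq_iff.mpr h2.symm]
    · rw [inv_smul_eq_iff.mpr h1.symm, inv_smul_eq_iff.mpr h2.symm]
      exact and_comm

/-- TI property of `E` -/
theorem ti_EE (hZ : IsZassenhausGroup G Ω) {a b : Ω} (hab : a ≠ b) {g : G} {x : G} (hx : x ∈ stabilizer G a ⊓ stabilizer G b) (hx1 : x ≠ 1)
    (hgx : g * x * g⁻¹ ∈ stabilizer G a ⊓ stabilizer G b) : g ∈ Subgroup.normalizer ((stabilizer G a ⊓ stabilizer G b : Subgroup G) : Set G) := by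
  rw [mem_normalizer_iff hZ hab]
  rw [mem_EE] at hx hgx
  have h2 : g * x * g⁻¹ ≠ 1 := by
    intro h
    apply hx1
    have : x = g⁻¹ * (g * x * g⁻¹) * g := by group
    rw [this, h]; group
  have h3 := fix3 hZ h2 hab hgx.1 hgx.2 (conj_fix'.mpr hx.1)
  have h4 := fix3 hZ h2 hab hgx.1 hgx.2 (conj_fix'.mpr hx.2)
  have h5 : g • a ≠ g • b := fun h => hab (smul_left_cancel g h)
  rcases h3 with h3 | h3 <;> rcases h4 with h4 | h4
  · exact absurd (h3.trans h4.symm) h5
  · exact Or.inl ⟨h3, h4⟩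
  · exact Or.inr ⟨h3, h4⟩
  · exact absurd (h3.trans h4.symm) h5

theorem index_EE (hZ : IsZassenhausGroup G Ω) {a b : Ω} (hab : a ≠ b) :
    ((stabilizer G a ⊓ stabilizer G b : Subgroup G).subgroupOf (Subgroup.normalizer ((stabilizer G a ⊓ stabilizer G b : Subgroup G) : Set G))).index = 2 := by
  rw [Subgroup.index_eq_two_iff]
  obtain ⟨s, hsa, hsb⟩ := exists_map2 hZ hab hab.symm
  refine ⟨⟨s, (mem_normalizer_iff hZ hab).mpr (Or.inr ⟨hsa, hsb⟩)⟩, ?_⟩
  rintro ⟨n, hn⟩
  rw [Subgroup.mem_subgroupOf, Subgroup.mem_subgroupOf]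
  show Xor' (n * s ∈ stabilizer G a ⊓ stabilizer G b) (n ∈ stabilizer G a ⊓ stabilizer G b)
  rw [mem_EE, mem_EE, mul_smul, mul_smul, hsa, hsb]
  rcases (mem_normalizer_iff hZ hab).mp hn with ⟨h1, h2⟩ | ⟨h1, h2⟩
  · rw [h1, h2]
    right
    exact ⟨⟨rfl, rfl⟩, fun h => hab h.1.symm⟩
  · rw [h1, h2]
    left
    exact ⟨⟨rfl, rfl⟩, fun h => hab h.1.symm⟩

section fin

variable [Finite G] [Fintype Ω]

theorem stab_index (hZ : IsZassenhausGroup G Ω) (a : Ω) : (stabilizer G a).index = Fintype.card Ω := by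
  haveI : IsPretransitive G Ω := by
    haveI := hZ.2.1
    exact MulAction.isPretransitive_of_is_two_pretransitive
  rw [MulAction.index_stabilizer_of_transitive, Nat.card_eq_fintype_card]

theorem EE_index (hZ : IsZassenhausGroup G Ω) {a b : Ω} (hab : a ≠ b) :
    ((stabilizer G a ⊓ stabilizer G b : Subgroup G).subgroupOf (stabilizer G a)).index + 1 = Fintype.card Ω := by
  classical
  have h1 : (stabilizer G a ⊓ stabilizer G b : Subgroup G).subgroupOf (stabilizer G a) = stabilizer (stabilizer G a) b := by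
    ext x
    rw [Subgroup.mem_subgroupOf, mem_EE, mem_stabilizer_iff]
    exact ⟨fun h => h.2, fun h => ⟨x.2, h⟩⟩
  rw [h1, MulAction.index_stabilizer]
  have h2 : orbit (stabilizer G a) b = {a}ᶜ := by
    ext c
    rw [mem_orbit_iff, Set.mem_compl_iff, Set.mem_singleton_iff]
    constructor
    · rintro ⟨x, rfl⟩ h
      apply hab
      have h3 : (x : G) • a = a := x.2
      have h4 : (x : G) • b = a := h
      exact smul_left_cancel (x : G) (h3.trans h4.symm)
    · intro hc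
      obtain ⟨g, hga, hgb⟩ := exists_map2 hZ hab (Ne.symm hc)
      exact ⟨⟨g, hga⟩, hgb⟩
  rw [h2, ← Nat.card_coe_set_eq, Nat.card_eq_fintype_card, Fintype.card_compl_set]
  simp only [Fintype.card_unique]
  have : 0 < Fintype.card Ω := Fintype.card_pos_iff.mpr ⟨a⟩
  omega

theorem card_stab (hZ : IsZassenhausGroup G Ω) {a b : Ω} (hab : a ≠ b) :
    Nat.card (stabilizer G a) = (Fintype.card Ω - 1) * Nat.card (stabilizer G a ⊓ stabilizer G b : Subgroup G) := by
  have h1 := EE_index hZ hab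
  have h2 := ((stabilizer G a ⊓ stabilizer G b : Subgroup G).subgroupOf (stabilizer G a)).card_mul_index
  rw [Nat.card_congr (Subgroup.subgroupOfEquivOfLe inf_le_left).toEquiv] at h2
  rw [← h2, ← h1, Nat.add_sub_cancel, mul_comm]

theorem card_G (hZ : IsZassenhausGroup G Ω) {a b : Ω} (hab : a ≠ b) :
    Nat.card G = Fintype.card Ω * (Fintype.card Ω - 1) * Nat.card (stabilizer G a ⊓ stabilizer G b : Subgroup G) := by
  rw [← (stabilizer G a).card_mul_index, stab_index hZ, card_stab hZ hab]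
  ring

theorem isTI_EE (hZ : IsZassenhausGroup G Ω) {a b : Ω} (hab : a ≠ b) :
    CfsgLib.FrobTI.IsTI ((stabilizer G a ⊓ stabilizer G b : Subgroup G).subgroupOf (stabilizer G a)) := by
  intro g hg
  rw [eq_bot_iff]
  rintro x ⟨hx, hx2⟩
  have hx : (x : G) ∈ stabilizer G a ⊓ stabilizer G b := hx
  have hx2 := CfsgLib.FrobTI.mem_conj_iff.mp hx2
  have hx2 : ((g : G)⁻¹ * x * g) ∈ stabilizer G a ⊓ stabilizer G b := hx2
  rw [mem_EE] at hx hx2
  have hga : (g : G) • a = a := g.2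
  have hgb : (g : G) • b ≠ b := by
    intro h
    apply hg
    exact mem_EE.mpr ⟨hga, h⟩
  rw [Subgroup.mem_bot]
  by_contra hx1
  have hx1' : (x : G) ≠ 1 := fun h => hx1 (Subtype.ext h)
  have h3 : (x : G) • ((g : G) • b) = (g : G) • b := by
    have := hx2.2
    rw [mul_smul, mul_smul, inv_smul_eq_iff] at this
    exact this
  rcases fix3 hZ hx1' hab hx.1 hx.2 h3 with h | h
  · apply hab
    exact (smul_left_cancel (g : G) (h.trans hga.symm)).symm
  · exact hgb h

variable {a b : Ω} {H : Subgroup G}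

theorem mem_H_iff (hZ : IsZassenhausGroup G Ω) (hab : a ≠ b) (hHa : H ≤ stabilizer G a) (hHcard : Nat.card H + 1 = Fintype.card Ω)
    (hHfix : ∀ u ∈ H, u ≠ 1 → ∀ c : Ω, u • c = c → c = a) {g : G} (hg : g ∈ stabilizer G a) : g ∈ H ↔ (g ≠ 1 → ∀ c : Ω, g • c = c → c = a) := by
  refine ⟨fun h h1 => hHfix g h h1, fun h => ?_⟩
  have hTI := isTI_EE hZ hab
  have h1 := CfsgLib.FrobTI.card_kernel hTI
  have h2 := EE_index hZ hab
  have h3 : ((H.subgroupOf (stabilizer G a) : Subgroup (stabilizer G a)) : Set (stabilizer G a)) ⊆ frobeniusKernel ((stabilizer G a ⊓ stabilizer G b : Subgroup G).subgroupOf (stabilizer G a)) := by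
    intro u hu
    have hu : (u : G) ∈ H := hu
    rw [CfsgLib.FrobTI.kernel_eq]
    rintro ⟨hu1, k, hk⟩
    rw [CfsgLib.FrobTI.mem_conj_iff] at hk
    have hk : ((k : G)⁻¹ * u * k) ∈ stabilizer G a ⊓ stabilizer G b := hk
    rw [mem_EE] at hk
    have h3 : (u : G) • ((k : G) • b) = (k : G) • b := by
      have := hk.2
      rw [mul_smul, mul_smul, inv_smul_eq_iff] at this
      exact this
    have h4 := hHfix u hu (fun h => hu1 (Subtype.ext h)) _ h3
    apply hab
    have hka : (k : G) • a = a := k.2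
    exact (smul_left_cancel (k : G) (h4.trans hka.symm)).symm
  have h4 : Nat.card (H.subgroupOf (stabilizer G a)) = Nat.card H := Nat.card_congr (Subgroup.subgroupOfEquivOfLe hHa).toEquiv
  have h5 : ((H.subgroupOf (stabilizer G a) : Subgroup (stabilizer G a)) : Set (stabilizer G a)) = frobeniusKernel ((stabilizer G a ⊓ stabilizer G b : Subgroup G).subgroupOf (stabilizer G a)) := by
    apply Set.eq_of_subset_of_ncard_le h3
    rw [← Nat.card_coe_set_eq, ← Nat.card_coe_set_eq, h1]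
    show _ ≤ Nat.card (H.subgroupOf (stabilizer G a))
    rw [h4]
    omega
  have h6 : (⟨g, hg⟩ : stabilizer G a) ∈ ((H.subgroupOf (stabilizer G a) : Subgroup (stabilizer G a)) : Set (stabilizer G a)) := by
    rw [h5, CfsgLib.FrobTI.kernel_eq]
    rintro ⟨hg1, k, hk⟩
    rw [CfsgLib.FrobTI.mem_conj_iff] at hk
    have hk : ((k : G)⁻¹ * g * k) ∈ stabilizer G a ⊓ stabilizer G b := hk
    rw [mem_EE] at hk
    have h3 : g • ((k : G) • b) = (k : G) • b := by
      have := hk.2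
      rw [mul_smul, mul_smul, inv_smul_eq_iff] at this
      exact this
    have h4 := h (fun h => hg1 (Subtype.ext h)) _ h3
    apply hab
    have hka : (k : G) • a = a := k.2
    exact (smul_left_cancel (k : G) (h4.trans hka.symm)).symm
  exact h6

theorem H_normal (hZ : IsZassenhausGroup G Ω) (hab : a ≠ b) (hHa : H ≤ stabilizer G a) (hHcard : Nat.card H + 1 = Fintype.card Ω)
    (hHfix : ∀ u ∈ H, u ≠ 1 → ∀ c : Ω, u • c = c → c = a) {g : G} (hg : g ∈ stabilizer G a) {u : G} (hu : u ∈ H) : g * u * g⁻¹ ∈ H := by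
  have hg' : g⁻¹ • a = a := inv_smul_eq_iff.mpr (mem_stabilizer_iff.mp hg).symm
  rw [mem_H_iff hZ hab hHa hHcard hHfix (mul_mem (mul_mem hg (hHa hu)) (inv_mem hg))]
  intro h1 c hc
  rw [conj_fix] at hc
  have h2 := hHfix u hu (by rintro rfl; apply h1; group) _ hc
  rw [inv_smul_eq_iff] at h2
  rw [h2]
  exact mem_stabilizer_iff.mp hg

omit [Finite G] in
theorem H_ti (hHfix : ∀ u ∈ H, u ≠ 1 → ∀ c : Ω, u • c = c → c = a) (hHa : H ≤ stabilizer G a) {g u : G} (hu : u ∈ H) (hgu : g * u * g⁻¹ ∈ H) (hu1 : u ≠ 1) :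
    g ∈ stabilizer G a := by
  have h2 : g * u * g⁻¹ ≠ 1 := by
    intro h
    apply hu1
    have : u = g⁻¹ * (g * u * g⁻¹) * g := by group
    rw [this, h]; group
  exact hHfix _ hgu h2 _ (conj_fix'.mpr (hHa hu))

theorem H_ne_bot (hZ : IsZassenhausGroup G Ω) (hHcard : Nat.card H + 1 = Fintype.card Ω) : ∃ u ∈ H, u ≠ 1 := by
  have h1 := CfsgLib.PermZ4.three_le hZ
  have h2 : 1 < Nat.card H := by omega
  haveI := (Finite.one_lt_card_iff_nontrivial).mp h2
  obtain ⟨u, hu⟩ := exists_ne (1 : H)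
  exact ⟨u, u.2, fun h => hu (Subtype.ext h)⟩

theorem normalizer_H (hZ : IsZassenhausGroup G Ω) (hab : a ≠ b) (hHa : H ≤ stabilizer G a) (hHcard : Nat.card H + 1 = Fintype.card Ω)
    (hHfix : ∀ u ∈ H, u ≠ 1 → ∀ c : Ω, u • c = c → c = a) : Subgroup.normalizer (H : Set G) = stabilizer G a := by
  apply le_antisymm
  · intro g hg
    obtain ⟨u, hu, hu1⟩ := H_ne_bot hZ hHcard
    exact H_ti hHfix hHa hu ((Subgroup.mem_normalizer_iff.mp hg u).mp hu) hu1
  · intro g hg
    rw [Subgroup.mem_normalizer_iff]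
    intro u
    refine ⟨fun hu => H_normal hZ hab hHa hHcard hHfix hg hu, fun hu => ?_⟩
    have := H_normal hZ hab hHa hHcard hHfix (inv_mem hg) hu
    have e : g⁻¹ * (g * u * g⁻¹) * g⁻¹⁻¹ = u := by group
    rwa [e] at this

end fin

end CfsgLib.H7Z
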