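import Mathlib
import Cfsg.Agent.Lib.H7Z1

/-!
# Zassenhaus groups: counting elements
-/

set_option autoImplicit false
set_option linter.style.haveILetI false
set_option linter.unusedSectionVars false

open MulAction Cfsg
open scoped Pointwise

namespace CfsgLib.H7Z

universe u v

variable {G : Type u} {Ω : Type v} [Group G] [MulAction G Ω]

section fin

variable [Fintype G] [Fintype Ω] [DecidableEq Ω]

/-- number of fixed points -/
def kf (Ω : Type v) [MulAction G Ω] [Fintype Ω] [DecidableEq Ω] (g : G) : ℕ := (Finset.univ.filter (fun c : Ω => g • c = c)).card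

omit [Fintype G] in
theorem kf_le (hZ : IsZassenhausGroup G Ω) {g : G} (hg : g ≠ 1) : kf Ω g ≤ 2 := by
  haveI := hZ.1
  by_contra hcon
  push Not at hcon
  obtain ⟨a, b, c, ha, hb, hc, hab, hac, hbc⟩ := Finset.two_lt_card_iff.1 hcon
  rw [Finset.mem_filter] at ha hb hc
  exact hg (hZ.2.2.1 g a b c hab hbc hac ha.2 hb.2 hc.2)

omit [Fintype G] in
theorem kf_one : kf Ω (1 : G) = Fintype.card Ω := by
  rw [kf, Finset.filter_true_of_mem (fun c _ => one_smul G c), Finset.card_univ]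

omit [Fintype G] in
theorem kf_eq_zero {g : G} : kf Ω g = 0 ↔ ∀ c : Ω, g • c ≠ c := by
  rw [kf, Finset.card_eq_zero, Finset.filter_eq_empty_iff]
  simp

theorem sum_kf (hZ : IsZassenhausGroup G Ω) : ∑ g : G, kf Ω g = Nat.card G := by
  classical
  have h1 : ∀ g : G, kf Ω g = ∑ c : Ω, if g • c = c then 1 else 0 := by
    intro g
    rw [kf, Finset.card_filter]
  rw [Finset.sum_congr rfl fun g _ => h1 g, Finset.sum_comm]
  have h2 : ∀ c : Ω, (∑ g : G, if g • c = c then 1 else 0) = Nat.card (stabilizer G c) := by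
    intro c
    rw [← Finset.card_filter, Nat.card_eq_fintype_card, Fintype.card_subtype]
    congr 1
  rw [Finset.sum_congr rfl fun c _ => h2 c]
  have h3 : ∀ c : Ω, Fintype.card Ω * Nat.card (stabilizer G c) = Nat.card G := by
    intro c
    rw [← (stabilizer G c).card_mul_index, stab_index hZ, mul_comm]
  have h4 : 0 < Fintype.card Ω := by have := CfsgLib.PermZ4.three_le hZ; omega
  apply Nat.eq_of_mul_eq_mul_left h4
  rw [Finset.mul_sum, Finset.sum_congr rfl fun c _ => h3 c, Finset.sum_const, Finset.card_univ, smul_eq_mul]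

theorem sum_kf2 (hZ : IsZassenhausGroup G Ω) : ∑ g : G, (kf Ω g * kf Ω g - kf Ω g) = Nat.card G := by
  classical
  have h1 : ∀ g : G, kf Ω g * kf Ω g - kf Ω g = ∑ p ∈ (Finset.univ : Finset Ω).offDiag, if g • p.1 = p.1 ∧ g • p.2 = p.2 then 1 else 0 := by
    intro g
    rw [kf, ← Finset.offDiag_card, ← Finset.card_filter]
    congr 1
    ext p
    simp only [Finset.mem_offDiag, Finset.mem_filter, Finset.mem_univ, true_and]
    tauto
  rw [Finset.sum_congr rfl fun g _ => h1 g, Finset.sum_comm]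
  have h2 : ∀ p : Ω × Ω, (∑ g : G, if g • p.1 = p.1 ∧ g • p.2 = p.2 then 1 else 0) = Nat.card (stabilizer G p.1 ⊓ stabilizer G p.2 : Subgroup G) := by
    intro p
    rw [← Finset.card_filter, Nat.card_eq_fintype_card, Fintype.card_subtype]
    congr 1
    ext x
    rw [Finset.mem_filter, Finset.mem_filter, mem_EE]
  rw [Finset.sum_congr rfl fun c _ => h2 c]
  have h3 : ∀ p ∈ (Finset.univ : Finset Ω).offDiag, (Fintype.card Ω * (Fintype.card Ω - 1)) * Nat.card (stabilizer G p.1 ⊓ stabilizer G p.2 : Subgroup G) = Nat.card G := by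
    intro p hp
    rw [Finset.mem_offDiag] at hp
    exact (card_G hZ hp.2.2).symm
  have h5 := CfsgLib.PermZ4.three_le hZ
  have h4 : 0 < Fintype.card Ω * (Fintype.card Ω - 1) := Nat.mul_pos (by omega) (by omega)
  apply Nat.eq_of_mul_eq_mul_left h4
  rw [Finset.mul_sum, Finset.sum_congr rfl h3, Finset.sum_const, Finset.offDiag_card, Finset.card_univ, smul_eq_mul, Nat.mul_sub_one]

/-- number of fixed-point-free elements -/
theorem card_fpf (hZ : IsZassenhausGroup G Ω) :
    2 * Nat.card {g : G // ∀ c : Ω, g • c ≠ c} + (Fintype.card Ω - 1) * (Fintype.card Ω - 2) = Nat.card G := by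
  classical
  have h1 := sum_kf hZ
  have h2 := sum_kf2 hZ
  have h5 := CfsgLib.PermZ4.three_le hZ
  have h3 : ∑ g : G, (1 : ℕ) = Nat.card G := by rw [Finset.sum_const, Finset.card_univ, smul_eq_mul, mul_one, Nat.card_eq_fintype_card]
  have h4 : Nat.card {g : G // ∀ c : Ω, g • c ≠ c} = ∑ g : G, if (∀ c : Ω, g • c ≠ c) then 1 else 0 := by
    rw [← Finset.card_filter, Nat.card_eq_fintype_card, Fintype.card_subtype]
  have key : ∀ g : G, g ≠ 1 → ((kf Ω g * kf Ω g - kf Ω g : ℕ) : ℤ) - 2 * kf Ω g + 2 = 2 * (if (∀ c : Ω, g • c ≠ c) then 1 else 0) := by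
    intro g hg
    have h6 := kf_le hZ hg
    have h7 := kf_eq_zero (Ω := Ω) (g := g)
    obtain ⟨k, hk⟩ : ∃ k, k = kf Ω g := ⟨_, rfl⟩
    rw [← hk] at h6 h7 ⊢
    by_cases h0 : ∀ c : Ω, g • c ≠ c
    · rw [if_pos h0, h7.mpr h0]; norm_num
    · rw [if_neg h0]
      have h8 : k ≠ 0 := fun h => h0 (h7.mp h)
      have : k = 1 ∨ k = 2 := by omega
      rcases this with h | h <;> rw [h] <;> norm_num
  have h6 : ∑ g : G, (((kf Ω g * kf Ω g - kf Ω g : ℕ) : ℤ) - 2 * kf Ω g + 2) = (Nat.card G : ℤ) - 2 * Nat.card G + 2 * Nat.card G := by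
    rw [Finset.sum_add_distrib, Finset.sum_sub_distrib, ← Finset.mul_sum, ← Nat.cast_sum, ← Nat.cast_sum, h1, h2, Finset.sum_const, Finset.card_univ,
      Nat.card_eq_fintype_card, nsmul_eq_mul]
    ring
  rw [← Finset.add_sum_erase Finset.univ _ (Finset.mem_univ (1 : G)), Finset.sum_congr rfl (fun g hg => key g (Finset.ne_of_mem_erase hg)), kf_one] at h6
  have h7 : ¬ ∀ c : Ω, (1 : G) • c ≠ c := by
    intro h
    obtain ⟨c⟩ : Nonempty Ω := Fintype.card_pos_iff.mp (by omega)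
    exact h c (one_smul G c)
  have h8 : ∑ g ∈ Finset.univ.erase (1 : G), (2 : ℤ) * (if (∀ c : Ω, g • c ≠ c) then 1 else 0) = 2 * (Nat.card {g : G // ∀ c : Ω, g • c ≠ c} : ℤ) := by
    rw [h4, ← Finset.mul_sum, ← Finset.add_sum_erase Finset.univ _ (Finset.mem_univ (1 : G)), if_neg h7, zero_add]
    push_cast
    rfl
  rw [h8] at h6
  obtain ⟨m, hm⟩ : ∃ m, Fintype.card Ω = m + 3 := ⟨Fintype.card Ω - 3, by omega⟩
  rw [hm] at h6 ⊢
  have e1 : (((m + 3) * (m + 3) - (m + 3) : ℕ) : ℤ) = (m + 3) * (m + 2) := by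
    have : (m + 3) * (m + 3) - (m + 3) = (m + 3) * (m + 2) := by
      rw [Nat.sub_eq_iff_eq_add (Nat.le_mul_of_pos_left _ (by omega))]; ring
    rw [this]; push_cast; ring
  rw [e1] at h6
  have e2 : m + 3 - 1 = m + 2 := rfl
  have e3 : m + 3 - 2 = m + 1 := rfl
  rw [e2, e3]
  zify
  push_cast at h6
  linarith

end fin

end CfsgLib.H7Z
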