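import Mathlib
import Cfsg.Agent.Lib.H7Z2
import Cfsg.Agent.Lib.FrobThm
import Cfsg.Agent.Lib.FrobAct2
import Cfsg.Agent.Lib.FrobWie
import Cfsg.Agent.Lib.H3ZAct

/-!
# Simple Zassenhaus groups with two-point stabilizer of odd order: the two-point stabilizer is cyclic and inverted by swaps
-/

set_option autoImplicit false
set_option linter.style.haveILetI false
set_option linter.unusedSectionVars false

open MulAction Cfsg
open scoped Pointwise commutatorElement

namespace CfsgLib.H7Z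

universe u v

variable {G : Type u} {Ω : Type v} [Group G] [MulAction G Ω] [Finite G] [Fintype Ω]

theorem exists_b (hZ : IsZassenhausGroup G Ω) (a : Ω) : ∃ b : Ω, a ≠ b := by
  have h1 := CfsgLib.PermZ4.three_le hZ
  haveI : Nontrivial Ω := Fintype.one_lt_card_iff_nontrivial.mp (by omega)
  obtain ⟨b, hb⟩ := exists_ne a
  exact ⟨b, hb.symm⟩

/-- the regular normal subgroup of a point stabilizer -/
theorem exists_H (hZ : IsZassenhausGroup G Ω) (a : Ω) : ∃ H : Subgroup G, H ≤ stabilizer G a ∧ Nat.card H + 1 = Fintype.card Ω ∧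
    ∀ u ∈ H, u ≠ 1 → ∀ c : Ω, u • c = c → c = a := by
  obtain ⟨b, hab⟩ := exists_b hZ a
  have hTI := isTI_EE hZ hab
  have hidx := EE_index hZ hab
  have h3 := CfsgLib.PermZ4.three_le hZ
  obtain ⟨E', hE'⟩ : ∃ E' : Subgroup (stabilizer G a), E' = (stabilizer G a ⊓ stabilizer G b : Subgroup G).subgroupOf (stabilizer G a) := ⟨_, rfl⟩
  rw [← hE'] at hTI hidx
  have hFC : IsFrobeniusComplement E' := by
    refine ⟨?_, ?_, hTI⟩
    · intro h
      obtain ⟨x, hx, hx1⟩ := exists_ne_one_EE hZ hab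
      have h1 : (⟨x, hx.1⟩ : stabilizer G a) ∈ E' := by rw [hE', Subgroup.mem_subgroupOf]; exact hx
      rw [h, Subgroup.mem_bot] at h1
      exact hx1 (congrArg Subtype.val h1)
    · intro h
      rw [h, Subgroup.index_top] at hidx
      omega
  obtain ⟨K, hK, hKn, hKc⟩ := CfsgLib.FrobThm.frobenius_theorem E' hFC
  refine ⟨K.map (stabilizer G a).subtype, Subgroup.map_subtype_le K, ?_, ?_⟩
  · rw [Subgroup.card_map_of_injective (Subgroup.subtype_injective _), ← hidx]
    congr 1
    have := CfsgLib.FrobTI.card_kernel hTI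
    rw [← this, ← hK]
    rfl
  · rintro u ⟨⟨u, hua⟩, huK, rfl⟩ hu1 c hc
    by_contra hca
    have hu1 : (⟨u, hua⟩ : stabilizer G a) ≠ 1 := fun h => hu1 (congrArg Subtype.val h)
    have hc : u • c = c := hc
    have h4 : (⟨u, hua⟩ : stabilizer G a) ∈ (K : Set (stabilizer G a)) := huK
    rw [hK, CfsgLib.FrobTI.kernel_eq] at h4
    apply h4
    refine ⟨hu1, ?_⟩
    obtain ⟨g, hga, hgb⟩ := exists_map2 hZ hab (Ne.symm hca)
    refine ⟨⟨g, hga⟩, ?_⟩
    rw [CfsgLib.FrobTI.mem_conj_iff, hE', Subgroup.mem_subgroupOf]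
    show g⁻¹ * u * g ∈ stabilizer G a ⊓ stabilizer G b
    rw [mem_EE]
    have e : g⁻¹ * u * g = g⁻¹ * u * (g⁻¹)⁻¹ := by group
    rw [e, conj_fix, conj_fix, inv_inv, hga, hgb]
    exact ⟨hua, hc⟩

variable {a b : Ω} {H : Subgroup G}

theorem fpf_EH (hZ : IsZassenhausGroup G Ω) (hab : a ≠ b) (hHa : H ≤ stabilizer G a) (hHcard : Nat.card H + 1 = Fintype.card Ω)
    (hHfix : ∀ u ∈ H, u ≠ 1 → ∀ c : Ω, u • c = c → c = a) : CfsgLib.FrobAct.Fpf (stabilizer G a ⊓ stabilizer G b) H := by
  refine CfsgLib.FrobAct.Fpf.of_forall ?_ ?_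
  · rw [normalizer_H hZ hab hHa hHcard hHfix]
    exact inf_le_left
  · intro x hx hx1 u hu hxu
    by_contra hu1
    rw [mem_EE] at hx
    have h1 : x • (u • b) = u • b := by rw [← mul_smul, hxu, mul_smul, hx.2]
    have hua : u • a = a := mem_stabilizer_iff.mp (hHa hu)
    rcases fix3 hZ hx1 hab hx.1 hx.2 h1 with h | h
    · exact hab (smul_left_cancel u (h.trans hua.symm)).symm
    · exact hab (hHfix u hu hu1 b h).symm

theorem coprime_EH (hZ : IsZassenhausGroup G Ω) (hab : a ≠ b) (hHa : H ≤ stabilizer G a) (hHcard : Nat.card H + 1 = Fintype.card Ω)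
    (hHfix : ∀ u ∈ H, u ≠ 1 → ∀ c : Ω, u • c = c → c = a) : Nat.card (stabilizer G a ⊓ stabilizer G b : Subgroup G) ∣ Nat.card H - 1 := by
  have h1 := (fpf_EH hZ hab hHa hHcard hHfix).card_mod
  have h2 : 0 < Nat.card H := Nat.card_pos
  exact (Nat.modEq_iff_dvd' (by omega)).mp (h1.symm : 1 ≡ Nat.card H [MOD _])

/-- the order of `E` divides `n - 2` -/
theorem card_E_dvd (hZ : IsZassenhausGroup G Ω) (hab : a ≠ b) : Nat.card (stabilizer G a ⊓ stabilizer G b : Subgroup G) ∣ Fintype.card Ω - 2 := by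
  obtain ⟨H, hHa, hHcard, hHfix⟩ := exists_H hZ a
  have := coprime_EH hZ hab hHa hHcard hHfix
  rwa [← hHcard]

theorem not_comm (hZ : IsZassenhausGroup G Ω) (hab : a ≠ b) : ¬ ∀ x y : G, x * y = y * x := by
  intro hc
  obtain ⟨x, hx, hx1⟩ := exists_ne_one_EE hZ hab
  rw [mem_EE] at hx
  haveI := hZ.1
  apply hx1
  apply FaithfulSMul.eq_of_smul_eq_smul (α := Ω)
  intro c
  by_cases hca : c = a
  · rw [hca, hx.1, one_smul]
  · obtain ⟨g, hga, -⟩ := exists_map2 hZ hab hca
    rw [← hga, ← mul_smul, hc x g, mul_smul, hx.1, one_smul]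

theorem isZGroup_E (hZ : IsZassenhausGroup G Ω) (hab : a ≠ b) (hodd : Odd (Nat.card (stabilizer G a ⊓ stabilizer G b : Subgroup G))) :
    IsZGroup (stabilizer G a ⊓ stabilizer G b : Subgroup G) := by
  obtain ⟨H, hHa, hHcard, hHfix⟩ := exists_H hZ a
  have hF := fpf_EH hZ hab hHa hHcard hHfix
  have hH : H ≠ ⊥ := by
    rintro rfl
    obtain ⟨u, hu, hu1⟩ := H_ne_bot hZ hHcard
    exact hu1 hu
  rw [isZGroup_iff]
  intro p hp P
  haveI : Fact p.Prime := ⟨hp⟩
  have hPm : IsPGroup p ((P : Subgroup (stabilizer G a ⊓ stabilizer G b : Subgroup G)).map (stabilizer G a ⊓ stabilizer G b : Subgroup G).subtype) := P.2.map _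
  have hle : (P : Subgroup (stabilizer G a ⊓ stabilizer G b : Subgroup G)).map (stabilizer G a ⊓ stabilizer G b : Subgroup G).subtype ≤ stabilizer G a ⊓ stabilizer G b :=
    Subgroup.map_subtype_le _
  have h1 := (hF.mono hle le_rfl (hle.trans hF.le_normalizer)).cyclic_or_quaternion hH hPm
  have e := (P : Subgroup (stabilizer G a ⊓ stabilizer G b : Subgroup G)).equivMapOfInjective _ (Subgroup.subtype_injective (stabilizer G a ⊓ stabilizer G b : Subgroup G))
  rcases h1 with h1 | ⟨rfl, n, ⟨f⟩⟩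
  · exact isCyclic_of_surjective e.symm.toMonoidHom e.symm.surjective
  · -- order even
    have h2 : Nat.card P = 1 := by
      have h3 : Odd (Nat.card P) := Odd.of_dvd_nat hodd (Subgroup.card_subgroup_dvd_card _)
      obtain ⟨k, hk⟩ := IsPGroup.iff_card.mp P.2
      rcases Nat.eq_zero_or_pos k with rfl | hk0
      · rw [hk, pow_zero]
      · exfalso
        rw [hk] at h3
        exact (Nat.not_even_iff_odd.mpr h3) ((Nat.even_pow' hk0.ne').mpr even_two)
    haveI := (Nat.card_eq_one_iff_unique.mp h2).1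
    exact inferInstance

/-- transfer: the normalizer of `E` has no abelian quotient of odd order -/
theorem no_odd_quotient (hZ : IsZassenhausGroup G Ω) (hab : a ≠ b) [IsSimpleGroup G] (hodd : Odd (Nat.card (stabilizer G a ⊓ stabilizer G b : Subgroup G)))
    {A : Type*} [CommGroup A] (hA : ∀ x : A, x * x = 1 → x = 1)
    (φ : Subgroup.normalizer ((stabilizer G a ⊓ stabilizer G b : Subgroup G) : Set G) →* A) : ∀ x, φ x = 1 := by
  have hsq : ∀ x ∈ Subgroup.normalizer ((stabilizer G a ⊓ stabilizer G b : Subgroup G) : Set G), x * x ∈ stabilizer G a ⊓ stabilizer G b := by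
    intro x hx
    rw [mem_EE, mul_smul, mul_smul]
    rcases (mem_normalizer_iff hZ hab).mp hx with ⟨h1, h2⟩ | ⟨h1, h2⟩
    · rw [h1, h1, h2, h2]; exact ⟨rfl, rfl⟩
    · rw [h1, h2, h1]; exact ⟨rfl, rfl⟩
  have htr : ∀ m : Subgroup.normalizer ((stabilizer G a ⊓ stabilizer G b : Subgroup G) : Set G), MonoidHom.transfer φ (m : G) = φ m := by
    intro m
    apply CfsgLib.FrobWie.transfer_eq
    rintro g hg x ⟨y, hy, hyx⟩
    have hyx : g * y * g⁻¹ = x := hyx
    have hy : y ∈ Subgroup.normalizer ((stabilizer G a ⊓ stabilizer G b : Subgroup G) : Set G) := hy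
    have h2 : y * y = 1 := by
      by_contra h1
      apply hg
      refine ti_EE hZ hab (hsq y hy) h1 ?_
      have e : g * (y * y) * g⁻¹ = (x : G) * x := by rw [← hyx]; group
      rw [e]
      exact hsq x x.2
    apply hA
    rw [← map_mul]
    have : x * x = 1 := by
      apply Subtype.ext
      show (x : G) * x = 1
      rw [← hyx]
      have e : g * y * g⁻¹ * (g * y * g⁻¹) = g * (y * y) * g⁻¹ := by group
      rw [e, h2]; group
    rw [this, map_one]
  have hker : (MonoidHom.transfer φ).ker = ⊤ := by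
    rcases (inferInstance : (MonoidHom.transfer φ).ker.Normal).eq_bot_or_eq_top with h | h
    · exfalso
      apply not_comm hZ hab
      intro x y
      have hinj := (MonoidHom.ker_eq_bot_iff _).mp h
      apply hinj
      rw [map_mul, map_mul, mul_comm]
    · exact h
  intro x
  rw [← htr x, ← MonoidHom.mem_ker, hker]
  exact Subgroup.mem_top _

/-- the main structural fact -/
theorem E_cyclic_inverted (hZ : IsZassenhausGroup G Ω) (hab : a ≠ b) [IsSimpleGroup G] (hodd : Odd (Nat.card (stabilizer G a ⊓ stabilizer G b : Subgroup G))) :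
    IsCyclic (stabilizer G a ⊓ stabilizer G b : Subgroup G) ∧ ∀ s : G, s • a = b → s • b = a →
      orderOf s = 2 ∧ ∀ x ∈ stabilizer G a ⊓ stabilizer G b, s * x * s⁻¹ = x⁻¹ := by
  obtain ⟨E, hE⟩ : ∃ E : Subgroup G, E = stabilizer G a ⊓ stabilizer G b := ⟨_, rfl⟩
  have hZg := isZGroup_E hZ hab hodd
  have hnq := @no_odd_quotient G Ω _ _ _ _ a b hZ hab _ hodd
  have hmN := fun g : G => mem_normalizer_iff hZ hab (g := g)
  have hmE := fun g : G => mem_EE (a := a) (b := b) (g := g)
  rw [← hE] at hodd hZg hnq ⊢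
  simp only [← hE] at hmN hmE
  obtain ⟨s, hs2, hsa, hsb⟩ := CfsgLib.PermZ4.exists_swap hZ hab
  have hss : s * s = 1 := CfsgLib.Invol.mul_self_of_orderOf hs2
  have hsN : s ∈ Subgroup.normalizer (E : Set G) := (hmN s).mpr (Or.inr ⟨hsa, hsb⟩)
  have hsE : s ∉ E := by
    intro h
    rw [hmE, hsa] at h
    exact hab h.1.symm
  have hA : Subgroup.zpowers s ≤ Subgroup.normalizer (E : Set G) := by rwa [Subgroup.zpowers_le]
  have hcop : (Nat.card (Subgroup.zpowers s)).Coprime (Nat.card E) := by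
    rw [Nat.card_zpowers, hs2]
    exact Nat.coprime_two_left.mpr hodd
  obtain ⟨-, hcyc, hinf, hsup, hnorm, hle⟩ := CfsgLib.H3ZAct.z_main (Subgroup.zpowers s) E hA hcop hZg
  obtain ⟨D, hD⟩ : ∃ D : Subgroup G, D = ⁅E, Subgroup.zpowers s⁆ := ⟨_, rfl⟩
  rw [← hD] at hcyc hinf hsup hnorm hle
  -- `s` normalizes `D`
  have hsD : s ∈ Subgroup.normalizer (D : Set G) := by
    rw [hD]
    exact CfsgLib.PStabN.mem_normalizer_commutator hsN (Subgroup.le_normalizer (Subgroup.mem_zpowers s))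
  obtain ⟨M, hM⟩ : ∃ M : Subgroup G, M = D ⊔ Subgroup.zpowers s := ⟨_, rfl⟩
  have hDM : D ≤ M := by rw [hM]; exact le_sup_left
  have hsM : s ∈ M := by rw [hM]; exact Subgroup.mem_sup_right (Subgroup.mem_zpowers s)
  have hEM : E ≤ Subgroup.normalizer (M : Set G) := by
    rw [← hsup, sup_le_iff]
    refine ⟨hDM.trans Subgroup.le_normalizer, ?_⟩
    rintro g ⟨hgE, hgC⟩
    rw [Subgroup.mem_normalizer_iff]
    have h1 : ∀ g : G, g ∈ E → g ∈ Subgroup.centralizer (Subgroup.zpowers s : Set G) → ∀ x ∈ M, g * x * g⁻¹ ∈ M := by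
      intro g hgE hgC x hx
      have h2 : M ≤ M.comap (MulAut.conj g).toMonoidHom := by
        nth_rewrite 1 [hM]
        rw [sup_le_iff]
        constructor
        · intro d hd
          exact hDM ((Subgroup.mem_normalizer_iff.mp (hnorm hgE) d).mp hd)
        · rw [Subgroup.zpowers_le]
          show g * s * g⁻¹ ∈ M
          have := Subgroup.mem_centralizer_iff.mp hgC s (Subgroup.mem_zpowers s)
          rw [← this, mul_inv_cancel_right]
          exact hsM
      exact h2 hx
    intro x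
    refine ⟨h1 g hgE hgC x, fun hx => ?_⟩
    have := h1 g⁻¹ (inv_mem hgE) (inv_mem hgC) _ hx
    have e : g⁻¹ * (g * x * g⁻¹) * g⁻¹⁻¹ = x := by group
    rwa [e] at this
  have hfacN : ∀ n ∈ Subgroup.normalizer (E : Set G), n ∈ E ∨ n * s ∈ E := by
    intro n hn
    rw [hmE, hmE, mul_smul, mul_smul, hsa, hsb]
    rcases (hmN n).mp hn with h | ⟨h1, h2⟩
    · exact Or.inl h
    · exact Or.inr ⟨h2, h1⟩
  have hNM : Subgroup.normalizer (E : Set G) ≤ Subgroup.normalizer (M : Set G) := by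
    intro n hn
    rcases hfacN n hn with h | h
    · exact hEM h
    · have h2 := mul_mem (hEM h) (inv_mem (Subgroup.le_normalizer hsM))
      rwa [mul_inv_cancel_right] at h2
  have hEN : E ≤ Subgroup.normalizer (E : Set G) := Subgroup.le_normalizer
  haveI hMn : (M.subgroupOf (Subgroup.normalizer (E : Set G))).Normal := by
    constructor
    intro x hx g
    rw [Subgroup.mem_subgroupOf] at hx ⊢
    exact (Subgroup.mem_normalizer_iff.mp (hNM g.2) _).mp hx
  obtain ⟨f, hf⟩ : ∃ f : E →* (Subgroup.normalizer (E : Set G)) ⧸ (M.subgroupOf (Subgroup.normalizer (E : Set G))),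
      f = (QuotientGroup.mk' _).comp (Subgroup.inclusion hEN) := ⟨_, rfl⟩
  have hfs : Function.Surjective f := by
    intro q
    obtain ⟨n, rfl⟩ := QuotientGroup.mk'_surjective _ q
    rcases hfacN n n.2 with h | h
    · exact ⟨⟨n, h⟩, by rw [hf]; rfl⟩
    · refine ⟨⟨n * s, h⟩, ?_⟩
      rw [hf]
      show QuotientGroup.mk' _ (⟨(n : G) * s, hEN h⟩ : Subgroup.normalizer (E : Set G)) = _
      rw [QuotientGroup.mk'_eq_mk']
      refine ⟨⟨s⁻¹, inv_mem hsN⟩, ?_, ?_⟩
      · rw [Subgroup.mem_subgroupOf]; exact inv_mem hsM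
      · apply Subtype.ext
        show (n : G) * s * s⁻¹ = n
        group
  haveI hsolvE : Group.IsSolvable E := inferInstance
  haveI hsolvR : Group.IsSolvable ((Subgroup.normalizer (E : Set G)) ⧸ (M.subgroupOf (Subgroup.normalizer (E : Set G)))) := Group.isSolvable_of_surjective hfs
  have hoddR : Odd (Nat.card ((Subgroup.normalizer (E : Set G)) ⧸ (M.subgroupOf (Subgroup.normalizer (E : Set G))))) :=
    Odd.of_dvd_nat hodd (Subgroup.card_dvd_of_surjective f hfs)
  have hoddA : Odd (Nat.card (Abelianization ((Subgroup.normalizer (E : Set G)) ⧸ (M.subgroupOf (Subgroup.normalizer (E : Set G)))))) :=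
    Odd.of_dvd_nat hoddR (Subgroup.card_dvd_of_surjective Abelianization.of (QuotientGroup.mk_surjective))
  have hRtriv : ∀ q : (Subgroup.normalizer (E : Set G)) ⧸ (M.subgroupOf (Subgroup.normalizer (E : Set G))), q = 1 := by
    by_contra hcon
    push Not at hcon
    obtain ⟨q, hq⟩ := hcon
    haveI : Nontrivial ((Subgroup.normalizer (E : Set G)) ⧸ (M.subgroupOf (Subgroup.normalizer (E : Set G)))) := ⟨⟨q, 1, hq⟩⟩
    have h1 := Group.IsSolvable.commutator_lt_top_of_nontrivial ((Subgroup.normalizer (E : Set G)) ⧸ (M.subgroupOf (Subgroup.normalizer (E : Set G))))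
    apply h1.ne
    rw [eq_top_iff]
    intro r _
    obtain ⟨n, rfl⟩ := QuotientGroup.mk'_surjective _ r
    have h2 := hnq (A := Abelianization ((Subgroup.normalizer (E : Set G)) ⧸ (M.subgroupOf (Subgroup.normalizer (E : Set G)))))
      (by
        intro x hx
        by_contra hx1
        have h3 : orderOf x = 2 := orderOf_eq_prime (by rw [pow_two, hx]) hx1
        have h4 := orderOf_dvd_natCard x
        rw [h3] at h4
        exact (Nat.not_even_iff_odd.mpr hoddA) (even_iff_two_dvd.mpr h4))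
      (Abelianization.of.comp (QuotientGroup.mk' _)) n
    rw [MonoidHom.comp_apply] at h2
    rw [← Abelianization.ker_of, MonoidHom.mem_ker]
    exact h2
  have hCE : ∀ c ∈ E, s * c = c * s → c = 1 := by
    intro c hcE hcs
    have h1 : c ∈ M := by
      have := hRtriv (QuotientGroup.mk' _ ⟨c, hEN hcE⟩)
      rw [← MonoidHom.mem_ker, QuotientGroup.ker_mk', Subgroup.mem_subgroupOf] at this
      exact this
    have h2 : c ∈ D := by
      rw [hM] at h1
      have h3 : Subgroup.zpowers s ≤ Subgroup.normalizer (D : Set G) := by rwa [Subgroup.zpowers_le]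
      obtain ⟨d, hd, t, ht, rfl⟩ := (CfsgLib.Coprime.mem_sup_iff h3 _).mp h1
      obtain ⟨i, rfl⟩ := Subgroup.mem_zpowers_iff.mp ht
      have h4 : s ^ i ∈ E := by
        have := mul_mem (inv_mem (hle hd)) hcE
        rwa [inv_mul_cancel_left] at this
      rcases Int.even_or_odd' i with ⟨j, rfl | rfl⟩
      · have : s ^ (2 * j) = 1 := by rw [zpow_mul, zpow_two, hss, one_zpow]
        rw [this, mul_one]
        exact hd
      · exfalso
        apply hsE
        have : s ^ (2 * j + 1) = s := by rw [zpow_add, zpow_mul, zpow_two, hss, one_zpow, one_mul, zpow_one]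
        rwa [this] at h4
    have h5 : c ∈ D ⊓ Subgroup.centralizer (Subgroup.zpowers s : Set G) := by
      refine ⟨h2, ?_⟩
      refine Subgroup.mem_centralizer_iff.mpr ?_
      rintro t ht
      obtain ⟨i, rfl⟩ := Subgroup.mem_zpowers_iff.mp ht
      exact (Commute.zpow_left (show Commute s c from hcs) i).eq
    rw [hinf, Subgroup.mem_bot] at h5
    exact h5
  have hED : E = D := by
    have h1 : E ⊓ Subgroup.centralizer (Subgroup.zpowers s : Set G) = ⊥ := by
      rw [eq_bot_iff]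
      rintro c ⟨hc, hc2⟩
      rw [Subgroup.mem_bot]
      exact hCE c hc (Subgroup.mem_centralizer_iff.mp hc2 s (Subgroup.mem_zpowers s))
    rw [h1, sup_bot_eq] at hsup
    exact hsup.symm
  have hEcyc : IsCyclic E := by rw [hED]; exact hcyc
  have hcomm : ∀ x ∈ E, ∀ y ∈ E, x * y = y * x := by
    intro x hx y hy
    obtain ⟨g, hg⟩ := hEcyc.exists_generator
    obtain ⟨i, hi⟩ := Subgroup.mem_zpowers_iff.mp (hg ⟨x, hx⟩)
    obtain ⟨j, hj⟩ := Subgroup.mem_zpowers_iff.mp (hg ⟨y, hy⟩)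
    have hi : (g : G) ^ i = x := by rw [← Subgroup.coe_zpow, hi]
    have hj : (g : G) ^ j = y := by rw [← Subgroup.coe_zpow, hj]
    rw [← hi, ← hj, ← zpow_add, ← zpow_add, add_comm]
  refine ⟨hEcyc, ?_⟩
  have hinv : ∀ x ∈ E, s * x * s⁻¹ = x⁻¹ := by
    intro x hx
    have hsi : s⁻¹ = s := inv_eq_of_mul_eq_one_left hss
    have hxs : s * x * s⁻¹ ∈ E := (Subgroup.mem_normalizer_iff.mp hsN x).mp hx
    have h1 : s * (x * (s * x * s⁻¹)) = x * (s * x * s⁻¹) * s := by
      calc s * (x * (s * x * s⁻¹)) = s * x * s * x * s⁻¹ := by group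
        _ = s * x * s * x * s := by rw [hsi]
        _ = (s * x * s⁻¹) * x * s := by rw [hsi]
        _ = x * (s * x * s⁻¹) * s := by rw [hcomm _ hxs x hx]
    have h2 := hCE _ (mul_mem hx hxs) h1
    exact eq_inv_of_mul_eq_one_right h2
  intro t hta htb
  have hts : t * s⁻¹ ∈ E := by
    rw [hmE, mul_smul, mul_smul, inv_smul_eq_iff.mpr hsb.symm, inv_smul_eq_iff.mpr hsa.symm]
    exact ⟨htb, hta⟩
  obtain ⟨w, hw⟩ : ∃ w, w = t * s⁻¹ := ⟨_, rfl⟩
  have htw : t = w * s := by rw [hw]; group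
  rw [← hw] at hts
  have h1 : t * t = 1 := by
    rw [htw]
    calc w * s * (w * s) = w * (s * w * s⁻¹) * (s * s) := by group
      _ = 1 := by rw [hinv w hts, hss]; group
  refine ⟨orderOf_eq_prime (by rw [pow_two, h1]) ?_, ?_⟩
  · rintro rfl
    rw [one_smul] at hta
    exact hab hta
  · intro x hx
    rw [htw]
    calc w * s * x * (w * s)⁻¹ = w * (s * x * s⁻¹) * w⁻¹ := by group
      _ = x⁻¹ := by
        rw [hinv x hx, hcomm w hts x⁻¹ (inv_mem hx)]; group

end CfsgLib.H7Z
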