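import Mathlib
import Cfsg.Prelude.Def_Characters
import Cfsg.Agent.Lib.H7Z3
import Cfsg.Agent.Lib.CharInd
import Cfsg.Agent.Lib.CharBasic2

/-!
# Zassenhaus groups: functions induced from a point stabilizer
-/

set_option autoImplicit false
set_option linter.style.haveILetI false
set_option linter.unusedSectionVars false

open MulAction Cfsg CfsgLib.CharBasic CfsgLib.CharInd
open scoped Pointwise commutatorElement ComplexConjugate

namespace CfsgLib.H7Z

universe u v

variable {G : Type u} {Ω : Type v} [Group G] [MulAction G Ω] [Fintype G] [Fintype Ω]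
variable {a b : Ω} {H : Subgroup G}

/-- conjugation by `H` moves `x ∈ E` onto the coset `H x` -/
theorem exists_conj_of_mul (hZ : IsZassenhausGroup G Ω) (hab : a ≠ b) (hHa : H ≤ stabilizer G a) (hHcard : Nat.card H + 1 = Fintype.card Ω)
    (hHfix : ∀ u ∈ H, u ≠ 1 → ∀ c : Ω, u • c = c → c = a) {x : G} (hx : x ∈ stabilizer G a ⊓ stabilizer G b) (hx1 : x ≠ 1) {u : G} (hu : u ∈ H) :
    ∃ v ∈ H, v * x * v⁻¹ = u * x := by
  have hF := fpf_EH hZ hab hHa hHcard hHfix
  obtain ⟨f, hf⟩ : ∃ f : H → H, ∀ v : H, ((f v : H) : G) = v * x * (v : G)⁻¹ * x⁻¹ := by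
    refine ⟨fun v => ⟨v * x * (v : G)⁻¹ * x⁻¹, ?_⟩, fun v => rfl⟩
    have h1 : x * (v : G)⁻¹ * x⁻¹ ∈ H := hF.conj_mem hx (inv_mem v.2)
    have h2 := mul_mem v.2 h1
    have e : (v : G) * (x * (v : G)⁻¹ * x⁻¹) = v * x * (v : G)⁻¹ * x⁻¹ := by group
    rwa [e] at h2
  have hinj : Function.Injective f := by
    intro v w h
    have h1 := congrArg (Subtype.val : H → G) h
    rw [hf, hf] at h1
    have h2 : (v : G) * x * (v : G)⁻¹ = w * x * (w : G)⁻¹ := mul_right_cancel h1
    have h3 : (w : G)⁻¹ * v = 1 := by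
      apply hF.eq_one hx hx1 (mul_mem (inv_mem w.2) v.2)
      calc x * ((w : G)⁻¹ * v) = (w : G)⁻¹ * (w * x * (w : G)⁻¹) * v := by group
        _ = (w : G)⁻¹ * (v * x * (v : G)⁻¹) * v := by rw [h2]
        _ = (w : G)⁻¹ * v * x := by group
    exact (Subtype.ext (inv_mul_eq_one.mp h3)).symm
  obtain ⟨v, hv⟩ := (Finite.injective_iff_surjective.mp hinj) ⟨u, hu⟩
  refine ⟨v, v.2, ?_⟩
  have h1 := congrArg (Subtype.val : H → G) hv
  rw [hf] at h1
  have h2 : (v : G) * x * (v : G)⁻¹ * x⁻¹ = u := h1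
  rw [← h2]
  group

theorem bij_HE (hZ : IsZassenhausGroup G Ω) (hab : a ≠ b) (hHa : H ≤ stabilizer G a) (hHcard : Nat.card H + 1 = Fintype.card Ω)
    (hHfix : ∀ u ∈ H, u ≠ 1 → ∀ c : Ω, u • c = c → c = a) :
    Function.Bijective (fun p : H × (stabilizer G a ⊓ stabilizer G b : Subgroup G) =>
      (⟨(p.1 : G) * p.2, mul_mem (hHa p.1.2) p.2.2.1⟩ : stabilizer G a)) := by
  classical
  haveI : Fintype H := Fintype.ofFinite _
  haveI : Fintype (stabilizer G a ⊓ stabilizer G b : Subgroup G) := Fintype.ofFinite _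
  haveI : Fintype (stabilizer G a) := Fintype.ofFinite _
  rw [Fintype.bijective_iff_injective_and_card]
  constructor
  · rintro ⟨u, x⟩ ⟨v, y⟩ h
    have h1 : (u : G) * x = v * y := congrArg Subtype.val h
    have h2 : (v : G)⁻¹ * u = y * (x : G)⁻¹ := by
      rw [inv_mul_eq_iff_eq_mul, ← mul_assoc, ← h1, mul_inv_cancel_right]
    have h3 : (v : G)⁻¹ * u ∈ H := mul_mem (inv_mem v.2) u.2
    have h3' : (v : G)⁻¹ * u ∈ stabilizer G a ⊓ stabilizer G b := by
      rw [h2]
      exact mul_mem y.2 (inv_mem x.2)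
    have h4 : (v : G)⁻¹ * u = 1 := by
      by_contra hne
      have h5 := hHfix _ h3 hne b (mem_EE.mp h3').2
      exact hab h5.symm
    have h5 : (u : G) = v := (inv_mul_eq_one.mp h4).symm
    have h6 : (x : G) = y := by
      rw [h5] at h1
      exact mul_left_cancel h1
    exact Prod.ext (Subtype.ext h5) (Subtype.ext h6)
  · rw [Fintype.card_prod, ← Nat.card_eq_fintype_card, ← Nat.card_eq_fintype_card, ← Nat.card_eq_fintype_card, card_stab hZ hab, ← hHcard,
      Nat.add_sub_cancel]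

theorem exists_fac (hZ : IsZassenhausGroup G Ω) (hab : a ≠ b) (hHa : H ≤ stabilizer G a) (hHcard : Nat.card H + 1 = Fintype.card Ω)
    (hHfix : ∀ u ∈ H, u ≠ 1 → ∀ c : Ω, u • c = c → c = a) {n : G} (hn : n • a = a) : ∃ u ∈ H, ∃ x ∈ stabilizer G a ⊓ stabilizer G b, n = u * x := by
  obtain ⟨⟨u, x⟩, h⟩ := (bij_HE hZ hab hHa hHcard hHfix).2 ⟨n, hn⟩
  exact ⟨u, u.2, x, x.2, (congrArg Subtype.val h).symm⟩

theorem sum_stab (hZ : IsZassenhausGroup G Ω) (hab : a ≠ b) (hHa : H ≤ stabilizer G a) (hHcard : Nat.card H + 1 = Fintype.card Ω)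
    (hHfix : ∀ u ∈ H, u ≠ 1 → ∀ c : Ω, u • c = c → c = a) (F : G → ℂ) (hF : ∀ g ∈ stabilizer G a, ∀ x, F (g * x * g⁻¹) = F x)
    [Fintype (stabilizer G a)] [Fintype H] [Fintype (stabilizer G a ⊓ stabilizer G b : Subgroup G)] :
    ∑ n : stabilizer G a, F n = ∑ u : H, F u + (Nat.card H : ℂ) * (∑ x : (stabilizer G a ⊓ stabilizer G b : Subgroup G), F x - F 1) := by
  classical
  have hbij := bij_HE hZ hab hHa hHcard hHfix
  have h1 : ∑ n : stabilizer G a, F n = ∑ p : H × (stabilizer G a ⊓ stabilizer G b : Subgroup G), F ((p.1 : G) * p.2) :=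
    (Fintype.sum_bijective _ hbij _ _ fun p => rfl).symm
  rw [h1, Fintype.sum_prod_type_right]
  have h2 : ∀ x : (stabilizer G a ⊓ stabilizer G b : Subgroup G), x ≠ 1 → ∑ u : H, F ((u : G) * x) = (Nat.card H : ℂ) * F x := by
    intro x hx
    have h3 : ∀ u : H, F ((u : G) * x) = F x := by
      intro u
      obtain ⟨v, hv, hvx⟩ := exists_conj_of_mul hZ hab hHa hHcard hHfix x.2 (fun h => hx (Subtype.ext h)) u.2
      rw [← hvx, hF v (hHa hv)]
    rw [Finset.sum_congr rfl fun u _ => h3 u, Finset.sum_const, Finset.card_univ, nsmul_eq_mul, Nat.card_eq_fintype_card]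
  rw [← Finset.add_sum_erase Finset.univ _ (Finset.mem_univ (1 : (stabilizer G a ⊓ stabilizer G b : Subgroup G))),
    Finset.sum_congr rfl (fun x hx => h2 x (Finset.ne_of_mem_erase hx)), ← Finset.mul_sum,
    ← Finset.add_sum_erase Finset.univ (fun x : (stabilizer G a ⊓ stabilizer G b : Subgroup G) => F x) (Finset.mem_univ (1 : (stabilizer G a ⊓ stabilizer G b : Subgroup G)))]
  have h3 : ((1 : (stabilizer G a ⊓ stabilizer G b : Subgroup G)) : G) = 1 := rfl
  simp only [h3, mul_one]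
  ring

omit [Fintype Ω] in
/-- the induced function at an element whose only fixed point is `a` -/
theorem ind_one_fix {θ : stabilizer G a → ℂ} (hθ : IsClassFunction (stabilizer G a) θ) {u : G} (hua : u • a = a) (hfix : ∀ c : Ω, u • c = c → c = a) :
    indFun (stabilizer G a) θ u = θ ⟨u, hua⟩ := by
  classical
  haveI : Fintype (stabilizer G a) := Fintype.ofFinite _
  rw [indFun_apply]
  have h1 : ∀ g : G, extendByZero (stabilizer G a) θ (g⁻¹ * u * g) = extendByZero (stabilizer G a) (fun _ => θ ⟨u, hua⟩) g := by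
    intro g
    by_cases hg : g ∈ stabilizer G a
    · rw [ext_of_mem hg]
      have h2 := ext_conj_mem hθ (inv_mem hg) u
      rw [inv_inv] at h2
      rw [h2, ext_of_mem (mem_stabilizer_iff.mpr hua)]
    · rw [ext_of_not_mem hg, ext_of_not_mem]
      intro h
      apply hg
      rw [mem_stabilizer_iff] at h ⊢
      apply hfix
      rw [mul_smul, mul_smul, inv_smul_eq_iff] at h
      exact h
  rw [Finset.sum_congr rfl fun g _ => h1 g, sum_ext, Finset.sum_const, Finset.card_univ, nsmul_eq_mul, ← Nat.card_eq_fintype_card, ← mul_assoc,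
    inv_mul_cancel₀ (card_sub_ne_zero _), one_mul]

omit [Fintype Ω] in
theorem ind_fpf {θ : stabilizer G a → ℂ} {g : G} (hg : ∀ c : Ω, g • c ≠ c) : indFun (stabilizer G a) θ g = 0 := by
  apply indFun_eq_zero
  intro x hx
  rw [mem_stabilizer_iff, mul_smul, mul_smul, inv_smul_eq_iff] at hx
  exact hg _ hx

omit [Fintype Ω] in
theorem ind_EE (hZ : IsZassenhausGroup G Ω) (hab : a ≠ b) {θ : stabilizer G a → ℂ} (hθ : IsClassFunction (stabilizer G a) θ) {x : G}
    (hx : x ∈ stabilizer G a ⊓ stabilizer G b) (hx1 : x ≠ 1) {s : G} (hsa : s • a = b) (hsx : s⁻¹ * x * s ∈ stabilizer G a) :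
    indFun (stabilizer G a) θ x = θ ⟨x, hx.1⟩ + θ ⟨s⁻¹ * x * s, hsx⟩ := by
  classical
  haveI : Fintype (stabilizer G a) := Fintype.ofFinite _
  rw [indFun_apply]
  have h1 : ∀ g : G, extendByZero (stabilizer G a) θ (g⁻¹ * x * g) = extendByZero (stabilizer G a) (fun _ => θ ⟨x, hx.1⟩) g +
      extendByZero (stabilizer G a) (fun _ => θ ⟨s⁻¹ * x * s, hsx⟩) (s⁻¹ * g) := by
    intro g
    by_cases hg : g ∈ stabilizer G a
    · have hg2 : s⁻¹ * g ∉ stabilizer G a := by
        intro h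
        rw [mem_stabilizer_iff, mul_smul, mem_stabilizer_iff.mp hg, inv_smul_eq_iff, hsa] at h
        exact hab h
      rw [ext_of_mem hg, ext_of_not_mem hg2, add_zero]
      have h2 := ext_conj_mem hθ (inv_mem hg) x
      rw [inv_inv] at h2
      rw [h2, ext_of_mem]
    · rw [ext_of_not_mem hg, zero_add]
      by_cases hg2 : s⁻¹ * g ∈ stabilizer G a
      · rw [ext_of_mem hg2]
        have h2 := ext_conj_mem hθ (inv_mem hg2) (s⁻¹ * x * s)
        have e : (s⁻¹ * g)⁻¹ * (s⁻¹ * x * s) * (s⁻¹ * g)⁻¹⁻¹ = g⁻¹ * x * g := by group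
        rw [e] at h2
        rw [h2, ext_of_mem]
      · rw [ext_of_not_mem hg2, ext_of_not_mem]
        intro h
        rw [mem_stabilizer_iff, mul_smul, mul_smul, inv_smul_eq_iff] at h
        rcases fix3 hZ hx1 hab (mem_EE.mp hx).1 (mem_EE.mp hx).2 h with h3 | h3
        · exact hg (mem_stabilizer_iff.mpr h3)
        · apply hg2
          rw [mem_stabilizer_iff, mul_smul, inv_smul_eq_iff, h3, hsa]
  have h2 : ∑ g : G, extendByZero (stabilizer G a) (fun _ => θ ⟨s⁻¹ * x * s, hsx⟩) (s⁻¹ * g) = ∑ g : G, extendByZero (stabilizer G a) (fun _ => θ ⟨s⁻¹ * x * s, hsx⟩) g :=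
    Fintype.sum_equiv (Equiv.mulLeft s⁻¹) _ _ fun g => rfl
  rw [Finset.sum_congr rfl fun g _ => h1 g, Finset.sum_add_distrib, h2, sum_ext, sum_ext, Finset.sum_const, Finset.sum_const, Finset.card_univ, nsmul_eq_mul,
    nsmul_eq_mul, ← Nat.card_eq_fintype_card, ← mul_add, ← mul_assoc, inv_mul_cancel₀ (card_sub_ne_zero _), one_mul]

end CfsgLib.H7Z
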