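import Mathlib
import Cfsg.Agent.Lib.H7Z4

/-!
# Simple Zassenhaus groups with two-point stabilizer of odd order: involutions
-/

set_option autoImplicit false
set_option linter.style.haveILetI false
set_option linter.unusedSectionVars false

open MulAction Cfsg
open scoped Pointwise commutatorElement

namespace CfsgLib.H7Z

universe u v

variable {G : Type u} {Ω : Type v} [Group G] [MulAction G Ω] [Finite G] [Fintype Ω]
variable {a b : Ω} {H : Subgroup G}

theorem card_EE_eq (hZ : IsZassenhausGroup G Ω) {a b c d : Ω} (hab : a ≠ b) (hcd : c ≠ d) :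
    Nat.card (stabilizer G c ⊓ stabilizer G d : Subgroup G) = Nat.card (stabilizer G a ⊓ stabilizer G b : Subgroup G) := by
  have h1 := card_G hZ hab
  rw [card_G hZ hcd] at h1
  have h3 := CfsgLib.PermZ4.three_le hZ
  exact Nat.eq_of_mul_eq_mul_left (Nat.mul_pos (by omega) (by omega)) h1

theorem exists_ne_smul (hZ : IsZassenhausGroup G Ω) {x : G} (hx : x ≠ 1) : ∃ c : Ω, x • c ≠ c := by
  by_contra hcon
  push Not at hcon
  haveI := hZ.1
  exact hx (FaithfulSMul.eq_of_smul_eq_smul (α := Ω) (fun c => by rw [hcon, one_smul]))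

omit [Finite G] [Fintype Ω] in
theorem smul_smul_self {x : G} (hx : orderOf x = 2) (c : Ω) : x • (x • c) = c := by
  rw [← mul_smul, CfsgLib.Invol.mul_self_of_orderOf hx, one_smul]

/-- all involutions are conjugate -/
theorem inv_conj (hZ : IsZassenhausGroup G Ω) (hab : a ≠ b) [IsSimpleGroup G] (hodd : Odd (Nat.card (stabilizer G a ⊓ stabilizer G b : Subgroup G)))
    {x y : G} (hx : orderOf x = 2) (hy : orderOf y = 2) : IsConj x y := by
  obtain ⟨hcyc, hinv⟩ := E_cyclic_inverted hZ hab hodd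
  have key : ∀ x : G, orderOf x = 2 → ∃ z : G, IsConj x z ∧ z • a = b ∧ z • b = a := by
    intro x hx
    have hx1 : x ≠ 1 := by
      rintro rfl
      rw [orderOf_one] at hx
      norm_num at hx
    obtain ⟨c, hc⟩ := exists_ne_smul hZ hx1
    obtain ⟨g, hgc, hgd⟩ := exists_map2 hZ (Ne.symm hc) hab
    refine ⟨g * x * g⁻¹, isConj_iff.mpr ⟨g, rfl⟩, ?_, ?_⟩
    · rw [mul_smul, mul_smul, ← hgc, inv_smul_smul, hgd]
    · rw [mul_smul, mul_smul, ← hgd, inv_smul_smul, smul_smul_self hx, hgc]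
  obtain ⟨z, hxz, hza, hzb⟩ := key x hx
  obtain ⟨w, hyw, hwa, hwb⟩ := key y hy
  refine hxz.trans (IsConj.trans ?_ hyw.symm)
  -- `w = v z` with `v ∈ E`
  have hv : w * z⁻¹ ∈ stabilizer G a ⊓ stabilizer G b := by
    rw [mem_EE, mul_smul, mul_smul, inv_smul_eq_iff.mpr hzb.symm, inv_smul_eq_iff.mpr hza.symm]
    exact ⟨hwb, hwa⟩
  obtain ⟨-, hz2⟩ := hinv z hza hzb
  obtain ⟨k, hk⟩ := hodd
  obtain ⟨v, hve⟩ : ∃ v, v = w * z⁻¹ := ⟨_, rfl⟩
  rw [← hve] at hv
  have h3 : v ^ (2 * k + 1) = 1 := by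
    rw [← hk]
    have : (⟨v, hv⟩ : (stabilizer G a ⊓ stabilizer G b : Subgroup G)) ^ Nat.card (stabilizer G a ⊓ stabilizer G b : Subgroup G) = 1 := pow_card_eq_one'
    exact congrArg Subtype.val this
  rw [isConj_iff]
  refine ⟨v ^ (k + 1), ?_⟩
  have h4 : z * (v ^ (k + 1))⁻¹ * z⁻¹ = v ^ (k + 1) := by
    have := hz2 _ (inv_mem (pow_mem hv (k + 1)))
    rwa [inv_inv] at this
  have hw : w = v * z := by rw [hve]; group
  calc v ^ (k + 1) * z * (v ^ (k + 1))⁻¹ = v ^ (k + 1) * (z * (v ^ (k + 1))⁻¹ * z⁻¹) * z := by group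
    _ = v ^ (k + 1) * v ^ (k + 1) * z := by rw [h4]
    _ = v ^ (2 * k + 1) * v * z := by rw [← pow_add, ← pow_succ]; congr 2; ring
    _ = w := by rw [h3, one_mul, hw]

/-- number of swaps -/
theorem card_swaps (hZ : IsZassenhausGroup G Ω) (hab : a ≠ b) : Nat.card {x : G // x • a = b ∧ x • b = a} = Nat.card (stabilizer G a ⊓ stabilizer G b : Subgroup G) := by
  obtain ⟨s, hsa, hsb⟩ := exists_map2 hZ hab hab.symm
  apply Nat.card_congr
  refine ⟨fun x => ⟨x.1 * s⁻¹, ?_⟩, fun x => ⟨x.1 * s, ?_⟩, fun x => ?_, fun x => ?_⟩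
  · rw [mem_EE, mul_smul, mul_smul, inv_smul_eq_iff.mpr hsb.symm, inv_smul_eq_iff.mpr hsa.symm]
    exact ⟨x.2.2, x.2.1⟩
  · have := mem_EE.mp x.2
    rw [mul_smul, mul_smul, hsa, hsb]
    exact ⟨this.2, this.1⟩
  · apply Subtype.ext; simp
  · apply Subtype.ext; simp

/-- involutions with `x • a = b` -/
theorem card_inv_map (hZ : IsZassenhausGroup G Ω) (hab : a ≠ b) [IsSimpleGroup G] (hodd : Odd (Nat.card (stabilizer G a ⊓ stabilizer G b : Subgroup G))) :
    Nat.card {x : G // orderOf x = 2 ∧ x • a = b} = Nat.card (stabilizer G a ⊓ stabilizer G b : Subgroup G) := by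
  rw [← card_swaps hZ hab]
  obtain ⟨-, hinv⟩ := E_cyclic_inverted hZ hab hodd
  apply Nat.card_congr
  apply Equiv.subtypeEquivRight
  intro x
  constructor
  · rintro ⟨h1, h2⟩
    refine ⟨h2, ?_⟩
    rw [← h2, smul_smul_self h1]
  · rintro ⟨h1, h2⟩
    exact ⟨(hinv x h1 h2).1, h1⟩

open Classical in
/-- double counting -/
theorem sum_moved (hZ : IsZassenhausGroup G Ω) (hab : a ≠ b) [IsSimpleGroup G] (hodd : Odd (Nat.card (stabilizer G a ⊓ stabilizer G b : Subgroup G)))
    [Fintype G] : ∑ x ∈ Finset.univ.filter (fun x : G => orderOf x = 2), (Fintype.card Ω - kf Ω x) =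
      Fintype.card Ω * (Fintype.card Ω - 1) * Nat.card (stabilizer G a ⊓ stabilizer G b : Subgroup G) := by
  have h1 : ∀ x ∈ Finset.univ.filter (fun x : G => orderOf x = 2), Fintype.card Ω - kf Ω x = ∑ p ∈ (Finset.univ : Finset Ω).offDiag, if x • p.1 = p.2 then 1 else 0 := by
    intro x hx
    rw [← Finset.card_filter]
    have h2 : Fintype.card Ω - kf Ω x = (Finset.univ.filter (fun c : Ω => ¬ x • c = c)).card := by
      have := Finset.card_filter_add_card_filter_not (s := (Finset.univ : Finset Ω)) (fun c : Ω => x • c = c)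
      rw [kf]
      rw [Finset.card_univ] at this
      omega
    rw [h2]
    refine Finset.card_bij (fun c _ => (c, x • c)) ?_ ?_ ?_
    · intro c hc
      rw [Finset.mem_filter] at hc
      rw [Finset.mem_filter, Finset.mem_offDiag]
      exact ⟨⟨Finset.mem_univ _, Finset.mem_univ _, fun h => hc.2 h.symm⟩, rfl⟩
    · intro c _ d _ h
      exact congrArg Prod.fst h
    · rintro ⟨c, d⟩ h
      rw [Finset.mem_filter, Finset.mem_offDiag] at h
      refine ⟨c, ?_, ?_⟩
      · rw [Finset.mem_filter]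
        refine ⟨Finset.mem_univ _, fun h' => h.1.2.2 ?_⟩
        exact h'.symm.trans h.2
      · exact Prod.ext rfl h.2
  rw [Finset.sum_congr rfl h1, Finset.sum_comm]
  have h3 : ∀ p ∈ (Finset.univ : Finset Ω).offDiag, (∑ x ∈ Finset.univ.filter (fun x : G => orderOf x = 2), if x • p.1 = p.2 then 1 else 0) =
      Nat.card (stabilizer G a ⊓ stabilizer G b : Subgroup G) := by
    intro p hp
    rw [Finset.mem_offDiag] at hp
    rw [← card_EE_eq hZ hab hp.2.2, ← card_inv_map hZ hp.2.2 (by rw [card_EE_eq hZ hab hp.2.2]; exact hodd), ← Finset.card_filter, Finset.filter_filter,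
      Nat.card_eq_fintype_card, Fintype.card_subtype]
  rw [Finset.sum_congr rfl h3, Finset.sum_const, Finset.offDiag_card, Finset.card_univ, smul_eq_mul, Nat.mul_sub_one]

open Classical in
/-- fixed points of involutions -/
theorem kf_inv (hZ : IsZassenhausGroup G Ω) (hab : a ≠ b) (hodd : Odd (Nat.card (stabilizer G a ⊓ stabilizer G b : Subgroup G)))
    {x : G} (hx : orderOf x = 2) : kf Ω x = if Even (Fintype.card Ω) then 0 else 1 := by
  haveI : Fintype G := Fintype.ofFinite G
  have hx1 : x ≠ 1 := by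
    rintro rfl
    rw [orderOf_one] at hx
    norm_num at hx
  have h1 := kf_le hZ hx1
  have h2 := CfsgLib.PermZ4.parity (Ω := Ω) (CfsgLib.Invol.mul_self_of_orderOf hx)
  have h2 : ((Fintype.card Ω : ℕ) : ZMod 2) = ((kf Ω x : ℕ) : ZMod 2) := h2
  rw [ZMod.natCast_eq_natCast_iff'] at h2
  have h3 : kf Ω x ≠ 2 := by
    intro h
    rw [kf, Finset.card_eq_two] at h
    obtain ⟨c, d, hcd, he⟩ := h
    have hc : x • c = c := (Finset.mem_filter.mp (by rw [he]; simp : c ∈ Finset.univ.filter (fun c : Ω => x • c = c))).2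
    have hd : x • d = d := (Finset.mem_filter.mp (by rw [he]; simp : d ∈ Finset.univ.filter (fun c : Ω => x • c = c))).2
    have h4 : orderOf x ∣ Nat.card (stabilizer G c ⊓ stabilizer G d : Subgroup G) := Subgroup.orderOf_dvd_natCard _ (mem_EE.mpr ⟨hc, hd⟩)
    rw [card_EE_eq hZ hab hcd, hx] at h4
    exact (Nat.not_even_iff_odd.mpr hodd) (even_iff_two_dvd.mpr h4)
  split_ifs with he
  · rw [Nat.even_iff] at he
    omega
  · rw [Nat.not_even_iff_odd, Nat.odd_iff] at he
    omega

/-- number of involutions -/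
theorem card_inv (hZ : IsZassenhausGroup G Ω) (hab : a ≠ b) [IsSimpleGroup G] (hodd : Odd (Nat.card (stabilizer G a ⊓ stabilizer G b : Subgroup G))) :
    Nat.card {x : G // orderOf x = 2} =
      if Even (Fintype.card Ω) then Nat.card (stabilizer G a ⊓ stabilizer G b : Subgroup G) * (Fintype.card Ω - 1)
        else Nat.card (stabilizer G a ⊓ stabilizer G b : Subgroup G) * Fintype.card Ω := by
  classical
  haveI : Fintype G := Fintype.ofFinite G
  have h1 := sum_moved hZ hab hodd
  have h2 : ∀ x ∈ Finset.univ.filter (fun x : G => orderOf x = 2), Fintype.card Ω - kf Ω x = Fintype.card Ω - (if Even (Fintype.card Ω) then 0 else 1) := by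
    intro x hx
    rw [kf_inv hZ hab hodd (Finset.mem_filter.mp hx).2]
  rw [Finset.sum_congr rfl h2, Finset.sum_const, smul_eq_mul] at h1
  have h3 : Nat.card {x : G // orderOf x = 2} = (Finset.univ.filter (fun x : G => orderOf x = 2)).card := by
    rw [Nat.card_eq_fintype_card, Fintype.card_subtype]
  rw [h3]
  have h4 := CfsgLib.PermZ4.three_le hZ
  split_ifs with he
  · rw [if_pos he, Nat.sub_zero] at h1
    apply Nat.eq_of_mul_eq_mul_right (show 0 < Fintype.card Ω by omega)
    rw [h1]; ring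
  · rw [if_neg he] at h1
    apply Nat.eq_of_mul_eq_mul_right (show 0 < Fintype.card Ω - 1 by omega)
    rw [h1]; ring

end CfsgLib.H7Z
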