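import Mathlib
import Cfsg.Agent.Lib.H7Z5
import Cfsg.Agent.Lib.FrobNil
import Cfsg.Agent.Lib.PG

/-!
# Simple Zassenhaus groups with two-point stabilizer of odd order: involutions in the kernel
-/

set_option autoImplicit false
set_option linter.style.haveILetI false
set_option linter.unusedSectionVars false

open MulAction Cfsg
open scoped Pointwise commutatorElement

namespace CfsgLib.H7Z

universe u v

variable {G : Type u} {Ω : Type v} [Group G] [MulAction G Ω] [Finite G] [Fintype Ω]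
variable {a b : Ω} {H : Subgroup G}

/-- centralizers of non-identity elements of `H` lie in `H` -/
theorem centralizer_le_H (hZ : IsZassenhausGroup G Ω) (hab : a ≠ b) (hHa : H ≤ stabilizer G a) (hHcard : Nat.card H + 1 = Fintype.card Ω)
    (hHfix : ∀ u ∈ H, u ≠ 1 → ∀ c : Ω, u • c = c → c = a) {u : G} (hu : u ∈ H) (hu1 : u ≠ 1) : Subgroup.centralizer ({u} : Set G) ≤ H := by
  intro g hg
  rw [Subgroup.mem_centralizer_singleton_iff] at hg
  have hua : u • a = a := mem_stabilizer_iff.mp (hHa hu)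
  have hga : g • a = a := by
    apply hHfix u hu hu1
    rw [← mul_smul, ← hg, mul_smul, hua]
  rw [mem_H_iff hZ hab hHa hHcard hHfix (mem_stabilizer_iff.mpr hga)]
  intro hg1 c hc
  by_contra hca
  have h1 : g • (u • c) = u • c := by rw [← mul_smul, hg, mul_smul, hc]
  rcases fix3 hZ hg1 (Ne.symm hca) hga hc h1 with h | h
  · exact hca (smul_left_cancel u (h.trans hua.symm))
  · exact hca (hHfix u hu hu1 c h)

theorem H_nilpotent (hZ : IsZassenhausGroup G Ω) (hab : a ≠ b) (hHa : H ≤ stabilizer G a) (hHcard : Nat.card H + 1 = Fintype.card Ω)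
    (hHfix : ∀ u ∈ H, u ≠ 1 → ∀ c : Ω, u • c = c → c = a) : Group.IsNilpotent H := by
  haveI : (H.subgroupOf (stabilizer G a)).Normal := by
    constructor
    intro u hu g
    exact H_normal hZ hab hHa hHcard hHfix g.2 hu
  have h1 : Group.IsNilpotent (H.subgroupOf (stabilizer G a)) := by
    apply CfsgLib.FrobNil.frob_nilpotent
    · intro h
      obtain ⟨x, hx, hx1⟩ := exists_ne_one_EE hZ hab
      have h2 : (⟨x, hx.1⟩ : stabilizer G a) ∈ H.subgroupOf (stabilizer G a) := by rw [h]; exact Subgroup.mem_top _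
      exact hab (hHfix x h2 hx1 b (mem_EE.mp hx).2).symm
    · intro u hu hu1 g hg
      rw [Subgroup.mem_centralizer_singleton_iff] at hg
      have h3 : (g : G) ∈ Subgroup.centralizer ({(u : G)} : Set G) := by
        rw [Subgroup.mem_centralizer_singleton_iff]
        exact congrArg Subtype.val hg
      exact centralizer_le_H hZ hab hHa hHcard hHfix hu (fun h => hu1 (Subtype.ext h)) h3
  exact Group.nilpotent_of_mulEquiv (Subgroup.subgroupOfEquivOfLe hHa)

/-- involutions of `H` are central in `H` -/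
theorem inv_central (hZ : IsZassenhausGroup G Ω) (hab : a ≠ b) [IsSimpleGroup G] (hodd : Odd (Nat.card (stabilizer G a ⊓ stabilizer G b : Subgroup G)))
    (hHa : H ≤ stabilizer G a) (hHcard : Nat.card H + 1 = Fintype.card Ω)
    (hHfix : ∀ u ∈ H, u ≠ 1 → ∀ c : Ω, u • c = c → c = a) {x : G} (hxH : x ∈ H) (hx : orderOf x = 2) : ∀ u ∈ H, x * u = u * x := by
  have hnil := H_nilpotent hZ hab hHa hHcard hHfix
  haveI : Fact (Nat.Prime 2) := ⟨Nat.prime_two⟩
  obtain ⟨T⟩ : Nonempty (Sylow 2 H) := inferInstance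
  have hTn : (T : Subgroup H).Normal := by
    have := ((Group.isNilpotent_of_finite_tfae (G := H)).out 0 3).mp hnil
    exact this 2 inferInstance T
  have hT1 : (T : Subgroup H) ≠ ⊥ := by
    apply Sylow.ne_bot_of_dvd_card
    have := orderOf_dvd_natCard (⟨x, hxH⟩ : H)
    rwa [Subgroup.orderOf_mk, hx] at this
  have h1 := CfsgLib.PG.inf_center_ne_bot_of_nilpotent hnil (T : Subgroup H) hT1
  have h2 : IsPGroup 2 ((T : Subgroup H) ⊓ Subgroup.center H : Subgroup H) := T.2.to_le inf_le_left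
  obtain ⟨z, hz⟩ : ∃ z : ((T : Subgroup H) ⊓ Subgroup.center H : Subgroup H), orderOf z = 2 := by
    haveI : Nontrivial ((T : Subgroup H) ⊓ Subgroup.center H : Subgroup H) := (Subgroup.nontrivial_iff_ne_bot _).mpr h1
    apply exists_prime_orderOf_dvd_card'
    obtain ⟨k, hk0, hk⟩ := (IsPGroup.nontrivial_iff_card h2).mp inferInstance
    rw [hk]
    exact dvd_pow_self 2 hk0.ne'
  have hzo : orderOf ((z : H) : G) = 2 := by rw [Subgroup.orderOf_coe, Subgroup.orderOf_coe, hz]
  obtain ⟨g, hg⟩ := isConj_iff.mp (inv_conj hZ hab hodd hzo hx)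
  have hzc : ∀ u ∈ H, ((z : H) : G) * u = u * ((z : H) : G) := by
    intro u hu
    exact (congrArg Subtype.val (Subgroup.mem_center_iff.mp z.2.2 ⟨u, hu⟩)).symm
  have hga : g ∈ stabilizer G a := by
    apply H_ti hHfix hHa (z : H).2 (by rw [hg]; exact hxH)
    intro h
    rw [h, orderOf_one] at hzo
    norm_num at hzo
  intro u hu
  have h3 := hzc (g⁻¹ * u * g) (by
    have := H_normal hZ hab hHa hHcard hHfix (inv_mem hga) hu
    rwa [inv_inv] at this)
  rw [← hg]
  calc g * ((z : H) : G) * g⁻¹ * u = g * (((z : H) : G) * (g⁻¹ * u * g)) * g⁻¹ := by group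
    _ = g * ((g⁻¹ * u * g) * ((z : H) : G)) * g⁻¹ := by rw [h3]
    _ = u * (g * ((z : H) : G) * g⁻¹) := by group

omit [Finite G] [Fintype Ω] in
theorem fix_of_mul {x y : G} (hx : x * x = 1) (hy : y * y = 1) (hfix : ∀ c : Ω, (x * y) • c = c → c = a) (ha : (x * y) • a = a) : x • a = a ∧ y • a = a := by
  have h1 : (x * y) • (x • a) = x • a := by
    have h2 : (x * y) • (y⁻¹ * x⁻¹) • (x • a) = x • a := by
      rw [← mul_smul, ← mul_smul]
      congr 1
      group
    have h3 : (y⁻¹ * x⁻¹) • (x • a) = x • a := by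
      have h4 : x⁻¹ = x := inv_eq_of_mul_eq_one_left hx
      have h5 : y⁻¹ = y := inv_eq_of_mul_eq_one_left hy
      rw [h4, h5, mul_smul, ← mul_smul x x, hx, one_smul]
      have h6 : x • (x * y) • a = x • a := by rw [ha]
      rw [← mul_smul, ← mul_assoc, hx, one_mul] at h6
      exact h6
    rwa [h3] at h2
  have h2 := hfix _ h1
  refine ⟨h2, ?_⟩
  have h3 : x • (x * y) • a = x • a := by rw [ha]
  rw [← mul_smul, ← mul_assoc, hx, one_mul, h2] at h3
  exact h3

theorem mem_H_of_inv (hZ : IsZassenhausGroup G Ω) (hab : a ≠ b) (hodd : Odd (Nat.card (stabilizer G a ⊓ stabilizer G b : Subgroup G)))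
    (hHa : H ≤ stabilizer G a) (hHcard : Nat.card H + 1 = Fintype.card Ω)
    (hHfix : ∀ u ∈ H, u ≠ 1 → ∀ c : Ω, u • c = c → c = a) {x : G} (hx : orderOf x = 2) (hxa : x • a = a) : x ∈ H := by
  classical
  rw [mem_H_iff hZ hab hHa hHcard hHfix (mem_stabilizer_iff.mpr hxa)]
  intro _ c hc
  have h1 := kf_inv hZ hab hodd hx
  have h2 : kf Ω x ≤ 1 := by rw [h1]; split_ifs <;> norm_num
  rw [kf, Finset.card_le_one] at h2
  exact h2 c (by rw [Finset.mem_filter]; exact ⟨Finset.mem_univ _, hc⟩) a (by rw [Finset.mem_filter]; exact ⟨Finset.mem_univ _, hxa⟩)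

theorem mul_inv_in_H (hZ : IsZassenhausGroup G Ω) (hab : a ≠ b) (hodd : Odd (Nat.card (stabilizer G a ⊓ stabilizer G b : Subgroup G)))
    (hHa : H ≤ stabilizer G a) (hHcard : Nat.card H + 1 = Fintype.card Ω)
    (hHfix : ∀ u ∈ H, u ≠ 1 → ∀ c : Ω, u • c = c → c = a) {x y : G} (hx : orderOf x = 2) (hy : orderOf y = 2) (hxy : x * y ∈ H) (hxy1 : x * y ≠ 1) :
    x ∈ H ∧ y ∈ H := by
  obtain ⟨h1, h2⟩ := fix_of_mul (a := a) (CfsgLib.Invol.mul_self_of_orderOf hx) (CfsgLib.Invol.mul_self_of_orderOf hy) (hHfix _ hxy hxy1)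
    (mem_stabilizer_iff.mp (hHa hxy))
  exact ⟨mem_H_of_inv hZ hab hodd hHa hHcard hHfix hx h1, mem_H_of_inv hZ hab hodd hHa hHcard hHfix hy h2⟩

end CfsgLib.H7Z
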