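import Mathlib
import Cfsg.Agent.Lib.H7Z6
import Cfsg.Agent.Lib.Core

/-!
# Normal subgroups of Zassenhaus groups
-/

set_option autoImplicit false
set_option linter.style.haveILetI false
set_option linter.unusedSectionVars false

open MulAction Cfsg
open scoped Pointwise commutatorElement

namespace CfsgLib.H7Z

universe u v

variable {G : Type u} {Ω : Type v} [Group G] [MulAction G Ω] [Finite G] [Fintype Ω]
variable {a b : Ω} {H : Subgroup G}

/-- a nontrivial normal subgroup is transitive -/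
theorem normal_trans (hZ : IsZassenhausGroup G Ω) {K : Subgroup G} (hK : K.Normal) (hK1 : K ≠ ⊥) (c d : Ω) : ∃ k ∈ K, k • c = d := by
  by_cases hcd : c = d
  · exact ⟨1, one_mem _, by rw [one_smul, hcd]⟩
  obtain ⟨⟨k, hk⟩, hk1⟩ := Subgroup.ne_bot_iff_exists_ne_one.mp hK1
  have hk1' : k ≠ 1 := fun h => hk1 (Subtype.ext h)
  obtain ⟨x, hx⟩ := exists_ne_smul hZ hk1'
  obtain ⟨g, hgx, hgk⟩ := exists_map2 hZ (Ne.symm hx) hcd
  refine ⟨g * k * g⁻¹, hK.conj_mem k hk g, ?_⟩
  rw [mul_smul, mul_smul, ← hgx, inv_smul_smul, hgk]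

/-- a nontrivial normal subgroup does not act regularly -/
theorem normal_stab (hZ : IsZassenhausGroup G Ω) {K : Subgroup G} (hK : K.Normal) (hK1 : K ≠ ⊥) (a : Ω) : ∃ k ∈ K, k ≠ 1 ∧ k • a = a := by
  haveI : IsPretransitive K Ω := ⟨fun c d => by
    obtain ⟨k, hk, h⟩ := normal_trans hZ hK hK1 c d
    exact ⟨⟨k, hk⟩, h⟩⟩
  obtain ⟨c, hc⟩ := hZ.2.2.2.2 K hK inferInstance
  obtain ⟨⟨k, hk⟩, hk1⟩ := Subgroup.ne_bot_iff_exists_ne_one.mp hc
  have hkc : (k : G) • c = c := hk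
  have hk1' : (k : G) ≠ 1 := fun h => hk1 (Subtype.ext (Subtype.ext h))
  obtain ⟨l, hl, hlc⟩ := normal_trans hZ hK hK1 c a
  refine ⟨l * k * l⁻¹, hK.conj_mem _ k.2 _, ?_, ?_⟩
  · intro h
    apply hk1'
    have : (k : G) = l⁻¹ * (l * k * l⁻¹) * l := by group
    rw [this, h]; group
  · rw [← hlc, conj_fix', hkc]

/-- some element of a nontrivial normal subgroup fixes exactly two points -/
theorem normal_two (hZ : IsZassenhausGroup G Ω) {K : Subgroup G} (hK : K.Normal) (hK1 : K ≠ ⊥) (a : Ω) :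
    ∃ k ∈ K, k ≠ 1 ∧ k • a = a ∧ ∃ c : Ω, c ≠ a ∧ k • c = c := by
  by_contra hcon
  push Not at hcon
  have h3 := CfsgLib.PermZ4.three_le hZ
  -- every element of `K` fixing a point fixes only that point
  have hfix : ∀ k ∈ K, k ≠ 1 → ∀ c d : Ω, k • c = c → k • d = d → d = c := by
    intro k hk hk1 c d hc hd
    by_contra hdc
    obtain ⟨l, hl, hlc⟩ := normal_trans hZ hK hK1 c a
    refine hcon (l * k * l⁻¹) (hK.conj_mem _ hk _) ?_ (by rw [← hlc, conj_fix', hc]) (l • d) ?_ (by rw [conj_fix', hd])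
    · intro h
      apply hk1
      have : (k : G) = l⁻¹ * (l * k * l⁻¹) * l := by group
      rw [this, h]; group
    · intro h
      apply hdc
      rw [← hlc] at h
      exact smul_left_cancel l h
  -- Frobenius complement
  obtain ⟨K', hK'⟩ : ∃ K' : Subgroup K, K' = (stabilizer G a).subgroupOf K := ⟨_, rfl⟩
  have hmem : ∀ k : K, k ∈ K' ↔ (k : G) • a = a := by
    intro k
    rw [hK', Subgroup.mem_subgroupOf, mem_stabilizer_iff]
  have hFC : IsFrobeniusComplement K' := by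
    refine ⟨?_, ?_, ?_⟩
    · obtain ⟨k, hk, hk1, hka⟩ := normal_stab hZ hK hK1 a
      intro h
      have h1 : (⟨k, hk⟩ : K) ∈ K' := (hmem _).mpr hka
      rw [h, Subgroup.mem_bot] at h1
      exact hk1 (congrArg Subtype.val h1)
    · intro h
      obtain ⟨b, hab⟩ := exists_b hZ a
      obtain ⟨k, hk, hkb⟩ := normal_trans hZ hK hK1 a b
      have h1 : (⟨k, hk⟩ : K) ∈ K' := by rw [h]; exact Subgroup.mem_top _
      rw [hmem] at h1
      exact hab (h1.symm.trans hkb)
    · intro g hg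
      rw [eq_bot_iff]
      rintro x ⟨hx, hx2⟩
      have hx : x ∈ K' := hx
      have hx2 := CfsgLib.FrobTI.mem_conj_iff.mp hx2
      rw [hmem] at hx hx2 hg
      rw [Subgroup.mem_bot]
      by_contra hx1
      apply hg
      apply hfix x x.2 (fun h => hx1 (Subtype.ext h)) a _ hx
      have h2 : ((g : G)⁻¹ * x * g) • a = a := hx2
      rw [mul_smul, mul_smul, inv_smul_eq_iff] at h2
      exact h2
  obtain ⟨R, hR, hRn, hRc⟩ := CfsgLib.FrobThm.frobenius_theorem K' hFC
  have hRmem : ∀ k : K, k ∈ R ↔ (k = 1 ∨ ∀ c : Ω, (k : G) • c ≠ c) := by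
    intro k
    have h1 : k ∈ R ↔ k ∈ (R : Set K) := Iff.rfl
    rw [h1, hR, frobeniusKernel, Set.mem_setOf_eq]
    constructor
    · rintro (h | h)
      · exact Or.inl h
      · right
        intro c hc
        obtain ⟨l, hl, hlc⟩ := normal_trans hZ hK hK1 a c
        apply h ⟨l, hl⟩
        rw [CfsgLib.FrobTI.mem_conj_iff, hmem]
        show (l⁻¹ * k * l) • a = a
        rw [mul_smul, mul_smul, hlc, hc, ← hlc, inv_smul_smul]
    · rintro (h | h)
      · exact Or.inl h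
      · right
        intro g hg
        rw [CfsgLib.FrobTI.mem_conj_iff, hmem] at hg
        have hg : ((g : G)⁻¹ * k * g) • a = a := hg
        rw [mul_smul, mul_smul, inv_smul_eq_iff] at hg
        exact h _ hg
  -- `R` gives a regular normal subgroup of `G`
  have hR'n : (R.map K.subtype).Normal := by
    constructor
    rintro x ⟨k, hk, rfl⟩ g
    refine ⟨⟨g * k * g⁻¹, hK.conj_mem _ k.2 _⟩, ?_, rfl⟩
    have hk : k ∈ R := hk
    show (⟨g * k * g⁻¹, hK.conj_mem _ k.2 _⟩ : K) ∈ R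
    rw [hRmem] at hk ⊢
    rcases hk with rfl | h
    · left
      apply Subtype.ext
      show g * (1 : G) * g⁻¹ = 1
      group
    · right
      intro c hc
      have hc : (g * k * g⁻¹) • c = c := hc
      rw [conj_fix] at hc
      exact h _ hc
  have hR1 : R.map K.subtype ≠ ⊥ := by
    intro h
    rw [Subgroup.map_eq_bot_iff_of_injective _ K.subtype_injective] at h
    rw [h] at hRc
    have := hFC.2.1
    apply this
    have h2 := hRc.sup_eq_top
    rwa [bot_sup_eq] at h2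
  obtain ⟨k, ⟨k', hk', rfl⟩, hk1, hka⟩ := normal_stab hZ hR'n hR1 a
  have hk' : k' ∈ R := hk'
  rw [hRmem] at hk'
  rcases hk' with rfl | h
  · exact hk1 rfl
  · exact h a hka

/-- a nontrivial normal subgroup contains the regular normal subgroups of the point stabilizers -/
theorem H_le_normal (hZ : IsZassenhausGroup G Ω) (hHa : H ≤ stabilizer G a) (hHcard : Nat.card H + 1 = Fintype.card Ω)
    (hHfix : ∀ u ∈ H, u ≠ 1 → ∀ c : Ω, u • c = c → c = a) {K : Subgroup G} (hK : K.Normal) (hK1 : K ≠ ⊥) : H ≤ K := by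
  haveI : Fintype G := Fintype.ofFinite G
  obtain ⟨k, hk, hk1, hka, c, hca, hkc⟩ := normal_two hZ hK hK1 a
  intro u hu
  obtain ⟨v, hv, hvk⟩ := exists_conj_of_mul hZ (Ne.symm hca) hHa hHcard hHfix (mem_EE.mpr ⟨hka, hkc⟩) hk1 hu
  have h1 : u = v * k * v⁻¹ * k⁻¹ := by rw [hvk]; group
  rw [h1]
  exact mul_mem (hK.conj_mem _ hk _) (inv_mem hk)

theorem H_trans (hZ : IsZassenhausGroup G Ω) (hHa : H ≤ stabilizer G a) (hHcard : Nat.card H + 1 = Fintype.card Ω)
    (hHfix : ∀ u ∈ H, u ≠ 1 → ∀ c : Ω, u • c = c → c = a) {b c : Ω} (hb : b ≠ a) (hc : c ≠ a) : ∃ u ∈ H, u • b = c := by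
  haveI : Fintype G := Fintype.ofFinite G
  obtain ⟨g, hga, hgb⟩ := exists_map2 hZ (Ne.symm hb) (Ne.symm hc)
  obtain ⟨u, hu, x, hx, rfl⟩ := exists_fac hZ (Ne.symm hb) hHa hHcard hHfix hga
  refine ⟨u, hu, ?_⟩
  rw [mul_smul, (mem_EE.mp hx).2] at hgb
  exact hgb

theorem normal_zassenhaus (hZ : IsZassenhausGroup G Ω) {K : Subgroup G} (hK : K.Normal) (hK1 : K ≠ ⊥) : IsZassenhausGroup K Ω := by
  haveI := hZ.1
  have h3 := CfsgLib.PermZ4.three_le hZ
  have hdt : ∀ c d c' d' : Ω, c ≠ d → c' ≠ d' → ∃ k ∈ K, k • c = c' ∧ k • d = d' := by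
    intro c d c' d' hcd hcd'
    obtain ⟨k, hk, hkc⟩ := normal_trans hZ hK hK1 c c'
    obtain ⟨H', hH'a, hH'card, hH'fix⟩ := exists_H hZ c'
    have h1 : k • d ≠ c' := by
      intro h
      rw [← hkc] at h
      exact hcd (smul_left_cancel k h).symm
    obtain ⟨u, hu, hud⟩ := H_trans hZ hH'a hH'card hH'fix h1 (Ne.symm hcd')
    refine ⟨u * k, mul_mem (H_le_normal hZ hH'a hH'card hH'fix hK hK1 hu) hk, ?_, ?_⟩
    · rw [mul_smul, hkc]
      exact mem_stabilizer_iff.mp (hH'a hu)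
    · rw [mul_smul, hud]
  refine ⟨⟨fun {x y} h => ?_⟩, ?_, ?_, ?_, ?_⟩
  · apply Subtype.ext
    apply FaithfulSMul.eq_of_smul_eq_smul (α := Ω)
    exact h
  · rw [CfsgLib.PermG3.mt_two_iff]
    intro c d c' d' hcd hcd'
    obtain ⟨k, hk, h1, h2⟩ := hdt c d c' d' hcd hcd'
    exact ⟨⟨k, hk⟩, h1, h2⟩
  · intro g c d e h1 h2 h3 h4 h5 h6
    apply Subtype.ext
    exact hZ.2.2.1 g c d e h1 h2 h3 h4 h5 h6
  · haveI : Nontrivial Ω := Fintype.one_lt_card_iff_nontrivial.mp (by omega)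
    obtain ⟨a, b, hab⟩ := exists_pair_ne Ω
    obtain ⟨k, hk, hk1, hka, c, hca, hkc⟩ := normal_two hZ hK hK1 a
    exact ⟨⟨k, hk⟩, fun h => hk1 (congrArg Subtype.val h), a, c, Ne.symm hca, hka, hkc⟩
  · intro M hM hMt
    by_contra hcon
    push Not at hcon
    have hMfix : ∀ m ∈ M, m ≠ 1 → ∀ c : Ω, (m : G) • c ≠ c := by
      intro m hm hm1 c hc
      have h1 := hcon c
      have h2 : (⟨m, hm⟩ : M) ∈ stabilizer M c := hc
      rw [h1, Subgroup.mem_bot] at h2
      exact hm1 (congrArg Subtype.val h2)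
    have hMtr : ∀ c d : Ω, ∃ m ∈ M, (m : G) • c = d := by
      intro c d
      obtain ⟨m, hm⟩ := hMt.exists_smul_eq c d
      exact ⟨m, m.2, hm⟩
    haveI : Nontrivial Ω := Fintype.one_lt_card_iff_nontrivial.mp (by omega)
    obtain ⟨a, b, hab⟩ := exists_pair_ne Ω
    -- elements of `M \ 1` are conjugate in `K`
    have hconj : ∀ m ∈ M, m ≠ 1 → ∀ m' ∈ M, m' ≠ 1 → ∃ k : K, k * m * k⁻¹ = m' := by
      intro m hm hm1 m' hm' hm1'
      obtain ⟨k, hk, hka, hkm⟩ := hdt a ((m : G) • a) a ((m' : G) • a) (Ne.symm (hMfix m hm hm1 a)) (Ne.symm (hMfix m' hm' hm1' a))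
      refine ⟨⟨k, hk⟩, ?_⟩
      by_contra hne
      have h1 : (⟨k, hk⟩ : K) * m * (⟨k, hk⟩ : K)⁻¹ ∈ M := hM.conj_mem _ hm _
      have h2 : m'⁻¹ * ((⟨k, hk⟩ : K) * m * (⟨k, hk⟩ : K)⁻¹) ∈ M := mul_mem (inv_mem hm') h1
      apply hMfix _ h2 (fun h => hne (inv_mul_eq_one.mp h).symm) a
      show ((m' : G)⁻¹ * (k * m * k⁻¹)) • a = a
      have hka' : k⁻¹ • a = a := inv_smul_eq_iff.mpr hka.symm
      rw [mul_smul, mul_smul, mul_smul, hka', hkm, inv_smul_smul]
    -- `M` is a `p`-group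
    have hMcard : Nat.card M = Fintype.card Ω := by
      rw [← Nat.card_eq_fintype_card]
      apply Nat.card_congr
      refine Equiv.ofBijective (fun m : M => (m : G) • a) ⟨?_, ?_⟩
      · intro m m' h
        have h : ((m : K) : G) • a = ((m' : K) : G) • a := h
        by_contra hne
        apply hMfix _ (mul_mem (inv_mem m'.2) m.2) (fun h' => hne (Subtype.ext (inv_mul_eq_one.mp h').symm)) a
        show (((m' : K) : G)⁻¹ * m) • a = a
        rw [mul_smul, h, inv_smul_smul]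
      · intro c
        obtain ⟨m, hm, hmc⟩ := hMtr a c
        exact ⟨⟨m, hm⟩, hmc⟩
    obtain ⟨p, hp, hpM⟩ := Nat.exists_prime_and_dvd (n := Nat.card M) (by rw [hMcard]; omega)
    haveI : Fact p.Prime := ⟨hp⟩
    obtain ⟨x, hx⟩ := exists_prime_orderOf_dvd_card' (G := M) p hpM
    have hx1 : (x : K) ≠ 1 := by
      intro h
      have h2 : x = 1 := Subtype.ext h
      rw [h2, orderOf_one] at hx
      exact hp.one_lt.ne hx
    have hMp : IsPGroup p M := by
      intro y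
      by_cases hy1 : y = 1
      · exact ⟨0, by rw [hy1, one_pow]⟩
      · refine ⟨1, ?_⟩
        obtain ⟨k, hk⟩ := hconj x x.2 hx1 y y.2 (fun h => hy1 (Subtype.ext h))
        apply Subtype.ext
        show (y : K) ^ p ^ 1 = 1
        have h2 : (x : K) ^ p = 1 := by
          have : x ^ p = 1 := by rw [← hx, pow_orderOf_eq_one]
          exact congrArg Subtype.val this
        rw [← hk, pow_one, conj_pow, h2, mul_one, mul_inv_cancel]
    -- `P = O_p(K)` is normal in `G`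
    haveI := CfsgLib.Core.pCore_characteristic p K
    have hPn : ((Cfsg.pCore p K).map K.subtype).Normal := inferInstance
    have hP1 : (Cfsg.pCore p K).map K.subtype ≠ ⊥ := by
      intro h
      rw [Subgroup.map_eq_bot_iff_of_injective _ K.subtype_injective] at h
      have h2 := CfsgLib.Core.le_pCore hM hMp
      rw [h] at h2
      exact hx1 (Subgroup.mem_bot.mp (h2 x.2))
    obtain ⟨H', hH'a, hH'card, hH'fix⟩ := exists_H hZ a
    have h4 := H_le_normal hZ hH'a hH'card hH'fix hPn hP1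
    have h5 : IsPGroup p H' := ((CfsgLib.Core.pCore_isPGroup p K).map K.subtype).to_le h4
    obtain ⟨k, hk⟩ := IsPGroup.iff_card.mp h5
    have hk0 : k ≠ 0 := by
      rintro rfl
      rw [pow_zero] at hk
      omega
    have h6 : p ∣ Nat.card H' := by rw [hk]; exact dvd_pow_self p hk0
    rw [hMcard, ← hH'card] at hpM
    have h7 := (Nat.dvd_add_right h6).mp hpM
    exact hp.one_lt.ne' (Nat.dvd_one.mp h7)

end CfsgLib.H7Z
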