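import Mathlib
import Cfsg.Agent.Lib.H7S5
import Cfsg.Agent.Lib.H7Z9

/-!
# The Suzuki groups: orders, Sylow `2`-subgroup
-/

set_option autoImplicit false
set_option linter.style.haveILetI false
set_option linter.unusedSectionVars false

open MulAction Cfsg Matrix
open scoped Pointwise

namespace CfsgLib.H7S

universe u

variable {F : Type u} [Field F] [Fintype F] {m : ℕ}

noncomputable instance instFintypeOvoid : Fintype (suzukiOvoid F m) := Fintype.ofFinite _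

noncomputable instance instFintypeSz : Fintype (Sz F m) := Fintype.ofFinite _

theorem fcard_ovoid : Fintype.card (suzukiOvoid F m) = Fintype.card F ^ 2 + 1 := by
  rw [← Nat.card_eq_fintype_card, card_ovoid]

omit [Fintype F] in
theorem inf_ne_zero : oinf F m ≠ opt m (0 : F) 0 := (opt_ne_inf _ _).symm

namespace SD

variable (D : SD F m)

include D

/-- the root subgroup -/
def P : Subgroup (Sz F m) where
  carrier := {g | ∃ a b : F, g = D.T a b}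
  mul_mem' := by
    rintro _ _ ⟨a, b, rfl⟩ ⟨c, d, rfl⟩
    exact ⟨_, _, D.T_mul a b c d⟩
  one_mem' := ⟨0, 0, D.T_zero.symm⟩
  inv_mem' := by
    rintro _ ⟨a, b, rfl⟩
    refine ⟨a, b + D.t a * a, ?_⟩
    apply inv_eq_of_mul_eq_one_left
    rw [D.T_mul, ← D.T_zero, D.T_inj]
    exact ⟨D.add_self a, by linear_combination (b + D.t a * a) * D.two⟩

theorem mem_P {g : Sz F m} : g ∈ D.P ↔ ∃ a b : F, g = D.T a b := Iff.rfl

theorem T_mem_P (a b : F) : D.T a b ∈ D.P := ⟨a, b, rfl⟩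

/-- the torus -/
def E : Subgroup (Sz F m) := stabilizer (Sz F m) (oinf F m) ⊓ stabilizer (Sz F m) (opt m (0 : F) 0)

theorem h_mem (μ : Fˣ) : D.h μ ∈ stabilizer (Sz F m) (oinf F m) ⊓ stabilizer (Sz F m) (opt m (0 : F) 0) := by
  refine ⟨D.h_inf μ, ?_⟩
  show D.h μ • opt m (0 : F) 0 = opt m (0 : F) 0
  rw [D.h_pt, opt_inj]
  simp

/-- the torus is the multiplicative group -/
noncomputable def hEquiv (hm : 1 ≤ m) (hF : Fintype.card F = 2 ^ (2 * m + 1)) :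
    Fˣ ≃* (stabilizer (Sz F m) (oinf F m) ⊓ stabilizer (Sz F m) (opt m (0 : F) 0) : Subgroup (Sz F m)) :=
  MulEquiv.ofBijective (⟨⟨fun μ => ⟨D.h μ, D.h_mem μ⟩, Subtype.ext D.h_one⟩, fun μ ν => Subtype.ext (D.h_mul μ ν).symm⟩ : Fˣ →* _) ⟨by
    intro μ ν h
    exact D.h_inj (congrArg Subtype.val h), by
    rintro ⟨g, hg1, hg2⟩
    obtain ⟨μ, hμ⟩ := D.stab2' hm hF (g := g) hg1 hg2
    exact ⟨μ, Subtype.ext hμ.symm⟩⟩

theorem card_E (hm : 1 ≤ m) (hF : Fintype.card F = 2 ^ (2 * m + 1)) :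
    Nat.card (stabilizer (Sz F m) (oinf F m) ⊓ stabilizer (Sz F m) (opt m (0 : F) 0) : Subgroup (Sz F m)) = Fintype.card F - 1 := by
  rw [← Nat.card_congr (D.hEquiv hm hF).toEquiv, Nat.card_units, Nat.card_eq_fintype_card]

theorem odd_E (hm : 1 ≤ m) (hF : Fintype.card F = 2 ^ (2 * m + 1)) :
    Odd (Nat.card (stabilizer (Sz F m) (oinf F m) ⊓ stabilizer (Sz F m) (opt m (0 : F) 0) : Subgroup (Sz F m))) := by
  rw [D.card_E hm hF, hF]
  have h1 : 0 < 2 ^ (2 * m + 1) := by positivity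
  obtain ⟨k, hk⟩ : Even (2 ^ (2 * m + 1)) := (Nat.even_pow.mpr ⟨even_two, by omega⟩)
  exact ⟨k - 1, by omega⟩

theorem card_stab (hm : 1 ≤ m) (hF : Fintype.card F = 2 ^ (2 * m + 1)) :
    Nat.card (stabilizer (Sz F m) (oinf F m)) = Fintype.card F ^ 2 * (Fintype.card F - 1) := by
  rw [CfsgLib.H7Z.card_stab (D.zassenhaus hm hF) inf_ne_zero, D.card_E hm hF, fcard_ovoid, Nat.add_sub_cancel]

theorem card_Sz (hm : 1 ≤ m) (hF : Fintype.card F = 2 ^ (2 * m + 1)) :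
    Nat.card (Sz F m) = (Fintype.card F ^ 2 + 1) * Fintype.card F ^ 2 * (Fintype.card F - 1) := by
  rw [CfsgLib.H7Z.card_G (D.zassenhaus hm hF) inf_ne_zero, D.card_E hm hF, fcard_ovoid, Nat.add_sub_cancel]

/-- parametrisation of the root subgroup -/
noncomputable def PEquiv : F × F ≃ D.P :=
  Equiv.ofBijective (fun p => ⟨D.T p.1 p.2, D.T_mem_P p.1 p.2⟩) ⟨by
    rintro ⟨a, b⟩ ⟨c, d⟩ h
    have h1 : D.T a b = D.T c d := congrArg Subtype.val h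
    rw [D.T_inj] at h1
    exact Prod.ext h1.1 h1.2, by
    rintro ⟨g, a, b, rfl⟩
    exact ⟨(a, b), rfl⟩⟩

theorem card_P : Nat.card D.P = Fintype.card F ^ 2 := by
  rw [← Nat.card_congr D.PEquiv, Nat.card_eq_fintype_card, Fintype.card_prod, sq]

theorem P_le : D.P ≤ stabilizer (Sz F m) (oinf F m) := by
  rintro _ ⟨a, b, rfl⟩
  exact D.T_inf a b

theorem P_card_add : Nat.card D.P + 1 = Fintype.card (suzukiOvoid F m) := by
  rw [D.card_P, fcard_ovoid]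

theorem P_fix : ∀ u ∈ D.P, u ≠ 1 → ∀ c : suzukiOvoid F m, u • c = c → c = oinf F m := by
  rintro _ ⟨a, b, rfl⟩ hne c hc
  exact D.T_fix (fun h => hne (by rw [h.1, h.2, D.T_zero])) hc

/-- the stabilizer of infinity -/
theorem stab_inf (hm : 1 ≤ m) (hF : Fintype.card F = 2 ^ (2 * m + 1)) {g : Sz F m} (hg : g • oinf F m = oinf F m) : ∃ (a b : F) (μ : Fˣ), g = D.T a b * D.h μ := by
  rcases oex (g • opt m (0 : F) 0) with h | ⟨x, y, h⟩
  · exact absurd (smul_left_cancel g (hg.trans h.symm)) inf_ne_zero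
  · obtain ⟨μ, hμ⟩ := D.stab2' hm hF (g := (D.T x y)⁻¹ * g) (by rw [mul_smul, hg, inv_smul_eq_iff, D.T_inf]) (by
      rw [mul_smul, h, inv_smul_eq_iff, D.T_from_zero])
    exact ⟨x, y, μ, by rw [← hμ]; group⟩

/-- Bruhat decomposition -/
theorem bruhat (hm : 1 ≤ m) (hF : Fintype.card F = 2 ^ (2 * m + 1)) (g : Sz F m) :
    (∃ (a b : F) (μ : Fˣ), g = D.T a b * D.h μ) ∨ ∃ (a b c d : F) (μ : Fˣ), g = D.T a b * wS D * D.T c d * D.h μ := by
  rcases oex (g • oinf F m) with h | ⟨x, y, h⟩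
  · exact Or.inl (D.stab_inf hm hF h)
  · right
    obtain ⟨c, d, μ, hμ⟩ := D.stab_inf hm hF (g := wS D * (D.T x y)⁻¹ * g) (by
      rw [mul_smul, mul_smul, h, ← D.T_from_zero x y, inv_smul_smul, D.w_zero])
    refine ⟨x, y, c, d, μ, ?_⟩
    have hw : (wS D)⁻¹ = wS D := inv_eq_of_mul_eq_one_left D.w_w
    calc g = D.T x y * (wS D)⁻¹ * (wS D * (D.T x y)⁻¹ * g) := by group
      _ = D.T x y * wS D * D.T c d * D.h μ := by rw [hμ, hw]; group

theorem h_conj_T (μ : Fˣ) (a b : F) : D.h μ * D.T a b * (D.h μ)⁻¹ = D.T (D.t μ * a) (μ ^ 2 * D.t μ * b) := by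
  rw [mul_inv_eq_iff_eq_mul]
  apply Subtype.ext
  apply Subtype.ext
  show (!![(μ : F) * D.t μ, 0, 0, 0; 0, (μ : F), 0, 0; 0, 0, (μ : F)⁻¹, 0; 0, 0, 0, ((μ : F) * D.t μ)⁻¹] : Matrix (Fin 4) (Fin 4) F) *
    !![1, a, b + D.t a * a, a * b + D.t a * a ^ 2 + D.t b; 0, 1, D.t a, b; 0, 0, 1, a; 0, 0, 0, 1] =
    !![1, (D.t μ * a), (μ ^ 2 * D.t μ * b) + D.t (D.t μ * a) * (D.t μ * a), (D.t μ * a) * (μ ^ 2 * D.t μ * b) + D.t (D.t μ * a) * (D.t μ * a) ^ 2 + D.t (μ ^ 2 * D.t μ * b); 0, 1, D.t (D.t μ * a), (μ ^ 2 * D.t μ * b); 0, 0, 1, (D.t μ * a); 0, 0, 0, 1] *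
    !![(μ : F) * D.t μ, 0, 0, 0; 0, (μ : F), 0, 0; 0, 0, (μ : F)⁻¹, 0; 0, 0, 0, ((μ : F) * D.t μ)⁻¹]
  have h1 : (μ : F) ≠ 0 := μ.ne_zero
  have h2 : D.t μ ≠ 0 := fun h => h1 (D.t_eq_zero.mp h)
  have ht := D.tt
  ext i j
  fin_cases i <;> fin_cases j <;> simp [Matrix.mul_apply, Fin.sum_univ_four, ht]
  all_goals field_simp

end SD

end CfsgLib.H7S
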