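import Mathlib
import Cfsg.Agent.Lib.H7S6

/-!
# The Suzuki groups: structure of the Sylow `2`-subgroup
-/

set_option autoImplicit false
set_option linter.style.haveILetI false
set_option linter.unusedSectionVars false

open MulAction Cfsg Matrix
open scoped Pointwise commutatorElement

namespace CfsgLib.H7S

universe u

variable {F : Type u} [Field F] [Fintype F] {m : ℕ}

theorem pow_four_eq {M : Type*} [Group M] (x : M) : x ^ 4 = (x * x) * (x * x) := by
  have h : x ^ 4 = (x ^ 2) ^ 2 := by rw [← pow_mul]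
  rw [h, sq, sq]

namespace SD

variable (D : SD F m)

include D

theorem T_inv (a b : F) : (D.T a b)⁻¹ = D.T a (b + D.t a * a) := by
  apply inv_eq_of_mul_eq_one_left
  rw [D.T_mul, ← D.T_zero, D.T_inj]
  exact ⟨D.add_self a, by linear_combination (b + D.t a * a) * D.two⟩

theorem T_comm (a b c d : F) : ⁅D.T a b, D.T c d⁆ = D.T 0 (D.t a * c + D.t c * a) := by
  rw [commutatorElement_def, D.T_inv, D.T_inv, D.T_mul, D.T_mul, D.T_mul, D.T_inj]
  constructor
  · linear_combination (a + c) * D.two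
  · simp only [map_add]
    linear_combination (b + d + D.t a * c + D.t a * a + D.t c * c) * D.two

/-- `a ↦ a ^ (σ + 1)` is a bijection -/
theorem exists_norm (b : F) : ∃ a : F, D.t a * a = b := by
  have hinj : Function.Injective (fun a : F => D.t a * a) := by
    intro a c h
    have h : D.t a * a = D.t c * c := h
    by_cases hc : c = 0
    · rw [hc, mul_zero, mul_eq_zero, D.t_eq_zero, or_self] at h
      rw [h, hc]
    · have htc : D.t c ≠ 0 := fun h => hc (D.t_eq_zero.mp h)
      have h1 : D.t (a / c) * (a / c) = 1 := by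
        rw [map_div₀]
        field_simp
        exact h
      have h2 := D.eq_one_of_t_mul h1
      rwa [div_eq_one_iff_eq hc] at h2
  exact Finite.surjective_of_injective hinj b

theorem t_fix {c : F} (h : D.t c = c) : c = 0 ∨ c = 1 := by
  have h1 : c ^ 2 = c := by rw [← D.tt, h, h]
  have h2 : c * (c - 1) = 0 := by linear_combination h1
  rcases mul_eq_zero.mp h2 with h3 | h3
  · exact Or.inl h3
  · exact Or.inr (sub_eq_zero.mp h3)

theorem exists_comm (hm : 1 ≤ m) (hF : Fintype.card F = 2 ^ (2 * m + 1)) (b : F) : ∃ a c : F, D.t a * c + D.t c * a = b := by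
  obtain ⟨c, hc0, hc1⟩ := exists_ne hm hF
  have hi : c + D.t c ≠ 0 := by
    intro h
    rcases D.t_fix (D.add_eq_zero.mp h).symm with h1 | h1
    · exact hc0 h1
    · exact hc1 h1
  obtain ⟨a, ha⟩ := D.exists_norm (b / (c + D.t c))
  refine ⟨a, a * c, ?_⟩
  rw [map_mul]
  have h2 : D.t a * (a * c) + D.t a * D.t c * a = (D.t a * a) * (c + D.t c) := by ring
  rw [h2, ha]
  field_simp

theorem mem_center {a b : F} (hm : 1 ≤ m) (hF : Fintype.card F = 2 ^ (2 * m + 1)) :
    (⟨D.T a b, D.T_mem_P a b⟩ : D.P) ∈ Subgroup.center D.P ↔ a = 0 := by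
  rw [Subgroup.mem_center_iff]
  constructor
  · intro h
    by_contra ha
    obtain ⟨c, hc0, hc1⟩ := exists_ne hm hF
    have key : ∀ c : F, D.t a * c = D.t c * a := by
      intro c
      have h1 : D.T c 0 * D.T a b = D.T a b * D.T c 0 := congrArg Subtype.val (h ⟨D.T c 0, D.T_mem_P c 0⟩)
      rw [D.T_mul, D.T_mul, D.T_inj] at h1
      linear_combination -h1.2
    have h1 := key 1
    rw [map_one, mul_one, one_mul] at h1
    have h2 := key c
    rw [h1, mul_comm] at h2
    have h3 := mul_right_cancel₀ ha h2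
    rcases D.t_fix h3.symm with h4 | h4
    · exact hc0 h4
    · exact hc1 h4
  · rintro rfl ⟨_, c, d, rfl⟩
    apply Subtype.ext
    show D.T c d * D.T 0 b = D.T 0 b * D.T c d
    rw [D.T_mul, D.T_mul, D.T_inj]
    constructor
    · ring
    · rw [map_zero]; ring

theorem center_eq (hm : 1 ≤ m) (hF : Fintype.card F = 2 ^ (2 * m + 1)) : Subgroup.center D.P = commutator D.P := by
  apply le_antisymm
  · rintro ⟨_, a, b, rfl⟩ hx
    rw [D.mem_center hm hF] at hx
    subst hx
    obtain ⟨a, c, hac⟩ := D.exists_comm hm hF b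
    have h1 : (⟨D.T 0 b, D.T_mem_P 0 b⟩ : D.P) = ⁅(⟨D.T a 0, D.T_mem_P a 0⟩ : D.P), (⟨D.T c 0, D.T_mem_P c 0⟩ : D.P)⁆ := by
      apply Subtype.ext
      show D.T 0 b = ⁅D.T a 0, D.T c 0⁆
      rw [D.T_comm, hac]
    rw [h1]
    exact Subgroup.commutator_mem_commutator (Subgroup.mem_top _) (Subgroup.mem_top _)
  · rw [commutator_def, Subgroup.commutator_le]
    rintro ⟨_, a, b, rfl⟩ - ⟨_, c, d, rfl⟩ -
    have h1 : ⁅(⟨D.T a b, D.T_mem_P a b⟩ : D.P), (⟨D.T c d, D.T_mem_P c d⟩ : D.P)⁆ = ⟨D.T 0 (D.t a * c + D.t c * a), D.T_mem_P _ _⟩ := by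
      apply Subtype.ext
      exact D.T_comm a b c d
    rw [h1, D.mem_center hm hF]

theorem card_center (hm : 1 ≤ m) (hF : Fintype.card F = 2 ^ (2 * m + 1)) : Nat.card (Subgroup.center D.P) = Fintype.card F := by
  rw [← Nat.card_eq_fintype_card]
  symm
  refine Nat.card_congr (Equiv.ofBijective (fun b : F => (⟨⟨D.T 0 b, D.T_mem_P 0 b⟩, (D.mem_center hm hF).mpr rfl⟩ : Subgroup.center D.P)) ⟨?_, ?_⟩)
  · intro b c h
    have h1 : D.T 0 b = D.T 0 c := congrArg (fun x : Subgroup.center D.P => ((x : D.P) : Sz F m)) h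
    exact (D.T_inj.mp h1).2
  · rintro ⟨⟨_, a, b, rfl⟩, hx⟩
    have := (D.mem_center hm hF).mp hx
    subst this
    exact ⟨b, rfl⟩

theorem exponent_P : Monoid.exponent D.P = 4 := by
  apply Nat.dvd_antisymm
  · apply Monoid.exponent_dvd_of_forall_pow_eq_one
    rintro ⟨_, a, b, rfl⟩
    apply Subtype.ext
    show (D.T a b) ^ 4 = 1
    have := pow_four_eq (D.T a b)
    rw [this, D.T_sq, D.T_sq, mul_zero, D.T_zero]
  · have h1 : orderOf (⟨D.T 1 0, D.T_mem_P 1 0⟩ : D.P) = 2 ^ 2 := by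
      apply orderOf_eq_prime_pow
      · intro h
        have h2 : D.T 1 0 ^ 2 ^ 1 = 1 := congrArg Subtype.val h
        rw [pow_one, sq, D.T_sq, ← D.T_zero, D.T_inj] at h2
        simp at h2
      · apply Subtype.ext
        show (D.T 1 0) ^ 2 ^ 2 = 1
        have : (D.T (1 : F) 0) ^ 2 ^ 2 = (D.T 1 0 * D.T 1 0) * (D.T 1 0 * D.T 1 0) := pow_four_eq (D.T 1 0)
        rw [this, D.T_sq, D.T_sq, mul_zero, D.T_zero]
    have h2 := Monoid.order_dvd_exponent (⟨D.T 1 0, D.T_mem_P 1 0⟩ : D.P)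
    rw [h1] at h2
    exact h2

theorem isPGroup_P (hF : Fintype.card F = 2 ^ (2 * m + 1)) : IsPGroup 2 D.P := by
  apply IsPGroup.of_card (n := 2 * (2 * m + 1))
  rw [D.card_P, hF, ← pow_mul, mul_comm (2 * m + 1)]

theorem index_P (hm : 1 ≤ m) (hF : Fintype.card F = 2 ^ (2 * m + 1)) : D.P.index = (Fintype.card F ^ 2 + 1) * (Fintype.card F - 1) := by
  have h1 := D.P.card_mul_index
  rw [D.card_P, D.card_Sz hm hF] at h1
  have h2 : 0 < Fintype.card F ^ 2 := by positivity
  apply Nat.eq_of_mul_eq_mul_left h2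
  rw [h1]; ring

theorem even_q (hF : Fintype.card F = 2 ^ (2 * m + 1)) : Even (Fintype.card F) := by
  rw [hF]
  exact Nat.even_pow.mpr ⟨even_two, by omega⟩

theorem odd_index_P (hm : 1 ≤ m) (hF : Fintype.card F = 2 ^ (2 * m + 1)) : ¬ 2 ∣ D.P.index := by
  rw [D.index_P hm hF, ← even_iff_two_dvd, Nat.even_mul]
  have h1 := D.even_q hF
  have h2 := card_ge hm hF
  rintro (h | h)
  · rw [Nat.even_add_one] at h
    exact h (by rw [Nat.even_pow]; exact ⟨h1, by norm_num⟩)
  · obtain ⟨k, hk⟩ := h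
    obtain ⟨l, hl⟩ := h1
    omega

/-- the Sylow subgroup -/
noncomputable def PS (hm : 1 ≤ m) (hF : Fintype.card F = 2 ^ (2 * m + 1)) : Sylow 2 (Sz F m) := (D.isPGroup_P hF).toSylow (D.odd_index_P hm hF)

theorem PS_coe (hm : 1 ≤ m) (hF : Fintype.card F = 2 ^ (2 * m + 1)) : ((D.PS hm hF : Sylow 2 (Sz F m)) : Subgroup (Sz F m)) = D.P := rfl

end SD

theorem center_eq_of_equiv {A B : Type*} [Group A] [Group B] (e : A ≃* B) (h : Subgroup.center A = commutator A) : Subgroup.center B = commutator B := by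
  have h1 : (commutator A).map e.toMonoidHom = commutator B := by
    rw [commutator_def, commutator_def, Subgroup.map_commutator, Subgroup.map_top_of_surjective _ e.surjective]
  have h2 : (Subgroup.center A).map e.toMonoidHom = Subgroup.center B := by
    ext x
    rw [Subgroup.mem_map, Subgroup.mem_center_iff]
    constructor
    · rintro ⟨y, hy, rfl⟩ z
      obtain ⟨w, rfl⟩ := e.surjective z
      have := Subgroup.mem_center_iff.mp hy w
      show e w * e y = e y * e w
      rw [← map_mul, this, map_mul]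
    · intro h
      refine ⟨e.symm x, Subgroup.mem_center_iff.mpr fun w => ?_, e.apply_symm_apply x⟩
      apply e.injective
      rw [map_mul, map_mul, e.apply_symm_apply, h]
  rw [← h1, ← h2, h]

end CfsgLib.H7S
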