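import Mathlib

/-!
# Elements of `SL₄(q)` of prime order dividing `q² + 1`
-/

set_option autoImplicit false
set_option linter.style.haveILetI false
set_option linter.unusedSectionVars false

open MulAction Matrix

namespace CfsgLib.H7S

universe u

/-- the order of `q` modulo `p` is four -/
theorem ord_four {p q d : ℕ} [Fact p.Prime] (hp : p ≠ 2) (hpq : p ∣ q ^ 2 + 1) (hd : d ≤ 4) (h : (q : ZMod p) ^ d = 1) : d = 0 ∨ d = 4 := by
  have h2 : (q : ZMod p) ^ 2 = -1 := by
    have : ((q ^ 2 + 1 : ℕ) : ZMod p) = 0 := (ZMod.natCast_eq_zero_iff _ _).mpr hpq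
    push_cast at this
    exact eq_neg_of_add_eq_zero_left this
  have hne : (1 : ZMod p) ≠ -1 := by
    intro h1
    have h3 : ((2 : ℕ) : ZMod p) = 0 := by
      push_cast
      linear_combination h1
    rw [ZMod.natCast_eq_zero_iff] at h3
    have h4 := Nat.le_of_dvd (by norm_num) h3
    have h5 := (Fact.out : p.Prime).two_le
    omega
  have hcases : d = 0 ∨ d = 1 ∨ d = 2 ∨ d = 3 ∨ d = 4 := by omega
  rcases hcases with rfl | rfl | rfl | rfl | rfl
  · exact Or.inl rfl
  · exfalso
    rw [pow_one] at h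
    rw [h, one_pow] at h2
    exact hne h2
  · exfalso
    rw [h] at h2
    exact hne h2
  · exfalso
    have h3 : (q : ZMod p) = -1 := by
      have : (q : ZMod p) ^ 3 = (q : ZMod p) ^ 2 * q := by ring
      rw [this, h2] at h
      linear_combination -h
    rw [h3] at h2
    apply hne
    rw [← h2]; ring
  · exact Or.inr rfl

variable {F : Type u} [Field F] [Fintype F] {p : ℕ} [Fact p.Prime]

/-- vectors annihilated by `z`, as a set with action of the cyclic group of `x` -/
def kerAct (x : SpecialLinearGroup (Fin 4) F) (z : Matrix (Fin 4) (Fin 4) F) (hz : z * x.1 = x.1 * z) : SubMulAction (Subgroup.zpowers x) (Fin 4 → F) where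
  carrier := {v | z *ᵥ v = 0}
  smul_mem' := by
    rintro ⟨g, hg⟩ v hv
    have hv : z *ᵥ v = 0 := hv
    show z *ᵥ (g.1 *ᵥ v) = 0
    have hc : z * g.1 = g.1 * z := by
      obtain ⟨k, rfl⟩ := Subgroup.mem_zpowers_iff.mp hg
      have h0 : Commute z x.1 := hz
      have h1 : ∀ n : ℕ, z * (x ^ n).1 = (x ^ n).1 * z := by
        intro n
        have : (x ^ n).1 = x.1 ^ n := Matrix.SpecialLinearGroup.coe_pow x n
        rw [this]
        exact (h0.pow_right n)
      have h2 : ∀ y : SpecialLinearGroup (Fin 4) F, z * y.1 = y.1 * z → z * (y⁻¹).1 = (y⁻¹).1 * z := by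
        intro y hy
        have e1 : y.1 * (y⁻¹).1 = 1 := by
          have := congrArg Subtype.val (mul_inv_cancel y)
          exact this
        have e2 : (y⁻¹).1 * y.1 = 1 := by
          have := congrArg Subtype.val (inv_mul_cancel y)
          exact this
        calc z * (y⁻¹).1 = ((y⁻¹).1 * y.1) * (z * (y⁻¹).1) := by rw [e2, one_mul]
          _ = (y⁻¹).1 * (y.1 * z) * (y⁻¹).1 := by simp only [Matrix.mul_assoc]
          _ = (y⁻¹).1 * (z * y.1) * (y⁻¹).1 := by rw [hy]
          _ = (y⁻¹).1 * z * (y.1 * (y⁻¹).1) := by simp only [Matrix.mul_assoc]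
          _ = (y⁻¹).1 * z := by rw [e1, mul_one]
      rcases Int.eq_nat_or_neg k with ⟨n, rfl | rfl⟩
      · rw [_root_.zpow_natCast]; exact h1 n
      · rw [_root_.zpow_neg, _root_.zpow_natCast]; exact h2 _ (h1 n)
    rw [Matrix.mulVec_mulVec, hc, ← Matrix.mulVec_mulVec, hv, Matrix.mulVec_zero]

theorem card_kerAct (x : SpecialLinearGroup (Fin 4) F) (z : Matrix (Fin 4) (Fin 4) F) (hz : z * x.1 = x.1 * z) :
    ∃ d ≤ 4, Nat.card (kerAct x z hz) = Fintype.card F ^ d ∧ (d = 4 → z = 0) ∧ (d = 0 → ∀ v, z *ᵥ v = 0 → v = 0) := by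
  classical
  obtain ⟨W, hW⟩ : ∃ W : Submodule F (Fin 4 → F), W = LinearMap.ker (Matrix.mulVecLin z) := ⟨_, rfl⟩
  have hmem : ∀ v, v ∈ W ↔ z *ᵥ v = 0 := by
    intro v
    rw [hW, LinearMap.mem_ker, Matrix.mulVecLin_apply]
  haveI : Fintype W := Fintype.ofFinite _
  have h4 : Module.finrank F (Fin 4 → F) = 4 := by simp
  refine ⟨Module.finrank F W, ?_, ?_, ?_, ?_⟩
  · exact (Submodule.finrank_le W).trans h4.le
  · rw [← Module.card_eq_pow_finrank (K := F), ← Nat.card_eq_fintype_card]
    apply Nat.card_congr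
    exact Equiv.subtypeEquivRight (fun v => (hmem v).symm)
  · intro hd
    have h1 : W = ⊤ := Submodule.eq_top_of_finrank_eq (by rw [hd, h4])
    ext i j
    have h2 : (Pi.single j (1 : F) : Fin 4 → F) ∈ W := by rw [h1]; exact Submodule.mem_top
    rw [hmem] at h2
    have h3 := congrFun h2 i
    rw [Matrix.mulVec_single_one] at h3
    exact h3
  · intro hd v hv
    have h1 : W = ⊥ := Submodule.finrank_eq_zero.mp hd
    rw [← hmem, h1, Submodule.mem_bot] at hv
    exact hv

/-- an element of prime order `p ∣ q² + 1` acts without fixed vectors and its commutant has no zero divisors -/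
theorem commutant_inj (hp : p ≠ 2) (hpq : p ∣ Fintype.card F ^ 2 + 1) {x : SpecialLinearGroup (Fin 4) F} (hx : orderOf x = p)
    {z : Matrix (Fin 4) (Fin 4) F} (hz : z * x.1 = x.1 * z) (hz0 : z ≠ 0) : ∀ v, z *ᵥ v = 0 → v = 0 := by
  classical
  have hx1 : x ≠ 1 := by
    rintro rfl
    rw [orderOf_one] at hx
    exact (Fact.out : p.Prime).ne_one hx.symm
  have hPG : IsPGroup p (Subgroup.zpowers x) := by
    apply IsPGroup.of_card (n := 1)
    rw [Nat.card_zpowers, hx, pow_one]
  -- no fixed vectors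
  have hfix : ∀ v : Fin 4 → F, x.1 *ᵥ v = v → v = 0 := by
    have hz' : (x.1 - 1) * x.1 = x.1 * (x.1 - 1) := by rw [sub_mul, mul_sub, one_mul, mul_one]
    obtain ⟨d, hd4, hcard, h4, h0⟩ := card_kerAct x (x.1 - 1) hz'
    have h1 := hPG.card_modEq_card_fixedPoints (Fin 4 → F)
    have h2 : Nat.card (fixedPoints (Subgroup.zpowers x) (Fin 4 → F)) = Nat.card (kerAct x (x.1 - 1) hz') := by
      apply Nat.card_congr
      apply Equiv.subtypeEquivRight
      intro v
      rw [mem_fixedPoints]
      constructor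
      · intro h
        show (x.1 - 1) *ᵥ v = 0
        rw [Matrix.sub_mulVec, Matrix.one_mulVec, sub_eq_zero]
        exact h ⟨x, Subgroup.mem_zpowers x⟩
      · intro h
        have h : (x.1 - 1) *ᵥ v = 0 := h
        rw [Matrix.sub_mulVec, Matrix.one_mulVec, sub_eq_zero] at h
        rintro ⟨g, hg⟩
        show g • v = v
        have : Subgroup.zpowers x ≤ stabilizer (SpecialLinearGroup (Fin 4) F) v := by
          rw [Subgroup.zpowers_le]
          exact h
        exact this hg
    have h5 : Nat.card (Fin 4 → F) = Fintype.card F ^ 4 := by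
      rw [Nat.card_eq_fintype_card, Fintype.card_fun, Fintype.card_fin]
    rw [h2, hcard, h5, ← ZMod.natCast_eq_natCast_iff] at h1
    push_cast at h1
    have h6 : ((Fintype.card F : ℕ) : ZMod p) ^ 2 = -1 := by
      have : ((Fintype.card F ^ 2 + 1 : ℕ) : ZMod p) = 0 := (ZMod.natCast_eq_zero_iff _ _).mpr hpq
      push_cast at this
      exact eq_neg_of_add_eq_zero_left this
    have h7 : ((Fintype.card F : ℕ) : ZMod p) ^ 4 = 1 := by
      have : ((Fintype.card F : ℕ) : ZMod p) ^ 4 = (((Fintype.card F : ℕ) : ZMod p) ^ 2) ^ 2 := by ring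
      rw [this, h6]; ring
    rw [h7] at h1
    rcases ord_four hp hpq hd4 h1.symm with h | h
    · intro v hv
      apply h0 h
      rw [Matrix.sub_mulVec, Matrix.one_mulVec, hv, sub_self]
    · exfalso
      apply hx1
      apply Subtype.ext
      exact sub_eq_zero.mp (h4 h)
  obtain ⟨d, hd4, hcard, h4, h0⟩ := card_kerAct x z hz
  have h1 := hPG.card_modEq_card_fixedPoints (kerAct x z hz)
  have h2 : Nat.card (fixedPoints (Subgroup.zpowers x) (kerAct x z hz)) = 1 := by
    rw [Nat.card_eq_one_iff_unique]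
    constructor
    · constructor
      rintro ⟨⟨v, hv⟩, hvf⟩ ⟨⟨w, hw⟩, hwf⟩
      have e1 : v = 0 := hfix v (congrArg Subtype.val (hvf ⟨x, Subgroup.mem_zpowers x⟩))
      have e2 : w = 0 := hfix w (congrArg Subtype.val (hwf ⟨x, Subgroup.mem_zpowers x⟩))
      subst e1
      subst e2
      rfl
    · refine ⟨⟨⟨0, Matrix.mulVec_zero z⟩, ?_⟩⟩
      rw [mem_fixedPoints]
      rintro ⟨g, hg⟩
      apply Subtype.ext
      show g.1 *ᵥ 0 = 0
      exact Matrix.mulVec_zero _
  rw [h2, hcard, ← ZMod.natCast_eq_natCast_iff] at h1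
  push_cast at h1
  rcases ord_four hp hpq hd4 h1 with h | h
  · exact h0 h
  · exact absurd (h4 h) hz0

/-- the commutant is a field -/
theorem commutant_field (hp : p ≠ 2) (hpq : p ∣ Fintype.card F ^ 2 + 1) {x : SpecialLinearGroup (Fin 4) F} (hx : orderOf x = p) :
    IsField (Subalgebra.centralizer F ({x.1} : Set (Matrix (Fin 4) (Fin 4) F))) := by
  have hmem : ∀ z : Subalgebra.centralizer F ({x.1} : Set (Matrix (Fin 4) (Fin 4) F)), z.1 * x.1 = x.1 * z.1 := by
    intro z
    exact ((Subalgebra.mem_centralizer_iff F).mp z.2 x.1 rfl).symm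
  haveI : NoZeroDivisors (Subalgebra.centralizer F ({x.1} : Set (Matrix (Fin 4) (Fin 4) F))) := by
    constructor
    intro z w hzw
    by_cases hz : z = 0
    · exact Or.inl hz
    · right
      have hz' : z.1 ≠ 0 := fun h => hz (Subtype.ext h)
      have h1 := commutant_inj hp hpq hx (hmem z) hz'
      apply Subtype.ext
      have h2 : z.1 * w.1 = 0 := congrArg Subtype.val hzw
      ext i j
      have h3 : z.1 *ᵥ (w.1 *ᵥ (Pi.single j 1)) = 0 := by rw [Matrix.mulVec_mulVec, h2, Matrix.zero_mulVec]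
      have h4 := congrFun (h1 _ h3) i
      rw [Matrix.mulVec_single_one] at h4
      exact h4
  haveI : Nontrivial (Subalgebra.centralizer F ({x.1} : Set (Matrix (Fin 4) (Fin 4) F))) := by
    refine ⟨⟨0, 1, ?_⟩⟩
    intro h
    have := congrArg Subtype.val h
    have h2 := congrFun (congrFun this 0) 0
    simp at h2
  haveI : IsDomain (Subalgebra.centralizer F ({x.1} : Set (Matrix (Fin 4) (Fin 4) F))) := NoZeroDivisors.to_isDomain _
  haveI : Finite (Matrix (Fin 4) (Fin 4) F) := by
    unfold Matrix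
    infer_instance
  exact Finite.isDomain_to_isField _

end CfsgLib.H7S
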