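import Mathlib
import Cfsg.Agent.Lib.H7S7
import Cfsg.Agent.Lib.H7S8

/-!
# The Suzuki groups: centralizers of elements of prime order dividing `q² + 1`
-/

set_option autoImplicit false
set_option linter.style.haveILetI false
set_option linter.unusedSectionVars false

open MulAction Cfsg Matrix
open scoped Pointwise commutatorElement

namespace CfsgLib.H7S

universe u

variable {F : Type u} [Field F] [Fintype F] {m : ℕ} {p : ℕ} [Fact p.Prime]

theorem cent_cyclic (hp : p ≠ 2) (hpq : p ∣ Fintype.card F ^ 2 + 1) {x : Sz F m} (hx : orderOf x = p) :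
    IsCyclic (Subgroup.centralizer ({x} : Set (Sz F m))) := by
  have hx' : orderOf (x : SpecialLinearGroup (Fin 4) F) = p := by rw [Subgroup.orderOf_coe, hx]
  have hfield := commutant_field hp hpq hx'
  letI := hfield.toField
  have hmem : ∀ g : Subgroup.centralizer ({x} : Set (Sz F m)), ((g : Sz F m) : SpecialLinearGroup (Fin 4) F).1 ∈
      Subalgebra.centralizer F ({(x : SpecialLinearGroup (Fin 4) F).1} : Set (Matrix (Fin 4) (Fin 4) F)) := by
    intro g
    rw [Subalgebra.mem_centralizer_iff]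
    rintro _ rfl
    have h1 := Subgroup.mem_centralizer_singleton_iff.mp g.2
    exact (congrArg (fun k : Sz F m => (k : SpecialLinearGroup (Fin 4) F).1) h1).symm
  obtain ⟨f, hf⟩ : ∃ f : Subgroup.centralizer ({x} : Set (Sz F m)) →* Subalgebra.centralizer F ({(x : SpecialLinearGroup (Fin 4) F).1} : Set (Matrix (Fin 4) (Fin 4) F)),
      ∀ g, (f g).1 = ((g : Sz F m) : SpecialLinearGroup (Fin 4) F).1 :=
    ⟨⟨⟨fun g => ⟨((g : Sz F m) : SpecialLinearGroup (Fin 4) F).1, hmem g⟩, Subtype.ext rfl⟩, fun g k => Subtype.ext rfl⟩, fun g => rfl⟩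
  apply isCyclic_of_subgroup_isDomain f
  intro g k hgk
  apply Subtype.ext
  apply Subtype.ext
  apply Subtype.ext
  rw [← hf, ← hf, hgk]

/-- the normalizer of the centralizer -/
theorem index_le_four (hp : p ≠ 2) (hpq : p ∣ Fintype.card F ^ 2 + 1) {x : Sz F m} (hx : orderOf x = p) {N : Subgroup (Sz F m)}
    (hN : ∀ y ∈ N, y * x * y⁻¹ ∈ Subgroup.centralizer ({x} : Set (Sz F m))) :
    ((Subgroup.centralizer ({x} : Set (Sz F m))).subgroupOf N).index ≤ 4 := by
  classical
  have hx' : orderOf (x : SpecialLinearGroup (Fin 4) F) = p := by rw [Subgroup.orderOf_coe, hx]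
  have hfield := commutant_field hp hpq hx'
  letI := hfield.toField
  obtain ⟨P, hP⟩ : ∃ P, P = (x : SpecialLinearGroup (Fin 4) F).1.charpoly := ⟨_, rfl⟩
  obtain ⟨Q, hQ⟩ : ∃ Q : Polynomial (Subalgebra.centralizer F ({(x : SpecialLinearGroup (Fin 4) F).1} : Set (Matrix (Fin 4) (Fin 4) F))),
      Q = P.map (algebraMap F (Subalgebra.centralizer F ({(x : SpecialLinearGroup (Fin 4) F).1} : Set (Matrix (Fin 4) (Fin 4) F)))) := ⟨_, rfl⟩
  have hPm : P.Monic := by rw [hP]; exact Matrix.charpoly_monic _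
  have hQ0 : Q ≠ 0 := by rw [hQ]; exact (hPm.map _).ne_zero
  have hQd : Q.roots.toFinset.card ≤ 4 := by
    refine (Multiset.toFinset_card_le _).trans ((Polynomial.card_roots' Q).trans ?_)
    rw [hQ, hPm.natDegree_map, hP, Matrix.charpoly_natDegree_eq_dim, Fintype.card_fin]
  have hc : ∀ y : N, ∃ c : Subalgebra.centralizer F ({(x : SpecialLinearGroup (Fin 4) F).1} : Set (Matrix (Fin 4) (Fin 4) F)),
      c.1 = ((y : Sz F m) * x * (y : Sz F m)⁻¹ : Sz F m).1.1 ∧ c ∈ Q.roots.toFinset := by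
    intro y
    have h1 := Subgroup.mem_centralizer_singleton_iff.mp (hN y y.2)
    refine ⟨⟨((y : Sz F m) * x * (y : Sz F m)⁻¹ : Sz F m).1.1, ?_⟩, rfl, ?_⟩
    · rw [Subalgebra.mem_centralizer_iff]
      rintro _ rfl
      exact (congrArg (fun k : Sz F m => (k : SpecialLinearGroup (Fin 4) F).1) h1).symm
    · rw [Multiset.mem_toFinset, Polynomial.mem_roots hQ0, Polynomial.IsRoot.def, hQ, Polynomial.eval_map, ← Polynomial.aeval_def]
      apply Subtype.ext
      have h2 : ((y : Sz F m) * x * (y : Sz F m)⁻¹ : Sz F m).1.1.charpoly = P := by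
        obtain ⟨Y, hY⟩ : ∃ Y : (Matrix (Fin 4) (Fin 4) F)ˣ, Y.1 = (y : Sz F m).1.1 ∧ Y⁻¹.1 = ((y : Sz F m)⁻¹).1.1 :=
          ⟨⟨(y : Sz F m).1.1, ((y : Sz F m)⁻¹).1.1, congrArg (fun k : Sz F m => k.1.1) (mul_inv_cancel (y : Sz F m)),
            congrArg (fun k : Sz F m => k.1.1) (inv_mul_cancel (y : Sz F m))⟩, rfl, rfl⟩
        have h3 := Matrix.charpoly_units_conj Y (x : SpecialLinearGroup (Fin 4) F).1
        rw [← Matrix.coe_units_inv, hY.1, hY.2] at h3
        rw [hP, ← h3]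
        rfl
      have h3 := Matrix.aeval_self_charpoly ((y : Sz F m) * x * (y : Sz F m)⁻¹ : Sz F m).1.1
      rw [h2] at h3
      have h4 : ∀ (c : Subalgebra.centralizer F ({(x : SpecialLinearGroup (Fin 4) F).1} : Set (Matrix (Fin 4) (Fin 4) F))),
          (Polynomial.aeval c P).1 = Polynomial.aeval c.1 P := by
        intro c
        exact (Polynomial.aeval_algHom_apply (Subalgebra.val _) c P).symm
      exact (h4 _).trans h3
  choose f hf1 hf2 using hc
  have hinj : Function.Injective (fun Y : N ⧸ (Subgroup.centralizer ({x} : Set (Sz F m))).subgroupOf N => (⟨f Y.out, hf2 Y.out⟩ : Q.roots.toFinset)) := by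
    intro Y Z hYZ
    have h1 : f Y.out = f Z.out := congrArg Subtype.val hYZ
    have h2 := hf1 Y.out
    rw [h1, hf1] at h2
    have h3 : ((Z.out : N) : Sz F m) * x * ((Z.out : N) : Sz F m)⁻¹ = ((Y.out : N) : Sz F m) * x * ((Y.out : N) : Sz F m)⁻¹ := Subtype.ext (Subtype.ext h2)
    rw [← Y.out_eq', ← Z.out_eq', QuotientGroup.eq, Subgroup.mem_subgroupOf, Subgroup.mem_centralizer_singleton_iff]
    show ((Y.out : N) : Sz F m)⁻¹ * ((Z.out : N) : Sz F m) * x = x * (((Y.out : N) : Sz F m)⁻¹ * ((Z.out : N) : Sz F m))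
    calc ((Y.out : N) : Sz F m)⁻¹ * ((Z.out : N) : Sz F m) * x = ((Y.out : N) : Sz F m)⁻¹ * (((Z.out : N) : Sz F m) * x * ((Z.out : N) : Sz F m)⁻¹) * ((Z.out : N) : Sz F m) := by group
      _ = ((Y.out : N) : Sz F m)⁻¹ * (((Y.out : N) : Sz F m) * x * ((Y.out : N) : Sz F m)⁻¹) * ((Z.out : N) : Sz F m) := by rw [h3]
      _ = x * (((Y.out : N) : Sz F m)⁻¹ * ((Z.out : N) : Sz F m)) := by group
  have h5 := Nat.card_le_card_of_injective _ hinj
  rw [← Subgroup.index_eq_card] at h5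
  refine h5.trans ?_
  rw [Nat.card_eq_fintype_card, Fintype.card_coe]
  exact hQd

end CfsgLib.H7S
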