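import Mathlib
import Cfsg.Agent.Lib.H7S9
import Cfsg.Agent.S0338

/-!
# The Suzuki groups: centralizers
-/

set_option autoImplicit false
set_option linter.style.haveILetI false
set_option linter.unusedSectionVars false

open MulAction Cfsg Matrix
open scoped Pointwise commutatorElement

namespace CfsgLib.H7S

universe u

theorem nil_of_inj {A B : Type*} [Group A] [Group B] (f : A →* B) (hf : Function.Injective f) (hB : Group.IsNilpotent B) : Group.IsNilpotent A := by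
  haveI := hB
  haveI : Group.IsNilpotent f.range := inferInstance
  exact Group.nilpotent_of_mulEquiv (MonoidHom.ofInjective hf).symm

/-- counting conjugates of a TI-subgroup -/
theorem card_ti {G : Type*} [Group G] [Finite G] {U N : Subgroup G} (h1 : ∀ g u : G, u ∈ U → u ≠ 1 → g * u * g⁻¹ ∈ U → g ∈ N)
    (h2 : ∀ n ∈ N, ∀ u ∈ U, n * u * n⁻¹ ∈ U) :
    Nat.card {x : G // x ≠ 1 ∧ ∃ g : G, g⁻¹ * x * g ∈ U} * Nat.card N = Nat.card G * (Nat.card U - 1) := by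
  classical
  have hU : Nat.card U - 1 = Nat.card {u : U // u ≠ 1} := by
    haveI := Fintype.ofFinite U
    rw [Nat.card_eq_fintype_card, Nat.card_eq_fintype_card, Fintype.card_subtype_compl, Fintype.card_subtype_eq]
  rw [hU, ← Nat.card_prod, ← Nat.card_prod]
  have hch : ∀ x : {x : G // x ≠ 1 ∧ ∃ g : G, g⁻¹ * x * g ∈ U}, ∃ g : G, g⁻¹ * x.1 * g ∈ U := fun x => x.2.2
  choose k hk using hch
  refine Nat.card_congr (Equiv.ofBijective (fun p : {x : G // x ≠ 1 ∧ ∃ g : G, g⁻¹ * x * g ∈ U} × N =>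
    ((k p.1 * p.2, ⟨⟨(p.2 : G)⁻¹ * ((k p.1)⁻¹ * p.1.1 * k p.1) * p.2, by
      have := h2 _ (inv_mem p.2.2) _ (hk p.1)
      rwa [inv_inv] at this⟩, by
      intro h
      apply p.1.2.1
      have h3 : (p.2 : G)⁻¹ * ((k p.1)⁻¹ * p.1.1 * k p.1) * p.2 = 1 := congrArg Subtype.val h
      calc p.1.1 = k p.1 * p.2 * ((p.2 : G)⁻¹ * ((k p.1)⁻¹ * p.1.1 * k p.1) * p.2) * (p.2 : G)⁻¹ * (k p.1)⁻¹ := by group
        _ = 1 := by rw [h3]; group⟩) : G × {u : U // u ≠ 1})) ⟨?_, ?_⟩)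
  · rintro ⟨x, n⟩ ⟨y, l⟩ h
    have e1 : k x * (n : G) = k y * l := congrArg Prod.fst h
    have e2 : (n : G)⁻¹ * ((k x)⁻¹ * x.1 * k x) * n = (l : G)⁻¹ * ((k y)⁻¹ * y.1 * k y) * l :=
      congrArg (fun p : G × {u : U // u ≠ 1} => ((p.2 : U) : G)) h
    have e3 : x.1 = y.1 := by
      calc x.1 = (k x * n) * ((n : G)⁻¹ * ((k x)⁻¹ * x.1 * k x) * n) * (k x * n)⁻¹ := by group
        _ = (k y * l) * ((l : G)⁻¹ * ((k y)⁻¹ * y.1 * k y) * l) * (k y * l)⁻¹ := by rw [e1, e2]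
        _ = y.1 := by group
    have e4 : x = y := Subtype.ext e3
    subst e4
    exact Prod.ext rfl (Subtype.ext (mul_left_cancel e1))
  · rintro ⟨g, ⟨u, hu⟩, hu1⟩
    have hu1' : u ≠ 1 := fun h => hu1 (Subtype.ext h)
    have hx1 : g * u * g⁻¹ ≠ 1 := by
      intro h
      apply hu1'
      calc u = g⁻¹ * (g * u * g⁻¹) * g := by group
        _ = 1 := by rw [h]; group
    obtain ⟨x, hx⟩ : ∃ x : {x : G // x ≠ 1 ∧ ∃ g : G, g⁻¹ * x * g ∈ U}, x.1 = g * u * g⁻¹ :=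
      ⟨⟨g * u * g⁻¹, hx1, g, by
        have : g⁻¹ * (g * u * g⁻¹) * g = u := by group
        rw [this]; exact hu⟩, rfl⟩
    have hn : (k x)⁻¹ * g ∈ N := by
      apply h1 _ u hu hu1'
      have e : (k x)⁻¹ * g * u * ((k x)⁻¹ * g)⁻¹ = (k x)⁻¹ * x.1 * k x := by rw [hx]; group
      rw [e]
      exact hk x
    refine ⟨(x, ⟨(k x)⁻¹ * g, hn⟩), ?_⟩
    refine Prod.ext ?_ (Subtype.ext (Subtype.ext ?_))
    · show k x * ((k x)⁻¹ * g) = g
      group
    · show ((k x)⁻¹ * g)⁻¹ * ((k x)⁻¹ * x.1 * k x) * ((k x)⁻¹ * g) = u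
      rw [hx]; group

variable {F : Type u} [Field F] [Fintype F] {m : ℕ}

/-- fixed-point-free elements -/
def FP (g : Sz F m) : Prop := ∀ c : suzukiOvoid F m, g • c ≠ c

theorem isSimple (hm : 1 ≤ m) (hF : Fintype.card F = 2 ^ (2 * m + 1)) : IsSimpleGroup (Sz F m) := by
  obtain ⟨D⟩ := exists_SD hF
  refine Cfsg.Agent.S0338.result (D.zassenhaus hm hF) ?_
  rw [fcard_ovoid, hF, Nat.odd_add_one, Nat.not_odd_iff_even, ← pow_mul]
  exact (Nat.even_pow.mpr ⟨even_two, by omega⟩)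

theorem odd_EE (hm : 1 ≤ m) (hF : Fintype.card F = 2 ^ (2 * m + 1)) {c d : suzukiOvoid F m} (hcd : c ≠ d) :
    Odd (Nat.card (stabilizer (Sz F m) c ⊓ stabilizer (Sz F m) d : Subgroup (Sz F m))) := by
  obtain ⟨D⟩ := exists_SD hF
  rw [CfsgLib.H7Z.card_EE_eq (D.zassenhaus hm hF) inf_ne_zero hcd]
  exact D.odd_E hm hF

theorem card_EE (hm : 1 ≤ m) (hF : Fintype.card F = 2 ^ (2 * m + 1)) {c d : suzukiOvoid F m} (hcd : c ≠ d) :
    Nat.card (stabilizer (Sz F m) c ⊓ stabilizer (Sz F m) d : Subgroup (Sz F m)) = Fintype.card F - 1 := by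
  obtain ⟨D⟩ := exists_SD hF
  rw [CfsgLib.H7Z.card_EE_eq (D.zassenhaus hm hF) inf_ne_zero hcd]
  exact D.card_E hm hF

/-- the torus is its own centralizer -/
theorem cent_EE (hm : 1 ≤ m) (hF : Fintype.card F = 2 ^ (2 * m + 1)) {c d : suzukiOvoid F m} (hcd : c ≠ d) {x : Sz F m}
    (hxc : x • c = c) (hxd : x • d = d) (hx1 : x ≠ 1) :
    Subgroup.centralizer ({x} : Set (Sz F m)) = stabilizer (Sz F m) c ⊓ stabilizer (Sz F m) d := by
  obtain ⟨D⟩ := exists_SD hF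
  have hZ := D.zassenhaus hm hF
  haveI := isSimple (F := F) (m := m) hm hF
  have hodd := odd_EE hm hF hcd
  obtain ⟨hcyc, hinv⟩ := CfsgLib.H7Z.E_cyclic_inverted hZ hcd hodd
  have hxE : x ∈ stabilizer (Sz F m) c ⊓ stabilizer (Sz F m) d := ⟨hxc, hxd⟩
  apply le_antisymm
  · intro y hy
    rw [Subgroup.mem_centralizer_singleton_iff] at hy
    have h1 : x • (y • c) = y • c := by rw [← mul_smul, ← hy, mul_smul, hxc]
    have h2 : x • (y • d) = y • d := by rw [← mul_smul, ← hy, mul_smul, hxd]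
    rcases CfsgLib.H7Z.fix3 hZ hx1 hcd hxc hxd h1 with h3 | h3
    · refine ⟨h3, ?_⟩
      rcases CfsgLib.H7Z.fix3 hZ hx1 hcd hxc hxd h2 with h4 | h4
      · exact absurd (smul_left_cancel y (h3.trans h4.symm)) hcd
      · exact h4
    · exfalso
      rcases CfsgLib.H7Z.fix3 hZ hx1 hcd hxc hxd h2 with h4 | h4
      · obtain ⟨-, h5⟩ := hinv y h3 h4
        have h6 := h5 x hxE
        have h7 : x = x⁻¹ := by
          rw [← h6, hy]; group
        have h8 : x * x = 1 := by nth_rewrite 1 [h7]; exact inv_mul_cancel x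
        apply hx1
        obtain ⟨k, hk⟩ := hodd
        have h9 : (⟨x, hxE⟩ : (stabilizer (Sz F m) c ⊓ stabilizer (Sz F m) d : Subgroup (Sz F m))) ^ (2 * k + 1) = 1 := by rw [← hk]; exact pow_card_eq_one'
        have h10 : x ^ (2 * k + 1) = 1 := congrArg Subtype.val h9
        rw [pow_succ, pow_mul, sq, h8, one_pow, one_mul] at h10
        exact h10
      · exact hcd.symm (smul_left_cancel y (h4.trans h3.symm))
  · intro y hy
    rw [Subgroup.mem_centralizer_singleton_iff]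
    haveI := hcyc
    have := (IsCyclic.commGroup (α := (stabilizer (Sz F m) c ⊓ stabilizer (Sz F m) d : Subgroup (Sz F m)))).mul_comm ⟨y, hy⟩ ⟨x, hxE⟩
    exact congrArg Subtype.val this

theorem cyc_EE (hm : 1 ≤ m) (hF : Fintype.card F = 2 ^ (2 * m + 1)) {c d : suzukiOvoid F m} (hcd : c ≠ d) :
    IsCyclic (stabilizer (Sz F m) c ⊓ stabilizer (Sz F m) d : Subgroup (Sz F m)) := by
  obtain ⟨D⟩ := exists_SD hF
  have hZ := D.zassenhaus hm hF
  haveI := isSimple (F := F) (m := m) hm hF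
  exact (CfsgLib.H7Z.E_cyclic_inverted hZ hcd (odd_EE hm hF hcd)).1

/-- if `x` commutes with `u ≠ 1` and `x` has no fixed points, neither does `u` -/
theorem fp_of_comm (hm : 1 ≤ m) (hF : Fintype.card F = 2 ^ (2 * m + 1)) {x u : Sz F m} (hx : FP x) (hu1 : u ≠ 1) (hxu : x * u = u * x) : FP u := by
  intro c hc
  have h1 : u • (x • c) = x • c := by rw [← mul_smul, ← hxu, mul_smul, hc]
  have hne : c ≠ x • c := fun h => hx c h.symm
  have h2 : x ∈ Subgroup.centralizer ({u} : Set (Sz F m)) := Subgroup.mem_centralizer_singleton_iff.mpr hxu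
  rw [cent_EE hm hF hne hc h1 hu1] at h2
  exact hx c h2.1

theorem coprime_q (hm : 1 ≤ m) (hF : Fintype.card F = 2 ^ (2 * m + 1)) {p : ℕ} (hp : p.Prime) (hp2 : p ≠ 2) (hpq : p ∣ Fintype.card F ^ 2 + 1) :
    ¬ p ∣ Fintype.card F ^ 2 * (Fintype.card F - 1) := by
  intro h
  rcases (Nat.Prime.dvd_mul hp).mp h with h1 | h1
  · have h2 : p ∣ 1 := (Nat.dvd_add_right h1).mp hpq
    exact hp.one_lt.ne' (Nat.dvd_one.mp h2)
  · obtain ⟨q, hq⟩ : ∃ q, Fintype.card F = q + 1 := ⟨Fintype.card F - 1, by have := SD.card_ge hm hF; omega⟩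
    rw [hq, Nat.add_sub_cancel] at h1
    rw [hq] at hpq
    have h2 : (q + 1) ^ 2 + 1 = q * (q + 2) + 2 := by ring
    rw [h2] at hpq
    have h3 : p ∣ 2 := (Nat.dvd_add_right (h1.mul_right _)).mp hpq
    exact hp2 ((Nat.prime_dvd_prime_iff_eq hp Nat.prime_two).mp h3)

/-- elements of prime order dividing `q² + 1` have no fixed points -/
theorem fp_of_order (hm : 1 ≤ m) (hF : Fintype.card F = 2 ^ (2 * m + 1)) {p : ℕ} (hp : p.Prime) (hp2 : p ≠ 2) (hpq : p ∣ Fintype.card F ^ 2 + 1) {x : Sz F m}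
    (hx : orderOf x = p) : FP x := by
  obtain ⟨D⟩ := exists_SD hF
  intro c hc
  obtain ⟨k, hk⟩ := D.exists_to_inf c
  have h1 : (k * x * k⁻¹) • oinf F m = oinf F m := by rw [← hk, smul_smul, inv_mul_cancel_right, mul_smul, hc]
  have h2 : orderOf (k * x * k⁻¹) = p := by
    have := MulEquiv.orderOf_eq (MulAut.conj k) x
    rw [MulAut.conj_apply] at this
    rw [this, hx]
  apply coprime_q hm hF hp hp2 hpq
  rw [← D.card_stab hm hF, ← h2]
  have h4 : k * x * k⁻¹ ∈ stabilizer (Sz F m) (oinf F m) := h1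
  have h3 := orderOf_dvd_natCard (⟨k * x * k⁻¹, h4⟩ : stabilizer (Sz F m) (oinf F m))
  rwa [Subgroup.orderOf_mk] at h3

/-- a fixed-point-free element has a power of prime order dividing `q² + 1` -/
theorem exists_prime_pow (hm : 1 ≤ m) (hF : Fintype.card F = 2 ^ (2 * m + 1)) {g : Sz F m} (hg : FP g) :
    ∃ p : ℕ, p.Prime ∧ p ≠ 2 ∧ p ∣ Fintype.card F ^ 2 + 1 ∧ ∃ k : ℕ, orderOf (g ^ k) = p := by
  obtain ⟨D⟩ := exists_SD hF
  have hg1 : g ≠ 1 := by
    rintro rfl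
    exact hg (oinf F m) (one_smul _ _)
  have ho : orderOf g ≠ 1 := fun h => hg1 (orderOf_eq_one_iff.mp h)
  obtain ⟨p, hp, hpd⟩ := Nat.exists_prime_and_dvd ho
  obtain ⟨k, hk⟩ := hpd
  have hk0 : k ≠ 0 := by
    rintro rfl
    rw [mul_zero] at hk
    exact (orderOf_pos g).ne' hk
  have hord : orderOf (g ^ k) = p := by
    rw [orderOf_pow, hk, Nat.gcd_eq_right (Dvd.intro_left p rfl), Nat.mul_div_cancel _ (Nat.pos_of_ne_zero hk0)]
  have hgk1 : g ^ k ≠ 1 := by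
    intro h
    rw [h, orderOf_one] at hord
    exact hp.ne_one hord.symm
  have hfp : FP (g ^ k) := fp_of_comm hm hF hg hgk1 (Commute.self_pow g k)
  haveI : Fact p.Prime := ⟨hp⟩
  have hPG : IsPGroup p (Subgroup.zpowers (g ^ k)) := by
    apply IsPGroup.of_card (n := 1)
    rw [Nat.card_zpowers, hord, pow_one]
  have h1 := hPG.card_modEq_card_fixedPoints (suzukiOvoid F m)
  have h2 : Nat.card (fixedPoints (Subgroup.zpowers (g ^ k)) (suzukiOvoid F m)) = 0 := by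
    haveI : IsEmpty (fixedPoints (Subgroup.zpowers (g ^ k)) (suzukiOvoid F m)) := by
      constructor
      rintro ⟨c, hc⟩
      exact hfp c (hc ⟨g ^ k, Subgroup.mem_zpowers _⟩)
    exact Nat.card_of_isEmpty
  rw [h2, card_ovoid] at h1
  have h3 : p ∣ Fintype.card F ^ 2 + 1 := Nat.modEq_zero_iff_dvd.mp h1
  refine ⟨p, hp, ?_, h3, k, hord⟩
  rintro rfl
  have h4 := D.even_q hF
  rw [← even_iff_two_dvd, Nat.even_add_one, Nat.even_pow] at h3
  exact h3 ⟨h4, by norm_num⟩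

end CfsgLib.H7S
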