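import Mathlib
import Cfsg.Agent.Lib.H7SA
import Cfsg.Agent.Lib.CohTI

/-!
# The Suzuki groups: centralizers of fixed-point-free elements
-/

set_option autoImplicit false
set_option linter.style.haveILetI false
set_option linter.unusedSectionVars false

open MulAction Cfsg Matrix
open scoped Pointwise commutatorElement

namespace CfsgLib.H7S

universe u

variable {F : Type u} [Field F] [Fintype F] {m : ℕ}

theorem cyc_comm {G : Type*} [Group G] {U : Subgroup G} (h : IsCyclic U) {x y : G} (hx : x ∈ U) (hy : y ∈ U) : x * y = y * x := by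
  haveI := h
  exact congrArg Subtype.val ((IsCyclic.commGroup (α := U)).mul_comm ⟨x, hx⟩ ⟨y, hy⟩)

theorem isCyclic_of_le {G : Type*} [Group G] {U V : Subgroup G} (hV : IsCyclic V) (h : U ≤ V) : IsCyclic U := by
  haveI := hV
  exact isCyclic_of_injective (Subgroup.inclusion h) (Subgroup.inclusion_injective h)

theorem cent_FP_cyclic (hm : 1 ≤ m) (hF : Fintype.card F = 2 ^ (2 * m + 1)) {g : Sz F m} (hg : FP g) :
    IsCyclic (Subgroup.centralizer ({g} : Set (Sz F m))) := by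
  obtain ⟨p, hp, hp2, hpq, k, hk⟩ := exists_prime_pow hm hF hg
  haveI : Fact p.Prime := ⟨hp⟩
  refine isCyclic_of_le (cent_cyclic hp2 hpq hk) ?_
  intro y hy
  rw [Subgroup.mem_centralizer_singleton_iff] at hy ⊢
  exact (Commute.pow_right hy k : Commute y (g ^ k))

theorem cent_FP_mem (hm : 1 ≤ m) (hF : Fintype.card F = 2 ^ (2 * m + 1)) {g : Sz F m} (hg : FP g) {u : Sz F m}
    (hu : u ∈ Subgroup.centralizer ({g} : Set (Sz F m))) (hu1 : u ≠ 1) : FP u :=
  fp_of_comm hm hF hg hu1 (Subgroup.mem_centralizer_singleton_iff.mp hu).symm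

theorem cent_FP_cent (hm : 1 ≤ m) (hF : Fintype.card F = 2 ^ (2 * m + 1)) {g : Sz F m} (hg : FP g) {u : Sz F m}
    (hu : u ∈ Subgroup.centralizer ({g} : Set (Sz F m))) (hu1 : u ≠ 1) :
    Subgroup.centralizer ({u} : Set (Sz F m)) = Subgroup.centralizer ({g} : Set (Sz F m)) := by
  have hufp := cent_FP_mem hm hF hg hu hu1
  have h1 := cent_FP_cyclic hm hF hg
  have h2 := cent_FP_cyclic hm hF hufp
  apply le_antisymm
  · intro y hy
    rw [Subgroup.mem_centralizer_singleton_iff]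
    refine cyc_comm h2 hy ?_
    rw [Subgroup.mem_centralizer_singleton_iff]
    exact (Subgroup.mem_centralizer_singleton_iff.mp hu).symm
  · intro y hy
    rw [Subgroup.mem_centralizer_singleton_iff]
    exact cyc_comm h1 hy hu

/-- classification of non-identity elements -/
theorem trichotomy (hm : 1 ≤ m) (hF : Fintype.card F = 2 ^ (2 * m + 1)) {g : Sz F m} (hg1 : g ≠ 1) :
    (∃ k : Sz F m, k * g * k⁻¹ ∈ (exists_SD hF).some.P) ∨ (∃ c d : suzukiOvoid F m, c ≠ d ∧ g • c = c ∧ g • d = d) ∨ FP g := by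
  obtain ⟨D, hD⟩ : ∃ D, D = (exists_SD hF).some := ⟨_, rfl⟩
  rw [← hD]
  by_cases h : FP g
  · exact Or.inr (Or.inr h)
  · rw [FP] at h
    push Not at h
    obtain ⟨c, hc⟩ := h
    by_cases h2 : ∃ d, c ≠ d ∧ g • d = d
    · obtain ⟨d, h3, h4⟩ := h2
      exact Or.inr (Or.inl ⟨c, d, h3, hc, h4⟩)
    · left
      push Not at h2
      obtain ⟨k, hk⟩ := D.exists_to_inf c
      refine ⟨k, ?_⟩
      have h1 : (k * g * k⁻¹) • oinf F m = oinf F m := by rw [← hk, smul_smul, inv_mul_cancel_right, mul_smul, hc]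
      rw [CfsgLib.H7Z.mem_H_iff (D.zassenhaus hm hF) inf_ne_zero D.P_le D.P_card_add D.P_fix h1]
      intro _ d hd
      by_contra hne
      have h5 : g • (k⁻¹ • d) = k⁻¹ • d := by
        rw [mul_smul, mul_smul] at hd
        exact eq_inv_smul_iff.mpr hd
      refine h2 (k⁻¹ • d) ?_ h5
      rintro rfl
      rw [smul_inv_smul] at hk
      exact hne hk

theorem conj_cent_equiv {G : Type*} [Group G] (k g : G) :
    Nonempty (Subgroup.centralizer ({g} : Set G) ≃* Subgroup.centralizer ({k * g * k⁻¹} : Set G)) := by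
  have h1 : (Subgroup.centralizer ({g} : Set G)).map (MulAut.conj k).toMonoidHom = Subgroup.centralizer ({k * g * k⁻¹} : Set G) := by
    ext x
    rw [Subgroup.mem_map, Subgroup.mem_centralizer_singleton_iff]
    constructor
    · rintro ⟨y, hy, rfl⟩
      rw [Subgroup.mem_centralizer_singleton_iff] at hy
      show k * y * k⁻¹ * (k * g * k⁻¹) = k * g * k⁻¹ * (k * y * k⁻¹)
      calc k * y * k⁻¹ * (k * g * k⁻¹) = k * (y * g) * k⁻¹ := by group
        _ = k * (g * y) * k⁻¹ := by rw [hy]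
        _ = k * g * k⁻¹ * (k * y * k⁻¹) := by group
    · intro hx
      refine ⟨k⁻¹ * x * k, ?_, ?_⟩
      · rw [Subgroup.mem_centralizer_singleton_iff]
        calc k⁻¹ * x * k * g = k⁻¹ * (x * (k * g * k⁻¹)) * k := by group
          _ = k⁻¹ * (k * g * k⁻¹ * x) * k := by rw [hx]
          _ = g * (k⁻¹ * x * k) := by group
      · show k * (k⁻¹ * x * k) * k⁻¹ = x
        group
  have h2 := (Subgroup.centralizer ({g} : Set G)).equivMapOfInjective (MulAut.conj k).toMonoidHom (MulAut.conj k).injective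
  rw [h1] at h2
  exact ⟨h2⟩

theorem isCN (hm : 1 ≤ m) (hF : Fintype.card F = 2 ^ (2 * m + 1)) : IsCNGroup (Sz F m) := by
  intro g hg1
  obtain ⟨D, hD⟩ : ∃ D, D = (exists_SD hF).some := ⟨_, rfl⟩
  have hnil : ∀ U : Subgroup (Sz F m), IsCyclic U → Group.IsNilpotent U := by
    intro U hU
    haveI := hU
    letI := IsCyclic.commGroup (α := U)
    exact CommGroup.isNilpotent
  rcases trichotomy hm hF hg1 with ⟨k, hk⟩ | ⟨c, d, hcd, hc, hd⟩ | h
  · rw [← hD] at hk
    have hk1 : k * g * k⁻¹ ≠ 1 := by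
      intro h
      apply hg1
      calc g = k⁻¹ * (k * g * k⁻¹) * k := by group
        _ = 1 := by rw [h]; group
    have h1 := CfsgLib.H7Z.centralizer_le_H (D.zassenhaus hm hF) inf_ne_zero D.P_le D.P_card_add D.P_fix hk hk1
    haveI : Fact (Nat.Prime 2) := ⟨Nat.prime_two⟩
    have h2 : Group.IsNilpotent D.P := (D.isPGroup_P hF).isNilpotent
    have h3 := nil_of_inj (Subgroup.inclusion h1) (Subgroup.inclusion_injective h1) h2
    obtain ⟨e⟩ := conj_cent_equiv k g
    exact Group.nilpotent_of_mulEquiv e.symm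
  · rw [cent_EE hm hF hcd hc hd hg1]
    exact hnil _ (cyc_EE hm hF hcd)
  · exact hnil _ (cent_FP_cyclic hm hF h)

theorem sylow_cyclic (hm : 1 ≤ m) (hF : Fintype.card F = 2 ^ (2 * m + 1)) {p : ℕ} [Fact p.Prime] (hp : p ≠ 2)
    {Q : Subgroup (Sz F m)} (hQ : IsPGroup p Q) : IsCyclic Q := by
  obtain ⟨D, hD⟩ : ∃ D, D = (exists_SD hF).some := ⟨_, rfl⟩
  by_cases hQ1 : Q = ⊥
  · rw [hQ1]
    exact isCyclic_of_subsingleton
  haveI : Nontrivial Q := (Subgroup.nontrivial_iff_ne_bot Q).mpr hQ1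
  haveI := hQ.center_nontrivial
  obtain ⟨⟨x, hx⟩, hx1⟩ := exists_ne (1 : Subgroup.center Q)
  have hx1' : (x : Sz F m) ≠ 1 := fun h => hx1 (Subtype.ext (Subtype.ext h))
  have hle : Q ≤ Subgroup.centralizer ({(x : Sz F m)} : Set (Sz F m)) := by
    intro y hy
    rw [Subgroup.mem_centralizer_singleton_iff]
    exact congrArg Subtype.val (Subgroup.mem_center_iff.mp hx ⟨y, hy⟩)
  rcases trichotomy hm hF hx1' with ⟨k, hk⟩ | ⟨c, d, hcd, hc, hd⟩ | h
  · exfalso
    rw [← hD] at hk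
    obtain ⟨i, hi⟩ := hQ x
    obtain ⟨j, hj⟩ := D.isPGroup_P hF ⟨_, hk⟩
    have hi' : (x : Sz F m) ^ p ^ i = 1 := congrArg Subtype.val hi
    have hj' : (k * (x : Sz F m) * k⁻¹) ^ 2 ^ j = 1 := congrArg Subtype.val hj
    rw [conj_pow, mul_inv_eq_one, mul_eq_left] at hj'
    have h1 := orderOf_dvd_of_pow_eq_one hi'
    have h2 := orderOf_dvd_of_pow_eq_one hj'
    have h3 : Nat.Coprime (p ^ i) (2 ^ j) := Nat.Coprime.pow _ _ ((Nat.coprime_primes (Fact.out : p.Prime) Nat.prime_two).mpr hp)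
    have h4 := Nat.eq_one_of_dvd_coprimes h3 h1 h2
    exact hx1' (orderOf_eq_one_iff.mp h4)
  · rw [cent_EE hm hF hcd hc hd hx1'] at hle
    exact isCyclic_of_le (cyc_EE hm hF hcd) hle
  · exact isCyclic_of_le (cent_FP_cyclic hm hF h) hle

/-- the order of the centralizer divides `q² + 1` -/
theorem card_cent_dvd (hm : 1 ≤ m) (hF : Fintype.card F = 2 ^ (2 * m + 1)) {g : Sz F m} (hg : FP g) :
    Nat.card (Subgroup.centralizer ({g} : Set (Sz F m))) ∣ Fintype.card F ^ 2 + 1 := by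
  have h1 : ∀ c : suzukiOvoid F m, stabilizer (Subgroup.centralizer ({g} : Set (Sz F m))) c = ⊥ := by
    intro c
    rw [Subgroup.eq_bot_iff_forall]
    intro u hu
    by_contra hu1
    exact cent_FP_mem hm hF hg u.2 (fun h => hu1 (Subtype.ext h)) c hu
  have h2 := Nat.card_congr (selfEquivOrbitsQuotientProd h1)
  rw [Nat.card_prod, card_ovoid] at h2
  exact ⟨_, by rw [h2, mul_comm]⟩

end CfsgLib.H7S
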