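import Mathlib
import Cfsg.Agent.Lib.H7SB
import Cfsg.Agent.Lib.H7Z2

/-!
# The Suzuki groups: the two exceptional classes of tori
-/

set_option autoImplicit false
set_option linter.style.haveILetI false
set_option linter.unusedSectionVars false

open MulAction Cfsg Matrix
open scoped Pointwise commutatorElement

namespace CfsgLib.H7S

universe u

variable {F : Type u} [Field F] [Fintype F] {m : ℕ}

/-- the centralizer of `g` -/
def CC (g : Sz F m) : Subgroup (Sz F m) := Subgroup.centralizer ({g} : Set (Sz F m))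

/-- elements conjugate into `C(g) \ 1` -/
def SS (g : Sz F m) : Set (Sz F m) := {x | x ≠ 1 ∧ ∃ y : Sz F m, y⁻¹ * x * y ∈ CC g}

omit [Fintype F] in
theorem mem_CC {g x : Sz F m} : x ∈ CC g ↔ x * g = g * x := Subgroup.mem_centralizer_singleton_iff

omit [Fintype F] in
theorem self_mem_CC (g : Sz F m) : g ∈ CC g := mem_CC.mpr rfl

omit [Fintype F] in
theorem CC_conj (g k x : Sz F m) : k * x * k⁻¹ ∈ CC (k * g * k⁻¹) ↔ x ∈ CC g := by
  rw [mem_CC, mem_CC]
  constructor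
  · intro h
    calc x * g = k⁻¹ * (k * x * k⁻¹ * (k * g * k⁻¹)) * k := by group
      _ = k⁻¹ * (k * g * k⁻¹ * (k * x * k⁻¹)) * k := by rw [h]
      _ = g * x := by group
  · intro h
    calc k * x * k⁻¹ * (k * g * k⁻¹) = k * (x * g) * k⁻¹ := by group
      _ = k * (g * x) * k⁻¹ := by rw [h]
      _ = k * g * k⁻¹ * (k * x * k⁻¹) := by group

theorem FP_conj {g : Sz F m} (k : Sz F m) (h : FP g) : FP (k * g * k⁻¹) := by
  intro c hc
  rw [mul_smul, mul_smul, ← eq_inv_smul_iff] at hc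
  exact h _ hc

theorem CC_ti (hm : 1 ≤ m) (hF : Fintype.card F = 2 ^ (2 * m + 1)) {g : Sz F m} (hg : FP g) (k u : Sz F m) (hu : u ∈ CC g) (hu1 : u ≠ 1)
    (hk : k * u * k⁻¹ ∈ CC g) : k ∈ Subgroup.normalizer (CC g : Set (Sz F m)) := by
  have hku1 : k * u * k⁻¹ ≠ 1 := by
    intro h
    apply hu1
    calc u = k⁻¹ * (k * u * k⁻¹) * k := by group
      _ = 1 := by rw [h]; group
  have h1 : CC u = CC g := cent_FP_cent hm hF hg hu hu1
  have h2 : CC (k * u * k⁻¹) = CC g := cent_FP_cent hm hF hg hk hku1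
  rw [Subgroup.mem_normalizer_iff]
  intro x
  have h3 := (CC_conj u k x).symm
  rw [h1, h2] at h3
  exact h3

theorem FP_of_SS (hm : 1 ≤ m) (hF : Fintype.card F = 2 ^ (2 * m + 1)) {g x : Sz F m} (hg : FP g) (hx : x ∈ SS g) : FP x := by
  obtain ⟨hx1, y, hy⟩ := hx
  have hy1 : y⁻¹ * x * y ≠ 1 := by
    intro h
    apply hx1
    calc x = y * (y⁻¹ * x * y) * y⁻¹ := by group
      _ = 1 := by rw [h]; group
  have h1 := FP_conj y (cent_FP_mem hm hF hg hy hy1)
  have h2 : y * (y⁻¹ * x * y) * y⁻¹ = x := by group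
  rwa [h2] at h1

/-- disjointness -/
theorem SS_disjoint (hm : 1 ≤ m) (hF : Fintype.card F = 2 ^ (2 * m + 1)) {g g' x : Sz F m} (hg : FP g) (hg' : FP g') (h : g' ∉ SS g)
    (hx : x ∈ SS g) (hx' : x ∈ SS g') : False := by
  obtain ⟨hx1, y, hy⟩ := hx
  obtain ⟨-, z, hz⟩ := hx'
  have hy1 : y⁻¹ * x * y ≠ 1 := by
    intro h
    apply hx1
    calc x = y * (y⁻¹ * x * y) * y⁻¹ := by group
      _ = 1 := by rw [h]; group
  have h1 : CC (y⁻¹ * x * y) = CC g := cent_FP_cent hm hF hg hy hy1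
  apply h
  have hg1 : g' ≠ 1 := by
    rintro rfl
    exact hg' (oinf F m) (one_smul _ _)
  refine ⟨hg1, z⁻¹ * y, ?_⟩
  rw [← h1, mem_CC]
  rw [mem_CC] at hz
  calc (z⁻¹ * y)⁻¹ * g' * (z⁻¹ * y) * (y⁻¹ * x * y) = y⁻¹ * z * (g' * (z⁻¹ * x * z)) * z⁻¹ * y := by group
    _ = y⁻¹ * z * (z⁻¹ * x * z * g') * z⁻¹ * y := by rw [hz]
    _ = y⁻¹ * x * y * ((z⁻¹ * y)⁻¹ * g' * (z⁻¹ * y)) := by group

theorem card_SS (hm : 1 ≤ m) (hF : Fintype.card F = 2 ^ (2 * m + 1)) {g : Sz F m} (hg : FP g) :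
    Nat.card (SS g) * Nat.card (Subgroup.normalizer (CC g : Set (Sz F m))) = Nat.card (Sz F m) * (Nat.card (CC g) - 1) := by
  exact card_ti (U := CC g) (N := Subgroup.normalizer (CC g : Set (Sz F m))) (CC_ti hm hF hg) (fun n hn u hu => (Subgroup.mem_normalizer_iff.mp hn u).mp hu)

/-- the group order is not divisible by three -/
theorem not_three_dvd (hm : 1 ≤ m) (hF : Fintype.card F = 2 ^ (2 * m + 1)) : ¬ 3 ∣ Nat.card (Sz F m) := by
  obtain ⟨D⟩ := exists_SD hF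
  rw [D.card_Sz hm hF]
  have h3 : Nat.Prime 3 := Nat.prime_three
  have h1 : Fintype.card F % 3 = 2 := by
    rw [hF, pow_succ, pow_mul, Nat.mul_mod, Nat.pow_mod]
    norm_num
  obtain ⟨k, hk⟩ : ∃ k, Fintype.card F = 3 * k + 2 := ⟨Fintype.card F / 3, by omega⟩
  rw [hk, h3.dvd_mul, h3.dvd_mul]
  rintro ((h | h) | h)
  · have : (3 * k + 2) ^ 2 + 1 = 3 * (3 * k ^ 2 + 4 * k + 1) + 2 := by ring
    rw [this] at h
    have := (Nat.dvd_add_right (Dvd.intro _ rfl)).mp h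
    omega
  · have := h3.dvd_of_dvd_pow h
    omega
  · omega

theorem five_le (hm : 1 ≤ m) (hF : Fintype.card F = 2 ^ (2 * m + 1)) {g : Sz F m} (hg : FP g) : 5 ≤ Nat.card (CC g) := by
  have h1 : Nat.card (CC g) ∣ Nat.card (Sz F m) := Subgroup.card_subgroup_dvd_card _
  have h2 : Nat.card (CC g) ∣ Fintype.card F ^ 2 + 1 := card_cent_dvd hm hF hg
  have hg1 : g ≠ 1 := by
    rintro rfl
    exact hg (oinf F m) (one_smul _ _)
  have h3 : Nat.card (CC g) ≠ 1 := by
    intro h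
    rw [Subgroup.card_eq_one] at h
    have := self_mem_CC g
    rw [h, Subgroup.mem_bot] at this
    exact hg1 this
  have h4 : 0 < Nat.card (CC g) := Nat.card_pos
  have h5 : Odd (Fintype.card F ^ 2 + 1) := by
    obtain ⟨D⟩ := exists_SD hF
    rw [Nat.odd_add_one, Nat.not_odd_iff_even, Nat.even_pow]
    exact ⟨D.even_q hF, by norm_num⟩
  have h6 : Odd (Nat.card (CC g)) := Odd.of_dvd_nat h5 h2
  have h7 : Nat.card (CC g) ≠ 3 := by
    intro h
    rw [h] at h1
    exact not_three_dvd hm hF h1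
  obtain ⟨k, hk⟩ := h6
  omega

theorem index_CC (hm : 1 ≤ m) (hF : Fintype.card F = 2 ^ (2 * m + 1)) {g : Sz F m} (hg : FP g) :
    ∃ n, (n = 1 ∨ n = 2 ∨ n = 4) ∧ Nat.card (Subgroup.normalizer (CC g : Set (Sz F m))) = n * Nat.card (CC g) := by
  obtain ⟨p, hp, hp2, hpq, k, hk⟩ := exists_prime_pow hm hF hg
  haveI : Fact p.Prime := ⟨hp⟩
  have hx1 : g ^ k ≠ 1 := by
    intro h
    rw [h, orderOf_one] at hk
    exact hp.ne_one hk.symm
  have hxg : g ^ k ∈ CC g := pow_mem (self_mem_CC g) k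
  have h1 : CC (g ^ k) = CC g := cent_FP_cent hm hF hg hxg hx1
  have h2 := index_le_four (x := g ^ k) (N := Subgroup.normalizer (CC g : Set (Sz F m))) hp2 hpq hk (by
    intro y hy
    have h3 : y * g ^ k * y⁻¹ ∈ CC g := (Subgroup.mem_normalizer_iff.mp hy (g ^ k)).mp hxg
    rw [← h1] at h3
    exact h3)
  have h3 : (Subgroup.centralizer ({g ^ k} : Set (Sz F m))) = CC g := h1
  rw [h3] at h2
  have h4 := ((CC g).subgroupOf (Subgroup.normalizer (CC g : Set (Sz F m)))).card_mul_index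
  rw [Nat.card_congr (Subgroup.subgroupOfEquivOfLe Subgroup.le_normalizer).toEquiv] at h4
  refine ⟨((CC g).subgroupOf (Subgroup.normalizer (CC g : Set (Sz F m)))).index, ?_, by rw [← h4, mul_comm]⟩
  have h5 : ((CC g).subgroupOf (Subgroup.normalizer (CC g : Set (Sz F m)))).index ≠ 0 := Subgroup.index_ne_zero_of_finite
  have h6 : ((CC g).subgroupOf (Subgroup.normalizer (CC g : Set (Sz F m)))).index ≠ 3 := by
    intro h
    apply not_three_dvd hm hF
    have h7 : 3 ∣ Nat.card (Subgroup.normalizer (CC g : Set (Sz F m))) := ⟨_, by rw [← h4, h, mul_comm]⟩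
    exact h7.trans (Subgroup.card_subgroup_dvd_card _)
  omega

/-- number of fixed-point-free elements -/
theorem card_FP (hm : 1 ≤ m) (hF : Fintype.card F = 2 ^ (2 * m + 1)) :
    2 * Nat.card {g : Sz F m // FP g} + Fintype.card F ^ 2 * (Fintype.card F ^ 2 - 1) = Nat.card (Sz F m) := by
  classical
  obtain ⟨D⟩ := exists_SD hF
  have := CfsgLib.H7Z.card_fpf (D.zassenhaus hm hF)
  rw [fcard_ovoid] at this
  exact this

end CfsgLib.H7S
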