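import Mathlib
import Cfsg.Agent.Lib.H7SC

/-!
# The Suzuki groups: the two exceptional classes of tori, orders
-/

set_option autoImplicit false
set_option linter.style.haveILetI false
set_option linter.unusedSectionVars false

open MulAction Cfsg Matrix
open scoped Pointwise commutatorElement

namespace CfsgLib.H7S

universe u

theorem low_S {g0 S n c : ℕ} (hc : 5 ≤ c) (h : S * (n * c) = g0 * (c - 1)) : 4 * g0 ≤ 5 * n * S := by
  obtain ⟨d, rfl⟩ : ∃ d, c = d + 1 := ⟨c - 1, by omega⟩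
  rw [Nat.add_sub_cancel] at h
  have h1 : 4 * g0 * (d + 1) ≤ 5 * n * S * (d + 1) := by
    have e : 5 * n * S * (d + 1) = 5 * (S * (n * (d + 1))) := by ring
    rw [e, h]
    nlinarith
  exact Nat.le_of_mul_le_mul_right h1 (by omega)

variable {F : Type u} [Field F] [Fintype F] {m : ℕ}

theorem SS_ncard2 (hm : 1 ≤ m) (hF : Fintype.card F = 2 ^ (2 * m + 1)) {g g' : Sz F m} (hg : FP g) (hg' : FP g') (h : g' ∉ SS g) :
    Nat.card (SS g) + Nat.card (SS g') ≤ Nat.card {g : Sz F m // FP g} := by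
  have h1 : Disjoint (SS g) (SS g') := by
    rw [Set.disjoint_left]
    intro x hx hx'
    exact SS_disjoint hm hF hg hg' h hx hx'
  rw [Nat.card_coe_set_eq, Nat.card_coe_set_eq, ← Set.ncard_union_eq h1 (Set.toFinite _) (Set.toFinite _), ← Nat.card_coe_set_eq]
  refine Nat.card_le_card_of_injective (fun x => (⟨x.1, ?_⟩ : {g : Sz F m // FP g})) ?_
  · rcases x.2 with h2 | h2
    · exact FP_of_SS hm hF hg h2
    · exact FP_of_SS hm hF hg' h2
  · intro x y hxy
    exact Subtype.ext (congrArg (fun z : {g : Sz F m // FP g} => z.1) hxy)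

theorem SS_ncard3 (hm : 1 ≤ m) (hF : Fintype.card F = 2 ^ (2 * m + 1)) {g g' k : Sz F m} (hg : FP g) (hg' : FP g') (hk : FP k) (h : g' ∉ SS g)
    (h1 : k ∉ SS g) (h2 : k ∉ SS g') :
    Nat.card (SS g) + Nat.card (SS g') + Nat.card (SS k) ≤ Nat.card {g : Sz F m // FP g} := by
  have d1 : Disjoint (SS g) (SS g') := by
    rw [Set.disjoint_left]
    intro x hx hx'
    exact SS_disjoint hm hF hg hg' h hx hx'
  have d2 : Disjoint (SS g ∪ SS g') (SS k) := by
    rw [Set.disjoint_left]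
    rintro x (hx | hx) hx'
    · exact SS_disjoint hm hF hg hk h1 hx hx'
    · exact SS_disjoint hm hF hg' hk h2 hx hx'
  rw [Nat.card_coe_set_eq, Nat.card_coe_set_eq, Nat.card_coe_set_eq, ← Set.ncard_union_eq d1 (Set.toFinite _) (Set.toFinite _),
    ← Set.ncard_union_eq d2 (Set.toFinite _) (Set.toFinite _), ← Nat.card_coe_set_eq]
  refine Nat.card_le_card_of_injective (fun x => (⟨x.1, ?_⟩ : {g : Sz F m // FP g})) ?_
  · rcases x.2 with (h3 | h3) | h3
    · exact FP_of_SS hm hF hg h3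
    · exact FP_of_SS hm hF hg' h3
    · exact FP_of_SS hm hF hk h3
  · intro x y hxy
    exact Subtype.ext (congrArg (fun z : {g : Sz F m // FP g} => z.1) hxy)

theorem SS_le (hm : 1 ≤ m) (hF : Fintype.card F = 2 ^ (2 * m + 1)) {g : Sz F m} (hg : FP g) :
    Nat.card (SS g) ≤ Nat.card {g : Sz F m // FP g} := by
  refine Nat.card_le_card_of_injective (fun x => (⟨x.1, FP_of_SS hm hF hg x.2⟩ : {g : Sz F m // FP g})) ?_
  intro x y hxy
  exact Subtype.ext (congrArg (fun z : {g : Sz F m // FP g} => z.1) hxy)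

theorem exists_not_mem (hm : 1 ≤ m) (hF : Fintype.card F = 2 ^ (2 * m + 1)) {g : Sz F m} (hg : FP g) (h : Nat.card (SS g) ≠ Nat.card {g : Sz F m // FP g}) :
    ∃ g' : Sz F m, FP g' ∧ g' ∉ SS g := by
  by_contra hcon
  push Not at hcon
  apply h
  apply le_antisymm (SS_le hm hF hg)
  refine Nat.card_le_card_of_injective (fun x : {g : Sz F m // FP g} => (⟨x.1, hcon x.1 x.2⟩ : SS g)) ?_
  intro x y hxy
  exact Subtype.ext (congrArg (fun z : SS g => z.1) hxy)

theorem self_mem_SS {g : Sz F m} (hg : FP g) : g ∈ SS g := by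
  refine ⟨?_, 1, ?_⟩
  · rintro rfl
    exact hg (oinf F m) (one_smul _ _)
  · rw [inv_one, one_mul, mul_one]
    exact self_mem_CC g

/-- all normalizer indices are four -/
theorem index_four (hm : 1 ≤ m) (hF : Fintype.card F = 2 ^ (2 * m + 1)) {g : Sz F m} (hg : FP g) :
    Nat.card (Subgroup.normalizer (CC g : Set (Sz F m))) = 4 * Nat.card (CC g) := by
  obtain ⟨D⟩ := exists_SD hF
  obtain ⟨n, hn, hN⟩ := index_CC hm hF hg
  have hS := card_SS hm hF hg
  have hM := card_FP hm hF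
  have h5 := five_le hm hF hg
  have hle := SS_le hm hF hg
  rw [hN] at hS
  have hlow := low_S h5 hS
  have hq := SD.card_ge hm hF
  have hg0 : 0 < Nat.card (Sz F m) := Nat.card_pos
  have hpos : 0 < Fintype.card F ^ 2 * (Fintype.card F ^ 2 - 1) := by
    apply Nat.mul_pos (by positivity)
    have : 1 < Fintype.card F ^ 2 := Nat.one_lt_pow (by norm_num) (by omega)
    omega
  rcases hn with rfl | rfl | rfl
  · exfalso
    omega
  · exfalso
    by_cases hSM : Nat.card (SS g) = Nat.card {g : Sz F m // FP g}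
    · -- q + 1 divides q² + 1
      rw [hSM] at hS
      obtain ⟨q, hqq⟩ : ∃ q, Fintype.card F = q + 1 := ⟨Fintype.card F - 1, by omega⟩
      obtain ⟨c, hc⟩ : ∃ c, Nat.card (CC g) = c + 1 := ⟨Nat.card (CC g) - 1, by omega⟩
      have hcard := D.card_Sz hm hF
      rw [hc, Nat.add_sub_cancel] at hS
      have e1 : Nat.card (Sz F m) = Fintype.card F ^ 2 * (Fintype.card F ^ 2 - 1) * (c + 1) := by
        have : 2 * Nat.card {g : Sz F m // FP g} * (c + 1) = Nat.card (Sz F m) * c := by rw [← hS]; ring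
        have h7 : (2 * Nat.card {g : Sz F m // FP g} + Fintype.card F ^ 2 * (Fintype.card F ^ 2 - 1)) * (c + 1) = Nat.card (Sz F m) * (c + 1) := by rw [hM]
        rw [add_mul, this, mul_add (Nat.card (Sz F m))] at h7
        omega
      rw [hcard, hqq, Nat.add_sub_cancel] at e1
      have e2 : (q + 1) ^ 2 - 1 = q * (q + 2) := by
        have : (q + 1) ^ 2 = q * (q + 2) + 1 := by ring
        omega
      rw [e2] at e1
      have e3 : ((q + 1) ^ 2 * q) * ((q + 1) ^ 2 + 1) = ((q + 1) ^ 2 * q) * ((q + 2) * (c + 1)) := by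
        calc ((q + 1) ^ 2 * q) * ((q + 1) ^ 2 + 1) = ((q + 1) ^ 2 + 1) * (q + 1) ^ 2 * q := by ring
          _ = (q + 1) ^ 2 * (q * (q + 2)) * (c + 1) := e1
          _ = ((q + 1) ^ 2 * q) * ((q + 2) * (c + 1)) := by ring
      have e4 := Nat.eq_of_mul_eq_mul_left (Nat.mul_pos (by positivity) (by omega)) e3
      have e5 : (q + 1) ^ 2 + 1 = (q + 2) * q + 2 := by ring
      rw [e5] at e4
      have e6 : (q + 2) ∣ 2 := (Nat.dvd_add_right (Dvd.intro _ rfl)).mp ⟨_, e4⟩
      have := Nat.le_of_dvd (by norm_num) e6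
      omega
    · obtain ⟨g', hg', hnot⟩ := exists_not_mem hm hF hg hSM
      have h2 := SS_ncard2 hm hF hg hg' hnot
      obtain ⟨n', hn', hN'⟩ := index_CC hm hF hg'
      have hS' := card_SS hm hF hg'
      rw [hN'] at hS'
      have hlow' := low_S (five_le hm hF hg') hS'
      have hlow2 : 4 * Nat.card (Sz F m) ≤ 20 * Nat.card (SS g') := by
        refine hlow'.trans ?_
        apply Nat.mul_le_mul_right
        omega
      omega
  · exact hN

theorem two_classes (hm : 1 ≤ m) (hF : Fintype.card F = 2 ^ (2 * m + 1)) : ∃ g1 g2 : Sz F m, FP g1 ∧ FP g2 ∧ g2 ∉ SS g1 ∧ (∀ x, FP x → x ∈ SS g1 ∨ x ∈ SS g2) ∧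
    (Fintype.card F ^ 2 + 1) * (Nat.card (CC g1) + Nat.card (CC g2)) = 2 * (Fintype.card F + 1) * (Nat.card (CC g1) * Nat.card (CC g2)) := by
  obtain ⟨D⟩ := exists_SD hF
  have hM := card_FP hm hF
  have hq := SD.card_ge hm hF
  have hcard := D.card_Sz hm hF
  have hg0 : 0 < Nat.card (Sz F m) := Nat.card_pos
  obtain ⟨q, hqq⟩ : ∃ q, Fintype.card F = q + 1 := ⟨Fintype.card F - 1, by omega⟩
  have e2 : (q + 1) ^ 2 - 1 = q * (q + 2) := by
    have : (q + 1) ^ 2 = q * (q + 2) + 1 := by ring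
    omega
  rw [hqq, e2] at hM
  rw [hqq, Nat.add_sub_cancel] at hcard
  have hq7 : 7 ≤ q := by omega
  -- four times the number of fixed-point-free elements
  have hM4 : Nat.card (Sz F m) < 4 * Nat.card {g : Sz F m // FP g} := by
    have h1 : 2 * ((q + 1) ^ 2 * (q * (q + 2))) < Nat.card (Sz F m) := by
      rw [hcard]
      have h2 : 2 * ((q + 1) ^ 2 * (q * (q + 2))) = ((q + 1) ^ 2 * q) * (2 * (q + 2)) := by ring
      have h3 : ((q + 1) ^ 2 + 1) * (q + 1) ^ 2 * q = ((q + 1) ^ 2 * q) * ((q + 1) ^ 2 + 1) := by ring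
      rw [h2, h3]
      apply Nat.mul_lt_mul_of_pos_left
      · nlinarith
      · exact Nat.mul_pos (by positivity) (by omega)
    omega
  have hMpos : 0 < Nat.card {g : Sz F m // FP g} := by omega
  haveI : Nonempty {g : Sz F m // FP g} := Finite.card_pos_iff.mp hMpos
  obtain ⟨⟨g1, hg1⟩⟩ := (inferInstance : Nonempty {g : Sz F m // FP g})
  have key : ∀ g : Sz F m, FP g → Nat.card (SS g) * (4 * Nat.card (CC g)) = Nat.card (Sz F m) * (Nat.card (CC g) - 1) := by
    intro g hg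
    rw [← index_four hm hF hg]
    exact card_SS hm hF hg
  have hlow : ∀ g : Sz F m, FP g → 4 * Nat.card (Sz F m) ≤ 20 * Nat.card (SS g) := by
    intro g hg
    exact low_S (five_le hm hF hg) (key g hg)
  have hne : Nat.card (SS g1) ≠ Nat.card {g : Sz F m // FP g} := by
    intro h
    have h1 := key g1 hg1
    have h2 := five_le hm hF hg1
    rw [h] at h1
    obtain ⟨c, hc⟩ : ∃ c, Nat.card (CC g1) = c + 1 := ⟨Nat.card (CC g1) - 1, by omega⟩
    rw [hc, Nat.add_sub_cancel] at h1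
    have h3 : Nat.card (Sz F m) * (c + 1) < (4 * Nat.card {g : Sz F m // FP g}) * (c + 1) := Nat.mul_lt_mul_of_pos_right hM4 (by omega)
    have h4 : (4 * Nat.card {g : Sz F m // FP g}) * (c + 1) = Nat.card (Sz F m) * c := by rw [← h1]; ring
    rw [h4, mul_add] at h3
    omega
  obtain ⟨g2, hg2, hnot⟩ := exists_not_mem hm hF hg1 hne
  have hall : ∀ x, FP x → x ∈ SS g1 ∨ x ∈ SS g2 := by
    intro x hx
    by_contra hcon
    push Not at hcon
    have h1 := SS_ncard3 hm hF hg1 hg2 hx hnot hcon.1 hcon.2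
    have l1 := hlow g1 hg1
    have l2 := hlow g2 hg2
    have l3 := hlow x hx
    omega
  refine ⟨g1, g2, hg1, hg2, hnot, hall, ?_⟩
  have hsum : Nat.card (SS g1) + Nat.card (SS g2) = Nat.card {g : Sz F m // FP g} := by
    apply le_antisymm (SS_ncard2 hm hF hg1 hg2 hnot)
    rw [Nat.card_coe_set_eq, Nat.card_coe_set_eq]
    refine le_trans ?_ (Set.ncard_union_le _ _)
    rw [← Nat.card_coe_set_eq]
    refine Nat.card_le_card_of_injective (fun x : {g : Sz F m // FP g} => (⟨x.1, hall x.1 x.2⟩ : (SS g1 ∪ SS g2 : Set (Sz F m)))) ?_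
    intro x y hxy
    exact Subtype.ext (congrArg (fun z : (SS g1 ∪ SS g2 : Set (Sz F m)) => z.1) hxy)
  have k1 := key g1 hg1
  have k2 := key g2 hg2
  have f1 := five_le hm hF hg1
  have f2 := five_le hm hF hg2
  obtain ⟨c1, hc1⟩ : ∃ c, Nat.card (CC g1) = c + 1 := ⟨Nat.card (CC g1) - 1, by omega⟩
  obtain ⟨c2, hc2⟩ : ∃ c, Nat.card (CC g2) = c + 1 := ⟨Nat.card (CC g2) - 1, by omega⟩
  rw [hc1, Nat.add_sub_cancel] at k1
  rw [hc2, Nat.add_sub_cancel] at k2
  rw [hqq, hc1, hc2]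
  rw [← hsum] at hM
  obtain ⟨S1, hS1⟩ : ∃ S, S = Nat.card (SS g1) := ⟨_, rfl⟩
  obtain ⟨S2, hS2⟩ : ∃ S, S = Nat.card (SS g2) := ⟨_, rfl⟩
  rw [← hS1] at k1 hM
  rw [← hS2] at k2 hM
  rw [hcard] at k1 k2 hM
  -- now everything is arithmetic; pass to integers
  have hA : 0 < (q + 1) ^ 2 * q := Nat.mul_pos (by positivity) (by omega)
  apply Nat.eq_of_mul_eq_mul_left hA
  zify at k1 k2 hM ⊢
  linear_combination -(2 * ((c1 : ℤ) + 1) * ((c2 : ℤ) + 1)) * hM + ((c2 : ℤ) + 1) * k1 + ((c1 : ℤ) + 1) * k2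

end CfsgLib.H7S
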