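import Mathlib
import Cfsg.Agent.Lib.H7SD

/-!
# The Suzuki groups: the orders of the exceptional tori
-/

set_option autoImplicit false
set_option linter.style.haveILetI false
set_option linter.unusedSectionVars false

open MulAction Cfsg Matrix
open scoped Pointwise commutatorElement

namespace CfsgLib.H7S

universe u

/-- a subgroup which is a Hall subgroup contains a conjugate of each `p`-subgroup for `p` dividing its order -/
theorem exists_conj_mem {G : Type*} [Group G] [Finite G] {U : Subgroup G} (hU : Nat.Coprime (Nat.card U) U.index) {p : ℕ} [Fact p.Prime] (hp : p ∣ Nat.card U)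
    {x : G} (hx : orderOf x = p) : ∃ y : G, y⁻¹ * x * y ∈ U := by
  have hPG : IsPGroup p (Subgroup.zpowers x) := by
    apply IsPGroup.of_card (n := 1)
    rw [Nat.card_zpowers, hx, pow_one]
  obtain ⟨Q, hQ⟩ := hPG.exists_le_sylow
  obtain ⟨R⟩ : Nonempty (Sylow p U) := inferInstance
  have hR : Nat.card ((R : Subgroup U).map U.subtype) = p ^ (Nat.card G).factorization p := by
    rw [Nat.card_congr (((R : Subgroup U).equivMapOfInjective U.subtype U.subtype_injective).toEquiv).symm]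
    have h1 : Nat.card (R : Subgroup U) = p ^ (Nat.card U).factorization p := R.card_eq_multiplicity
    rw [h1, ← U.card_mul_index, Nat.factorization_mul Nat.card_pos.ne' Subgroup.index_ne_zero_of_finite]
    have h2 : U.index.factorization p = 0 := by
      apply Nat.factorization_eq_zero_of_not_dvd
      intro h
      have := Nat.eq_one_of_dvd_coprimes hU hp h
      exact (Fact.out : p.Prime).ne_one this
    rw [Finsupp.add_apply, h2, add_zero]
  obtain ⟨g, hg⟩ := MulAction.exists_smul_eq G Q (Sylow.ofCard _ hR)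
  refine ⟨g⁻¹, ?_⟩
  rw [inv_inv]
  have h3 : x ∈ (Q : Subgroup G) := hQ (Subgroup.mem_zpowers x)
  have h4 : g * x * g⁻¹ ∈ ((g • Q : Sylow p G) : Subgroup G) := by
    rw [Sylow.coe_subgroup_smul]
    exact Subgroup.smul_mem_pointwise_smul x (MulAut.conj g) _ h3
  rw [hg] at h4
  have h5 : g * x * g⁻¹ ∈ (R : Subgroup U).map U.subtype := h4
  obtain ⟨y, -, hy⟩ := Subgroup.mem_map.mp h5
  rw [← hy]
  exact y.2

variable {F : Type u} [Field F] [Fintype F] {m : ℕ}

theorem CC_hall (hm : 1 ≤ m) (hF : Fintype.card F = 2 ^ (2 * m + 1)) {g : Sz F m} (hg : FP g) : Nat.Coprime (Nat.card (CC g)) (CC g).index :=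
  CohTI.hall (fun _ hk hk1 => (cent_FP_cent hm hF hg hk hk1).le)

theorem CC_coprime (hm : 1 ≤ m) (hF : Fintype.card F = 2 ^ (2 * m + 1)) {g g' : Sz F m} (hg : FP g) (hg' : FP g') (h : g' ∉ SS g) :
    Nat.Coprime (Nat.card (CC g)) (Nat.card (CC g')) := by
  apply Nat.Coprime.symm
  apply Nat.coprime_of_dvd
  intro p hp h1 h2
  haveI : Fact p.Prime := ⟨hp⟩
  obtain ⟨⟨x, hx⟩, hxp⟩ := exists_prime_orderOf_dvd_card' p h1
  rw [Subgroup.orderOf_mk] at hxp
  have hx1 : x ≠ 1 := by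
    rintro rfl
    rw [orderOf_one] at hxp
    exact hp.ne_one hxp.symm
  obtain ⟨y, hy⟩ := exists_conj_mem (CC_hall hm hF hg) h2 hxp
  exact SS_disjoint hm hF hg hg' h ⟨hx1, y, hy⟩ ⟨hx1, 1, by rw [inv_one, one_mul, mul_one]; exact hx⟩

theorem orders_aux {q r c1 c2 : ℕ} (hq : 8 ≤ q) (hqe : Even q) (hr : r * r = 2 * q) (hc : Nat.Coprime c1 c2) (h1 : c1 ∣ q ^ 2 + 1) (h2 : c2 ∣ q ^ 2 + 1)
    (h : (q ^ 2 + 1) * (c1 + c2) = 2 * (q + 1) * (c1 * c2)) :
    (c1 = q + r + 1 ∧ c2 = q - r + 1) ∨ (c2 = q + r + 1 ∧ c1 = q - r + 1) := by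
  have h3 : c1 * c2 ∣ q ^ 2 + 1 := hc.mul_dvd_of_dvd_of_dvd h1 h2
  have h4 : Nat.Coprime (q ^ 2 + 1) (2 * (q + 1)) := by
    apply Nat.coprime_of_dvd
    intro p hp h5 h6
    have hp2 : p ≠ 2 := by
      rintro rfl
      rw [← even_iff_two_dvd, Nat.even_add_one, Nat.even_pow] at h5
      exact h5 ⟨hqe, by norm_num⟩
    rcases hp.dvd_mul.mp h6 with h7 | h7
    · exact hp2 ((Nat.prime_dvd_prime_iff_eq hp Nat.prime_two).mp h7)
    · obtain ⟨k, rfl⟩ : ∃ k, q = k + 1 := ⟨q - 1, by omega⟩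
      have e : (k + 1) ^ 2 + 1 = (k + 1 + 1) * k + 2 := by ring
      rw [e] at h5
      have h8 : p ∣ 2 := (Nat.dvd_add_right (h7.mul_right _)).mp h5
      exact hp2 ((Nat.prime_dvd_prime_iff_eq hp Nat.prime_two).mp h8)
  have h5 : q ^ 2 + 1 ∣ c1 * c2 := h4.dvd_of_dvd_mul_left (Dvd.intro _ h)
  have h6 : c1 * c2 = q ^ 2 + 1 := Nat.dvd_antisymm h3 h5
  have h7 : c1 + c2 = 2 * (q + 1) := by
    have : 0 < q ^ 2 + 1 := by positivity
    apply Nat.eq_of_mul_eq_mul_left this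
    rw [h, h6]; ring
  have hrq : r < q := by
    by_contra hcon
    push Not at hcon
    have := Nat.mul_le_mul hcon hcon
    nlinarith
  -- squares
  have h8 : ((c1 : ℤ) - (q + 1)) ^ 2 = (r : ℤ) ^ 2 := by
    have e6 : (c1 : ℤ) * c2 = q ^ 2 + 1 := by exact_mod_cast h6
    have e7 : (c1 : ℤ) + c2 = 2 * (q + 1) := by exact_mod_cast h7
    have er : (r : ℤ) * r = 2 * q := by exact_mod_cast hr
    have e8 : (c2 : ℤ) = 2 * (q + 1) - c1 := by linarith
    rw [e8] at e6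
    linear_combination -e6 - er
  rcases sq_eq_sq_iff_eq_or_eq_neg.mp h8 with h9 | h9
  · left
    constructor <;> omega
  · right
    constructor <;> omega

theorem r_sq (hF : Fintype.card F = 2 ^ (2 * m + 1)) : 2 ^ (m + 1) * 2 ^ (m + 1) = 2 * Fintype.card F := by
  rw [hF, ← pow_add, ← pow_succ']
  congr 1; omega

/-- the two classes of exceptional tori -/
theorem tori (hm : 1 ≤ m) (hF : Fintype.card F = 2 ^ (2 * m + 1)) : ∃ g1 g2 : Sz F m, FP g1 ∧ FP g2 ∧
    Nat.card (CC g1) = Fintype.card F + 2 ^ (m + 1) + 1 ∧ Nat.card (CC g2) = Fintype.card F - 2 ^ (m + 1) + 1 ∧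
    (∀ x, FP x → x ∈ SS g1 ∨ x ∈ SS g2) := by
  obtain ⟨D⟩ := exists_SD hF
  obtain ⟨g1, g2, hg1, hg2, hnot, hall, heq⟩ := two_classes hm hF
  rcases orders_aux (SD.card_ge hm hF) (D.even_q hF) (r_sq hF) (CC_coprime hm hF hg1 hg2 hnot) (card_cent_dvd hm hF hg1) (card_cent_dvd hm hF hg2) heq with ⟨h1, h2⟩ | ⟨h1, h2⟩
  · exact ⟨g1, g2, hg1, hg2, h1, h2, hall⟩
  · exact ⟨g2, g1, hg2, hg1, h1, h2, fun x hx => (hall x hx).symm⟩

end CfsgLib.H7S
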