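import Mathlib
import Cfsg.Agent.Lib.H7SE

/-!
# The Suzuki groups: the partition
-/

set_option autoImplicit false
set_option linter.style.haveILetI false
set_option linter.unusedSectionVars false

open MulAction Cfsg Matrix
open scoped Pointwise commutatorElement

namespace CfsgLib.H7S

universe u

variable {F : Type u} [Field F] [Fintype F] {m : ℕ}

theorem card_CC_conj (k g : Sz F m) : Nat.card (CC (k * g * k⁻¹)) = Nat.card (CC g) := by
  obtain ⟨e⟩ := conj_cent_equiv k g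
  exact (Nat.card_congr e.toEquiv).symm

theorem card_CC_cases (hm : 1 ≤ m) (hF : Fintype.card F = 2 ^ (2 * m + 1)) {g : Sz F m} (hg : FP g) :
    Nat.card (CC g) = Fintype.card F + 2 ^ (m + 1) + 1 ∨ Nat.card (CC g) = Fintype.card F - 2 ^ (m + 1) + 1 := by
  obtain ⟨g1, g2, hg1, hg2, h1, h2, hall⟩ := tori (F := F) hm hF
  have key : ∀ g' : Sz F m, FP g' → g ∈ SS g' → Nat.card (CC g) = Nat.card (CC g') := by
    rintro g' hg' ⟨hg1, y, hy⟩
    have hy1 : y⁻¹ * g * y ≠ 1 := by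
      intro h
      apply hg1
      calc g = y * (y⁻¹ * g * y) * y⁻¹ := by group
        _ = 1 := by rw [h]; group
    have h3 : CC (y⁻¹ * g * y) = CC g' := cent_FP_cent hm hF hg' hy hy1
    rw [← h3]
    have h4 := card_CC_conj (y⁻¹) g
    rw [inv_inv] at h4
    exact h4.symm
  rcases hall g hg with h | h
  · left; rw [key g1 hg1 h, h1]
  · right; rw [key g2 hg2 h, h2]

theorem r_lt (hm : 1 ≤ m) (hF : Fintype.card F = 2 ^ (2 * m + 1)) : 2 ^ (m + 1) < Fintype.card F := by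
  rw [hF]
  exact Nat.pow_lt_pow_right (by norm_num) (by omega)

theorem r_ge (hm : 1 ≤ m) : 4 ≤ 2 ^ (m + 1) := by
  calc 4 = 2 ^ 2 := by norm_num
    _ ≤ 2 ^ (m + 1) := Nat.pow_le_pow_right (by norm_num) (by omega)

theorem mul_orders (hm : 1 ≤ m) (hF : Fintype.card F = 2 ^ (2 * m + 1)) :
    (Fintype.card F + 2 ^ (m + 1) + 1) * (Fintype.card F - 2 ^ (m + 1) + 1) = Fintype.card F ^ 2 + 1 := by
  have h1 := r_sq hF
  have h2 := r_lt hm hF
  obtain ⟨k, hk⟩ : ∃ k, Fintype.card F = k + 2 ^ (m + 1) := ⟨Fintype.card F - 2 ^ (m + 1), by omega⟩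
  rw [hk] at h1 ⊢
  rw [Nat.add_sub_cancel]
  nlinarith

theorem coprime_orders (hm : 1 ≤ m) (hF : Fintype.card F = 2 ^ (2 * m + 1)) :
    Nat.Coprime (Fintype.card F + 2 ^ (m + 1) + 1) (Fintype.card F - 2 ^ (m + 1) + 1) := by
  have h0 := mul_orders hm hF
  have h2 := r_lt hm hF
  obtain ⟨D⟩ := exists_SD hF
  apply Nat.coprime_of_dvd
  intro p hp h3 h4
  have h5 : p ∣ Fintype.card F ^ 2 + 1 := by rw [← h0]; exact h3.mul_right _
  have hp2 : p ≠ 2 := by
    rintro rfl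
    rw [← even_iff_two_dvd, Nat.even_add_one, Nat.even_pow] at h5
    exact h5 ⟨D.even_q hF, by norm_num⟩
  have h6 : p ∣ 2 ^ (m + 2) := by
    have e : Fintype.card F + 2 ^ (m + 1) + 1 = (Fintype.card F - 2 ^ (m + 1) + 1) + 2 ^ (m + 2) := by
      have : 2 ^ (m + 2) = 2 ^ (m + 1) + 2 ^ (m + 1) := by rw [pow_succ]; ring
      omega
    rw [e] at h3
    exact (Nat.dvd_add_right h4).mp h3
  have h7 := hp.dvd_of_dvd_pow h6
  exact hp2 ((Nat.prime_dvd_prime_iff_eq hp Nat.prime_two).mp h7)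

/-- elements of type one are `2`-elements -/
theorem two_elt (hF : Fintype.card F = 2 ^ (2 * m + 1)) {D : SD F m} {g k : Sz F m} (h : k * g * k⁻¹ ∈ D.P) : orderOf g ∣ 4 := by
  have h1 := Monoid.pow_exponent_eq_one (⟨_, h⟩ : D.P)
  rw [D.exponent_P] at h1
  have h2 : (k * g * k⁻¹) ^ 4 = 1 := congrArg Subtype.val h1
  rw [conj_pow, mul_inv_eq_one, mul_eq_left] at h2
  exact orderOf_dvd_of_pow_eq_one h2

theorem cyc_q1 (hm : 1 ≤ m) (hF : Fintype.card F = 2 ^ (2 * m + 1)) {U : Subgroup (Sz F m)} (hU : IsCyclic U) (hc : Nat.card U = Fintype.card F - 1) :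
    ∃ c d : suzukiOvoid F m, c ≠ d ∧ U = stabilizer (Sz F m) c ⊓ stabilizer (Sz F m) d := by
  obtain ⟨D⟩ := exists_SD hF
  have hq := SD.card_ge hm hF
  have hev := D.even_q hF
  obtain ⟨⟨y, hy⟩, hgen⟩ := hU.exists_generator
  have hz : U = Subgroup.zpowers y := by
    apply le_antisymm
    · intro z hz
      obtain ⟨k, hk⟩ := Subgroup.mem_zpowers_iff.mp (hgen ⟨z, hz⟩)
      exact Subgroup.mem_zpowers_iff.mpr ⟨k, congrArg Subtype.val hk⟩
    · rw [Subgroup.zpowers_le]; exact hy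
  have ho : orderOf y = Fintype.card F - 1 := by rw [← hc, hz, Nat.card_zpowers]
  have hodd : ¬ 2 ∣ orderOf y := by
    rw [ho]
    obtain ⟨l, hl⟩ := hev
    omega
  have hy1 : y ≠ 1 := by
    rintro rfl
    rw [orderOf_one] at ho
    omega
  rcases trichotomy hm hF hy1 with ⟨k, hk⟩ | ⟨c, d, hcd, h1, h2⟩ | h
  · exfalso
    have h1 := two_elt hF hk
    have h2 : orderOf y ∣ 2 ^ 2 := h1
    rw [Nat.dvd_prime_pow Nat.prime_two] at h2
    obtain ⟨i, -, hi⟩ := h2
    rcases Nat.eq_zero_or_pos i with h3 | h3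
    · rw [h3, pow_zero] at hi
      omega
    · exact hodd (by rw [hi]; exact dvd_pow_self 2 h3.ne')
  · refine ⟨c, d, hcd, ?_⟩
    apply Subgroup.eq_of_le_of_card_ge
    · rw [hz, Subgroup.zpowers_le]
      exact ⟨h1, h2⟩
    · rw [card_EE hm hF hcd, hc]
  · exfalso
    have h1 : orderOf y ∣ Nat.card (CC y) := by
      have := orderOf_dvd_natCard (⟨y, self_mem_CC y⟩ : CC y)
      rwa [Subgroup.orderOf_mk] at this
    have h2 : orderOf y ∣ Fintype.card F ^ 2 + 1 := h1.trans (card_cent_dvd hm hF h)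
    rw [ho] at h2
    obtain ⟨q, hqq⟩ : ∃ q, Fintype.card F = q + 1 := ⟨Fintype.card F - 1, by omega⟩
    rw [hqq, Nat.add_sub_cancel] at h2
    have e : (q + 1) ^ 2 + 1 = q * (q + 2) + 2 := by ring
    rw [e] at h2
    have h3 : q ∣ 2 := (Nat.dvd_add_right (Dvd.intro _ rfl)).mp h2
    have := Nat.le_of_dvd (by norm_num) h3
    omega

theorem cyc_qr (hm : 1 ≤ m) (hF : Fintype.card F = 2 ^ (2 * m + 1)) {U : Subgroup (Sz F m)} (hU : IsCyclic U)
    (hc : Nat.card U = Fintype.card F + 2 ^ (m + 1) + 1 ∨ Nat.card U = Fintype.card F - 2 ^ (m + 1) + 1) :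
    ∃ x : Sz F m, FP x ∧ U = CC x := by
  obtain ⟨D⟩ := exists_SD hF
  have hq := SD.card_ge hm hF
  have hev := D.even_q hF
  have hrl := r_lt hm hF
  have hr4 := r_ge hm
  have hmul := mul_orders hm hF
  have hcop := coprime_orders hm hF
  have hdvd : Nat.card U ∣ Fintype.card F ^ 2 + 1 := by
    rw [← hmul]
    rcases hc with h | h
    · rw [h]; exact Dvd.intro _ rfl
    · rw [h]; exact Dvd.intro_left _ rfl
  have hU1 : 1 < Nat.card U := by
    rcases hc with h | h <;> omega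
  obtain ⟨⟨y, hy⟩, hgen⟩ := hU.exists_generator
  have hz : U = Subgroup.zpowers y := by
    apply le_antisymm
    · intro z hz
      obtain ⟨k, hk⟩ := Subgroup.mem_zpowers_iff.mp (hgen ⟨z, hz⟩)
      exact Subgroup.mem_zpowers_iff.mpr ⟨k, congrArg Subtype.val hk⟩
    · rw [Subgroup.zpowers_le]; exact hy
  have ho : orderOf y = Nat.card U := by
    conv_rhs => rw [hz]
    rw [Nat.card_zpowers]
  have hodd : ¬ 2 ∣ orderOf y := by
    rw [ho]
    intro h
    have h1 := h.trans hdvd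
    rw [← even_iff_two_dvd, Nat.even_add_one, Nat.even_pow] at h1
    exact h1 ⟨hev, by norm_num⟩
  have hy1 : y ≠ 1 := by
    rintro rfl
    rw [orderOf_one] at ho
    omega
  rcases trichotomy hm hF hy1 with ⟨k, hk⟩ | ⟨c, d, hcd, h1, h2⟩ | h
  · exfalso
    have h1 := two_elt hF hk
    have h2 : orderOf y ∣ 2 ^ 2 := h1
    rw [Nat.dvd_prime_pow Nat.prime_two] at h2
    obtain ⟨i, -, hi⟩ := h2
    rcases Nat.eq_zero_or_pos i with h3 | h3
    · rw [h3, pow_zero] at hi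
      omega
    · exact hodd (by rw [hi]; exact dvd_pow_self 2 h3.ne')
  · exfalso
    have h3 : orderOf y ∣ Fintype.card F - 1 := by
      rw [← card_EE hm hF hcd]
      exact Subgroup.orderOf_dvd_natCard _ ⟨h1, h2⟩
    rw [← ho] at hdvd
    have h4 : orderOf y ≠ 1 := by omega
    obtain ⟨p, hp, hpd⟩ := Nat.exists_prime_and_dvd h4
    have hp2 : p ≠ 2 := by
      rintro rfl
      exact hodd hpd
    exact coprime_q hm hF hp hp2 (hpd.trans hdvd) ((hpd.trans h3).mul_left _)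
  · refine ⟨y, h, ?_⟩
    have hle : U ≤ CC y := by
      rw [hz, Subgroup.zpowers_le]
      exact self_mem_CC y
    apply Subgroup.eq_of_le_of_card_ge hle
    have hd := Subgroup.card_dvd_of_le hle
    rcases card_CC_cases hm hF h with h5 | h5 <;> rcases hc with h6 | h6
    · rw [h5, h6]
    · exfalso
      rw [h5, h6] at hd
      have := Nat.eq_one_of_dvd_coprimes hcop hd dvd_rfl
      omega
    · exfalso
      rw [h5, h6] at hd
      have := Nat.eq_one_of_dvd_coprimes hcop dvd_rfl hd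
      omega
    · rw [h5, h6]

/-- Sylow `2`-subgroups are the kernels of point stabilizers -/
theorem sylow_conj (hm : 1 ≤ m) (hF : Fintype.card F = 2 ^ (2 * m + 1)) (D : SD F m) (Q : Sylow 2 (Sz F m)) :
    ∃ k : Sz F m, ∀ x : Sz F m, x ∈ (Q : Subgroup (Sz F m)) ↔ k * x * k⁻¹ ∈ D.P := by
  obtain ⟨k, hk⟩ := MulAction.exists_smul_eq (Sz F m) Q (D.PS hm hF)
  refine ⟨k, fun x => ?_⟩
  have h1 : D.P = ((k • Q : Sylow 2 (Sz F m)) : Subgroup (Sz F m)) := by rw [hk]; rfl
  rw [h1, Sylow.coe_subgroup_smul]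
  constructor
  · intro h
    exact Subgroup.smul_mem_pointwise_smul x (MulAut.conj k) _ h
  · intro h
    rw [Subgroup.mem_pointwise_smul_iff_inv_smul_mem] at h
    have e : (MulAut.conj k)⁻¹ • (k * x * k⁻¹) = x := by
      show (MulAut.conj k)⁻¹ (k * x * k⁻¹) = x
      rw [← map_inv, MulAut.conj_apply]
      group
    rwa [e] at h

end CfsgLib.H7S
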