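import Mathlib
import Cfsg.Agent.Lib.H7SF

/-!
# The Suzuki groups: Sylow `2`-normalizers
-/

set_option autoImplicit false
set_option linter.style.haveILetI false
set_option linter.unusedSectionVars false

open MulAction Cfsg Matrix
open scoped Pointwise commutatorElement

namespace CfsgLib.H7S

universe u

variable {F : Type u} [Field F] [Fintype F] {m : ℕ}

/-- each Sylow `2`-subgroup is the kernel of the stabilizer of a point -/
theorem sylow_point (hm : 1 ≤ m) (hF : Fintype.card F = 2 ^ (2 * m + 1)) (Q : Sylow 2 (Sz F m)) :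
    ∃ c : suzukiOvoid F m, (Q : Subgroup (Sz F m)) ≤ stabilizer (Sz F m) c ∧ Nat.card (Q : Subgroup (Sz F m)) + 1 = Fintype.card (suzukiOvoid F m) ∧
      ∀ u ∈ (Q : Subgroup (Sz F m)), u ≠ 1 → ∀ d : suzukiOvoid F m, u • d = d → d = c := by
  obtain ⟨D⟩ := exists_SD hF
  obtain ⟨k, hk⟩ := sylow_conj hm hF D Q
  refine ⟨k⁻¹ • oinf F m, ?_, ?_, ?_⟩
  · intro x hx
    have h2 := D.P_le ((hk x).mp hx)
    have h2 : (k * x * k⁻¹) • oinf F m = oinf F m := h2
    rw [mul_smul, mul_smul] at h2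
    exact eq_inv_smul_iff.mpr h2
  · rw [← D.P_card_add, Nat.card_congr (Q.equiv (D.PS hm hF)).toEquiv]
    rfl
  · intro x hx hx1 c hc
    have h1 : k * x * k⁻¹ ≠ 1 := by
      intro h
      apply hx1
      calc x = k⁻¹ * (k * x * k⁻¹) * k := by group
        _ = 1 := by rw [h]; group
    have h2 : (k * x * k⁻¹) • (k • c) = k • c := by rw [smul_smul, inv_mul_cancel_right, mul_smul, hc]
    have h3 := D.P_fix _ ((hk x).mp hx) h1 _ h2
    rw [← h3, inv_smul_smul]

theorem stab_coatom (hm : 1 ≤ m) (hF : Fintype.card F = 2 ^ (2 * m + 1)) (c : suzukiOvoid F m) : IsCoatom (stabilizer (Sz F m) c) := by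
  obtain ⟨D⟩ := exists_SD hF
  haveI := D.two_trans
  haveI : IsPreprimitive (Sz F m) (suzukiOvoid F m) := isPreprimitive_of_is_two_pretransitive D.two_trans
  haveI : Nontrivial (suzukiOvoid F m) := ⟨⟨oinf F m, opt m (0 : F) 0, inf_ne_zero⟩⟩
  exact (isCoatom_stabilizer_iff_preprimitive (Sz F m) c).mpr inferInstance

/-- a subgroup containing a Sylow `2`-subgroup and moving its fixed point is everything -/
theorem top_of_sylow (hm : 1 ≤ m) (hF : Fintype.card F = 2 ^ (2 * m + 1)) {M Q : Subgroup (Sz F m)} {c : suzukiOvoid F m}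
    (hQc : Q ≤ stabilizer (Sz F m) c) (hcard : Nat.card Q + 1 = Fintype.card (suzukiOvoid F m))
    (hfix : ∀ u ∈ Q, u ≠ 1 → ∀ d : suzukiOvoid F m, u • d = d → d = c) (hQM : Q ≤ M) {y : Sz F m} (hy : y ∈ M) (hyc : y • c ≠ c) : M = ⊤ := by
  obtain ⟨D⟩ := exists_SD hF
  have hZ := D.zassenhaus hm hF
  haveI := isSimple (F := F) (m := m) hm hF
  -- transitivity
  have htr : ∀ d : suzukiOvoid F m, ∃ z ∈ M, z • c = d := by
    intro d
    by_cases h : d = c
    · exact ⟨1, one_mem _, by rw [h, one_smul]⟩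
    · obtain ⟨u, hu, hud⟩ := CfsgLib.H7Z.H_trans hZ hQc hcard hfix hyc h
      exact ⟨u * y, mul_mem (hQM hu) hy, by rw [mul_smul, hud]⟩
  obtain ⟨b, hb⟩ := CfsgLib.H7Z.exists_b hZ c
  have hle : Subgroup.normalClosure (Q : Set (Sz F m)) ≤ M := by
    rw [Subgroup.normalClosure, Subgroup.closure_le]
    intro x hx
    rw [Group.mem_conjugatesOfSet_iff] at hx
    obtain ⟨z, hz, hzx⟩ := hx
    obtain ⟨g, rfl⟩ := isConj_iff.mp hzx
    obtain ⟨w, hw, hwc⟩ := htr (g • c)
    have h1 : (w⁻¹ * g) • c = c := by rw [mul_smul, ← hwc, inv_smul_smul]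
    have h2 := CfsgLib.H7Z.H_normal hZ hb hQc hcard hfix h1 hz
    have e : g * z * g⁻¹ = w * (w⁻¹ * g * z * (w⁻¹ * g)⁻¹) * w⁻¹ := by group
    show g * z * g⁻¹ ∈ M
    rw [e]
    exact mul_mem (mul_mem hw (hQM h2)) (inv_mem hw)
  have htop : Subgroup.normalClosure (Q : Set (Sz F m)) = ⊤ := by
    rcases IsSimpleGroup.eq_bot_or_eq_top_of_normal (Subgroup.normalClosure (Q : Set (Sz F m))) inferInstance with h | h
    · exfalso
      have h3 : Q = ⊥ := by
        rw [eq_bot_iff, ← h]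
        exact Subgroup.le_normalClosure
      rw [h3, Subgroup.card_bot, fcard_ovoid] at hcard
      have := SD.card_ge hm hF
      nlinarith
    · exact h
  rw [eq_top_iff, ← htop]
  exact hle

theorem normalizer_sylow (hm : 1 ≤ m) (hF : Fintype.card F = 2 ^ (2 * m + 1)) {Q : Subgroup (Sz F m)} {c : suzukiOvoid F m}
    (hQc : Q ≤ stabilizer (Sz F m) c) (hcard : Nat.card Q + 1 = Fintype.card (suzukiOvoid F m))
    (hfix : ∀ u ∈ Q, u ≠ 1 → ∀ d : suzukiOvoid F m, u • d = d → d = c) :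
    Subgroup.normalizer (Q : Set (Sz F m)) = stabilizer (Sz F m) c := by
  obtain ⟨D⟩ := exists_SD hF
  have hZ := D.zassenhaus hm hF
  obtain ⟨b, hb⟩ := CfsgLib.H7Z.exists_b hZ c
  exact CfsgLib.H7Z.normalizer_H hZ hb hQc hcard hfix

end CfsgLib.H7S
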