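import Mathlib
import Cfsg.Prelude.Def_Sz
import Cfsg.Agent.Lib.H7SA

/-!
# The two matrix models of the Suzuki groups agree
-/

set_option autoImplicit false
set_option linter.style.haveILetI false
set_option linter.unusedSectionVars false

open MulAction Cfsg Matrix

namespace CfsgLib.H7S

universe u

variable {F : Type u} [Field F] {m : ℕ}

/-- minors of a pair of vectors -/
def mnr (u v : Fin 4 → F) (p : Fin 4) : F := u (Lie.pairOf p).1 * v (Lie.pairOf p).2 - u (Lie.pairOf p).2 * v (Lie.pairOf p).1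

/-- absolute vectors of the polarity -/
def IsAbs (D : SD F m) (u : Fin 4 → F) : Prop :=
  ∃ (v : Fin 4 → F) (l : F), l ≠ 0 ∧ Lie.altForm4 u v = 0 ∧ ∀ p, mnr u v p = l * D.t (u p)

theorem isAbs_inf (D : SD F m) : IsAbs D ![1, 0, 0, 0] := by
  refine ⟨![0, 1, 0, 0], 1, one_ne_zero, by simp [Lie.altForm4], fun p => ?_⟩
  fin_cases p <;> simp [mnr, Lie.pairOf]

theorem isAbs_vec (D : SD F m) (x y : F) : IsAbs D (vec m x y) := by
  refine ⟨![y + x * D.t x, D.t x, 1, 0], 1, one_ne_zero, ?_, fun p => ?_⟩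
  · simp [Lie.altForm4, vec]
    linear_combination (y + x * D.t x) * D.two
  · fin_cases p
    · simp only [mnr, Lie.pairOf, vec, D.ff_eq, Matrix.cons_val, map_add, map_mul, D.tt]
      simp [D.tt]
      linear_combination (-y ^ 2) * D.two
    · simp only [mnr, Lie.pairOf, vec, D.ff_eq, Matrix.cons_val, map_add, map_mul, D.tt]
      simp [D.tt]
      ring
    · simp [mnr, Lie.pairOf, vec]
      linear_combination (- D.t x) * D.two
    · simp [mnr, Lie.pairOf, vec]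
      linear_combination (-1 : F) * D.two

theorem isAbs_smul (D : SD F m) {u : Fin 4 → F} {c : F} (hc : c ≠ 0) (h : IsAbs D u) : IsAbs D (c • u) := by
  obtain ⟨v, l, hl, h1, h2⟩ := h
  have htc : D.t c ≠ 0 := fun h => hc (D.t_eq_zero.mp h)
  refine ⟨v, l * c / D.t c, div_ne_zero (mul_ne_zero hl hc) htc, ?_, fun p => ?_⟩
  · simp only [Lie.altForm4, Pi.smul_apply, smul_eq_mul] at h1 ⊢
    linear_combination c * h1
  · have := h2 p
    simp only [mnr, Pi.smul_apply, smul_eq_mul, map_mul] at this ⊢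
    field_simp
    linear_combination this

theorem mem_ovoid_iff (D : SD F m) {u : Fin 4 → F} (hu : u ≠ 0) :
    Projectivization.mk F u hu ∈ suzukiOvoid F m ↔ IsAbs D u := by
  constructor
  · intro h
    rcases mem_ovoid.mp h with h | ⟨x, y, h⟩
    · rw [suzukiPointInfinity, Projectivization.mk_eq_mk_iff'] at h
      obtain ⟨a, rfl⟩ := h
      have ha : a ≠ 0 := by rintro rfl; simp at hu
      exact isAbs_smul D ha (isAbs_inf D)
    · rw [pt, Projectivization.mk_eq_mk_iff'] at h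
      obtain ⟨a, rfl⟩ := h
      have ha : a ≠ 0 := by rintro rfl; simp at hu
      exact isAbs_smul D ha (isAbs_vec D x y)
  · rintro ⟨v, l, hl, h1, h2⟩
    have m0 : u 0 * v 1 - u 1 * v 0 = l * D.t (u 0) := h2 0
    have m1 : u 0 * v 2 - u 2 * v 0 = l * D.t (u 1) := h2 1
    have m2 : u 1 * v 3 - u 3 * v 1 = l * D.t (u 2) := h2 2
    have m3 : u 2 * v 3 - u 3 * v 2 = l * D.t (u 3) := h2 3
    have hB : u 0 * v 3 + u 1 * v 2 + u 2 * v 1 + u 3 * v 0 = 0 := h1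
    rw [mem_ovoid]
    by_cases h3 : u 3 = 0
    · left
      rw [mk_eq_inf]
      rw [h3, map_zero, mul_zero, zero_mul, sub_zero] at m3
      rw [h3, zero_mul, sub_zero] at m2
      rw [h3, zero_mul, add_zero] at hB
      have hu2 : u 2 = 0 := by
        rcases mul_eq_zero.mp m3 with h | h
        · exact h
        · rw [h, mul_zero] at m2
          rcases mul_eq_zero.mp m2.symm with h' | h'
          · exact absurd h' hl
          · exact D.t_eq_zero.mp h'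
      rw [hu2, map_zero, mul_zero] at m2
      rw [hu2, zero_mul, sub_zero] at m1
      rw [hu2, zero_mul, add_zero] at hB
      have hu1 : u 1 = 0 := by
        rcases mul_eq_zero.mp m2 with h | h
        · exact h
        · rw [h, mul_zero, zero_add] at hB
          rcases mul_eq_zero.mp hB with h' | h'
          · exact h'
          · rw [h', mul_zero] at m1
            rcases mul_eq_zero.mp m1.symm with h' | h'
            · exact absurd h' hl
            · exact D.t_eq_zero.mp h'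
      exact ⟨hu1, hu2, h3⟩
    · right
      refine ⟨u 2 / u 3, u 1 / u 3, ?_⟩
      have ht3 : D.t (u 3) ≠ 0 := fun h => h3 (D.t_eq_zero.mp h)
      rw [mk_eq_pt]
      refine ⟨?_, by field_simp, by field_simp⟩
      rw [D.ff_eq, map_div₀, map_div₀]
      field_simp
      have key : l * u 3 * (u 0 * u 3 * D.t (u 3) - (u 2 * u 1 * D.t (u 3) + u 2 ^ 2 * D.t (u 2) + D.t (u 1) * u 3 ^ 2)) = 0 := by
        linear_combination (-(u 0 * u 3 ^ 2) + u 1 * u 2 * u 3) * m3 + u 2 ^ 2 * u 3 * m2 + u 3 ^ 3 * m1 + u 3 ^ 2 * u 2 * hB - u 3 * (u 0 * u 3 ^ 2 * v 2 + u 1 * u 2 ^ 2 * v 3) * D.two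
      rcases mul_eq_zero.mp key with h | h
      · exact absurd h (mul_ne_zero hl h3)
      · linear_combination h

/-- the column vectors of a matrix -/
theorem isAbs_mulVec (D : SD F m) {g : Matrix (Fin 4) (Fin 4) F}
    (hB : ∀ u v, Lie.altForm4 (g *ᵥ u) (g *ᵥ v) = Lie.altForm4 u v)
    (hR : ∀ p : Fin 4, g (Lie.pairOf p).1 0 * g (Lie.pairOf p).2 3 - g (Lie.pairOf p).2 0 * g (Lie.pairOf p).1 3
      = g (Lie.pairOf p).1 1 * g (Lie.pairOf p).2 2 - g (Lie.pairOf p).2 1 * g (Lie.pairOf p).1 2)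
    (hs : Lie.star4 g = g.map (fun x => x ^ (2 ^ (m + 1)))) {u : Fin 4 → F} (hu : IsAbs D u) :
    IsAbs D (g *ᵥ u) := by
  obtain ⟨v, l, hl, h1, h2⟩ := hu
  refine ⟨g *ᵥ v, l, hl, by rw [hB, h1], fun p => ?_⟩
  have e0 : g (Lie.pairOf p).1 0 * g (Lie.pairOf p).2 1 - g (Lie.pairOf p).2 0 * g (Lie.pairOf p).1 1 = D.t (g p 0) := by
    have := congrFun (congrFun hs p) 0
    rw [D.ht]
    exact this
  have e1 : g (Lie.pairOf p).1 0 * g (Lie.pairOf p).2 2 - g (Lie.pairOf p).2 0 * g (Lie.pairOf p).1 2 = D.t (g p 1) := by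
    have := congrFun (congrFun hs p) 1
    rw [D.ht]
    exact this
  have e2 : g (Lie.pairOf p).1 1 * g (Lie.pairOf p).2 3 - g (Lie.pairOf p).2 1 * g (Lie.pairOf p).1 3 = D.t (g p 2) := by
    have := congrFun (congrFun hs p) 2
    rw [D.ht]
    exact this
  have e3 : g (Lie.pairOf p).1 2 * g (Lie.pairOf p).2 3 - g (Lie.pairOf p).2 2 * g (Lie.pairOf p).1 3 = D.t (g p 3) := by
    have := congrFun (congrFun hs p) 3
    rw [D.ht]
    exact this
  have m0 : u 0 * v 1 - u 1 * v 0 = l * D.t (u 0) := h2 0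
  have m1 : u 0 * v 2 - u 2 * v 0 = l * D.t (u 1) := h2 1
  have m2 : u 1 * v 3 - u 3 * v 1 = l * D.t (u 2) := h2 2
  have m3 : u 2 * v 3 - u 3 * v 2 = l * D.t (u 3) := h2 3
  have hBB : u 0 * v 3 + u 1 * v 2 + u 2 * v 1 + u 3 * v 0 = 0 := h1
  have hRp := hR p
  simp only [mnr, Matrix.mulVec, dotProduct, Fin.sum_univ_four, map_add, map_mul]
  rw [← e0, ← e1, ← e2, ← e3]
  obtain ⟨k, hk⟩ : ∃ k, k = (Lie.pairOf p).1 := ⟨_, rfl⟩
  obtain ⟨j, hj⟩ : ∃ j, j = (Lie.pairOf p).2 := ⟨_, rfl⟩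
  rw [← hk, ← hj] at hRp ⊢
  linear_combination (g k 0 * g j 1 - g j 0 * g k 1) * m0 + (g k 0 * g j 2 - g j 0 * g k 2) * m1
    + (g k 1 * g j 3 - g j 1 * g k 3) * m2 + (g k 2 * g j 3 - g j 2 * g k 3) * m3
    + (g k 0 * g j 3 - g j 0 * g k 3) * hBB - (g k 0 * g j 3 - g j 0 * g k 3) * (u 3 * v 0 + u 2 * v 1) * D.two
    - (u 1 * v 2 - u 2 * v 1) * hRp

/-- the Gram matrix -/
def JJ (F : Type u) [Field F] : Matrix (Fin 4) (Fin 4) F := !![0, 0, 0, 1; 0, 0, 1, 0; 0, 1, 0, 0; 1, 0, 0, 0]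

theorem JJ_sq : JJ F * JJ F = 1 := by
  ext i j
  fin_cases i <;> fin_cases j <;> simp [JJ, Matrix.mul_apply, Fin.sum_univ_four]

theorem altForm4_eq (u v : Fin 4 → F) : Lie.altForm4 u v = u ⬝ᵥ (JJ F *ᵥ v) := by
  simp [Lie.altForm4, JJ, Matrix.mulVec, dotProduct, Fin.sum_univ_four]

theorem gram_of_form {g : Matrix (Fin 4) (Fin 4) F} (hB : ∀ u v, Lie.altForm4 (g *ᵥ u) (g *ᵥ v) = Lie.altForm4 u v) :
    gᵀ * JJ F * g = JJ F := by
  ext i j
  have h := hB (Pi.single i 1) (Pi.single j 1)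
  rw [Matrix.mulVec_single_one, Matrix.mulVec_single_one] at h
  have h2 : Lie.altForm4 (Pi.single i 1 : Fin 4 → F) (Pi.single j 1) = JJ F i j := by
    fin_cases i <;> fin_cases j <;> simp [Lie.altForm4, JJ, Pi.single_apply]
  rw [h2] at h
  rw [← h]
  simp only [Lie.altForm4, Matrix.mul_apply, Fin.sum_univ_four, Matrix.transpose_apply, Matrix.col_apply]
  simp [JJ]
  ring

theorem form_of_gram {g : Matrix (Fin 4) (Fin 4) F} (hB : gᵀ * JJ F * g = JJ F) (u v : Fin 4 → F) :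
    Lie.altForm4 (g *ᵥ u) (g *ᵥ v) = Lie.altForm4 u v := by
  rw [altForm4_eq, altForm4_eq]
  conv_rhs => rw [← hB]
  rw [Matrix.mul_assoc, ← Matrix.mulVec_mulVec, ← Matrix.mulVec_mulVec, Matrix.dotProduct_mulVec u, Matrix.vecMul_transpose]

theorem gram' {g : Matrix (Fin 4) (Fin 4) F} (hB : gᵀ * JJ F * g = JJ F) : g * JJ F * gᵀ = JJ F := by
  have h1 : (JJ F * gᵀ * JJ F) * g = 1 := by
    rw [Matrix.mul_assoc, Matrix.mul_assoc, ← Matrix.mul_assoc gᵀ, hB, JJ_sq]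
  have h2 : g * (JJ F * gᵀ * JJ F) = 1 := mul_eq_one_comm.mp h1
  calc g * JJ F * gᵀ = g * (JJ F * gᵀ * JJ F) * JJ F := by
        rw [← Matrix.mul_assoc, ← Matrix.mul_assoc, Matrix.mul_assoc _ (JJ F) (JJ F), JJ_sq, Matrix.mul_one]
    _ = JJ F := by rw [h2, Matrix.one_mul]

theorem hR_of_gram (D : SD F m) {g : Matrix (Fin 4) (Fin 4) F} (hB : gᵀ * JJ F * g = JJ F) (p : Fin 4) :
    g (Lie.pairOf p).1 0 * g (Lie.pairOf p).2 3 - g (Lie.pairOf p).2 0 * g (Lie.pairOf p).1 3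
      = g (Lie.pairOf p).1 1 * g (Lie.pairOf p).2 2 - g (Lie.pairOf p).2 1 * g (Lie.pairOf p).1 2 := by
  have h := congrFun (congrFun (gram' hB) (Lie.pairOf p).1) (Lie.pairOf p).2
  have h0 : JJ F (Lie.pairOf p).1 (Lie.pairOf p).2 = 0 := by
    fin_cases p <;> simp [Lie.pairOf, JJ]
  rw [h0] at h
  obtain ⟨k, hk⟩ : ∃ k, k = (Lie.pairOf p).1 := ⟨_, rfl⟩
  obtain ⟨j, hj⟩ : ∃ j, j = (Lie.pairOf p).2 := ⟨_, rfl⟩
  rw [← hk, ← hj] at h ⊢
  simp only [Matrix.mul_apply, Fin.sum_univ_four, Matrix.transpose_apply] at h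
  simp [JJ] at h
  linear_combination h - (g j 0 * g k 3 + g k 1 * g j 2) * D.two

theorem det_of_gram (D : SD F m) {g : Matrix (Fin 4) (Fin 4) F} (hB : gᵀ * JJ F * g = JJ F) : g.det = 1 := by
  have h := congrArg Matrix.det hB
  rw [Matrix.det_mul, Matrix.det_mul, Matrix.det_transpose] at h
  have hJ : (JJ F).det * (JJ F).det = 1 := by
    rw [← Matrix.det_mul, JJ_sq, Matrix.det_one]
  apply D.sq_inj
  linear_combination (JJ F).det * h + (1 - g.det ^ 2) * hJ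

/-- the defining set of the matrix group -/
theorem mem_Sz_of_star [Fintype F] (D : SD F m) {g : GL (Fin 4) F} (h1 : g ∈ Lie.Sp4 F)
    (h2 : Lie.star4 (g : Matrix (Fin 4) (Fin 4) F) = (g : Matrix (Fin 4) (Fin 4) F).map (fun x => x ^ (2 ^ (m + 1)))) :
    ∃ x : Sz F m, (x : SpecialLinearGroup (Fin 4) F).1 = g.1 := by
  have hB : ∀ u v, Lie.altForm4 (g.1 *ᵥ u) (g.1 *ᵥ v) = Lie.altForm4 u v := h1
  have hG := gram_of_form hB
  have hd := det_of_gram D hG
  refine ⟨⟨⟨g.1, hd⟩, mem_Sz fun p hp => ?_⟩, rfl⟩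
  obtain ⟨v, hv, rfl⟩ : ∃ (v : Fin 4 → F) (hv : v ≠ 0), p = Projectivization.mk F v hv := ⟨p.rep, p.rep_nonzero, p.mk_rep.symm⟩
  obtain ⟨hw, h⟩ := smul_mk' (⟨g.1, hd⟩ : SpecialLinearGroup (Fin 4) F) hv
  rw [h, mem_ovoid_iff D]
  rw [mem_ovoid_iff D] at hp
  exact isAbs_mulVec D hB (hR_of_gram D hG) h2 hp

theorem TT_gram (D : SD F m) (a b : F) : (D.TT a b).1ᵀ * JJ F * (D.TT a b).1 = JJ F := by
  ext i j
  fin_cases i <;> fin_cases j <;> simp [SD.TT, JJ, Matrix.mul_apply, Fin.sum_univ_four, Matrix.transpose_apply]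
  all_goals ring_nf
  all_goals simp only [D.two, D.four, mul_zero, add_zero, zero_add]

theorem TT_star (D : SD F m) (a b : F) : Lie.star4 (D.TT a b).1 = (D.TT a b).1.map (fun x => x ^ (2 ^ (m + 1))) := by
  ext i j
  rw [Matrix.map_apply, ← D.ht]
  fin_cases i <;> fin_cases j <;> simp [SD.TT, Lie.star4, Lie.pairOf, D.tt]
  · linear_combination -(D.t a * a ^ 2 + D.t b) * D.two
  · linear_combination -(D.t a ^ 2 * a ^ 2 + D.t a * D.t b) * D.two
  · ring
  · linear_combination -D.t b * D.two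

theorem HH_gram (D : SD F m) (μ : Fˣ) : (D.HH μ).1ᵀ * JJ F * (D.HH μ).1 = JJ F := by
  have h1 : (μ : F) ≠ 0 := μ.ne_zero
  have h2 : D.t μ ≠ 0 := fun h => h1 (D.t_eq_zero.mp h)
  ext i j
  fin_cases i <;> fin_cases j <;> simp [SD.HH, JJ, Matrix.mul_apply, Fin.sum_univ_four, Matrix.transpose_apply]
  all_goals field_simp

theorem HH_star (D : SD F m) (μ : Fˣ) : Lie.star4 (D.HH μ).1 = (D.HH μ).1.map (fun x => x ^ (2 ^ (m + 1))) := by
  have h1 : (μ : F) ≠ 0 := μ.ne_zero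
  have h2 : D.t μ ≠ 0 := fun h => h1 (D.t_eq_zero.mp h)
  ext i j
  rw [Matrix.map_apply, ← D.ht]
  fin_cases i <;> fin_cases j <;> simp [SD.HH, Lie.star4, Lie.pairOf, D.tt]
  all_goals field_simp

theorem WW_gram : (WW F).1ᵀ * JJ F * (WW F).1 = JJ F := by
  ext i j
  fin_cases i <;> fin_cases j <;> simp [WW, JJ, Matrix.mul_apply, Fin.sum_univ_four, Matrix.transpose_apply]

theorem WW_star (D : SD F m) : Lie.star4 (WW F).1 = (WW F).1.map (fun x => x ^ (2 ^ (m + 1))) := by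
  ext i j
  rw [Matrix.map_apply, ← D.ht]
  fin_cases i <;> fin_cases j <;> simp [WW, Lie.star4, Lie.pairOf, D.tt]
  all_goals exact D.neg_eq 1

/-- the embedding into the general linear group -/
def toGLHom (F : Type u) [Field F] (m : ℕ) : Sz F m →* GL (Fin 4) F :=
  Matrix.SpecialLinearGroup.toGL.comp (Sz F m).subtype

theorem toGLHom_coe (g : Sz F m) : ((toGLHom F m g : GL (Fin 4) F) : Matrix (Fin 4) (Fin 4) F) = (g : SpecialLinearGroup (Fin 4) F).1 := rfl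

theorem toGLHom_inj : Function.Injective (toGLHom F m) := by
  intro a b h
  apply Subtype.ext
  apply Subtype.ext
  have := congrArg Units.val h
  exact this

theorem gen_mem (g : Sz F m) (h1 : (g : SpecialLinearGroup (Fin 4) F).1ᵀ * JJ F * (g : SpecialLinearGroup (Fin 4) F).1 = JJ F)
    (h2 : Lie.star4 (g : SpecialLinearGroup (Fin 4) F).1 = (g : SpecialLinearGroup (Fin 4) F).1.map (fun x => x ^ (2 ^ (m + 1)))) :
    toGLHom F m g ∈ Lie.Sz F (2 ^ (m + 1)) := by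
  apply Subgroup.subset_closure
  refine ⟨?_, h2⟩
  intro u v
  exact form_of_gram h1 u v

theorem range_toGLHom [Fintype F] (hm : 1 ≤ m) (hF : Fintype.card F = 2 ^ (2 * m + 1)) :
    (toGLHom F m).range = Lie.Sz F (2 ^ (m + 1)) := by
  obtain ⟨D⟩ := exists_SD hF
  apply le_antisymm
  · rintro _ ⟨g, rfl⟩
    have hT : ∀ a b, toGLHom F m (D.T a b) ∈ Lie.Sz F (2 ^ (m + 1)) := fun a b => gen_mem _ (TT_gram D a b) (TT_star D a b)
    have hh : ∀ μ, toGLHom F m (D.h μ) ∈ Lie.Sz F (2 ^ (m + 1)) := fun μ => gen_mem _ (HH_gram D μ) (HH_star D μ)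
    have hw : toGLHom F m (wS D) ∈ Lie.Sz F (2 ^ (m + 1)) := gen_mem _ WW_gram (WW_star D)
    rcases D.bruhat hm hF g with ⟨a, b, μ, rfl⟩ | ⟨a, b, c, d, μ, rfl⟩
    · rw [map_mul]
      exact mul_mem (hT _ _) (hh _)
    · rw [map_mul, map_mul, map_mul]
      exact mul_mem (mul_mem (mul_mem (hT _ _) hw) (hT _ _)) (hh _)
  · unfold Lie.Sz
    rw [Subgroup.closure_le]
    rintro g ⟨h1, h2⟩
    obtain ⟨x, hx⟩ := mem_Sz_of_star D h1 h2
    exact ⟨x, Units.ext hx⟩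

/-- the two models agree -/
noncomputable def lieEquiv [Fintype F] (hm : 1 ≤ m) (hF : Fintype.card F = 2 ^ (2 * m + 1)) :
    Sz F m ≃* Lie.Sz F (2 ^ (m + 1)) :=
  (MonoidHom.ofInjective toGLHom_inj).trans (MulEquiv.subgroupCongr (range_toGLHom hm hF))

theorem lieEquiv_coe [Fintype F] (hm : 1 ≤ m) (hF : Fintype.card F = 2 ^ (2 * m + 1)) (g : Sz F m) :
    (((lieEquiv hm hF g : Lie.Sz F (2 ^ (m + 1))) : GL (Fin 4) F) : Matrix (Fin 4) (Fin 4) F) = (g : SpecialLinearGroup (Fin 4) F).1 := rfl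

end CfsgLib.H7S
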