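import Mathlib
import Cfsg.Agent.Lib.H7SG

/-!
# The Suzuki groups: subgroups of odd order
-/

set_option autoImplicit false
set_option linter.style.haveILetI false
set_option linter.unusedSectionVars false

open MulAction Cfsg Matrix
open scoped Pointwise commutatorElement

namespace CfsgLib.H7S

universe u

/-- a group with transitive commutativity and self-normalizing centralizers is abelian -/
theorem ct_selfnorm {G : Type*} [Group G] [Finite G]
    (hct : ∀ x y z : G, x ≠ 1 → y ≠ 1 → z ≠ 1 → x * y = y * x → y * z = z * y → x * z = z * x)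
    (hsn : ∀ x g : G, x ≠ 1 → (g * x * g⁻¹) * x = x * (g * x * g⁻¹) → g * x = x * g) (x y : G) : x * y = y * x := by
  classical
  haveI := Fintype.ofFinite G
  by_cases hx : x = 1
  · rw [hx, one_mul, mul_one]
  -- the set of elements conjugate into the centralizer
  have key : ∀ z : G, z ≠ 1 → 2 * Nat.card {w : G // w ≠ 1 ∧ ∃ g : G, g⁻¹ * w * g ∈ Subgroup.centralizer ({z} : Set G)} ≥ Nat.card G ∧
      Nat.card {w : G // w ≠ 1 ∧ ∃ g : G, g⁻¹ * w * g ∈ Subgroup.centralizer ({z} : Set G)} * Nat.card (Subgroup.centralizer ({z} : Set G))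
        = Nat.card G * (Nat.card (Subgroup.centralizer ({z} : Set G)) - 1) := by
    intro z hz
    have h := card_ti (U := Subgroup.centralizer ({z} : Set G)) (N := Subgroup.centralizer ({z} : Set G)) ?_ ?_
    · refine ⟨?_, h⟩
      have h2 : 2 ≤ Nat.card (Subgroup.centralizer ({z} : Set G)) := by
        by_contra hlt
        have h3 : Nat.card (Subgroup.centralizer ({z} : Set G)) = 1 := by
          have : 0 < Nat.card (Subgroup.centralizer ({z} : Set G)) := Nat.card_pos
          omega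
        rw [Subgroup.card_eq_one] at h3
        have h4 : z ∈ Subgroup.centralizer ({z} : Set G) := Subgroup.mem_centralizer_singleton_iff.mpr rfl
        rw [h3, Subgroup.mem_bot] at h4
        exact hz h4
      obtain ⟨c, hc⟩ : ∃ c, Nat.card (Subgroup.centralizer ({z} : Set G)) = c := ⟨_, rfl⟩
      obtain ⟨S, hS⟩ : ∃ S, Nat.card {w : G // w ≠ 1 ∧ ∃ g : G, g⁻¹ * w * g ∈ Subgroup.centralizer ({z} : Set G)} = S := ⟨_, rfl⟩
      obtain ⟨n, hn⟩ : ∃ n, Nat.card G = n := ⟨_, rfl⟩
      rw [hS, hc, hn] at h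
      rw [hS, hn]
      rw [hc] at h2
      obtain ⟨d, rfl⟩ : ∃ d, c = d + 2 := ⟨c - 2, by omega⟩
      have e : d + 2 - 1 = d + 1 := by omega
      rw [e] at h
      by_contra hlt
      push Not at hlt
      nlinarith
    · intro g u hu hu1 hgu
      rw [Subgroup.mem_centralizer_singleton_iff] at hu hgu ⊢
      have hgu1 : g * u * g⁻¹ ≠ 1 := by
        intro h
        apply hu1
        calc u = g⁻¹ * (g * u * g⁻¹) * g := by group
          _ = 1 := by rw [h]; group
      have h1 := hct _ z u hgu1 hz hu1 hgu hu.symm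
      have h2 := hsn u g hu1 h1
      by_cases hg : g = 1
      · rw [hg, one_mul, mul_one]
      · exact hct g u z hg hu1 hz h2 hu
    · intro n hn u hu
      exact mul_mem (mul_mem hn hu) (inv_mem hn)
  obtain ⟨h1, h2⟩ := key x hx
  -- every element is conjugate into the centralizer
  have hall : ∀ w : G, w ≠ 1 → ∃ g : G, g⁻¹ * w * g ∈ Subgroup.centralizer ({x} : Set G) := by
    by_contra hne
    push Not at hne
    obtain ⟨z, hz, hzx⟩ := hne
    obtain ⟨h3, -⟩ := key z hz
    have aux : ∀ a g k : G, a ≠ 1 → (g⁻¹ * a * g) * x = x * (g⁻¹ * a * g) → (k⁻¹ * a * k) * z = z * (k⁻¹ * a * k) →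
        (k⁻¹ * g)⁻¹ * z * (k⁻¹ * g) ∈ Subgroup.centralizer ({x} : Set G) := by
      intro a g k ha hg hk
      rw [Subgroup.mem_centralizer_singleton_iff]
      have ha1 : g⁻¹ * a * g ≠ 1 := by
        intro h
        apply ha
        calc a = g * (g⁻¹ * a * g) * g⁻¹ := by group
          _ = 1 := by rw [h]; group
      have hz1 : (k⁻¹ * g)⁻¹ * z * (k⁻¹ * g) ≠ 1 := by
        intro h
        apply hz
        calc z = (k⁻¹ * g) * ((k⁻¹ * g)⁻¹ * z * (k⁻¹ * g)) * (k⁻¹ * g)⁻¹ := by group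
          _ = 1 := by rw [h]; group
      refine hct _ (g⁻¹ * a * g) x hz1 ha1 hx ?_ hg
      calc (k⁻¹ * g)⁻¹ * z * (k⁻¹ * g) * (g⁻¹ * a * g) = (k⁻¹ * g)⁻¹ * (z * (k⁻¹ * a * k)) * (k⁻¹ * g) := by group
        _ = (k⁻¹ * g)⁻¹ * ((k⁻¹ * a * k) * z) * (k⁻¹ * g) := by rw [hk]
        _ = (g⁻¹ * a * g) * ((k⁻¹ * g)⁻¹ * z * (k⁻¹ * g)) := by group
    have hsub : Nat.card {w : G // w ≠ 1 ∧ ∃ g : G, g⁻¹ * w * g ∈ Subgroup.centralizer ({x} : Set G)} +
        Nat.card {w : G // w ≠ 1 ∧ ∃ g : G, g⁻¹ * w * g ∈ Subgroup.centralizer ({z} : Set G)} ≤ Nat.card {w : G // w ≠ 1} := by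
      rw [← Nat.card_sum]
      refine Nat.card_le_card_of_injective (fun s => match s with
        | Sum.inl w => (⟨w.1, w.2.1⟩ : {w : G // w ≠ 1})
        | Sum.inr w => ⟨w.1, w.2.1⟩) ?_
      rintro (⟨a, ha1, g, hg⟩ | ⟨a, ha1, g, hg⟩) (⟨b, hb1, k, hk⟩ | ⟨b, hb1, k, hk⟩) hab
      · have : a = b := congrArg Subtype.val hab
        subst this; rfl
      · exfalso
        have : a = b := congrArg Subtype.val hab
        subst this
        rw [Subgroup.mem_centralizer_singleton_iff] at hg hk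
        exact hzx (k⁻¹ * g) (aux a g k ha1 hg hk)
      · exfalso
        have : a = b := congrArg Subtype.val hab
        subst this
        rw [Subgroup.mem_centralizer_singleton_iff] at hg hk
        exact hzx (g⁻¹ * k) (aux a k g ha1 hk hg)
      · have : a = b := congrArg Subtype.val hab
        subst this; rfl
    have h4 : Nat.card {w : G // w ≠ 1} + 1 = Nat.card G := by
      rw [Nat.card_eq_fintype_card, Nat.card_eq_fintype_card, Fintype.card_subtype_compl, Fintype.card_subtype_eq]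
      have : 0 < Fintype.card G := Fintype.card_pos
      omega
    omega
  have h5 : Nat.card {w : G // w ≠ 1 ∧ ∃ g : G, g⁻¹ * w * g ∈ Subgroup.centralizer ({x} : Set G)} + 1 = Nat.card G := by
    rw [← show Nat.card {w : G // w ≠ 1} + 1 = Nat.card G by
      rw [Nat.card_eq_fintype_card, Nat.card_eq_fintype_card, Fintype.card_subtype_compl, Fintype.card_subtype_eq]
      have : 0 < Fintype.card G := Fintype.card_pos
      omega]
    congr 1
    refine Nat.card_congr (Equiv.subtypeEquivRight fun w => ⟨fun h => h.1, fun h => ⟨h, hall w h⟩⟩)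
  have h6 : Nat.card (Subgroup.centralizer ({x} : Set G)) = Nat.card G := by
    obtain ⟨c, hc⟩ : ∃ c, Nat.card (Subgroup.centralizer ({x} : Set G)) = c + 1 := ⟨_, (Nat.succ_pred_eq_of_pos Nat.card_pos).symm⟩
    obtain ⟨S, hS⟩ : ∃ S, Nat.card {w : G // w ≠ 1 ∧ ∃ g : G, g⁻¹ * w * g ∈ Subgroup.centralizer ({x} : Set G)} = S := ⟨_, rfl⟩
    rw [hS] at h2 h5
    rw [← h5, hc, Nat.add_sub_cancel] at h2
    rw [hc, ← h5]
    nlinarith
  have h7 := (Subgroup.card_eq_iff_eq_top _).mp h6
  have h8 : y ∈ Subgroup.centralizer ({x} : Set G) := by rw [h7]; trivial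
  exact (Subgroup.mem_centralizer_singleton_iff.mp h8).symm

theorem mem_of_pow_mem {G : Type*} [Group G] [Finite G] {U : Subgroup G} {g : G} {n : ℕ} (hc : Nat.Coprime n (orderOf g))
    (h : g ^ n ∈ U) : g ∈ U := by
  have h1 : g ∈ Subgroup.zpowers (g ^ n) := by
    rw [mem_zpowers_pow_iff]
    exact hc
  exact (Subgroup.zpowers_le.mpr h) h1

theorem coprime_four {n : ℕ} (h : Odd n) : Nat.Coprime n 4 := by
  rw [show 4 = 2 ^ 2 by norm_num]
  exact Nat.Coprime.pow_right 2 (Nat.coprime_two_right.mpr h)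

variable {F : Type u} [Field F] [Fintype F] {m : ℕ}

/-- the classification of elements of odd order by centralizers -/
theorem cent_odd (hm : 1 ≤ m) (hF : Fintype.card F = 2 ^ (2 * m + 1)) {x : Sz F m} (hx1 : x ≠ 1) (hx : Odd (orderOf x)) :
    (∃ c d : suzukiOvoid F m, c ≠ d ∧ x • c = c ∧ x • d = d) ∨ FP x := by
  rcases trichotomy hm hF hx1 with ⟨k, hk⟩ | h | h
  · exfalso
    have h4 := two_elt hF hk
    have h5 : orderOf x ∣ 1 := by
      have hc : Nat.Coprime (orderOf x) 4 := coprime_four hx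
      exact (hc.dvd_of_dvd_mul_left (by simpa using h4))
    exact hx1 (orderOf_eq_one_iff.mp (Nat.dvd_one.mp h5))
  · exact Or.inl h
  · exact Or.inr h

/-- commuting is transitive on elements of odd order -/
theorem ct_odd (hm : 1 ≤ m) (hF : Fintype.card F = 2 ^ (2 * m + 1)) {x y z : Sz F m} (hx1 : x ≠ 1) (hy1 : y ≠ 1) (hz1 : z ≠ 1)
    (hy : Odd (orderOf y)) (hxy : x * y = y * x) (hyz : y * z = z * y) : x * z = z * x := by
  rcases cent_odd hm hF hy1 hy with ⟨c, d, hcd, hc, hd⟩ | h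
  · have h1 := cent_EE hm hF hcd hc hd hy1
    have h2 : x ∈ stabilizer (Sz F m) c ⊓ stabilizer (Sz F m) d := by
      rw [← h1, Subgroup.mem_centralizer_singleton_iff]; exact hxy
    have h3 : z ∈ stabilizer (Sz F m) c ⊓ stabilizer (Sz F m) d := by
      rw [← h1, Subgroup.mem_centralizer_singleton_iff]; exact hyz.symm
    exact cyc_comm (cyc_EE hm hF hcd) h2 h3
  · have h2 : x ∈ CC y := mem_CC.mpr hxy
    have h3 : z ∈ CC y := mem_CC.mpr hyz.symm
    exact cyc_comm (cent_FP_cyclic hm hF h) h2 h3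

/-- an element of odd order conjugating `x` into `C(x)` centralizes `x` -/
theorem sn_odd (hm : 1 ≤ m) (hF : Fintype.card F = 2 ^ (2 * m + 1)) {x g : Sz F m} (hx1 : x ≠ 1) (hx : Odd (orderOf x))
    (hg : Odd (orderOf g)) (h : (g * x * g⁻¹) * x = x * (g * x * g⁻¹)) : g * x = x * g := by
  have hgx1 : g * x * g⁻¹ ≠ 1 := by
    intro h
    apply hx1
    calc x = g⁻¹ * (g * x * g⁻¹) * g := by group
      _ = 1 := by rw [h]; group
  rcases cent_odd hm hF hx1 hx with ⟨c, d, hcd, hc, hd⟩ | hFP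
  · have h1 := cent_EE hm hF hcd hc hd hx1
    have h2 : g * x * g⁻¹ ∈ stabilizer (Sz F m) c ⊓ stabilizer (Sz F m) d := by
      rw [← h1, Subgroup.mem_centralizer_singleton_iff]; exact h
    have hc' : (g * x * g⁻¹) • c = c := h2.1
    have hd' : (g * x * g⁻¹) • d = d := h2.2
    have e1 : x • (g⁻¹ • c) = g⁻¹ • c := by
      rw [mul_smul, mul_smul, ← eq_inv_smul_iff] at hc'
      exact hc'
    have e2 : x • (g⁻¹ • d) = g⁻¹ • d := by
      rw [mul_smul, mul_smul, ← eq_inv_smul_iff] at hd'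
      exact hd'
    obtain ⟨D⟩ := exists_SD hF
    have hZ := D.zassenhaus hm hF
    have hsq : g⁻¹ ^ 2 ∈ stabilizer (Sz F m) c ⊓ stabilizer (Sz F m) d := by
      rcases CfsgLib.H7Z.fix3 hZ hx1 hcd hc hd e1 with h3 | h3
      · rcases CfsgLib.H7Z.fix3 hZ hx1 hcd hc hd e2 with h4 | h4
        · exact absurd (smul_left_cancel g⁻¹ (h4.trans h3.symm)) hcd.symm
        · exact Subgroup.pow_mem (stabilizer (Sz F m) c ⊓ stabilizer (Sz F m) d) (Subgroup.mem_inf.mpr ⟨h3, h4⟩) 2
      · rcases CfsgLib.H7Z.fix3 hZ hx1 hcd hc hd e2 with h4 | h4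
        · constructor
          · show g⁻¹ ^ 2 • c = c
            rw [sq, mul_smul, h3, h4]
          · show g⁻¹ ^ 2 • d = d
            rw [sq, mul_smul, h4, h3]
        · exact absurd (smul_left_cancel g⁻¹ (h3.trans h4.symm)) hcd
    have h5 : g⁻¹ ∈ stabilizer (Sz F m) c ⊓ stabilizer (Sz F m) d :=
      mem_of_pow_mem (by rw [orderOf_inv]; exact Nat.coprime_two_left.mpr hg) hsq
    have h6 := inv_mem h5
    rw [inv_inv, ← h1, Subgroup.mem_centralizer_singleton_iff] at h6
    exact h6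
  · have h1 : g ∈ Subgroup.normalizer (CC x : Set (Sz F m)) :=
      CC_ti hm hF hFP g x (self_mem_CC x) hx1 (mem_CC.mpr h)
    have h2 := index_four hm hF hFP
    have h3 : g ^ 4 ∈ CC x := by
      have hn : ((CC x).subgroupOf (Subgroup.normalizer (CC x : Set (Sz F m)))).index = 4 := by
        have h4 := Subgroup.card_mul_index ((CC x).subgroupOf (Subgroup.normalizer (CC x : Set (Sz F m))))
        rw [h2, Nat.card_congr (Subgroup.subgroupOfEquivOfLe Subgroup.le_normalizer).toEquiv, mul_comm] at h4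
        exact Nat.eq_of_mul_eq_mul_right Nat.card_pos h4
      have h5 := Subgroup.pow_index_mem ((CC x).subgroupOf (Subgroup.normalizer (CC x : Set (Sz F m)))) ⟨g, h1⟩
      rw [hn] at h5
      exact h5
    have h4 : g ∈ CC x := by
      exact mem_of_pow_mem (coprime_four hg).symm h3
    exact mem_CC.mp h4

/-- subgroups of odd order are abelian -/
theorem odd_abelian (hm : 1 ≤ m) (hF : Fintype.card F = 2 ^ (2 * m + 1)) {H : Subgroup (Sz F m)} (hH : Odd (Nat.card H))
    {x y : Sz F m} (hx : x ∈ H) (hy : y ∈ H) : x * y = y * x := by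
  have hodd : ∀ z : H, Odd (orderOf (z : Sz F m)) := by
    intro z
    rw [Subgroup.orderOf_coe]
    exact Odd.of_dvd_nat hH (orderOf_dvd_natCard z)
  have hne : ∀ z : H, z ≠ 1 → (z : Sz F m) ≠ 1 := fun z hz h => hz (Subtype.ext h)
  have h := ct_selfnorm (G := H) ?_ ?_ ⟨x, hx⟩ ⟨y, hy⟩
  · exact congrArg Subtype.val h
  · intro a b c ha hb hc hab hbc
    apply Subtype.ext
    exact ct_odd hm hF (hne a ha) (hne b hb) (hne c hc) (hodd b) (congrArg Subtype.val hab) (congrArg Subtype.val hbc)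
  · intro a g ha hga
    apply Subtype.ext
    exact sn_odd hm hF (hne a ha) (hodd a) (hodd g) (congrArg Subtype.val hga)

end CfsgLib.H7S
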