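import Mathlib
import Cfsg.Agent.Lib.H7SI

/-!
# The Suzuki groups: actions of fixity two
-/

set_option autoImplicit false
set_option linter.style.haveILetI false
set_option linter.unusedSectionVars false

open MulAction Cfsg Matrix
open scoped Pointwise commutatorElement

namespace CfsgLib.H7S

universe u

theorem orb_odd {X Ω : Type*} [Group X] [Finite X] [MulAction X Ω] [Finite Ω] {C : Subgroup X} (hodd : Odd (Nat.card C)) {x : X} {α : Ω}
    (hx : Nat.card (fixedBy Ω x) ≤ 2) (h : ∀ c ∈ C, x • c • α = c • α) : ∀ c ∈ C, c • α = α := by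
  have h1 : Nat.card (orbit C α) ≤ 2 := by
    refine le_trans (Nat.card_le_card_of_injective (fun p : orbit C α => (⟨p.1, ?_⟩ : fixedBy Ω x)) ?_) hx
    · obtain ⟨⟨c, hc⟩, hp⟩ := p.2
      rw [mem_fixedBy, ← hp]
      exact h c hc
    · intro p q hpq
      have h2 : p.1 = q.1 := congrArg (fun z : fixedBy Ω x => z.1) hpq
      exact Subtype.ext h2
  have h2 : Nat.card (orbit C α) ∣ Nat.card C := by
    have h3 := Nat.card_congr (orbitProdStabilizerEquivGroup C α)
    rw [Nat.card_prod] at h3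
    exact ⟨_, h3.symm⟩
  have h3 := Odd.of_dvd_nat hodd h2
  have h4 : Nat.card (orbit C α) = 1 := by
    have h5 : Nat.card (orbit C α) ≠ 0 := by
      intro h0
      rw [h0] at h3
      exact absurd h3 (by decide)
    have h6 : Nat.card (orbit C α) ≠ 2 := by
      intro h0
      rw [h0] at h3
      exact absurd h3 (by decide)
    omega
  intro c hc
  have h5 : Subsingleton (orbit C α) := (Nat.card_eq_one_iff_unique.mp h4).1
  have h6 : (⟨c • α, ⟨⟨c, hc⟩, rfl⟩⟩ : orbit C α) = ⟨α, mem_orbit_self α⟩ := Subsingleton.elim _ _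
  exact congrArg Subtype.val h6

theorem fix_two {X Ω : Type*} [Group X] [MulAction X Ω] [Finite Ω] {x : X} {α β γ : Ω}
    (hx : Nat.card (fixedBy Ω x) ≤ 2) (hαβ : α ≠ β) (h1 : x • α = α) (h2 : x • β = β) (h3 : x • γ = γ) : γ = α ∨ γ = β := by
  by_contra hne
  push Not at hne
  obtain ⟨h4, h5⟩ := hne
  have h6 : ({α, β, γ} : Set Ω) ⊆ fixedBy Ω x := by
    rintro y (rfl | rfl | rfl)
    · exact h1
    · exact h2
    · exact h3
  have h7 := Set.ncard_le_ncard h6 (Set.toFinite _)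
  rw [Set.ncard_eq_three.mpr ⟨α, β, γ, hαβ, Ne.symm h4, Ne.symm h5, rfl⟩] at h7
  have h8 : (fixedBy Ω x).ncard = Nat.card (fixedBy Ω x) := rfl
  omega

variable {F : Type u} [Field F] [Fintype F] {m : ℕ}

namespace SD

variable (D : SD F m)

include D

theorem exists_t (c : F) : ∃ a : F, D.t a = c := (Finite.surjective_of_injective D.t_inj) c

theorem exists_t_unit (c : Fˣ) : ∃ a : Fˣ, D.t a = c := by
  obtain ⟨a, ha⟩ := D.exists_t c
  have h : a ≠ 0 := by
    rintro rfl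
    rw [map_zero] at ha
    exact c.ne_zero ha.symm
  exact ⟨Units.mk0 a h, ha⟩

theorem T_ne_one {a b : F} (h : ¬ (a = 0 ∧ b = 0)) : D.T a b ≠ 1 := by
  intro h1
  rw [← D.T_zero, D.T_inj] at h1
  exact h h1

/-- involutions -/
theorem invol_conj (hm : 1 ≤ m) (hF : Fintype.card F = 2 ^ (2 * m + 1)) {t : Sz F m} (ht : t * t = 1) (ht1 : t ≠ 1) :
    ∃ (k : Sz F m) (b : F), b ≠ 0 ∧ k * t * k⁻¹ = D.T 0 b := by
  have ho : orderOf t = 2 := orderOf_eq_prime (by rw [sq]; exact ht) ht1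
  have hno : ∀ U : Subgroup (Sz F m), Odd (Nat.card U) → t ∉ U := by
    intro U hU htU
    have h1 := orderOf_dvd_natCard (⟨t, htU⟩ : U)
    rw [Subgroup.orderOf_mk, ho] at h1
    exact (Nat.not_even_iff_odd.mpr hU) (even_iff_two_dvd.mpr h1)
  obtain ⟨Q⟩ : Nonempty (Sylow 2 (Sz F m)) := inferInstance
  have h2 : IsPGroup 2 (Subgroup.zpowers t) := by
    apply IsPGroup.of_card (n := 1)
    rw [Nat.card_zpowers, ho, pow_one]
  obtain ⟨R, hR⟩ := h2.exists_le_sylow
  obtain ⟨k, hk⟩ := sylow_conj hm hF D R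
  have h3 := (hk t).mp (hR (Subgroup.mem_zpowers t))
  obtain ⟨a, b, hab⟩ := D.mem_P.mp h3
  have h4 : (k * t * k⁻¹) * (k * t * k⁻¹) = 1 := by
    calc (k * t * k⁻¹) * (k * t * k⁻¹) = k * (t * t) * k⁻¹ := by group
      _ = 1 := by rw [ht]; group
  have h5 : k * t * k⁻¹ ≠ 1 := by
    intro h
    apply ht1
    calc t = k⁻¹ * (k * t * k⁻¹) * k := by group
      _ = 1 := by rw [h]; group
  rw [hab, D.T_sq, ← D.T_zero, D.T_inj] at h4
  have ha : a = 0 := by
    rcases mul_eq_zero.mp h4.2 with h | h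
    · exact D.t_eq_zero.mp h
    · exact h
  refine ⟨k, b, ?_, by rw [hab, ha]⟩
  rintro rfl
  rw [hab, ha, D.T_zero] at h5
  exact h5 rfl

theorem h_T (μ : Fˣ) (a b : F) : D.h μ * D.T a b = D.T (D.t μ * a) (μ ^ 2 * D.t μ * b) * D.h μ := by
  rw [← D.h_conj_T]; group

theorem t_unit_ne (μ : Fˣ) : D.t μ ≠ 0 := fun h => μ.ne_zero (D.t_eq_zero.mp h)

theorem T_h (μ : Fˣ) (a b : F) : D.T a b * D.h μ = D.h μ * D.T (a / D.t μ) (b / (μ ^ 2 * D.t μ)) := by
  have h1 := D.t_unit_ne μ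
  have h2 : (μ : F) ≠ 0 := μ.ne_zero
  rw [D.h_T]
  congr 2
  · field_simp
  · field_simp

variable {Ω : Type*} [MulAction (Sz F m) Ω] [Finite Ω]

theorem even_case (hm : 1 ≤ m) (hF : Fintype.card F = 2 ^ (2 * m + 1))
    (hfix : ∀ g : Sz F m, g ≠ 1 → Nat.card (fixedBy Ω g) ≤ 2) {α : Ω} {b : F} (hb : b ≠ 0)
    (hα : D.T 0 b • α = α) (hne : stabilizer (Sz F m) α ≠ ⊤) : stabilizer (Sz F m) α = stabilizer (Sz F m) (oinf F m) := by
  have hb1 : D.T 0 b ≠ 1 := D.T_ne_one (fun h => hb h.2)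
  have hZ : ∀ c : F, D.T 0 c • α = α := by
    intro c
    obtain ⟨a, rfl⟩ := D.exists_norm c
    have hcomm : D.T 0 b * D.T a 0 = D.T a 0 * D.T 0 b := by
      rw [D.T_mul, D.T_mul, D.T_inj]
      simp
    rw [← D.T_sq a 0, mul_smul]
    have h1 : D.T 0 b • (D.T a 0 • α) = D.T a 0 • α := by rw [← mul_smul, hcomm, mul_smul, hα]
    have h2 : D.T 0 b • (D.T a 0 • D.T a 0 • α) = D.T a 0 • D.T a 0 • α := by rw [← mul_smul, hcomm, mul_smul, h1]
    by_cases h : D.T a 0 • α = α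
    · rw [h, h]
    · rcases fix_two (hfix _ hb1) (Ne.symm h) hα h1 h2 with h3 | h3
      · exact h3
      · exact absurd (smul_left_cancel _ h3) h
  have hE : ∀ β : Ω, (∀ c : F, D.T 0 c • β = β) → ∀ μ : Fˣ, D.h μ • β = β := by
    intro β hβ μ
    refine orb_odd (D.odd_E hm hF) (hfix _ hb1) ?_ (D.h μ) (D.h_mem μ)
    intro c hc
    obtain ⟨ν, rfl⟩ := D.stab2' hm hF hc.1 hc.2
    rw [← mul_smul, D.T_h, mul_smul, zero_div, hβ]
  have hP : ∀ a c : F, D.T a c • α = α := by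
    intro a c
    by_cases ha : a = 0
    · rw [ha]; exact hZ c
    by_contra hβ
    have hβZ : ∀ d : F, D.T 0 d • (D.T a c • α) = D.T a c • α := by
      intro d
      have hcomm : D.T 0 d * D.T a c = D.T a c * D.T 0 d := by
        rw [D.T_mul, D.T_mul, D.T_inj]
        simp [add_comm]
      rw [← mul_smul, hcomm, mul_smul, hZ]
    have hEβ := hE _ hβZ
    have hEα := hE _ hZ
    obtain ⟨μ, hμ⟩ := exists_unit_ne (F := F) (m := m) hm hF
    -- conjugate
    have h1 : D.T (D.t μ * a) (μ ^ 2 * D.t μ * c) • α = D.T a c • α := by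
      rw [← D.h_conj_T, mul_smul, mul_smul]
      have h2 : (D.h μ)⁻¹ • α = α := by rw [inv_smul_eq_iff, hEα]
      rw [h2, hEβ]
    have h2 : ∃ e : F, D.T ((1 + D.t μ) * a) e • α = α := by
      refine ⟨c + D.t a * a + μ ^ 2 * D.t μ * c + D.t a * (D.t μ * a), ?_⟩
      have h3 : D.T ((1 + D.t μ) * a) (c + D.t a * a + μ ^ 2 * D.t μ * c + D.t a * (D.t μ * a)) = (D.T a c)⁻¹ * D.T (D.t μ * a) (μ ^ 2 * D.t μ * c) := by
        rw [D.T_inv, D.T_mul, D.T_inj]
        constructor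
        · ring
        · ring
      rw [h3, mul_smul, h1, inv_smul_smul]
    obtain ⟨e, he⟩ := h2
    have hν : 1 + D.t μ ≠ 0 := by
      intro h
      apply hμ
      have h4 : D.t μ = 1 := (D.add_eq_zero.mp h).symm
      exact Units.ext (D.t_inj (by rw [h4, Units.val_one, map_one]))
    obtain ⟨ρ, hρ⟩ := D.exists_t_unit (Units.mk0 (1 + D.t μ) hν)
    rw [Units.val_mk0] at hρ
    have h5 : ∃ f : F, D.T a f • α = α := by
      refine ⟨e / (ρ ^ 2 * D.t ρ), ?_⟩
      have h6 := D.T_h ρ ((1 + D.t μ) * a) e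
      have h7 : (1 + D.t μ) * a / D.t ρ = a := by rw [hρ]; field_simp
      rw [h7] at h6
      have h8 : D.h ρ • (D.T a (e / (ρ ^ 2 * D.t ρ)) • α) = D.h ρ • α := by
        rw [← mul_smul, ← h6, mul_smul, hEα, he]
      exact smul_left_cancel _ h8
    obtain ⟨f, hf⟩ := h5
    apply hβ
    have h9 : D.T a c = D.T a f * D.T 0 (f + c) := by
      rw [D.T_mul, D.T_inj]
      constructor
      · ring
      · linear_combination -D.add_self f
    rw [h9, mul_smul, hZ, hf]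
  have hle : stabilizer (Sz F m) (oinf F m) ≤ stabilizer (Sz F m) α := by
    intro g hg
    obtain ⟨a, c, μ, rfl⟩ := D.stab_inf hm hF hg
    rw [mem_stabilizer_iff, mul_smul, hE _ hZ, hP]
  rcases hle.lt_or_eq with h | h
  · exact absurd ((stab_coatom hm hF (oinf F m)).2 _ h) hne
  · exact h.symm

end SD

end CfsgLib.H7S
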