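import Mathlib
import Cfsg.Agent.Lib.Coprime
import Cfsg.Agent.Lib.Coprime2

set_option autoImplicit false

namespace CfsgLib.H7Sm1
open Subgroup
open scoped commutatorElement

theorem isPGroup_of {G : Type*} [Group G] [Finite G] {p : ℕ} [hp : Fact p.Prime] {L : Subgroup G}
    (h : ∀ x ∈ L, (orderOf x).Coprime p → x = 1) : IsPGroup p L := by
  intro g
  obtain ⟨a, m, hm, e⟩ := Nat.exists_eq_pow_mul_and_not_dvd (n := orderOf (g : G))
    (orderOf_pos (g : G)).ne' p hp.out.ne_one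
  refine ⟨a, Subtype.ext ?_⟩
  have h1 : orderOf ((g : G) ^ (p ^ a)) = m := by
    rw [orderOf_pow_of_dvd (pow_ne_zero _ hp.out.ne_zero) (by rw [e]; exact dvd_mul_right _ _), e,
      Nat.mul_div_cancel_left _ (pow_pos hp.out.pos _)]
  have h2 : ((g : G) ^ (p ^ a)) = 1 := h _ (L.pow_mem g.2 _) (by
    rw [h1]; exact ((Nat.Prime.coprime_iff_not_dvd hp.out).mpr hm).symm)
  exact h2

theorem zcop {G : Type*} [Group G] [Finite G] {p : ℕ} [hp : Fact p.Prime] {R : Subgroup G}
    (hR : IsPGroup p R) {x : G} (hx : (orderOf x).Coprime p)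
    (hn : x ∈ Subgroup.normalizer (R : Set G)) : CfsgLib.Coprime.CopAct (zpowers x) R := by
  refine ⟨by rwa [Subgroup.zpowers_le], ?_, Or.inl ?_⟩
  · rw [Nat.card_zpowers]
    obtain ⟨k, hk⟩ := hR.exists_card_eq
    rw [hk]; exact Nat.Coprime.pow_right k hx
  · infer_instance

end CfsgLib.H7Sm1
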