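import Cfsg.Agent.Lib.H8Isol
import Cfsg.Agent.Lib.PChain

/-!
# Minimal counterexamples to the odd Z*-statement
-/

set_option autoImplicit false
set_option linter.style.haveILetI false
set_option linter.unusedSectionVars false

namespace CfsgLib.Isol

open Cfsg CfsgLib.Coprime
open scoped Pointwise commutatorElement

universe u

section
variable {G : Type u} [Group G] [Finite G] {x : G} {p : ℕ} [hp : Fact p.Prime]

theorem core_map_le (H : Subgroup G) [H.Normal] : (Cfsg.pPrimeCore p H).map H.subtype ≤ Cfsg.pPrimeCore p G := by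
  have h2 : (Cfsg.pPrimeCore p H).Characteristic := CfsgLib.Core.pPrimeCore_characteristic p H
  have h3 : ((Cfsg.pPrimeCore p H).map H.subtype).Normal := ConjAct.normal_of_characteristic_of_normal
  apply CfsgLib.Core.le_pPrimeCore h3
  have h4 : Nat.card ((Cfsg.pPrimeCore p H).map H.subtype) = Nat.card (Cfsg.pPrimeCore p H) :=
    (Nat.card_congr (Subgroup.equivMapOfInjective _ H.subtype H.subtype_injective).toEquiv).symm
  rw [h4]
  exact CfsgLib.Core.card_pPrimeCore_coprime p H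

theorem core_bot_of_normal (h : Cfsg.pPrimeCore p G = ⊥) (H : Subgroup G) [H.Normal] : Cfsg.pPrimeCore p H = ⊥ := by
  have h1 := core_map_le (p := p) H
  rw [h, le_bot_iff] at h1
  exact (Subgroup.map_eq_bot_iff_of_injective _ H.subtype_injective).mp h1

theorem sylow_eq_top (h : Cfsg.pPrimeCore p G = ⊥) (H : Subgroup G) [H.Normal] (P : Sylow p H)
    (hP : Subgroup.normalizer ((P : Subgroup H) : Set H) ≤ Subgroup.centralizer ((P : Subgroup H) : Set H)) : (P : Subgroup H) = ⊤ := by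
  have h1 := MonoidHom.ker_transferSylow_isComplement' P hP
  have h2 := (CfsgLib.NPC.of_isComplement' h1).1
  have h3 := CfsgLib.Core.le_pPrimeCore (inferInstance : (MonoidHom.transferSylow P hP).ker.Normal) h2
  rw [core_bot_of_normal h H, le_bot_iff] at h3
  rw [h3] at h1
  exact Subgroup.isComplement'_bot_left.mp h1

variable (hx : orderOf x = p) (hiso : Cfsg.IsIsolated x) (hnz : ¬ Cfsg.InZStar p x)
  (hmin : ∀ (H : Subgroup G) (hxH : x ∈ H), H ≠ ⊤ → Cfsg.InZStar p (⟨x, hxH⟩ : ↥H))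
  (hquot : ∀ (N : Subgroup G) [N.Normal], N ≠ ⊥ → Cfsg.InZStar p (QuotientGroup.mk x : G ⧸ N))

include hnz hquot in
theorem core_bot : Cfsg.pPrimeCore p G = ⊥ := by
  by_contra hne
  haveI := CfsgLib.Core.pPrimeCore_normal p G
  apply hnz
  intro g
  have h1 := hquot (Cfsg.pPrimeCore p G) hne (QuotientGroup.mk g)
  rw [CfsgLib.PChain.pPrimeCore_quotient, Subgroup.mem_bot] at h1
  exact (QuotientGroup.eq_one_iff _).mp h1

include hnz in
theorem not_central : ¬ ∀ g : G, g * x = x * g := by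
  intro h
  apply hnz
  intro g
  rw [h g, mul_inv_cancel_right, mul_inv_cancel]
  exact Subgroup.one_mem _

include hiso hnz hmin hquot in
theorem eq_top_of_mem {H : Subgroup G} [hH : H.Normal] (hxH : x ∈ H) : H = ⊤ := by
  by_contra hne
  have hcore := core_bot hnz hquot
  apply not_central hnz
  have h1 : ∀ h ∈ H, h * x = x * h := by
    intro h hh
    have h2 := hmin H hxH hne ⟨h, hh⟩
    rw [core_bot_of_normal hcore H, Subgroup.mem_bot] at h2
    have h3 : h * x * h⁻¹ * x⁻¹ = 1 := congrArg Subtype.val h2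
    calc h * x = (h * x * h⁻¹ * x⁻¹) * (x * h) := by group
      _ = x * h := by rw [h3, one_mul]
  intro g
  have h2 := h1 _ (hH.conj_mem x hxH g)
  have h3 := hiso g h2.symm
  exact mul_inv_eq_iff_eq_mul.mp h3

include hx hiso hnz hmin hquot in
theorem sup_eq_top {N : Subgroup G} [hN : N.Normal] (hNb : N ≠ ⊥) : N ⊔ Subgroup.zpowers x = ⊤ := by
  have hcore := core_bot hnz hquot
  obtain ⟨M, hM⟩ : ∃ M : Subgroup G, M = (Cfsg.pPrimeCore p (G ⧸ N)).comap (QuotientGroup.mk' N) := ⟨_, rfl⟩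
  haveI hMn : M.Normal := by
    rw [hM]; exact (CfsgLib.Core.pPrimeCore_normal p (G ⧸ N)).comap _
  have hMx : ∀ g : G, g * x * g⁻¹ * x⁻¹ ∈ M := by
    intro g
    rw [hM]
    exact hquot N hNb (QuotientGroup.mk g)
  have hNM : N ≤ M := by
    rw [hM]
    intro n hn
    show QuotientGroup.mk' N n ∈ Cfsg.pPrimeCore p (G ⧸ N)
    have : QuotientGroup.mk' N n = 1 := (QuotientGroup.eq_one_iff _).mpr hn
    rw [this]; exact Subgroup.one_mem _
  have hMtop : M ⊔ Subgroup.zpowers x = ⊤ := by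
    haveI : (M ⊔ Subgroup.zpowers x).Normal := by
      refine ⟨fun h hh g => ?_⟩
      obtain ⟨m, hm, y, hy, rfl⟩ := Subgroup.mem_sup_of_normal_left.mp hh
      obtain ⟨i, rfl⟩ := Subgroup.mem_zpowers_iff.mp hy
      have e : g * (m * x ^ i) * g⁻¹ = (g * m * g⁻¹) * (g * x * g⁻¹) ^ i := by
        have : (g * x * g⁻¹) ^ i = g * x ^ i * g⁻¹ := by
          rw [← MulAut.conj_apply, ← map_zpow, MulAut.conj_apply]
        rw [this]; group
      rw [e]
      refine mul_mem ((le_sup_left : M ≤ _) (hMn.conj_mem m hm g)) (zpow_mem ?_ i)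
      have e2 : g * x * g⁻¹ = (g * x * g⁻¹ * x⁻¹) * x := by group
      rw [e2]
      exact Subgroup.mul_mem_sup (hMx g) (Subgroup.mem_zpowers x)
    exact eq_top_of_mem hiso hnz hmin hquot ((le_sup_right : Subgroup.zpowers x ≤ _) (Subgroup.mem_zpowers x))
  by_contra hne
  -- `x` centralizes `N`
  have hNx : ∀ n ∈ N, n * x = x * n := by
    intro n hn
    obtain ⟨H, hH⟩ : ∃ H, H = N ⊔ Subgroup.zpowers x := ⟨_, rfl⟩
    rw [← hH] at hne
    have hNH : N ≤ H := by rw [hH]; exact le_sup_left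
    have hxH : x ∈ H := by rw [hH]; exact (le_sup_right : Subgroup.zpowers x ≤ _) (Subgroup.mem_zpowers x)
    have h2 := hmin H hxH hne ⟨n, hNH hn⟩
    have h3 : n * x * n⁻¹ * x⁻¹ ∈ (Cfsg.pPrimeCore p H).map H.subtype := ⟨_, h2, rfl⟩
    have h4 : n * x * n⁻¹ * x⁻¹ ∈ N := by
      have : n * x * n⁻¹ * x⁻¹ = n * (x * n⁻¹ * x⁻¹) := by group
      rw [this]
      exact mul_mem hn (hN.conj_mem _ (inv_mem hn) x)
    haveI := CfsgLib.Core.pPrimeCore_normal p H
    -- the intersection is a normal `p'`-subgroup of `N`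
    obtain ⟨K, hK⟩ : ∃ K : Subgroup N, K = ((Cfsg.pPrimeCore p H).map H.subtype).subgroupOf N := ⟨_, rfl⟩
    have hKn : K.Normal := by
      refine ⟨fun k hk g => ?_⟩
      rw [hK, Subgroup.mem_subgroupOf] at hk ⊢
      obtain ⟨k', hk', hkk⟩ := hk
      refine ⟨⟨g, hNH g.2⟩ * k' * ⟨g, hNH g.2⟩⁻¹, this.conj_mem k' hk' _, ?_⟩
      show (g : G) * H.subtype k' * (g : G)⁻¹ = _
      rw [hkk]; rfl
    have hKc : (Nat.card K).Coprime p := by
      have h5 : Nat.card K ∣ Nat.card (Cfsg.pPrimeCore p H) := by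
        have h6 : Nat.card K = Nat.card (K.map N.subtype) :=
          (Nat.card_congr (Subgroup.equivMapOfInjective _ N.subtype N.subtype_injective).toEquiv)
        have h7 : Nat.card ((Cfsg.pPrimeCore p H).map H.subtype) = Nat.card (Cfsg.pPrimeCore p H) :=
          (Nat.card_congr (Subgroup.equivMapOfInjective _ H.subtype H.subtype_injective).toEquiv).symm
        rw [h6, ← h7]
        apply Subgroup.card_dvd_of_le
        rw [hK, Subgroup.subgroupOf_map_subtype]
        exact inf_le_left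
      exact Nat.Coprime.coprime_dvd_left h5 (CfsgLib.Core.card_pPrimeCore_coprime p H)
    have h5 := CfsgLib.Core.le_pPrimeCore hKn hKc
    rw [core_bot_of_normal hcore N, le_bot_iff] at h5
    have h6 : (⟨_, h4⟩ : N) ∈ K := by rw [hK, Subgroup.mem_subgroupOf]; exact h3
    rw [h5, Subgroup.mem_bot] at h6
    have h7 : n * x * n⁻¹ * x⁻¹ = 1 := congrArg Subtype.val h6
    calc n * x = (n * x * n⁻¹ * x⁻¹) * (x * n) := by group
      _ = x * n := by rw [h7, one_mul]
  have hCtop : Subgroup.centralizer (N : Set G) = ⊤ := by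
    apply eq_top_of_mem hiso hnz hmin hquot
    rw [Subgroup.mem_centralizer_iff]
    exact hNx
  have hNc : ∀ n ∈ N, ∀ g : G, n * g = g * n := by
    intro n hn g
    have : g ∈ Subgroup.centralizer (N : Set G) := by rw [hCtop]; exact Subgroup.mem_top g
    exact Subgroup.mem_centralizer_iff.mp this n hn
  -- `M` is a `p`-group contained in `N`
  obtain ⟨P⟩ : Nonempty (Sylow p M) := inferInstance
  have hPN : ∀ y ∈ (P : Subgroup M), (y : G) ∈ N := by
    intro y hy
    obtain ⟨k, hk⟩ := (IsPGroup.iff_orderOf.mp P.isPGroup') ⟨y, hy⟩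
    rw [Subgroup.orderOf_mk] at hk
    have h1 : (QuotientGroup.mk' N (y : G)) ∈ Cfsg.pPrimeCore p (G ⧸ N) := by
      have h0 : ∀ m ∈ M, QuotientGroup.mk' N m ∈ Cfsg.pPrimeCore p (G ⧸ N) := by
        intro m hm
        rw [hM] at hm
        exact hm
      exact h0 _ y.2
    have h2 := Subgroup.orderOf_dvd_natCard _ h1
    have h3 : orderOf (QuotientGroup.mk' N (y : G)) ∣ p ^ k := by
      rw [← hk, ← Subgroup.orderOf_coe]
      exact orderOf_map_dvd _ _
    have h4 := Nat.Coprime.coprime_dvd_left h2 (CfsgLib.Core.card_pPrimeCore_coprime p (G ⧸ N))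
    have h5 : orderOf (QuotientGroup.mk' N (y : G)) = 1 := Nat.Coprime.eq_one_of_dvd (h4.pow_right k) h3
    exact (QuotientGroup.eq_one_iff _).mp (orderOf_eq_one_iff.mp h5)
  have hPtop := sylow_eq_top hcore M P (by
    intro g _
    rw [Subgroup.mem_centralizer_iff]
    intro y hy
    apply Subtype.ext
    exact hNc _ (hPN y hy) g)
  apply hne
  rw [eq_top_iff, ← hMtop]
  refine sup_le_sup_right ?_ _
  intro m hm
  exact hPN ⟨m, hm⟩ (by rw [hPtop]; exact Subgroup.mem_top _)

include hx hiso hnz hmin hquot in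
theorem commutator_le {N : Subgroup G} [hN : N.Normal] (hNb : N ≠ ⊥) : commutator G ≤ N := by
  have htop := sup_eq_top hx hiso hnz hmin hquot hNb
  have h1 : ∀ g : G, ∃ i : ℤ, (QuotientGroup.mk' N g) = (QuotientGroup.mk' N x) ^ i := by
    intro g
    have : g ∈ N ⊔ Subgroup.zpowers x := by rw [htop]; exact Subgroup.mem_top g
    obtain ⟨n, hn, y, hy, rfl⟩ := Subgroup.mem_sup_of_normal_left.mp this
    obtain ⟨i, rfl⟩ := Subgroup.mem_zpowers_iff.mp hy
    refine ⟨i, ?_⟩
    have h2 : QuotientGroup.mk' N n = 1 := (QuotientGroup.eq_one_iff _).mpr hn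
    rw [map_mul, h2, one_mul, map_zpow]
  rw [commutator_eq_closure, Subgroup.closure_le]
  rintro _ ⟨a, b, rfl⟩
  obtain ⟨i, hi⟩ := h1 a
  obtain ⟨j, hj⟩ := h1 b
  show ⁅a, b⁆ ∈ N
  rw [← QuotientGroup.eq_one_iff, ← QuotientGroup.mk'_apply, map_commutatorElement, commutatorElement_eq_one_iff_mul_comm, hi, hj, ← zpow_add, ← zpow_add, add_comm]

include hnz in
theorem commutator_ne_bot : commutator G ≠ ⊥ := by
  intro h
  apply not_central hnz
  intro g
  have h1 : ⁅g, x⁆ ∈ commutator G := Subgroup.commutator_mem_commutator (Subgroup.mem_top g) (Subgroup.mem_top x)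
  rw [h, Subgroup.mem_bot, commutatorElement_eq_one_iff_mul_comm] at h1
  exact h1

include hx hiso hnz in
theorem not_isPGroup : ¬ IsPGroup p (⊤ : Subgroup G) := by
  intro h
  apply not_central hnz
  intro g
  exact Subgroup.mem_centralizer_singleton_iff.mp (le_centralizer hiso h (Subgroup.mem_top x) (Subgroup.mem_top g))

include hx hiso hnz hmin hquot in
theorem not_normal_isPGroup {Q : Subgroup G} [Q.Normal] (hQ : IsPGroup p Q) : Q = ⊥ := by
  by_contra hne
  apply not_isPGroup hx hiso hnz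
  rw [← sup_eq_top hx hiso hnz hmin hquot hne]
  apply IsPGroup.to_sup_of_normal_left hQ
  exact IsPGroup.of_card (n := 1) (by rw [Nat.card_zpowers, hx, pow_one])

include hx hiso hnz hmin hquot in
theorem not_commutative : ¬ IsMulCommutative ↥(commutator G) := by
  intro hc
  have hcore := core_bot hnz hquot
  obtain ⟨P⟩ : Nonempty (Sylow p (commutator G)) := inferInstance
  have h1 := sylow_eq_top hcore (commutator G) P (by
    intro g _
    rw [Subgroup.mem_centralizer_iff]
    intro y hy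
    exact hc.is_comm.comm y g)
  have h2 : IsPGroup p (commutator G) := by
    have h3 := P.isPGroup'
    rw [h1] at h3
    exact h3.of_equiv Subgroup.topEquiv
  exact commutator_ne_bot hnz (not_normal_isPGroup hx hiso hnz hmin hquot h2)

include hx hiso hnz hmin hquot in
theorem simple : IsSimpleGroup ↥(commutator G) := by
  have hcore := core_bot hnz hquot
  obtain ⟨D, hD⟩ : ∃ D, D = commutator G := ⟨_, rfl⟩
  rw [← hD]
  haveI hDn : D.Normal := by rw [hD]; infer_instance
  have hDb : D ≠ ⊥ := by rw [hD]; exact commutator_ne_bot hnz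
  have hDtop : D ⊔ Subgroup.zpowers x = ⊤ := sup_eq_top hx hiso hnz hmin hquot hDb
  haveI : Nontrivial D := (Subgroup.nontrivial_iff_ne_bot D).mpr hDb
  refine ⟨fun H hH => ?_⟩
  by_cases hHb : H = ⊥
  · exact Or.inl hHb
  right
  -- a minimal normal subgroup of `D` inside `H`
  obtain ⟨T, hT, hTmin⟩ : ∃ T ∈ {T : Subgroup D | T.Normal ∧ T ≠ ⊥ ∧ T ≤ H}, ∀ T' ∈ {T : Subgroup D | T.Normal ∧ T ≠ ⊥ ∧ T ≤ H}, T' ≤ T → T' = T := by
    have hfin : Set.Finite {T : Subgroup D | T.Normal ∧ T ≠ ⊥ ∧ T ≤ H} := Set.toFinite _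
    obtain ⟨Q, hQ⟩ := hfin.exists_minimal ⟨H, hH, hHb, le_rfl⟩
    exact ⟨Q, hQ.1, fun Q' h1 h2 => le_antisymm h2 (hQ.2 h1 h2)⟩
  obtain ⟨hTn, hTb, hTH⟩ := hT
  -- `p` divides the order of `T`
  have hpT : p ∣ Nat.card T := by
    by_contra hnd
    have h1 := CfsgLib.Core.le_pPrimeCore hTn (((Nat.Prime.coprime_iff_not_dvd hp.out).mpr hnd).symm)
    rw [core_bot_of_normal hcore D, le_bot_iff] at h1
    exact hTb h1
  obtain ⟨⟨y, hyT⟩, hyo⟩ := exists_prime_orderOf_dvd_card' p hpT
  rw [Subgroup.orderOf_mk] at hyo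
  have hyo' : orderOf (y : G) = p := by rw [Subgroup.orderOf_coe, hyo]
  -- conjugate `y` by an element of `D` so that it commutes with `x`
  obtain ⟨S, hS⟩ := (IsPGroup.of_card (n := 1) (p := p) (G := Subgroup.zpowers x) (by rw [Nat.card_zpowers, hx, pow_one])).exists_le_sylow
  have hxS : x ∈ (S : Subgroup G) := hS (Subgroup.mem_zpowers x)
  obtain ⟨Q, hQ⟩ := (IsPGroup.of_card (n := 1) (p := p) (G := Subgroup.zpowers (y : G)) (by rw [Nat.card_zpowers, hyo', pow_one])).exists_le_sylow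
  have hyQ : (y : G) ∈ (Q : Subgroup G) := hQ (Subgroup.mem_zpowers _)
  obtain ⟨g, hg⟩ := MulAction.exists_smul_eq G Q S
  have hgy : g * y * g⁻¹ ∈ (S : Subgroup G) := by
    rw [← hg]
    exact Subgroup.smul_mem_pointwise_smul _ (MulAut.conj g) (Q : Subgroup G) hyQ
  obtain ⟨w, hw, d, hd, hwd⟩ : ∃ w ∈ Subgroup.zpowers x, ∃ d ∈ D, w * d = g := by
    have : g ∈ Subgroup.zpowers x ⊔ D := by rw [sup_comm, hDtop]; exact Subgroup.mem_top g
    exact Subgroup.mem_sup_of_normal_right.mp this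
  have hwS : w ∈ (S : Subgroup G) := (Subgroup.zpowers_le.mpr hxS) hw
  obtain ⟨y', hy'⟩ : ∃ y' : D, y' = ⟨d, hd⟩ * y * ⟨d, hd⟩⁻¹ := ⟨_, rfl⟩
  have hy'T : y' ∈ T := by rw [hy']; exact hTn.conj_mem y hyT _
  have hy'1 : y' ≠ 1 := by
    intro h
    rw [hy'] at h
    have h1 : y = 1 := by
      calc y = (⟨d, hd⟩ : D)⁻¹ * (⟨d, hd⟩ * y * ⟨d, hd⟩⁻¹) * ⟨d, hd⟩ := by group
        _ = 1 := by rw [h]; group
    rw [h1, orderOf_one] at hyo
    exact hp.out.one_lt.ne hyo
  have hy'S : (y' : G) ∈ (S : Subgroup G) := by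
    have h1 : (y' : G) = w⁻¹ * (g * y * g⁻¹) * w := by
      rw [hy', ← hwd]
      show d * (y : G) * d⁻¹ = _
      group
    rw [h1]
    exact mul_mem (mul_mem (inv_mem hwS) hgy) hwS
  have hcomm : (y' : G) * x = x * y' :=
    Subgroup.mem_centralizer_singleton_iff.mp (le_centralizer hiso S.isPGroup' hxS hy'S)
  -- `T` is normalized by `x`
  obtain ⟨φ, hφ⟩ : ∃ φ : D ≃* D, ∀ t : D, ((φ t : D) : G) = x * t * x⁻¹ := ⟨MulAut.conjNormal x, fun t => by simp⟩
  have hTφ : T ⊓ T.map φ.toMonoidHom = T := by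
    apply hTmin
    · refine ⟨?_, ?_, inf_le_left.trans hTH⟩
      · haveI := hTn
        haveI : (T.map φ.toMonoidHom).Normal := hTn.map _ φ.surjective
        infer_instance
      · intro h
        have h1 : y' ∈ T ⊓ T.map φ.toMonoidHom := by
          refine ⟨hy'T, ⟨y', hy'T, ?_⟩⟩
          apply Subtype.ext
          show ((φ y' : D) : G) = y'
          rw [hφ, ← hcomm]; group
        rw [h, Subgroup.mem_bot] at h1
        exact hy'1 h1
    · exact inf_le_left
  have hTle : T ≤ T.map φ.toMonoidHom := inf_eq_left.mp hTφ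
  have hTeq : T = T.map φ.toMonoidHom := by
    apply Subgroup.eq_of_le_of_card_ge hTle
    rw [Subgroup.card_map_of_injective φ.injective]
  -- so it is normal in `G`
  have hTG : (T.map D.subtype).Normal := by
    rw [← Subgroup.normalizer_eq_top_iff, eq_top_iff, ← hDtop]
    refine sup_le ?_ (Subgroup.zpowers_le.mpr ?_)
    · intro e he
      rw [Subgroup.mem_normalizer_iff]
      intro h
      constructor
      · rintro ⟨t, ht, rfl⟩
        exact ⟨⟨e, he⟩ * t * ⟨e, he⟩⁻¹, hTn.conj_mem t ht _, rfl⟩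
      · rintro ⟨t, ht, hte⟩
        refine ⟨⟨e, he⟩⁻¹ * t * ⟨e, he⟩⁻¹⁻¹, hTn.conj_mem t ht _, ?_⟩
        show e⁻¹ * D.subtype t * e⁻¹⁻¹ = h
        rw [hte]; group
    · rw [Subgroup.mem_normalizer_iff]
      intro h
      constructor
      · rintro ⟨t, ht, rfl⟩
        refine ⟨φ t, ?_, hφ t⟩
        rw [hTeq]; exact ⟨t, ht, rfl⟩
      · rintro ⟨t, ht, hte⟩
        rw [hTeq] at ht
        obtain ⟨t', ht', rfl⟩ := ht
        refine ⟨t', ht', ?_⟩
        have h1 : D.subtype (φ t') = x * h * x⁻¹ := hte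
        have h2 : x * (t' : G) * x⁻¹ = x * h * x⁻¹ := by rw [← h1]; exact (hφ t').symm
        exact mul_left_cancel (mul_right_cancel h2)
  have h1 : D ≤ T.map D.subtype := by
    haveI := hTG
    have h0 : T.map D.subtype ≠ ⊥ → commutator G ≤ T.map D.subtype := fun h => commutator_le hx hiso hnz hmin hquot h
    refine hD.le.trans (h0 ?_)
    intro h
    exact hTb ((Subgroup.map_eq_bot_iff_of_injective _ (Subgroup.subtype_injective _)).mp h)
  rw [eq_top_iff]
  intro e _
  obtain ⟨t, ht, hte⟩ := h1 e.2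
  apply hTH
  have : t = e := Subtype.ext hte
  rw [← this]; exact ht

end

end CfsgLib.Isol
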