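import Cfsg.Agent.Lib.H8IsolMin

/-!
# Invariant Sylow subgroups for isolated elements
-/

set_option autoImplicit false
set_option linter.style.haveILetI false
set_option linter.unusedSectionVars false

namespace CfsgLib.Isol

open Cfsg CfsgLib.Coprime
open scoped Pointwise commutatorElement

universe u

section
variable {G : Type u} [Group G] [Finite G] {x : G} {p q : ℕ} [hp : Fact p.Prime] [hq : Fact q.Prime]

/-- decomposition with respect to the centralizer -/
theorem exists_mul_of_inZStar (hx : ∃ k : ℕ, orderOf x = p ^ k) (hz : Cfsg.InZStar p x) (g : G) :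
    ∃ n ∈ Cfsg.pPrimeCore p G, ∃ c ∈ Subgroup.centralizer ({x} : Set G), g = n * c := by
  haveI hMn := CfsgLib.Core.pPrimeCore_normal p G
  obtain ⟨k, hk⟩ := hx
  have hcop : CopAct (Subgroup.zpowers x) (Cfsg.pPrimeCore p G) := by
    refine ⟨?_, ?_, Or.inl inferInstance⟩
    · rw [Subgroup.normalizer_eq_top]; exact le_top
    · rw [Nat.card_zpowers, hk]
      exact ((CfsgLib.Core.card_pPrimeCore_coprime p G).symm).pow_left k
  obtain ⟨n, hn, hc⟩ := hcop.exists_mul_mem_centralizer (k := g) (by rw [Subgroup.normalizer_eq_top]; exact Subgroup.mem_top g) (by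
    intro a ha
    obtain ⟨i, rfl⟩ := Subgroup.mem_zpowers_iff.mp ha
    rw [← QuotientGroup.eq_one_iff, ← QuotientGroup.mk'_apply]
    have h1 : QuotientGroup.mk' (Cfsg.pPrimeCore p G) (g * x * g⁻¹ * x⁻¹) = 1 := (QuotientGroup.eq_one_iff _).mpr (hz g)
    simp only [map_mul, map_inv, map_zpow] at h1 ⊢
    have h2 : Commute (QuotientGroup.mk' (Cfsg.pPrimeCore p G) g) (QuotientGroup.mk' (Cfsg.pPrimeCore p G) x) := by
      rw [mul_inv_eq_one, mul_inv_eq_iff_eq_mul] at h1
      exact h1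
    rw [mul_inv_eq_one, mul_inv_eq_iff_eq_mul]
    exact (h2.zpow_right i).eq.symm)
  have hcc : g * n ∈ Subgroup.centralizer ({x} : Set G) := by
    rw [Subgroup.mem_centralizer_singleton_iff]
    exact (Subgroup.mem_centralizer_iff.mp hc x (Subgroup.mem_zpowers x)).symm
  exact ⟨(g * n) * n⁻¹ * (g * n)⁻¹, hMn.conj_mem _ (inv_mem hn) _, g * n, hcc, by group⟩

theorem normal_case (hx : ∃ k : ℕ, orderOf x = p ^ k) (hz : Cfsg.InZStar p x) (hqp : q ≠ p) {Q : Subgroup G} [hQn : Q.Normal] (hQ : IsPGroup q Q)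
    (hmax : ∀ R : Subgroup G, IsPGroup q R → x ∈ Subgroup.normalizer (R : Set G) → Q ≤ R → R = Q) : ¬ q ∣ Q.index := by
  obtain ⟨M, hM⟩ : ∃ M : Subgroup G, M = Cfsg.pPrimeCore p G := ⟨_, rfl⟩
  haveI hMn : M.Normal := by rw [hM]; exact CfsgLib.Core.pPrimeCore_normal p G
  have hMo : (Nat.card M).Coprime p := by rw [hM]; exact CfsgLib.Core.card_pPrimeCore_coprime p G
  have hcopQ : (Nat.card Q).Coprime p := by
    obtain ⟨k, hk⟩ := (IsPGroup.iff_card).mp hQ
    rw [hk]
    exact Nat.Coprime.pow_left k ((Nat.coprime_primes hq.out hp.out).mpr hqp)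
  have hQM : Q ≤ M := by rw [hM]; exact CfsgLib.Core.le_pPrimeCore hQn hcopQ
  have hzQ : x ∈ Subgroup.normalizer (Q : Set G) := by rw [Subgroup.normalizer_eq_top]; exact Subgroup.mem_top x
  have hcop : CopAct (Subgroup.zpowers x) M := by
    refine ⟨?_, ?_, Or.inl inferInstance⟩
    · rw [Subgroup.normalizer_eq_top]; exact le_top
    · obtain ⟨k, hk⟩ := hx
      rw [Nat.card_zpowers, hk]
      exact (hMo.symm).pow_left k
  obtain ⟨P, hP, hQP, hPz⟩ := hcop.exists_isSyl_ge hQM hQ (Subgroup.zpowers_le.mpr hzQ)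
  have hPQ : P = Q := hmax P hP.isPGroup (hPz (Subgroup.mem_zpowers x)) hQP
  rw [hPQ] at hP
  obtain ⟨R, hR⟩ := exists_isSyl q (Subgroup.centralizer ({x} : Set G))
  have hRQ : R ≤ Q := by
    have h1 : IsPGroup q (Q ⊔ R : Subgroup G) := IsPGroup.to_sup_of_normal_left hQ hR.isPGroup
    have h2 : x ∈ Subgroup.normalizer ((Q ⊔ R : Subgroup G) : Set G) := by
      have h3 : x ∈ Subgroup.normalizer (R : Set G) := by
        apply Subgroup.centralizer_le_normalizer
        rw [Subgroup.mem_centralizer_iff]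
        intro y hy
        exact Subgroup.mem_centralizer_singleton_iff.mp (hR.1 hy)
      exact Subgroup.normalizer_inf_normalizer_le_normalizer_sup Q R (Subgroup.mem_inf.mpr ⟨hzQ, h3⟩)
    exact le_sup_right.trans (hmax _ h1 h2 le_sup_left).le
  have hsup : M ⊔ Subgroup.centralizer ({x} : Set G) = ⊤ := by
    rw [eq_top_iff]
    intro g _
    obtain ⟨n, hn, c, hc, rfl⟩ := exists_mul_of_inZStar hx hz g
    rw [← hM] at hn
    exact Subgroup.mul_mem_sup hn hc
  have hidx : M.index = M.relIndex (Subgroup.centralizer ({x} : Set G)) := by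
    rw [← Subgroup.relIndex_top_right, ← hsup, sup_comm, Subgroup.relIndex_sup_right]
  have h1 : Q.relIndex M * M.index = Q.index := Subgroup.relIndex_mul_index hQM
  rw [← h1]
  intro hd
  rcases (Nat.Prime.dvd_mul hq.out).mp hd with h2 | h2
  · have h3 : ¬ q ∣ (hP.toSylow : Subgroup M).index := Sylow.not_dvd_index _
    exact h3 h2
  · rw [hidx] at h2
    have h3 : ¬ q ∣ (hR.toSylow : Subgroup (Subgroup.centralizer ({x} : Set G))).index := Sylow.not_dvd_index _
    apply h3
    have h4 : M.relIndex (Subgroup.centralizer ({x} : Set G)) ∣ R.relIndex (Subgroup.centralizer ({x} : Set G)) :=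
      Subgroup.relIndex_dvd_of_le_left _ (hRQ.trans hQM)
    exact h2.trans h4

theorem isSylow_of_max (hx : ∃ k : ℕ, orderOf x = p ^ k) {Q : Subgroup G} (hQ : IsPGroup q Q) (hxQ : x ∈ Subgroup.normalizer (Q : Set G))
    (hz : Cfsg.InZStar p (⟨x, hxQ⟩ : Subgroup.normalizer (Q : Set G)))
    (hmax : ∀ R : Subgroup G, IsPGroup q R → x ∈ Subgroup.normalizer (R : Set G) → Q ≤ R → R = Q) : ∃ P : Sylow q G, (P : Subgroup G) = Q := by
  obtain ⟨P, hQP⟩ := hQ.exists_le_sylow
  refine ⟨P, ?_⟩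
  by_contra hne
  have hlt : Q < P := lt_of_le_of_ne hQP (Ne.symm hne)
  have h1 := exists_normalizer_gt P.isPGroup' hlt
  by_cases hqp : q = p
  · subst hqp
    have hzz : x ∈ Q := by
      have h2 : IsPGroup q (Q ⊔ Subgroup.zpowers x : Subgroup G) := by
        obtain ⟨k, hk⟩ := hx
        apply IsPGroup.to_sup_of_normal_left' hQ (IsPGroup.of_card (n := k) (by rw [Nat.card_zpowers, hk]))
        exact Subgroup.zpowers_le.mpr hxQ
      have h3 : x ∈ Q ⊔ Subgroup.zpowers x := (le_sup_right : Subgroup.zpowers x ≤ _) (Subgroup.mem_zpowers x)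
      rw [← hmax _ h2 (Subgroup.le_normalizer h3) le_sup_left]
      exact h3
    have h4 : IsPGroup q (P ⊓ Subgroup.normalizer (Q : Set G) : Subgroup G) := P.isPGroup'.to_le inf_le_left
    have h5 := hmax _ h4 (Subgroup.le_normalizer (h1.le hzz)) h1.le
    rw [h5] at h1
    exact lt_irrefl _ h1
  · have hQN : Q ≤ Subgroup.normalizer (Q : Set G) := Subgroup.le_normalizer
    haveI hQn : (Q.subgroupOf (Subgroup.normalizer (Q : Set G))).Normal := by
      rw [Subgroup.normal_subgroupOf_iff_le_normalizer hQN]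
    have hnd := normal_case (q := q) (x := (⟨x, hxQ⟩ : Subgroup.normalizer (Q : Set G))) (by
      obtain ⟨k, hk⟩ := hx
      exact ⟨k, by rw [Subgroup.orderOf_mk, hk]⟩) hz hqp (Q := Q.subgroupOf (Subgroup.normalizer (Q : Set G))) (hQ.comap_subtype) (by
      intro R hR hzR hle
      obtain ⟨N, hN⟩ : ∃ N, N = Subgroup.normalizer (Q : Set G) := ⟨_, rfl⟩
      have h2 : IsPGroup q (R.map (Subgroup.normalizer (Q : Set G)).subtype) := hR.map _
      have h3 : x ∈ Subgroup.normalizer ((R.map (Subgroup.normalizer (Q : Set G)).subtype : Subgroup G) : Set G) := by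
        rw [Subgroup.mem_normalizer_iff]
        intro y'
        constructor
        · rintro ⟨y, hy, rfl⟩
          exact ⟨⟨x, hxQ⟩ * y * ⟨x, hxQ⟩⁻¹, (Subgroup.mem_normalizer_iff.mp hzR y).mp hy, rfl⟩
        · rintro ⟨y, hy, hyx⟩
          refine ⟨⟨x, hxQ⟩⁻¹ * y * ⟨x, hxQ⟩, ?_, ?_⟩
          · apply (Subgroup.mem_normalizer_iff.mp hzR _).mpr
            have : (⟨x, hxQ⟩ : Subgroup.normalizer (Q : Set G)) * (⟨x, hxQ⟩⁻¹ * y * ⟨x, hxQ⟩) * (⟨x, hxQ⟩ : Subgroup.normalizer (Q : Set G))⁻¹ = y := by group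
            rw [this]; exact hy
          · show x⁻¹ * (Subgroup.normalizer (Q : Set G)).subtype y * x = y'
            rw [hyx]; group
      have h4 : Q ≤ R.map (Subgroup.normalizer (Q : Set G)).subtype := by
        intro y hy
        exact ⟨⟨y, hQN hy⟩, hle (Subgroup.mem_subgroupOf.mpr hy), rfl⟩
      have h5 := hmax _ h2 h3 h4
      ext y
      rw [Subgroup.mem_subgroupOf]
      constructor
      · intro hy
        exact h5.le ⟨y, hy, rfl⟩
      · intro hy
        obtain ⟨w, hw, hwy⟩ := h5.ge hy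
        rw [← Subtype.ext hwy]; exact hw)
    apply hnd
    have h6 : (P : Subgroup G) ⊓ Subgroup.normalizer (Q : Set G) ≤ Subgroup.normalizer (Q : Set G) := inf_le_right
    have h7 : Q.relIndex ((P : Subgroup G) ⊓ Subgroup.normalizer (Q : Set G)) * ((P : Subgroup G) ⊓ Subgroup.normalizer (Q : Set G)).relIndex (Subgroup.normalizer (Q : Set G)) = Q.relIndex (Subgroup.normalizer (Q : Set G)) := Subgroup.relIndex_mul_relIndex _ _ _ h1.le h6
    show q ∣ Q.relIndex (Subgroup.normalizer (Q : Set G))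
    rw [← h7]
    apply Dvd.dvd.mul_right
    have h8 : IsPGroup q ((P : Subgroup G) ⊓ Subgroup.normalizer (Q : Set G) : Subgroup G) := P.isPGroup'.to_le inf_le_left
    obtain ⟨k, hk⟩ := h8.index (Q.subgroupOf ((P : Subgroup G) ⊓ Subgroup.normalizer (Q : Set G)))
    have hk' : Q.relIndex ((P : Subgroup G) ⊓ Subgroup.normalizer (Q : Set G)) = q ^ k := hk
    rw [hk']
    rcases k with _ | k
    · exfalso
      rw [pow_zero, Subgroup.relIndex_eq_one] at hk'
      exact absurd h1 (not_lt_of_ge hk')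
    · rw [pow_succ]; exact dvd_mul_left _ _

theorem conj_sylow (hx : ∃ k : ℕ, orderOf x = p ^ k) (hiso : Cfsg.IsIsolated x) (P P' : Sylow q G)
    (hP : x ∈ Subgroup.normalizer ((P : Subgroup G) : Set G)) (hP' : x ∈ Subgroup.normalizer ((P' : Subgroup G) : Set G)) :
    ∃ c, c * x = x * c ∧ c • P = P' := by
  obtain ⟨g, hg⟩ := MulAction.exists_smul_eq G P P'
  have h1 : g⁻¹ * x * g⁻¹⁻¹ ∈ Subgroup.normalizer ((P : Subgroup G) : Set G) := by
    rw [Subgroup.mem_normalizer_iff]
    intro y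
    have hmem : ∀ y, y ∈ (P' : Subgroup G) ↔ g⁻¹ * y * g ∈ (P : Subgroup G) := by
      intro y
      rw [← hg]
      show y ∈ MulAut.conj g • (P : Subgroup G) ↔ _
      rw [Subgroup.mem_pointwise_smul_iff_inv_smul_mem, ← map_inv, MulAut.smul_def, MulAut.conj_apply, inv_inv]
    have h2 := Subgroup.mem_normalizer_iff.mp hP' (g * y * g⁻¹)
    rw [hmem, hmem] at h2
    have e1 : g⁻¹ * (g * y * g⁻¹) * g = y := by group
    have e2 : g⁻¹ * (x * (g * y * g⁻¹) * x⁻¹) * g = g⁻¹ * x * g⁻¹⁻¹ * y * (g⁻¹ * x * g⁻¹⁻¹)⁻¹ := by group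
    rw [e1, e2] at h2
    exact h2
  obtain ⟨w, hw, hwx⟩ := conj_inside hx hiso hP h1
  refine ⟨g * w, ?_, ?_⟩
  · have h3 : w * x = g⁻¹ * x * g * w := by
      calc w * x = (w * x * w⁻¹) * w := by group
        _ = (g⁻¹ * x * g⁻¹⁻¹) * w := by rw [hwx]
        _ = _ := by group
    rw [mul_assoc, h3]; group
  · rw [mul_smul, Sylow.smul_eq_iff_mem_normalizer.mpr hw, hg]

end

end CfsgLib.Isol
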