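import Mathlib
import Cfsg.Agent.Lib.BSetTate
import Cfsg.Agent.Lib.FusionZJ
import Cfsg.Agent.Lib.FusionAb
set_option autoImplicit false
set_option maxHeartbeats 400000

/-! Characteristic functors controlling transfer in fusion systems. -/

namespace CfsgLib.Fusion

open Cfsg Cfsg.FusionSystem CfsgLib.SylowIn CfsgLib.StronglyEmb
open scoped commutatorElement

section focN

variable {Ω : Type*} [Group Ω] {S : Subgroup Ω}

/-- the focal subgroup of the normalizer of `A` (for maps defined on overgroups of `A`). -/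
def focN (F : FusionSystem S) (A : Subgroup Ω) : Subgroup Ω :=
  Subgroup.closure {y | ∃ R f x, A ≤ R ∧ FMap F R f ∧ img A f = A ∧ x ∈ R ∧ y = x⁻¹ * f x}

theorem focN_mem {F : FusionSystem S} {A R : Subgroup Ω} {f : Ω → Ω} (hA : A ≤ R) (hf : FMap F R f)
    (hfA : img A f = A) {x : Ω} (hx : x ∈ R) : x⁻¹ * f x ∈ focN F A :=
  Subgroup.subset_closure ⟨R, f, x, hA, hf, hfA, hx, rfl⟩

theorem focN_le_iff {F : FusionSystem S} {A D : Subgroup Ω} : focN F A ≤ D ↔
    ∀ R f, A ≤ R → FMap F R f → img A f = A → ∀ x ∈ R, x⁻¹ * f x ∈ D := by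
  constructor
  · intro h R f hA hf hfA x hx
    exact h (focN_mem hA hf hfA hx)
  · intro h
    unfold focN
    rw [Subgroup.closure_le]
    rintro y ⟨R, f, x, hA, hf, hfA, hx, rfl⟩
    exact h R f hA hf hfA x hx

theorem focN_le_foc {F : FusionSystem S} {A : Subgroup Ω} : focN F A ≤ F.focalSubgroup := by
  rw [focN_le_iff]
  intro R f _ hf _ x hx
  exact foc_mem hf hx

theorem focN_mono {F E : FusionSystem S} {A : Subgroup Ω} (h : ∀ P f, FMap E P f → FMap F P f) :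
    focN E A ≤ focN F A := by
  rw [focN_le_iff]
  intro R f hA hf hfA x hx
  exact focN_mem hA (h R f hf) hfA hx

theorem commutator_le_focN [Finite S] {F : FusionSystem S} {A : Subgroup Ω} (hA : A ≤ S) (hN : normalizerIn S A = S) :
    ⁅S, S⁆ ≤ focN F A := by
  have : Finite A := finite_of_le hA
  rw [Subgroup.commutator_le]
  intro g hg h hh
  have hc : FMap F S (fun x => g * x * g⁻¹) := FMap.conj le_rfl hg
  have h1 : img A (fun x => g * x * g⁻¹) = A :=
    (hc.restrict hA).img_eq_of_mapsTo fun x hx => conj_mem_of_normalizerIn hN hg hx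
  have h2 := focN_mem hA hc h1 (S.inv_mem hh)
  have e : ⁅g, h⁆ = (h⁻¹⁻¹ * (g * h⁻¹ * g⁻¹))⁻¹ := by
    rw [commutatorElement_def]; group
  rw [e]
  exact Subgroup.inv_mem _ h2

theorem normSys_foc [Finite S] {F : FusionSystem S} {A : Subgroup Ω} (hA : A ≤ S) (hN : normalizerIn S A = S) :
    (normSys F A hA).focalSubgroup = focN F A := by
  apply le_antisymm
  · rw [foc_le_iff]
    intro P f hf x hx
    obtain ⟨h1, h2, h3, g, hg, hgP, hgA⟩ := FMap_normSys.1 hf
    have := focN_mem (le_sup_right : A ≤ P ⊔ A) hg hgA (le_sup_left (a := P) hx)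
    rwa [hgP x hx] at this
  · rw [focN_le_iff]
    intro R f hAR hf hfA x hx
    exact foc_mem (FMap_normSys_of_le (hQ := hA) hf hAR (by rw [hN]; exact hf.le) hfA) hx

/-- the subsystem of maps moving elements inside a coset of `D`. -/
noncomputable def inD (F : FusionSystem S) (D : Subgroup Ω) (hD : ⁅S, S⁆ ≤ D) : FusionSystem S :=
  FSData.toFS
    { M := fun P f => FMap F P f ∧ ∀ x ∈ P, x⁻¹ * f x ∈ D
      congr := by
        rintro P f g ⟨hf, h⟩ hfg
        exact ⟨hf.congr hfg, fun x hx => by rw [← hfg x hx]; exact h x hx⟩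
      le := fun h => ⟨h.1.le, fun x hx => h.1.mapsTo hx⟩
      hom := fun h x hx y hy => h.1.map_mul hx hy
      inj := fun h x hx y hy hxy => h.1.inj hx hy hxy
      conj := by
        intro P g hP hg
        refine ⟨FMap.conj hP hg, fun x hx => ?_⟩
        have e : x⁻¹ * (g * x * g⁻¹) = ⁅x⁻¹, g⁆ := by rw [commutatorElement_def]; group
        rw [e]
        exact hD (Subgroup.commutator_mem_commutator (S.inv_mem (hP hx)) hg)
      comp := by
        rintro P Q f g ⟨hf, h1⟩ ⟨hg, h2⟩ h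
        refine ⟨hf.comp hg h, fun x hx => ?_⟩
        have e : x⁻¹ * g (f x) = (x⁻¹ * f x) * ((f x)⁻¹ * g (f x)) := by group
        rw [e]
        exact D.mul_mem (h1 x hx) (h2 _ (h x hx))
      inv := by
        rintro P f ⟨hf, h1⟩
        obtain ⟨g, hg, hg1, hg2⟩ := hf.exists_inv
        refine ⟨g, ⟨hg, fun y hy => ?_⟩, hg1⟩
        obtain ⟨h3, h4⟩ := hg2 y hy
        have h5 := D.inv_mem (h1 (g y) h3)
        rw [h4] at h5
        have e : y⁻¹ * g y = ((g y)⁻¹ * y)⁻¹ := by group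
        rw [e]; exact h5 }

theorem FMap_inD {F : FusionSystem S} {D : Subgroup Ω} {hD : ⁅S, S⁆ ≤ D} {P : Subgroup Ω} {f : Ω → Ω} :
    FMap (inD F D hD) P f ↔ FMap F P f ∧ ∀ x ∈ P, x⁻¹ * f x ∈ D := FMap_toFS _

end focN

universe u

/-- group level: an element of `T ∩ N'` lies in the focal subgroup of the normalizer. -/
theorem realized_focN {p : ℕ} [Fact p.Prime] {Ω : Type u} [Group Ω] {S : Subgroup Ω} [Finite S] {F : FusionSystem S}
    {G : Type*} [Group G] [Finite G] {ι : S →* G} (hreal : F.IsRealizedBy ι) (T : Sylow p G) (hT : (T : Subgroup G) = ι.range)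
    {A : Subgroup Ω} (hA : A ≤ S) (hN : normalizerIn S A = S) (y : S)
    (hy : ι y ∈ (commutator ↥(Subgroup.normalizer (((A.subgroupOf S).map ι : Subgroup G) : Set G))).map
      (Subgroup.normalizer (((A.subgroupOf S).map ι : Subgroup G) : Set G)).subtype) : (y : Ω) ∈ focN F A := by
  classical
  set K := Subgroup.normalizer (((A.subgroupOf S).map ι : Subgroup G) : Set G) with hK
  have hAf : Finite A := finite_of_le hA
  have hTK : (T : Subgroup G) ≤ K := by
    rw [hT]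
    rintro _ ⟨s, rfl⟩
    rw [hK, Subgroup.mem_normalizer_iff]
    have key : ∀ s : S, ∀ h ∈ (A.subgroupOf S).map ι, ι s * h * (ι s)⁻¹ ∈ (A.subgroupOf S).map ι := by
      rintro s _ ⟨a, ha, rfl⟩
      refine ⟨s * a * s⁻¹, ?_, by simp⟩
      exact conj_mem_of_normalizerIn hN s.2 ha
    intro h
    refine ⟨key s h, fun h1 => ?_⟩
    have h2 := key s⁻¹ _ h1
    have e : ι s⁻¹ * (ι s * h * (ι s)⁻¹) * (ι s⁻¹)⁻¹ = h := by rw [map_inv]; group
    rwa [e] at h2
  let T' : Sylow p K := T.subtype hTK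
  have hT' : (T' : Subgroup K) = (T : Subgroup G).subgroupOf K := rfl
  obtain ⟨k, hk, hky⟩ := hy
  have hkT : k ∈ (T' : Subgroup K) := by
    rw [hT', Subgroup.mem_subgroupOf, hT]
    have : (k : G) = ι y := hky
    rw [this]; exact ⟨y, rfl⟩
  have hkf : k ∈ (T' : Subgroup K).focalSubgroup := by
    rw [← Subgroup.commutator_inf_eq_focalSubgroup]; exact ⟨hk, hkT⟩
  -- target subgroup
  have hle : (T' : Subgroup K).focalSubgroup ≤ (((focN F A).subgroupOf S).map ι).comap K.subtype := by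
    rw [Subgroup.focalSubgroup_def, Subgroup.closure_le]
    rintro g ⟨hg, x, hx, u, rfl⟩
    have hxT : (x : G) ∈ ι.range := by
      have : x ∈ (T : Subgroup G).subgroupOf K := hx
      rw [Subgroup.mem_subgroupOf, hT] at this; exact this
    obtain ⟨x₀, hx₀⟩ := hxT
    have hgT : ((⁅x, u⁆ : K) : G) ∈ ι.range := by
      have : ⁅x, u⁆ ∈ (T : Subgroup G).subgroupOf K := hg
      rw [Subgroup.mem_subgroupOf, hT] at this; exact this
    obtain ⟨g₀, hg₀⟩ := hgT
    -- conjugation by `u` on `A ⊔ ⟨x₀⟩`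
    have hRS : A ⊔ Subgroup.zpowers (x₀ : Ω) ≤ S := sup_le hA (by rw [Subgroup.zpowers_le]; exact x₀.2)
    have hcon : ∀ x (hx : x ∈ A ⊔ Subgroup.zpowers (x₀ : Ω)), ∃ y, ∃ hy : y ∈ S, (u : G) * ι ⟨x, hRS hx⟩ * (u : G)⁻¹ = ι ⟨y, hy⟩ := by
      have hmem : A ⊔ Subgroup.zpowers (x₀ : Ω) ≤ ((ι.range.comap (MulAut.conj (u : G)).toMonoidHom).comap ι).map S.subtype := by
        rw [sup_le_iff, Subgroup.zpowers_le]
        constructor
        · intro a ha
          refine ⟨⟨a, hA ha⟩, ?_, rfl⟩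
          show (u : G) * ι ⟨a, hA ha⟩ * (u : G)⁻¹ ∈ ι.range
          obtain ⟨b, -, hb⟩ := (Subgroup.mem_normalizer_iff.1 u.2 (ι ⟨a, hA ha⟩)).1 ⟨⟨a, hA ha⟩, ha, rfl⟩
          exact ⟨b, hb⟩
        · refine ⟨x₀, ?_, rfl⟩
          show (u : G) * ι x₀ * (u : G)⁻¹ ∈ ι.range
          refine ⟨g₀⁻¹ * x₀, ?_⟩
          rw [map_mul, map_inv, hg₀, hx₀]
          show ((⁅x, u⁆ : K) : G)⁻¹ * (x : G) = _
          have : ((⁅x, u⁆ : K) : G) = (x : G) * u * (x : G)⁻¹ * (u : G)⁻¹ := rfl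
          rw [this]
          group
      intro x hx
      obtain ⟨z, hz, hzx⟩ := hmem hx
      obtain ⟨w, hw⟩ := hz
      have : z = ⟨x, hRS hx⟩ := Subtype.ext hzx
      subst this
      exact ⟨w, w.2, hw.symm⟩
    obtain ⟨f, hf, hfι⟩ := IsRealizedBy.exists_FMap hreal hRS (u : G) hcon
    have hfA : img A f = A := by
      apply (hf.restrict le_sup_left).img_eq_of_mapsTo
      intro a ha
      have haR : a ∈ A ⊔ Subgroup.zpowers (x₀ : Ω) := Subgroup.mem_sup_left ha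
      obtain ⟨b, hb, hb2⟩ := (Subgroup.mem_normalizer_iff.1 u.2 (ι ⟨a, hA ha⟩)).1 ⟨⟨a, hA ha⟩, ha, rfl⟩
      have h1 := hfι a haR (hf.mapsTo haR)
      have h2 : (⟨f a, hf.mapsTo haR⟩ : S) = b := hreal.1 (h1.trans hb2.symm)
      have h3 : f a = (b : Ω) := congrArg Subtype.val h2
      rw [h3]; exact hb
    have hxR : (x₀ : Ω)⁻¹ ∈ A ⊔ Subgroup.zpowers (x₀ : Ω) :=
      Subgroup.inv_mem _ (Subgroup.mem_sup_right (Subgroup.mem_zpowers _))
    have h1 := focN_mem le_sup_left hf hfA hxR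
    refine ⟨x₀ * ⟨f (x₀ : Ω)⁻¹, hf.mapsTo hxR⟩, ?_, ?_⟩
    · show (x₀ : Ω) * f (x₀ : Ω)⁻¹ ∈ focN F A
      rwa [inv_inv] at h1
    · rw [map_mul, hfι _ hxR (hf.mapsTo hxR)]
      have h2 : (⟨(x₀ : Ω)⁻¹, hRS hxR⟩ : S) = x₀⁻¹ := rfl
      rw [h2, map_inv, hx₀]
      show (x : G) * ((u : G) * (x : G)⁻¹ * (u : G)⁻¹) = (x : G) * u * (x : G)⁻¹ * (u : G)⁻¹
      group
  obtain ⟨z, hz, hzy⟩ := hle hkf
  have h1 : z = y := hreal.1 (hzy.trans hky)
  rw [← h1]; exact hz

/-- elements of the focal subgroup of a realized system are in the commutator subgroup -/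
theorem realized_foc {Ω : Type u} [Group Ω] {S : Subgroup Ω} {F : FusionSystem S}
    {G : Type*} [Group G] {ι : S →* G} (hreal : F.IsRealizedBy ι) (y : S) (hy : (y : Ω) ∈ F.focalSubgroup) :
    ι y ∈ commutator G := by
  have hle : F.focalSubgroup ≤ ((commutator G).comap ι).map S.subtype := by
    rw [foc_le_iff]
    intro P f hf x hx
    obtain ⟨g, hg⟩ := ((isRealizedBy_iff.1 hreal).2 P hf.le f (fun x hx => hf.mapsTo hx)).1 hf
    refine ⟨⟨x, hf.le hx⟩⁻¹ * ⟨f x, hf.mapsTo hx⟩, ?_, rfl⟩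
    show ι (⟨x, hf.le hx⟩⁻¹ * ⟨f x, hf.mapsTo hx⟩) ∈ commutator G
    rw [map_mul, map_inv, hg x hx]
    have e : (ι ⟨x, hf.le hx⟩)⁻¹ * (g * ι ⟨x, hf.le hx⟩ * g⁻¹) = ⁅(ι ⟨x, hf.le hx⟩)⁻¹, g⁆ := by
      rw [commutatorElement_def]; group
    rw [e]
    exact Subgroup.commutator_mem_commutator (Subgroup.mem_top _) (Subgroup.mem_top _)
  obtain ⟨z, hz, hzy⟩ := hle hy
  have : z = y := Subtype.ext hzy
  rw [← this]; exact hz

end CfsgLib.Fusion
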