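import Cfsg.Agent.Lib.H9PComp
import Cfsg.Agent.Lib.Linear
set_option autoImplicit false

/-! centralizers of reflections in GL. -/

namespace CfsgLib.H9GL

open Subgroup Matrix

universe u v

theorem hasComponent_of {G : Type u} [Group G] [Finite G] {S : Type v} [Group S] (hS : Cfsg.IsQuasisimple S)
    (hev : 2 ∣ Nat.card S) (t : G) (φ : S →* G) (hφ : Function.Injective φ) (h1 : ∀ s, φ s ∈ centralizer ({t} : Set G))
    (h2 : ∀ g ∈ centralizer ({t} : Set G), ∀ s, ∃ s', g * φ s * g⁻¹ = φ s') :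
    Cfsg.HasComponent ((centralizer ({t} : Set G)) ⧸ Cfsg.oddCore (centralizer ({t} : Set G))) := by
  haveI : Fact (Nat.Prime 2) := ⟨Nat.prime_two⟩
  set C := centralizer ({t} : Set G) with hC
  let ψ : S →* C := φ.codRestrict C h1
  have hψ : Function.Injective ψ := fun a b h => hφ (congrArg Subtype.val h)
  have hn : ψ.range.Normal := by
    refine ⟨?_⟩
    rintro _ ⟨s, rfl⟩ g
    obtain ⟨s', hs'⟩ := h2 g g.2 s
    exact ⟨s', Subtype.ext hs'.symm⟩
  have hcomp : Cfsg.IsComponent ψ.range :=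
    ⟨Normal.isSubnormal hn, CfsgLib.Comp.qs_congr (MonoidHom.ofInjective hψ) hS⟩
  haveI : (Cfsg.oddCore C).Normal := CfsgLib.Core.pPrimeCore_normal 2 C
  have h3 : ¬ ψ.range ≤ Cfsg.oddCore C := by
    intro h
    have h4 := card_dvd_of_le h
    rw [← Nat.card_congr (MonoidHom.ofInjective hψ).toEquiv] at h4
    have h5 := CfsgLib.Core.card_pPrimeCore_coprime 2 C
    exact (Nat.Prime.coprime_iff_not_dvd Nat.prime_two).1 h5.symm (hev.trans h4)
  exact ⟨_, CfsgLib.Comp.component_quotient _ hcomp h3⟩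

variable {F : Type u} [Field F]

theorem sl_qs [Finite F] (m : ℕ) (hm : 2 ≤ m) (h : ¬ (m = 2 ∧ Nat.card F ≤ 3)) : Cfsg.IsQuasisimple (SpecialLinearGroup (Fin m) F) := by
  have hc : commutator (SpecialLinearGroup (Fin m) F) = ⊤ := by
    rcases Nat.lt_or_ge 2 m with h3 | h3
    · exact CfsgLib.Linear.commutator_SL_eq_top (by rw [Fintype.card_fin]; exact h3)
    · have hm2 : m = 2 := by omega
      subst hm2
      have hF : 4 ≤ Nat.card F := by
        by_contra h4
        exact h ⟨rfl, by omega⟩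
      obtain ⟨a, ha, ha2⟩ : ∃ a : F, a ≠ 0 ∧ a ^ 2 ≠ 1 := by
        obtain ⟨x, hx⟩ : IsCyclic Fˣ := inferInstance
        refine ⟨x, Units.ne_zero x, fun h => ?_⟩
        have h1 : x ^ 2 = 1 := Units.ext (by simpa using h)
        have h2 : orderOf x ∣ 2 := orderOf_dvd_of_pow_eq_one h1
        rw [orderOf_eq_card_of_forall_mem_zpowers hx, Nat.card_units] at h2
        have := Nat.le_of_dvd (by norm_num) h2
        omega
      exact SL2.commutator_eq_top ha ha2
  haveI : Nontrivial (Fin m) := Fin.nontrivial_iff_two_le.2 hm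
  exact ⟨⟨hc⟩, CfsgLib.Linear.isSimpleGroup_PSL hc⟩

theorem sl_even [Finite F] (m : ℕ) (hm : 2 ≤ m) (h2 : (2 : F) ≠ 0) : 2 ∣ Nat.card (SpecialLinearGroup (Fin m) F) := by
  obtain ⟨k, rfl⟩ : ∃ k, m = k + 2 := ⟨m - 2, by omega⟩
  let d : Fin (k + 2) → F := Fin.cons (-1) (Fin.cons (-1) (fun _ => 1))
  have hd : ∀ i, d i * d i = 1 := by
    intro i
    refine Fin.cases ?_ (fun j => ?_) i
    · simp [d]
    · refine Fin.cases ?_ (fun l => ?_) j
      · simp [d]
      · simp [d]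
  let A : SpecialLinearGroup (Fin (k + 2)) F := ⟨diagonal d, by
    rw [det_diagonal, Fin.prod_univ_succ, Fin.prod_univ_succ]
    simp [d]⟩
  have hA : A * A = 1 := by
    apply Subtype.ext
    show diagonal d * diagonal d = 1
    rw [diagonal_mul_diagonal, ← diagonal_one]
    congr 1
    funext i; exact hd i
  have hA1 : A ≠ 1 := by
    intro h
    have h1 := congrArg (fun B : SpecialLinearGroup (Fin (k + 2)) F => B.1 0 0) h
    have h3 : (-1 : F) = 1 := by simpa [A, d] using h1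
    apply h2
    calc (2 : F) = 1 - (-1) := by ring
      _ = 0 := by rw [h3]; ring
  have ho : orderOf A = 2 := orderOf_eq_prime (by rw [pow_two]; exact hA) hA1
  exact (dvd_of_eq ho.symm).trans (_root_.orderOf_dvd_natCard A)

/-- the reflection -/
def refl (m : ℕ) : GL (Fin 1 ⊕ Fin m) F :=
  ⟨fromBlocks (-1) 0 0 1, fromBlocks (-1) 0 0 1, by rw [fromBlocks_multiply]; simp [fromBlocks_one], by rw [fromBlocks_multiply]; simp [fromBlocks_one]⟩

def emb (m : ℕ) : SpecialLinearGroup (Fin m) F →* GL (Fin 1 ⊕ Fin m) F :=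
  MonoidHom.mk' (fun A => ⟨fromBlocks 1 0 0 A.1, fromBlocks 1 0 0 (A⁻¹).1, by
    rw [fromBlocks_multiply]
    have : A.1 * (A⁻¹).1 = 1 := congrArg Subtype.val (mul_inv_cancel A)
    rw [this]; simp [fromBlocks_one], by
    rw [fromBlocks_multiply]
    have : (A⁻¹).1 * A.1 = 1 := congrArg Subtype.val (inv_mul_cancel A)
    rw [this]; simp [fromBlocks_one]⟩) (by
    intro A B
    apply Units.ext
    show fromBlocks 1 0 0 (A.1 * B.1) = fromBlocks 1 0 0 A.1 * fromBlocks 1 0 0 B.1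
    rw [fromBlocks_multiply]
    simp)

theorem emb_inj (m : ℕ) : Function.Injective (emb m : SpecialLinearGroup (Fin m) F →* GL (Fin 1 ⊕ Fin m) F) := by
  intro A B h
  have h1 : fromBlocks (1 : Matrix (Fin 1) (Fin 1) F) 0 0 A.1 = fromBlocks 1 0 0 B.1 := congrArg Units.val h
  exact Subtype.ext (fromBlocks_inj.1 h1).2.2.2

theorem refl_sq (m : ℕ) : (refl m : GL (Fin 1 ⊕ Fin m) F) * refl m = 1 := by
  apply Units.ext
  show fromBlocks (-1) 0 0 1 * fromBlocks (-1) 0 0 1 = (1 : Matrix (Fin 1 ⊕ Fin m) (Fin 1 ⊕ Fin m) F)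
  rw [fromBlocks_multiply]; simp [fromBlocks_one]

theorem emb_cent (m : ℕ) (A : SpecialLinearGroup (Fin m) F) : emb m A * refl m = refl m * emb m A := by
  apply Units.ext
  show fromBlocks 1 0 0 A.1 * fromBlocks (-1) 0 0 1 = fromBlocks (-1) 0 0 1 * fromBlocks 1 0 0 A.1
  rw [fromBlocks_multiply, fromBlocks_multiply]; simp

theorem blocks (m : ℕ) (h2 : (2 : F) ≠ 0) {g : GL (Fin 1 ⊕ Fin m) F} (hg : g * refl m = refl m * g) :
    ∃ a d, g.1 = fromBlocks a 0 0 d := by
  refine ⟨g.1.toBlocks₁₁, g.1.toBlocks₂₂, ?_⟩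
  have h1 : g.1 * fromBlocks (-1) 0 0 1 = fromBlocks (-1) 0 0 1 * g.1 := congrArg Units.val hg
  rw [← fromBlocks_toBlocks g.1, fromBlocks_multiply, fromBlocks_multiply] at h1
  obtain ⟨-, h12, h21, -⟩ := fromBlocks_inj.1 h1
  simp only [Matrix.mul_zero, Matrix.mul_one, zero_add, Matrix.neg_mul, Matrix.one_mul, Matrix.zero_mul, add_zero, Matrix.mul_neg] at h12 h21
  have h3 : g.1.toBlocks₁₂ = 0 := by
    ext i j
    have := congrFun (congrFun h12 i) j
    simp only [Matrix.neg_apply] at this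
    have h4 : (2 : F) * g.1.toBlocks₁₂ i j = 0 := by linear_combination this
    exact (mul_eq_zero.1 h4).resolve_left h2
  have h4 : g.1.toBlocks₂₁ = 0 := by
    ext i j
    have := congrFun (congrFun h21 i) j
    simp only [Matrix.neg_apply] at this
    have h4 : (2 : F) * g.1.toBlocks₂₁ i j = 0 := by linear_combination -this
    exact (mul_eq_zero.1 h4).resolve_left h2
  conv_lhs => rw [← fromBlocks_toBlocks g.1]
  rw [h3, h4]

theorem emb_conj (m : ℕ) (h2 : (2 : F) ≠ 0) {g : GL (Fin 1 ⊕ Fin m) F} (hg : g * refl m = refl m * g) (A : SpecialLinearGroup (Fin m) F) :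
    ∃ B, g * emb m A * g⁻¹ = emb m B := by
  obtain ⟨a, d, h1⟩ := blocks m h2 hg
  have hg' : g⁻¹ * refl m = refl m * g⁻¹ := by
    calc g⁻¹ * refl m = g⁻¹ * (refl m * g) * g⁻¹ := by group
      _ = g⁻¹ * (g * refl m) * g⁻¹ := by rw [hg]
      _ = _ := by group
  obtain ⟨a', d', h1'⟩ := blocks m h2 hg'
  have h3 : g.1 * (g⁻¹).1 = 1 := congrArg Units.val (mul_inv_cancel g)
  rw [h1, h1', fromBlocks_multiply, ← fromBlocks_one] at h3
  obtain ⟨h4, -, -, h5⟩ := fromBlocks_inj.1 h3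
  simp only [Matrix.mul_zero, add_zero, zero_add] at h4 h5
  refine ⟨⟨d * A.1 * d', ?_⟩, ?_⟩
  · rw [det_mul, det_mul, A.2, mul_one, ← det_mul, h5, det_one]
  · apply Units.ext
    show g.1 * fromBlocks 1 0 0 A.1 * (g⁻¹).1 = fromBlocks 1 0 0 (d * A.1 * d')
    rw [h1, h1', fromBlocks_multiply, fromBlocks_multiply]
    simp [h4]

theorem main [Finite F] (hF : (2 : F) ≠ 0) (m : ℕ) (hm : 2 ≤ m) (h33 : ¬ (m = 2 ∧ Nat.card F ≤ 3)) :
    ∃ t : GL (Fin (1 + m)) F, orderOf t = 2 ∧ t ∉ Subgroup.center (GL (Fin (1 + m)) F) ∧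
      Cfsg.HasComponent (↥(Subgroup.centralizer ({t} : Set (GL (Fin (1 + m)) F))) ⧸ Cfsg.oddCore ↥(Subgroup.centralizer ({t} : Set (GL (Fin (1 + m)) F)))) := by
  classical
  let e : GL (Fin 1 ⊕ Fin m) F ≃* GL (Fin (1 + m)) F := Units.mapEquiv (Matrix.reindexAlgEquiv F F finSumFinEquiv).toMulEquiv
  haveI : Finite (GL (Fin (1 + m)) F) := inferInstance
  have ht1 : (refl m : GL (Fin 1 ⊕ Fin m) F) ≠ 1 := by
    intro h
    have h1 : fromBlocks (-1 : Matrix (Fin 1) (Fin 1) F) 0 0 (1 : Matrix (Fin m) (Fin m) F) = 1 := congrArg Units.val h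
    rw [← fromBlocks_one] at h1
    have h2 := congrFun (congrFun (fromBlocks_inj.1 h1).1 0) 0
    simp only [Matrix.neg_apply, Matrix.one_apply_eq] at h2
    apply hF
    calc (2 : F) = 1 - (-1) := by ring
      _ = 0 := by rw [h2]; ring
  refine ⟨e (refl m), ?_, ?_, ?_⟩
  · rw [MulEquiv.orderOf_eq]
    exact orderOf_eq_prime (by rw [pow_two]; exact refl_sq m) ht1
  · intro h
    rw [mem_center_iff] at h
    -- a non commuting element
    let b : Matrix (Fin 1) (Fin m) F := fun _ _ => 1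
    let u : GL (Fin 1 ⊕ Fin m) F := ⟨fromBlocks 1 b 0 1, fromBlocks 1 (-b) 0 1, by
      rw [fromBlocks_multiply]; simp [fromBlocks_one], by rw [fromBlocks_multiply]; simp [fromBlocks_one]⟩
    have h1 := h (e u)
    rw [← map_mul, ← map_mul] at h1
    have h2 := e.injective h1
    obtain ⟨a, d, h3⟩ := blocks m hF h2
    have h4 : fromBlocks 1 b 0 1 = fromBlocks a 0 0 d := h3
    have h5 := congrFun (congrFun (fromBlocks_inj.1 h4).2.1 0) ⟨0, by omega⟩
    simp [b] at h5
  · apply hasComponent_of (sl_qs (F := F) m hm h33) (sl_even m hm hF) (e (refl m)) (e.toMonoidHom.comp (emb m)) (e.injective.comp (emb_inj m))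
    · intro s
      rw [mem_centralizer_singleton_iff]
      show e (emb m s) * e (refl m) = e (refl m) * e (emb m s)
      rw [← map_mul, ← map_mul, emb_cent]
    · intro g hg s
      obtain ⟨g, rfl⟩ := e.surjective g
      rw [mem_centralizer_singleton_iff, ← map_mul, ← map_mul] at hg
      obtain ⟨B, hB⟩ := emb_conj m hF (e.injective hg) s
      refine ⟨B, ?_⟩
      show e g * e (emb m s) * (e g)⁻¹ = e (emb m B)
      rw [← map_mul, ← map_inv, ← map_mul, hB]

end CfsgLib.H9GL
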