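import Cfsg.Agent.Lib.FusionNS6
import Cfsg.Agent.Lib.FusionExt2
/-!
A criterion for the simplicity of the fusion system of a group (of Lie type in its own characteristic).
-/
set_option autoImplicit false
set_option maxHeartbeats 400000

namespace CfsgLib.H9LF

open Cfsg Cfsg.FusionSystem CfsgLib.Fusion CfsgLib.SylowIn

variable {G : Type*} [Group G]

/-- products of `p`-elements normalizing a centric normal subgroup of `S` -/
def Adm (p : ℕ) (S : Subgroup G) : Set G :=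
  {g | g ∈ Subgroup.normalizer (S : Set G) ∧ ∃ Q : Subgroup G, Q ≤ S ∧ S ≤ Subgroup.normalizer (Q : Set G) ∧
    (∀ x ∈ S, (∀ y ∈ Q, x * y = y * x) → x ∈ Q) ∧
    g ∈ Subgroup.closure {y | y ∈ Subgroup.normalizer (Q : Set G) ∧ ∃ k : ℕ, y ^ p ^ k = 1}}

theorem fn_normal {S : Subgroup G} [Finite S] (F : FusionSystem S) {Q : Subgroup G} (hQ : Q ≤ S)
    (h : S ≤ Subgroup.normalizer (Q : Set G)) : F.IsFullyNormalized Q := by
  refine ⟨hQ, fun P hP => ?_⟩
  have h1 : normalizerIn S Q = S := inf_eq_left.2 h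
  rw [h1]
  exact Subgroup.card_le_of_le inf_le_left

theorem mem_norm {Q : Subgroup G} {g x : G} (hg : g ∈ Subgroup.normalizer (Q : Set G)) (hx : x ∈ Q) : g * x * g⁻¹ ∈ Q :=
  (Subgroup.mem_normalizer_iff.1 hg x).1 hx

/-- the elements of `N_G(Q)` inducing maps of `E` on `Q` -/
def Ind {S : Subgroup G} [Finite S] (E : FusionSystem S) (Q : Subgroup G) (hQ : Q ≤ S) : Subgroup G where
  carrier := {g | g ∈ Subgroup.normalizer (Q : Set G) ∧ FMap E Q (fun x => g * x * g⁻¹)}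
  one_mem' := ⟨Subgroup.one_mem _, FMap.conj hQ S.one_mem⟩
  mul_mem' := by
    rintro a b ⟨ha, ha'⟩ ⟨hb, hb'⟩
    refine ⟨Subgroup.mul_mem _ ha hb, ?_⟩
    refine (hb'.comp ha' fun x hx => mem_norm hb hx).congr fun x hx => ?_
    group
  inv_mem' := by
    rintro a ⟨ha, ha'⟩
    refine ⟨Subgroup.inv_mem _ ha, ?_⟩
    have hQf : Finite Q := finite_of_le hQ
    obtain ⟨b, hb, hb1, hb2, hb3⟩ := ha'.exists_inv_aut fun x hx => mem_norm ha hx
    refine hb.congr fun x hx => ?_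
    have h1 := hb3 x hx
    have h2 : a * b x * a⁻¹ = x := h1
    calc b x = a⁻¹ * (a * b x * a⁻¹) * a := by group
      _ = a⁻¹ * x * a⁻¹⁻¹ := by rw [h2, inv_inv]

theorem ind_of_pow {S : Subgroup G} [Finite S] {p : ℕ} [Fact p.Prime] (hS : IsPGroup p S) {F E : FusionSystem S}
    (hF : F.IsSaturated p) (hE : E.IsInvariantIn F) {Q : Subgroup G} (hQ : Q ≤ S)
    (hn : S ≤ Subgroup.normalizer (Q : Set G)) {y : G} (hy : y ∈ Subgroup.normalizer (Q : Set G))
    (hyF : FMap F Q (fun x => y * x * y⁻¹)) {k : ℕ} (hk : y ^ p ^ k = 1) : y ∈ Ind E Q hQ := by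
  refine ⟨hy, ?_⟩
  have hα : conjAut Q y hy ∈ F.autGroup Q := mem_autGroup_of_FMap _ hyF fun x => rfl
  have hpow : ∀ n : ℕ, ∀ x : Q, (((conjAut Q y hy) ^ n) x : G) = y ^ n * x * (y ^ n)⁻¹ := by
    intro n
    induction n with
    | zero => intro x; simp
    | succ n ih =>
      intro x
      rw [pow_succ, MulAut.mul_apply, ih, conjAut_apply, pow_succ]
      group
  have hαk : (conjAut Q y hy) ^ p ^ k = 1 := by
    ext x
    rw [hpow, hk]
    simp
  have h := mem_of_pow_aut hS hF hE (fn_normal F hQ hn) hα hαk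
  rw [mem_autGroup_iff' hQ] at h
  refine h.congr fun x hx => ?_
  rw [aext_of_mem _ hx]
  rfl

/-- an automorphism of `S` trivial on a centric normal subgroup is a `p`-element -/
theorem pow_of_trivial {S : Subgroup G} [Finite S] {p : ℕ} [Fact p.Prime] (hS : IsPGroup p S) {Q : Subgroup G} (hQ : Q ≤ S)
    (hn : S ≤ Subgroup.normalizer (Q : Set G)) (hc : ∀ x ∈ S, (∀ y ∈ Q, x * y = y * x) → x ∈ Q) (α : MulAut S)
    (hα : ∀ x : S, (x : G) ∈ Q → α x = x) : ∃ k : ℕ, α ^ p ^ k = 1 := by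
  have h1 : ∀ x : S, ((x⁻¹ * α x : S) : G) ∈ Q := by
    intro x
    apply hc _ (x⁻¹ * α x).2
    intro y hy
    have hxy : ((x : G) * y * (x : G)⁻¹) ∈ Q := mem_norm (hn x.2) hy
    have h2 := hα (x * ⟨y, hQ hy⟩ * x⁻¹) hxy
    rw [map_mul, map_mul, map_inv, hα ⟨y, hQ hy⟩ hy] at h2
    have h3 : (α x : G) * y * (α x : G)⁻¹ = x * y * (x : G)⁻¹ := congrArg Subtype.val h2
    show (x : G)⁻¹ * (α x : G) * y = y * ((x : G)⁻¹ * (α x : G))
    calc (x : G)⁻¹ * (α x : G) * y = (x : G)⁻¹ * ((α x : G) * y * (α x : G)⁻¹) * (α x : G) := by group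
      _ = y * ((x : G)⁻¹ * (α x : G)) := by rw [h3]; group
  have h2 : ∀ (n : ℕ) (x : S), (α ^ n) x = x * (x⁻¹ * α x) ^ n := by
    intro n
    induction n with
    | zero => intro x; simp
    | succ n ih =>
      intro x
      rw [pow_succ', MulAut.mul_apply, ih, map_mul, map_pow, hα _ (h1 x), pow_succ' (x⁻¹ * α x) n, ← mul_assoc,
        mul_inv_cancel_left]
  obtain ⟨k, hk⟩ := IsPGroup.iff_card.1 hS
  refine ⟨k, ?_⟩
  ext x
  rw [h2, ← hk, pow_card_eq_one', mul_one]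
  rfl

theorem ind_of_adm {S : Subgroup G} [Finite S] {p : ℕ} [Fact p.Prime] (hS : IsPGroup p S) {F E : FusionSystem S}
    (hF : F.IsSaturated p) (hE : E.IsInvariantIn F) (hEs : E.IsSaturated p)
    (hfus : ∀ Q : Subgroup G, Q ≤ S → ∀ g : G, (∀ x ∈ Q, g * x * g⁻¹ ∈ S) → FMap F Q (fun x => g * x * g⁻¹))
    {g : G} (hg : g ∈ Adm p S) : g ∈ Ind E S le_rfl := by
  obtain ⟨hgS, Q, hQ, hn, hc, hcl⟩ := hg
  refine ⟨hgS, ?_⟩
  have hQf : Finite Q := finite_of_le hQ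
  have h1 : g ∈ Ind E Q hQ := by
    refine (Subgroup.closure_le _).2 ?_ hcl
    rintro y ⟨hy, k, hk⟩
    exact ind_of_pow hS hF hE hQ hn hy (hfus Q hQ y fun x hx => hQ (mem_norm hy hx)) hk
  obtain ⟨hgQ, hgE⟩ := h1
  have hr := (Saturated.of_fullyNormalized hS hEs (fn_normal E hQ hn)).2
  have himg : img Q (fun x => g * x * g⁻¹) = Q := hgE.img_eq_of_mapsTo fun x hx => mem_norm hgQ hx
  obtain ⟨f, hf, hfg⟩ := receptive_extend hr hgE himg (N := S) (by
    intro s hs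
    refine ⟨hs, fun x hx => mem_norm (hn hs) hx, g * s * g⁻¹, mem_norm hgS hs, fun x hx => ?_⟩
    group)
  have hfS : ∀ x ∈ S, f x ∈ S := fun x hx => hf.mapsTo hx
  obtain ⟨b, hb, hbS, hb1, hb2⟩ := hf.exists_inv_aut hfS
  -- `b ∘ c_g` is trivial on `Q`
  have hgF : FMap F S (fun x => g * x * g⁻¹) := hfus S le_rfl g fun x hx => mem_norm hgS hx
  have hbF : FMap F S b := subsystem_iff.1 hE.1 S b hb
  have hd : FMap F S (fun x => b (g * x * g⁻¹)) := hgF.comp hbF fun x hx => mem_norm hgS hx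
  obtain ⟨α, hα, hαx⟩ := hd.exists_aut_of_mapsTo fun x hx => hbS _ (mem_norm hgS hx)
  have hαQ : ∀ x : S, (x : G) ∈ Q → α x = x := by
    intro x hx
    apply Subtype.ext
    rw [hαx]
    have h3 := hfg x hx
    rw [← h3]
    exact hb1 x x.2
  obtain ⟨k, hk⟩ := pow_of_trivial hS hQ hn hc α hαQ
  have h4 := mem_of_pow_aut hS hF hE (fn_normal F le_rfl Subgroup.le_normalizer) hα hk
  rw [mem_autGroup_iff' le_rfl] at h4
  have h5 := h4.comp hf fun x hx => by rw [aext_of_mem _ hx]; exact (α _).2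
  refine h5.congr fun x hx => ?_
  rw [aext_of_mem _ hx, hαx ⟨x, hx⟩]
  exact hb2 _ (mem_norm hgS hx)

theorem crit [Finite G] {p : ℕ} [Fact p.Prime] (S : Sylow p G) (hS1 : (S : Subgroup G) ≠ ⊥)
    (hA : ∀ T : Subgroup G, T ≤ S → T ≠ ⊥ → (∀ x ∈ T, ∀ g : G, g * x * g⁻¹ ∈ S → g * x * g⁻¹ ∈ T) → T = S)
    (hB : Subgroup.normalizer ((S : Subgroup G) : Set G) ≤
      Subgroup.closure (((S : Subgroup G) : Set G) ∪ Adm p (S : Subgroup G))) :
    (groupFusionSystem (S : Subgroup G)).IsSimple p := by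
  refine ⟨groupFusionSystem_saturated p S, hS1, fun T E hE => ?_⟩
  obtain ⟨⟨hEs, hF, hEi⟩, -⟩ := hE
  by_cases hT : T = ⊥
  · exact Or.inl hT
  right
  have hTS : T = S := by
    apply hA T hEi.2.1.1 hT
    intro x hx g hg
    have hm : FMap (groupFusionSystem (S : Subgroup G)) (Subgroup.zpowers x) (fun y => g * y * g⁻¹) := by
      rw [FMap_group_iff]
      refine ⟨Subgroup.zpowers_le.2 (hEi.2.1.1 hx), ?_, g, fun _ _ => rfl⟩
      rintro _ ⟨n, rfl⟩
      show g * x ^ n * g⁻¹ ∈ _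
      rw [← conj_zpow]
      exact Subgroup.zpow_mem _ hg n
    exact StronglyClosed.map_mem hEi.2.1 hm (Subgroup.mem_zpowers x) hx
  subst hTS
  refine ⟨rfl, eq_of_invariant hEi ?_⟩
  have hfus : ∀ Q : Subgroup G, Q ≤ S → ∀ g : G, (∀ x ∈ Q, g * x * g⁻¹ ∈ (S : Subgroup G)) →
      FMap (groupFusionSystem (S : Subgroup G)) Q (fun x => g * x * g⁻¹) := by
    intro Q hQ g hg
    rw [FMap_group_iff]
    exact ⟨hQ, hg, g, fun _ _ => rfl⟩
  have hle : Subgroup.normalizer ((S : Subgroup G) : Set G) ≤ Ind E (S : Subgroup G) le_rfl := by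
    refine hB.trans ((Subgroup.closure_le _).2 ?_)
    rintro y (hy | hy)
    · exact ⟨Subgroup.le_normalizer hy, FMap.conj le_rfl hy⟩
    · exact ind_of_adm S.2 hF hEi hEs hfus hy
  intro f hf
  rw [FMap_group_iff] at hf
  obtain ⟨-, h1, g, hg⟩ := hf
  have hgn : g ∈ Subgroup.normalizer ((S : Subgroup G) : Set G) := by
    rw [← Subgroup.inv_mem_iff]
    have h2 : ∀ x ∈ (S : Subgroup G), g * x * g⁻¹ ∈ (S : Subgroup G) := fun x hx => by rw [← hg x hx]; exact h1 x hx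
    exact (Subgroup.inv_mem _ (mem_normalizer_of_conj_mem h2))
  exact (hle hgn).2.congr fun x hx => (hg x hx).symm

end CfsgLib.H9LF
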