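import Mathlib
import Cfsg.Agent.Lib.H3Max
import Cfsg.Agent.Lib.Mob2

/-! # 2-groups of maximal class -/

set_option autoImplicit false
set_option maxHeartbeats 400000
set_option linter.style.haveILetI false

namespace CfsgLib.H9M

open Subgroup CfsgLib.H3Max
open scoped commutatorElement

universe u

theorem lcs_card {G : Type*} [Group G] [Finite G] (hnil : Group.IsNilpotent G) (k : ℕ)
    (h : (⊤ : Subgroup G).lowerCentralSeries k ≠ ⊥) : ∀ j, j ≤ k → 2 ^ (j + 1) ≤ Nat.card ((⊤ : Subgroup G).lowerCentralSeries (k - j)) ∨ ¬ IsPGroup 2 G := by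
  intro j
  by_cases hp : IsPGroup 2 G
  swap
  · exact fun _ => Or.inr hp
  intro hj
  left
  have : Fact (Nat.Prime 2) := ⟨Nat.prime_two⟩
  have hne : ∀ i ≤ k, (⊤ : Subgroup G).lowerCentralSeries i ≠ ⊥ := by
    intro i hi h0
    apply h
    rw [eq_bot_iff, ← h0]
    exact Subgroup.lowerCentralSeries_antitone _ hi
  have hlt : ∀ i ≤ k, (⊤ : Subgroup G).lowerCentralSeries (i + 1) ≠ (⊤ : Subgroup G).lowerCentralSeries i := by
    intro i hi h0
    have h1 : ∀ l, (⊤ : Subgroup G).lowerCentralSeries (i + l) = (⊤ : Subgroup G).lowerCentralSeries i := by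
      intro l
      induction l with
      | zero => rfl
      | succ l ih =>
        rw [← add_assoc, Subgroup.lowerCentralSeries_succ, ih]
        exact h0
    obtain ⟨c, hc⟩ := Subgroup.nilpotent_iff_lowerCentralSeries.mp hnil
    apply hne i hi
    rw [← h1 c, eq_bot_iff, ← hc]
    exact Subgroup.lowerCentralSeries_antitone _ (by omega)
  induction j with
  | zero =>
    rw [Nat.sub_zero, zero_add, pow_one]
    have h1 := hne k le_rfl
    have h2 : Nat.card ((⊤ : Subgroup G).lowerCentralSeries k) ≠ 1 := fun h3 => h1 (Subgroup.card_eq_one.mp h3)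
    have h3 : 0 < Nat.card ((⊤ : Subgroup G).lowerCentralSeries k) := Nat.card_pos
    omega
  | succ j ih =>
    have h1 := ih (by omega)
    have h2 := hlt (k - (j + 1)) (by omega)
    have h3 : k - (j + 1) + 1 = k - j := by omega
    rw [h3] at h2
    have h4 : (⊤ : Subgroup G).lowerCentralSeries (k - j) ≤ (⊤ : Subgroup G).lowerCentralSeries (k - (j + 1)) :=
      Subgroup.lowerCentralSeries_antitone _ (by omega)
    have h5 := CfsgLib.H3Syl.card_mul_relIndex h4
    have h6 : ((⊤ : Subgroup G).lowerCentralSeries (k - j)).relIndex ((⊤ : Subgroup G).lowerCentralSeries (k - (j + 1))) ≠ 1 := by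
      intro h7
      exact h2 (le_antisymm h4 (relIndex_eq_one.mp h7))
    have h7 : 0 < ((⊤ : Subgroup G).lowerCentralSeries (k - j)).relIndex ((⊤ : Subgroup G).lowerCentralSeries (k - (j + 1))) :=
      Nat.pos_of_ne_zero (by intro h8; rw [h8, mul_zero] at h5; exact absurd h5.symm Nat.card_pos.ne')
    rw [← h5, pow_succ]
    exact Nat.mul_le_mul h1 (by omega)

theorem four_comm {X : Type*} [Group X] [Finite X] {n : ℕ} (hn : 3 ≤ n) (hX : Nat.card X = 2 ^ n)
    (hc : Group.nilpotencyClass X = n - 1) : Nat.card X ≤ 4 * Nat.card (commutator X) := by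
  haveI : Fact (Nat.Prime 2) := ⟨Nat.prime_two⟩
  have h2g : IsPGroup 2 X := IsPGroup.of_card hX
  haveI hnil := h2g.isNilpotent
  have h1 : (⊤ : Subgroup X).lowerCentralSeries (n - 2) ≠ ⊥ := by
    intro h
    rw [Subgroup.lowerCentralSeries_eq_bot_iff_nilpotencyClass_le, hc] at h
    omega
  rcases lcs_card hnil (n - 2) h1 (n - 3) (by omega) with h2 | h2
  · have h3 : n - 2 - (n - 3) = 1 := by omega
    rw [h3, Subgroup.top_lowerCentralSeries_one] at h2
    rw [hX]
    calc 2 ^ n = 4 * 2 ^ (n - 3 + 1) := by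
          rw [show (4 : ℕ) = 2 ^ 2 by norm_num, ← pow_add]; congr 1; omega
      _ ≤ _ := Nat.mul_le_mul_left _ h2
  · exact absurd h2g h2

theorem not_comm_of_class {X : Type*} [Group X] [Finite X] {n : ℕ} (hn : 3 ≤ n)
    (hc : Group.nilpotencyClass X = n - 1) : ∃ g h : X, g * h ≠ h * g := by
  by_contra hcon
  push Not at hcon
  letI : CommGroup X := { (inferInstance : Group X) with mul_comm := hcon }
  have := CommGroup.nilpotencyClass_le_one (G := X)
  rw [hc] at this
  omega

theorem not_cyclic_ab {X : Type*} [Group X] [Finite X] {p : ℕ} [Fact p.Prime] (hX : IsPGroup p X) (hna : ∃ g h : X, g * h ≠ h * g) :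
    ¬ IsCyclic (X ⧸ commutator X) := by
  intro hcyc
  obtain ⟨q, hq⟩ := IsCyclic.exists_generator (α := X ⧸ commutator X)
  obtain ⟨g, rfl⟩ := QuotientGroup.mk'_surjective _ q
  have h1 : zpowers g ⊔ frattini X = ⊤ := by
    rw [eq_top_iff]
    intro x _
    obtain ⟨k, hk⟩ := hq (QuotientGroup.mk' _ x)
    have hk : (QuotientGroup.mk' (commutator X) g) ^ k = QuotientGroup.mk' (commutator X) x := hk
    rw [← map_zpow, QuotientGroup.mk'_apply, QuotientGroup.mk'_apply, QuotientGroup.eq] at hk
    have h2 := CfsgLib.PGrp.commutator_le_frattini hX hk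
    have h3 : x = g ^ k * ((g ^ k)⁻¹ * x) := by group
    rw [h3]
    exact mul_mem (mem_sup_left (zpow_mem (mem_zpowers g) k)) (mem_sup_right h2)
  have h2 := frattini_nongenerating h1
  obtain ⟨a, b, hab⟩ := hna
  have ha : a ∈ zpowers g := by rw [h2]; trivial
  have hb : b ∈ zpowers g := by rw [h2]; trivial
  obtain ⟨i, rfl⟩ := ha
  obtain ⟨j, rfl⟩ := hb
  exact hab ((Commute.refl g).zpow_zpow i j).eq

theorem s0113 {X : Type*} [Group X] [Finite X] (n : ℕ) (hn : 3 ≤ n) (hX : Nat.card X = 2 ^ n)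
    (hc : Group.nilpotencyClass X = n - 1) : ∃ C : Subgroup X, IsCyclic C ∧ C.index = 2 := by
  obtain ⟨m, a, -, hm⟩ := exists_mc hX (not_comm_of_class hn hc) (four_comm hn hX hc)
  exact ⟨zpowers a, inferInstance, hm.index⟩

theorem kleinFour_of {X : Type*} [Group X] [Finite X] {n : ℕ} (hn : 3 ≤ n) (hX : Nat.card X = 2 ^ n)
    (hc : Group.nilpotencyClass X = n - 1) : IsKleinFour (X ⧸ commutator X) := by
  haveI : Fact (Nat.Prime 2) := ⟨Nat.prime_two⟩
  have h2g : IsPGroup 2 X := IsPGroup.of_card hX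
  have h1 := four_comm hn hX hc
  have hna := not_comm_of_class hn hc
  have hncy := not_cyclic_ab h2g hna
  have h2 := (commutator X).card_mul_index
  have h3 : (commutator X).index ≤ 4 := by
    rw [← h2, mul_comm 4] at h1
    exact Nat.le_of_mul_le_mul_left h1 Nat.card_pos
  have h4 : Nat.card (X ⧸ commutator X) = (commutator X).index := rfl
  obtain ⟨k, hk⟩ := (h2g.to_quotient (commutator X)).exists_card_eq
  rw [← h4, hk] at h3
  have hk2 : k = 2 := by
    have hk2 : k ≤ 2 := by
      by_contra h5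
      have : 2 ^ 3 ≤ 2 ^ k := Nat.pow_le_pow_right (by norm_num) (by omega)
      omega
    have h6 : k ≠ 0 := by
      rintro rfl
      apply hncy
      have : Subsingleton (X ⧸ commutator X) := (Nat.card_eq_one_iff_unique.mp (by rw [hk]; rfl)).1
      exact isCyclic_of_subsingleton
    have h7 : k ≠ 1 := by
      rintro rfl
      exact hncy (isCyclic_of_prime_card (p := 2) (by rw [hk]; rfl))
    omega
  subst hk2
  letI : CommGroup (X ⧸ commutator X) := { (inferInstance : Group (X ⧸ commutator X)) with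
    mul_comm := IsPGroup.commutative_of_card_eq_prime_sq hk }
  refine ⟨by rw [hk]; norm_num, ?_⟩
  have h5 : Monoid.exponent (X ⧸ commutator X) ∣ 2 ^ 2 := by rw [← hk]; exact Group.exponent_dvd_nat_card
  obtain ⟨j, hj, hj2⟩ := (Nat.dvd_prime_pow Nat.prime_two).1 h5
  have h6 : j ≠ 0 := by
    rintro rfl
    rw [pow_zero, Monoid.exp_eq_one_iff] at hj2
    have : Nat.card (X ⧸ commutator X) = 1 := Nat.card_unique
    omega
  have h7 : j ≠ 2 := by
    rintro rfl
    exact hncy (IsCyclic.of_exponent_eq_card (by rw [hj2, hk]))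
  have : j = 1 := by omega
  rw [hj2, this]; norm_num

theorem mc_class {X : Type u} [Group X] [Finite X] {n m : ℕ} {a : X} (hX : Nat.card X = 2 ^ n) (hnm : n = m + 1) (hm : MC m a) :
    Group.nilpotencyClass X = n - 1 := by
  haveI : Fact (Nat.Prime 2) := ⟨Nat.prime_two⟩
  have h2g : IsPGroup 2 X := IsPGroup.of_card hX
  have hm2 := hm.two_le
  obtain ⟨x, hx⟩ := hm.exists_notMem
  have hxA : x ∈ centralizer ({x} : Set X) := mem_centralizer_singleton_iff.2 rfl
  have h1 : Nat.card (zpowers a ⊓ centralizer ({x} : Set X) : Subgroup X) ≤ 2 := by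
    have h2 : ∀ c ∈ zpowers a ⊓ centralizer ({x} : Set X), c = 1 ∨ c = a ^ (2 ^ (m - 1)) := by
      rintro c ⟨hc1, hc2⟩
      exact hm.fix x hx c hc1 (mem_centralizer_singleton_iff.1 hc2)
    have h3 : ((zpowers a ⊓ centralizer ({x} : Set X) : Subgroup X) : Set X) ⊆ ({1, a ^ (2 ^ (m - 1))} : Set X) := by
      intro c hc
      rcases h2 c hc with h | h
      · left; exact h
      · right; exact h
    have h4 := Set.ncard_le_ncard h3 (Set.toFinite _)
    exact h4.trans (Set.ncard_insert_le _ _ |>.trans (by rw [Set.ncard_singleton]))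
  have h2 : Nat.card (centralizer ({x} : Set X)) ≤ 4 := by
    have h3 : Nat.card (zpowers a ⊓ centralizer ({x} : Set X) : Subgroup X) * (zpowers a).relIndex (centralizer ({x} : Set X)) =
        Nat.card (centralizer ({x} : Set X)) := by
      rw [← inf_relIndex_right, ← relIndex_bot_left, ← relIndex_bot_left]
      exact relIndex_mul_relIndex _ _ _ bot_le inf_le_right
    have h4 : (zpowers a).relIndex (centralizer ({x} : Set X)) ≤ 2 := by
      have h5 : (zpowers a).relIndex (centralizer ({x} : Set X)) ≤ (zpowers a).relIndex ⊤ :=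
        relIndex_le_of_le_right le_top (by rw [relIndex_top_right, hm.index]; norm_num)
      rwa [relIndex_top_right, hm.index] at h5
    rw [← h3]
    exact (Nat.mul_le_mul h1 h4)
  obtain ⟨k, hk⟩ := (h2g.to_subgroup (centralizer ({x} : Set X))).exists_card_eq
  have hk2 : k ≤ 2 := by
    by_contra h5
    have : 2 ^ 3 ≤ 2 ^ k := Nat.pow_le_pow_right (by norm_num) (by omega)
    omega
  have hx1 : x ≠ 1 := by rintro rfl; exact hx (one_mem _)
  have hk3 : k = 2 := by
    by_contra hne
    have hk1 : k = 1 ∨ k = 0 := by omega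
    have hcard : Nat.card (centralizer ({x} : Set X)) ≤ 2 := by
      rcases hk1 with rfl | rfl <;> omega
    -- the center is nontrivial
    have hnt : Nontrivial X := ⟨⟨x, 1, hx1⟩⟩
    have h3 := h2g.center_nontrivial
    obtain ⟨⟨z, hz⟩, hz1⟩ := exists_ne (1 : center X)
    have hz1' : z ≠ 1 := fun h => hz1 (Subtype.ext h)
    have hzA : z ∈ centralizer ({x} : Set X) := mem_centralizer_singleton_iff.2 (mem_center_iff.1 hz x).symm
    rcases mem_two hcard hxA hx1 hzA with h4 | h4
    · exact hz1' h4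
    · have h5 : centralizer ({x} : Set X) = ⊤ := by
        rw [eq_top_iff]
        intro g _
        rw [mem_centralizer_singleton_iff, ← h4]
        exact mem_center_iff.1 hz g
      rw [h5, card_top, hX, hnm] at hcard
      have : 2 ^ 3 ≤ 2 ^ (m + 1) := Nat.pow_le_pow_right (by norm_num) (by omega)
      omega
  subst hk3
  apply suzuki n X (centralizer ({x} : Set X)) hX hk
  intro g hg
  rw [mem_centralizer_singleton_iff]
  exact (mem_centralizer_iff.1 hg x hxA).symm

theorem s0115 {X : Type*} [Group X] [Finite X] (n : ℕ) (hn : 3 ≤ n) (hX : Nat.card X = 2 ^ n) :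
    Group.nilpotencyClass X = n - 1 ↔ IsKleinFour (X ⧸ commutator X) := by
  refine ⟨kleinFour_of hn hX, fun h => ?_⟩
  have h1 : (commutator X).index = 4 := h.card_four
  have h2 := (commutator X).card_mul_index
  rw [h1] at h2
  have hna : ∃ g h : X, g * h ≠ h * g := by
    by_contra hcon
    push Not at hcon
    have h3 : commutator X = ⊥ := by
      rw [_root_.commutator_def, eq_bot_iff, commutator_le]
      intro a _ b _
      rw [mem_bot, commutatorElement_eq_one_iff_mul_comm]
      exact hcon a b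
    rw [h3, Subgroup.card_bot, hX] at h2
    have : 2 ^ 3 ≤ 2 ^ n := Nat.pow_le_pow_right (by norm_num) hn
    omega
  obtain ⟨m, a, hnm, hm⟩ := exists_mc hX hna (by omega)
  exact mc_class hX hnm hm

theorem mc_center {X : Type*} [Group X] {m : ℕ} {a : X} (hm : MC m a) : center X = zpowers (a ^ (2 ^ (m - 1))) := by
  have hm2 := hm.two_le
  obtain ⟨x, hx⟩ := hm.exists_notMem
  apply le_antisymm
  · intro c hc
    rw [mem_center_iff] at hc
    have hca : c ∈ zpowers a := by
      by_contra h
      rcases hm.fix c h a (mem_zpowers a) (hc a) with h1 | h1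
      · have := hm.order
        rw [h1, orderOf_one] at this
        have : 2 ^ 1 ≤ 2 ^ m := Nat.pow_le_pow_right (by norm_num) (by omega)
        omega
      · have h2 := hm.z_sq
        rw [← h1] at h2
        have h3 := orderOf_dvd_of_pow_eq_one h2
        rw [hm.order] at h3
        have h4 := Nat.le_of_dvd (by norm_num) h3
        have : 2 ^ 2 ≤ 2 ^ m := Nat.pow_le_pow_right (by norm_num) (by omega)
        omega
    rcases hm.fix x hx c hca (hc x).symm with h1 | h1
    · rw [h1]; exact one_mem _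
    · rw [h1]; exact mem_zpowers _
  · rw [zpowers_le, mem_center_iff]
    have hxz : ∀ y ∉ zpowers a, y * a ^ (2 ^ (m - 1)) * y⁻¹ = a ^ (2 ^ (m - 1)) := by
      intro y hy
      have hzi : (a ^ (2 ^ (m - 1)))⁻¹ = a ^ (2 ^ (m - 1)) := by
        rw [inv_eq_iff_mul_eq_one, ← pow_two]; exact hm.z_sq
      rcases hm.conj hy with h1 | ⟨h3, h1⟩
      · rw [← conj_pow, h1, inv_pow, hzi]
      · have hcz : Commute (a ^ (2 ^ (m - 1))) a⁻¹ := ((Commute.refl a).pow_left _).inv_right
        rw [← conj_pow, h1, hcz.mul_pow, inv_pow, hzi]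
        have h4 : (a ^ (2 ^ (m - 1))) ^ (2 ^ (m - 1)) = 1 := by
          obtain ⟨k, hk⟩ : ∃ k, m - 1 = k + 1 := ⟨m - 2, by omega⟩
          rw [show (a ^ (2 ^ (m - 1))) ^ (2 ^ (m - 1)) = ((a ^ (2 ^ (m - 1))) ^ 2) ^ (2 ^ k) by
            rw [← pow_mul (a ^ (2 ^ (m - 1)))]; congr 1; rw [hk, pow_succ]; ring]
          rw [hm.z_sq, one_pow]
        rw [h4, one_mul]
    intro y
    by_cases hy : y ∈ zpowers a
    · obtain ⟨i, rfl⟩ := hy
      exact ((Commute.refl a).zpow_left i).pow_right _
    · have := hxz y hy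
      calc y * a ^ (2 ^ (m - 1)) = (y * a ^ (2 ^ (m - 1)) * y⁻¹) * y := by group
        _ = _ := by rw [this]

theorem mc_quot {X : Type*} [Group X] [Finite X] {m : ℕ} {a : X} (hm : MC m a) :
    Nonempty (X ⧸ Subgroup.center X ≃* DihedralGroup (2 ^ (m - 1))) := by
  have hm2 := hm.two_le
  have hcen := mc_center hm
  obtain ⟨x, hx⟩ := hm.exists_notMem
  have hZa : center X ≤ zpowers a := by rw [hcen, zpowers_le]; exact pow_mem (mem_zpowers a) _
  set π := QuotientGroup.mk' (center X) with hπ
  have hz1 : π (a ^ (2 ^ (m - 1))) = 1 := by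
    rw [hπ, QuotientGroup.mk'_apply, QuotientGroup.eq_one_iff, hcen]; exact mem_zpowers _
  have hcom : ((zpowers a).map π).comap π = zpowers a := by
    rw [comap_map_eq, QuotientGroup.ker_mk', sup_eq_left.2 hZa]
  have hidx : ((zpowers a).map π).index = 2 := by
    rw [← hm.index, ← index_comap_of_surjective _ (QuotientGroup.mk'_surjective (center X)), hcom]
  have hcardZ : Nat.card (center X) = 2 := by
    rw [hcen, Nat.card_zpowers]
    exact orderOf_eq_prime hm.z_sq hm.z_ne
  have hcardQ : Nat.card (X ⧸ center X) = 2 ^ m := by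
    have h1 := (center X).card_mul_index
    rw [hcardZ, hm.card, pow_succ, mul_comm] at h1
    exact Nat.eq_of_mul_eq_mul_right (by norm_num) h1
  have hcardC : Nat.card ((zpowers a).map π) = 2 ^ (m - 1) := by
    have h1 := ((zpowers a).map π).card_mul_index
    rw [hidx, hcardQ] at h1
    have h2 : 2 ^ m = 2 ^ (m - 1) * 2 := by rw [← pow_succ]; congr 1; omega
    rw [h2] at h1
    exact Nat.eq_of_mul_eq_mul_right (by norm_num) h1
  have hxC : π x ∉ (zpowers a).map π := by
    intro h
    have : x ∈ ((zpowers a).map π).comap π := h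
    rw [hcom] at this
    exact hx this
  have hxx : π x * π x = 1 := by
    rw [← map_mul, ← pow_two]
    rcases hm.sq hx with h | h
    · rw [h, map_one]
    · rw [h, hz1]
  have hxi : (π x)⁻¹ = π x := inv_eq_of_mul_eq_one_right hxx
  have hconj : π x * π a * (π x)⁻¹ = (π a)⁻¹ := by
    rw [← map_mul, ← map_inv, ← map_mul]
    rcases hm.conj hx with h | ⟨-, h⟩
    · rw [h, map_inv]
    · rw [h, map_mul, hz1, one_mul, map_inv]
  rw [← hcardC]
  apply CfsgLib.Mob2.dihedral_of ((zpowers a).map π) _ hxC hidx hxx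
  · rintro _ ⟨_, ⟨k, rfl⟩, rfl⟩
    show π x * π (a ^ k) * π x = (π (a ^ k))⁻¹
    have h1 : π x * (π a) ^ k * (π x)⁻¹ = (π x * π a * (π x)⁻¹) ^ k := conj_zpow.symm
    rw [hconj, hxi] at h1
    rw [map_zpow, h1, inv_zpow]
  · exact isCyclic_of_surjective (π.subgroupMap (zpowers a)) (π.subgroupMap_surjective _)

theorem s0114 {X : Type*} [Group X] [Finite X] (n : ℕ) (hn : 3 ≤ n) (hX : Nat.card X = 2 ^ n)
    (hc : Group.nilpotencyClass X = n - 1) : Nonempty (X ⧸ Subgroup.center X ≃* DihedralGroup (2 ^ (n - 2))) := by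
  obtain ⟨m, a, hnm, hm⟩ := exists_mc hX (not_comm_of_class hn hc) (four_comm hn hX hc)
  have : n - 2 = m - 1 := by omega
  rw [this]
  exact mc_quot hm

end CfsgLib.H9M
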