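import Cfsg.Agent.Lib.PGrp
import Cfsg.Agent.Lib.Core
import Cfsg.Prelude.Def_OddOrderLocal

/-! # Elements of order `p` in metacyclic `p`-groups, `p` odd -/

set_option autoImplicit false
set_option maxHeartbeats 400000

namespace CfsgLib.H9W

open Subgroup
open scoped commutatorElement

theorem cyc_le {C : Type*} [Group C] [Finite C] [IsCyclic C] {p : ℕ} (hp : 0 < p) (K : Subgroup C) (h : ∀ k ∈ K, k ^ p = 1) :
    Nat.card K ≤ p := by
  obtain ⟨g, hg⟩ := IsCyclic.exists_generator (α := K)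
  have h1 : Nat.card K = orderOf g := by
    rw [← Nat.card_zpowers, (Subgroup.eq_top_iff' (zpowers g)).2 hg, Subgroup.card_top]
  rw [h1]
  apply orderOf_le_of_pow_eq_one hp
  exact Subtype.ext (h g g.2)

/-- a metacyclic `p`-group of exponent `p` has order at most `p ^ 2` -/
theorem card_le_of_exp {G : Type*} [Group G] [Finite G] {p : ℕ} (hp : 0 < p) (hm : Cfsg.IsMetacyclic G) (M : Subgroup G)
    (h : ∀ x ∈ M, x ^ p = 1) : Nat.card M ≤ p * p := by
  obtain ⟨A, hA, hAc, hQc⟩ := hm
  have h1 : Nat.card (A ⊓ M : Subgroup G) * A.relIndex M = Nat.card M := by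
    rw [← inf_relIndex_right, ← relIndex_bot_left, ← relIndex_bot_left]
    exact relIndex_mul_relIndex _ _ _ bot_le inf_le_right
  rw [← h1]
  apply Nat.mul_le_mul
  · have h2 := cyc_le hp ((A ⊓ M).subgroupOf A) (fun k hk => by
      apply Subtype.ext
      exact h _ (mem_subgroupOf.1 hk).2)
    rwa [Nat.card_congr (subgroupOfEquivOfLe (inf_le_left : A ⊓ M ≤ A)).toEquiv] at h2
  · have h2 : A.relIndex M = Nat.card (M.map (QuotientGroup.mk' A)) := by
      rw [← relIndex_ker, QuotientGroup.ker_mk']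
    rw [h2]
    apply cyc_le hp
    rintro _ ⟨m, hm, rfl⟩
    rw [← map_pow, h m hm, map_one]

theorem comm_center_of_cube {M : Type*} [Group M] [Finite M] {p : ℕ} [hp : Fact p.Prime] (hM : IsPGroup p M) (hc : Nat.card M ∣ p ^ 3)
    (a b : M) : ⁅a, b⁆ ∈ center M := by
  by_cases h1 : (center M).index < p ^ 2
  · have := CfsgLib.PGrp.comm_of_center_index_lt hM h1
    rw [commutatorElement_eq_one_iff_mul_comm.2 (mul_comm' a b)]
    exact one_mem _
  · push Not at h1
    have h2 : (center M).index ≤ p ^ 2 := by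
      by_contra h3
      push Not at h3
      have hnt : Nontrivial M := by
        by_contra hn
        rw [not_nontrivial_iff_subsingleton] at hn
        have : (center M).index = 1 := by rw [index_eq_one]; exact Subsingleton.elim _ _
        rw [this] at h3
        have := Nat.one_lt_pow (n := 2) (by norm_num) hp.out.one_lt
        omega
      have h4 : p ≤ Nat.card (center M) := by
        have h5 := hM.center_nontrivial
        obtain ⟨k, hk⟩ := (hM.to_subgroup (center M)).exists_card_eq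
        have h6 := (Nat.card_pos (α := center M))
        have h7 : 1 < Nat.card (center M) := Finite.one_lt_card
        rw [hk] at h7 ⊢
        have hk0 : k ≠ 0 := by rintro rfl; simp at h7
        exact Nat.le_self_pow hk0 p
      have h8 := (center M).card_mul_index
      have h9 := Nat.le_of_dvd (pow_pos hp.out.pos 3) hc
      have h10 : p * (p ^ 2 + 1) ≤ Nat.card (center M) * (center M).index := Nat.mul_le_mul h4 h3
      rw [h8] at h10
      have h11 : p * (p ^ 2 + 1) = p ^ 3 + p := by ring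
      have := hp.out.pos
      omega
    have h3 : Nat.card (M ⧸ center M) = p ^ 2 := le_antisymm h2 h1
    have h4 := IsPGroup.commutative_of_card_eq_prime_sq h3
    have h5 := h4 (QuotientGroup.mk' (center M) a⁻¹) (QuotientGroup.mk' (center M) b⁻¹)
    rw [← map_mul, ← map_mul, QuotientGroup.mk'_apply, QuotientGroup.mk'_apply] at h5
    rw [← (QuotientGroup.eq_one_iff (⁅a, b⁆ : M))]
    rw [commutatorElement_def, mul_assoc (a * b)]
    have h6 : ((a * b * (a⁻¹ * b⁻¹) : M) : M ⧸ center M) = ((a * b : M) : M ⧸ center M) * ((a⁻¹ * b⁻¹ : M) : M ⧸ center M) := rfl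
    rw [h6, h5]
    have h7 : ((a * b : M) : M ⧸ center M) * ((b⁻¹ * a⁻¹ : M) : M ⧸ center M) = ((a * b * (b⁻¹ * a⁻¹) : M) : M ⧸ center M) := rfl
    rw [h7]
    have h8 : a * b * (b⁻¹ * a⁻¹) = 1 := by group
    rw [h8]; rfl

theorem omega_metacyclic {G : Type*} [Group G] [Finite G] {p : ℕ} [hp : Fact p.Prime] (hp2 : p ≠ 2) (hG : IsPGroup p G)
    (hm : Cfsg.IsMetacyclic G) (hnc : ¬ IsCyclic G) : ∃ N : Subgroup G, N.Normal ∧ Nat.card N = p ^ 2 ∧ ∀ x, x ∈ N ↔ x ^ p = 1 := by
  obtain ⟨N, hN, hNc, hNp⟩ := CfsgLib.PGrp.exists_normal_sq hp2 hG hnc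
  refine ⟨N, hN, hNc, fun x => ⟨hNp x, fun hx => ?_⟩⟩
  by_contra hxN
  have hx1 : x ≠ 1 := by rintro rfl; exact hxN N.one_mem
  set M := N ⊔ zpowers x with hM
  have hc1 : Nat.card M ∣ p ^ 3 := by
    have := CfsgLib.Core.card_sup_dvd (M := N) (N := zpowers x) hN
    rw [hNc, Nat.card_zpowers, orderOf_eq_prime hx hx1] at this
    exact this
  have hMp : IsPGroup p M := hG.to_subgroup M
  have hcen := comm_center_of_cube hMp hc1
  have hcN : ∀ a ∈ M, ∀ b ∈ M, ⁅a, b⁆ ∈ N := by
    have hab : ∀ a ∈ M, ∀ b ∈ M, QuotientGroup.mk' N a * QuotientGroup.mk' N b = QuotientGroup.mk' N b * QuotientGroup.mk' N a := by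
      have h1 : ∀ a ∈ M, ∃ k : ℤ, QuotientGroup.mk' N a = (QuotientGroup.mk' N x) ^ k := by
        intro a ha
        have ha : a ∈ ((N ⊔ zpowers x : Subgroup G) : Set G) := ha
        rw [normal_mul] at ha
        obtain ⟨n, hn, _, ⟨k, rfl⟩, rfl⟩ := ha
        refine ⟨k, ?_⟩
        show QuotientGroup.mk' N (n * x ^ k) = _
        rw [map_mul, map_zpow]
        have : QuotientGroup.mk' N n = 1 := (QuotientGroup.eq_one_iff n).2 hn
        rw [this, one_mul]
      intro a ha b hb
      obtain ⟨i, hi⟩ := h1 a ha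
      obtain ⟨j, hj⟩ := h1 b hb
      rw [hi, hj, ← zpow_add, ← zpow_add, add_comm]
    intro a ha b hb
    rw [← (QuotientGroup.eq_one_iff (⁅a, b⁆ : G))]
    have : QuotientGroup.mk' N ⁅a, b⁆ = 1 := by
      rw [map_commutatorElement, commutatorElement_eq_one_iff_mul_comm]
      exact hab a ha b hb
    exact this
  have hmul : ∀ a ∈ M, ∀ b ∈ M, (a * b) ^ p = a ^ p * b ^ p := by
    intro a ha b hb
    have h1 := hcen ⟨b, hb⟩ ⟨a, ha⟩
    rw [Subgroup.mem_center_iff] at h1
    apply CfsgLib.PGrp.mul_pow_prime_of_class_two hp2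
    · have := congrArg Subtype.val (h1 ⟨a, ha⟩)
      exact this.symm
    · have := congrArg Subtype.val (h1 ⟨b, hb⟩)
      exact this.symm
    · exact hNp _ (hcN b hb a ha)
  have hxM : x ∈ M := (le_sup_right : zpowers x ≤ M) (mem_zpowers x)
  have hall : ∀ m ∈ M, m ^ p = 1 := by
    intro m hm'
    have hm2 : m ∈ ((N ⊔ zpowers x : Subgroup G) : Set G) := hm'
    rw [normal_mul] at hm2
    obtain ⟨n, hn, _, ⟨k, rfl⟩, rfl⟩ := hm2
    show (n * x ^ k) ^ p = 1
    rw [hmul n ((le_sup_left : N ≤ M) hn) _ (M.zpow_mem hxM k), hNp n hn, one_mul, ← zpow_natCast, ← zpow_mul, mul_comm,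
      zpow_mul, zpow_natCast, hx, one_zpow]
  have h1 := card_le_of_exp hp.out.pos hm M hall
  have h2 : Nat.card N < Nat.card M := by
    apply lt_of_le_of_ne (Subgroup.card_le_of_le le_sup_left)
    intro h3
    have h4 : N = M := Subgroup.eq_of_le_of_card_ge le_sup_left h3.ge
    exact hxN (h4 ▸ hxM)
  rw [hNc] at h2
  rw [← pow_two] at h1
  omega

end CfsgLib.H9W
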