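import Cfsg.Agent.Lib.H9Wb

/-! # strongly closed subgroups with `|Ω₁| = p²` -/

set_option autoImplicit false
set_option maxHeartbeats 2000000

namespace CfsgLib.H9W

open Cfsg Cfsg.FusionSystem CfsgLib.SylowIn CfsgLib.Fusion
open Subgroup
open scoped commutatorElement

variable {Ω : Type*} [Group Ω] {S : Subgroup Ω}

theorem card_subOf {P D : Subgroup Ω} (h : D ≤ P) : Nat.card (D.subgroupOf P) = Nat.card D :=
  Nat.card_congr (subgroupOfEquivOfLe h).toEquiv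

theorem rank_two {F : FusionSystem S} [Finite S] {p : ℕ} [hp : Fact p.Prime] (hp2 : p ≠ 2) (hS : IsPGroup p S) (hF : F.IsSaturated p)
    {P Q : Subgroup Ω} (hP : F.StronglyClosed P) (hQP : Q ≤ P) (hQc : Nat.card Q = p ^ 2) (hQp : ∀ a ∈ P, a ∈ Q ↔ a ^ p = 1) :
    ∃ C ≤ P, C ≠ ⊥ ∧ F.StronglyClosed C ∧ ∀ x ∈ P, ∀ c ∈ C, x * c = c * x := by
  have hPf : Finite P := finite_of_le hP.1
  have hPp : IsPGroup p P := hS.to_le hP.1
  have hQS : Q ≤ S := hQP.trans hP.1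
  have hQf : Finite Q := finite_of_le hQP
  have hQab : ∀ a ∈ Q, ∀ b ∈ Q, a * b = b * a := fun a ha b hb =>
    congrArg Subtype.val (IsPGroup.commutative_of_card_eq_prime_sq hQc ⟨a, ha⟩ ⟨b, hb⟩)
  have hQsc : ∀ (R : Subgroup Ω) (f : Ω → Ω), FMap F R f → ∀ a ∈ R, a ∈ Q → f a ∈ Q := by
    intro R f hf a haR haQ
    rw [hQp _ (StronglyClosed.map_mem hP hf haR (hQP haQ)), ← hf.map_pow haR, (hQp a (hQP haQ)).1 haQ, hf.map_one]
  have hQscl : F.StronglyClosed Q := stronglyClosed_iff.2 ⟨hQS, fun R f hR hf a ha => hQsc R f hf a ha (hR ha)⟩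
  have hpp : 1 < p ^ 2 := Nat.one_lt_pow (by norm_num) hp.out.one_lt
  have hQbot : Q ≠ ⊥ := by
    intro h
    rw [h, Subgroup.card_bot] at hQc
    omega
  by_cases hcen : ∀ x ∈ P, ∀ a ∈ Q, x * a = a * x
  · exact ⟨Q, hQP, hQbot, hQscl, hcen⟩
  push Not at hcen
  obtain ⟨x, hxP, a0, ha0, hxa0⟩ := hcen
  have hxS : x ∈ S := hP.1 hxP
  have hSN : S ≤ Subgroup.normalizer (Q : Set Ω) := by
    intro s hs
    apply mem_normalizer_of_conj_mem
    intro a ha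
    exact hQsc Q _ (FMap.conj hQS hs) a ha ha
  have hQnS : (Q.subgroupOf S).Normal := ⟨fun n hn g => by
    rw [mem_subgroupOf] at hn ⊢
    exact conj_mem_of_mem_normalizer (hSN g.2) hn⟩
  have hQnP : (Q.subgroupOf P).Normal := ⟨fun n hn g => by
    rw [mem_subgroupOf] at hn ⊢
    exact conj_mem_of_mem_normalizer (hSN (hP.1 g.2)) hn⟩
  -- a central element
  obtain ⟨z0, hz0Q, hz01, hz0c⟩ : ∃ z ∈ Q, z ≠ 1 ∧ ∀ s ∈ S, s * z = z * s := by
    have h1 := CfsgLib.PGrp.inf_center_ne_bot hS hQnS (by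
      intro h
      have := card_subOf hQS
      rw [h, Subgroup.card_bot, hQc] at this
      omega)
    obtain ⟨z, hz⟩ := Subgroup.ne_bot_iff_exists_ne_one.1 h1
    exact ⟨(z : S), mem_subgroupOf.1 z.2.1, fun h => hz (Subtype.ext (Subtype.ext h)), fun s hs =>
      congrArg Subtype.val (mem_center_iff.1 z.2.2 ⟨s, hs⟩)⟩
  set D := zpowers z0 with hD
  have hDQ : D ≤ Q := by rw [hD, zpowers_le]; exact hz0Q
  have hDP : D ≤ P := hDQ.trans hQP
  have hDS : D ≤ S := hDP.trans hP.1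
  have hDc : Nat.card D = p := by
    rw [hD, Nat.card_zpowers]; exact orderOf_eq_prime ((hQp z0 (hQP hz0Q)).1 hz0Q) hz01
  have hDz : ∀ d ∈ D, ∀ s ∈ S, s * d = d * s := by
    rintro _ ⟨k, rfl⟩ s hs
    have h1 : Commute s z0 := hz0c s hs
    exact (h1.zpow_right k)
  clear_value D
  by_cases hns : F.StronglyClosed D
  · refine ⟨D, hDP, ?_, hns, fun x hx c hc => hDz c hc x (hP.1 hx)⟩
    intro h
    rw [h, Subgroup.card_bot] at hDc
    exact hp.out.one_lt.ne hDc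
  exfalso
  obtain ⟨y, hyP, z, hzD, φ, hz1, hyD, hyp, hφ, hφy⟩ := CfsgLib.H9V.exists_move hS hF hP hDP hDc hDz hns
  have hyQ : y ∈ Q := (hQp y hyP).2 hyp
  have hzQ : z ∈ Q := hDQ hzD
  have hQC : Q ≤ P ⊓ centralizer ({y} : Set Ω) := fun a ha => ⟨hQP ha, mem_centralizer_singleton_iff.2 (hQab a ha y hyQ)⟩
  replace hφ := hφ.restrict hQC
  -- decomposition of `Q`
  have hDQidx : (D.subgroupOf Q).index = p := by
    have := (D.subgroupOf Q).card_mul_index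
    rw [card_subOf hDQ, hDc, hQc, pow_two] at this
    exact Nat.eq_of_mul_eq_mul_left hp.out.pos this
  have hDQn : (D.subgroupOf Q).Normal := ⟨fun n hn g => by
    rw [mem_subgroupOf] at hn ⊢
    show (g : Ω) * n * (g : Ω)⁻¹ ∈ D
    rw [hDz _ hn g (hQS g.2), mul_inv_cancel_right]; exact hn⟩
  have hdecQ : ∀ a ∈ Q, a ∉ D → ∀ b ∈ Q, ∃ d ∈ D, ∃ k : ℤ, b = d * a ^ k := by
    intro a ha haD b hb
    obtain ⟨d, hd, k, hk⟩ := dec_of_index hDQidx hDQn (x := ⟨a, ha⟩) (fun h => haD (mem_subgroupOf.1 h)) ⟨b, hb⟩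
    exact ⟨d, mem_subgroupOf.1 hd, k, congrArg Subtype.val hk⟩
  have hxD : ∀ a ∈ Q, x * a = a * x → a ∈ D := by
    intro a ha hxa
    by_contra haD
    apply hxa0
    obtain ⟨d, hd, k, rfl⟩ := hdecQ a ha haD a0 ha0
    have h1 : Commute x d := hDz d hd x hxS
    have h2 : Commute x a := hxa
    exact (h1.mul_right (h2.zpow_right k))
  have hxy : x * y ≠ y * x := fun h => hyD (hxD y hyQ h)
  -- centralizer of `Q` in `P`
  set C := centralizer ((Q.subgroupOf P : Subgroup P) : Set P) with hC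
  have hmemC : ∀ g : P, g ∈ C ↔ ∀ a ∈ Q, (g : Ω) * a = a * g := by
    intro g
    rw [hC, mem_centralizer_iff]
    constructor
    · intro h a ha
      exact (congrArg Subtype.val (h ⟨a, hQP ha⟩ (mem_subgroupOf.2 ha))).symm
    · intro h a ha
      exact Subtype.ext (h a (mem_subgroupOf.1 ha)).symm
  have hCn : C.Normal := ⟨fun n hn g => by
    rw [hmemC] at hn ⊢
    intro a ha
    have hg : (g : Ω)⁻¹ * a * (g : Ω)⁻¹⁻¹ ∈ Q := conj_mem_of_mem_normalizer (hSN (S.inv_mem (hP.1 g.2))) ha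
    have h1 := hn _ hg
    show (g : Ω) * n * (g : Ω)⁻¹ * a = a * ((g : Ω) * n * (g : Ω)⁻¹)
    calc (g : Ω) * n * (g : Ω)⁻¹ * a = g * (n * ((g : Ω)⁻¹ * a * (g : Ω)⁻¹⁻¹)) * (g : Ω)⁻¹ := by group
      _ = _ := by rw [h1]; group⟩
  have hCidx : C.index = p := by
    have h1 := CfsgLib.PGrp.index_centralizer_dvd hPp hQnP (by rw [card_subOf hQP, hQc])
    rcases (Nat.dvd_prime hp.out).1 h1 with h | h
    · exfalso
      rw [index_eq_one] at h
      have : (⟨x, hxP⟩ : P) ∈ C := by rw [hC, h]; trivial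
      exact hxy ((hmemC _).1 this y hyQ)
    · exact h
  clear_value C
  have hxC : (⟨x, hxP⟩ : P) ∉ C := fun h => hxy ((hmemC _).1 h y hyQ)
  have hdec : ∀ g ∈ P, ∃ q ∈ P, (∀ a ∈ Q, q * a = a * q) ∧ ∃ k : ℤ, g = q * x ^ k := by
    intro g hg
    obtain ⟨c, hc, k, hk⟩ := dec_of_index hCidx hCn hxC ⟨g, hg⟩
    exact ⟨c, c.2, (hmemC c).1 hc, k, congrArg Subtype.val hk⟩
  -- `D` is characteristic
  have hchar : ∀ f, FMap F P f → ∀ d ∈ D, f d ∈ D := by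
    intro f hf d hd
    have hfP : img P f = P := hf.img_eq_of_mapsTo (fun a ha => StronglyClosed.map_mem hP hf ha ha)
    apply hxD
    · exact hQsc P f hf d (hDP hd) (hDQ hd)
    · have hx' : x ∈ img P f := by rw [hfP]; exact hxP
      obtain ⟨g, hg, hgx⟩ := hf.mem_img.1 hx'
      rw [← hgx, ← hf.map_mul hg (hDP hd), ← hf.map_mul (hDP hd) hg, hDz d hd g (hP.1 hg)]
  have hfn := CfsgLib.H9LF.fn_normal F hQS hSN
  obtain ⟨hfa, hr⟩ := Saturated.of_fullyNormalized hS hF hfn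
  obtain ⟨α, hα, hαφ⟩ := hφ.exists_aut_of_mapsTo (fun a ha => hQsc Q φ hφ a ha ha)
  set τ := conjAut Q x (hSN hxS) with hτ
  have hτS : τ ∈ autInducedBy S Q := conjAut_mem_autInducedBy hxS _
  have hτH : τ ∈ F.autGroup Q := autInducedBy_le_autGroup F hQS hτS
  have hτa : ∀ a : Q, ((τ a : Q) : Ω) = x * a * x⁻¹ := fun a => rfl
  have hτk : ∀ k : ℤ, ∀ a : Q, (((τ ^ k : MulAut Q) a : Q) : Ω) = x ^ k * a * (x ^ k)⁻¹ := by
    intro k a
    rw [hτ, ← normalizerMonoidHom_eq, ← map_zpow]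
    rfl
  clear_value τ
  have hPQβ : ∀ g ∈ P, ∃ k : ℤ, ∀ a : Q, g * a * g⁻¹ = ((τ ^ k : MulAut Q) a : Q) := by
    intro g hg
    obtain ⟨q, hq, hqc, k, rfl⟩ := hdec g hg
    refine ⟨k, fun a => ?_⟩
    rw [hτk]
    have h1 : x ^ k * a * (x ^ k)⁻¹ ∈ Q := conj_mem_of_mem_normalizer (hSN (S.zpow_mem hxS k)) a.2
    have h2 := hqc _ h1
    calc q * x ^ k * a * (q * x ^ k)⁻¹ = q * (x ^ k * a * (x ^ k)⁻¹) * q⁻¹ := by group
      _ = _ := by rw [h2]; group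
  have hSC : ∀ h ∈ F.autGroup Q, h * τ * h⁻¹ ∈ autInducedBy S Q → ∃ f, FMap F P f ∧ ∀ a : Q, f a = h a := by
    intro h hh hc
    have hPN : P ≤ normalizerIn S Q := fun g hg => ⟨hP.1 hg, hSN (hP.1 hg)⟩
    obtain ⟨f, hf, hfa⟩ := extend_of_conj hr hh hPN (fun β hβ => by
      obtain ⟨g, hgP, hβg⟩ := mem_autInducedBy_iff.1 hβ
      obtain ⟨k, hk⟩ := hPQβ g hgP
      have hβτ : β = τ ^ k := by
        ext a
        rw [hβg, hk]
      rw [hβτ, ← conj_zpow]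
      exact Subgroup.zpow_mem _ hc k)
    exact ⟨f, hf, fun a => by rw [hfa a a.2, aext_apply]⟩
  have hDmem : ∀ {w : Ω}, w ∈ D → w ≠ 1 → ∀ d ∈ D, ∃ k : ℤ, w ^ k = d := by
    intro w hw hw1 d hd
    rw [← CfsgLib.H9V.zpowers_eq_of_card hDc hw hw1] at hd
    exact hd
  have hDnS : (D.subgroupOf S).Normal := ⟨fun n hn g => by
    rw [mem_subgroupOf] at hn ⊢
    show (g : Ω) * n * (g : Ω)⁻¹ ∈ D
    rw [hDz _ hn g g.2, mul_inv_cancel_right]; exact hn⟩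
  have hlam : ∀ a : Q, (a : Ω)⁻¹ * (τ a : Q) ∈ D := by
    intro a
    rw [hτa]
    have h1 := comm_in hS hQnS (D := D.subgroupOf S) (by
      intro d hd
      rw [mem_subgroupOf] at hd ⊢
      exact hDQ hd) (by rw [card_subOf hDS, hDc]) (by rw [card_subOf hQS, hQc]) (a := ⟨a, hQS a.2⟩) (mem_subgroupOf.2 a.2) ⟨x, hxS⟩
    exact mem_subgroupOf.1 h1
  have hτfix : ∀ a : Q, (a : Ω) ∈ D → τ a = a := by
    intro a ha
    apply Subtype.ext
    rw [hτa, hDz a ha x hxS, mul_inv_cancel_right]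
  have hα1 : α ⟨y, hyQ⟩ = ⟨z, hzQ⟩ := Subtype.ext (by rw [hαφ]; exact hφy)
  have hα2 : α⁻¹ ⟨z, hzQ⟩ = ⟨y, hyQ⟩ := by
    rw [← hα1]; exact α.symm_apply_apply _
  have hτ'H : α⁻¹ * τ * α ∈ F.autGroup Q := Subgroup.mul_mem _ (Subgroup.mul_mem _ (Subgroup.inv_mem _ hα) hτH) hα
  have hτ'a : ∀ a : Q, (α⁻¹ * τ * α) a = α⁻¹ (τ (α a)) := fun a => rfl
  by_cases hfix : (α⁻¹ * τ * α) ⟨z, hzQ⟩ = ⟨z, hzQ⟩
  · -- the fixed case
    set N : Subgroup (MulAut Q) := F.autGroup Q ⊓ MulAction.stabilizer (MulAut Q) (⟨z, hzQ⟩ : Q) with hN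
    have hmemN : ∀ n, n ∈ N ↔ n ∈ F.autGroup Q ∧ n ⟨z, hzQ⟩ = ⟨z, hzQ⟩ := fun n => Iff.rfl
    have hSigN : autInducedBy S Q ≤ N := by
      intro β hβ
      rw [hmemN]
      refine ⟨autInducedBy_le_autGroup F hQS hβ, ?_⟩
      obtain ⟨s, hs, hβs⟩ := mem_autInducedBy_iff.1 hβ
      apply Subtype.ext
      rw [hβs]
      show s * z * s⁻¹ = z
      rw [hDz z hzD s hs, mul_inv_cancel_right]
    have hsyl : IsSylowIn p (autInducedBy S Q) (F.autGroup Q) :=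
      (isSylowIn_iff (autInducedBy_le_autGroup F hQS)).2 hfa.2
    have hpτ : ∃ k : ℕ, τ ^ p ^ k = 1 := by
      obtain ⟨k, hk⟩ := hsyl.2.1 ⟨τ, hτS⟩
      exact ⟨k, congrArg Subtype.val hk⟩
    have hpg : IsPGroup p (zpowers (α⁻¹ * τ * α)) := by
      obtain ⟨k, hk⟩ := hpτ
      rintro ⟨g, ⟨m, hm⟩⟩
      refine ⟨k, Subtype.ext ?_⟩
      have hm : (α⁻¹ * τ * α) ^ m = g := hm
      show g ^ p ^ k = 1
      rw [← hm, ← zpow_natCast, ← zpow_mul, mul_comm, zpow_mul, zpow_natCast]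
      have h1 : (α⁻¹ * τ * α) ^ p ^ k = 1 := by
        have h2 : (α⁻¹ * τ * (α⁻¹)⁻¹) ^ p ^ k = α⁻¹ * τ ^ p ^ k * (α⁻¹)⁻¹ := conj_pow
        rw [inv_inv, hk, mul_one, inv_mul_cancel] at h2
        exact h2
      rw [h1, one_zpow]
    obtain ⟨n, hn, hnc⟩ := (hsyl.of_le hSigN inf_le_left).exists_conj (T := zpowers (α⁻¹ * τ * α))
      (by rw [zpowers_le, hmemN]; exact ⟨hτ'H, hfix⟩) hpg
    have h1 := hnc _ (mem_zpowers _)
    have hn' := (hmemN n).1 hn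
    have h2 : n * (α⁻¹ * τ * α) * n⁻¹ = (n * α⁻¹) * τ * (n * α⁻¹)⁻¹ := by group
    rw [h2] at h1
    obtain ⟨f, hf, hfh⟩ := hSC _ (Subgroup.mul_mem _ hn'.1 (Subgroup.inv_mem _ hα)) h1
    have h3 := hchar f hf z hzD
    have h4 : f z = ((n (⟨y, hyQ⟩ : Q) : Q) : Ω) := by
      have := hfh ⟨z, hzQ⟩
      rw [MulAut.mul_apply, hα2] at this
      exact this
    rw [h4] at h3
    obtain ⟨k, hk⟩ := hDmem hzD hz1 _ h3
    have h5 : n ((⟨z, hzQ⟩ : Q) ^ k) = n (⟨y, hyQ⟩ : Q) := by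
      rw [map_zpow, hn'.2]
      exact Subtype.ext hk
    have h6 := congrArg Subtype.val (n.injective h5)
    apply hyD
    have h7 : z ^ k = y := h6
    rw [← h7]
    exact D.zpow_mem hzD k
  · -- the case of `SL₂(p)`
    have hzd := hlam ⟨y, hyQ⟩
    rw [hτa] at hzd
    have hzd : y⁻¹ * (x * y * x⁻¹) ∈ D := hzd
    have hw1 : y⁻¹ * (x * y * x⁻¹) ≠ 1 := by
      intro h
      apply hxy
      rw [inv_mul_eq_one] at h
      calc x * y = x * y * x⁻¹ * x := by group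
        _ = y * x := by rw [← h]
    set w := y⁻¹ * (x * y * x⁻¹) with hw
    have hwQ : w ∈ Q := hDQ hzd
    have hτy : τ ⟨y, hyQ⟩ = ⟨y, hyQ⟩ * ⟨w, hwQ⟩ := by
      apply Subtype.ext
      rw [hτa]
      show x * y * x⁻¹ = y * w
      rw [hw, mul_inv_cancel_left]
    clear_value w
    obtain ⟨t, htH, htτ, htz, hty⟩ := exists_inverter' (Q := Q) (p := p) (fun a b => Subtype.ext (hQab a a.2 b b.2)) (F.autGroup Q)
      (τ := τ) (τ' := α⁻¹ * τ * α) hτH hτ'H (y := ⟨y, hyQ⟩) (z := ⟨w, hwQ⟩) (hτfix _ hzd) hτy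
      (by rw [hτ'a, hα1, hτfix _ hzD, hα2])
      (by
        intro h
        apply hfix
        obtain ⟨k, hk⟩ := hDmem hzd hw1 z hzD
        have h1 : (⟨z, hzQ⟩ : Q) = (⟨w, hwQ⟩ : Q) ^ k := Subtype.ext hk.symm
        rw [h1, map_zpow, h])
      (Subtype.ext hyp)
      (by
        intro q
        obtain ⟨k, hk⟩ := hDmem hzd hw1 _ (hlam q)
        refine ⟨k, Subtype.ext ?_⟩
        show ((τ q : Q) : Ω) = q * w ^ k
        rw [hk, mul_inv_cancel_left])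
      (by
        intro q
        obtain ⟨k, hk⟩ := hDmem hzD hz1 _ (hlam (α q))
        refine ⟨k, ?_⟩
        have h1 : τ (α q) = α q * (⟨z, hzQ⟩ : Q) ^ k := by
          apply Subtype.ext
          show ((τ (α q) : Q) : Ω) = (α q : Q) * z ^ k
          rw [hk, mul_inv_cancel_left]
        rw [hτ'a, h1, map_mul, map_zpow, hα2]
        congr 1
        exact α.symm_apply_apply q)
    obtain ⟨f, hf, hft⟩ := hSC t htH (by rw [htτ]; exact hτS)
    have hfP : ∀ a ∈ P, f a ∈ P := fun a ha => StronglyClosed.map_mem hP hf ha ha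
    -- `t` inverts `Q`
    have htinv : ∀ a : Q, t a = a⁻¹ := by
      intro a
      obtain ⟨d, hd, k, hk⟩ := hdecQ y hyQ hyD a a.2
      obtain ⟨m, hm⟩ := hDmem hzd hw1 d hd
      have h1 : a = (⟨w, hwQ⟩ : Q) ^ m * (⟨y, hyQ⟩ : Q) ^ k := by
        apply Subtype.ext
        show (a : Ω) = w ^ m * y ^ k
        rw [hm, hk]
      rw [h1, map_mul, map_zpow, map_zpow, htz, hty, mul_inv_rev, inv_zpow, inv_zpow]
      exact Subtype.ext (hQab _ (Q.inv_mem (Q.zpow_mem hwQ m)) _ (Q.inv_mem (Q.zpow_mem hyQ k)))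
    -- commuting with powers of `τ`
    have htk : ∀ k : ℤ, t * τ ^ k * t⁻¹ = τ ^ k := by
      intro k
      rw [← conj_zpow, htτ]
    obtain ⟨β, -, hβ⟩ := hf.exists_aut_of_mapsTo hfP
    apply no_inverter hp2 hPp (N := Q.subgroupOf P) (C := C) (fun a => by
      rw [mem_subgroupOf, hQp a a.2]
      constructor
      · intro h; exact Subtype.ext h
      · intro h; exact congrArg Subtype.val h) (fun h => hxC (by rw [h]; trivial)) β
    · intro g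
      rw [hmemC]
      intro a ha
      obtain ⟨k, hk⟩ := hPQβ g g.2
      have hkx := hk ⟨a, ha⟩
      -- conjugation by `f g` on `Q`
      have h2 : t (t⁻¹ ⟨a, ha⟩) = ⟨a, ha⟩ := t.apply_symm_apply _
      have h3 : f ((t⁻¹ ⟨a, ha⟩ : Q) : Ω) = a := by rw [hft, h2]
      have h4 : f ((g : Ω) * ((t⁻¹ ⟨a, ha⟩ : Q) : Ω) * (g : Ω)⁻¹) = f g * a * (f g)⁻¹ := by
        rw [hf.map_mul (P.mul_mem g.2 (hQP (t⁻¹ ⟨a, ha⟩).2)) (P.inv_mem g.2), hf.map_mul g.2 (hQP (t⁻¹ ⟨a, ha⟩).2),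
          hf.map_inv g.2, h3]
      rw [hk, hft] at h4
      have h5 : t ((τ ^ k) (t⁻¹ ⟨a, ha⟩)) = (τ ^ k) ⟨a, ha⟩ := by
        have h6 := htk k
        have h7 : (t * τ ^ k * t⁻¹) ⟨a, ha⟩ = (τ ^ k) ⟨a, ha⟩ := by rw [h6]
        exact h7
      rw [h5, ← hkx] at h4
      have h6 : (g : Ω) * a * (g : Ω)⁻¹ = f g * a * (f g)⁻¹ := h4
      show (g : Ω)⁻¹ * ((β g : P) : Ω) * a = a * ((g : Ω)⁻¹ * ((β g : P) : Ω))
      rw [hβ]
      calc (g : Ω)⁻¹ * f g * a = (g : Ω)⁻¹ * (f g * a * (f g)⁻¹) * f g := by group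
        _ = _ := by rw [← h6]; group
    · intro n hn
      apply Subtype.ext
      rw [hβ]
      have h1 := hft ⟨n, mem_subgroupOf.1 hn⟩
      rw [htinv] at h1
      exact h1

end CfsgLib.H9W
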