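import Cfsg.Agent.Lib.H9Wa
import Cfsg.Agent.Lib.H9Wc
import Cfsg.Agent.Lib.FusionFactor

/-! # S5234: strongly closed metacyclic subgroups for odd primes -/

set_option autoImplicit false
set_option maxHeartbeats 1000000

namespace CfsgLib.H9W

open Cfsg Cfsg.FusionSystem CfsgLib.SylowIn CfsgLib.Fusion
open Subgroup
open scoped commutatorElement

universe u

section
variable {Ω : Type*} [Group Ω] {S : Subgroup Ω}

/-- chains of strongly closed subgroups centralized by `P` -/
def HasChain (F : FusionSystem S) (P : Subgroup Ω) : Prop :=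
  ∃ (n : ℕ) (C : ℕ → Subgroup Ω), C 0 = ⊥ ∧ C n = P ∧ (∀ i < n, F.StronglyClosed (C (i + 1))) ∧
    ∀ i < n, ∀ x ∈ P, ∀ y ∈ C (i + 1), y⁻¹ * (x * y * x⁻¹) ∈ C i

theorem HasChain.isNormal {F : FusionSystem S} [Finite S] {p : ℕ} [Fact p.Prime]
    (hS : IsPGroup p S) (hF : F.IsSaturated p) {P : Subgroup Ω} (h : HasChain F P) : F.IsNormal P := by
  obtain ⟨n, C, h0, hn, h1, h2⟩ := h
  exact isNormal_of_chain hS hF n C h0 hn h1 h2

theorem hasChain_bot (F : FusionSystem S) : HasChain F ⊥ :=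
  ⟨0, fun _ => ⊥, rfl, rfl, fun i hi => absurd hi (Nat.not_lt_zero i), fun i hi => absurd hi (Nat.not_lt_zero i)⟩

theorem hasChain_abelian {F : FusionSystem S} {P : Subgroup Ω} (hP : F.StronglyClosed P)
    (hab : ∀ x ∈ P, ∀ y ∈ P, x * y = y * x) : HasChain F P := by
  refine ⟨1, fun i => if i = 0 then ⊥ else P, by simp, by simp, ?_, ?_⟩
  · intro i hi
    simpa using hP
  · intro i hi x hx y hy
    interval_cases i
    have hy : y ∈ P := by simpa using hy
    have : y⁻¹ * (x * y * x⁻¹) = 1 := by rw [hab x hx y hy]; group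
    rw [this]
    exact one_mem _

theorem chain_step {Ω' : Type*} [Group Ω'] {S' : Subgroup Ω'} {F : FusionSystem S} {T : Subgroup Ω} {θ : S →* Ω'}
    {E : FusionSystem S'} (h : Fac F T θ E) {P : Subgroup Ω} (hTP : T ≤ P) (hPS : P ≤ S) (hT : ∀ x ∈ P, ∀ c ∈ T, x * c = c * x)
    (hc : HasChain E (imageAlong θ P)) : HasChain F P := by
  obtain ⟨n, C, h0, hn, h1, h2⟩ := hc
  refine ⟨n + 1, fun i => if i = 0 then ⊥ else preimageAlong θ (C (i - 1)), by simp, ?_, ?_, ?_⟩
  · show (if n + 1 = 0 then ⊥ else preimageAlong θ (C (n + 1 - 1))) = P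
    rw [if_neg (Nat.succ_ne_zero n), Nat.add_sub_cancel, hn, h.pre_image hTP hPS]
  · intro i hi
    show F.StronglyClosed (if i + 1 = 0 then ⊥ else preimageAlong θ (C (i + 1 - 1)))
    rw [if_neg (Nat.succ_ne_zero i), Nat.add_sub_cancel]
    rcases Nat.eq_zero_or_pos i with rfl | hpos
    · rw [h0, h.pre_bot]; exact h.sc
    · obtain ⟨j, rfl⟩ := Nat.exists_eq_succ_of_ne_zero hpos.ne'
      have h3 := h1 j (by omega)
      exact (h.stronglyClosed_pre h3.1).2 h3
  · intro i hi x hx y hy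
    have hy : y ∈ (if i + 1 = 0 then ⊥ else preimageAlong θ (C (i + 1 - 1))) := hy
    rw [if_neg (Nat.succ_ne_zero i), Nat.add_sub_cancel] at hy
    show y⁻¹ * (x * y * x⁻¹) ∈ (if i = 0 then ⊥ else preimageAlong θ (C (i - 1)))
    rcases Nat.eq_zero_or_pos i with rfl | hpos
    · rw [h0, h.pre_bot] at hy
      rw [if_pos rfl, mem_bot, hT x hx y hy]; group
    · obtain ⟨j, rfl⟩ := Nat.exists_eq_succ_of_ne_zero hpos.ne'
      rw [if_neg (Nat.succ_ne_zero j), Nat.succ_sub_one]
      have hxS := hPS hx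
      obtain ⟨hyS, hyC⟩ := mem_preimageAlong.1 hy
      rw [mem_preimageAlong]
      refine ⟨S.mul_mem (S.inv_mem hyS) (S.mul_mem (S.mul_mem hxS hyS) (S.inv_mem hxS)), ?_⟩
      rw [tx_mul (S.inv_mem hyS) (S.mul_mem (S.mul_mem hxS hyS) (S.inv_mem hxS)), tx_mul (S.mul_mem hxS hyS) (S.inv_mem hxS),
        tx_mul hxS hyS, tx_inv hyS, tx_inv hxS]
      exact h2 j (by omega) _ ((mem_imageAlong hPS).2 ⟨x, hx, rfl⟩) _ hyC

end

theorem metacyclic_of_surj {G H : Type*} [Group G] [Group H] (f : G →* H) (hf : Function.Surjective f) (hm : Cfsg.IsMetacyclic G) :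
    Cfsg.IsMetacyclic H := by
  obtain ⟨N, hN, hNc, hQc⟩ := hm
  have hn := hN.map f hf
  refine ⟨N.map f, hn, isCyclic_of_surjective (f.subgroupMap N) (f.subgroupMap_surjective N), ?_⟩
  have hle : N ≤ (N.map f).comap f := le_comap_map f N
  apply isCyclic_of_surjective (QuotientGroup.map N (N.map f) f hle)
  intro q
  obtain ⟨h, rfl⟩ := QuotientGroup.mk'_surjective _ q
  obtain ⟨g, rfl⟩ := hf h
  exact ⟨(g : G ⧸ N), rfl⟩

theorem card_image_lt {Ω Ω' : Type*} [Group Ω] [Group Ω'] {S : Subgroup Ω} {S' : Subgroup Ω'} [Finite S] {F : FusionSystem S} {T : Subgroup Ω}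
    {θ : S →* Ω'} {E : FusionSystem S'} (h : Fac F T θ E) {P : Subgroup Ω} (hTP : T ≤ P) (hPS : P ≤ S) (hT1 : T ≠ ⊥) :
    Nat.card (imageAlong θ P) < Nat.card P := by
  have hTf : Finite T := finite_of_le h.sc.1
  have hPf : Finite P := finite_of_le hPS
  have h1 := h.card_pre (P' := imageAlong θ P) h.image_le
  rw [h.pre_image hTP hPS] at h1
  rw [h1]
  have h2 : 1 < Nat.card T := by
    rw [Subgroup.one_lt_card_iff_ne_bot]; exact hT1
  have h3 : 0 < Nat.card (imageAlong θ P) := by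
    apply Nat.pos_of_ne_zero
    intro h4
    rw [h4, zero_mul] at h1
    exact Nat.card_pos.ne' h1
  nlinarith

theorem image_metacyclic {Ω Ω' : Type*} [Group Ω] [Group Ω'] {S : Subgroup Ω}
    (θ : S →* Ω') {P : Subgroup Ω} (hPS : P ≤ S) (hm : Cfsg.IsMetacyclic P) : Cfsg.IsMetacyclic (imageAlong θ P) := by
  have h1 := metacyclic_of_surj (subgroupOfEquivOfLe hPS).symm.toMonoidHom (subgroupOfEquivOfLe hPS).symm.surjective hm
  exact metacyclic_of_surj (θ.subgroupMap (P.subgroupOf S)) (θ.subgroupMap_surjective _) h1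

/-- the quotient by a strongly closed subgroup -/
theorem exists_quot {Ω : Type u} [Group Ω] {S : Subgroup Ω} [Finite S] {p : ℕ} [hp : Fact p.Prime] (hS : IsPGroup p S)
    {F : FusionSystem S} (hF : F.IsSaturated p) {T : Subgroup Ω} (hT : F.StronglyClosed T) :
    ∃ (Ω' : Type u) (_ : Group Ω') (S' : Subgroup Ω') (θ : S →* Ω') (E : FusionSystem S'), Finite S' ∧ IsPGroup p S' ∧
      E.IsSaturated p ∧ Fac F T θ E := by
  have hn : (T.subgroupOf S).Normal := ⟨fun x hx g => StronglyClosed.conj_mem hT g.2 hx⟩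
  have hker : ∀ s ∈ S, tx (QuotientGroup.mk' (T.subgroupOf S)) s = 1 ↔ s ∈ T := by
    intro s hs
    rw [tx_of_mem hs, QuotientGroup.mk'_apply, QuotientGroup.eq_one_iff]
    rfl
  have hE := quotSys_spec hT (QuotientGroup.mk' (T.subgroupOf S)) hker
  have hfac := Fac.of hS hF hT hE
  exact ⟨S ⧸ T.subgroupOf S, inferInstance, _, _, _, hfac.finite, hfac.isPGroup hS,
    surjectiveMorphism_saturated hS hF (factorSystem_surjective hS hF hT hE), hfac⟩

theorem chain_odd {p : ℕ} [hp : Fact p.Prime] (hp2 : p ≠ 2) (n : ℕ) : ∀ {Ω : Type u} [Group Ω] {S : Subgroup Ω} [Finite S], IsPGroup p S →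
    ∀ {F : FusionSystem S}, F.IsSaturated p → ∀ {P : Subgroup Ω}, F.StronglyClosed P → Cfsg.IsMetacyclic P → Nat.card P ≤ n →
    HasChain F P := by
  induction n with
  | zero =>
    intro Ω _ S _ hS F hF P hP hm hc
    have : Finite P := finite_of_le hP.1
    exact absurd (Nat.card_pos (α := P)) (by omega)
  | succ n ih =>
    intro Ω _ S _ hS F hF P hP hm hc
    have hPf : Finite P := finite_of_le hP.1
    have hPp : IsPGroup p P := hS.to_le hP.1
    by_cases hcyc : IsCyclic P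
    · apply hasChain_abelian hP
      intro x hx y hy
      have := hcyc.commutative
      exact congrArg Subtype.val (mul_comm' (⟨x, hx⟩ : P) ⟨y, hy⟩)
    obtain ⟨N, hN, hNc, hNp⟩ := omega_metacyclic hp2 hPp hm hcyc
    obtain ⟨C, hCP, hC1, hCsc, hCc⟩ := rank_two hp2 hS hF hP (Q := N.map P.subtype) (map_subtype_le N)
      (by rw [card_map_of_injective P.subtype_injective, hNc])
      (by
        intro a ha
        constructor
        · rintro ⟨b, hb, rfl⟩
          exact congrArg Subtype.val ((hNp b).1 hb)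
        · intro h
          exact ⟨⟨a, ha⟩, (hNp _).2 (Subtype.ext h), rfl⟩)
    obtain ⟨Ω', _, S', θ, E, hfin, hS', hE, hfac⟩ := exists_quot hS hF hCsc
    have h1 := ih hS' hE ((hfac.stronglyClosed_image hCP hP.1).2 hP) (image_metacyclic θ hP.1 hm)
      (by have := card_image_lt hfac hCP hP.1 hC1; omega)
    exact chain_step hfac hCP hP.1 hCc h1

theorem s5234 {Ω : Type*} [Group Ω] {S : Subgroup Ω} [Finite S] (p : ℕ) [Fact p.Prime] (hS : IsPGroup p S)
    (F : Cfsg.FusionSystem S) (hF : F.IsSaturated p) (P : Subgroup Ω) (hP : F.StronglyClosed P) (hp : p ≠ 2)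
    (hm : Cfsg.IsMetacyclic ↥P) : F.IsNormal P :=
  (chain_odd hp _ hS hF hP hm le_rfl).isNormal hS hF

end CfsgLib.H9W
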