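import Mathlib
import Cfsg.Agent.Lib.H9Ma
import Cfsg.Agent.Lib.H9Wa
import Cfsg.Agent.Lib.H9Wd
import Cfsg.Agent.S4189

/-! # metacyclic 2-groups with an automorphism of odd order -/

set_option autoImplicit false
set_option maxHeartbeats 1000000
set_option linter.style.haveILetI false

namespace CfsgLib.H9M

open Subgroup
open scoped commutatorElement

universe u

/-- a nontrivial automorphism of order `r ≠ p` of a `p`-group acts nontrivially modulo the Frattini subgroup. -/
theorem triv_of_frattini {X : Type*} [Group X] [Finite X] {p r : ℕ} [hp : Fact p.Prime] [hr : Fact r.Prime] (hrp : r ≠ p)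
    (hX : IsPGroup p X) (α : MulAut X) (hα : α ^ r = 1) (h : ∀ x, x⁻¹ * α x ∈ frattini X) : α = 1 := by
  classical
  let C : Subgroup X :=
    { carrier := {x | α x = x}
      one_mem' := map_one α
      mul_mem' := by
        intro a b ha hb
        show α (a * b) = a * b
        rw [map_mul, show α a = a from ha, show α b = b from hb]
      inv_mem' := by
        intro a ha
        show α a⁻¹ = a⁻¹
        rw [map_inv, show α a = a from ha] }
  have hC : C ⊔ frattini X = ⊤ := by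
    rw [eq_top_iff]
    intro x _
    have hiff : ∀ g, x⁻¹ * (α.toEquiv g) ∈ frattini X ↔ x⁻¹ * g ∈ frattini X := by
      intro g
      have h1 : x⁻¹ * (α.toEquiv g) = (x⁻¹ * g) * (g⁻¹ * α g) := by
        show x⁻¹ * α g = _
        group
      rw [h1, (frattini X).mul_mem_cancel_right (h g)]
    let σ : Equiv.Perm {g : X // x⁻¹ * g ∈ frattini X} := Equiv.Perm.subtypePerm (α.toEquiv : Equiv.Perm X) hiff
    have hσn : ∀ n : ℕ, ∀ g, (((σ ^ n) g : {g : X // x⁻¹ * g ∈ frattini X}) : X) = (α ^ n) g := by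
      intro n
      induction n with
      | zero => intro g; rfl
      | succ n ih =>
        intro g
        rw [pow_succ, pow_succ, Equiv.Perm.mul_apply, ih, MulAut.mul_apply]
        rfl
    have hσ1 : σ ^ r ^ 1 = 1 := by
      ext g
      rw [pow_one, hσn, hα]
      rfl
    haveI : Fintype {g : X // x⁻¹ * g ∈ frattini X} := Fintype.ofFinite _
    have hcard : ¬ r ∣ Fintype.card {g : X // x⁻¹ * g ∈ frattini X} := by
      have e : {g : X // x⁻¹ * g ∈ frattini X} ≃ frattini X :=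
        { toFun := fun g => ⟨x⁻¹ * g.1, g.2⟩
          invFun := fun c => ⟨x * c, by rw [inv_mul_cancel_left]; exact c.2⟩
          left_inv := fun g => Subtype.ext (by simp)
          right_inv := fun c => Subtype.ext (by simp) }
      rw [← Nat.card_eq_fintype_card, Nat.card_congr e]
      obtain ⟨k, hk⟩ := (hX.to_subgroup (frattini X)).exists_card_eq
      rw [hk]
      intro h
      have := hr.out.dvd_of_dvd_pow h
      exact hrp ((Nat.prime_dvd_prime_iff_eq hr.out hp.out).1 this)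
    obtain ⟨⟨g, hg⟩, hgf⟩ := Equiv.Perm.exists_fixed_point_of_prime (p := r) (n := 1) hcard hσ1
    have hsg : α g = g := congrArg Subtype.val hgf
    have h1 : x = g * (x⁻¹ * g)⁻¹ := by group
    rw [h1]
    exact mul_mem (mem_sup_left hsg) (mem_sup_right (inv_mem hg))
  have h2 := frattini_nongenerating hC
  ext x
  have : x ∈ C := by rw [h2]; trivial
  exact this

theorem metacyclic_frattini {X : Type*} [Group X] [Finite X] {p : ℕ} [hp : Fact p.Prime] (hX : IsPGroup p X) (hm : Cfsg.IsMetacyclic X) :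
    (frattini X).index ≤ p * p := by
  have h1 := CfsgLib.H9W.metacyclic_of_surj (QuotientGroup.mk' (frattini X)) (QuotientGroup.mk'_surjective _) hm
  have h2 := CfsgLib.H9W.card_le_of_exp hp.out.pos h1 ⊤ (fun q _ => by
    obtain ⟨x, rfl⟩ := QuotientGroup.mk'_surjective _ q
    rw [← map_pow, QuotientGroup.mk'_apply, QuotientGroup.eq_one_iff]
    exact CfsgLib.PGrp.pow_mem_frattini hX x)
  rw [card_top] at h2
  exact h2

/-- invariant subgroups above `N` -/
theorem star {X : Type*} [Group X] [Finite X] {N K : Subgroup X} (hN : N.index = 4) {α : MulAut X} (hαN : ∀ x ∈ N, α x ∈ N)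
    (hα : ∀ x ∉ N, x⁻¹ * α x ∉ N) (hNK : N ≤ K) (hαK : ∀ x ∈ K, α x ∈ K) (hK : K ≠ ⊤) : K = N := by
  by_contra hne
  have h1 : N.relIndex K * K.index = N.index := relIndex_mul_index hNK
  have h2 : N.relIndex K ≠ 1 := fun h => hne (le_antisymm (relIndex_eq_one.1 h) hNK)
  have h3 : K.index ≠ 1 := fun h => hK (index_eq_one.1 h)
  rw [hN] at h1
  have h4 : N.relIndex K = 2 := by
    have h5 : N.relIndex K ∣ 4 := ⟨_, h1.symm⟩
    have h6 := Nat.le_of_dvd (by norm_num) h5
    have h7 : N.relIndex K = 0 ∨ N.relIndex K = 1 ∨ N.relIndex K = 2 ∨ N.relIndex K = 3 ∨ N.relIndex K = 4 := by omega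
    rcases h7 with h | h | h | h | h
    · rw [h] at h1; omega
    · exact absurd h h2
    · exact h
    · rw [h] at h1; omega
    · rw [h] at h1; omega
  obtain ⟨k, hkK, hkN⟩ : ∃ k ∈ K, k ∉ N := by
    by_contra h
    push Not at h
    exact hne (le_antisymm h hNK)
  have hαkN : α k ∉ N := by
    intro h
    have h5 : N.map α.toMonoidHom = N := by
      apply Subgroup.eq_of_le_of_card_ge
      · rintro _ ⟨x, hx, rfl⟩
        exact hαN x hx
      · rw [card_map_of_injective (f := α.toMonoidHom) α.injective]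
    rw [← h5] at h
    obtain ⟨x, hx, hxk⟩ := h
    have : x = k := α.injective hxk
    exact hkN (this ▸ hx)
  apply hα k hkN
  have h5 := Subgroup.mul_mem_iff_of_index_two (H := N.subgroupOf K) h4 (a := (⟨k, hkK⟩ : K)⁻¹) (b := ⟨α k, hαK k hkK⟩)
  have h6 : (⟨k, hkK⟩ : K)⁻¹ * ⟨α k, hαK k hkK⟩ ∈ N.subgroupOf K := by
    rw [h5]
    constructor
    · intro h
      exact absurd (inv_mem_iff.1 (mem_subgroupOf.1 h)) hkN
    · intro h
      exact absurd (mem_subgroupOf.1 h) hαkN
  exact mem_subgroupOf.1 h6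

/-- homocyclic of rank two -/
def Homo (X : Type*) [Group X] (n : ℕ) : Prop :=
  (∀ a b : X, a * b = b * a) ∧ ∃ x y : X, orderOf x = 2 ^ n ∧ orderOf y = 2 ^ n ∧ zpowers x ⊓ zpowers y = ⊥ ∧ zpowers x ⊔ zpowers y = ⊤

theorem Homo.card {X : Type*} [Group X] [Finite X] {n : ℕ} (h : Homo X n) : Nat.card X = 2 ^ n * 2 ^ n := by
  obtain ⟨hc, x, y, hx, hy, h1, h2⟩ := h
  haveI : (zpowers y).Normal := ⟨fun a ha g => by rw [hc g a, mul_assoc, mul_inv_cancel, mul_one]; exact ha⟩
  have := CfsgLib.H3Misc.card_sup_mul_card_inf (zpowers x) (zpowers y)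
  rw [h2, inf_comm, h1, Subgroup.card_bot, card_top, mul_one, Nat.card_zpowers, Nat.card_zpowers, hx, hy] at this
  exact this

theorem Homo.pow {X : Type*} [Group X] {n : ℕ} (h : Homo X n) (g : X) : g ^ 2 ^ n = 1 := by
  obtain ⟨hc, x, y, hx, hy, h1, h2⟩ := h
  letI : CommGroup X := { (inferInstance : Group X) with mul_comm := hc }
  have hg : g ∈ zpowers x ⊔ zpowers y := by rw [h2]; trivial
  obtain ⟨_, ⟨i, rfl⟩, _, ⟨j, rfl⟩, rfl⟩ := mem_sup.1 hg
  show (x ^ i * y ^ j) ^ 2 ^ n = 1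
  have hx' : x ^ 2 ^ n = 1 := by rw [← hx, pow_orderOf_eq_one]
  have hy' : y ^ 2 ^ n = 1 := by rw [← hy, pow_orderOf_eq_one]
  rw [mul_pow, ← zpow_natCast, ← zpow_natCast, ← zpow_mul, ← zpow_mul, mul_comm i, mul_comm j, zpow_mul, zpow_mul,
    zpow_natCast, zpow_natCast, hx', hy', one_zpow, one_zpow, mul_one]

/-- the abelian case -/
theorem main_abelian {X : Type*} [Group X] [Finite X] (hX : IsPGroup 2 X) (hm : Cfsg.IsMetacyclic X) {N : Subgroup X}
    (hNi : N.index = 4) (hN2 : ∀ x, x ^ 2 ∈ N) {α : MulAut X} (hαN : ∀ x ∈ N, α x ∈ N) (hα : ∀ x ∉ N, x⁻¹ * α x ∉ N)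
    (hc : ∀ a b : X, a * b = b * a) : ∃ n, n ≠ 0 ∧ Homo X n := by
  haveI : Fact (Nat.Prime 2) := ⟨Nat.prime_two⟩
  letI : CommGroup X := { (inferInstance : Group X) with mul_comm := hc }
  have hcm : ∀ (Z : Subgroup X) (x y : X), ⁅x, y⁆ ∈ Z := by
    intro Z x y
    rw [commutatorElement_eq_one_iff_mul_comm.2 (hc x y)]; exact Z.one_mem
  have hfr : frattini X = N := by
    have h1 : frattini X ≤ N := CfsgLib.PG2.frattini_le_of_pow_mem hX N hN2 (hcm N)
    apply le_antisymm h1
    have h2 := metacyclic_frattini hX hm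
    have h3 : (frattini X).relIndex N * N.index = (frattini X).index := relIndex_mul_index h1
    rw [hNi] at h3
    have h4 : (frattini X).relIndex N = 1 := by
      have h5 : (frattini X).index ≠ 0 := index_ne_zero_of_finite
      by_contra h6
      have h7 : (frattini X).relIndex N ≠ 0 := by intro h8; rw [h8] at h3; omega
      omega
    exact relIndex_eq_one.1 h4
  -- exponent
  obtain ⟨e, he⟩ : ∃ e, Monoid.exponent X = 2 ^ e := by
    obtain ⟨k, hk⟩ := hX.exists_card_eq
    have h1 : Monoid.exponent X ∣ 2 ^ k := by rw [← hk]; exact Group.exponent_dvd_nat_card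
    obtain ⟨j, -, hj⟩ := (Nat.dvd_prime_pow Nat.prime_two).1 h1
    exact ⟨j, hj⟩
  have hNtop : N ≠ ⊤ := by
    intro h
    rw [h, index_top] at hNi
    omega
  have he0 : e ≠ 0 := by
    rintro rfl
    rw [pow_zero, Monoid.exp_eq_one_iff] at he
    exact hNtop (Subsingleton.elim _ _)
  obtain ⟨n, rfl⟩ := Nat.exists_eq_succ_of_ne_zero he0
  have hexp : ∀ x : X, x ^ 2 ^ (n + 1) = 1 := fun x => by rw [← Nat.succ_eq_add_one, ← he]; exact Monoid.pow_exponent_eq_one x
  let K : Subgroup X :=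
    { carrier := {x | x ^ 2 ^ n = 1}
      one_mem' := one_pow _
      mul_mem' := by
        intro a b ha hb
        show (a * b) ^ 2 ^ n = 1
        rw [mul_pow, show a ^ 2 ^ n = 1 from ha, show b ^ 2 ^ n = 1 from hb, mul_one]
      inv_mem' := by
        intro a ha
        show a⁻¹ ^ 2 ^ n = 1
        rw [inv_pow, show a ^ 2 ^ n = 1 from ha, inv_one] }
  have hKmem : ∀ x, x ∈ K ↔ x ^ 2 ^ n = 1 := fun x => Iff.rfl
  have hKN : K = N := by
    apply star hNi hαN hα
    · rw [← hfr]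
      apply CfsgLib.PG2.frattini_le_of_pow_mem hX K _ (hcm K)
      intro x
      rw [hKmem, ← pow_mul, ← pow_succ']
      exact hexp x
    · intro x hx
      rw [hKmem] at hx ⊢
      rw [← map_pow, hx, map_one]
    · intro h
      have h1 : Monoid.exponent X ∣ 2 ^ n := Monoid.exponent_dvd_of_forall_pow_eq_one (fun x => by
        have : x ∈ K := by rw [h]; trivial
        exact this)
      rw [he] at h1
      have := (Nat.pow_dvd_pow_iff_le_right (by norm_num : 1 < 2)).1 h1
      omega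
  clear_value K
  subst hKN
  -- two generators
  obtain ⟨x, hx⟩ : ∃ x, x ∉ K := by
    by_contra h
    push Not at h
    exact hNtop (eq_top_iff.2 fun g _ => h g)
  have hord : ∀ g, g ∉ K → orderOf g = 2 ^ (n + 1) := fun g hg =>
    orderOf_eq_prime_pow (fun h => hg ((hKmem g).2 h)) (hexp g)
  have hlt1 : K < K ⊔ zpowers x := lt_of_le_of_ne le_sup_left fun h => hx (h ▸ mem_sup_right (mem_zpowers x))
  obtain ⟨y, hy⟩ : ∃ y, y ∉ K ⊔ zpowers x := by
    by_contra h
    push Not at h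
    have htop : K ⊔ zpowers x = ⊤ := eq_top_iff.2 fun g _ => h g
    have hxm : x ^ 2 ∈ K := hN2 x
    have h1 : Nat.card ↥(zpowers x ⊔ K) * Nat.card ↥(K ⊓ zpowers x) = Nat.card ↥(zpowers x) * Nat.card ↥K :=
      CfsgLib.H3Misc.card_sup_mul_card_inf (zpowers x) K
    have h2 : Nat.card ↥(zpowers (x ^ 2)) ≤ Nat.card ↥(K ⊓ zpowers x) := by
      apply Subgroup.card_le_of_le
      rw [zpowers_le]
      exact ⟨hxm, pow_mem (mem_zpowers x) 2⟩
    have h3 : Nat.card ↥(zpowers x) = 2 * Nat.card ↥(zpowers (x ^ 2)) := by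
      rw [Nat.card_zpowers, Nat.card_zpowers, hord x hx, orderOf_pow' x (by norm_num), hord x hx]
      have : Nat.gcd (2 ^ (n + 1)) 2 = 2 := Nat.gcd_eq_right (dvd_pow_self 2 (by omega))
      rw [this, pow_succ, Nat.mul_div_cancel _ (by norm_num), mul_comm]
    rw [sup_comm, htop, card_top, h3] at h1
    have h4 := K.card_mul_index
    rw [hNi] at h4
    rw [← h4] at h1
    have h5 : 0 < Nat.card K := Nat.card_pos
    have h6 : 0 < Nat.card ↥(zpowers (x ^ 2)) := Nat.card_pos
    nlinarith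
  have hyK : y ∉ K := fun h => hy (mem_sup_left h)
  refine ⟨n + 1, by omega, hc, x, y, hord x hx, hord y hyK, ?_, ?_⟩
  · rw [eq_bot_iff]
    rintro g ⟨⟨i, hi⟩, ⟨j, hj⟩⟩
    have hi : x ^ i = g := hi
    have hj : y ^ j = g := hj
    rw [mem_bot]
    by_contra hg1
    -- a power of `g` of order two
    obtain ⟨k, hk⟩ := IsPGroup.iff_orderOf.1 hX g
    have hk0 : k ≠ 0 := by
      rintro rfl
      rw [pow_zero, orderOf_eq_one_iff] at hk
      exact hg1 hk
    obtain ⟨l, rfl⟩ := Nat.exists_eq_succ_of_ne_zero hk0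
    have hu1 : g ^ 2 ^ l ≠ 1 := by
      intro h
      have := orderOf_dvd_of_pow_eq_one h
      rw [hk] at this
      have := (Nat.pow_dvd_pow_iff_le_right (by norm_num : 1 < 2)).1 this
      omega
    have hu2 : (g ^ 2 ^ l) ^ 2 = 1 := by
      rw [← pow_mul, ← pow_succ, ← Nat.succ_eq_add_one, ← hk, pow_orderOf_eq_one]
    have key : ∀ w : X, orderOf w = 2 ^ (n + 1) → g ^ 2 ^ l ∈ zpowers w → g ^ 2 ^ l = w ^ 2 ^ n := by
      intro w hw hmem
      have hw1 : w ^ 2 ^ n ≠ 1 := by
        intro h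
        have := orderOf_dvd_of_pow_eq_one h
        rw [hw] at this
        have := (Nat.pow_dvd_pow_iff_le_right (by norm_num : 1 < 2)).1 this
        omega
      have hw2 : (w ^ 2 ^ n) ^ 2 = 1 := by rw [← pow_mul, ← pow_succ, ← hw, pow_orderOf_eq_one]
      obtain ⟨t, ht⟩ := hmem
      have ht : w ^ t = g ^ 2 ^ l := ht
      have h1 : ((2 ^ (n + 1) : ℕ) : ℤ) ∣ t * 2 := by
        rw [← hw, orderOf_dvd_iff_zpow_eq_one, zpow_mul, ht]
        exact_mod_cast hu2
      have h2 : ((2 ^ n : ℕ) : ℤ) ∣ t := by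
        rw [pow_succ] at h1
        push_cast at h1 ⊢
        exact Int.dvd_of_mul_dvd_mul_right (by norm_num) h1
      obtain ⟨s, hs⟩ := h2
      rw [← ht, hs, zpow_mul, zpow_natCast]
      rcases Int.even_or_odd s with ⟨q, hq⟩ | ⟨q, hq⟩
      · exfalso
        apply hu1
        rw [← ht, hs, zpow_mul, zpow_natCast, hq, ← two_mul, zpow_mul]
        have : (w ^ 2 ^ n) ^ (2 : ℤ) = 1 := by exact_mod_cast hw2
        rw [this, one_zpow]
      · rw [hq, zpow_add, zpow_mul]
        have : (w ^ 2 ^ n) ^ (2 : ℤ) = 1 := by exact_mod_cast hw2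
        rw [this, one_zpow, one_mul, zpow_one]
    have e1 := key x (hord x hx) (pow_mem (show g ∈ zpowers x from ⟨i, hi⟩) _)
    have e2 := key y (hord y hyK) (pow_mem (show g ∈ zpowers y from ⟨j, hj⟩) _)
    have e3 : y * x⁻¹ ∈ K := by
      rw [hKmem, mul_pow, inv_pow, ← e1, ← e2, mul_inv_cancel]
    apply hy
    have : y = (y * x⁻¹) * x := by group
    rw [this]
    exact mul_mem (mem_sup_left e3) (mem_sup_right (mem_zpowers x))
  · apply frattini_nongenerating
    rw [hfr]
    by_contra hne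
    have h1 : (zpowers x ⊔ zpowers y ⊔ K).index ≠ 1 := fun h => hne (index_eq_one.1 h)
    have h2 : K ⊔ zpowers x ≤ zpowers x ⊔ zpowers y ⊔ K := by
      apply sup_le le_sup_right
      exact le_sup_left.trans le_sup_left
    have hlt2 : K ⊔ zpowers x < zpowers x ⊔ zpowers y ⊔ K :=
      lt_of_le_of_ne h2 fun h => hy (h ▸ mem_sup_left (mem_sup_right (mem_zpowers y)))
    have h3 : K.relIndex (K ⊔ zpowers x) * (K ⊔ zpowers x).index = K.index := relIndex_mul_index le_sup_left
    have h4 : (K ⊔ zpowers x).relIndex (zpowers x ⊔ zpowers y ⊔ K) * (zpowers x ⊔ zpowers y ⊔ K).index = (K ⊔ zpowers x).index :=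
      relIndex_mul_index h2
    have h5 : K.relIndex (K ⊔ zpowers x) ≠ 1 := fun h => hlt1.not_ge (relIndex_eq_one.1 h)
    have h6 : (K ⊔ zpowers x).relIndex (zpowers x ⊔ zpowers y ⊔ K) ≠ 1 := fun h => hlt2.not_ge (relIndex_eq_one.1 h)
    rw [hNi] at h3
    rw [← h4] at h3
    have h7 : K.relIndex (K ⊔ zpowers x) ≠ 0 := by intro h; rw [h] at h3; omega
    have h8 : (K ⊔ zpowers x).relIndex (zpowers x ⊔ zpowers y ⊔ K) ≠ 0 := by intro h; rw [h] at h3; omega
    have h9 : (zpowers x ⊔ zpowers y ⊔ K).index ≠ 0 := by intro h; rw [h] at h3; omega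
    have h10 : 2 ≤ K.relIndex (K ⊔ zpowers x) := by omega
    have h11 : 2 ≤ (K ⊔ zpowers x).relIndex (zpowers x ⊔ zpowers y ⊔ K) := by omega
    have h12 : 2 ≤ (zpowers x ⊔ zpowers y ⊔ K).index := by omega
    have h13 : 2 * (2 * 2) ≤ K.relIndex (K ⊔ zpowers x) * ((K ⊔ zpowers x).relIndex (zpowers x ⊔ zpowers y ⊔ K) *
      (zpowers x ⊔ zpowers y ⊔ K).index) := Nat.mul_le_mul h10 (Nat.mul_le_mul h11 h12)
    omega

end CfsgLib.H9M
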