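import Cfsg.Agent.Lib.H9Mb

/-! # metacyclic 2-groups with an automorphism of odd order, part 2 -/

set_option autoImplicit false
set_option maxHeartbeats 1000000
set_option linter.style.haveILetI false

namespace CfsgLib.H9M

open Subgroup
open scoped commutatorElement

universe u

theorem index_comm_eight {X : Type*} [Group X] [Finite X] (hc : Nat.card X = 8) (hna : ∃ g h : X, g * h ≠ h * g) :
    (commutator X).index = 4 := by
  haveI : Fact (Nat.Prime 2) := ⟨Nat.prime_two⟩
  have hX : IsPGroup 2 X := IsPGroup.of_card (n := 3) (by rw [hc]; norm_num)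
  have h1 : commutator X ≤ center X := by
    rw [_root_.commutator_def, commutator_le]
    intro a _ b _
    exact CfsgLib.H9W.comm_center_of_cube hX (by rw [hc]; norm_num) a b
  have h2 : 4 ≤ (center X).index := by
    by_contra h
    push Not at h
    have := CfsgLib.PGrp.comm_of_center_index_lt hX (by norm_num; exact h)
    obtain ⟨g, k, hgk⟩ := hna
    exact hgk (mul_comm' g k)
  have h3 := (center X).card_mul_index
  have h4 : Nat.card (commutator X) ≠ 1 := by
    intro h
    rw [Subgroup.card_eq_one] at h
    obtain ⟨g, k, hgk⟩ := hna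
    apply hgk
    have : ⁅g, k⁆ ∈ commutator X := commutator_mem_commutator (mem_top g) (mem_top k)
    rw [h, mem_bot, commutatorElement_eq_one_iff_mul_comm] at this
    exact this
  have h5 := Subgroup.card_le_of_le h1
  have h6 := (commutator X).card_mul_index
  rw [hc] at h3 h6
  have h7 : Nat.card (center X) ≤ 2 := by
    by_contra h
    push Not at h
    nlinarith
  have h8 : 0 < Nat.card (commutator X) := Nat.card_pos
  have h9 : Nat.card (commutator X) = 2 := by omega
  rw [h9] at h6
  omega

theorem main : ∀ (k : ℕ) (X : Type u) [Group X] [Finite X], Nat.card X ≤ k → IsPGroup 2 X → Cfsg.IsMetacyclic X →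
    ∀ (N : Subgroup X), N.index = 4 → (∀ x : X, x ^ 2 ∈ N) → ∀ (α : MulAut X) (m : ℕ), Odd m → α ^ m = 1 →
    (∀ x ∈ N, α x ∈ N) → (∀ x : X, x ∉ N → x⁻¹ * α x ∉ N) →
    (Nat.card X = 8 ∧ ∃ g h : X, g * h ≠ h * g) ∨ ∃ n, n ≠ 0 ∧ Homo X n := by
  intro k
  induction k with
  | zero =>
    intro X _ _ hk
    exact absurd (Nat.card_pos (α := X)) (by omega)
  | succ k ih =>
    intro X _ _ hk hX hm N hNi hN2 α m hmo hαm hαN hα
    haveI : Fact (Nat.Prime 2) := ⟨Nat.prime_two⟩
    by_cases hc : ∀ a b : X, a * b = b * a
    · right
      exact main_abelian hX hm hNi hN2 hαN hα hc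
    push Not at hc
    have hNtop : N ≠ ⊤ := by
      intro h
      rw [h, index_top] at hNi
      omega
    obtain ⟨x0, hx0⟩ : ∃ x, x ∉ N := by
      by_contra h
      push Not at h
      exact hNtop (eq_top_iff.2 fun g _ => h g)
    have hα1 : α ≠ 1 := by
      rintro rfl
      exact hα x0 hx0 (by rw [MulAut.one_apply, inv_mul_cancel]; exact N.one_mem)
    have hAut : ¬ IsPGroup 2 (MulAut X) := by
      intro h
      obtain ⟨j, hj⟩ := IsPGroup.iff_orderOf.1 h α
      have h1 := orderOf_dvd_of_pow_eq_one hαm
      rw [hj] at h1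
      rcases Nat.eq_zero_or_pos j with rfl | hj0
      · rw [pow_zero, orderOf_eq_one_iff] at hj
        exact hα1 hj
      · have h2 : 2 ∣ m := (dvd_pow_self 2 hj0.ne').trans h1
        rw [Nat.odd_iff] at hmo
        omega
    -- commutators lie in `N`
    have hcN : ∀ a b : X, ⁅a, b⁆ ∈ N := by
      -- `N` contains all squares, hence is normal with elementary abelian quotient
      intro a b
      have h1 : ⁅a, b⁆ = (a * b) ^ 2 * (b⁻¹ * a⁻¹ * b) ^ 2 * (b⁻¹) ^ 2 := by
        rw [commutatorElement_def, pow_two, pow_two, pow_two]; group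
      rw [h1]
      exact N.mul_mem (N.mul_mem (hN2 _) (hN2 _)) (hN2 _)
    have hcomN : commutator X ≤ N := by
      rw [_root_.commutator_def, commutator_le]
      intro a _ b _
      exact hcN a b
    -- the derived group is cyclic
    obtain ⟨A, hA, hAc, hQc⟩ := id hm
    have hcomA : commutator X ≤ A := by
      have : IsMulCommutative (X ⧸ A) := hQc.commutative
      rw [_root_.commutator_def, commutator_le]
      intro a _ b _
      rw [← (QuotientGroup.eq_one_iff (⁅a, b⁆ : X))]
      have : QuotientGroup.mk' A ⁅a, b⁆ = 1 := by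
        rw [map_commutatorElement, commutatorElement_eq_one_iff_mul_comm]
        exact mul_comm' _ _
      exact this
    have hcom1 : commutator X ≠ ⊥ := by
      intro h
      obtain ⟨a, b, hab⟩ := hc
      apply hab
      have : ⁅a, b⁆ ∈ commutator X := commutator_mem_commutator (mem_top a) (mem_top b)
      rw [h, mem_bot, commutatorElement_eq_one_iff_mul_comm] at this
      exact this
    -- the central involution
    obtain ⟨z, hzc, hz1, hz2⟩ : ∃ z ∈ commutator X, z ≠ 1 ∧ z ^ 2 = 1 := by
      obtain ⟨⟨g, hg⟩, hg1⟩ := Subgroup.ne_bot_iff_exists_ne_one.1 hcom1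
      have hg1 : g ≠ 1 := fun h => hg1 (Subtype.ext h)
      obtain ⟨j, hj⟩ := IsPGroup.iff_orderOf.1 hX g
      have hj0 : j ≠ 0 := by
        rintro rfl
        rw [pow_zero, orderOf_eq_one_iff] at hj
        exact hg1 hj
      obtain ⟨l, rfl⟩ := Nat.exists_eq_succ_of_ne_zero hj0
      refine ⟨g ^ 2 ^ l, pow_mem hg _, ?_, ?_⟩
      · intro h
        have := orderOf_dvd_of_pow_eq_one h
        rw [hj] at this
        have := (Nat.pow_dvd_pow_iff_le_right (by norm_num : 1 < 2)).1 this
        omega
      · rw [← pow_mul, ← pow_succ, ← Nat.succ_eq_add_one, ← hj, pow_orderOf_eq_one]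
    have huniq : ∀ w ∈ commutator X, w ≠ 1 → w ^ 2 = 1 → w = z := by
      intro w hw hw1 hw2
      have h1 := CfsgLib.H9W.cyc_le (C := A) (p := 2) (by norm_num) ((zpowers z ⊔ zpowers w).subgroupOf A) (by
        have hcA : ∀ a ∈ A, ∀ b ∈ A, a * b = b * a := by
          intro a ha b hb
          have := hAc.commutative
          exact congrArg Subtype.val (mul_comm' (⟨a, ha⟩ : A) ⟨b, hb⟩)
        intro c hc'
        apply Subtype.ext
        have hc' := mem_subgroupOf.1 hc'
        have hle : zpowers z ⊔ zpowers w ≤ A := by
          apply sup_le <;> rw [zpowers_le]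
          · exact hcomA hzc
          · exact hcomA hw
        haveI : (zpowers w).Normal ∨ True := Or.inr trivial
        have h3 : ∀ c ∈ zpowers z ⊔ zpowers w, c ^ 2 = 1 ∧ c ∈ A := by
          intro c hc
          refine ⟨?_, hle hc⟩
          let B : Subgroup X :=
            { carrier := {c | c ∈ A ∧ c ^ 2 = 1}
              one_mem' := ⟨A.one_mem, one_pow 2⟩
              mul_mem' := by
                rintro a b ⟨ha, ha2⟩ ⟨hb, hb2⟩
                refine ⟨A.mul_mem ha hb, ?_⟩
                have hcomm : Commute a b := hcA a ha b hb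
                rw [hcomm.mul_pow, ha2, hb2, mul_one]
              inv_mem' := by
                rintro a ⟨ha, ha2⟩
                refine ⟨A.inv_mem ha, ?_⟩
                rw [inv_pow, ha2, inv_one] }
          have h4 : zpowers z ⊔ zpowers w ≤ B := by
            apply sup_le <;> rw [zpowers_le]
            · exact ⟨hcomA hzc, hz2⟩
            · exact ⟨hcomA hw, hw2⟩
          exact (h4 hc).2
        exact (h3 c hc').1)
      have hle : zpowers z ⊔ zpowers w ≤ A := by
        apply sup_le <;> rw [zpowers_le]
        · exact hcomA hzc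
        · exact hcomA hw
      rw [Nat.card_congr (subgroupOfEquivOfLe hle).toEquiv] at h1
      rcases CfsgLib.H3Max.mem_two h1 (mem_sup_left (mem_zpowers z)) hz1 (mem_sup_right (mem_zpowers w)) with h2 | h2
      · exact absurd h2 hw1
      · exact h2
    have hzcen : ∀ g : X, g * z * g⁻¹ = z := by
      intro g
      apply huniq
      · exact (inferInstance : (commutator X).Normal).conj_mem z hzc g
      · intro h; exact hz1 (conj_eq_one_iff.1 h)
      · rw [conj_pow, hz2, mul_one, mul_inv_cancel]
    have hαz : α z = z := by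
      apply huniq
      · have h1 : (commutator X).map α.toMonoidHom = commutator X := characteristic_iff_map_eq.1 inferInstance α
        have h3 : α.toMonoidHom z ∈ (commutator X).map α.toMonoidHom := mem_map_of_mem _ hzc
        rw [h1] at h3
        exact h3
      · intro h; exact hz1 (α.injective (by rw [h, map_one]))
      · rw [← map_pow, hz2, map_one]
    set Z := zpowers z with hZ
    have hZc : Nat.card Z = 2 := by rw [hZ, Nat.card_zpowers]; exact orderOf_eq_prime hz2 hz1
    have hZcen : Z ≤ center X := by
      rw [hZ, zpowers_le, mem_center_iff]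
      intro g
      calc g * z = (g * z * g⁻¹) * g := by group
        _ = z * g := by rw [hzcen]
    haveI hZn : Z.Normal := ⟨fun n hn g => by rw [mem_center_iff.1 (hZcen hn) g, mul_assoc, mul_inv_cancel, mul_one]; exact hn⟩
    have hZcom : Z ≤ commutator X := by rw [hZ, zpowers_le]; exact hzc
    have hZN : Z ≤ N := hZcom.trans hcomN
    have hαZ : Z.map α.toMonoidHom = Z := by
      rw [hZ, MonoidHom.map_zpowers]
      congr 1
    clear_value Z
    set π := QuotientGroup.mk' Z with hπ
    have hπs : Function.Surjective π := QuotientGroup.mk'_surjective Z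
    have hπN : (N.map π).comap π = N := by
      rw [comap_map_eq, QuotientGroup.ker_mk', sup_eq_left.2 hZN]
    have hcardQ : Nat.card (X ⧸ Z) * 2 = Nat.card X := by
      rw [← hZc, mul_comm]; exact Z.card_mul_index
    have hNi' : (N.map π).index = 4 := by
      rw [← hNi, ← index_comap_of_surjective _ hπs, hπN]
    have hmemN : ∀ x : X, π x ∈ N.map π ↔ x ∈ N := by
      intro x
      constructor
      · intro h
        have : x ∈ (N.map π).comap π := h
        rwa [hπN] at this
      · exact fun h => mem_map_of_mem _ h
    let α' : MulAut (X ⧸ Z) := QuotientGroup.congr Z Z α hαZ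
    have hα' : ∀ x : X, α' (π x) = π (α x) := fun x => rfl
    have hα'n : ∀ n : ℕ, ∀ x : X, (α' ^ n) (π x) = π ((α ^ n) x) := by
      intro n
      induction n with
      | zero => intro x; rfl
      | succ n ih => intro x; rw [pow_succ, pow_succ, MulAut.mul_apply, MulAut.mul_apply, hα', ih]
    have hX' : IsPGroup 2 (X ⧸ Z) := hX.to_quotient Z
    have hrec := ih (X ⧸ Z) (by omega) hX' (CfsgLib.H9W.metacyclic_of_surj π hπs hm) (N.map π) hNi'
      (by
        intro q
        obtain ⟨x, rfl⟩ := hπs q
        rw [← map_pow, hmemN]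
        exact hN2 x) α' m hmo
      (by
        ext q
        obtain ⟨x, rfl⟩ := hπs q
        rw [hα'n, hαm]; rfl)
      (by
        intro q hq
        obtain ⟨x, rfl⟩ := hπs q
        rw [hmemN] at hq
        rw [hα', hmemN]
        exact hαN x hq)
      (by
        intro q hq
        obtain ⟨x, rfl⟩ := hπs q
        rw [hmemN] at hq
        rw [hα', ← map_inv, ← map_mul, hmemN]
        exact hα x hq)
    have hmapcom : (commutator X).map π = commutator (X ⧸ Z) := by
      rw [_root_.commutator_def, _root_.commutator_def, map_commutator, ← MonoidHom.range_eq_map, MonoidHom.range_eq_top.2 hπs]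
    have hcomidx : (commutator (X ⧸ Z)).index = (commutator X).index := by
      rw [← hmapcom, ← index_comap_of_surjective _ hπs, comap_map_eq, QuotientGroup.ker_mk', sup_eq_left.2 hZcom]
    have hna : ¬ IsMulCommutative X := by
      intro h
      obtain ⟨a, b, hab⟩ := hc
      exact hab (mul_comm' a b)
    rcases hrec with ⟨h8, hnc⟩ | ⟨n, hn0, hh⟩
    · -- order 16
      exfalso
      have h1 := index_comm_eight h8 hnc
      rw [hcomidx] at h1
      obtain ⟨e⟩ := Cfsg.Agent.S4189.result hX hna h1 hAut
      have h2 := Nat.card_congr e.toEquiv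
      rw [Nat.card_eq_fintype_card (α := QuaternionGroup 2), QuaternionGroup.card] at h2
      omega
    · -- homocyclic quotient
      have hcc := hh.card
      left
      refine ⟨?_, hc⟩
      -- the commutator subgroup is `Z`
      have hcZ : ∀ a b : X, ⁅a, b⁆ ∈ Z := by
        intro a b
        rw [← (QuotientGroup.eq_one_iff (⁅a, b⁆ : X))]
        have : π ⁅a, b⁆ = 1 := by
          rw [map_commutatorElement, commutatorElement_eq_one_iff_mul_comm]
          exact hh.1 _ _
        exact this
      have hZ2 : ∀ w ∈ Z, w ^ 2 = 1 := by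
        intro w hw
        have h1 : (⟨w, hw⟩ : Z) ^ (Nat.card Z) = 1 := pow_card_eq_one'
        rw [hZc] at h1
        exact congrArg Subtype.val h1
      by_contra h8
      have hn2 : 2 ≤ n := by
        by_contra h
        have : n = 1 := by omega
        subst this
        rw [hcc] at hcardQ
        apply h8
        rw [← hcardQ]; norm_num
      have hpZ : ∀ x : X, x ^ 2 ^ n ∈ Z := by
        intro x
        rw [← (QuotientGroup.eq_one_iff (x ^ 2 ^ n : X))]
        have := hh.pow (π x)
        rw [← map_pow] at this
        exact this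
      have hcl : ∀ a b c : X, ⁅a, b⁆ * c = c * ⁅a, b⁆ := fun a b c => (mem_center_iff.1 (hZcen (hcZ a b)) c).symm
      have hmul : ∀ a b : X, (a * b) ^ 2 ^ n = a ^ 2 ^ n * b ^ 2 ^ n := by
        intro a b
        rw [CfsgLib.PG2.mul_pow_class_two hcl]
        have h1 : 2 ^ n * (2 ^ n - 1) / 2 = 2 * (2 ^ (n - 2) * (2 ^ n - 1)) := by
          obtain ⟨l, rfl⟩ : ∃ l, n = l + 2 := ⟨n - 2, by omega⟩
          rw [Nat.add_sub_cancel]
          apply Nat.div_eq_of_eq_mul_left (by norm_num)
          rw [pow_add]
          ring
        rw [h1, pow_mul, hZ2 _ (hcZ b a), one_pow, mul_one]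
      let K : Subgroup X :=
        { carrier := {x | x ^ 2 ^ n = 1}
          one_mem' := one_pow _
          mul_mem' := by
            intro a b ha hb
            show (a * b) ^ 2 ^ n = 1
            rw [hmul, show a ^ 2 ^ n = 1 from ha, show b ^ 2 ^ n = 1 from hb, mul_one]
          inv_mem' := by
            intro a ha
            show a⁻¹ ^ 2 ^ n = 1
            rw [inv_pow, show a ^ 2 ^ n = 1 from ha, inv_one] }
      have hKmem : ∀ x, x ∈ K ↔ x ^ 2 ^ n = 1 := fun x => Iff.rfl
      have hfrK : frattini X ≤ K := by
        apply CfsgLib.PG2.frattini_le_of_pow_mem hX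
        · intro x
          rw [hKmem, ← pow_mul, mul_comm, pow_mul]
          exact hZ2 _ (hpZ x)
        · intro a b
          rw [hKmem]
          obtain ⟨l, rfl⟩ : ∃ l, n = l + 1 := ⟨n - 1, by omega⟩
          rw [pow_succ', pow_mul, hZ2 _ (hcZ a b), one_pow]
      have hfrN : frattini X = N := by
        have h1 : frattini X ≤ N := CfsgLib.PG2.frattini_le_of_pow_mem hX N hN2 hcN
        apply le_antisymm h1
        have h2 := metacyclic_frattini hX hm
        have h3 : (frattini X).relIndex N * N.index = (frattini X).index := relIndex_mul_index h1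
        rw [hNi] at h3
        have h4 : (frattini X).relIndex N = 1 := by
          have h5 : (frattini X).index ≠ 0 := index_ne_zero_of_finite
          have h7 : (frattini X).relIndex N ≠ 0 := by intro h8; rw [h8] at h3; omega
          omega
        exact relIndex_eq_one.1 h4
      -- index of `K` is at most two
      have hKidx : K.index ≤ 2 := by
        let f : X →* X :=
          { toFun := fun x => x ^ 2 ^ n
            map_one' := one_pow _
            map_mul' := hmul }
        have h1 : f.ker = K := by ext x; rfl
        rw [← h1, index_ker, ← hZc]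
        apply Subgroup.card_le_of_le
        rintro _ ⟨x, rfl⟩
        exact hpZ x
      have hKtop : K = ⊤ := by
        by_contra hne
        have h1 := star hNi hαN hα (by rw [← hfrN]; exact hfrK) (fun x hx => by
          rw [hKmem] at hx ⊢
          rw [← map_pow, hx, map_one]) hne
        rw [h1, hNi] at hKidx
        omega
      have h1 := CfsgLib.H9W.card_le_of_exp (p := 2 ^ n) (by positivity) hm ⊤ (fun x _ => by
        have : x ∈ K := by rw [hKtop]; trivial
        exact this)
      rw [card_top, ← hcardQ, hcc] at h1
      have : 0 < 2 ^ n * 2 ^ n := by positivity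
      omega

theorem odd_aut {X : Type u} [Group X] [Finite X] (hX : IsPGroup 2 X) (hm : Cfsg.IsMetacyclic X) {r : ℕ} (hr : r.Prime) (hr2 : r ≠ 2)
    (α : MulAut X) (hα : α ^ r = 1) (hα1 : α ≠ 1) :
    (Nat.card X = 8 ∧ ∃ g h : X, g * h ≠ h * g) ∨ ∃ n, n ≠ 0 ∧ Homo X n := by
  haveI : Fact (Nat.Prime 2) := ⟨Nat.prime_two⟩
  haveI : Fact r.Prime := ⟨hr⟩
  have hro : Odd r := hr.odd_of_ne_two hr2
  have hαf : ∀ x ∈ frattini X, α x ∈ frattini X := by
    intro x hx
    have h1 : (frattini X).map α.toMonoidHom = frattini X := characteristic_iff_map_eq.1 inferInstance α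
    have h3 : α.toMonoidHom x ∈ (frattini X).map α.toMonoidHom := mem_map_of_mem _ hx
    rw [h1] at h3
    exact h3
  have hfpf : ∀ x ∉ frattini X, x⁻¹ * α x ∉ frattini X := by
    intro x hx hxα
    -- `α ^ 2` acts trivially modulo the Frattini subgroup
    have hle := metacyclic_frattini hX hm
    have hc : ∀ a b : X, ⁅a, b⁆ ∈ frattini X := fun a b =>
      CfsgLib.PGrp.commutator_le_frattini hX (commutator_mem_commutator (mem_top a) (mem_top b))
    have hsq : ∀ a : X, a ^ 2 ∈ frattini X := fun a => CfsgLib.PGrp.pow_mem_frattini hX a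
    have hidx : (frattini X ⊔ zpowers x).index ≤ 2 := by
      have h1 : (frattini X).relIndex (frattini X ⊔ zpowers x) * (frattini X ⊔ zpowers x).index = (frattini X).index :=
        relIndex_mul_index le_sup_left
      have h2 : (frattini X).relIndex (frattini X ⊔ zpowers x) ≠ 1 := by
        intro h
        exact hx (relIndex_eq_one.1 h (mem_sup_right (mem_zpowers x)))
      have h3 : (frattini X).index ≠ 0 := index_ne_zero_of_finite
      have h4 : (frattini X).relIndex (frattini X ⊔ zpowers x) ≠ 0 := by intro h; rw [h, zero_mul] at h1; exact h3 h1.symm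
      by_contra h5
      push Not at h5
      have h6 : 2 * 3 ≤ (frattini X).relIndex (frattini X ⊔ zpowers x) * (frattini X ⊔ zpowers x).index :=
        Nat.mul_le_mul (by omega) h5
      omega
    set L := frattini X ⊔ zpowers x with hL
    have hLdec : ∀ g ∈ L, g ∈ frattini X ∨ g * x ∈ frattini X := by
      intro g hg
      have hg' : g ∈ ((frattini X ⊔ zpowers x : Subgroup X) : Set X) := hg
      rw [normal_mul] at hg'
      obtain ⟨f, hf, _, ⟨i, rfl⟩, rfl⟩ := hg'
      have hf : f ∈ frattini X := hf
      have hpw : ∀ j : ℤ, x ^ (2 * j) ∈ frattini X := by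
        intro j
        rw [zpow_mul]
        exact zpow_mem (by exact_mod_cast hsq x) j
      rcases Int.even_or_odd i with ⟨j, hj⟩ | ⟨j, hj⟩
      · left
        show f * x ^ i ∈ _
        rw [hj, ← two_mul]
        exact mul_mem hf (hpw j)
      · right
        show f * x ^ i * x ∈ _
        have : f * x ^ i * x = f * x ^ (2 * (j + 1)) := by
          rw [hj, mul_assoc, ← zpow_add_one]; congr 2; ring
        rw [this]
        exact mul_mem hf (hpw _)
    have hxL : x ∈ L := mem_sup_right (mem_zpowers x)
    have hxcase : ∀ a ∈ L, a⁻¹ * α a ∈ frattini X := by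
      intro a ha
      -- multiplicativity modulo the Frattini subgroup
      have hinv : ∀ f ∈ frattini X, f⁻¹ * α f ∈ frattini X := fun f hf => mul_mem (inv_mem hf) (hαf f hf)
      rcases hLdec a ha with h | h
      · exact hinv a h
      · have e : a⁻¹ * α a = x * ((a * x)⁻¹ * α (a * x)) * x⁻¹ * (x * (x⁻¹ * α x)⁻¹ * x⁻¹) := by
          rw [map_mul]; group
        rw [e]
        have hfn : (frattini X).Normal := inferInstance
        exact mul_mem (hfn.conj_mem _ (hinv _ h) x) (hfn.conj_mem _ (inv_mem hxα) x)
    have hdiff : ∀ g : X, g⁻¹ * α g ∈ L := by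
      intro g
      by_cases hLtop : L = ⊤
      · rw [hLtop]; trivial
      have hLi : L.index = 2 := by
        have h1 : L.index ≠ 1 := fun h => hLtop (index_eq_one.1 h)
        have h2 : L.index ≠ 0 := index_ne_zero_of_finite
        omega
      rw [mul_mem_iff_of_index_two hLi, inv_mem_iff]
      have hLα : ∀ a ∈ L, α a ∈ L := by
        intro a ha
        have : α a = a * (a⁻¹ * α a) := by group
        rw [this]
        exact mul_mem ha (mem_sup_left (hxcase a ha))
      have hLmap : L.map α.toMonoidHom = L := by
        apply Subgroup.eq_of_le_of_card_ge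
        · rintro _ ⟨a, ha, rfl⟩
          exact hLα a ha
        · rw [card_map_of_injective (f := α.toMonoidHom) α.injective]
      constructor
      · exact hLα g
      · intro h
        rw [← hLmap] at h
        obtain ⟨a, ha, hag⟩ := h
        have : a = g := α.injective hag
        exact this ▸ ha
    have hsq2 : ∀ g, g⁻¹ * (α ^ 2) g ∈ frattini X := by
      intro g
      have e : g⁻¹ * (α ^ 2) g = (g⁻¹ * α g) * (g⁻¹ * α g) * ((g⁻¹ * α g)⁻¹ * α (g⁻¹ * α g)) := by
        rw [pow_two, MulAut.mul_apply, map_mul, map_inv]; group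
      rw [e, ← pow_two]
      exact mul_mem (hsq _) (hxcase _ (hdiff g))
    have h2r : (α ^ 2) ^ r = 1 := by rw [← pow_mul, mul_comm, pow_mul, hα, one_pow]
    have h2 := triv_of_frattini hr2 hX (α ^ 2) h2r hsq2
    apply hα1
    obtain ⟨j, hj⟩ := hro
    have : α ^ r = α := by rw [hj, pow_succ, pow_mul, h2, one_pow, one_mul]
    rw [← this, hα]
  have hidx : (frattini X).index = 4 := by
    have hle := metacyclic_frattini hX hm
    obtain ⟨j, hj⟩ := hX.index (frattini X)
    rw [hj] at hle ⊢
    have hj2 : j ≤ 2 := by
      by_contra h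
      have : 2 ^ 3 ≤ 2 ^ j := Nat.pow_le_pow_right (by norm_num) (by omega)
      omega
    have hj0 : j ≠ 0 := by
      rintro rfl
      rw [pow_zero, index_eq_one] at hj
      apply hα1
      apply triv_of_frattini hr2 hX α hα
      intro x
      rw [hj]; trivial
    have hj1 : j ≠ 1 := by
      rintro rfl
      rw [pow_one] at hj
      have hne : frattini X ≠ ⊤ := by
        intro h
        rw [h, index_top] at hj
        omega
      obtain ⟨x, hx⟩ : ∃ x, x ∉ frattini X := by
        by_contra h
        push Not at h
        exact hne (eq_top_iff.2 fun g _ => h g)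
      apply hfpf x hx
      rw [mul_mem_iff_of_index_two hj, inv_mem_iff]
      constructor
      · intro h; exact absurd h hx
      · intro h
        have h1 : (frattini X).map α.toMonoidHom = frattini X := characteristic_iff_map_eq.1 inferInstance α
        rw [← h1] at h
        obtain ⟨a, ha, hag⟩ := h
        have : a = x := α.injective hag
        exact this ▸ ha
    have : j = 2 := by omega
    rw [this]; norm_num
  exact main _ X le_rfl hX hm (frattini X) hidx (fun x => CfsgLib.PGrp.pow_mem_frattini hX x) α r hro hα hαf hfpf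

end CfsgLib.H9M
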