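import Mathlib.GroupTheory.Sylow
import Mathlib.GroupTheory.Frattini
import Mathlib.GroupTheory.NoncommCoprod
import Cfsg.Agent.Lib.PG2
import Cfsg.Agent.Lib.PGrp
import Cfsg.Agent.Lib.Mob2

/-! # generalized extraspecial groups with an elementary abelian maximal subgroup -/

set_option autoImplicit false
set_option maxHeartbeats 400000

namespace CfsgLib.H9V

open Subgroup
open scoped commutatorElement

variable {G : Type*} [Group G]

section
theorem exists_compl_elem {G : Type*} [Group G] [Finite G] {p : ℕ} [hp : Fact p.Prime] {P N : Subgroup G}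
    (hc : ∀ x ∈ P, ∀ y ∈ P, x * y = y * x) (hpow : ∀ x ∈ P, x ^ p = 1) (hN : N ≤ P) :
    ∃ A ≤ P, A ⊓ N = ⊥ ∧ N ⊔ A = P := by
  have hfin : {A : Subgroup G | A ≤ P ∧ A ⊓ N = ⊥}.Finite := Set.toFinite _
  obtain ⟨A, hA⟩ := hfin.exists_maximal ⟨⊥, bot_le, bot_inf_eq N⟩
  obtain ⟨⟨hAP, hAN⟩, hmax⟩ := hA
  refine ⟨A, hAP, hAN, ?_⟩
  apply le_antisymm (sup_le hN hAP)
  intro x hx
  by_contra hxB
  have hx1 : zpowers x ≤ P := zpowers_le.2 hx
  -- elements of `A ⊔ zpowers x`
  have hmem : ∀ y ∈ A ⊔ zpowers x, ∃ a ∈ A, ∃ i : ℤ, y = a * x ^ i := by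
    intro y hy
    let B : Subgroup G :=
      { carrier := {y | ∃ a ∈ A, ∃ i : ℤ, y = a * x ^ i}
        one_mem' := ⟨1, one_mem _, 0, by simp⟩
        mul_mem' := by
          rintro _ _ ⟨a, ha, i, rfl⟩ ⟨b, hb, j, rfl⟩
          refine ⟨a * b, mul_mem ha hb, i + j, ?_⟩
          have h1 := hc _ (hx1 (zpow_mem (mem_zpowers x) i)) b (hAP hb)
          calc a * x ^ i * (b * x ^ j) = a * (x ^ i * b) * x ^ j := by group
            _ = a * (b * x ^ i) * x ^ j := by rw [h1]
            _ = a * b * x ^ (i + j) := by rw [zpow_add]; group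
        inv_mem' := by
          rintro _ ⟨a, ha, i, rfl⟩
          refine ⟨a⁻¹, inv_mem ha, -i, ?_⟩
          have h1 := hc _ (hx1 (zpow_mem (mem_zpowers x) (-i))) a⁻¹ (hAP (inv_mem ha))
          rw [mul_inv_rev, ← zpow_neg, h1] }
    have h2 : A ⊔ zpowers x ≤ B := by
      apply sup_le
      · intro a ha; exact ⟨a, ha, 0, by simp⟩
      · rw [zpowers_le]; exact ⟨1, one_mem _, 1, by simp⟩
    exact h2 hy
  have hnew : (A ⊔ zpowers x) ⊓ N = ⊥ := by
    rw [eq_bot_iff]
    rintro y ⟨hy, hyN⟩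
    obtain ⟨a, ha, i, rfl⟩ := hmem y hy
    have h1 : x ^ i ∈ N ⊔ A := by
      have h2 : x ^ i = a⁻¹ * (a * x ^ i) := by group
      rw [h2]
      exact mul_mem (mem_sup_right (inv_mem ha)) (mem_sup_left hyN)
    have hpi : (p : ℤ) ∣ i := by
      by_contra hnd
      have hcop : IsCoprime (p : ℤ) i := (Nat.prime_iff_prime_int.1 hp.out).coprime_iff_not_dvd.2 hnd
      obtain ⟨u, v, huv⟩ := hcop
      apply hxB
      have h3 : x = (x ^ i) ^ v := by
        rw [← zpow_mul]
        calc x = x ^ (u * p + v * i) := by rw [huv, zpow_one]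
          _ = x ^ (i * v) := by
            rw [zpow_add, mul_comm u, zpow_mul, zpow_natCast, hpow x hx, one_zpow, one_mul, mul_comm]
      rw [h3]
      exact zpow_mem h1 v
    obtain ⟨j, rfl⟩ := hpi
    have h4 : x ^ ((p : ℤ) * j) = 1 := by rw [zpow_mul, zpow_natCast, hpow x hx, one_zpow]
    rw [h4, mul_one] at hyN ⊢
    rw [← hAN]
    exact ⟨ha, hyN⟩
  have h5 := hmax ⟨sup_le hAP hx1, hnew⟩ le_sup_left
  exact hxB (mem_sup_right (h5 (mem_sup_right (mem_zpowers x))))

end

/-- commutation with `y` as a homomorphism, in class two. -/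
def lam (h : ∀ a b c : G, ⁅a, b⁆ * c = c * ⁅a, b⁆) (y : G) : G →* G where
  toFun g := ⁅g, y⁆
  map_one' := by simp
  map_mul' a b := CfsgLib.PG2.comm_mul_left h

theorem index_cent (h : ∀ a b c : G, ⁅a, b⁆ * c = c * ⁅a, b⁆) [Finite G] {D : Subgroup G} (hD : ∀ a b : G, ⁅a, b⁆ ∈ D) (y : G) :
    (centralizer ({y} : Set G)).index ∣ Nat.card D := by
  have h1 : (lam h y).ker = centralizer ({y} : Set G) := by
    ext g
    rw [MonoidHom.mem_ker, mem_centralizer_singleton_iff]
    show ⁅g, y⁆ = 1 ↔ _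
    rw [commutatorElement_eq_one_iff_mul_comm]
  rw [← h1, index_ker]
  apply card_dvd_of_le
  rintro _ ⟨g, rfl⟩
  exact hD g y

theorem index_center [Finite G] {p : ℕ} [hp : Fact p.Prime] (hG : IsPGroup p G) {D : Subgroup G} (hDc : Nat.card D = p)
    (hDz : D ≤ center G) (hD : ∀ a b : G, ⁅a, b⁆ ∈ D) {y x : G} (hxy : x * y ≠ y * x)
    (hQ : ∀ a b : G, a * y = y * a → b * y = y * b → a * b = b * a) : (center G).index = p ^ 2 := by
  have h : ∀ a b c : G, ⁅a, b⁆ * c = c * ⁅a, b⁆ := fun a b c => (mem_center_iff.1 (hDz (hD a b)) c).symm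
  have h1 := index_cent h hD y
  have h2 := index_cent h hD x
  rw [hDc] at h1 h2
  have hle : centralizer ({y} : Set G) ⊓ centralizer ({x} : Set G) ≤ center G := by
    rintro c ⟨hc1, hc2⟩
    replace hc1 := mem_centralizer_singleton_iff.1 hc1
    replace hc2 := mem_centralizer_singleton_iff.1 hc2
    have hyi : (centralizer ({y} : Set G)).index = p := by
      rcases (Nat.dvd_prime hp.out).1 h1 with h3 | h3
      · exfalso
        rw [index_eq_one] at h3
        have : x ∈ centralizer ({y} : Set G) := by rw [h3]; trivial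
        rw [mem_centralizer_singleton_iff] at this
        exact hxy this
      · exact h3
    have hco := CfsgLib.PGrp.isCoatom_of_index_prime hyi
    have h4 : centralizer ({y} : Set G) ≤ centralizer ({c} : Set G) := by
      intro a ha
      rw [mem_centralizer_singleton_iff] at ha ⊢
      exact hQ a c ha hc1
    have h5 : centralizer ({c} : Set G) = ⊤ := by
      apply hco.2
      refine lt_of_le_of_ne h4 fun h6 => ?_
      have : x ∈ centralizer ({c} : Set G) := by rw [mem_centralizer_singleton_iff]; exact hc2.symm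
      rw [← h6, mem_centralizer_singleton_iff] at this
      exact hxy this
    rw [mem_center_iff]
    intro g
    have : g ∈ centralizer ({c} : Set G) := by rw [h5]; trivial
    rw [mem_centralizer_singleton_iff] at this
    exact this
  have h6 : (center G).index ≤ p ^ 2 := by
    have h7 : (center G).index ∣ (centralizer ({y} : Set G) ⊓ centralizer ({x} : Set G)).index := index_dvd_of_le hle
    have h8 : (centralizer ({y} : Set G) ⊓ centralizer ({x} : Set G)).index ≤
      (centralizer ({y} : Set G)).index * (centralizer ({x} : Set G)).index := index_inf_le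
    have h9 := Nat.le_of_dvd hp.out.pos h1
    have h10 := Nat.le_of_dvd hp.out.pos h2
    have h11 := Nat.le_of_dvd (Nat.pos_of_ne_zero index_ne_zero_of_finite) h7
    calc _ ≤ _ := h11
      _ ≤ _ := h8
      _ ≤ p * p := Nat.mul_le_mul h9 h10
      _ = p ^ 2 := by ring
  refine le_antisymm h6 ?_
  by_contra hlt
  have := CfsgLib.PGrp.comm_of_center_index_lt hG (not_le.1 hlt)
  exact hxy (mul_comm' x y)

theorem decomp [Finite G] {p : ℕ} [hp : Fact p.Prime] {D : Subgroup G} (hDc : Nat.card D = p)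
    (hDz : D ≤ center G) (hD : ∀ a b : G, ⁅a, b⁆ ∈ D) (hpow : ∀ x : G, x ^ p ∈ D) (hZp : ∀ z ∈ center G, z ^ p = 1)
    (hidx : (center G).index = p ^ 2) :
    ∃ E A : Subgroup G, A ≤ center G ∧ E ⊓ center G = D ∧ E ⊔ center G = ⊤ ∧ Nat.card E = p ^ 3 ∧ E ⊓ A = ⊥ ∧ E ⊔ A = ⊤ := by
  have hDn : D.Normal := ⟨fun n hn g => by
    rw [mem_center_iff.1 (hDz hn) g, mul_assoc, mul_inv_cancel, mul_one]; exact hn⟩
  obtain ⟨A, hAZ, hAD, hsup⟩ := exists_compl_elem (P := center G) (N := D)
    (fun x hx y _ => (mem_center_iff.1 hx y).symm) hZp hDz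
  obtain ⟨E', -, hE1, hE2⟩ := exists_compl_elem (G := G ⧸ D) (p := p) (P := ⊤) (N := (center G).map (QuotientGroup.mk' D))
    (by
      intro x _ y _
      obtain ⟨x, rfl⟩ := QuotientGroup.mk'_surjective D x
      obtain ⟨y, rfl⟩ := QuotientGroup.mk'_surjective D y
      rw [← map_mul, ← map_mul, QuotientGroup.mk'_apply, QuotientGroup.mk'_apply, QuotientGroup.eq]
      have : (x * y)⁻¹ * (y * x) = ⁅y⁻¹, x⁻¹⁆ := by rw [commutatorElement_def]; group
      rw [this]; exact hD _ _)
    (by
      intro x _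
      obtain ⟨x, rfl⟩ := QuotientGroup.mk'_surjective D x
      rw [← map_pow, QuotientGroup.mk'_apply, QuotientGroup.eq_one_iff]
      exact hpow x) le_top
  set E := E'.comap (QuotientGroup.mk' D) with hE
  have hDE : D ≤ E := by
    intro d hd
    rw [hE, mem_comap, QuotientGroup.mk'_apply, (QuotientGroup.eq_one_iff d).2 hd]
    exact E'.one_mem
  have hEZ : E ⊓ center G = D := by
    apply le_antisymm
    · rintro g ⟨hg1, hg2⟩
      have : QuotientGroup.mk' D g ∈ E' ⊓ (center G).map (QuotientGroup.mk' D) := ⟨hg1, mem_map_of_mem _ hg2⟩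
      rw [hE1, mem_bot, QuotientGroup.mk'_apply, QuotientGroup.eq_one_iff] at this
      exact this
    · exact le_inf hDE hDz
  have hEZ2 : E ⊔ center G = ⊤ := by
    rw [eq_top_iff]
    intro g _
    have hmap : (E ⊔ center G).map (QuotientGroup.mk' D) = ⊤ := by
      rw [Subgroup.map_sup, hE, map_comap_eq_self_of_surjective (QuotientGroup.mk'_surjective D), sup_comm, hE2]
    have : QuotientGroup.mk' D g ∈ (E ⊔ center G).map (QuotientGroup.mk' D) := by rw [hmap]; trivial
    obtain ⟨h, hh, hhg⟩ := this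
    have h1 : h⁻¹ * g ∈ D := by
      rw [QuotientGroup.mk'_apply, QuotientGroup.mk'_apply, QuotientGroup.eq] at hhg
      exact hhg
    have : g = h * (h⁻¹ * g) := by group
    rw [this]
    exact mul_mem hh (le_sup_left (a := E) (hDE h1))
  refine ⟨E, A, hAZ, hEZ, hEZ2, ?_, ?_, ?_⟩
  · have h1 : (center G).relIndex E = (center G).index := by
      rw [← relIndex_top_right, ← hEZ2]
      exact (relIndex_sup_right E (center G)).symm
    have h2 : Nat.card (E ⊓ center G : Subgroup G) * (center G).relIndex E = Nat.card E := by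
      rw [inf_comm, ← inf_relIndex_right, ← relIndex_bot_left, ← relIndex_bot_left]
      exact relIndex_mul_relIndex _ _ _ bot_le inf_le_right
    rw [hEZ, hDc, h1, hidx] at h2
    rw [← h2]; ring
  · rw [eq_bot_iff]
    rintro g ⟨hg1, hg2⟩
    have h1 : g ∈ D := by rw [← hEZ]; exact ⟨hg1, hAZ hg2⟩
    rw [← hAD]; exact ⟨hg2, h1⟩
  · rw [← hEZ2, ← hsup, ← sup_assoc, sup_eq_left.2 hDE]

theorem prod_equiv {E A : Subgroup G} (hA : A ≤ center G) (h1 : E ⊓ A = ⊥) (h2 : E ⊔ A = ⊤) : Nonempty (G ≃* E × A) := by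
  have hc' : ∀ (n : E) (m : A), Commute (E.subtype n) (A.subtype m) := fun n m => mem_center_iff.1 (hA m.2) n
  have hi : Function.Injective (MonoidHom.noncommCoprod E.subtype A.subtype hc') := by
    rw [MonoidHom.noncommCoprod_injective]
    refine ⟨E.subtype_injective, A.subtype_injective, ?_⟩
    rw [range_subtype, range_subtype, disjoint_iff]
    exact h1
  have hs : Function.Surjective (MonoidHom.noncommCoprod E.subtype A.subtype hc') := by
    rw [← MonoidHom.range_eq_top, MonoidHom.noncommCoprod_range, range_subtype, range_subtype, h2]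
  exact ⟨(MulEquiv.ofBijective _ ⟨hi, hs⟩).symm⟩

end CfsgLib.H9V
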