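import Cfsg.Agent.Lib.H9Mc
import Cfsg.Agent.Lib.H9Va

/-! # S1896 -/

set_option autoImplicit false
set_option maxHeartbeats 1000000
set_option linter.style.haveILetI false

namespace CfsgLib.H9M

open Subgroup
open scoped commutatorElement

universe u

theorem zpowers_equiv {X : Type*} [Group X] {x : X} {m : ℕ} (hx : orderOf x = m) : Nonempty (zpowers x ≃* Multiplicative (ZMod m)) := by
  refine ⟨(zmodMulEquivOfGenerator (g := (⟨x, mem_zpowers x⟩ : zpowers x)) ?_ (by rw [Nat.card_zpowers, hx])).symm⟩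
  rintro ⟨g, ⟨k, hk⟩⟩
  exact ⟨k, Subtype.ext hk⟩

theorem Homo.equiv {X : Type*} [Group X] {n : ℕ} (h : Homo X n) :
    Nonempty (X ≃* Multiplicative (ZMod (2 ^ n)) × Multiplicative (ZMod (2 ^ n))) := by
  obtain ⟨hc, x, y, hx, hy, h1, h2⟩ := h
  obtain ⟨e⟩ := CfsgLib.H9V.prod_equiv (E := zpowers x) (A := zpowers y) (fun a _ => mem_center_iff.2 fun g => hc g a) h1 h2
  obtain ⟨e1⟩ := zpowers_equiv hx
  obtain ⟨e2⟩ := zpowers_equiv hy
  exact ⟨e.trans (MulEquiv.prodCongr e1 e2)⟩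

theorem exists_odd_aut {X : Type*} [Group X] [Finite X] (hA : ¬ IsPGroup 2 (MulAut X)) :
    ∃ (r : ℕ) (α : MulAut X), r.Prime ∧ r ≠ 2 ∧ α ^ r = 1 ∧ α ≠ 1 := by
  by_contra hcon
  push Not at hcon
  apply hA
  haveI : Fact (Nat.Prime 2) := ⟨Nat.prime_two⟩
  rw [IsPGroup.iff_card]
  refine ⟨_, Nat.eq_prime_pow_of_unique_prime_dvd Nat.card_pos.ne' fun {d} hd hdvd => ?_⟩
  by_contra hd2
  haveI : Fact d.Prime := ⟨hd⟩
  obtain ⟨α, hα⟩ := exists_prime_orderOf_dvd_card' d hdvd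
  have h1 := hcon d α hd hd2 (by rw [← hα, pow_orderOf_eq_one])
  rw [h1, orderOf_one] at hα
  exact hd.one_lt.ne hα

theorem s1896 {X : Type*} [Group X] [Finite X] (hX : IsPGroup 2 X)
    (hm : Cfsg.IsMetacyclic X) (hA : ¬ IsPGroup 2 (MulAut X)) :
    Nonempty (X ≃* QuaternionGroup 2) ∨
      ∃ n : ℕ, Nonempty (X ≃* Multiplicative (ZMod (2 ^ n)) × Multiplicative (ZMod (2 ^ n))) := by
  obtain ⟨r, α, hr, hr2, hα, hα1⟩ := exists_odd_aut hA
  rcases odd_aut hX hm hr hr2 α hα hα1 with ⟨h8, hna⟩ | ⟨n, -, hn⟩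
  · left
    apply Cfsg.Agent.S4189.result hX _ (index_comm_eight h8 hna) hA
    intro h
    obtain ⟨a, b, hab⟩ := hna
    exact hab (mul_comm' a b)
  · right
    exact ⟨n, hn.equiv⟩

end CfsgLib.H9M
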