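import Cfsg.Agent.Lib.H9Md
import Cfsg.Agent.S4143
import Cfsg.Prelude.Def_CaseTheorems

/-! # group theory for S5235 -/

set_option autoImplicit false
set_option maxHeartbeats 1000000
set_option linter.style.haveILetI false

namespace CfsgLib.H9M

open Subgroup
open scoped commutatorElement

universe u

theorem metacyclic_sub {G : Type*} [Group G] (hm : Cfsg.IsMetacyclic G) (H : Subgroup G) : Cfsg.IsMetacyclic H := by
  obtain ⟨N, hN, hNc, hQc⟩ := hm
  refine ⟨N.subgroupOf H, inferInstance, ?_, ?_⟩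
  · let f : N.subgroupOf H →* N :=
      { toFun := fun x => ⟨((x : H) : G), mem_subgroupOf.1 x.2⟩
        map_one' := rfl
        map_mul' := fun _ _ => rfl }
    refine isCyclic_of_injective f (fun a b h => ?_)
    have h' : (((a : H) : G)) = ((b : H) : G) := congrArg (fun z : N => (z : G)) h
    exact Subtype.ext (Subtype.ext h')
  · have hle : N.subgroupOf H ≤ N.comap H.subtype := le_rfl
    apply isCyclic_of_injective (QuotientGroup.map (N.subgroupOf H) N H.subtype hle)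
    rw [injective_iff_map_eq_one]
    intro q hq
    obtain ⟨h, rfl⟩ := QuotientGroup.mk'_surjective _ q
    rw [QuotientGroup.mk'_apply, QuotientGroup.map_mk, QuotientGroup.eq_one_iff] at hq
    rw [QuotientGroup.mk'_apply, QuotientGroup.eq_one_iff]
    exact mem_subgroupOf.2 hq

theorem cyc_inv {C : Type*} [Group C] [Finite C] [hC : IsCyclic C] {x y : C} (hx : x ^ 2 = 1) (hy : y ^ 2 = 1) (hx1 : x ≠ 1) (hy1 : y ≠ 1) :
    x = y := by
  have hcc := hC.commutative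
  let K : Subgroup C :=
    { carrier := {c | c ^ 2 = 1}
      one_mem' := one_pow 2
      mul_mem' := by
        intro a b ha hb
        show (a * b) ^ 2 = 1
        have hab : Commute a b := mul_comm' a b
        rw [hab.mul_pow, show a ^ 2 = 1 from ha, show b ^ 2 = 1 from hb, mul_one]
      inv_mem' := by
        intro a ha
        show a⁻¹ ^ 2 = 1
        rw [inv_pow, show a ^ 2 = 1 from ha, inv_one] }
  have h1 := CfsgLib.H9W.cyc_le (p := 2) (by norm_num) K (fun k hk => hk)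
  rcases CfsgLib.H3Max.mem_two h1 (show x ∈ K from hx) hx1 (show y ∈ K from hy) with h | h
  · exact absurd h hy1
  · exact h.symm

/-- no `C₄ ≀ C₂` in a metacyclic group -/
theorem wreath_contra {G : Type*} [Group G] [Finite G] (hm : Cfsg.IsMetacyclic G) {a b t : G} (ha4 : a ^ 4 = 1) (hab : a * b = b * a)
    (ht : t * a * t⁻¹ = b) (ht2 : t ^ 2 = 1) (hne : a ^ 2 ≠ 1) (hne2 : a ^ 2 ≠ b ^ 2) (V : Subgroup G)
    (haV : a ∈ V) (hbV : b ∈ V) (htV : t ∉ V) : False := by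
  obtain ⟨N, hN, hNc, hQc⟩ := hm
  have hcab : Commute a b := hab
  have htt : t * t = 1 := by rw [← pow_two]; exact ht2
  have hti : t⁻¹ = t := inv_eq_of_mul_eq_one_right htt
  have htb : t * b * t⁻¹ = a := by
    rw [← ht]
    calc t * (t * a * t⁻¹) * t⁻¹ = (t * t) * a * (t * t)⁻¹ := by group
      _ = a := by rw [htt]; group
  have hb4 : b ^ 4 = 1 := by rw [← ht, conj_pow, ha4]; group
  have hb2 : b ^ 2 ≠ 1 := by
    intro h
    apply hne
    rw [← htb, conj_pow, h]; group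
  have hQab : ∀ p q : G ⧸ N, p * q = q * p := by
    intro p q
    have := hQc.commutative
    exact mul_comm' p q
  -- elements of order two modulo `N`
  have hmod : ∀ x y : G, x ^ 2 ∈ N → y ^ 2 ∈ N → x ∉ N → y ∉ N → x⁻¹ * y ∈ N := by
    intro x y hx hy hxN hyN
    rw [← QuotientGroup.eq]
    apply cyc_inv (C := G ⧸ N)
    · exact (QuotientGroup.eq_one_iff (x ^ 2)).2 hx
    · exact (QuotientGroup.eq_one_iff (y ^ 2)).2 hy
    · intro h; exact hxN ((QuotientGroup.eq_one_iff x).1 h)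
    · intro h; exact hyN ((QuotientGroup.eq_one_iff y).1 h)
  have hNinv : ∀ x ∈ N, ∀ y ∈ N, x ^ 2 = 1 → y ^ 2 = 1 → x ≠ 1 → y ≠ 1 → x = y := by
    intro x hx y hy hx2 hy2 hx1 hy1
    have := cyc_inv (C := N) (x := ⟨x, hx⟩) (y := ⟨y, hy⟩) (Subtype.ext hx2) (Subtype.ext hy2)
      (fun h => hx1 (congrArg Subtype.val h)) (fun h => hy1 (congrArg Subtype.val h))
    exact congrArg Subtype.val this
  set e := a ^ 2 * b ^ 2 with he
  have he1 : e ≠ 1 := by
    intro h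
    apply hne2
    have h1 : a ^ 2 = (b ^ 2)⁻¹ := eq_inv_of_mul_eq_one_left h
    rw [h1, inv_eq_iff_mul_eq_one, ← pow_add]
    exact hb4
  have he2 : e ^ 2 = 1 := by
    rw [he, (hcab.pow_pow 2 2).mul_pow, ← pow_mul, ← pow_mul, ha4, hb4, mul_one]
  have heV : e ∈ V := V.mul_mem (V.pow_mem haV 2) (V.pow_mem hbV 2)
  -- `e` is a commutator
  have hd2 : (a ^ 2) ^ 2 = 1 := by rw [← pow_mul]; exact ha4
  have htd : t * a ^ 2 * t⁻¹ = b ^ 2 := by rw [← conj_pow, ht]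
  have heN : e ∈ N := by
    have h1 : e = (a ^ 2)⁻¹ * (t * a ^ 2 * t⁻¹) := by
      rw [htd, he]
      congr 1
      rw [eq_inv_iff_mul_eq_one, ← pow_two]; exact hd2
    rw [h1, ← QuotientGroup.eq]
    show QuotientGroup.mk' N (a ^ 2) = QuotientGroup.mk' N (t * a ^ 2 * t⁻¹)
    rw [map_mul, map_mul, hQab (QuotientGroup.mk' N t), map_inv, mul_inv_cancel_right]
  have hdN : a ^ 2 ∉ N := by
    intro h
    have h1 := hNinv _ h _ heN hd2 he2 hne he1
    rw [he] at h1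
    exact hb2 (mul_eq_left.1 h1.symm)
  have htN : t ∉ N := by
    intro h
    have ht1 : t ≠ 1 := by rintro rfl; exact htV V.one_mem
    have h1 := hNinv _ h _ heN ht2 he2 ht1 he1
    exact htV (h1 ▸ heV)
  have hdt : (a ^ 2)⁻¹ * t ∈ N := hmod _ _ (by rw [hd2]; exact N.one_mem) (by rw [ht2]; exact N.one_mem) hdN htN
  have hdi : (a ^ 2)⁻¹ = a ^ 2 := inv_eq_of_mul_eq_one_right (by rw [← pow_two]; exact hd2)
  rw [hdi] at hdt
  have hdt2 : (a ^ 2 * t) ^ 2 = e := by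
    rw [pow_two]
    calc a ^ 2 * t * (a ^ 2 * t) = a ^ 2 * (t * a ^ 2 * t⁻¹) * (t * t) := by group
      _ = e := by rw [htd, htt, mul_one]
  have hNab : ∀ x ∈ N, ∀ y ∈ N, Commute x y := by
    intro x hx y hy
    have := hNc.commutative
    exact congrArg Subtype.val (mul_comm' (⟨x, hx⟩ : N) ⟨y, hy⟩)
  -- elements of `N` with square `e` lie in `a² t {1, e}`
  have hfin : ∀ x ∈ N, x ∈ V → x ^ 2 = e → False := by
    intro x hx hxV hx2
    have h1 : (x⁻¹ * (a ^ 2 * t)) ^ 2 = 1 := by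
      rw [((hNab x hx _ hdt).inv_left).mul_pow, inv_pow, hx2, hdt2, inv_mul_cancel]
    have h2 : x⁻¹ * (a ^ 2 * t) ∈ V := by
      by_cases h3 : x⁻¹ * (a ^ 2 * t) = 1
      · rw [h3]; exact V.one_mem
      · rw [hNinv _ (N.mul_mem (N.inv_mem hx) hdt) _ heN h1 he2 h3 he1]; exact heV
    apply htV
    have h3 : t = (a ^ 2)⁻¹ * (x * (x⁻¹ * (a ^ 2 * t))) := by group
    rw [h3]
    exact V.mul_mem (V.inv_mem (V.pow_mem haV 2)) (V.mul_mem hxV h2)
  have hc2 : (a * b) ^ 2 = e := by rw [hcab.mul_pow]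
  by_cases hcN : a * b ∈ N
  · exact hfin _ hcN (V.mul_mem haV hbV) hc2
  · have h1 := hmod (a ^ 2) (a * b) (by rw [hd2]; exact N.one_mem) (by rw [hc2]; exact heN) hdN hcN
    rw [hdi] at h1
    apply hfin _ h1 (V.mul_mem (V.pow_mem haV 2) (V.mul_mem haV hbV))
    have h2 : Commute (a ^ 2) (a * b) := ((Commute.refl a).pow_left 2).mul_right (hcab.pow_left 2)
    rw [h2.mul_pow, hd2, one_mul, hc2]

/-- disjoint cyclic subgroups -/
theorem inf_bot_of {X : Type*} [Group X] [Finite X] (hX : IsPGroup 2 X) (hc : ∀ a b : X, a * b = b * a) {n : ℕ} {x y : X}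
    (hx : orderOf x = 2 ^ (n + 1)) (hy : orderOf y = 2 ^ (n + 1)) (hxy : (x⁻¹ * y) ^ 2 ^ n ≠ 1) : zpowers x ⊓ zpowers y = ⊥ := by
  rw [eq_bot_iff]
  rintro g ⟨⟨i, hi⟩, ⟨j, hj⟩⟩
  have hi : x ^ i = g := hi
  have hj : y ^ j = g := hj
  rw [mem_bot]
  by_contra hg1
  obtain ⟨k, hk⟩ := IsPGroup.iff_orderOf.1 hX g
  have hk0 : k ≠ 0 := by
    rintro rfl
    rw [pow_zero, orderOf_eq_one_iff] at hk
    exact hg1 hk
  obtain ⟨l, rfl⟩ := Nat.exists_eq_succ_of_ne_zero hk0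
  have hu1 : g ^ 2 ^ l ≠ 1 := by
    intro h
    have := orderOf_dvd_of_pow_eq_one h
    rw [hk] at this
    have := (Nat.pow_dvd_pow_iff_le_right (by norm_num : 1 < 2)).1 this
    omega
  have hu2 : (g ^ 2 ^ l) ^ 2 = 1 := by
    rw [← pow_mul, ← pow_succ, ← Nat.succ_eq_add_one, ← hk, pow_orderOf_eq_one]
  have key : ∀ w : X, orderOf w = 2 ^ (n + 1) → g ^ 2 ^ l ∈ zpowers w → g ^ 2 ^ l = w ^ 2 ^ n := by
    intro w hw hmem
    have hw2 : (w ^ 2 ^ n) ^ 2 = 1 := by rw [← pow_mul, ← pow_succ, ← hw, pow_orderOf_eq_one]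
    obtain ⟨t, ht⟩ := hmem
    have ht : w ^ t = g ^ 2 ^ l := ht
    have h1 : ((2 ^ (n + 1) : ℕ) : ℤ) ∣ t * 2 := by
      rw [← hw, orderOf_dvd_iff_zpow_eq_one, zpow_mul, ht]
      exact_mod_cast hu2
    have h2 : ((2 ^ n : ℕ) : ℤ) ∣ t := by
      rw [pow_succ] at h1
      push_cast at h1 ⊢
      exact Int.dvd_of_mul_dvd_mul_right (by norm_num) h1
    obtain ⟨s, hs⟩ := h2
    rw [← ht, hs, zpow_mul, zpow_natCast]
    rcases Int.even_or_odd s with ⟨q, hq⟩ | ⟨q, hq⟩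
    · exfalso
      apply hu1
      rw [← ht, hs, zpow_mul, zpow_natCast, hq, ← two_mul, zpow_mul]
      have : (w ^ 2 ^ n) ^ (2 : ℤ) = 1 := by exact_mod_cast hw2
      rw [this, one_zpow]
    · rw [hq, zpow_add, zpow_mul]
      have : (w ^ 2 ^ n) ^ (2 : ℤ) = 1 := by exact_mod_cast hw2
      rw [this, one_zpow, one_mul, zpow_one]
  have e1 := key x hx (pow_mem (show g ∈ zpowers x from ⟨i, hi⟩) _)
  have e2 := key y hy (pow_mem (show g ∈ zpowers y from ⟨j, hj⟩) _)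
  apply hxy
  have hcomm : Commute x⁻¹ y := hc _ _
  rw [hcomm.mul_pow, inv_pow, ← e1, ← e2, inv_mul_cancel]

theorem Homo.mem_frattini {X : Type*} [Group X] [Finite X] (hX : IsPGroup 2 X) {n : ℕ} (h : Homo X (n + 1)) {v : X}
    (hv : v ^ 2 ^ n = 1) : v ∈ frattini X := by
  haveI : Fact (Nat.Prime 2) := ⟨Nat.prime_two⟩
  obtain ⟨hc, x, y, hx, hy, h1, h2⟩ := h
  letI : CommGroup X := { (inferInstance : Group X) with mul_comm := hc }
  have hg : v ∈ zpowers x ⊔ zpowers y := by rw [h2]; trivial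
  obtain ⟨_, ⟨i, rfl⟩, _, ⟨j, rfl⟩, rfl⟩ := mem_sup.1 hg
  have hv : (x ^ i * y ^ j) ^ 2 ^ n = 1 := hv
  show x ^ i * y ^ j ∈ frattini X
  rw [mul_pow] at hv
  have hxy : (x ^ i) ^ 2 ^ n = ((y ^ j) ^ 2 ^ n)⁻¹ := eq_inv_of_mul_eq_one_left hv
  have hm : (x ^ i) ^ 2 ^ n ∈ zpowers x ⊓ zpowers y :=
    ⟨pow_mem (zpow_mem (mem_zpowers x) i) _, by
      show (x ^ i) ^ 2 ^ n ∈ zpowers y
      rw [hxy]; exact (zpowers y).inv_mem (pow_mem (zpow_mem (mem_zpowers y) j) _)⟩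
  rw [h1, mem_bot] at hm
  have hm2 : (y ^ j) ^ 2 ^ n = 1 := by rw [hm, one_mul] at hv; exact hv
  have key : ∀ (w : X) (k : ℤ), orderOf w = 2 ^ (n + 1) → (w ^ k) ^ 2 ^ n = 1 → w ^ k ∈ frattini X := by
    intro w k hw hk
    rw [← zpow_natCast, ← zpow_mul, ← orderOf_dvd_iff_zpow_eq_one, hw, pow_succ'] at hk
    push_cast at hk
    have h3 : (2 : ℤ) ∣ k := Int.dvd_of_mul_dvd_mul_right (by positivity) hk
    obtain ⟨l, rfl⟩ := h3
    rw [mul_comm, zpow_mul]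
    exact_mod_cast CfsgLib.PGrp.pow_mem_frattini hX (w ^ l)
  exact mul_mem (key x i hx hm) (key y j hy hm2)

/-- maximal class 2-groups are dihedral, semidihedral or quaternion -/
theorem excl {X : Type*} [Group X] [Finite X] {n : ℕ} (hn : 3 ≤ n) (hX : Nat.card X = 2 ^ n) (hc : Group.nilpotencyClass X = n - 1) :
    (∃ m : ℕ, Nonempty (X ≃* DihedralGroup m)) ∨ (∃ m : ℕ, Nonempty (X ≃* QuaternionGroup m)) ∨ Cfsg.IsQuasiDihedral X := by
  obtain ⟨m, a, hnm, hm⟩ := CfsgLib.H3Max.exists_mc hX (not_comm_of_class hn hc) (four_comm hn hX hc)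
  have hm2 := hm.two_le
  obtain ⟨x, hx⟩ := hm.exists_notMem
  rcases hm.conj hx with h3 | ⟨h3, h4⟩
  · rcases hm.sq hx with h5 | h5
    · left
      obtain ⟨e⟩ := hm.dihedral hx h3 h5
      exact ⟨_, ⟨e.symm⟩⟩
    · right; left
      obtain ⟨e⟩ := hm.quaternion hx h3 h5
      exact ⟨_, ⟨e⟩⟩
  · right; right
    obtain ⟨b, hb, hb2, hb3⟩ := hm.semidihedral hx h4
    refine ⟨m, h3, hm.card, a, b, hm.order, hb2, ?_⟩
    rw [hb3]
    rw [mul_inv_eq_iff_eq_mul, ← pow_succ, Nat.sub_add_cancel (Nat.one_le_two_pow)]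

end CfsgLib.H9M
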