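import Cfsg.Agent.Lib.H9Na

/-! # group theory for S5235, part 2 -/

set_option autoImplicit false
set_option maxHeartbeats 1000000
set_option linter.style.haveILetI false

namespace CfsgLib.H9M

open Subgroup
open scoped commutatorElement

universe u

theorem homo_contra {G : Type*} [Group G] [Finite G] (h2 : IsPGroup 2 G) (hm : Cfsg.IsMetacyclic G) (V : Subgroup G) {n : ℕ}
    (hV : Homo V (n + 2)) {g : G} (hgV : g ∉ V) (hg2 : g ^ 2 ∈ V) (hgn : ∀ v ∈ V, g * v * g⁻¹ ∈ V) {u : G} (huV : u ∈ V)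
    (hu : (u⁻¹ * (g * u * g⁻¹)) ^ 2 ^ (n + 1) ≠ 1) : False := by
  haveI : Fact (Nat.Prime 2) := ⟨Nat.prime_two⟩
  have hVc : ∀ a ∈ V, ∀ b ∈ V, a * b = b * a := fun a ha b hb => congrArg Subtype.val (hV.1 ⟨a, ha⟩ ⟨b, hb⟩)
  have hwV := hgn u huV
  set w := g * u * g⁻¹ with hw
  have hcuw : Commute u w := hVc u huV w hwV
  have hgw : g * w * g⁻¹ = u := by
    have h1 := hVc _ hg2 u huV
    calc g * w * g⁻¹ = g ^ 2 * u * (g ^ 2)⁻¹ := by rw [hw, pow_two]; group
      _ = u := by rw [h1]; group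
  have hexp : ∀ v ∈ V, v ^ 2 ^ (n + 2) = 1 := fun v hv => congrArg Subtype.val (hV.pow ⟨v, hv⟩)
  have hmulp : (u⁻¹ * w) ^ 2 ^ (n + 1) = (u ^ 2 ^ (n + 1))⁻¹ * w ^ 2 ^ (n + 1) := by
    rw [hcuw.inv_left.mul_pow, inv_pow]
  have hwp : w ^ 2 ^ (n + 1) = g * u ^ 2 ^ (n + 1) * g⁻¹ := by rw [hw, conj_pow]
  have hu1 : u ^ 2 ^ (n + 1) ≠ 1 := by
    intro h
    apply hu
    rw [hmulp, hwp, h]; group
  have hw1 : w ^ 2 ^ (n + 1) ≠ 1 := by
    intro h
    rw [hwp] at h
    exact hu1 (conj_eq_one_iff.1 h)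
  have hou : orderOf u = 2 ^ (n + 2) := orderOf_eq_prime_pow hu1 (hexp u huV)
  have how : orderOf w = 2 ^ (n + 2) := orderOf_eq_prime_pow hw1 (hexp w hwV)
  have hou' : orderOf (⟨u, huV⟩ : V) = 2 ^ (n + 1 + 1) := by rw [orderOf_mk]; exact hou
  have how' : orderOf (⟨w, hwV⟩ : V) = 2 ^ (n + 1 + 1) := by rw [orderOf_mk]; exact how
  have hinf := inf_bot_of (X := V) (h2.to_subgroup V) hV.1 hou' how' (fun h => hu (congrArg Subtype.val h))
  have hsup : zpowers (⟨u, huV⟩ : V) ⊔ zpowers (⟨w, hwV⟩ : V) = ⊤ := by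
    haveI : (zpowers (⟨w, hwV⟩ : V)).Normal := ⟨fun a ha g => by rw [hV.1 g a, mul_assoc, mul_inv_cancel, mul_one]; exact ha⟩
    have h1 := CfsgLib.H3Misc.card_sup_mul_card_inf (zpowers (⟨u, huV⟩ : V)) (zpowers (⟨w, hwV⟩ : V))
    rw [inf_comm, hinf, Subgroup.card_bot, mul_one, Nat.card_zpowers, Nat.card_zpowers, hou', how'] at h1
    apply Subgroup.eq_top_of_card_eq
    rw [h1, hV.card]
  -- `g ^ 2`
  obtain ⟨i, j, hij⟩ : ∃ i j : ℤ, g ^ 2 = u ^ i * w ^ j := by
    letI : CommGroup V := { (inferInstance : Group V) with mul_comm := hV.1 }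
    have h1 : (⟨g ^ 2, hg2⟩ : V) ∈ zpowers (⟨u, huV⟩ : V) ⊔ zpowers (⟨w, hwV⟩ : V) := by rw [hsup]; trivial
    obtain ⟨_, ⟨i, rfl⟩, _, ⟨j, rfl⟩, h3⟩ := mem_sup.1 h1
    exact ⟨i, j, (congrArg Subtype.val h3).symm⟩
  have hji : w ^ j = w ^ i := by
    have h1 : g * (u ^ i * w ^ j) * g⁻¹ = u ^ i * w ^ j := by
      rw [← hij]
      rw [pow_two]; group
    have h3 : g * (u ^ i * w ^ j) * g⁻¹ = w ^ i * u ^ j := by
      have e1 : g * u ^ i * g⁻¹ = w ^ i := by rw [← conj_zpow, ← hw]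
      have e2 : g * w ^ j * g⁻¹ = u ^ j := by rw [← conj_zpow, hgw]
      calc g * (u ^ i * w ^ j) * g⁻¹ = (g * u ^ i * g⁻¹) * (g * w ^ j * g⁻¹) := by group
        _ = _ := by rw [e1, e2]
    rw [h1] at h3
    have h4 : w ^ (j - i) = u ^ (j - i) := by
      have hc1 : Commute (u ^ i) (w ^ j) := hcuw.zpow_zpow i j
      have hc2 : Commute (w ^ i) (u ^ j) := (hcuw.zpow_zpow j i).symm
      rw [zpow_sub, zpow_sub, mul_inv_eq_iff_eq_mul]
      have h5 : w ^ j = (u ^ i)⁻¹ * (w ^ i * u ^ j) := by rw [← h3]; group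
      rw [h5, hc2.eq]
      have h6 : Commute (u ^ i)⁻¹ (u ^ j) := (((Commute.refl u).zpow_zpow i j).inv_left)
      rw [← mul_assoc, h6.eq]
    have h5 : (⟨w, hwV⟩ : V) ^ (j - i) ∈ zpowers (⟨u, huV⟩ : V) ⊓ zpowers (⟨w, hwV⟩ : V) := by
      refine ⟨⟨j - i, ?_⟩, ⟨j - i, rfl⟩⟩
      exact Subtype.ext h4.symm
    rw [hinf, mem_bot] at h5
    have h6 : w ^ (j - i) = 1 := congrArg Subtype.val h5
    rw [zpow_sub, mul_inv_eq_one] at h6
    exact h6
  rw [hji] at hij
  have hgiu : g⁻¹ * u * g = w := by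
    rw [← hgw]; group
  set t := g * u ^ (-i) with ht
  have ht2 : t ^ 2 = 1 := by
    have e1 : g⁻¹ * u ^ (-i) * g = w ^ (-i) := by
      have : g⁻¹ * u ^ (-i) * g⁻¹⁻¹ = (g⁻¹ * u * g⁻¹⁻¹) ^ (-i) := conj_zpow.symm
      rw [inv_inv, hgiu] at this
      exact this
    have e2 : Commute (u ^ i) (w ^ i) := hcuw.zpow_zpow i i
    calc t ^ 2 = g ^ 2 * (g⁻¹ * u ^ (-i) * g) * u ^ (-i) := by rw [ht, pow_two, pow_two]; group
      _ = u ^ i * w ^ i * w ^ (-i) * u ^ (-i) := by rw [e1, hij]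
      _ = 1 := by group
  have htu : t * u * t⁻¹ = w := by rw [ht, hw]; group
  have htV : t ∉ V := by
    intro h
    apply hgV
    have : g = t * u ^ i := by rw [ht]; group
    rw [this]
    exact V.mul_mem h (V.zpow_mem huV i)
  have e4 : ∀ v : G, (v ^ 2 ^ n) ^ 4 = v ^ 2 ^ (n + 2) := fun v => by rw [← pow_mul]; congr 1; rw [pow_add]; norm_num
  have e2 : ∀ v : G, (v ^ 2 ^ n) ^ 2 = v ^ 2 ^ (n + 1) := fun v => by rw [← pow_mul]; congr 1
  refine wreath_contra hm (a := u ^ 2 ^ n) (b := w ^ 2 ^ n) (t := t) ?_ (hcuw.pow_pow _ _) ?_ ht2 ?_ ?_ V (V.pow_mem huV _) (V.pow_mem hwV _) htV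
  · rw [e4]; exact hexp u huV
  · rw [← conj_pow, htu]
  · rw [e2]; exact hu1
  · rw [e2, e2]
    intro h
    apply hu
    rw [hmulp, h, inv_mul_cancel]

theorem eight_facts {X : Type*} [Group X] [Finite X] (hc : Nat.card X = 8) (hna : ∃ g h : X, g * h ≠ h * g) :
    center X ≤ commutator X ∧ Nat.card (commutator X) = 2 := by
  haveI : Fact (Nat.Prime 2) := ⟨Nat.prime_two⟩
  have hX : IsPGroup 2 X := IsPGroup.of_card (n := 3) (by rw [hc]; norm_num)
  have h1 : commutator X ≤ center X := by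
    rw [_root_.commutator_def, commutator_le]
    intro a _ b _
    exact CfsgLib.H9W.comm_center_of_cube hX (by rw [hc]; norm_num) a b
  have h2 : 4 ≤ (center X).index := by
    by_contra h
    push Not at h
    have := CfsgLib.PGrp.comm_of_center_index_lt hX (by norm_num; exact h)
    obtain ⟨g, k, hgk⟩ := hna
    exact hgk (mul_comm' g k)
  have h3 := (center X).card_mul_index
  have h4 := index_comm_eight hc hna
  have h6 := (commutator X).card_mul_index
  rw [hc] at h3 h6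
  have h7 : Nat.card (center X) ≤ 2 := by
    by_contra h
    push Not at h
    nlinarith
  rw [h4] at h6
  have h9 : Nat.card (commutator X) = 2 := by omega
  refine ⟨?_, h9⟩
  rw [Subgroup.eq_of_le_of_card_ge h1 (by rw [h9]; exact h7)]

theorem q8_centralizer {G : Type*} [Group G] [Finite G] (h2 : IsPGroup 2 G) (hm : Cfsg.IsMetacyclic G) (V : Subgroup G)
    (hV8 : Nat.card V = 8) (hna : ∃ g h : V, g * h ≠ h * g) : centralizer (V : Set G) ≤ V := by
  haveI : Fact (Nat.Prime 2) := ⟨Nat.prime_two⟩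
  by_contra hcon
  obtain ⟨c0, hc0, hc0V⟩ := SetLike.not_le_iff_exists.1 hcon
  -- choose `c`
  obtain ⟨c, hcC, hcV, hc2⟩ : ∃ c ∈ centralizer (V : Set G), c ∉ V ∧ c ^ 2 ∈ V := by
    classical
    have hex : ∃ k : ℕ, c0 ^ 2 ^ k ∈ V := by
      obtain ⟨k, hk⟩ := IsPGroup.iff_orderOf.1 h2 c0
      exact ⟨k, by rw [← hk, pow_orderOf_eq_one]; exact V.one_mem⟩
    have hk := Nat.find_spec hex
    have hk0 : Nat.find hex ≠ 0 := by
      intro h
      rw [h, pow_zero, pow_one] at hk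
      exact hc0V hk
    obtain ⟨l, hl⟩ := Nat.exists_eq_succ_of_ne_zero hk0
    refine ⟨c0 ^ 2 ^ l, (centralizer (V : Set G)).pow_mem hc0 _, ?_, ?_⟩
    · exact Nat.find_min hex (by omega)
    · rw [← pow_mul, ← pow_succ, ← Nat.succ_eq_add_one, ← hl]; exact hk
  obtain ⟨hcen, hcc⟩ := eight_facts hV8 hna
  have hidx := index_comm_eight hV8 hna
  have hVp := h2.to_subgroup V
  obtain ⟨N, hN, hNc, hQc⟩ := hm
  have hQab : ∀ p q : G ⧸ N, p * q = q * p := by
    intro p q
    have := hQc.commutative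
    exact mul_comm' p q
  have hcN : commutator V ≤ N.subgroupOf V := by
    rw [_root_.commutator_def, commutator_le]
    intro a _ b _
    rw [mem_subgroupOf]
    rw [← (QuotientGroup.eq_one_iff ((⁅a, b⁆ : V) : G))]
    have : QuotientGroup.mk' N ((⁅a, b⁆ : V) : G) = 1 := by
      have e : ((⁅a, b⁆ : V) : G) = ⁅(a : G), (b : G)⁆ := rfl
      rw [e, map_commutatorElement, commutatorElement_eq_one_iff_mul_comm]
      exact hQab _ _
    exact this
  have hVex : ∀ v ∈ V, v ^ 4 = 1 := by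
    intro v hv
    have h1 : orderOf (⟨v, hv⟩ : V) ∣ 2 ^ 3 := by
      have := orderOf_dvd_natCard (⟨v, hv⟩ : V)
      rw [hV8] at this
      exact this
    obtain ⟨j, hj, hj2⟩ := (Nat.dvd_prime_pow Nat.prime_two).1 h1
    have h3 : j ≠ 3 := by
      rintro rfl
      have hcy : IsCyclic V := isCyclic_of_orderOf_eq_card (⟨v, hv⟩ : V) (by rw [hj2, hV8]; norm_num)
      obtain ⟨a, b, hab⟩ := hna
      have := hcy.commutative
      exact hab (mul_comm' a b)
    have h4 : orderOf (⟨v, hv⟩ : V) ∣ 4 := by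
      rw [hj2, show 4 = 2 ^ 2 by norm_num]
      exact pow_dvd_pow 2 (by omega)
    have h5 := orderOf_dvd_iff_pow_eq_one.1 h4
    exact congrArg Subtype.val h5
  have hNV : (N.subgroupOf V).index = 2 := by
    have h1 : (commutator V).relIndex (N.subgroupOf V) * (N.subgroupOf V).index = (commutator V).index := relIndex_mul_index hcN
    rw [hidx] at h1
    have h3 : (N.subgroupOf V).index ≠ 1 := by
      intro h
      rw [index_eq_one] at h
      obtain ⟨a, b, hab⟩ := hna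
      apply hab
      have ha : (a : G) ∈ N := mem_subgroupOf.1 (by rw [h]; trivial)
      have hb : (b : G) ∈ N := mem_subgroupOf.1 (by rw [h]; trivial)
      have := hNc.commutative
      exact Subtype.ext (show (a : G) * b = b * a from congrArg (fun z : N => (z : G)) (mul_comm' (⟨a, ha⟩ : N) ⟨b, hb⟩))
    have h4 : (N.subgroupOf V).index ≠ 4 := by
      intro h
      rw [h] at h1
      have h5 : (commutator V).relIndex (N.subgroupOf V) = 1 := by omega
      have h6 : N.subgroupOf V = commutator V := le_antisymm (relIndex_eq_one.1 h5) hcN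
      apply not_cyclic_ab hVp hna
      have hle : commutator V ≤ N.comap V.subtype := hcN
      apply isCyclic_of_injective (QuotientGroup.map (commutator V) N V.subtype hle)
      rw [injective_iff_map_eq_one]
      intro q hq
      obtain ⟨v, rfl⟩ := QuotientGroup.mk'_surjective _ q
      rw [QuotientGroup.mk'_apply, QuotientGroup.map_mk, QuotientGroup.eq_one_iff] at hq
      rw [QuotientGroup.mk'_apply, QuotientGroup.eq_one_iff, ← h6]
      exact mem_subgroupOf.2 hq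
    have h5 : (N.subgroupOf V).index ∣ 4 := ⟨_, by rw [mul_comm]; exact h1.symm⟩
    have h6 := Nat.le_of_dvd (by norm_num) h5
    have h7 : (N.subgroupOf V).index = 0 ∨ (N.subgroupOf V).index = 2 ∨ (N.subgroupOf V).index = 3 := by omega
    rcases h7 with h | h | h
    · rw [h] at h1; omega
    · exact h
    · rw [h] at h1; omega
  have hNV4 : Nat.card (N.subgroupOf V) = 4 := by
    have := (N.subgroupOf V).card_mul_index
    rw [hNV, hV8] at this
    omega
  -- elements of exponent four of `N` lie in `V`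
  have hNab : ∀ x ∈ N, ∀ y ∈ N, Commute x y := by
    intro x hx y hy
    have := hNc.commutative
    exact congrArg Subtype.val (mul_comm' (⟨x, hx⟩ : N) ⟨y, hy⟩)
  let K : Subgroup G :=
    { carrier := {x | x ∈ N ∧ x ^ 4 = 1}
      one_mem' := ⟨N.one_mem, one_pow 4⟩
      mul_mem' := by
        rintro a b ⟨ha, ha2⟩ ⟨hb, hb2⟩
        refine ⟨N.mul_mem ha hb, ?_⟩
        rw [(hNab a ha b hb).mul_pow, ha2, hb2, mul_one]
      inv_mem' := by
        rintro a ⟨ha, ha2⟩
        refine ⟨N.inv_mem ha, ?_⟩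
        rw [inv_pow, ha2, inv_one] }
  have hKN : K ≤ N := fun x hx => hx.1
  have hK4 : Nat.card K ≤ 4 := by
    have h1 := CfsgLib.H9W.cyc_le (p := 4) (by norm_num) (K.subgroupOf N) (fun k hk => Subtype.ext (mem_subgroupOf.1 hk).2)
    rwa [Nat.card_congr (subgroupOfEquivOfLe hKN).toEquiv] at h1
  have hKV : K ≤ V := by
    have h1 : (N.subgroupOf V).map V.subtype ≤ K := by
      rintro _ ⟨x, hx, rfl⟩
      exact ⟨mem_subgroupOf.1 hx, hVex x x.2⟩
    have h3 : (N.subgroupOf V).map V.subtype = K := by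
      apply Subgroup.eq_of_le_of_card_ge h1
      rw [card_map_of_injective V.subtype_injective, hNV4]
      exact hK4
    rw [← h3]
    exact map_subtype_le _
  -- `c ^ 2`
  have hcomm : ∀ v ∈ V, Commute c v := fun v hv => (mem_centralizer_iff.1 hcC v hv).symm
  have hc2cen : (⟨c ^ 2, hc2⟩ : V) ∈ commutator V := by
    apply hcen
    rw [mem_center_iff]
    intro v
    exact Subtype.ext ((hcomm v v.2).pow_left 2).symm
  have hc2N : c ^ 2 ∈ N := mem_subgroupOf.1 (hcN hc2cen)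
  have hc4 : c ^ 4 = 1 := by
    have h1 : (⟨⟨c ^ 2, hc2⟩, hc2cen⟩ : commutator V) ^ (Nat.card (commutator V)) = 1 := pow_card_eq_one'
    rw [hcc] at h1
    have h3 : (c ^ 2) ^ 2 = 1 := congrArg (fun z : commutator V => ((z : V) : G)) h1
    rw [← pow_mul] at h3
    exact h3
  by_cases hcN' : c ∈ N
  · exact hcV (hKV ⟨hcN', hc4⟩)
  · -- an element of `V` outside `N`
    obtain ⟨w, hw⟩ : ∃ w : V, w ∉ N.subgroupOf V := by
      by_contra h
      push Not at h
      have : N.subgroupOf V = ⊤ := eq_top_iff.2 fun g _ => h g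
      rw [this, index_top] at hNV
      omega
    have hwN : (w : G) ∉ N := fun h => hw (mem_subgroupOf.2 h)
    have hw2 : (w : G) ^ 2 ∈ N := by
      have h1 : w ^ 2 ∈ N.subgroupOf V := by
        rw [pow_two, mul_mem_iff_of_index_two hNV]
      exact mem_subgroupOf.1 h1
    have h1 : c⁻¹ * w ∈ N := by
      rw [← QuotientGroup.eq]
      apply cyc_inv (C := G ⧸ N)
      · exact (QuotientGroup.eq_one_iff (c ^ 2)).2 hc2N
      · exact (QuotientGroup.eq_one_iff ((w : G) ^ 2)).2 hw2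
      · intro h; exact hcN' ((QuotientGroup.eq_one_iff c).1 h)
      · intro h; exact hwN ((QuotientGroup.eq_one_iff (w : G)).1 h)
    have h3 : (c⁻¹ * w) ^ 4 = 1 := by
      rw [((hcomm w w.2).inv_left).mul_pow, inv_pow, hc4, hVex w w.2]; group
    have h4 := hKV ⟨h1, h3⟩
    apply hcV
    have h5 : c = w * (c⁻¹ * w)⁻¹ := by group
    rw [h5]
    exact V.mul_mem w.2 (V.inv_mem h4)

end CfsgLib.H9M
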