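import Cfsg.Agent.Lib.H9Nb
import Cfsg.Agent.Lib.FusionNormal
import Cfsg.Agent.Lib.FusionAlperin
import Cfsg.Agent.Lib.FusionRadical

/-! # S5235: strongly closed metacyclic subgroups, p = 2 -/

set_option autoImplicit false
set_option maxHeartbeats 2000000
set_option linter.style.haveILetI false

namespace CfsgLib.H9M

open Cfsg Cfsg.FusionSystem CfsgLib.SylowIn CfsgLib.Fusion
open Subgroup

theorem isPGroup_two_of {G : Type*} [Group G] [Finite G] (D : Subgroup G)
    (h : ∀ r : ℕ, r.Prime → r ≠ 2 → ∀ β ∈ D, β ^ r = 1 → β = 1) : IsPGroup 2 D := by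
  haveI : Fact (Nat.Prime 2) := ⟨Nat.prime_two⟩
  rw [IsPGroup.iff_card]
  refine ⟨_, Nat.eq_prime_pow_of_unique_prime_dvd Nat.card_pos.ne' fun {d} hd hdvd => ?_⟩
  by_contra hd2
  haveI : Fact d.Prime := ⟨hd⟩
  obtain ⟨α, hα⟩ := exists_prime_orderOf_dvd_card' d hdvd
  have h1 := h d hd hd2 α α.2 (by
    have : α ^ d = 1 := by rw [← hα, pow_orderOf_eq_one]
    exact congrArg Subtype.val this)
  have h2 : α = 1 := Subtype.ext h1
  rw [h2, orderOf_one] at hα
  exact hd.one_lt.ne hα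

theorem Homo.of_equiv {X Y : Type*} [Group X] [Group Y] (e : X ≃* Y) {n : ℕ} (h : Homo X n) : Homo Y n := by
  obtain ⟨hc, x, y, hx, hy, h1, h2⟩ := h
  refine ⟨fun a b => ?_, e x, e y, ?_, ?_, ?_, ?_⟩
  · rw [← e.apply_symm_apply a, ← e.apply_symm_apply b, ← map_mul, hc, map_mul]
  · rw [← hx]; exact orderOf_injective e.toMonoidHom e.injective x
  · rw [← hy]; exact orderOf_injective e.toMonoidHom e.injective y
  · have h3 : zpowers (e x) = (zpowers x).map e.toMonoidHom := (MonoidHom.map_zpowers e.toMonoidHom x).symm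
    have h4 : zpowers (e y) = (zpowers y).map e.toMonoidHom := (MonoidHom.map_zpowers e.toMonoidHom y).symm
    rw [h3, h4, ← map_inf _ _ _ e.injective, h1, Subgroup.map_bot]
  · have h3 : zpowers (e x) = (zpowers x).map e.toMonoidHom := (MonoidHom.map_zpowers e.toMonoidHom x).symm
    have h4 : zpowers (e y) = (zpowers y).map e.toMonoidHom := (MonoidHom.map_zpowers e.toMonoidHom y).symm
    rw [h3, h4, ← Subgroup.map_sup, h2]
    rw [← MonoidHom.range_eq_map]
    exact MonoidHom.range_eq_top.2 e.surjective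

variable {Ω : Type*} [Group Ω] {S : Subgroup Ω}

theorem norm_step [Finite S] {p : ℕ} [Fact p.Prime] (hS : IsPGroup p S) {R K : Subgroup Ω} (hR : R ≤ S) (hK : K ≤ S)
    (hn : R ≤ Subgroup.normalizer (K : Set Ω)) (hKR : ¬ K ≤ R) : ∃ b ∈ K, b ∈ normalizerIn S R ∧ b ∉ R := by
  have hlt : R < R ⊔ K := left_lt_sup.2 hKR
  have hRK : R ⊔ K ≤ S := sup_le hR hK
  have hPN : R < (R ⊔ K) ⊓ normalizerIn S R := lt_inf_normalizerIn hS hlt hRK
  obtain ⟨g, hg, hgP⟩ := SetLike.exists_of_lt hPN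
  have hx' : g ∈ ((R ⊔ K : Subgroup Ω) : Set Ω) := hg.1
  rw [Subgroup.coe_mul_of_left_le_normalizer_right _ _ hn] at hx'
  obtain ⟨a, ha, b, hb, hab⟩ := hx'
  refine ⟨b, hb, ?_, fun hbP => hgP ?_⟩
  · have h1 : b = a⁻¹ * g := by rw [← hab]; simp
    rw [h1]
    exact (normalizerIn S R).mul_mem ((normalizerIn S R).inv_mem (le_normalizerIn hR ha)) hg.2
  · rw [← hab]; exact R.mul_mem ha hbP

theorem main2 {F : FusionSystem S} [Finite S] (hS : IsPGroup 2 S) (hF : F.IsSaturated 2) {P : Subgroup Ω} (hP : F.StronglyClosed P)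
    (hm : Cfsg.IsMetacyclic ↥P) (hd : ¬ ∃ m : ℕ, Nonempty (↥P ≃* DihedralGroup m))
    (hq : ¬ ∃ m : ℕ, Nonempty (↥P ≃* QuaternionGroup m)) (hsd : ¬ Cfsg.IsQuasiDihedral ↥P) : F.IsNormal P := by
  haveI : Fact (Nat.Prime 2) := ⟨Nat.prime_two⟩
  apply isNormal_of_stronglyClosed hS hF hP
  intro R hRc hRr
  by_contra hPR
  have hRS := hRc.1
  have hRf : Finite R := finite_of_le hRS
  have hPf : Finite P := finite_of_le hP.1
  have hRp : IsPGroup 2 R := hS.to_le hRS
  have hPp : IsPGroup 2 P := hS.to_le hP.1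
  have hCR : centralizerIn S R ≤ R := hRc.2 R (isConj_refl hRS)
  have hαV : ∀ α ∈ F.autGroup R, ∀ x : R, (x : Ω) ∈ P → ((α x : R) : Ω) ∈ P := by
    intro α hα x hx
    rw [← aext_apply]
    exact StronglyClosed.map_mem hP ((mem_autGroup_iff' hRS α).1 hα) x.2 hx
  have hPn : R ≤ Subgroup.normalizer (P : Set Ω) := by
    intro y hy
    exact mem_normalizer_of_conj_mem fun z hz => StronglyClosed.conj_mem hP (hRS hy) hz
  -- automorphisms trivial on `R / R ∩ P`
  let M : Subgroup (MulAut R) :=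
    { carrier := {α | α ∈ F.autGroup R ∧ ∀ x : R, (x : Ω)⁻¹ * α x ∈ P}
      mul_mem' := by
        rintro α β ⟨h1, h2⟩ ⟨h1', h2'⟩
        refine ⟨(F.autGroup R).mul_mem h1 h1', fun x => ?_⟩
        have e : (x : Ω)⁻¹ * ((α * β) x : R) = ((x : Ω)⁻¹ * β x) * ((β x : Ω)⁻¹ * α (β x)) := by
          show (x : Ω)⁻¹ * (α (β x) : R) = _
          group
        rw [e]
        exact P.mul_mem (h2' x) (h2 (β x))
      one_mem' := ⟨(F.autGroup R).one_mem, fun x => by simp⟩
      inv_mem' := by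
        rintro α ⟨h1, h2⟩
        refine ⟨(F.autGroup R).inv_mem h1, fun x => ?_⟩
        have := h2 (α⁻¹ x)
        have h3 : α (α⁻¹ x) = x := α.apply_symm_apply x
        rw [h3] at this
        have h4 := P.inv_mem this
        rwa [mul_inv_rev, inv_inv] at h4 }
  have hMA : M ≤ F.autGroup R := fun α h => h.1
  have hMn : ∀ α ∈ F.autGroup R, ∀ β ∈ M, α * β * α⁻¹ ∈ M := by
    rintro α hα β ⟨hβ, hβ2⟩
    refine ⟨(F.autGroup R).mul_mem ((F.autGroup R).mul_mem hα hβ) ((F.autGroup R).inv_mem hα), fun x => ?_⟩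
    have h1 := hβ2 (α⁻¹ x)
    have h3 : α (α⁻¹ x) = x := α.apply_symm_apply x
    have h4 := hαV α hα ((α⁻¹ x)⁻¹ * β (α⁻¹ x)) h1
    rw [map_mul, map_inv, h3] at h4
    exact h4
  -- conjugations by elements of `P`
  have hcg : ∀ g ∈ P, ∀ (hg : g ∈ normalizerIn S R), conjAut R g hg.2 ∈ M := by
    intro g hgP hg
    refine ⟨autInducedBy_le_autGroup F hRS (conjAut_mem_autInducedBy hg.1 hg.2), fun x => ?_⟩
    rw [conjAut_apply]
    have h1 : (x : Ω)⁻¹ * (g * x * g⁻¹) = ((x : Ω)⁻¹ * g * ((x : Ω)⁻¹)⁻¹) * g⁻¹ := by group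
    rw [h1]
    exact P.mul_mem (StronglyClosed.conj_mem hP (S.inv_mem (hRS x.2)) hgP) (P.inv_mem hgP)
  have hninn : ∀ g, ∀ (hg : g ∈ normalizerIn S R), g ∉ R → conjAut R g hg.2 ∉ Inn R := by
    intro g hg hgR hinn
    obtain ⟨r, hr⟩ := hinn
    apply hgR
    have h1 : (r : Ω)⁻¹ * g ∈ centralizerIn S R := by
      rw [mem_centralizerIn]
      refine ⟨S.mul_mem (S.inv_mem (hRS r.2)) hg.1, fun y hy => ?_⟩
      have h2 : MulAut.conj r ⟨y, hy⟩ = conjAut R g hg.2 ⟨y, hy⟩ := by rw [← hr]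
      have h3 : (r : Ω) * y * (r : Ω)⁻¹ = g * y * g⁻¹ := congrArg Subtype.val h2
      calc (r : Ω)⁻¹ * g * y = (r : Ω)⁻¹ * (g * y * g⁻¹) * g := by group
        _ = y * ((r : Ω)⁻¹ * g) := by rw [← h3]; group
    have h2 := hCR h1
    have : g = r * ((r : Ω)⁻¹ * g) := by group
    rw [this]
    exact R.mul_mem r.2 h2
  -- automorphisms of odd order trivial on `R ∩ P`
  have hodd : ∀ r : ℕ, r.Prime → r ≠ 2 → ∀ β ∈ M, β ^ r = 1 → (∀ x : R, (x : Ω) ∈ P → β x = x) → β = 1 := by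
    intro r hr hr2 β hβ hβr hfix
    ext x
    set d : R := x⁻¹ * β x with hdd
    have hdP : (d : Ω) ∈ P := hβ.2 x
    have hβd : β d = d := hfix d hdP
    have hβx : β x = x * d := by rw [hdd, mul_inv_cancel_left]
    clear_value d
    have hn : ∀ n : ℕ, (β ^ n) x = x * d ^ n := by
      intro n
      induction n with
      | zero => simp
      | succ n ih => rw [pow_succ', MulAut.mul_apply, ih, map_mul, map_pow, hβd, hβx, pow_succ', mul_assoc]
    have h1 := hn r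
    rw [hβr] at h1
    have h2 : d ^ r = 1 := by
      have : x * 1 = x * d ^ r := by rw [← h1]; simp
      exact (mul_left_cancel this).symm
    obtain ⟨k, hk⟩ := IsPGroup.iff_orderOf.1 hRp d
    have h3 := orderOf_dvd_of_pow_eq_one h2
    rw [hk] at h3
    have hk0 : k = 0 := by
      by_contra hk0
      have h4 := (dvd_pow_self 2 hk0).trans h3
      exact hr2 ((Nat.prime_dvd_prime_iff_eq Nat.prime_two hr).1 h4).symm
    rw [hk0, pow_zero, orderOf_eq_one_iff] at hk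
    rw [hβx, hk, mul_one]
    rfl
  -- the restriction to `V`
  set V := R ⊓ P with hV
  have hVR : V ≤ R := inf_le_left
  have hVP : V ≤ P := inf_le_right
  have hVf : Finite V := finite_of_le hVR
  have hVp : IsPGroup 2 V := hRp.to_le hVR
  have hres : ∀ β ∈ M, ∃ γ : MulAut V, ∀ (x : Ω) (hx : x ∈ V), ((γ ⟨x, hx⟩ : V) : Ω) = ((β ⟨x, hVR hx⟩ : R) : Ω) := by
    intro β hβ
    have h1 := (mem_autGroup_iff' hRS β).1 hβ.1
    obtain ⟨γ, -, hγ⟩ := (h1.restrict hVR).exists_aut_of_mapsTo (fun a ha => by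
      rw [aext_of_mem β (hVR ha)]
      exact ⟨(β _).2, hαV β hβ.1 _ (hVP ha)⟩)
    refine ⟨γ, fun x hx => ?_⟩
    rw [hγ, aext_of_mem β (hVR hx)]
  have hresn : ∀ β ∈ M, ∀ γ : MulAut V, (∀ (x : Ω) (hx : x ∈ V), ((γ ⟨x, hx⟩ : V) : Ω) = ((β ⟨x, hVR hx⟩ : R) : Ω)) →
      ∀ n : ℕ, ∀ (x : Ω) (hx : x ∈ V), (((γ ^ n) ⟨x, hx⟩ : V) : Ω) = (((β ^ n) ⟨x, hVR hx⟩ : R) : Ω) := by
    intro β hβ γ hγ n
    induction n with
    | zero => intro x hx; rfl
    | succ n ih =>
      intro x hx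
      rw [pow_succ, pow_succ, MulAut.mul_apply, MulAut.mul_apply]
      have h1 : (β ⟨x, hVR hx⟩ : R) = ⟨((γ ⟨x, hx⟩ : V) : Ω), hVR (γ ⟨x, hx⟩).2⟩ := Subtype.ext (hγ x hx).symm
      rw [h1]
      exact ih _ (γ ⟨x, hx⟩).2
  have hVm : Cfsg.IsMetacyclic V := by
    have h1 := metacyclic_sub hm (V.subgroupOf P)
    exact CfsgLib.H9W.metacyclic_of_surj (subgroupOfEquivOfLe hVP).toMonoidHom (subgroupOfEquivOfLe hVP).surjective h1
  clear_value V
  -- an element of `P` normalizing `R`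
  obtain ⟨g0, hg0P, hg0N, hg0R⟩ := norm_step hS hRS hP.1 hPn hPR
  -- `M` has an element of odd prime order
  obtain ⟨r, hr, hr2, β, hβM, hβr, hβ1⟩ : ∃ r : ℕ, r.Prime ∧ r ≠ 2 ∧ ∃ β ∈ M, β ^ r = 1 ∧ β ≠ 1 := by
    by_contra hcon
    push Not at hcon
    have h1 := isPGroup_two_of M (fun r hr hr2 β hβ hβr => hcon r hr hr2 β hβ hβr)
    have h2 := le_inn_of_radical hRr hMA h1 hMn
    exact hninn g0 hg0N hg0R (h2 (hcg g0 hg0P hg0N))
  obtain ⟨γ, hγ⟩ := hres β hβM
  have hγr : γ ^ r = 1 := by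
    ext ⟨x, hx⟩
    rw [hresn β hβM γ hγ, hβr]
    rfl
  have hγ1 : γ ≠ 1 := by
    rintro rfl
    apply hβ1
    apply hodd r hr hr2 β hβM hβr
    intro x hx
    have hxV : (x : Ω) ∈ V := by rw [hV]; exact ⟨x.2, hx⟩
    exact Subtype.ext (hγ x hxV).symm
  obtain ⟨k, hk⟩ := IsPGroup.iff_card.1 hPp
  have hVPc : Nat.card (V.subgroupOf P) = Nat.card V := Nat.card_congr (subgroupOfEquivOfLe hVP).toEquiv
  have hmaxcl : 3 ≤ k → Group.nilpotencyClass P = k - 1 → False := by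
    intro hk3 hc
    rcases excl hk3 hk hc with h | h | h
    · exact hd h
    · exact hq h
    · exact hsd h
  rcases odd_aut hVp hVm hr hr2 γ hγr hγ1 with ⟨h8, hna⟩ | ⟨n, hn0, hh⟩
  · -- the quaternion case
    have hna' : ∃ a b : V.subgroupOf P, a * b ≠ b * a := by
      obtain ⟨a, b, hab⟩ := hna
      refine ⟨(subgroupOfEquivOfLe hVP).symm a, (subgroupOfEquivOfLe hVP).symm b, fun h => hab ?_⟩
      rw [← map_mul, ← map_mul] at h
      exact (subgroupOfEquivOfLe hVP).symm.injective h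
    have hc := q8_centralizer hPp hm (V.subgroupOf P) (by rw [hVPc, h8]) hna'
    have h1 := Cfsg.Agent.S4143.result (p := 2) k hk (V.subgroupOf P) (by rw [hVPc, h8]; norm_num) (by
      intro h
      obtain ⟨a, b, hab⟩ := hna'
      exact hab (mul_comm' a b)) hc
    apply hmaxcl _ h1
    by_contra hk3
    have h2 := Subgroup.card_le_card_group (V.subgroupOf P)
    rw [hVPc, h8, hk] at h2
    have : 2 ^ k ≤ 2 ^ 2 := Nat.pow_le_pow_right (by norm_num) (by omega)
    omega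
  · -- the homocyclic case
    obtain ⟨n, rfl⟩ := Nat.exists_eq_succ_of_ne_zero hn0
    have hVc : ∀ a ∈ V, ∀ b ∈ V, a * b = b * a := fun a ha b hb => congrArg Subtype.val (hh.1 ⟨a, ha⟩ ⟨b, hb⟩)
    have hC1 : ∀ g ∈ P, g ∈ normalizerIn S R → g ∉ R → ∃ u ∈ V, (u⁻¹ * (g * u * g⁻¹)) ^ 2 ^ n ≠ 1 := by
      intro g hgP hgN hgR
      by_contra hcon
      push Not at hcon
      let M₀ : Subgroup (MulAut R) :=
        { carrier := {α | α ∈ M ∧ ∀ x : R, (x : Ω) ∈ V → ((x : Ω)⁻¹ * α x) ^ 2 ^ n = 1}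
          mul_mem' := by
            rintro α β ⟨h1, h2⟩ ⟨h1', h2'⟩
            refine ⟨M.mul_mem h1 h1', fun x hx => ?_⟩
            have hβx : ((β x : R) : Ω) ∈ V := by
              rw [hV]; exact ⟨(β x).2, hαV β h1'.1 x (hVP hx)⟩
            have hαβx : ((α (β x) : R) : Ω) ∈ V := by
              rw [hV]; exact ⟨(α (β x)).2, hαV α h1.1 _ (hVP hβx)⟩
            have e : (x : Ω)⁻¹ * ((α * β) x : R) = ((x : Ω)⁻¹ * β x) * ((β x : Ω)⁻¹ * α (β x)) := by
              show (x : Ω)⁻¹ * (α (β x) : R) = _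
              group
            have hcm : Commute ((x : Ω)⁻¹ * β x) ((β x : Ω)⁻¹ * α (β x)) :=
              hVc _ (V.mul_mem (V.inv_mem hx) hβx) _ (V.mul_mem (V.inv_mem hβx) hαβx)
            rw [e, hcm.mul_pow, h2' x hx, h2 (β x) hβx, mul_one]
          one_mem' := ⟨M.one_mem, fun x _ => by simp⟩
          inv_mem' := by
            rintro α ⟨h1, h2⟩
            refine ⟨M.inv_mem h1, fun x hx => ?_⟩
            have h5 : ((α⁻¹ x : R) : Ω) ∈ V := by
              rw [hV]; exact ⟨(α⁻¹ x).2, hαV α⁻¹ (M.inv_mem h1).1 x (hVP hx)⟩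
            have := h2 (α⁻¹ x) h5
            have h3 : α (α⁻¹ x) = x := α.apply_symm_apply x
            rw [h3] at this
            have h4 : ((x : Ω)⁻¹ * (α⁻¹ x : R)) = (((α⁻¹ x : R) : Ω)⁻¹ * x)⁻¹ := by rw [mul_inv_rev, inv_inv]
            rw [h4, inv_pow, this, inv_one] }
      have hM₀A : M₀ ≤ F.autGroup R := fun α h => h.1.1
      have hM₀n : ∀ α ∈ F.autGroup R, ∀ β ∈ M₀, α * β * α⁻¹ ∈ M₀ := by
        rintro α hα β ⟨hβ, hβ2⟩
        refine ⟨hMn α hα β hβ, fun x hx => ?_⟩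
        have h5 : ((α⁻¹ x : R) : Ω) ∈ V := by
          rw [hV]; exact ⟨(α⁻¹ x).2, hαV α⁻¹ ((F.autGroup R).inv_mem hα) x (hVP hx)⟩
        have h1 := hβ2 (α⁻¹ x) h5
        have h3 : α (α⁻¹ x) = x := α.apply_symm_apply x
        have h6 : ((α⁻¹ x)⁻¹ * β (α⁻¹ x)) ^ 2 ^ n = 1 := Subtype.ext h1
        have h4 := congrArg α h6
        rw [map_pow, map_mul, map_inv, h3, map_one] at h4
        exact congrArg Subtype.val h4
      have hM₀p : IsPGroup 2 M₀ := by
        apply isPGroup_two_of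
        intro r hr hr2 β hβ hβr
        obtain ⟨γ, hγ⟩ := hres β hβ.1
        have hγr : γ ^ r = 1 := by
          ext ⟨x, hx⟩
          rw [hresn β hβ.1 γ hγ, hβr]
          rfl
        haveI : Fact r.Prime := ⟨hr⟩
        have h1 : γ = 1 := by
          apply triv_of_frattini hr2 hVp γ hγr
          rintro ⟨x, hx⟩
          apply hh.mem_frattini hVp
          apply Subtype.ext
          show (x⁻¹ * ((γ ⟨x, hx⟩ : V) : Ω)) ^ 2 ^ n = 1
          rw [hγ]
          exact hβ.2 ⟨x, hVR hx⟩ hx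
        apply hodd r hr hr2 β hβ.1 hβr
        intro x hx
        have hxV : (x : Ω) ∈ V := by rw [hV]; exact ⟨x.2, hx⟩
        have h2 := hγ x hxV
        rw [h1] at h2
        exact Subtype.ext h2.symm
      have h1 := le_inn_of_radical hRr hM₀A hM₀p hM₀n
      apply hninn g hgN hgR
      apply h1
      refine ⟨hcg g hgP hgN, fun x hx => ?_⟩
      rw [conjAut_apply]
      exact hcon x hx
    -- choose `g` with `g ^ 2 ∈ R`
    obtain ⟨g, hgP, hgN, hgR, hg2⟩ : ∃ g ∈ P, g ∈ normalizerIn S R ∧ g ∉ R ∧ g ^ 2 ∈ R := by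
      classical
      have hex : ∃ l : ℕ, g0 ^ 2 ^ l ∈ R := by
        obtain ⟨l, hl⟩ := IsPGroup.iff_orderOf.1 hPp ⟨g0, hg0P⟩
        refine ⟨l, ?_⟩
        have h1 : (⟨g0, hg0P⟩ : P) ^ 2 ^ l = 1 := by rw [← hl, pow_orderOf_eq_one]
        have h2 : g0 ^ 2 ^ l = 1 := congrArg Subtype.val h1
        rw [h2]; exact R.one_mem
      have hl := Nat.find_spec hex
      have hl0 : Nat.find hex ≠ 0 := by
        intro h
        rw [h, pow_zero, pow_one] at hl
        exact hg0R hl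
      obtain ⟨l, hl'⟩ := Nat.exists_eq_succ_of_ne_zero hl0
      refine ⟨g0 ^ 2 ^ l, P.pow_mem hg0P _, (normalizerIn S R).pow_mem hg0N _, ?_, ?_⟩
      · exact Nat.find_min hex (by omega)
      · rw [← pow_mul, ← pow_succ, ← Nat.succ_eq_add_one, ← hl']; exact hl
    obtain ⟨u, huV, hu⟩ := hC1 g hgP hgN hgR
    have hhP : Homo (V.subgroupOf P) (n + 1) := hh.of_equiv (subgroupOfEquivOfLe hVP).symm
    rcases Nat.eq_zero_or_pos n with rfl | hnpos
    · -- `V` is a four-group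
      have hc4 : Nat.card V = 4 := by rw [hh.card]; norm_num
      have hCP : centralizer ((V.subgroupOf P : Subgroup P) : Set P) ≤ V.subgroupOf P := by
        have hRV : R ≤ Subgroup.normalizer (V : Set Ω) := by
          intro y hy
          apply mem_normalizer_of_conj_mem
          intro a ha
          rw [hV]
          exact ⟨R.mul_mem (R.mul_mem hy (hVR ha)) (R.inv_mem hy), conj_mem_of_mem_normalizer (hPn hy) (hVP ha)⟩
        have hCn : R ≤ Subgroup.normalizer ((P ⊓ centralizer (V : Set Ω) : Subgroup Ω) : Set Ω) := by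
          intro y hy
          have : Finite (P ⊓ centralizer (V : Set Ω) : Subgroup Ω) := finite_of_le (inf_le_left : _ ≤ P)
          apply mem_normalizer_of_conj_mem
          rintro a ⟨haP, haC⟩
          refine ⟨conj_mem_of_mem_normalizer (hPn hy) haP, ?_⟩
          intro v hv
          have h1 : y⁻¹ * v * y⁻¹⁻¹ ∈ V := conj_mem_of_mem_normalizer (hRV (R.inv_mem hy)) hv
          have h2 := (mem_centralizer_iff.1 haC) _ h1
          calc v * (y * a * y⁻¹) = y * ((y⁻¹ * v * y⁻¹⁻¹) * a) * y⁻¹ := by group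
            _ = y * a * y⁻¹ * v := by rw [h2]; group
        have hCR : P ⊓ centralizer (V : Set Ω) ≤ R := by
          by_contra hcon
          obtain ⟨b, hb, hbN, hbR⟩ := norm_step hS hRS ((inf_le_left : _ ≤ P).trans hP.1) hCn hcon
          obtain ⟨v, hv, hv1⟩ := hC1 b hb.1 hbN hbR
          apply hv1
          have h1 := (mem_centralizer_iff.1 hb.2) v hv
          rw [← h1]
          group
        intro c hc
        rw [mem_subgroupOf, hV]
        refine ⟨hCR ⟨c.2, ?_⟩, c.2⟩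
        intro v hv
        exact congrArg Subtype.val ((mem_centralizer_iff.1 hc) ⟨v, hVP hv⟩ (mem_subgroupOf.2 hv))
      have h1 := CfsgLib.H3Max.suzuki (p := 2) k P (V.subgroupOf P) hk (by rw [hVPc, hc4]; norm_num) hCP
      apply hmaxcl _ h1
      by_contra hk3
      have h2 : 2 ^ k ≤ 2 ^ 2 := Nat.pow_le_pow_right (by norm_num) (by omega)
      rw [← hk] at h2
      have h3 : V = P := by
        apply eq_of_le_card hVP
        rw [hc4]; omega
      exact hPR (h3 ▸ hVR)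
    · obtain ⟨n', rfl⟩ := Nat.exists_eq_succ_of_ne_zero hnpos.ne'
      apply homo_contra hPp hm (V.subgroupOf P) (n := n') hhP (g := ⟨g, hgP⟩) (u := ⟨u, hVP huV⟩)
      · intro h
        exact hgR (hVR (mem_subgroupOf.1 h))
      · rw [mem_subgroupOf, hV]
        exact ⟨hg2, P.pow_mem hgP 2⟩
      · intro v hv
        rw [mem_subgroupOf] at hv ⊢
        have h1 := conj_mem_of_mem_normalizer hgN.2 (hVR hv)
        rw [hV]
        exact ⟨h1, P.mul_mem (P.mul_mem hgP v.2) (P.inv_mem hgP)⟩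
      · exact mem_subgroupOf.2 huV
      · intro h
        exact hu (congrArg Subtype.val h)

end CfsgLib.H9M
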