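import Cfsg.Agent.Lib.H9Nc
import Cfsg.Agent.Lib.H9Md
import Cfsg.Agent.Lib.FusionAutS

/-! # S5212: fusion systems over metacyclic 2-groups -/

set_option autoImplicit false
set_option maxHeartbeats 1000000
set_option linter.style.haveILetI false

namespace CfsgLib.H9M

open Cfsg Cfsg.FusionSystem CfsgLib.SylowIn CfsgLib.Fusion
open Subgroup

theorem pi_two_equiv (A : Type*) [AddCommGroup A] :
    Nonempty (Multiplicative A × Multiplicative A ≃* Multiplicative (Fin 2 → A)) := by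
  refine ⟨{ toFun := fun z => Multiplicative.ofAdd ![Multiplicative.toAdd z.1, Multiplicative.toAdd z.2]
            invFun := fun f => (Multiplicative.ofAdd (Multiplicative.toAdd f 0), Multiplicative.ofAdd (Multiplicative.toAdd f 1))
            left_inv := fun z => rfl
            right_inv := fun f => ?_
            map_mul' := fun z w => ?_ }⟩
  · apply Multiplicative.toAdd.injective
    funext i
    fin_cases i <;> rfl
  · apply Multiplicative.toAdd.injective
    funext i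
    fin_cases i <;> rfl

variable {Ω : Type*} [Group Ω] {S : Subgroup Ω}

theorem stronglyClosed_self (F : FusionSystem S) : F.StronglyClosed S := by
  rw [stronglyClosed_iff]
  exact ⟨le_rfl, fun R f _ hf x hx => hf.mapsTo hx⟩

theorem s5212 [Finite S] (hS : IsPGroup 2 S) (F : Cfsg.FusionSystem S) (hF : F.IsSaturated 2) (hm : Cfsg.IsMetacyclic ↥S)
    (hh : ¬ ∃ n k : ℕ, Nonempty (↥S ≃* Multiplicative (Fin k → ZMod (2 ^ n)))) (hd : ¬ ∃ m : ℕ, Nonempty (↥S ≃* DihedralGroup m))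
    (hq : ¬ ∃ m : ℕ, Nonempty (↥S ≃* QuaternionGroup m)) (hsd : ¬ Cfsg.IsQuasiDihedral ↥S) :
    ∀ P : Subgroup Ω, F.Hom P = (Cfsg.innerFusionSystem S).Hom P := by
  haveI : Fact (Nat.Prime 2) := ⟨Nat.prime_two⟩
  have hN := main2 hS hF (stronglyClosed_self F) hm hd hq hsd
  have hA : IsPGroup 2 (MulAut S) := by
    by_contra hcon
    rcases s1896 hS hm hcon with h | ⟨n, ⟨e⟩⟩
    · exact hq ⟨2, h⟩
    · obtain ⟨e'⟩ := pi_two_equiv (ZMod (2 ^ n))
      exact hh ⟨n, 2, ⟨e.trans e'⟩⟩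
  have hI : F.autGroup S = Inn S := by
    apply autGroup_top_eq_inn hS hF
    intro α _ hc
    obtain ⟨k, hk⟩ := IsPGroup.iff_orderOf.1 hA α
    rw [hk] at hc
    have : k = 0 := by
      by_contra hk0
      have h1 := Nat.Coprime.eq_one_of_dvd hc.symm (dvd_pow_self 2 hk0)
      omega
    rw [this, pow_zero, orderOf_eq_one_iff] at hk
    exact hk
  rw [inner_iff]
  intro P f hf
  obtain ⟨g, hg, hgf, hgS⟩ := (isNormal_iff.1 hN).2 P f hf
  rw [sup_eq_right.2 hf.le] at hg
  obtain ⟨α, hα, hαg⟩ := hg.exists_aut_of_mapsTo (fun a ha => hg.mapsTo ha)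
  rw [hI] at hα
  obtain ⟨s, hs⟩ := hα
  refine ⟨s, s.2, fun x hx => ?_⟩
  have h1 := hαg ⟨x, hf.le hx⟩
  rw [← hs] at h1
  rw [← hgf x hx]
  exact h1.symm

end CfsgLib.H9M
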