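import Cfsg.Agent.Lib.H9Va
import Cfsg.Agent.Lib.H7Esp
import Cfsg.Prelude.Def_Transfer

/-! # generalized extraspecial groups with an elementary abelian maximal subgroup -/

set_option autoImplicit false
set_option maxHeartbeats 400000

namespace CfsgLib.H9V

open Subgroup
open scoped commutatorElement

section
variable {E : Type*} [Group E]

theorem eq_of_card_two {D : Subgroup E} (h : Nat.card D = 2) {a b : E} (ha : a ∈ D) (hb : b ∈ D) (ha1 : a ≠ 1) (hb1 : b ≠ 1) : a = b := by
  obtain ⟨y, -, hu⟩ := (Nat.card_eq_two_iff' (1 : D)).1 h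
  have h1 := hu ⟨a, ha⟩ (fun h => ha1 (congrArg Subtype.val h))
  have h2 := hu ⟨b, hb⟩ (fun h => hb1 (congrArg Subtype.val h))
  exact congrArg Subtype.val (h1.trans h2.symm)

theorem dih8 [Finite E] (hc : Nat.card E = 8) {D : Subgroup E} (hD2 : Nat.card D = 2) (hcen : center E = D)
    (hcom : ∀ a b : E, ⁅a, b⁆ ∈ D) (hpow : ∀ a : E, a ^ 2 ∈ D) {s : E} (hs : s ∉ D) (hs2 : s ^ 2 = 1) :
    Nonempty (E ≃* DihedralGroup 4) := by
  obtain ⟨r, hr⟩ : ∃ r : E, r ^ 2 ≠ 1 := by
    by_contra hcon
    push Not at hcon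
    have h1 : center E = ⊤ := by
      rw [eq_top_iff]
      intro a _
      rw [mem_center_iff]
      intro b
      have e1 := hcon (a * b)
      have e2 := hcon a
      have e3 := hcon b
      rw [pow_two] at e1 e2 e3
      have : (a * b) = (a * b)⁻¹ := eq_inv_of_mul_eq_one_left e1
      rw [mul_inv_rev, ← eq_inv_of_mul_eq_one_left e2, ← eq_inv_of_mul_eq_one_left e3] at this
      exact this.symm
    rw [hcen] at h1
    rw [h1, card_top] at hD2
    omega
  have hr4 : r ^ 4 = 1 := by
    have h1 : (⟨r ^ 2, hpow r⟩ : D) ^ (Nat.card D) = 1 := pow_card_eq_one'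
    rw [hD2] at h1
    have h2 : (r ^ 2) ^ 2 = 1 := congrArg Subtype.val h1
    rw [← pow_mul] at h2
    exact h2
  have hor : orderOf r = 4 := by
    have := orderOf_eq_prime_pow (p := 2) (n := 1) (x := r) (by rw [pow_one]; exact hr) (by norm_num; exact hr4)
    rw [this]; norm_num
  have hcz : Nat.card (zpowers r) = 4 := by rw [Nat.card_zpowers, hor]
  have hsr : s ∉ zpowers r := by
    rintro ⟨k, hk⟩
    have hk : r ^ k = s := hk
    have h1 : r ^ (k * 2) = 1 := by
      rw [zpow_mul, hk]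
      exact_mod_cast hs2
    rw [← orderOf_dvd_iff_zpow_eq_one, hor] at h1
    have h2 : (2 : ℤ) ∣ k := by
      have h1' : (4 : ℤ) ∣ k * 2 := by exact_mod_cast h1
      omega
    obtain ⟨j, rfl⟩ := h2
    apply hs
    rw [← hk, zpow_mul]
    exact D.zpow_mem (by exact_mod_cast hpow r) j
  have hidx : (zpowers r).index = 2 := by
    have := (zpowers r).card_mul_index
    rw [hcz, hc] at this
    omega
  have hne : s * r * s⁻¹ * r⁻¹ ≠ 1 := by
    intro h1
    have h2 : s * r = r * s := by
      have := congrArg (· * r * s) h1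
      simpa [mul_assoc] using this
    have h3 : zpowers r ≤ centralizer ({s} : Set E) := by
      rw [zpowers_le, mem_centralizer_singleton_iff]; exact h2.symm
    have h4 : s ∈ centralizer ({s} : Set E) := by rw [mem_centralizer_singleton_iff]
    have h5 : centralizer ({s} : Set E) = ⊤ := by
      have : Fact (Nat.Prime 2) := ⟨Nat.prime_two⟩
      apply (CfsgLib.PGrp.isCoatom_of_index_prime hidx).2
      exact lt_of_le_of_ne h3 fun h6 => hsr (h6 ▸ h4)
    apply hs
    rw [← hcen, mem_center_iff]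
    intro g
    have : g ∈ centralizer ({s} : Set E) := by rw [h5]; trivial
    exact mem_centralizer_singleton_iff.1 this
  have h3 : s * r * s⁻¹ * r⁻¹ = r ^ 2 := eq_of_card_two hD2 (by have := hcom s r; rwa [commutatorElement_def] at this) (hpow r) hne hr
  have hss : s * s = 1 := by rw [← pow_two]; exact hs2
  have hsi : s⁻¹ = s := by rw [inv_eq_iff_mul_eq_one]; exact hss
  have hsrs : s * r * s = r⁻¹ := by
    have e1 : s * r * s⁻¹ = r ^ 2 * r := by rw [← h3]; group
    rw [hsi] at e1
    rw [e1, eq_inv_iff_mul_eq_one]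
    have : r ^ 2 * r * r = r ^ 4 := by group
    rw [this, hr4]
  have hfin := CfsgLib.Mob2.dihedral_of (zpowers r) (by infer_instance) hsr hidx hss (by
    rintro _ ⟨k, rfl⟩
    show s * r ^ k * s = (r ^ k)⁻¹
    have e1 : s * r ^ k * s⁻¹ = (s * r * s⁻¹) ^ k := (conj_zpow).symm
    rw [hsi] at e1
    rw [e1, hsrs, inv_zpow])
  rw [hcz] at hfin
  exact hfin

end

variable {G : Type*} [Group G]

theorem center_E {E D : Subgroup G} (hE1 : E ⊓ center G = D) (hE2 : E ⊔ center G = ⊤) : center E = D.subgroupOf E := by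
  ext e
  rw [mem_subgroupOf]
  constructor
  · intro he
    rw [mem_center_iff] at he
    rw [← hE1]
    refine ⟨e.2, ?_⟩
    have h1 : E ⊔ center G ≤ centralizer ({(e : G)} : Set G) := by
      apply sup_le
      · intro g hg
        rw [mem_centralizer_singleton_iff]
        exact congrArg Subtype.val (he ⟨g, hg⟩)
      · intro g hg
        rw [mem_centralizer_singleton_iff]
        exact (mem_center_iff.1 hg _).symm
    show (e : G) ∈ center G
    rw [mem_center_iff]
    intro g
    exact mem_centralizer_singleton_iff.1 (h1 (by rw [hE2]; trivial))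
  · intro he
    rw [← hE1] at he
    rw [mem_center_iff]
    intro g
    exact Subtype.ext (mem_center_iff.1 he.2 g)

theorem esp_E [Finite G] {p : ℕ} [hp : Fact p.Prime] (hG : IsPGroup p G) {E D : Subgroup G} (hDc : Nat.card D = p)
    (hD : ∀ a b : G, ⁅a, b⁆ ∈ D) (hpow : ∀ x : G, x ^ p ∈ D) (hE1 : E ⊓ center G = D) (hE2 : E ⊔ center G = ⊤)
    (hEc : Nat.card E = p ^ 3) : Cfsg.IsExtraspecial p E := by
  have hEp : IsPGroup p E := hG.to_subgroup E
  have hcen := center_E hE1 hE2
  have hDE : D ≤ E := by rw [← hE1]; exact inf_le_left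
  have hcc : Nat.card (center E) = p := by rw [hcen, ← hDc]; exact Nat.card_congr (subgroupOfEquivOfLe hDE).toEquiv
  have hcom : ∀ x y : E, ⁅x, y⁆ ∈ center E := by
    intro x y
    rw [hcen, mem_subgroupOf]
    exact hD x y
  have h1 : commutator E ≤ center E := by
    rw [_root_.commutator_def, commutator_le]
    intro a _ b _
    exact hcom a b
  have hne : commutator E ≠ ⊥ := by
    intro h
    have h2 : center E = ⊤ := by
      rw [eq_top_iff]
      intro a _
      rw [mem_center_iff]
      intro b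
      have : ⁅b, a⁆ ∈ commutator E := commutator_mem_commutator (mem_top b) (mem_top a)
      rw [h, mem_bot, commutatorElement_eq_one_iff_mul_comm] at this
      exact this
    rw [h2, card_top, hEc] at hcc
    have := hp.out.one_lt
    nlinarith [hcc, Nat.pow_lt_pow_right this (by norm_num : 1 < 3)]
  have h5 : commutator E = center E := by
    apply eq_of_le_of_card_ge h1
    rw [hcc]
    have h6 : Nat.card (commutator E) ∣ p := by rw [← hcc]; exact card_dvd_of_le h1
    rcases (Nat.dvd_prime hp.out).1 h6 with h7 | h7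
    · exact absurd (card_eq_one.1 h7) hne
    · exact h7.ge
  have h2 : frattini E ≤ center E := CfsgLib.PG2.frattini_le_of_pow_mem hEp _
    (fun x => by rw [hcen, mem_subgroupOf]; exact hpow x) hcom
  have h3 : commutator E ≤ frattini E := CfsgLib.PGrp.commutator_le_frattini hEp
  exact ⟨⟨hEp, le_antisymm h2 (h5 ▸ h3), h5⟩, hcc⟩

theorem case_odd [Finite G] {p : ℕ} [hp : Fact p.Prime] (hG : IsPGroup p G) {D : Subgroup G} (hDc : Nat.card D = p)
    (hDz : D ≤ center G) (hD : ∀ a b : G, ⁅a, b⁆ ∈ D) {y x : G} (hxy : x * y ≠ y * x)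
    (hQ : ∀ a b : G, a * y = y * a → b * y = y * b → a * b = b * a) (hexp : ∀ g : G, g ^ p = 1) :
    ∃ (E : Type) (_ : Group E) (A : Type) (_ : CommGroup A), Cfsg.IsExtraspecial p E ∧ Nat.card E = p ^ 3 ∧
      Monoid.exponent E = p ∧ (∀ a : A, a ^ p = 1) ∧ Nonempty (G ≃* E × A) := by
  have hidx := index_center hG hDc hDz hD hxy hQ
  have hpow : ∀ g : G, g ^ p ∈ D := fun g => by rw [hexp g]; exact D.one_mem
  obtain ⟨E, A, hAZ, hE1, hE2, hEc, hEA1, hEA2⟩ := decomp hDc hDz hD hpow (fun z _ => hexp z) hidx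
  have hesp := esp_E hG hDc hD hpow hE1 hE2 hEc
  obtain ⟨e⟩ := prod_equiv hAZ hEA1 hEA2
  letI : CommGroup A := { (inferInstance : Group A) with mul_comm := fun a b => Subtype.ext (mem_center_iff.1 (hAZ b.2) a) }
  have hEexp : Monoid.exponent E = p := by
    have h1 : Monoid.exponent E ∣ p := Monoid.exponent_dvd_of_forall_pow_eq_one (fun g => Subtype.ext (hexp g))
    rcases (Nat.dvd_prime hp.out).1 h1 with h | h
    · exfalso
      rw [Monoid.exp_eq_one_iff] at h
      have : Nat.card E = 1 := Nat.card_unique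
      rw [hEc] at this
      have h2 := Nat.one_lt_pow (n := 3) (by norm_num) hp.out.one_lt
      omega
    · exact h
  let eE : Shrink.{0} E ≃* E := Shrink.mulEquiv
  let eA : Shrink.{0} A ≃* A := Shrink.mulEquiv
  refine ⟨Shrink.{0} E, inferInstance, Shrink.{0} A, inferInstance, CfsgLib.H7Esp.esp_of_equiv eE hesp, ?_, ?_, ?_,
    ⟨e.trans (MulEquiv.prodCongr eE.symm eA.symm)⟩⟩
  · rw [← hEc]; exact Nat.card_congr eE.toEquiv
  · rw [← hEexp]; exact Monoid.exponent_eq_of_mulEquiv eE
  · intro a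
    apply eA.injective
    rw [map_pow, map_one]
    exact Subtype.ext (hexp _)

theorem case_two [Finite G] (hG : IsPGroup 2 G) {D : Subgroup G} (hDc : Nat.card D = 2)
    (hDz : D ≤ center G) (hD : ∀ a b : G, ⁅a, b⁆ ∈ D) (hpow : ∀ g : G, g ^ 2 ∈ D) {y x : G} (hxy : x * y ≠ y * x)
    (hQ : ∀ a b : G, a * y = y * a → b * y = y * b → a * b = b * a) (hexp : ∀ g : G, g * y = y * g → g ^ 2 = 1) :
    ∃ (A : Type) (_ : CommGroup A), (∀ a : A, a ^ 2 = 1) ∧ Nonempty (G ≃* DihedralGroup 4 × A) := by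
  have : Fact (Nat.Prime 2) := ⟨Nat.prime_two⟩
  have hidx := index_center hG hDc hDz hD hxy hQ
  have hZe : ∀ z ∈ center G, z ^ 2 = 1 := fun z hz => hexp z (mem_center_iff.1 hz y).symm
  obtain ⟨E, A, hAZ, hE1, hE2, hEc, hEA1, hEA2⟩ := decomp hDc hDz hD hpow hZe hidx
  obtain ⟨e⟩ := prod_equiv hAZ hEA1 hEA2
  letI : CommGroup A := { (inferInstance : Group A) with mul_comm := fun a b => Subtype.ext (mem_center_iff.1 (hAZ b.2) a) }
  have hDE : D ≤ E := by rw [← hE1]; exact inf_le_left
  have hcl : ∀ a b c : G, ⁅a, b⁆ * c = c * ⁅a, b⁆ := fun a b c => (mem_center_iff.1 (hDz (hD a b)) c).symm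
  -- an involution of `E` outside `D`
  obtain ⟨s, hsE, hsQ, hsD⟩ : ∃ s ∈ E, s ∈ centralizer ({y} : Set G) ∧ s ∉ D := by
    by_contra hcon
    push Not at hcon
    have h1 : centralizer ({y} : Set G) ⊓ E ≤ D := fun s hs => hcon s hs.2 hs.1
    have h2 : Nat.card (centralizer ({y} : Set G) ⊓ E : Subgroup G) ≤ 2 := by rw [← hDc]; exact card_le_of_le h1
    have h3 : (centralizer ({y} : Set G)).relIndex E ≤ 2 := by
      have h4 : (centralizer ({y} : Set G)).relIndex E ≤ (centralizer ({y} : Set G)).relIndex ⊤ :=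
        relIndex_le_of_le_right le_top (by rw [relIndex_top_right]; exact index_ne_zero_of_finite)
      rw [relIndex_top_right] at h4
      have h5 := index_cent hcl hD y
      rw [hDc] at h5
      exact h4.trans (Nat.le_of_dvd (by norm_num) h5)
    have h6 : Nat.card (centralizer ({y} : Set G) ⊓ E : Subgroup G) * (centralizer ({y} : Set G)).relIndex E = Nat.card E := by
      rw [← inf_relIndex_right, ← relIndex_bot_left, ← relIndex_bot_left]
      exact relIndex_mul_relIndex _ _ _ bot_le inf_le_right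
    rw [hEc] at h6
    have : Nat.card (centralizer ({y} : Set G) ⊓ E : Subgroup G) * (centralizer ({y} : Set G)).relIndex E ≤ 2 * 2 := Nat.mul_le_mul h2 h3
    omega
  have hs2 : s ^ 2 = 1 := hexp s (mem_centralizer_singleton_iff.1 hsQ)
  obtain ⟨e8⟩ := dih8 (E := E) (D := D.subgroupOf E) (by rw [hEc]; norm_num)
    (by rw [← hDc]; exact Nat.card_congr (subgroupOfEquivOfLe hDE).toEquiv) (center_E hE1 hE2)
    (fun a b => by rw [mem_subgroupOf]; exact hD a b) (fun a => by rw [mem_subgroupOf]; exact hpow a)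
    (s := ⟨s, hsE⟩) (by rw [mem_subgroupOf]; exact hsD) (Subtype.ext hs2)
  let eA : Shrink.{0} A ≃* A := Shrink.mulEquiv
  refine ⟨Shrink.{0} A, inferInstance, ?_, ⟨e.trans (MulEquiv.prodCongr e8 eA.symm)⟩⟩
  intro a
  apply eA.injective
  rw [map_pow, map_one]
  exact Subtype.ext (hZe _ (hAZ (eA a).2))

end CfsgLib.H9V
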