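import Mathlib.GroupTheory.Sylow
import Mathlib.GroupTheory.Frattini
import Mathlib.Tactic.Abel

/-! # two transvection-like automorphisms -/

set_option autoImplicit false
set_option maxHeartbeats 400000

namespace CfsgLib.H9V

section comm
variable {Q : Type*} [CommGroup Q]

theorem braid {τ σ : MulAut Q} {y z : Q} (h1 : τ z = z) (h2 : τ y = y * z) (h3 : σ y = y) (h4 : σ z = z * y⁻¹)
    (hτ : ∀ q, ∃ a : ℤ, τ q = q * z ^ a) (hσ : ∀ q, ∃ b : ℤ, σ q = q * y ^ b) : τ * σ * τ = σ * τ * σ := by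
  ext q
  obtain ⟨a, ha⟩ := hτ q
  obtain ⟨b, hb⟩ := hσ q
  simp only [MulAut.mul_apply]
  have e1 : τ (σ (τ q)) = q * z ^ a * (y * z) ^ b * (z * (y * z)⁻¹) ^ a := by
    rw [ha, map_mul, map_zpow, hb, h4, map_mul, map_mul, map_zpow, map_zpow, map_mul, map_inv, ha, h1, h2]
  have e2 : σ (τ (σ q)) = q * y ^ b * (z * y⁻¹) ^ a * (y * (z * y⁻¹)) ^ b := by
    rw [hb, map_mul, map_zpow, ha, h2, map_mul, map_mul, map_zpow, map_zpow, map_mul, hb, h3, h4]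
  rw [e1, e2]
  have e3 : z * (y * z)⁻¹ = y⁻¹ := by
    rw [mul_inv_rev, mul_inv_cancel_left]
  have e4 : y * (z * y⁻¹) = z := by rw [mul_comm z, mul_inv_cancel_left]
  rw [e3, e4, mul_zpow, mul_zpow]
  simp only [mul_assoc, mul_comm, mul_left_comm]

theorem braid_elt {τ σ : MulAut Q} {y z : Q} (h1 : τ z = z) (h2 : τ y = y * z) (h3 : σ y = y) (h4 : σ z = z * y⁻¹)
    (hτ : ∀ q, ∃ a : ℤ, τ q = q * z ^ a) (hσ : ∀ q, ∃ b : ℤ, σ q = q * y ^ b) :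
    (τ * σ * τ * (τ * σ * τ)) * τ * (τ * σ * τ * (τ * σ * τ))⁻¹ = τ ∧ (τ * σ * τ * (τ * σ * τ)) z = z⁻¹ := by
  have hb := braid h1 h2 h3 h4 hτ hσ
  set Δ := τ * σ * τ with hΔ
  have e1 : Δ * τ = σ * Δ := by
    rw [hb]
    have : σ * (σ * τ * σ) = σ * Δ := by rw [← hb]
    rw [this, hΔ]; simp only [mul_assoc]
  have e2 : Δ * σ = τ * Δ := by
    have : τ * Δ = τ * (σ * τ * σ) := by rw [hb]
    rw [this, hΔ]; simp only [mul_assoc]
  constructor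
  · rw [mul_inv_eq_iff_eq_mul, mul_assoc, e1, ← mul_assoc, e2, mul_assoc]
  · have e3 : Δ z = y⁻¹ := by
      rw [hΔ, MulAut.mul_apply, MulAut.mul_apply, h1, h4, map_mul, map_inv, h1, h2, mul_inv_rev, mul_inv_cancel_left]
    have e4 : Δ y = z := by
      rw [hΔ, MulAut.mul_apply, MulAut.mul_apply, h2, map_mul, h3, h4, mul_comm z, mul_inv_cancel_left, h1]
    rw [MulAut.mul_apply, e3, map_inv, e4]

theorem adjust {τ : MulAut Q} {y z : Q} {p : ℕ} [hp : Fact p.Prime] (h3 : τ y = y) (h4 : τ z ≠ z) (hy : y ^ p = 1)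
    (hτ : ∀ q, ∃ b : ℤ, τ q = q * y ^ b) : ∃ j : ℕ, (τ ^ j) y = y ∧ (τ ^ j) z = z * y⁻¹ ∧ ∀ q, ∃ b : ℤ, (τ ^ j) q = q * y ^ b := by
  have hy' : ∀ n : ℕ, (τ ^ n) y = y := by
    intro n
    induction n with
    | zero => simp
    | succ n ih => rw [pow_succ, MulAut.mul_apply, h3, ih]
  have hq : ∀ (q : Q) (b : ℤ), τ q = q * y ^ b → ∀ n : ℕ, (τ ^ n) q = q * (y ^ b) ^ n := by
    intro q b hb n
    induction n with
    | zero => simp
    | succ n ih => rw [pow_succ, MulAut.mul_apply, hb, map_mul, map_zpow, hy', ih, pow_succ, mul_assoc]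
  obtain ⟨c, hc⟩ := hτ z
  have hc1 : y ^ c ≠ 1 := fun h => h4 (by rw [hc, h, mul_one])
  have hcp : (y ^ c) ^ p = 1 := by
    rw [← zpow_natCast, ← zpow_mul, mul_comm, zpow_mul, zpow_natCast, hy, one_zpow]
  have hord : orderOf (y ^ c) = p := orderOf_eq_prime hcp hc1
  have hy1 : y ≠ 1 := by rintro rfl; exact hc1 (one_zpow c)
  have hordy : orderOf y = p := orderOf_eq_prime hy hy1
  have hz : Subgroup.zpowers (y ^ c) = Subgroup.zpowers y := by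
    have : Finite (Subgroup.zpowers y) := by
      apply Nat.finite_of_card_ne_zero
      rw [Nat.card_zpowers, hordy]
      exact hp.out.ne_zero
    apply Subgroup.eq_of_le_of_card_ge
    · rw [Subgroup.zpowers_le]; exact ⟨c, rfl⟩
    · rw [Nat.card_zpowers, Nat.card_zpowers, hord, hordy]
  have hmem : y⁻¹ ∈ Subgroup.zpowers (y ^ c) := by rw [hz]; exact inv_mem (Subgroup.mem_zpowers y)
  have hfo : IsOfFinOrder (y ^ c) := by rw [← orderOf_pos_iff, hord]; exact hp.out.pos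
  rw [← hfo.mem_powers_iff_mem_zpowers] at hmem
  obtain ⟨j, hj⟩ := hmem
  refine ⟨j, hy' j, ?_, fun q => ?_⟩
  · rw [hq z c hc j]
    have : (y ^ c) ^ j = y⁻¹ := hj
    rw [this]
  · obtain ⟨b, hb⟩ := hτ q
    refine ⟨b * j, ?_⟩
    rw [hq q b hb j, zpow_mul, zpow_natCast]

end comm

/-- the element acting as inversion. -/
theorem exists_inverter {Q : Type*} [inst : Group Q] (hc : ∀ a b : Q, a * b = b * a) (H : Subgroup (MulAut Q))
    {τ τ' : MulAut Q} (hτH : τ ∈ H) (hτ'H : τ' ∈ H) {y z : Q} {p : ℕ} [hp : Fact p.Prime]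
    (h1 : τ z = z) (h2 : τ y = y * z) (h3 : τ' y = y) (h4 : τ' z ≠ z) (hy : y ^ p = 1)
    (hτ : ∀ q, ∃ a : ℤ, τ q = q * z ^ a) (hτ' : ∀ q, ∃ b : ℤ, τ' q = q * y ^ b) :
    ∃ t ∈ H, t * τ * t⁻¹ = τ ∧ t z = z⁻¹ := by
  letI : CommGroup Q := { inst with mul_comm := hc }
  obtain ⟨j, k1, k2, k3⟩ := adjust (Q := Q) (τ := τ') h3 h4 hy hτ'
  have hσ : τ' ^ j ∈ H := H.pow_mem hτ'H j
  obtain ⟨k4, k5⟩ := braid_elt (Q := Q) (τ := τ) (σ := τ' ^ j) h1 h2 k1 k2 hτ k3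
  exact ⟨_, H.mul_mem (H.mul_mem (H.mul_mem hτH hσ) hτH) (H.mul_mem (H.mul_mem hτH hσ) hτH), k4, k5⟩

end CfsgLib.H9V
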