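import Cfsg.Agent.Lib.H9LFa
import Cfsg.Agent.Lib.FusionNormal
import Cfsg.Agent.Lib.FusionSub1
import Cfsg.Agent.Lib.H9Vb
import Cfsg.Agent.Lib.H9Vc

/-! # S5233: generalized extraspecial strongly closed subgroups -/

set_option autoImplicit false
set_option maxHeartbeats 400000

namespace CfsgLib.H9V

open Cfsg Cfsg.FusionSystem CfsgLib.SylowIn CfsgLib.Fusion
open Subgroup

variable {Ω : Type*} [Group Ω] {S : Subgroup Ω}

theorem zpowers_eq_of_card {D : Subgroup Ω} {p : ℕ} [hp : Fact p.Prime] (hDc : Nat.card D = p) {z : Ω} (hz : z ∈ D) (hz1 : z ≠ 1) :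
    zpowers z = D := by
  have hDf : Finite D := Nat.finite_of_card_ne_zero (by rw [hDc]; exact hp.out.ne_zero)
  have h1 : zpowers z ≤ D := by rw [zpowers_le]; exact hz
  have hzp : z ^ p = 1 := by
    have h1 : (⟨z, hz⟩ : D) ^ (Nat.card D) = 1 := pow_card_eq_one'
    rw [hDc] at h1
    exact congrArg Subtype.val h1
  apply eq_of_le_of_card_ge h1
  rw [Nat.card_zpowers, orderOf_eq_prime hzp hz1, hDc]

/-- a fused element -/
theorem exists_move {F : FusionSystem S} [Finite S] {p : ℕ} [hp : Fact p.Prime] (hS : IsPGroup p S) (hF : F.IsSaturated p)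
    {P D : Subgroup Ω} (hP : F.StronglyClosed P) (hDP : D ≤ P) (hDc : Nat.card D = p)
    (hDz : ∀ d ∈ D, ∀ s ∈ S, s * d = d * s) (hns : ¬ F.StronglyClosed D) :
    ∃ y ∈ P, ∃ z ∈ D, ∃ φ, z ≠ 1 ∧ y ∉ D ∧ y ^ p = 1 ∧ FMap F (P ⊓ centralizer ({y} : Set Ω)) φ ∧ φ y = z := by
  have hDS : D ≤ S := hDP.trans hP.1
  rw [stronglyClosed_iff] at hns
  push Not at hns
  obtain ⟨R, f, hRD, hf, z, hzR, hfz⟩ := hns hDS
  have hz1 : z ≠ 1 := by rintro rfl; exact hfz (by rw [hf.map_one]; exact D.one_mem)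
  have hzD := zpowers_eq_of_card hDc (hRD hzR) hz1
  have hR : R = D := by
    apply le_antisymm hRD
    rw [← hzD, zpowers_le]; exact hzR
  subst hR
  have hyP : f z ∈ P := StronglyClosed.map_mem hP hf hzR (hDP hzR)
  have hCS : centralizerIn S R = S := by
    apply le_antisymm inf_le_left
    intro s hs
    exact mem_centralizerIn.2 ⟨hs, fun d hd => hDz d hd s hs⟩
  have hfc : F.IsFullyCentralized R := by
    refine ⟨hDS, fun Q hQ => ?_⟩
    rw [hCS]
    exact Subgroup.card_le_of_le inf_le_left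
  have hr := Saturated.receptive_of_fullyCentralized hS hF hfc
  obtain ⟨g, hg, hgf, hgY⟩ := hf.exists_inv
  have himg : img (img R f) g = R := by
    apply le_antisymm
    · rw [img_le_iff]; intro y hy; exact (hgY y hy).1
    · intro x hx
      have := apply_mem_img (f := g) (apply_mem_img (f := f) hx)
      rwa [hgf x hx] at this
  obtain ⟨φ, hφ, hφg⟩ := Receptive.exists_extend_centralizer hr hg himg
  have hzp : z ^ p = 1 := by
    have h1 : (⟨z, hzR⟩ : R) ^ (Nat.card R) = 1 := pow_card_eq_one'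
    rw [hDc] at h1
    exact congrArg Subtype.val h1
  refine ⟨f z, hyP, z, hzR, φ, hz1, hfz, ?_, ?_, ?_⟩
  · rw [← hf.map_pow hzR, hzp, hf.map_one]
  · apply hφ.restrict
    rintro a ⟨haP, hac⟩
    apply le_sup_right (a := img R f)
    rw [mem_centralizerIn]
    refine ⟨hP.1 haP, ?_⟩
    have hac : a ∈ centralizer ({f z} : Set Ω) := hac
    rw [mem_centralizer_singleton_iff] at hac
    have h2 : img R f ≤ centralizer ({a} : Set Ω) := by
      rw [img_le_iff]
      intro x hx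
      rw [← hzD] at hx
      obtain ⟨k, rfl⟩ := hx
      show f (z ^ k) ∈ _
      rw [hf.map_zpow hzR]
      apply zpow_mem
      rw [mem_centralizer_singleton_iff]
      exact hac.symm
    intro y hy
    exact (mem_centralizer_singleton_iff.1 (h2 hy)).symm
  · rw [hφg _ (apply_mem_img hzR), hgf z hzR]

/-- consequences of the fused element -/
theorem move_facts {F : FusionSystem S} [Finite S] {p : ℕ} [hp : Fact p.Prime]
    {P D : Subgroup Ω} (hP : F.StronglyClosed P) (hDP : D ≤ P) (hDc : Nat.card D = p)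
    (hDz : ∀ d ∈ D, ∀ s ∈ S, s * d = d * s)
    (hchar : ∀ f, FMap F P f → ∀ x ∈ D, f x ∈ D) (hcom : ∀ a ∈ P, ∀ b ∈ P, a * b * a⁻¹ * b⁻¹ ∈ D) (hpow : ∀ a ∈ P, a ^ p ∈ D)
    {y z : Ω} {φ : Ω → Ω} (hyP : y ∈ P) (hzD : z ∈ D) (hz1 : z ≠ 1) (hyD : y ∉ D)
    (hφ : FMap F (P ⊓ centralizer ({y} : Set Ω)) φ) (hφy : φ y = z) :
    (∃ x ∈ P, x * y ≠ y * x) ∧
      (∀ a ∈ P, ∀ b ∈ P, a * y = y * a → b * y = y * b → a * b = b * a) ∧ (∀ a ∈ P, a * y = y * a → a ^ p = 1) := by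
  have hyQ : y ∈ P ⊓ centralizer ({y} : Set Ω) := ⟨hyP, mem_centralizer_singleton_iff.2 rfl⟩
  have hDQ : D ≤ P ⊓ centralizer ({y} : Set Ω) := fun d hd =>
    ⟨hDP hd, mem_centralizer_singleton_iff.2 (hDz d hd y (hP.1 hyP)).symm⟩
  have hDf : Finite D := Nat.finite_of_card_ne_zero (by rw [hDc]; exact hp.out.ne_zero)
  have hzz := zpowers_eq_of_card hDc hzD hz1
  have hno : ¬ ∀ d ∈ D, φ d ∈ D := by
    intro hall
    have hφD := hφ.restrict hDQ
    have h1 : img D φ = D := hφD.img_eq_of_mapsTo hall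
    have h2 : z ∈ img D φ := by rw [h1]; exact hzD
    obtain ⟨d, hd, hdz⟩ := hφD.mem_img.1 h2
    have h3 : d = y := hφ.inj (hDQ hd) hyQ (by rw [hdz, hφy])
    exact hyD (h3 ▸ hd)
  have hkey : ∀ d ∈ D, φ d ∈ D → d = 1 := by
    intro d hd hφd
    by_contra hd1
    apply hno
    intro e he
    rw [← zpowers_eq_of_card hDc hd hd1] at he
    obtain ⟨k, rfl⟩ := he
    show φ (d ^ k) ∈ D
    rw [hφ.map_zpow (hDQ hd)]
    exact D.zpow_mem hφd k
  have hφP : ∀ a ∈ P ⊓ centralizer ({y} : Set Ω), φ a ∈ P := fun a ha => StronglyClosed.map_mem hP hφ ha ha.1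
  refine ⟨?_, ?_, ?_⟩
  · by_contra hcon
    push Not at hcon
    have hQP : P ⊓ centralizer ({y} : Set Ω) = P := inf_eq_left.2 fun x hx => mem_centralizer_singleton_iff.2 (hcon x hx)
    rw [hQP] at hφ
    exact hno (hchar φ hφ)
  · intro a ha b hb hay hby
    have haQ : a ∈ P ⊓ centralizer ({y} : Set Ω) := ⟨ha, mem_centralizer_singleton_iff.2 hay⟩
    have hbQ : b ∈ P ⊓ centralizer ({y} : Set Ω) := ⟨hb, mem_centralizer_singleton_iff.2 hby⟩
    have h1 : φ (a * b * a⁻¹ * b⁻¹) ∈ D := by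
      rw [hφ.map_mul (mul_mem (mul_mem haQ hbQ) (inv_mem haQ)) (inv_mem hbQ), hφ.map_mul (mul_mem haQ hbQ) (inv_mem haQ),
        hφ.map_mul haQ hbQ, hφ.map_inv haQ, hφ.map_inv hbQ]
      exact hcom _ (hφP a haQ) _ (hφP b hbQ)
    have h2 := hkey _ (hcom a ha b hb) h1
    have := congrArg (· * b * a) h2
    simpa [mul_assoc] using this
  · intro a ha hay
    have haQ : a ∈ P ⊓ centralizer ({y} : Set Ω) := ⟨ha, mem_centralizer_singleton_iff.2 hay⟩
    apply hkey _ (hpow a ha)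
    rw [hφ.map_pow haQ]
    exact hpow _ (hφP a haQ)

end CfsgLib.H9V
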