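import Cfsg.Agent.Lib.H9Vd
import Cfsg.Agent.Lib.FusionAlperin

/-! # S5233: generalized extraspecial strongly closed subgroups, the odd exponent `p²` case -/

set_option autoImplicit false
set_option maxHeartbeats 1000000

namespace CfsgLib.H9V

open Cfsg Cfsg.FusionSystem CfsgLib.SylowIn CfsgLib.Fusion
open Subgroup
open scoped commutatorElement

variable {Ω : Type*} [Group Ω] {S : Subgroup Ω}

theorem pow_of_mem {D : Subgroup Ω} {p : ℕ} (hDc : Nat.card D = p) {d : Ω} (hd : d ∈ D) : d ^ p = 1 := by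
  have h1 : (⟨d, hd⟩ : D) ^ (Nat.card D) = 1 := pow_card_eq_one'
  rw [hDc] at h1
  exact congrArg Subtype.val h1

/-- decomposition of elements of `P`. -/
theorem exists_dec {p : ℕ} [hp : Fact p.Prime] {P D : Subgroup Ω} [Finite P] (hPp : IsPGroup p P) (hDP : D ≤ P)
    (hDc : Nat.card D = p) (hDz : ∀ d ∈ D, ∀ s ∈ P, s * d = d * s) (hcom : ∀ a ∈ P, ∀ b ∈ P, a * b * a⁻¹ * b⁻¹ ∈ D)
    {x y : Ω} (hx : x ∈ P) (hy : y ∈ P) (hxy : x * y ≠ y * x) :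
    ∀ g ∈ P, ∃ q ∈ P ⊓ centralizer ({y} : Set Ω), ∃ k : ℤ, g = q * x ^ k := by
  intro g hg
  have hc : ∀ a b c : P, ⁅a, b⁆ * c = c * ⁅a, b⁆ := by
    intro a b c
    apply Subtype.ext
    exact (hDz _ (hcom a a.2 b b.2) c c.2).symm
  have h1 := index_cent hc (D := D.subgroupOf P) (fun a b => by rw [mem_subgroupOf]; exact hcom a a.2 b b.2) ⟨y, hy⟩
  have h2 : Nat.card (D.subgroupOf P) = p := by rw [← hDc]; exact Nat.card_congr (subgroupOfEquivOfLe hDP).toEquiv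
  rw [h2] at h1
  have hxn : (⟨x, hx⟩ : P) ∉ centralizer ({(⟨y, hy⟩ : P)} : Set P) := by
    rw [mem_centralizer_singleton_iff]
    intro h
    exact hxy (congrArg Subtype.val h)
  have h3 : (centralizer ({(⟨y, hy⟩ : P)} : Set P)).index = p := by
    rcases (Nat.dvd_prime hp.out).1 h1 with h | h
    · rw [index_eq_one] at h
      exact absurd (by rw [h]; trivial) hxn
    · exact h
  have h4 := CfsgLib.PGrp.isCoatom_of_index_prime h3
  have h5 := CfsgLib.PGrp.normal_of_index_prime hPp h3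
  have h6 : centralizer ({(⟨y, hy⟩ : P)} : Set P) ⊔ zpowers (⟨x, hx⟩ : P) = ⊤ := by
    apply h4.2
    exact lt_of_le_of_ne le_sup_left fun h => hxn (h ▸ (le_sup_right (a := centralizer ({(⟨y, hy⟩ : P)} : Set P)) (mem_zpowers _)))
  have h7 : (⟨g, hg⟩ : P) ∈ ((centralizer ({(⟨y, hy⟩ : P)} : Set P) ⊔ zpowers (⟨x, hx⟩ : P) : Subgroup P) : Set P) := by
    rw [h6]; trivial
  rw [normal_mul] at h7
  obtain ⟨q, hq, r, ⟨k, hk⟩, hqr⟩ := h7
  have hk : (⟨x, hx⟩ : P) ^ k = r := hk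
  have hq : q ∈ centralizer ({(⟨y, hy⟩ : P)} : Set P) := hq
  rw [mem_centralizer_singleton_iff] at hq
  refine ⟨q, ⟨q.2, mem_centralizer_singleton_iff.2 (congrArg Subtype.val hq)⟩, k, ?_⟩
  have := congrArg Subtype.val hqr
  rw [← hk] at this
  exact this.symm

theorem main_odd {F : FusionSystem S} [Finite S] {p : ℕ} [hp : Fact p.Prime] (hp2 : p ≠ 2) (hS : IsPGroup p S) (hF : F.IsSaturated p)
    {P D : Subgroup Ω} (hP : F.StronglyClosed P) (hDP : D ≤ P) (hDc : Nat.card D = p)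
    (hDz : ∀ d ∈ D, ∀ s ∈ S, s * d = d * s)
    (hchar : ∀ f, FMap F P f → ∀ x ∈ D, f x ∈ D) (hcom : ∀ a ∈ P, ∀ b ∈ P, a * b * a⁻¹ * b⁻¹ ∈ D) (hpow : ∀ a ∈ P, a ^ p ∈ D)
    {y z : Ω} {φ : Ω → Ω} (hyP : y ∈ P) (hzD : z ∈ D) (hz1 : z ≠ 1) (hyD : y ∉ D) (hyp : y ^ p = 1)
    (hφ : FMap F (P ⊓ centralizer ({y} : Set Ω)) φ) (hφy : φ y = z) {x : Ω} (hxP : x ∈ P) (hxp : x ^ p ≠ 1) : False := by
  obtain ⟨-, hab, hexp⟩ := move_facts hP hDP hDc hDz hchar hcom hpow hyP hzD hz1 hyD hφ hφy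
  have hPf : Finite P := finite_of_le hP.1
  have hPp : IsPGroup p P := hS.to_le hP.1
  set Q := P ⊓ centralizer ({y} : Set Ω) with hQ
  have hmemQ : ∀ a, a ∈ Q ↔ a ∈ P ∧ a * y = y * a := by
    intro a
    rw [hQ, Subgroup.mem_inf, mem_centralizer_singleton_iff]
  clear_value Q
  have hQP : Q ≤ P := fun a ha => ((hmemQ a).1 ha).1
  have hQS : Q ≤ S := hQP.trans hP.1
  have hQf : Finite Q := finite_of_le hQP
  have hQab : ∀ a ∈ Q, ∀ b ∈ Q, a * b = b * a := fun a ha b hb =>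
    hab a (hQP ha) b (hQP hb) ((hmemQ a).1 ha).2 ((hmemQ b).1 hb).2
  have hxy : x * y ≠ y * x := fun h => hxp (hexp x hxP h)
  have hxQ : x ∉ Q := fun h => hxy ((hmemQ x).1 h).2
  have hDQ : D ≤ Q := fun d hd => (hmemQ d).2 ⟨hDP hd, (hDz d hd y (hP.1 hyP)).symm⟩
  have hyQ : y ∈ Q := (hmemQ y).2 ⟨hyP, rfl⟩
  have hzQ : z ∈ Q := hDQ hzD
  have hDzP : ∀ d ∈ D, ∀ s ∈ P, s * d = d * s := fun d hd s hs => hDz d hd s (hP.1 hs)
  have hdec : ∀ g ∈ P, ∃ q ∈ Q, ∃ k : ℤ, g = q * x ^ k := by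
    intro g hg
    obtain ⟨q, hq, k, hk⟩ := exists_dec hPp hDP hDc hDzP hcom hxP hyP hxy g hg
    refine ⟨q, (hmemQ q).2 ⟨hq.1, mem_centralizer_singleton_iff.1 hq.2⟩, k, hk⟩
  have hmulp : ∀ a ∈ P, ∀ b ∈ P, (a * b) ^ p = a ^ p * b ^ p := by
    intro a ha b hb
    have h1 := hcom b hb a ha
    exact CfsgLib.PGrp.mul_pow_prime_of_class_two hp2 (hDzP _ h1 a ha).symm (hDzP _ h1 b hb).symm (pow_of_mem hDc h1)
  have hQp : ∀ g ∈ P, g ^ p = 1 → g ∈ Q := by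
    intro g hg hgp
    obtain ⟨q, hq, k, rfl⟩ := hdec g hg
    have hqp : q ^ p = 1 := hexp q (hQP hq) ((hmemQ q).1 hq).2
    rw [hmulp q (hQP hq) _ (P.zpow_mem hxP k), hqp, one_mul] at hgp
    have h1 : (x ^ p) ^ k = 1 := by
      rw [← hgp, ← zpow_natCast, ← zpow_natCast, ← zpow_mul, ← zpow_mul, mul_comm]
    have h2 : orderOf (x ^ p) = p := orderOf_eq_prime (pow_of_mem hDc (hpow x hxP)) hxp
    rw [← orderOf_dvd_iff_zpow_eq_one, h2] at h1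
    obtain ⟨j, rfl⟩ := h1
    apply Q.mul_mem hq
    rw [zpow_mul, zpow_natCast]
    exact Q.zpow_mem (hDQ (hpow x hxP)) j
  have hQsc : ∀ (R : Subgroup Ω) (f : Ω → Ω), FMap F R f → ∀ a ∈ R, a ∈ Q → f a ∈ Q := by
    intro R f hf a haR haQ
    apply hQp _ (StronglyClosed.map_mem hP hf haR (hQP haQ))
    rw [← hf.map_pow haR, hexp a (hQP haQ) ((hmemQ a).1 haQ).2, hf.map_one]
  have hSN : S ≤ Subgroup.normalizer (Q : Set Ω) := by
    intro s hs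
    apply mem_normalizer_of_conj_mem
    intro a ha
    exact hQsc Q _ (FMap.conj hQS hs) a ha ha
  have hfn := CfsgLib.H9LF.fn_normal F hQS hSN
  obtain ⟨hfa, hr⟩ := Saturated.of_fullyNormalized hS hF hfn
  obtain ⟨α, hα, hαφ⟩ := hφ.exists_aut_of_mapsTo (fun a ha => hQsc Q φ hφ a ha ha)
  have hxS : x ∈ S := hP.1 hxP
  set τ := conjAut Q x (hSN hxS) with hτ
  have hτS : τ ∈ autInducedBy S Q := conjAut_mem_autInducedBy hxS _
  have hτH : τ ∈ F.autGroup Q := autInducedBy_le_autGroup F hQS hτS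
  have hτa : ∀ a : Q, ((τ a : Q) : Ω) = x * a * x⁻¹ := fun a => rfl
  -- powers of `τ`
  have hτk : ∀ k : ℤ, ∀ a : Q, (((τ ^ k : MulAut Q) a : Q) : Ω) = x ^ k * a * (x ^ k)⁻¹ := by
    intro k a
    rw [hτ, ← normalizerMonoidHom_eq, ← map_zpow]
    rfl
  clear_value τ
  have hSC : ∀ h ∈ F.autGroup Q, h * τ * h⁻¹ ∈ autInducedBy S Q → ∃ f, FMap F P f ∧ ∀ a : Q, f a = h a := by
    intro h hh hc
    have hPN : P ≤ normalizerIn S Q := fun g hg => ⟨hP.1 hg, hSN (hP.1 hg)⟩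
    obtain ⟨f, hf, hfa⟩ := extend_of_conj hr hh hPN (fun β hβ => by
      obtain ⟨g, hgP, hβg⟩ := mem_autInducedBy_iff.1 hβ
      obtain ⟨q, hq, k, rfl⟩ := hdec g hgP
      have hβτ : β = τ ^ k := by
        ext a
        rw [hτk, hβg]
        have h1 : x ^ k * a * (x ^ k)⁻¹ ∈ Q := conj_mem_of_mem_normalizer (hSN (S.zpow_mem hxS k)) a.2
        have h2 := hQab q hq _ h1
        calc q * x ^ k * a * (q * x ^ k)⁻¹ = q * (x ^ k * a * (x ^ k)⁻¹) * q⁻¹ := by group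
          _ = _ := by rw [h2]; group
      rw [hβτ, ← conj_zpow]
      exact Subgroup.zpow_mem _ hc k)
    exact ⟨f, hf, fun a => by rw [hfa a a.2, aext_apply]⟩
  have hDmem : ∀ {w : Ω}, w ∈ D → w ≠ 1 → ∀ d ∈ D, ∃ k : ℤ, w ^ k = d := by
    intro w hw hw1 d hd
    rw [← zpowers_eq_of_card hDc hw hw1] at hd
    exact hd
  -- commutation with `x`
  have hlam : ∀ a : Q, (a : Ω)⁻¹ * (τ a : Q) ∈ D := by
    intro a
    rw [hτa]
    have h1 := hcom (a : Ω)⁻¹ (P.inv_mem (hQP a.2)) x hxP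
    have h2 : (a : Ω)⁻¹ * (x * a * x⁻¹) = (a : Ω)⁻¹ * x * ((a : Ω)⁻¹)⁻¹ * x⁻¹ := by group
    rw [h2]; exact h1
  have hτfix : ∀ a : Q, (a : Ω) ∈ D → τ a = a := by
    intro a ha
    apply Subtype.ext
    rw [hτa, hDz a ha x hxS, mul_inv_cancel_right]
  have hα1 : α ⟨y, hyQ⟩ = ⟨z, hzQ⟩ := Subtype.ext (by rw [hαφ]; exact hφy)
  have hα2 : α⁻¹ ⟨z, hzQ⟩ = ⟨y, hyQ⟩ := by
    rw [← hα1]; exact α.symm_apply_apply _
  have hτ'H : α⁻¹ * τ * α ∈ F.autGroup Q := Subgroup.mul_mem _ (Subgroup.mul_mem _ (Subgroup.inv_mem _ hα) hτH) hα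
  have hτ'a : ∀ a : Q, (α⁻¹ * τ * α) a = α⁻¹ (τ (α a)) := fun a => rfl
  by_cases hfix : (α⁻¹ * τ * α) ⟨z, hzQ⟩ = ⟨z, hzQ⟩
  · -- the fixed case
    set N : Subgroup (MulAut Q) := F.autGroup Q ⊓ MulAction.stabilizer (MulAut Q) (⟨z, hzQ⟩ : Q) with hN
    have hmemN : ∀ n, n ∈ N ↔ n ∈ F.autGroup Q ∧ n ⟨z, hzQ⟩ = ⟨z, hzQ⟩ := fun n => Iff.rfl
    have hSigN : autInducedBy S Q ≤ N := by
      intro β hβ
      rw [hmemN]
      refine ⟨autInducedBy_le_autGroup F hQS hβ, ?_⟩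
      obtain ⟨s, hs, hβs⟩ := mem_autInducedBy_iff.1 hβ
      apply Subtype.ext
      rw [hβs]
      show s * z * s⁻¹ = z
      rw [hDz z hzD s hs, mul_inv_cancel_right]
    have hsyl : IsSylowIn p (autInducedBy S Q) (F.autGroup Q) :=
      (isSylowIn_iff (autInducedBy_le_autGroup F hQS)).2 hfa.2
    have hpτ : ∃ k : ℕ, τ ^ p ^ k = 1 := by
      obtain ⟨k, hk⟩ := hsyl.2.1 ⟨τ, hτS⟩
      exact ⟨k, congrArg Subtype.val hk⟩
    have hpg : IsPGroup p (zpowers (α⁻¹ * τ * α)) := by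
      obtain ⟨k, hk⟩ := hpτ
      rintro ⟨g, ⟨m, hm⟩⟩
      refine ⟨k, Subtype.ext ?_⟩
      have hm : (α⁻¹ * τ * α) ^ m = g := hm
      show g ^ p ^ k = 1
      rw [← hm, ← zpow_natCast, ← zpow_mul, mul_comm, zpow_mul, zpow_natCast]
      have h1 : (α⁻¹ * τ * α) ^ p ^ k = 1 := by
        have h2 : (α⁻¹ * τ * (α⁻¹)⁻¹) ^ p ^ k = α⁻¹ * τ ^ p ^ k * (α⁻¹)⁻¹ := conj_pow
        rw [inv_inv, hk, mul_one, inv_mul_cancel] at h2
        exact h2
      rw [h1, one_zpow]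
    obtain ⟨n, hn, hnc⟩ := (hsyl.of_le hSigN inf_le_left).exists_conj (T := zpowers (α⁻¹ * τ * α))
      (by rw [zpowers_le, hmemN]; exact ⟨hτ'H, hfix⟩) hpg
    have h1 := hnc _ (mem_zpowers _)
    have hn' := (hmemN n).1 hn
    have h2 : n * (α⁻¹ * τ * α) * n⁻¹ = (n * α⁻¹) * τ * (n * α⁻¹)⁻¹ := by group
    rw [h2] at h1
    obtain ⟨f, hf, hfh⟩ := hSC _ (Subgroup.mul_mem _ hn'.1 (Subgroup.inv_mem _ hα)) h1
    have h3 := hchar f hf z hzD
    have h4 : f z = ((n (⟨y, hyQ⟩ : Q) : Q) : Ω) := by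
      have := hfh ⟨z, hzQ⟩
      rw [MulAut.mul_apply, hα2] at this
      exact this
    rw [h4] at h3
    obtain ⟨k, hk⟩ := hDmem hzD hz1 _ h3
    have h5 : n ((⟨z, hzQ⟩ : Q) ^ k) = n (⟨y, hyQ⟩ : Q) := by
      rw [map_zpow, hn'.2]
      exact Subtype.ext hk
    have h6 := congrArg Subtype.val (n.injective h5)
    apply hyD
    have h7 : z ^ k = y := h6
    rw [← h7]
    exact D.zpow_mem hzD k
  · -- the case of `SL₂(p)`
    have hzd := hlam ⟨y, hyQ⟩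
    rw [hτa] at hzd
    have hzd : y⁻¹ * (x * y * x⁻¹) ∈ D := hzd
    have hw1 : y⁻¹ * (x * y * x⁻¹) ≠ 1 := by
      intro h
      apply hxy
      rw [inv_mul_eq_one] at h
      calc x * y = x * y * x⁻¹ * x := by group
        _ = y * x := by rw [← h]
    set w := y⁻¹ * (x * y * x⁻¹) with hw
    have hwQ : w ∈ Q := hDQ hzd
    have hτy : τ ⟨y, hyQ⟩ = ⟨y, hyQ⟩ * ⟨w, hwQ⟩ := by
      apply Subtype.ext
      rw [hτa]
      show x * y * x⁻¹ = y * w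
      rw [hw, mul_inv_cancel_left]
    clear_value w
    obtain ⟨t, htH, htτ, htz⟩ := exists_inverter (Q := Q) (p := p) (fun a b => Subtype.ext (hQab a a.2 b b.2)) (F.autGroup Q)
      (τ := τ) (τ' := α⁻¹ * τ * α) hτH hτ'H (y := ⟨y, hyQ⟩) (z := ⟨w, hwQ⟩) (hτfix _ hzd) hτy
      (by rw [hτ'a, hα1, hτfix _ hzD, hα2])
      (by
        intro h
        apply hfix
        obtain ⟨k, hk⟩ := hDmem hzd hw1 z hzD
        have h1 : (⟨z, hzQ⟩ : Q) = (⟨w, hwQ⟩ : Q) ^ k := Subtype.ext hk.symm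
        rw [h1, map_zpow, h])
      (Subtype.ext hyp)
      (by
        intro q
        obtain ⟨k, hk⟩ := hDmem hzd hw1 _ (hlam q)
        refine ⟨k, Subtype.ext ?_⟩
        show ((τ q : Q) : Ω) = q * w ^ k
        rw [hk, mul_inv_cancel_left])
      (by
        intro q
        obtain ⟨k, hk⟩ := hDmem hzD hz1 _ (hlam (α q))
        refine ⟨k, ?_⟩
        have h1 : τ (α q) = α q * (⟨z, hzQ⟩ : Q) ^ k := by
          apply Subtype.ext
          show ((τ (α q) : Q) : Ω) = (α q : Q) * z ^ k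
          rw [hk, mul_inv_cancel_left]
        rw [hτ'a, h1, map_mul, map_zpow, hα2]
        congr 1
        exact α.symm_apply_apply q)
    obtain ⟨f, hf, hft⟩ := hSC t htH (by rw [htτ]; exact hτS)
    have hfx : f x ∈ P := StronglyClosed.map_mem hP hf hxP hxP
    have h1 : ∀ a : Q, f x * a * (f x)⁻¹ = x * a * x⁻¹ := by
      intro a
      have h2 : t (t⁻¹ a) = a := t.apply_symm_apply a
      have h3 : f ((t⁻¹ a : Q) : Ω) = a := by rw [hft, h2]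
      have h4 : f (x * ((t⁻¹ a : Q) : Ω) * x⁻¹) = f x * a * (f x)⁻¹ := by
        rw [hf.map_mul (P.mul_mem hxP (hQP (t⁻¹ a).2)) (P.inv_mem hxP), hf.map_mul hxP (hQP (t⁻¹ a).2), hf.map_inv hxP, h3]
      rw [← h4, ← hτa, ← hτa, hft]
      have h5 : (t * τ * t⁻¹) a = τ a := by rw [htτ]
      exact congrArg Subtype.val h5
    have hu : x⁻¹ * f x ∈ Q := by
      rw [hmemQ]
      refine ⟨P.mul_mem (P.inv_mem hxP) hfx, ?_⟩
      have h2 := h1 ⟨y, hyQ⟩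
      have h3 : f x * y = x * y * x⁻¹ * f x := by
        rw [← h2]; group
      rw [mul_assoc, h3]; group
    have h2 : (f x) ^ p = x ^ p := by
      have h3 : f x = x * (x⁻¹ * f x) := by group
      have h4 : (x⁻¹ * f x) ^ p = 1 := hexp _ (hQP hu) ((hmemQ _).1 hu).2
      rw [h3, hmulp x hxP _ (hQP hu), h4, mul_one]
    have h3 : f (x ^ p) = x ^ p := by rw [hf.map_pow hxP, h2]
    obtain ⟨k, hk⟩ := hDmem hzd hw1 _ (hpow x hxP)
    have h4 : f (x ^ p) = (x ^ p)⁻¹ := by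
      rw [← hk, hf.map_zpow (hQP hwQ)]
      have h5 := hft ⟨w, hwQ⟩
      rw [htz] at h5
      have h6 : f w = w⁻¹ := h5
      rw [h6, inv_zpow]
    rw [h3] at h4
    have h5 : (x ^ p) ^ 2 = 1 := by
      rw [pow_two]; exact eq_inv_iff_mul_eq_one.1 h4
    have h6 : orderOf (x ^ p) = p := orderOf_eq_prime (pow_of_mem hDc (hpow x hxP)) hxp
    have h7 := orderOf_dvd_of_pow_eq_one h5
    rw [h6] at h7
    exact hp2 ((Nat.prime_dvd_prime_iff_eq hp.out Nat.prime_two).1 h7)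

end CfsgLib.H9V
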