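import Cfsg.Agent.Lib.H9Ve

/-! # strongly closed subgroups with few elements of order `p` -/

set_option autoImplicit false
set_option maxHeartbeats 1000000

namespace CfsgLib.H9W

open Subgroup
open scoped commutatorElement

theorem exists_inverter' {Q : Type*} [inst : Group Q] (hc : ∀ a b : Q, a * b = b * a) (H : Subgroup (MulAut Q))
    {τ τ' : MulAut Q} (hτH : τ ∈ H) (hτ'H : τ' ∈ H) {y z : Q} {p : ℕ} [hp : Fact p.Prime]
    (h1 : τ z = z) (h2 : τ y = y * z) (h3 : τ' y = y) (h4 : τ' z ≠ z) (hy : y ^ p = 1)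
    (hτ : ∀ q, ∃ a : ℤ, τ q = q * z ^ a) (hτ' : ∀ q, ∃ b : ℤ, τ' q = q * y ^ b) :
    ∃ t ∈ H, t * τ * t⁻¹ = τ ∧ t z = z⁻¹ ∧ t y = y⁻¹ := by
  letI : CommGroup Q := { inst with mul_comm := hc }
  obtain ⟨j, k1, k2, k3⟩ := CfsgLib.H9V.adjust (Q := Q) (τ := τ') h3 h4 hy hτ'
  have hσ : τ' ^ j ∈ H := H.pow_mem hτ'H j
  obtain ⟨k4, k5⟩ := CfsgLib.H9V.braid_elt (Q := Q) (τ := τ) (σ := τ' ^ j) h1 h2 k1 k2 hτ k3
  refine ⟨_, H.mul_mem (H.mul_mem (H.mul_mem hτH hσ) hτH) (H.mul_mem (H.mul_mem hτH hσ) hτH), k4, k5, ?_⟩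
  set Δ := τ * τ' ^ j * τ with hΔ
  have e3 : Δ z = y⁻¹ := by
    rw [hΔ, MulAut.mul_apply, MulAut.mul_apply, h1, k2, map_mul, map_inv, h1, h2, mul_inv_rev, mul_inv_cancel_left]
  have e4 : Δ y = z := by
    rw [hΔ, MulAut.mul_apply, MulAut.mul_apply, h2, map_mul, k1, k2, mul_comm z, mul_inv_cancel_left, h1]
  rw [MulAut.mul_apply, e4, e3]

/-- no automorphism inverts `Ω₁` and acts trivially modulo a proper subgroup. -/
theorem no_inverter {P : Type*} [Group P] [Finite P] {p : ℕ} [hp : Fact p.Prime] (hp2 : p ≠ 2) (hP : IsPGroup p P) {N C : Subgroup P}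
    (hN : ∀ x, x ∈ N ↔ x ^ p = 1) (hC : C ≠ ⊤) (f : MulAut P) (hfC : ∀ g, g⁻¹ * f g ∈ C) (hfN : ∀ n ∈ N, f n = n⁻¹) : False := by
  classical
  obtain ⟨a, m, hm, hfo⟩ := Nat.exists_eq_two_pow_mul_odd (n := orderOf f) (orderOf_pos f).ne'
  set s := f ^ m with hs
  have hs1 : s ^ 2 ^ a = 1 := by
    rw [hs, ← pow_mul, mul_comm, ← hfo, pow_orderOf_eq_one]
  have hsN : ∀ n ∈ N, s n = n⁻¹ := by
    obtain ⟨k, rfl⟩ := hm
    rw [hs]
    clear_value s
    clear hfo hs hs1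
    intro n hn
    have h2 : (f ^ 2) n = n := by
      rw [pow_two, MulAut.mul_apply, hfN n hn, map_inv, hfN n hn, inv_inv]
    have h3 : ∀ k : ℕ, (f ^ (2 * k)) n = n := by
      intro k
      induction k with
      | zero => simp
      | succ k ih => rw [mul_add, pow_add, MulAut.mul_apply, mul_one, h2, ih]
    rw [pow_succ, MulAut.mul_apply, hfN n hn, map_inv, h3]
  have hsC : ∀ g, g⁻¹ * s g ∈ C := by
    have h1 : ∀ k : ℕ, ∀ g, g⁻¹ * (f ^ k) g ∈ C := by
      intro k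
      induction k with
      | zero => intro g; simp
      | succ k ih =>
        intro g
        rw [pow_succ, MulAut.mul_apply]
        have : g⁻¹ * (f ^ k) (f g) = (g⁻¹ * f g) * ((f g)⁻¹ * (f ^ k) (f g)) := by group
        rw [this]
        exact C.mul_mem (hfC g) (ih _)
    exact h1 m
  clear_value s
  obtain ⟨x, hx⟩ : ∃ x, x ∉ C := by
    by_contra h
    push Not at h
    exact hC (eq_top_iff.2 fun g _ => h g)
  have hiff : ∀ g, x⁻¹ * (s.toEquiv g) ∈ C ↔ x⁻¹ * g ∈ C := by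
    intro g
    have h1 : x⁻¹ * (s.toEquiv g) = (x⁻¹ * g) * (g⁻¹ * s g) := by
      show x⁻¹ * s g = _
      group
    rw [h1, C.mul_mem_cancel_right (hsC g)]
  let σ : Equiv.Perm {g : P // x⁻¹ * g ∈ C} := Equiv.Perm.subtypePerm (s.toEquiv : Equiv.Perm P) hiff
  have hσn : ∀ n : ℕ, ∀ g, (((σ ^ n) g : {g : P // x⁻¹ * g ∈ C}) : P) = (s ^ n) g := by
    intro n
    induction n with
    | zero => intro g; rfl
    | succ n ih =>
      intro g
      rw [pow_succ, pow_succ, Equiv.Perm.mul_apply, ih, MulAut.mul_apply]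
      rfl
  have hσ1 : σ ^ 2 ^ a = 1 := by
    ext g
    rw [hσn, hs1]
    rfl
  haveI : Fintype {g : P // x⁻¹ * g ∈ C} := Fintype.ofFinite _
  have hcard : ¬ 2 ∣ Fintype.card {g : P // x⁻¹ * g ∈ C} := by
    have e : {g : P // x⁻¹ * g ∈ C} ≃ C :=
      { toFun := fun g => ⟨x⁻¹ * g.1, g.2⟩
        invFun := fun c => ⟨x * c, by rw [inv_mul_cancel_left]; exact c.2⟩
        left_inv := fun g => Subtype.ext (by simp)
        right_inv := fun c => Subtype.ext (by simp) }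
    rw [← Nat.card_eq_fintype_card, Nat.card_congr e]
    obtain ⟨k, hk⟩ := (hP.to_subgroup C).exists_card_eq
    rw [hk]
    intro h
    have := Nat.prime_two.dvd_of_dvd_pow h
    exact hp2 ((Nat.prime_dvd_prime_iff_eq Nat.prime_two hp.out).1 this).symm
  obtain ⟨⟨g, hg⟩, hgf⟩ := Equiv.Perm.exists_fixed_point_of_prime (p := 2) (n := a) hcard hσ1
  have hsg : s g = g := congrArg Subtype.val hgf
  have hg1 : g ≠ 1 := by
    rintro rfl
    rw [mul_one] at hg
    exact hx (inv_mem_iff.1 hg)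
  obtain ⟨k, hk⟩ := IsPGroup.iff_orderOf.1 hP g
  have hk0 : k ≠ 0 := by
    rintro rfl
    rw [pow_zero, orderOf_eq_one_iff] at hk
    exact hg1 hk
  obtain ⟨j, rfl⟩ := Nat.exists_eq_succ_of_ne_zero hk0
  set h := g ^ p ^ j with hh
  have hhp : h ^ p = 1 := by
    rw [hh, ← pow_mul, ← pow_succ, ← hk, pow_orderOf_eq_one]
  have hh1 : h ≠ 1 := by
    rw [hh]
    intro h1
    have := orderOf_dvd_of_pow_eq_one h1
    rw [hk] at this
    have h2 := (Nat.pow_dvd_pow_iff_le_right hp.out.one_lt).1 this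
    omega
  have hsh : s h = h := by rw [hh, map_pow, hsg]
  rw [hsN h ((hN h).2 hhp)] at hsh
  have h5 : h ^ 2 = 1 := by
    rw [pow_two]; exact inv_eq_iff_mul_eq_one.1 hsh
  have h7 := orderOf_dvd_of_pow_eq_one h5
  rw [orderOf_eq_prime hhp hh1] at h7
  exact hp2 ((Nat.prime_dvd_prime_iff_eq hp.out Nat.prime_two).1 h7)

theorem dec_of_index {G : Type*} [Group G] [Finite G] {p : ℕ} [hp : Fact p.Prime] {K : Subgroup G} (hK : K.index = p) (hKn : K.Normal)
    {x : G} (hx : x ∉ K) (g : G) : ∃ k ∈ K, ∃ n : ℤ, g = k * x ^ n := by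
  have h4 := CfsgLib.PGrp.isCoatom_of_index_prime hK
  have h6 : K ⊔ zpowers x = ⊤ := by
    apply h4.2
    exact lt_of_le_of_ne le_sup_left fun h => hx (h ▸ (le_sup_right (a := K) (mem_zpowers _)))
  have h7 : g ∈ ((K ⊔ zpowers x : Subgroup G) : Set G) := by
    rw [h6]; trivial
  rw [normal_mul] at h7
  obtain ⟨q, hq, r, ⟨k, hk⟩, hqr⟩ := h7
  exact ⟨q, hq, k, by rw [← hqr, ← hk]⟩

theorem comm_in {G : Type*} [Group G] [Finite G] {p : ℕ} [hp : Fact p.Prime] (hG : IsPGroup p G) {D Q : Subgroup G} [hD : D.Normal]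
    (hQ : Q.Normal) (hDQ : D ≤ Q) (hDc : Nat.card D = p) (hQc : Nat.card Q = p ^ 2) {a : G} (ha : a ∈ Q) (s : G) :
    a⁻¹ * (s * a * s⁻¹) ∈ D := by
  have h1 : Nat.card D * D.relIndex Q = Nat.card Q := by
    rw [← relIndex_bot_left, ← relIndex_bot_left]
    exact relIndex_mul_relIndex _ _ _ bot_le hDQ
  rw [hDc, hQc, pow_two] at h1
  have h2 : D.relIndex Q = p := Nat.eq_of_mul_eq_mul_left hp.out.pos h1
  have h3 : D.relIndex Q = Nat.card (Q.map (QuotientGroup.mk' D)) := by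
    rw [← relIndex_ker, QuotientGroup.ker_mk']
  have h4 := CfsgLib.PGrp.le_center_of_card_eq_prime (hG.to_quotient D) (N := Q.map (QuotientGroup.mk' D))
    (hQ.map _ (QuotientGroup.mk'_surjective D)) (h3 ▸ h2)
  have h5 := mem_center_iff.1 (h4 (mem_map_of_mem _ ha)) (QuotientGroup.mk' D s)
  rw [← QuotientGroup.eq]
  have h6 : QuotientGroup.mk' D a = QuotientGroup.mk' D (s * a * s⁻¹) := by
    rw [map_mul, map_mul, h5, map_inv, mul_inv_cancel_right]
  exact h6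

end CfsgLib.H9W
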