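import Mathlib

/-!
Finite `p`-groups with centre of index at most `p²`.
-/
set_option autoImplicit false
set_option maxHeartbeats 400000

namespace CfsgLib.H9Zx

theorem exists_u {G : Type*} [Group G] [Finite G] {p : ℕ} [hp : Fact p.Prime] (hG : IsPGroup p G)
    (hZ : (Subgroup.center G).index ≤ p ^ 2) (hna : ∃ a b : G, a * b ≠ b * a) :
    Nat.card (G ⧸ Subgroup.center G) = p ^ 2 ∧
    ∃ u : G, u ∈ Subgroup.center G ∧ u ^ p = 1 ∧ u ≠ 1 ∧ (∀ s t : G, s * t * s⁻¹ * t⁻¹ ∈ Subgroup.zpowers u) ∧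
      (∀ s : G, s ^ p ∈ Subgroup.center G) ∧
      (∀ s : G, s ∉ Subgroup.center G → ∀ t, t * s = s * t → ∃ i : ℤ, t * s ^ i ∈ Subgroup.center G) ∧
      (∀ s : G, s ∉ Subgroup.center G → ∃ t, t * s * t⁻¹ = s * u) ∧
      (∀ s t : G, s * t ≠ t * s → ∀ x : G, ∃ i j : ℤ, ∃ z ∈ Subgroup.center G, x = s ^ i * t ^ j * z) := by
  set Z := Subgroup.center G with hZdef
  have hnc : ¬ IsCyclic (G ⧸ Z) := by
    intro h
    obtain ⟨a, b, hab⟩ := hna
    exact hab (commutative_of_cyclic_center_quotient (QuotientGroup.mk' Z) (by rw [QuotientGroup.ker_mk']) a b)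
  have hcard : Nat.card (G ⧸ Z) = p ^ 2 := by
    obtain ⟨n, hn⟩ := (hG.to_quotient Z).exists_card_eq
    have h1 : Z.index = p ^ n := hn
    have h2 : n ≤ 2 := by
      rw [h1] at hZ
      exact (Nat.pow_le_pow_iff_right hp.out.one_lt).1 hZ
    have h3 : n ≠ 0 := by
      rintro rfl
      apply hnc
      rw [pow_zero] at hn
      have := (Nat.card_eq_one_iff_unique.1 hn).1
      infer_instance
    have h4 : n ≠ 1 := by
      rintro rfl
      rw [pow_one] at hn
      exact hnc (isCyclic_of_prime_card hn)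
    have : n = 2 := by omega
    rw [hn, this]
  refine ⟨hcard, ?_⟩
  letI : CommGroup (G ⧸ Z) := { (inferInstance : Group (G ⧸ Z)) with
    mul_comm := IsPGroup.commutative_of_card_eq_prime_sq hcard }
  have hpow : ∀ x : G ⧸ Z, x ^ p = 1 := by
    intro x
    have h1 : orderOf x ∣ p ^ 2 := hcard ▸ orderOf_dvd_natCard x
    obtain ⟨k, hk, hk2⟩ := (Nat.dvd_prime_pow hp.out).1 h1
    have h2 : k ≠ 2 := by
      rintro rfl
      exact hnc (isCyclic_of_orderOf_eq_card x (by rw [hk2, hcard]))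
    have h3 : orderOf x ∣ p := by
      rw [hk2]
      exact (pow_dvd_pow p (by omega : k ≤ 1)).trans (by rw [pow_one])
    exact orderOf_dvd_iff_pow_eq_one.1 h3
  have hgen : ∀ s t : G ⧸ Z, s ≠ 1 → t ∉ Subgroup.zpowers s → ∀ x : G ⧸ Z, ∃ i j : ℤ, x = s ^ i * t ^ j := by
    intro s t hs ht x
    have h1 : Subgroup.zpowers s < Subgroup.zpowers s ⊔ Subgroup.zpowers t := by
      refine lt_of_le_of_ne le_sup_left fun h => ht ?_
      rw [h]
      exact Subgroup.mem_sup_right (Subgroup.mem_zpowers t)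
    have h2 : Nat.card (Subgroup.zpowers s) = p := by
      rw [Nat.card_zpowers]
      exact orderOf_eq_prime (hpow s) hs
    have h3 : Subgroup.zpowers s ⊔ Subgroup.zpowers t = ⊤ := by
      have h4 : Nat.card ↥(Subgroup.zpowers s ⊔ Subgroup.zpowers t) ∣ p ^ 2 := hcard ▸ Subgroup.card_subgroup_dvd_card _
      obtain ⟨k, hk, hk2⟩ := (Nat.dvd_prime_pow hp.out).1 h4
      have h5 : Nat.card (Subgroup.zpowers s) < Nat.card ↥(Subgroup.zpowers s ⊔ Subgroup.zpowers t) := by
        by_contra hcon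
        exact h1.ne (Subgroup.eq_of_le_of_card_ge h1.le (not_lt.1 hcon))
      rw [h2, hk2] at h5
      have h6 : 1 < k := by
        by_contra hcon
        have : p ^ k ≤ p ^ 1 := Nat.pow_le_pow_right hp.out.pos (by omega)
        rw [pow_one] at this
        omega
      have h7 : k = 2 := by omega
      apply Subgroup.eq_top_of_card_eq
      rw [hk2, hcard, h7]
    have h4 : x ∈ Subgroup.zpowers s ⊔ Subgroup.zpowers t := by rw [h3]; trivial
    rw [Subgroup.mem_sup] at h4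
    obtain ⟨y, ⟨i, rfl⟩, z, ⟨j, rfl⟩, rfl⟩ := h4
    exact ⟨i, j, rfl⟩
  have hZc : ∀ z ∈ Z, ∀ y : G, y * z = z * y := fun z hz y => Subgroup.mem_center_iff.1 hz y
  have hmk : ∀ x : G, (QuotientGroup.mk' Z x = 1) ↔ x ∈ Z := fun x => by
    rw [← MonoidHom.mem_ker, QuotientGroup.ker_mk']
  have hlift : ∀ s t : G, s ∉ Z → QuotientGroup.mk' Z t ∉ Subgroup.zpowers (QuotientGroup.mk' Z s) →
      ∀ x : G, ∃ i j : ℤ, ∃ z ∈ Z, x = s ^ i * t ^ j * z := by
    intro s t hs ht x
    obtain ⟨i, j, hij⟩ := hgen (QuotientGroup.mk' Z s) (QuotientGroup.mk' Z t) (fun h => hs ((hmk s).1 h)) ht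
      (QuotientGroup.mk' Z x)
    refine ⟨i, j, (s ^ i * t ^ j)⁻¹ * x, ?_, by group⟩
    rw [← hmk, map_mul, map_inv, map_mul, map_zpow, map_zpow, hij]
    group
  have hzcomm : ∀ s x : G, x * s = s * x → ∀ i : ℤ, x * s ^ i = s ^ i * x := by
    intro s x h i
    have : Commute x s := h
    exact (this.zpow_right i).eq
  have hnotmem : ∀ s t : G, s * t ≠ t * s → QuotientGroup.mk' Z t ∉ Subgroup.zpowers (QuotientGroup.mk' Z s) := by
    rintro s t hst ⟨i, hi⟩
    apply hst
    have h1 : (s ^ i)⁻¹ * t ∈ Z := by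
      rw [← hmk, map_mul, map_inv, map_zpow]
      have : QuotientGroup.mk' Z s ^ i = QuotientGroup.mk' Z t := hi
      rw [this]; group
    obtain ⟨w, hw, hwt⟩ : ∃ w ∈ Z, t = s ^ i * w := ⟨_, h1, by group⟩
    rw [hwt, ← mul_assoc, hzcomm s s rfl i, mul_assoc, hZc w hw s, mul_assoc]
  have hcc : ∀ s t : G, s * t * s⁻¹ * t⁻¹ ∈ Z := by
    intro s t
    rw [← hmk]
    simp only [map_mul, map_inv]
    rw [mul_comm (QuotientGroup.mk' Z s) (QuotientGroup.mk' Z t)]
    group
  -- bilinearity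
  let χ : G → G →* G := fun t =>
    { toFun := fun s => s * t * s⁻¹ * t⁻¹
      map_one' := by group
      map_mul' := by
        intro x y
        have h1 := hZc _ (hcc y t) x
        calc x * y * t * (x * y)⁻¹ * t⁻¹ = x * (y * t * y⁻¹ * t⁻¹) * (t * x⁻¹ * t⁻¹) := by group
          _ = (y * t * y⁻¹ * t⁻¹) * x * (t * x⁻¹ * t⁻¹) := by rw [h1]
          _ = (y * t * y⁻¹ * t⁻¹) * (x * t * x⁻¹ * t⁻¹) := by group
          _ = (x * t * x⁻¹ * t⁻¹) * (y * t * y⁻¹ * t⁻¹) := (hZc _ (hcc y t) _).symm }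
  let ψ : G → G →* G := fun s =>
    { toFun := fun t => s * t * s⁻¹ * t⁻¹
      map_one' := by group
      map_mul' := by
        intro x y
        have h1 := hZc _ (hcc s y) x
        calc s * (x * y) * s⁻¹ * (x * y)⁻¹ = s * x * s⁻¹ * (s * y * s⁻¹ * y⁻¹) * x⁻¹ := by group
          _ = (s * x * s⁻¹) * ((s * y * s⁻¹ * y⁻¹) * x⁻¹) := by group
          _ = (s * x * s⁻¹) * (x⁻¹ * (s * y * s⁻¹ * y⁻¹)) := by rw [hZc _ (hcc s y) x⁻¹]
          _ = _ := by group }
  have hχ : ∀ s t : G, χ t s = s * t * s⁻¹ * t⁻¹ := fun s t => rfl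
  have hψ : ∀ s t : G, ψ s t = s * t * s⁻¹ * t⁻¹ := fun s t => rfl
  have hχz : ∀ t, ∀ z ∈ Z, χ t z = 1 := by
    intro t z hz
    rw [hχ, ← hZc z hz t]; group
  have hψz : ∀ t, ∀ z ∈ Z, ψ t z = 1 := by
    intro t z hz
    rw [hψ, hZc z hz t]; group
  have hpz : ∀ s : G, s ^ p ∈ Z := by
    intro s
    rw [← hmk, map_pow, hpow]
  obtain ⟨a, b, hab⟩ := hna
  set u := a * b * a⁻¹ * b⁻¹ with hu
  have hu1 : u ≠ 1 := by
    intro h
    apply hab
    rw [hu, mul_inv_eq_one, mul_inv_eq_iff_eq_mul] at h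
    exact h
  have hup : u ^ p = 1 := by
    have : χ b (a ^ p) = 1 := hχz b _ (hpz a)
    rw [map_pow] at this
    exact this
  have haZ : a ∉ Z := fun h => hab (hZc a h b).symm
  have hall := hlift a b haZ (hnotmem a b hab)
  have hmem : ∀ s t : G, s * t * s⁻¹ * t⁻¹ ∈ Subgroup.zpowers u := by
    have h1 : ∀ t : G, χ t a ∈ Subgroup.zpowers u ∧ χ t b ∈ Subgroup.zpowers u := by
      intro t
      obtain ⟨i, j, z, hz, rfl⟩ := hall t
      constructor
      · show ψ a (a ^ i * b ^ j * z) ∈ _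
        rw [map_mul, map_mul, map_zpow, map_zpow, hψz a z hz, mul_one]
        have e : ψ a a = 1 := by rw [hψ]; group
        rw [e, one_zpow, one_mul]
        exact Subgroup.zpow_mem _ (Subgroup.mem_zpowers u) _
      · show ψ b (a ^ i * b ^ j * z) ∈ _
        rw [map_mul, map_mul, map_zpow, map_zpow, hψz b z hz, mul_one]
        have e : ψ b b = 1 := by rw [hψ]; group
        have e2 : ψ b a = u⁻¹ := by rw [hψ, hu]; group
        rw [e, one_zpow, mul_one, e2]
        exact Subgroup.zpow_mem _ (Subgroup.inv_mem _ (Subgroup.mem_zpowers u)) _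
    intro s t
    obtain ⟨i, j, z, hz, rfl⟩ := hall s
    show χ t (a ^ i * b ^ j * z) ∈ _
    rw [map_mul, map_mul, map_zpow, map_zpow, hχz t z hz, mul_one]
    exact Subgroup.mul_mem _ (Subgroup.zpow_mem _ (h1 t).1 _) (Subgroup.zpow_mem _ (h1 t).2 _)
  refine ⟨u, hcc a b, hup, hu1, hmem, hpz, ?_, ?_, ?_⟩
  · intro s hs t hts
    by_contra hcon
    push Not at hcon
    have h1 : QuotientGroup.mk' Z t ∉ Subgroup.zpowers (QuotientGroup.mk' Z s) := by
      rintro ⟨i, hi⟩
      have hi' : QuotientGroup.mk' Z s ^ i = QuotientGroup.mk' Z t := hi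
      apply hcon (-i)
      rw [← hmk, map_mul, map_zpow, ← hi']
      group
    apply hs
    rw [hZdef, Subgroup.mem_center_iff]
    intro x
    obtain ⟨i, j, z, hz, rfl⟩ := hlift s t hs h1 x
    have e1 := hzcomm s s rfl i
    have e2 := hzcomm t s hts.symm j
    calc s ^ i * t ^ j * z * s = s ^ i * t ^ j * (z * s) := by group
      _ = s ^ i * t ^ j * (s * z) := by rw [hZc z hz s]
      _ = s ^ i * (t ^ j * s) * z := by group
      _ = s ^ i * (s * t ^ j) * z := by rw [e2]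
      _ = (s ^ i * s) * t ^ j * z := by group
      _ = (s * s ^ i) * t ^ j * z := by rw [e1]
      _ = _ := by group
  · intro s hs
    have : ∃ t, t * s ≠ s * t := by
      by_contra hcon
      push Not at hcon
      exact hs (Subgroup.mem_center_iff.2 hcon)
    obtain ⟨t, ht⟩ := this
    have h1 : χ s t ≠ 1 := by
      intro h
      apply ht
      rw [hχ, mul_inv_eq_one, mul_inv_eq_iff_eq_mul] at h
      exact h
    have h2 : u ∈ Subgroup.zpowers (χ s t) := by
      have h3 : Subgroup.zpowers (χ s t) = Subgroup.zpowers u := by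
        apply Subgroup.eq_of_le_of_card_ge
        · rw [Subgroup.zpowers_le]; exact hmem t s
        · have h4 : (χ s t) ^ p = 1 := by rw [← map_pow]; exact hχz s _ (hpz t)
          rw [Nat.card_zpowers, Nat.card_zpowers, orderOf_eq_prime hup hu1, orderOf_eq_prime h4 h1]
      rw [h3]; exact Subgroup.mem_zpowers u
    obtain ⟨m, hm⟩ := h2
    refine ⟨t ^ m, ?_⟩
    have h3 : χ s (t ^ m) = u := by rw [map_zpow]; exact hm
    rw [hχ, mul_inv_eq_iff_eq_mul] at h3
    rw [h3, hZc u (hcc a b) s]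
  · intro s t hst x
    have hs : s ∉ Z := fun h => hst (hZc s h t).symm
    exact hlift s t hs (hnotmem s t hst) x

end CfsgLib.H9Zx
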