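import Cfsg.Agent.Lib.H9Zx9
import Cfsg.Agent.Lib.FusionAb
import Cfsg.Agent.Lib.PG2
import Cfsg.Agent.Lib.PGrp
import Cfsg.Agent.Lib.Mob2

/-!
Fusion systems over `p`-groups with centre of index at most `p²`: conclusion.
-/
set_option autoImplicit false
set_option maxHeartbeats 400000

namespace CfsgLib.H9Zx

open Cfsg Cfsg.FusionSystem CfsgLib.SylowIn CfsgLib.Fusion

section

variable {Ω : Type*} [Group Ω] {S : Subgroup Ω} {u : Ω} {F : FusionSystem S} {w₁ w₂ : Ω}

theorem D0_swap (d : DD F u w₁ w₂) {x : Ω} (hx : x ∈ D0 d.swap) : x ∈ D0 d := by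
  obtain ⟨i, j, k, rfl⟩ := hx
  exact (D0 d).mul_mem ((D0 d).mul_mem ((D0 d).zpow_mem (D0_u d) i) ((D0 d).zpow_mem (D0_2 d) j))
    ((D0 d).zpow_mem (D0_1 d) k)

theorem DD.even_center [Finite S] (d : DD F u w₁ w₂) (hcore : F.core = ⊥) (hfoc : S ≤ F.focalSubgroup) :
    ∀ c ∈ Zc S, c = 1 ∨ c = u := by
  have : Fact (Nat.Prime 2) := ⟨Nat.prime_two⟩
  by_contra hcon
  push Not at hcon
  obtain ⟨c, hcZ, hc1, hcu⟩ := hcon
  have s1 := d.h1.right_mem
  have s2 := d.h2.right_mem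
  have huS := d.cc.zle d.cc.huS
  have huu : u * u = 1 := by rw [← pow_two]; exact d.cc.hup
  have huinv : u⁻¹ = u := by rw [inv_eq_iff_mul_eq_one]; exact huu
  have hcomm : ∀ x ∈ S, x * u = u * x := fun x hx => d.cc.ucom hx
  obtain ⟨c₁, hc₁, hc₁c⟩ : ∃ c₁ ∈ CW F w₁, c₁ = c ∨ c₁ = c * u := by
    rcases d.index hcZ with h | h
    · exact ⟨_, h, Or.inl rfl⟩
    · exact ⟨_, h, Or.inr rfl⟩
  obtain ⟨c₂, hc₂, hc₂c⟩ : ∃ c₂ ∈ CW F w₂, c₂ = c ∨ c₂ = c * u := by
    rcases d.swap.index hcZ with h | h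
    · exact ⟨_, h, Or.inl rfl⟩
    · exact ⟨_, h, Or.inr rfl⟩
  have hcu' : c * u ≠ 1 := by
    intro h
    apply hcu
    rw [← huinv]; exact eq_inv_of_mul_eq_one_left h
  have hc₁1 : c₁ ≠ 1 := by rcases hc₁c with rfl | rfl <;> assumption
  have hc₂1 : c₂ ≠ 1 := by rcases hc₂c with rfl | rfl <;> assumption
  have hn12 : c₁ ∉ CW F w₂ := fun h => hc₁1 (d.inter hcore hc₁ h)
  have hn21 : c₂ ∉ CW F w₁ := fun h => hc₂1 (d.inter hcore h hc₂)
  have hne : c₁ ≠ c₂ := by rintro rfl; exact hn12 hc₂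
  have h21 : c₂ = c₁ * u := by
    rcases hc₁c with rfl | rfl <;> rcases hc₂c with rfl | rfl
    · exact absurd rfl hne
    · rfl
    · rw [mul_assoc, huu, mul_one]
    · exact absurd rfl hne
  have h12' : c₁ = c₂ * u := by rw [h21, mul_assoc, huu, mul_one]
  have hall₁ : ∀ z ∈ CW F w₁, z = 1 ∨ z = c₁ := by
    intro z hz
    rcases d.swap.index hz.1 with h | h
    · exact Or.inl (d.inter hcore hz h)
    · right
      have h3 := CW_mul d.cc s2 h (CW_inv d.cc s2 hc₂)
      have e : z * u * c₂⁻¹ = z * c₁⁻¹ := by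
        rw [h21, mul_inv_rev, mul_assoc, ← mul_assoc u, mul_inv_cancel, one_mul]
      rw [e] at h3
      have h4 := d.inter hcore (CW_mul d.cc s1 hz (CW_inv d.cc s1 hc₁)) h3
      exact mul_inv_eq_one.1 h4
  have hall₂ : ∀ z ∈ CW F w₂, z = 1 ∨ z = c₂ := by
    intro z hz
    rcases d.index hz.1 with h | h
    · exact Or.inl (d.inter hcore h hz)
    · right
      have h3 := CW_mul d.cc s1 h (CW_inv d.cc s1 hc₁)
      have e : z * u * c₁⁻¹ = z * c₂⁻¹ := by
        rw [h12', mul_inv_rev, mul_assoc, ← mul_assoc u, mul_inv_cancel, one_mul]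
      rw [e] at h3
      have h4 := d.inter hcore h3 (CW_mul d.cc s2 hz (CW_inv d.cc s2 hc₂))
      exact mul_inv_eq_one.1 h4
  have hD : ⁅S, S⁆ ≤ D0 d := by
    rw [Subgroup.commutator_le]
    intro a ha b hb
    have h3 := d.cc.comm a ha b hb
    have h4 : Subgroup.zpowers u ≤ D0 d := by rw [Subgroup.zpowers_le]; exact D0_u d
    have := h4 h3
    rwa [commutatorElement_def]
  have hS : ∀ σ, FMap F S σ → ∀ x ∈ S, x⁻¹ * σ x ∈ D0 d := by
    intro σ hσ
    have hσu : σ u = u := Cj.eq_u d.cc d.pg d.sat d.ne (Cj.of_map hσ huS) (zmap d.cc hσ d.cc.huS)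
    have hσc₁ : σ c₁ = c₁ ∨ σ c₁ = c₁ * u := by
      have h3 := zmap d.cc hσ hc₁.1
      have h4 : σ c₁ ≠ 1 := by
        intro h
        apply hc₁1
        apply hσ.inj (d.cc.zle hc₁.1) S.one_mem
        rw [h, hσ.map_one]
      have h5 : σ c₁ ≠ u := by
        intro h
        apply d.u_notin
        have h6 : c₁ = u := hσ.inj (d.cc.zle hc₁.1) huS (by rw [h, hσu])
        rw [← h6]; exact hc₁
      rcases d.index h3 with h | h
      · rcases hall₁ _ h with h6 | h6
        · exact absurd h6 h4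
        · exact Or.inl h6
      · rcases hall₁ _ h with h6 | h6
        · exfalso
          apply h5
          rw [← huinv]; exact eq_inv_of_mul_eq_one_left h6
        · right
          calc σ c₁ = σ c₁ * u * u := by rw [mul_assoc, huu, mul_one]
            _ = c₁ * u := by rw [h6]
    have hfix := fix_of d.cc d.pg d.sat hσ hσu (by
      intro z hz
      have key : ∀ y ∈ CW F w₁, ∃ k : ℤ, σ y = y * u ^ k := by
        intro y hy
        rcases hall₁ y hy with rfl | rfl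
        · exact ⟨0, by rw [hσ.map_one]; simp⟩
        · rcases hσc₁ with h | h
          · exact ⟨0, by rw [h]; simp⟩
          · exact ⟨1, by rw [h]; simp⟩
      rcases d.index hz with h | h
      · exact key z h
      · obtain ⟨k, hk⟩ := key _ h
        rw [hσ.map_mul (d.cc.zle hz) huS, hσu] at hk
        refine ⟨k, ?_⟩
        have h3 : Commute u (u ^ k) := (Commute.refl u).zpow_right k
        apply mul_right_cancel (b := u)
        rw [hk, mul_assoc, mul_assoc, h3.eq])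
    have hw1 := d.autS1 hc₁ hn12 hσ (hfix _ hc₁.1)
    have hw2 := d.swap.autS1 hc₂ hn21 hσ (hfix _ hc₂.1)
    have hzc : ∀ y ∈ Subgroup.zpowers u, ∀ x ∈ S, x * y = y * x := fun y hy x hx => (mem_Zc.1 (d.cc.zu hy)).2 x hx
    let T : Subgroup Ω :=
      { carrier := {x | x ∈ S ∧ x⁻¹ * σ x ∈ Subgroup.zpowers u}
        one_mem' := ⟨S.one_mem, by rw [hσ.map_one]; simp [Subgroup.one_mem]⟩
        mul_mem' := by
          rintro a b ⟨h3, h4⟩ ⟨h5, h6⟩
          refine ⟨S.mul_mem h3 h5, ?_⟩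
          have e : (a * b)⁻¹ * σ (a * b) = (a⁻¹ * σ a) * (b⁻¹ * σ b) := by
            rw [hσ.map_mul h3 h5, mul_inv_rev]
            have h7 := hzc _ h4 b⁻¹ (S.inv_mem h5)
            calc b⁻¹ * a⁻¹ * (σ a * σ b) = (b⁻¹ * (a⁻¹ * σ a)) * σ b := by group
              _ = ((a⁻¹ * σ a) * b⁻¹) * σ b := by rw [h7]
              _ = _ := by group
          rw [e]
          exact Subgroup.mul_mem _ h4 h6
        inv_mem' := by
          rintro a ⟨h3, h4⟩
          refine ⟨S.inv_mem h3, ?_⟩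
          have e : a⁻¹⁻¹ * σ a⁻¹ = (a⁻¹ * σ a)⁻¹ := by
            rw [hσ.map_inv h3]
            have h7 := hzc _ (Subgroup.inv_mem _ h4) a h3
            calc a⁻¹⁻¹ * (σ a)⁻¹ = (a * (a⁻¹ * σ a)⁻¹) * a⁻¹ := by group
              _ = ((a⁻¹ * σ a)⁻¹ * a) * a⁻¹ := by rw [h7]
              _ = _ := by group
          rw [e]
          exact Subgroup.inv_mem _ h4 }
    have t0 : ∀ w ∈ S, (σ w = w ∨ σ w = w * u) → w ∈ T := by
      rintro w hw (h | h)
      · exact ⟨hw, by rw [h, inv_mul_cancel]; exact Subgroup.one_mem _⟩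
      · exact ⟨hw, by rw [h, inv_mul_cancel_left]; exact Subgroup.mem_zpowers u⟩
    have t1 := t0 w₁ s1 hw1
    have t2 := t0 w₂ s2 hw2
    intro x hx
    obtain ⟨i, j, z, hz, rfl⟩ := d.cc.gen w₁ s1 w₂ s2 d.h12 x hx
    have t3 : z ∈ T := t0 z (d.cc.zle hz) (Or.inl (hfix z hz))
    have t4 : w₁ ^ i * w₂ ^ j * z ∈ T := T.mul_mem (T.mul_mem (T.zpow_mem t1 i) (T.zpow_mem t2 j)) t3
    have h4 : Subgroup.zpowers u ≤ D0 d := by rw [Subgroup.zpowers_le]; exact D0_u d
    exact h4 t4.2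
  have hle := alperin d.pg d.sat (inD F (D0 d) hD) (by
    intro P hP α hα
    have hPS : P ≤ S := by
      rcases hP with rfl | hP
      · exact le_rfl
      · exact hP.1.1
    have hαm := (mem_autGroup_iff' hPS α).1 hα
    refine mem_autGroup_of_FMap α (f := aext α) ?_ fun x => (aext_apply α x).symm
    rw [FMap_inD]
    refine ⟨hαm, ?_⟩
    rcases hP with rfl | hP
    · exact hS _ hαm
    · have hαP : ∀ x ∈ P, aext α x ∈ P := fun x hx => aext_mem α hx
      rcases d.ess hP with h | h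
      · intro x hx
        have h5 : ∀ x ∈ AA S w₁, aext α x ∈ AA S w₁ := by rw [← h]; exact hαP
        exact d.autA hc₁ hall₁ hc₁1 (by rw [← h]; exact hαm) h5 x (by rw [← h]; exact hx)
      · intro x hx
        have h5 : ∀ x ∈ AA S w₂, aext α x ∈ AA S w₂ := by rw [← h]; exact hαP
        exact D0_swap d (d.swap.autA hc₂ hall₂ hc₂1 (by rw [← h]; exact hαm) h5 x (by rw [← h]; exact hx)))
  have hfocD : F.focalSubgroup ≤ D0 d := by
    rw [foc_le_iff]
    intro P f hf x hx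
    have := le_iff_FMap.1 hle P f hf
    rw [FMap_inD] at this
    exact this.2 x hx
  rcases d.not_mem_D0 hcZ (hfocD (hfoc (d.cc.zle hcZ))) with h | h
  · exact hc1 h
  · exact hcu h

end

end CfsgLib.H9Zx
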