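import Cfsg.Agent.Lib.H9Zx10

/-!
Fusion systems over `p`-groups with centre of index at most `p²`: conclusion.
-/
set_option autoImplicit false
set_option maxHeartbeats 400000

namespace CfsgLib.H9Zx

open Cfsg Cfsg.FusionSystem CfsgLib.SylowIn CfsgLib.Fusion
open scoped commutatorElement

variable {Ω : Type*} [Group Ω] {S : Subgroup Ω} {u : Ω} {F : FusionSystem S} {p : ℕ}

theorem center_eq (hc : CC S p u) (hZ : Zc S ≤ Subgroup.zpowers u) :
    Subgroup.center S = Subgroup.zpowers (⟨u, hc.zle hc.huS⟩ : S) := by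
  ext x
  rw [← mem_Zc_iff]
  constructor
  · intro h
    obtain ⟨k, hk⟩ := hZ h
    exact ⟨k, Subtype.ext hk⟩
  · rintro ⟨k, rfl⟩
    exact (Zc S).zpow_mem hc.huS k

theorem card_center (hc : CC S p u) [hp : Fact p.Prime] (hZ : Zc S ≤ Subgroup.zpowers u) :
    Nat.card (Subgroup.center S) = p := by
  have hu'p : (⟨u, hc.zle hc.huS⟩ : S) ^ p = 1 := Subtype.ext hc.hup
  have hu'1 : (⟨u, hc.zle hc.huS⟩ : S) ≠ 1 := fun h => hc.hu1 (congrArg Subtype.val h)
  rw [center_eq hc hZ, Nat.card_zpowers, orderOf_eq_prime hu'p hu'1]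

theorem special (hc : CC S p u) (hne : ∃ s ∈ S, s ∉ Zc S) [Finite S] [hp : Fact p.Prime] (hS : IsPGroup p S)
    (hZ : Zc S ≤ Subgroup.zpowers u) : IsExtraspecial p S := by
  have hcen := center_eq hc hZ
  have hcomm : ∀ x y : S, ⁅x, y⁆ ∈ Subgroup.center S := by
    intro x y
    rw [← mem_Zc_iff]
    exact hc.zu (hc.comm x x.2 y y.2)
  have h1 : commutator S ≤ Subgroup.center S := by
    rw [_root_.commutator_def, Subgroup.commutator_le]
    intro a _ b _
    exact hcomm a b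
  have h2 : frattini S ≤ Subgroup.center S := CfsgLib.PG2.frattini_le_of_pow_mem hS _
    (fun x => mem_Zc_iff.1 (hc.pw x x.2)) hcomm
  have h3 : commutator S ≤ frattini S := CfsgLib.PGrp.commutator_le_frattini hS
  have h5 : commutator S = Subgroup.center S := by
    apply le_antisymm h1
    rw [hcen, Subgroup.zpowers_le]
    obtain ⟨s, hs, hsZ⟩ := hne
    obtain ⟨t, ht, hts⟩ := hc.ex s hs hsZ
    have e : (⟨u, hc.zle hc.huS⟩ : S) = ⁅(⟨t, ht⟩ : S), ⟨s, hs⟩⁆ := by
      apply Subtype.ext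
      show u = t * s * t⁻¹ * s⁻¹
      rw [hts, hc.ucom hs]; group
    rw [e]
    exact Subgroup.commutator_mem_commutator trivial trivial
  exact ⟨⟨hS, le_antisymm h2 (h5 ▸ h3), h5⟩, card_center hc hZ⟩

theorem exponent_odd (hc : CC S p u) [Finite S] [hp : Fact p.Prime] (hS : IsPGroup p S) (hp2 : p ≠ 2)
    (hZ : Zc S ≤ Subgroup.zpowers u) {w₁ w₂ : Ω} (s1 : w₁ ∈ S) (s2 : w₂ ∈ S) (p1 : w₁ ^ p = 1) (p2 : w₂ ^ p = 1)
    (h12 : w₁ * w₂ ≠ w₂ * w₁) : Monoid.exponent S = p := by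
  have hcz : ∀ a b : S, (⁅a, b⁆ : S) ∈ Subgroup.center S := by
    intro x y
    rw [← mem_Zc_iff]
    exact hc.zu (hc.comm x x.2 y y.2)
  have hcl : ∀ a b c : S, ⁅a, b⁆ * c = c * ⁅a, b⁆ := fun a b c => (Subgroup.mem_center_iff.1 (hcz a b) c).symm
  have hzp : ∀ z ∈ Subgroup.center S, z ^ p = 1 := by
    intro z hz
    rw [center_eq hc hZ] at hz
    obtain ⟨k, rfl⟩ := hz
    show (_ ^ k) ^ p = 1
    rw [← zpow_natCast, ← zpow_mul, mul_comm, zpow_mul, zpow_natCast]
    have : (⟨u, hc.zle hc.huS⟩ : S) ^ p = 1 := Subtype.ext hc.hup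
    rw [this, one_zpow]
  have hmul : ∀ a b : S, a ^ p = 1 → b ^ p = 1 → (a * b) ^ p = 1 := by
    intro a b ha hb
    rw [CfsgLib.PG2.mul_pow_class_two hcl, ha, hb, one_mul, one_mul]
    have h1 : p ∣ p * (p - 1) / 2 := by
      have hodd : Odd p := hp.out.odd_of_ne_two hp2
      obtain ⟨k, hk⟩ := hodd
      have e : p * (p - 1) / 2 = p * k := by
        have : p - 1 = 2 * k := by omega
        rw [this, show p * (2 * k) = 2 * (p * k) by ring, Nat.mul_div_cancel_left _ (by norm_num)]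
      rw [e]
      exact dvd_mul_right _ _
    obtain ⟨m, hm⟩ := h1
    rw [hm, pow_mul, hzp _ (hcz _ _), one_pow]
  have hall : ∀ x : S, x ^ p = 1 := by
    rintro ⟨x, hx⟩
    obtain ⟨i, j, z, hz, rfl⟩ := hc.gen w₁ s1 w₂ s2 h12 x hx
    have q1 : ((⟨w₁, s1⟩ : S) ^ i) ^ p = 1 := by
      rw [← zpow_natCast, ← zpow_mul, mul_comm, zpow_mul, zpow_natCast]
      have : (⟨w₁, s1⟩ : S) ^ p = 1 := Subtype.ext p1
      rw [this, one_zpow]
    have q2 : ((⟨w₂, s2⟩ : S) ^ j) ^ p = 1 := by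
      rw [← zpow_natCast, ← zpow_mul, mul_comm, zpow_mul, zpow_natCast]
      have : (⟨w₂, s2⟩ : S) ^ p = 1 := Subtype.ext p2
      rw [this, one_zpow]
    have q3 : (⟨z, hc.zle hz⟩ : S) ^ p = 1 := hzp _ (mem_Zc_iff.1 hz)
    exact hmul _ _ (hmul _ _ q1 q2) q3
  have h1 : Monoid.exponent S ∣ p := Monoid.exponent_dvd_of_forall_pow_eq_one hall
  rcases (Nat.dvd_prime hp.out).1 h1 with h | h
  · exfalso
    have h2 := Monoid.pow_exponent_eq_one (⟨u, hc.zle hc.huS⟩ : S)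
    rw [h, pow_one] at h2
    exact hc.hu1 (congrArg Subtype.val h2)
  · exact h

theorem dihedral (hc : CC S 2 u) [Finite S] (hcard : Nat.card S = 2 ^ 3) {w₁ w₂ : Ω} (s1 : w₁ ∈ S) (s2 : w₂ ∈ S)
    (p1 : w₁ ^ 2 = 1) (p2 : w₂ ^ 2 = 1) (h12 : w₁ * w₂ ≠ w₂ * w₁) : Nonempty (S ≃* DihedralGroup 4) := by
  set a : S := ⟨w₁, s1⟩ with ha
  set b : S := ⟨w₂, s2⟩ with hb
  have ha2 : a * a = 1 := Subtype.ext (by show w₁ * w₁ = 1; rw [← pow_two]; exact p1)
  have hb2 : b * b = 1 := Subtype.ext (by show w₂ * w₂ = 1; rw [← pow_two]; exact p2)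
  have hab : a * b ≠ b * a := fun h => h12 (congrArg Subtype.val h)
  have hai : a⁻¹ = a := by rw [inv_eq_iff_mul_eq_one]; exact ha2
  have hbi : b⁻¹ = b := by rw [inv_eq_iff_mul_eq_one]; exact hb2
  set r := a * b with hr
  have hri : r⁻¹ = b * a := by rw [hr, mul_inv_rev, hai, hbi]
  have hr2 : r ^ 2 ≠ 1 := by
    intro h
    apply hab
    rw [pow_two] at h
    have := eq_inv_of_mul_eq_one_left h
    rw [hri] at this
    exact this
  have hr4 : r ^ 4 = 1 := by
    -- the square of `r` is central of order two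
    have h1 : r ^ 2 ∈ Subgroup.center S := mem_Zc_iff.1 (show ((r ^ 2 : S) : Ω) ∈ Zc S from hc.pw r r.2)
    have h2 : a * r ^ 2 * a⁻¹ = r ^ 2 := by
      rw [Subgroup.mem_center_iff.1 h1 a, mul_assoc, mul_inv_cancel, mul_one]
    have h3 : a * r * a⁻¹ = r⁻¹ := by
      rw [hri, hr, hai]
      calc a * (a * b) * a = (a * a) * b * a := by group
        _ = b * a := by rw [ha2, one_mul]
    have h4 : a * r ^ 2 * a⁻¹ = (r⁻¹) ^ 2 := by
      rw [← h3]
      simp [pow_two, mul_assoc]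
    rw [h4] at h2
    calc r ^ 4 = r ^ 2 * r ^ 2 := by rw [← pow_add]
      _ = (r⁻¹) ^ 2 * r ^ 2 := by rw [h2]
      _ = 1 := by group
  have hord : orderOf r = 4 := by
    have h1 : orderOf r = 2 ^ (1 + 1) := orderOf_eq_prime_pow (p := 2) (n := 1) (by simpa using hr2) (by simpa using hr4)
    simpa using h1
  have hcardC : Nat.card (Subgroup.zpowers r) = 4 := by rw [Nat.card_zpowers, hord]
  have hidx : (Subgroup.zpowers r).index = 2 := by
    have h1 := Subgroup.card_mul_index (Subgroup.zpowers r)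
    rw [hcardC, hcard] at h1
    omega
  have hinv : a * r * a = r⁻¹ := by
    rw [hri, hr]
    calc a * (a * b) * a = (a * a) * b * a := by group
      _ = b * a := by rw [ha2, one_mul]
  have hinv' : ∀ c ∈ Subgroup.zpowers r, a * c * a = c⁻¹ := by
    rintro _ ⟨k, rfl⟩
    have h1 : a * r * a⁻¹ = r⁻¹ := by rw [hai]; exact hinv
    show a * r ^ k * a = (r ^ k)⁻¹
    calc a * r ^ k * a = a * r ^ k * a⁻¹ := by rw [hai]
      _ = (a * r * a⁻¹) ^ k := (conj_zpow).symm
      _ = (r ^ k)⁻¹ := by rw [h1, inv_zpow]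
  have has : a ∉ Subgroup.zpowers r := by
    rintro ⟨k, hk⟩
    have hk' : r ^ k = a := hk
    have h1 : a * r = r * a := by
      rw [← hk']
      exact ((Commute.refl r).zpow_left k).eq
    apply hr2
    have h2 : r⁻¹ = r := by rw [← hinv, h1, mul_assoc, ha2, mul_one]
    rw [pow_two]
    calc r * r = r⁻¹ * r := by rw [h2]
      _ = 1 := inv_mul_cancel r
  have := CfsgLib.Mob2.dihedral_of (Subgroup.zpowers r) inferInstance has hidx ha2 hinv'
  rwa [hcardC] at this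

theorem s5265 (p : ℕ) [Fact p.Prime] [Finite S] (hS : IsPGroup p ↥S) (F : FusionSystem S)
    (hF : F.IsSaturated p) (hS1 : S ≠ ⊥) (hcore : F.core = ⊥) (hhyp : F.hyperfocalSubgroup p = S)
    (hZ : (Subgroup.center ↥S).index ≤ p ^ 2) : IsExtraspecial p ↥S ∧ Nat.card S = p ^ 3 ∧
      (p ≠ 2 → Monoid.exponent ↥S = p) ∧ (p = 2 → Nonempty (↥S ≃* DihedralGroup 4)) := by
  have hna : ∃ a b : S, a * b ≠ b * a := by
    by_contra hcon
    push Not at hcon
    apply hS1
    have hn : F.IsNormal S := by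
      rw [isNormal_iff]
      refine ⟨le_rfl, fun P f hf => ?_⟩
      obtain ⟨g, hg, hgf⟩ := extend_of_abelian hS hF (fun x hx y hy => congrArg Subtype.val (hcon ⟨x, hx⟩ ⟨y, hy⟩)) hf
      refine ⟨g, by rwa [sup_eq_right.2 hf.le], hgf, ?_⟩
      exact hg.img_eq_of_mapsTo fun x hx => hg.mapsTo hx
    have h1 := IsNormal.le_core hn
    rw [hcore] at h1
    exact eq_bot_iff.2 h1
  obtain ⟨hcq, u, hc⟩ := exists_CC hS hZ hna
  have hne : ∃ s ∈ S, s ∉ Zc S := by
    obtain ⟨a, b, hab⟩ := hna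
    refine ⟨a, a.2, fun h => hab ?_⟩
    exact Subtype.ext ((mem_Zc.1 h).2 b b.2).symm
  obtain ⟨w₁, w₂, h1, h2, h12⟩ := two hc hne hS hF hcore
  have hZu : Zc S ≤ Subgroup.zpowers u := by
    by_cases hp2 : p = 2
    · subst hp2
      have d : DD F u w₁ w₂ := ⟨hc, hS, hF, h1, h2, h12⟩
      have hfoc : S ≤ F.focalSubgroup := by
        conv_lhs => rw [← hhyp]
        exact hyp_le_foc
      intro z hz
      rcases d.even_center hcore hfoc z hz with rfl | rfl
      · exact Subgroup.one_mem _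
      · exact Subgroup.mem_zpowers _
    · exact odd_center hc hne hS hF hcore hp2
  have hcard : Nat.card S = p ^ 3 := by
    have h3 := Subgroup.card_eq_card_quotient_mul_card_subgroup (Subgroup.center S)
    rw [h3, hcq, card_center hc hZu]
    ring
  refine ⟨special hc hne hS hZu, hcard, fun hp2 => ?_, ?_⟩
  · exact exponent_odd hc hS hp2 hZu h1.right_mem h2.right_mem (h1.pow_p hc) (h2.pow_p hc) h12
  · rintro rfl
    exact dihedral hc hcard h1.right_mem h2.right_mem (h1.pow_p hc) (h2.pow_p hc) h12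

end CfsgLib.H9Zx
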