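import Cfsg.Agent.Lib.H9Zx
import Cfsg.Agent.Lib.FusionExt2
import Cfsg.Agent.Lib.FusionSub1

/-!
Fusion systems over `p`-groups with centre of index `p²` (1): extension of maps of abelian subgroups of index `p`.
-/
set_option autoImplicit false
set_option maxHeartbeats 400000

namespace CfsgLib.H9Zx

open Cfsg Cfsg.FusionSystem CfsgLib.SylowIn CfsgLib.Fusion

variable {Ω : Type*} [Group Ω] {S : Subgroup Ω}

/-- the centre of `S` -/
def Zc (S : Subgroup Ω) : Subgroup Ω := S ⊓ Subgroup.centralizer (S : Set Ω)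

theorem mem_Zc {x : Ω} : x ∈ Zc S ↔ x ∈ S ∧ ∀ y ∈ S, y * x = x * y := by
  constructor
  · rintro ⟨h1, h2⟩; exact ⟨h1, fun y hy => Subgroup.mem_centralizer_iff.1 h2 y hy⟩
  · rintro ⟨h1, h2⟩; exact ⟨h1, Subgroup.mem_centralizer_iff.2 h2⟩

structure CC (S : Subgroup Ω) (p : ℕ) (u : Ω) : Prop where
  huS : u ∈ Zc S
  hup : u ^ p = 1
  hu1 : u ≠ 1
  comm : ∀ s ∈ S, ∀ t ∈ S, s * t * s⁻¹ * t⁻¹ ∈ Subgroup.zpowers u
  pw : ∀ s ∈ S, s ^ p ∈ Zc S
  cen : ∀ s ∈ S, s ∉ Zc S → ∀ t ∈ S, t * s = s * t → ∃ i : ℤ, t * s ^ i ∈ Zc S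
  ex : ∀ s ∈ S, s ∉ Zc S → ∃ t ∈ S, t * s * t⁻¹ = s * u
  gen : ∀ s ∈ S, ∀ t ∈ S, s * t ≠ t * s → ∀ x ∈ S, ∃ i j : ℤ, ∃ z ∈ Zc S, x = s ^ i * t ^ j * z

theorem mem_Zc_iff {x : S} : (x : Ω) ∈ Zc S ↔ x ∈ Subgroup.center S := by
  rw [mem_Zc, Subgroup.mem_center_iff]
  constructor
  · rintro ⟨-, h⟩ y
    exact Subtype.ext (h y y.2)
  · intro h
    exact ⟨x.2, fun y hy => congrArg Subtype.val (h ⟨y, hy⟩)⟩

theorem exists_CC [Finite S] {p : ℕ} [Fact p.Prime] (hS : IsPGroup p S)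
    (hZ : (Subgroup.center S).index ≤ p ^ 2) (hna : ∃ a b : S, a * b ≠ b * a) :
    Nat.card (S ⧸ Subgroup.center S) = p ^ 2 ∧ ∃ u, CC S p u := by
  obtain ⟨hc, u, h1, h2, h3, h4, h5, h6, h7, h8⟩ := exists_u hS hZ hna
  refine ⟨hc, u, ?_, ?_, ?_, ?_, ?_, ?_, ?_, ?_⟩
  · exact mem_Zc_iff.2 h1
  · exact congrArg Subtype.val h2
  · intro h; exact h3 (Subtype.ext h)
  · intro s hs t ht
    obtain ⟨k, hk⟩ := h4 ⟨s, hs⟩ ⟨t, ht⟩
    exact ⟨k, congrArg Subtype.val hk⟩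
  · intro s hs
    exact mem_Zc_iff.2 (h5 ⟨s, hs⟩)
  · intro s hs hsZ t ht hts
    obtain ⟨i, hi⟩ := h6 ⟨s, hs⟩ (fun h => hsZ (mem_Zc_iff.2 h)) ⟨t, ht⟩ (Subtype.ext hts)
    exact ⟨i, mem_Zc_iff.2 hi⟩
  · intro s hs hsZ
    obtain ⟨t, ht⟩ := h7 ⟨s, hs⟩ (fun h => hsZ (mem_Zc_iff.2 h))
    exact ⟨t, t.2, congrArg Subtype.val ht⟩
  · intro s hs t ht hst x hx
    obtain ⟨i, j, z, hz, he⟩ := h8 ⟨s, hs⟩ ⟨t, ht⟩ (fun h => hst (congrArg Subtype.val h)) ⟨x, hx⟩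
    exact ⟨i, j, z, mem_Zc_iff.2 hz, congrArg Subtype.val he⟩

/-- abelian subgroups of index `p` -/
structure Ab (S A : Subgroup Ω) : Prop where
  le : A ≤ S
  zle : Zc S ≤ A
  comm : ∀ x ∈ A, ∀ y ∈ A, x * y = y * x
  ne : ∃ w ∈ A, w ∉ Zc S

variable {p : ℕ} {u : Ω}

theorem CC.zle (_hc : CC S p u) : Zc S ≤ S := inf_le_left

theorem CC.ucom (hc : CC S p u) {x : Ω} (hx : x ∈ S) : x * u = u * x := (mem_Zc.1 hc.huS).2 x hx

theorem CC.zu (hc : CC S p u) : Subgroup.zpowers u ≤ Zc S := by rw [Subgroup.zpowers_le]; exact hc.huS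

theorem CC.conj (hc : CC S p u) {s x : Ω} (hs : s ∈ S) (hx : x ∈ S) : ∃ i : ℤ, s * x * s⁻¹ = x * u ^ i := by
  obtain ⟨i, hi⟩ := hc.comm s hs x hx
  refine ⟨i, ?_⟩
  have h1 : u ^ i = s * x * s⁻¹ * x⁻¹ := hi
  have h2 := (mem_Zc.1 (hc.zu ⟨i, rfl⟩)).2 x hx
  have h2' : x * u ^ i = u ^ i * x := h2
  rw [h2', h1]; group

theorem Ab.mem_of_commute (hc : CC S p u) {A : Subgroup Ω} (hA : Ab S A) {x t : Ω} (hx : x ∈ A) (hxZ : x ∉ Zc S) (ht : t ∈ S)
    (h : t * x = x * t) : t ∈ A := by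
  obtain ⟨i, hi⟩ := hc.cen x (hA.le hx) hxZ t ht h
  have h1 := A.mul_mem (hA.zle hi) (A.zpow_mem hx (-i))
  have e : t * x ^ i * x ^ (-i) = t := by group
  rwa [e] at h1

theorem Ab.conj_mem (hc : CC S p u) {A : Subgroup Ω} (hA : Ab S A) {s x : Ω} (hs : s ∈ S) (hx : x ∈ A) : s * x * s⁻¹ ∈ A := by
  obtain ⟨i, hi⟩ := hc.conj hs (hA.le hx)
  rw [hi]
  exact A.mul_mem hx (hA.zle (hc.zu ⟨i, rfl⟩))

theorem Ab.norm (hc : CC S p u) [Finite S] {A : Subgroup Ω} (hA : Ab S A) : normalizerIn S A = S := by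
  have : Finite A := finite_of_le hA.le
  apply le_antisymm inf_le_left
  intro g hg
  exact ⟨hg, mem_normalizer_of_conj_mem fun x hx => hA.conj_mem hc hg hx⟩

theorem Ab.fn (hc : CC S p u) [Finite S] {A : Subgroup Ω} (hA : Ab S A) (F : FusionSystem S) : F.IsFullyNormalized A := by
  refine ⟨hA.le, fun Q hQ => ?_⟩
  rw [hA.norm hc]
  exact card_le_of_le inf_le_left

theorem Ab.img (hc : CC S p u) [Finite S] [Fact p.Prime] (hS : IsPGroup p S) {F : FusionSystem S} (hF : F.IsSaturated p)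
    {A : Subgroup Ω} (hA : Ab S A) {f : Ω → Ω} (hf : FMap F A f) : Ab S (img A f) := by
  have hAf : Finite A := finite_of_le hA.le
  have hcA : centralizerIn S A ≤ A := by
    intro x hx
    rw [mem_centralizerIn] at hx
    obtain ⟨w, hw, hwZ⟩ := hA.ne
    exact hA.mem_of_commute hc hw hwZ hx.1 (hx.2 w hw)
  have hfc := Saturated.fullyCentralized_of_fullyNormalized hS hF (hA.fn hc F)
  have hcen := Saturated.isCentric_of hS hF hfc hcA
  have hcon : F.IsConj A (CfsgLib.Fusion.img A f) := FMap.isConj_iff.2 ⟨f, hf, rfl⟩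
  have hcomm : ∀ x ∈ CfsgLib.Fusion.img A f, ∀ y ∈ CfsgLib.Fusion.img A f, x * y = y * x := by
    intro x hx y hy
    obtain ⟨a, ha, rfl⟩ := hf.mem_img.1 hx
    obtain ⟨b, hb, rfl⟩ := hf.mem_img.1 hy
    rw [← hf.map_mul ha hb, ← hf.map_mul hb ha, hA.comm a ha b hb]
  have hzle : Zc S ≤ CfsgLib.Fusion.img A f := by
    intro z hz
    apply hcen.2 _ hcon
    rw [mem_centralizerIn]
    exact ⟨hz.1, fun y hy => ((mem_Zc.1 hz).2 y (hf.img_le hy)).symm⟩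
  refine ⟨hf.img_le, hzle, hcomm, ?_⟩
  by_contra hcon2
  push Not at hcon2
  have h1 : Nat.card A ≤ Nat.card (Zc S) := by
    have h2 := hf.card_img
    have : Finite (Zc S) := finite_of_le hc.zle
    rw [← h2]
    exact card_le_of_le hcon2
  obtain ⟨w, hw, hwZ⟩ := hA.ne
  have h3 := eq_of_le_card hA.zle h1
  rw [h3] at hwZ
  exact hwZ hw

/-- the automorphisms acting trivially on `A/⟨u⟩` and on `⟨u⟩` -/
def Gam (A : Subgroup Ω) (u : Ω) (hA : ∀ x ∈ A, ∀ y ∈ A, x * y = y * x) (hu : u ∈ A) : Subgroup (MulAut A) where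
  carrier := {β | (∀ x : A, ∃ i : ℤ, (β x : Ω) = x * u ^ i) ∧ β ⟨u, hu⟩ = ⟨u, hu⟩}
  one_mem' := ⟨fun x => ⟨0, by simp⟩, rfl⟩
  mul_mem' := by
    rintro β γ ⟨h1, h2⟩ ⟨h3, h4⟩
    refine ⟨fun x => ?_, ?_⟩
    · obtain ⟨i, hi⟩ := h3 x
      obtain ⟨j, hj⟩ := h1 (γ x)
      exact ⟨i + j, by show (β (γ x) : Ω) = _; rw [hj, hi, zpow_add]; group⟩
    · show β (γ _) = _
      rw [h4, h2]
  inv_mem' := by
    rintro β ⟨h1, h2⟩
    refine ⟨fun x => ?_, ?_⟩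
    · obtain ⟨i, hi⟩ := h1 (β⁻¹ x)
      have e : β (β⁻¹ x) = x := by
        show (β * β⁻¹) x = x
        rw [mul_inv_cancel]; rfl
      rw [e] at hi
      exact ⟨-i, by rw [hi]; group⟩
    · have e : β⁻¹ (β ⟨u, hu⟩) = ⟨u, hu⟩ := by
        show (β⁻¹ * β) _ = _
        rw [inv_mul_cancel]; rfl
      rwa [h2] at e

theorem gam_mem (hc : CC S p u) [Finite S] [Fact p.Prime] (hS : IsPGroup p S) {F : FusionSystem S} (hF : F.IsSaturated p)
    {A : Subgroup Ω} (hA : Ab S A) {β : MulAut A} (hβ : β ∈ F.autGroup A) (h1 : ∀ x : A, ∃ i : ℤ, (β x : Ω) = x * u ^ i)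
    (h2 : β ⟨u, hA.zle hc.huS⟩ = ⟨u, hA.zle hc.huS⟩) : β ∈ autInducedBy S A := by
  have hAf : Finite A := finite_of_le hA.le
  have hsyl := autS_sylowIn (Saturated.of_fullyNormalized hS hF (hA.fn hc F)).1
  set T : Subgroup (MulAut A) := F.autGroup A ⊓ Gam A u hA.comm (hA.zle hc.huS) with hT
  have hTp : IsPGroup p T := by
    rintro ⟨γ, hγ, h3, h4⟩
    refine ⟨1, ?_⟩
    apply Subtype.ext
    show γ ^ (p ^ 1) = 1
    rw [pow_one]
    have h5 : ∀ (x : A) (k : ℤ), (γ x : Ω) = x * u ^ k → ∀ m : ℕ, ((γ ^ m) x : Ω) = x * u ^ (k * m) := by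
      intro x k hk m
      induction m with
      | zero => simp
      | succ m ih =>
        rw [pow_succ']
        have e1 : (γ ^ m) x = x * ⟨u, hA.zle hc.huS⟩ ^ (k * m) := by
          apply Subtype.ext
          rw [ih]; rfl
        show (γ ((γ ^ m) x) : Ω) = _
        rw [e1, map_mul, map_zpow, h4]
        show (γ x : Ω) * u ^ (k * m) = _
        rw [hk]
        push_cast
        rw [mul_assoc, ← zpow_add]
        congr 2
        ring
    ext x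
    obtain ⟨k, hk⟩ := h3 x
    rw [h5 x k hk p, mul_comm, zpow_mul, zpow_natCast, hc.hup, one_zpow, mul_one]
    rfl
  have hle : autInducedBy S A ≤ T := by
    intro γ hγ
    refine ⟨autInducedBy_le_autGroup F hA.le hγ, ?_⟩
    obtain ⟨g, hg, hgx⟩ := mem_autInducedBy_iff.1 hγ
    refine ⟨fun x => ?_, ?_⟩
    · rw [hgx]
      exact hc.conj hg (hA.le x.2)
    · apply Subtype.ext
      rw [hgx]
      show g * u * g⁻¹ = u
      rw [hc.ucom hg, mul_assoc, mul_inv_cancel, mul_one]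
  have heq : autInducedBy S A = T := Subgroup.eq_of_le_of_card_ge hle (hsyl.2.2 T inf_le_left hTp)
  rw [heq]
  exact ⟨hβ, h1, h2⟩

/-- a map of an abelian subgroup of index `p` sending `u` to a power of `u` extends to `S`. -/
theorem ext_of_fix (hc : CC S p u) [Finite S] [Fact p.Prime] (hS : IsPGroup p S) {F : FusionSystem S} (hF : F.IsSaturated p)
    {A : Subgroup Ω} (hA : Ab S A) {f : Ω → Ω} (hf : FMap F A f) {k : ℤ} (hfu : f u = u ^ k) :
    ∃ g, FMap F S g ∧ ∀ x ∈ A, g x = f x := by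
  have hB := hA.img hc hS hF hf
  set B := CfsgLib.Fusion.img A f with hBdef
  have hBf : Finite B := finite_of_le hB.le
  have hr := (Saturated.of_fullyNormalized hS hF (hB.fn hc F)).2
  have huA : u ∈ A := hA.zle hc.huS
  obtain ⟨f', hf', h1, h2⟩ := hf.exists_inv
  refine receptive_extend hr hf rfl ?_
  intro g hg
  refine ⟨hg, fun x hx => hA.conj_mem hc hg hx, ?_⟩
  -- the conjugate automorphism
  have h3 : FMap F B (fun x => f (g * f' x * g⁻¹)) := by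
    have h4 : FMap F B (fun x => g * f' x * g⁻¹) := hf'.comp (FMap.conj hA.le hg) (fun x hx => (h2 x hx).1)
    exact h4.comp hf (fun x hx => hA.conj_mem hc hg (h2 x hx).1)
  have h3B : ∀ x ∈ B, (fun x => f (g * f' x * g⁻¹)) x ∈ B := fun x hx => apply_mem_img (hA.conj_mem hc hg (h2 x hx).1)
  obtain ⟨β, hβ, hβx⟩ := h3.exists_aut_of_mapsTo h3B
  have hβ' : ∀ x : B, (β x : Ω) = f (g * f' x * g⁻¹) := fun x => hβx x
  have hfz : ∀ i : ℤ, f (u ^ i) = u ^ (k * i) := by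
    intro i
    rw [hf.map_zpow huA, hfu, ← zpow_mul]
  have h5 := gam_mem hc hS hF hB hβ (by
    intro x
    obtain ⟨i, hi⟩ := hc.conj hg (hA.le (h2 x x.2).1)
    refine ⟨k * i, ?_⟩
    rw [hβ', hi, hf.map_mul (h2 x x.2).1 (A.zpow_mem huA i), hfz, (h2 x x.2).2]) (by
    apply Subtype.ext
    rw [hβ']
    have hf'u : f' u ∈ Zc S := by
      -- `u` is a power of `f u`
      have h6 : u ∈ Subgroup.zpowers (f u) := by
        have h7 : f u ≠ 1 := by
          intro h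
          apply hc.hu1
          apply hf.inj huA A.one_mem
          rw [h, hf.map_one]
        have h8 : Subgroup.zpowers (f u) = Subgroup.zpowers u := by
          have : Finite (Subgroup.zpowers u) := finite_of_le (hc.zu.trans hc.zle)
          apply eq_of_le_card
          · rw [hfu, Subgroup.zpowers_le]; exact ⟨k, rfl⟩
          · have h9 : (f u) ^ p = 1 := by rw [← hf.map_pow huA, hc.hup, hf.map_one]
            rw [Nat.card_zpowers, Nat.card_zpowers, orderOf_eq_prime hc.hup hc.hu1, orderOf_eq_prime h9 h7]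
        rw [h8]; exact Subgroup.mem_zpowers u
      obtain ⟨m, hm⟩ := h6
      have hm' : (f u) ^ m = u := hm
      have h9 : f' u = u ^ m := by
        calc f' u = f' ((f u) ^ m) := by rw [hm']
          _ = f' (f (u ^ m)) := by rw [hf.map_zpow huA]
          _ = u ^ m := h1 _ (A.zpow_mem huA m)
      rw [h9]
      exact hc.zu ⟨m, rfl⟩
    have huB : u ∈ B := hB.zle hc.huS
    show f (g * f' u * g⁻¹) = u
    rw [(mem_Zc.1 hf'u).2 g hg, mul_assoc, mul_inv_cancel, mul_one, (h2 u huB).2])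
  obtain ⟨h, hh, hx⟩ := mem_autInducedBy_iff.1 h5
  refine ⟨h, hh, fun x hxA => ?_⟩
  have h6 := hx ⟨f x, apply_mem_img hxA⟩
  rw [hβ'] at h6
  have h7 : f' (f x) = x := h1 x hxA
  have h8 : f (g * f' (f x) * g⁻¹) = h * f x * h⁻¹ := h6
  rwa [h7] at h8

end CfsgLib.H9Zx
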