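import Cfsg.Agent.Lib.H9Zx2
import Cfsg.Agent.Lib.FusionNormal
import Cfsg.Agent.Lib.FusionCore

/-!
Fusion systems over `p`-groups with centre of index `p²` (2): the class of `u`.
-/
set_option autoImplicit false
set_option maxHeartbeats 400000

namespace CfsgLib.H9Zx

open Cfsg Cfsg.FusionSystem CfsgLib.SylowIn CfsgLib.Fusion

variable {Ω : Type*} [Group Ω] {S : Subgroup Ω} {p : ℕ} {u : Ω}

def Cj (F : FusionSystem S) (x y : Ω) : Prop := ∃ f, FMap F (Subgroup.zpowers x) f ∧ f x = y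

theorem Cj.of_map {F : FusionSystem S} {P : Subgroup Ω} {f : Ω → Ω} (hf : FMap F P f) {x : Ω} (hx : x ∈ P) : Cj F x (f x) :=
  ⟨f, hf.restrict (by rwa [Subgroup.zpowers_le]), rfl⟩

theorem Cj.left_mem {F : FusionSystem S} {x y : Ω} (h : Cj F x y) : x ∈ S := by
  obtain ⟨f, hf, -⟩ := h
  exact hf.le (Subgroup.mem_zpowers x)

theorem Cj.right_mem {F : FusionSystem S} {x y : Ω} (h : Cj F x y) : y ∈ S := by
  obtain ⟨f, hf, rfl⟩ := h
  exact hf.mapsTo (Subgroup.mem_zpowers x)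

theorem Cj.symm {F : FusionSystem S} {x y : Ω} (h : Cj F x y) : Cj F y x := by
  obtain ⟨f, hf, rfl⟩ := h
  obtain ⟨g, hg, h1, h2⟩ := hf.exists_inv
  have h3 := Cj.of_map hg (apply_mem_img (f := f) (Subgroup.mem_zpowers x))
  rwa [h1 x (Subgroup.mem_zpowers x)] at h3

theorem img_zpowers {F : FusionSystem S} {x : Ω} {f : Ω → Ω} (hf : FMap F (Subgroup.zpowers x) f) :
    img (Subgroup.zpowers x) f = Subgroup.zpowers (f x) := by
  ext y
  rw [hf.mem_img]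
  constructor
  · rintro ⟨_, ⟨k, rfl⟩, rfl⟩
    exact ⟨k, (hf.map_zpow (Subgroup.mem_zpowers x) k).symm⟩
  · rintro ⟨k, rfl⟩
    exact ⟨x ^ k, ⟨k, rfl⟩, hf.map_zpow (Subgroup.mem_zpowers x) k⟩

theorem Cj.trans {F : FusionSystem S} {x y z : Ω} (h : Cj F x y) (h' : Cj F y z) : Cj F x z := by
  obtain ⟨f, hf, rfl⟩ := h
  obtain ⟨g, hg, rfl⟩ := h'
  refine ⟨fun w => g (f w), hf.comp hg fun w hw => ?_, rfl⟩
  rw [← img_zpowers hf]
  exact apply_mem_img hw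

theorem Cj.refl (F : FusionSystem S) {x : Ω} (hx : x ∈ S) : Cj F x x := by
  have := Cj.of_map (FMap.conj (F := F) (P := S) le_rfl S.one_mem) hx
  simpa using this

/-- the centralizer of `w` in `S` -/
def AA (S : Subgroup Ω) (w : Ω) : Subgroup Ω := centralizerIn S (Subgroup.zpowers w)

theorem mem_AA {w x : Ω} : x ∈ AA S w ↔ x ∈ S ∧ x * w = w * x := by
  rw [AA, mem_centralizerIn]
  constructor
  · rintro ⟨h1, h2⟩; exact ⟨h1, h2 w (Subgroup.mem_zpowers w)⟩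
  · rintro ⟨h1, h2⟩
    refine ⟨h1, ?_⟩
    rintro _ ⟨k, rfl⟩
    have : Commute x w := h2
    exact (this.zpow_right k).eq

theorem AA_ab (hc : CC S p u) {w : Ω} (hw : w ∈ S) (hwZ : w ∉ Zc S) : Ab S (AA S w) := by
  refine ⟨inf_le_left, fun z hz => mem_AA.2 ⟨hc.zle hz, ((mem_Zc.1 hz).2 w hw).symm⟩, ?_, ⟨w, mem_AA.2 ⟨hw, rfl⟩, hwZ⟩⟩
  intro x hx y hy
  rw [mem_AA] at hx hy
  obtain ⟨i, hi⟩ := hc.cen w hw hwZ x hx.1 hx.2
  -- `x = z w^{-i}`
  have h1 := (mem_Zc.1 hi).2 y hy.1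
  have h2 : Commute y w := hy.2
  have h3 := (h2.zpow_right i).eq
  have h4 : y * x * w ^ i = x * y * w ^ i := by
    calc y * x * w ^ i = y * (x * w ^ i) := by group
      _ = x * w ^ i * y := h1
      _ = x * (w ^ i * y) := by group
      _ = x * (y * w ^ i) := by rw [h3]
      _ = _ := by group
  exact (mul_right_cancel h4).symm

theorem extC (hc : CC S p u) [Finite S] [Fact p.Prime] (hS : IsPGroup p S) {F : FusionSystem S} (hF : F.IsSaturated p)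
    {w z : Ω} (h : Cj F w z) (hz : z ∈ Zc S) : ∃ g, FMap F (AA S w) g ∧ g w = z := by
  obtain ⟨f, hf, rfl⟩ := h
  have hfc : F.IsFullyCentralized (img (Subgroup.zpowers w) f) := by
    refine ⟨hf.img_le, fun Q hQ => ?_⟩
    have : centralizerIn S (img (Subgroup.zpowers w) f) = S := by
      apply le_antisymm inf_le_left
      intro x hx
      rw [img_zpowers hf]
      exact mem_AA.2 ⟨hx, (mem_Zc.1 hz).2 x hx⟩
    rw [this]
    exact card_le_of_le inf_le_left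
  obtain ⟨g, hg, hgf⟩ := Receptive.exists_extend_centralizer (Saturated.receptive_of_fullyCentralized hS hF hfc) hf rfl
  exact ⟨g, hg.restrict le_sup_right, hgf w (Subgroup.mem_zpowers w)⟩

theorem K1 (hc : CC S p u) [Finite S] [Fact p.Prime] (hS : IsPGroup p S) {F : FusionSystem S} (hF : F.IsSaturated p)
    (hne : ∃ s ∈ S, s ∉ Zc S) {z : Ω} (h : Cj F u z) (hz : z ∈ Zc S) : ∃ k : ℤ, z = u ^ k := by
  obtain ⟨g, hg, hgu⟩ := extC hc hS hF h hz
  obtain ⟨s, hs, hsZ⟩ := hne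
  obtain ⟨t, ht, hts⟩ := hc.ex s hs hsZ
  have hAA : ∀ x ∈ S, x ∈ AA S u := fun x hx => mem_AA.2 ⟨hx, hc.ucom hx⟩
  have h1 : t * s * t⁻¹ * s⁻¹ = u := by rw [hts, hc.ucom hs]; group
  have h2 := hc.comm (g t) (hg.mapsTo (hAA t ht)) (g s) (hg.mapsTo (hAA s hs))
  obtain ⟨k, hk⟩ := h2
  refine ⟨k, ?_⟩
  have hk' : u ^ k = g t * g s * (g t)⁻¹ * (g s)⁻¹ := hk
  rw [hk', ← hgu]
  have m1 := hAA t ht
  have m2 := hAA s hs
  have m3 := (AA S u).inv_mem m1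
  have m4 := (AA S u).inv_mem m2
  have m5 := (AA S u).mul_mem m1 m2
  have m6 := (AA S u).mul_mem m5 m3
  have h3 := congrArg g h1
  rw [hg.map_mul m6 m4, hg.map_mul m5 m3, hg.map_mul m1 m2, hg.map_inv m1, hg.map_inv m2] at h3
  rw [h3]

theorem zpow_eq_gen (hc : CC S p u) [Fact p.Prime] {w : Ω} {k : ℤ} (hw : w ^ p = 1) (h : u = w ^ k) : ∃ m : ℤ, w = u ^ m := by
  have hw1 : w ≠ 1 := by rintro rfl; rw [one_zpow] at h; exact hc.hu1 h
  have h1 : Nat.card (Subgroup.zpowers w) = p := by rw [Nat.card_zpowers, orderOf_eq_prime hw hw1]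
  have h2 : Nat.card (Subgroup.zpowers u) = p := by rw [Nat.card_zpowers, orderOf_eq_prime hc.hup hc.hu1]
  have hfin : Finite (Subgroup.zpowers w) := Nat.finite_of_card_ne_zero (by rw [h1]; exact (Fact.out : p.Prime).ne_zero)
  have h3 : Subgroup.zpowers u = Subgroup.zpowers w := by
    apply eq_of_le_card
    · rw [Subgroup.zpowers_le, h]; exact ⟨k, rfl⟩
    · rw [h1, h2]
  have h4 : w ∈ Subgroup.zpowers u := by rw [h3]; exact Subgroup.mem_zpowers w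
  obtain ⟨m, hm⟩ := h4
  exact ⟨m, hm.symm⟩

theorem Cj.pow_p (hc : CC S p u) {F : FusionSystem S} {w : Ω} (h : Cj F u w) : w ^ p = 1 := by
  obtain ⟨f, hf, rfl⟩ := h
  rw [← hf.map_pow (Subgroup.mem_zpowers u), hc.hup, hf.map_one]

theorem K2 (hc : CC S p u) [Finite S] [Fact p.Prime] (hS : IsPGroup p S) {F : FusionSystem S} (hF : F.IsSaturated p)
    {w : Ω} (hwZ : w ∉ Zc S) (h : Cj F u w) : ∃ g, FMap F (AA S w) g ∧ g w = u ∧ g u ∉ Zc S := by
  have hw := h.right_mem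
  obtain ⟨g, hg, hgw⟩ := extC hc hS hF h.symm hc.huS
  refine ⟨g, hg, hgw, fun hcon => hwZ ?_⟩
  have huA : u ∈ AA S w := mem_AA.2 ⟨hc.zle hc.huS, (hc.ucom hw).symm⟩
  have hwA : w ∈ AA S w := mem_AA.2 ⟨hw, rfl⟩
  obtain ⟨k, hk⟩ := K1 hc hS hF ⟨w, hw, hwZ⟩ (Cj.of_map hg huA) hcon
  have h1 : u = w ^ k := by
    apply hg.inj huA ((AA S w).zpow_mem hwA k)
    rw [hk, hg.map_zpow hwA, hgw]
  obtain ⟨m, hm⟩ := zpow_eq_gen hc (h.pow_p hc) h1
  rw [hm]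
  exact hc.zu ⟨m, rfl⟩

/-- `S`-conjugates -/
theorem Cj.mul_u (hc : CC S p u) {F : FusionSystem S} {w : Ω} (hwZ : w ∉ Zc S) (h : Cj F u w) (i : ℤ) :
    Cj F u (w * u ^ i) := by
  have hw := h.right_mem
  obtain ⟨t, ht, htw⟩ := hc.ex w hw hwZ
  have h1 : ∀ n : ℕ, t ^ n * w * (t ^ n)⁻¹ = w * u ^ n := by
    intro n
    induction n with
    | zero => simp
    | succ n ih =>
      have h2 : t * u ^ n * t⁻¹ = u ^ n := by
        have : Commute t u := hc.ucom ht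
        rw [(this.pow_right n).eq, mul_assoc, mul_inv_cancel, mul_one]
      calc t ^ (n + 1) * w * (t ^ (n + 1))⁻¹ = t * (t ^ n * w * (t ^ n)⁻¹) * t⁻¹ := by rw [pow_succ']; group
        _ = (t * w * t⁻¹) * (t * u ^ n * t⁻¹) := by rw [ih]; group
        _ = w * u ^ (n + 1) := by rw [htw, h2, mul_assoc, ← pow_succ']
  have h3 : t ^ i * w * (t ^ i)⁻¹ = w * u ^ i := by
    rcases Int.eq_nat_or_neg i with ⟨n, rfl | rfl⟩
    · rw [zpow_natCast, zpow_natCast]; exact h1 n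
    · have h4 := h1 n
      have h5 : Commute (t ^ n) (u ^ n) := by
        have : Commute t u := hc.ucom ht
        exact this.pow_pow n n
      rw [zpow_neg, zpow_neg, zpow_natCast, zpow_natCast, inv_inv]
      have h6 : w * u ^ n = t ^ n * w * (t ^ n)⁻¹ := h4.symm
      have h7 : w = t ^ n * (w * (u ^ n)⁻¹) * (t ^ n)⁻¹ := by
        have h8 : (t ^ n)⁻¹ * (u ^ n)⁻¹ = (u ^ n)⁻¹ * (t ^ n)⁻¹ := by rw [← mul_inv_rev, ← mul_inv_rev, h5.eq]
        calc w = w * u ^ n * (u ^ n)⁻¹ := by group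
          _ = t ^ n * w * ((t ^ n)⁻¹ * (u ^ n)⁻¹) := by rw [h6]; group
          _ = t ^ n * w * ((u ^ n)⁻¹ * (t ^ n)⁻¹) := by rw [h8]
          _ = _ := by group
      calc (t ^ n)⁻¹ * w * t ^ n = (t ^ n)⁻¹ * (t ^ n * (w * (u ^ n)⁻¹) * (t ^ n)⁻¹) * t ^ n := by rw [← h7]
        _ = w * (u ^ n)⁻¹ := by group
  have h4 := Cj.of_map (F := F) (FMap.conj (F := F) (P := S) le_rfl (S.zpow_mem ht i)) hw
  have h5 : Cj F w (t ^ i * w * (t ^ i)⁻¹) := h4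
  rw [h3] at h5
  exact h.trans h5

/-- `p`-th powers of central elements are not generators of `⟨u⟩` -/
theorem K3 (hc : CC S p u) [Finite S] [Fact p.Prime] (hS : IsPGroup p S) {F : FusionSystem S} (hF : F.IsSaturated p)
    {w : Ω} (hwZ : w ∉ Zc S) (h : Cj F u w) {z : Ω} (hz : z ∈ Zc S) : z ^ p ≠ u := by
  intro hzp
  obtain ⟨g, hg, hgw, hgu⟩ := K2 hc hS hF hwZ h
  apply hgu
  have hzA : z ∈ AA S w := mem_AA.2 ⟨hc.zle hz, ((mem_Zc.1 hz).2 w h.right_mem).symm⟩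
  rw [← hzp, hg.map_pow hzA]
  exact hc.pw _ (hg.mapsTo hzA)

theorem K4 (hc : CC S p u) [Finite S] [Fact p.Prime] (hS : IsPGroup p S) {F : FusionSystem S} (hF : F.IsSaturated p)
    {w w' : Ω} (hwZ : w ∉ Zc S) (h : Cj F u w) (hwZ' : w' ∉ Zc S) (h' : Cj F u w') (hww : w' * w = w * w') :
    ∃ i j : ℤ, w' = u ^ i * w ^ j := by
  obtain ⟨g, hg, hgw, hgu⟩ := K2 hc hS hF hwZ h
  have hw := h.right_mem
  have hw' := h'.right_mem
  have huA : u ∈ AA S w := mem_AA.2 ⟨hc.zle hc.huS, (hc.ucom hw).symm⟩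
  have hwA : w ∈ AA S w := mem_AA.2 ⟨hw, rfl⟩
  have hwA' : w' ∈ AA S w := mem_AA.2 ⟨hw', hww⟩
  have h1 : g w' * g u = g u * g w' := by rw [← hg.map_mul hwA' huA, ← hg.map_mul huA hwA', hc.ucom hw']
  obtain ⟨i, hi⟩ := hc.cen (g u) (hg.mapsTo huA) hgu (g w') (hg.mapsTo hwA') h1
  have h2 : g w' * g u ^ i = g (w' * u ^ i) := by
    rw [hg.map_mul hwA' ((AA S w).zpow_mem huA i), hg.map_zpow huA]
  rw [h2] at hi
  have h3 := (h'.mul_u hc hwZ' i).trans (Cj.of_map hg ((AA S w).mul_mem hwA' ((AA S w).zpow_mem huA i)))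
  obtain ⟨k, hk⟩ := K1 hc hS hF ⟨w, hw, hwZ⟩ h3 hi
  have h4 : w' * u ^ i = w ^ k := by
    apply hg.inj ((AA S w).mul_mem hwA' ((AA S w).zpow_mem huA i)) ((AA S w).zpow_mem hwA k)
    rw [hk, hg.map_zpow hwA, hgw]
  refine ⟨-i, k, ?_⟩
  have h5 : Commute w u := hc.ucom hw
  have h6 := ((h5.zpow_left k).zpow_right (-i)).eq
  rw [← h6, ← h4]; group

end CfsgLib.H9Zx
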