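import Cfsg.Agent.Lib.H9Zx3

/-!
Fusion systems over `p`-groups with centre of index `p²` (3): essential subgroups.
-/
set_option autoImplicit false
set_option maxHeartbeats 400000

namespace CfsgLib.H9Zx

open Cfsg Cfsg.FusionSystem CfsgLib.SylowIn CfsgLib.Fusion

variable {Ω : Type*} [Group Ω] {S : Subgroup Ω} {p : ℕ} {u : Ω}

theorem ess_ne [Finite S] [Fact p.Prime] (hS : IsPGroup p S) {F : FusionSystem S} (hF : F.IsSaturated p)
    (hE : F.IsEssential p S) : False := by
  obtain ⟨-, hfn, hN, E, hE⟩ := hE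
  obtain ⟨⟨-, R, hR⟩, -⟩ := Saturated.of_fullyNormalized hS hF hfn
  have h1 : (R : Subgroup (F.autGroup S)) ≤ (Inn S).subgroupOf (F.autGroup S) := by
    rw [hR]
    intro α hα
    obtain ⟨g, hg, hgx⟩ := mem_autInducedBy_iff.1 (show (α : MulAut S) ∈ autInducedBy S S from hα)
    refine ⟨⟨g, hg⟩, ?_⟩
    ext x
    exact (hgx x).symm
  have h2 := hE.1
  have h3 : ((Inn S).subgroupOf (F.autGroup S)).index ∣ (R : Subgroup (F.autGroup S)).index := Subgroup.index_dvd_of_le h1
  exact R.not_dvd_index (h2.trans h3)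

theorem ess_ab (hc : CC S p u) (hne : ∃ s ∈ S, s ∉ Zc S) [Finite S] [Fact p.Prime] (hS : IsPGroup p S) {F : FusionSystem S}
    (hF : F.IsSaturated p) {E : Subgroup Ω} (hE : F.IsEssential p E) : Ab S E := by
  have hES : E ≤ S := hE.1.1
  have hC := hE.1.2 E (isConj_refl hES)
  have hzle : Zc S ≤ E := by
    intro z hz
    apply hC
    rw [mem_centralizerIn]
    exact ⟨hz.1, fun y hy => ((mem_Zc.1 hz).2 y (hES hy)).symm⟩
  have hneS : E ≠ S := by
    rintro rfl
    exact ess_ne hS hF hE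
  refine ⟨hES, hzle, ?_, ?_⟩
  · intro x hx y hy
    by_contra hcon
    apply hneS
    apply le_antisymm hES
    intro s hs
    obtain ⟨i, j, z, hz, rfl⟩ := hc.gen x (hES hx) y (hES hy) hcon s hs
    exact E.mul_mem (E.mul_mem (E.zpow_mem hx i) (E.zpow_mem hy j)) (hzle hz)
  · by_contra hcon
    push Not at hcon
    obtain ⟨s, hs, hsZ⟩ := hne
    apply hsZ
    apply hcon
    apply hC
    rw [mem_centralizerIn]
    exact ⟨hs, fun y hy => (mem_Zc.1 (hcon y hy)).2 s hs⟩

theorem ess_map (hc : CC S p u) (hne : ∃ s ∈ S, s ∉ Zc S) [Finite S] [Fact p.Prime] (hS : IsPGroup p S) {F : FusionSystem S}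
    (hF : F.IsSaturated p) {E : Subgroup Ω} (hE : F.IsEssential p E) :
    ∃ f, FMap F E f ∧ img E f = E ∧ f u ∉ Zc S := by
  have hA := ess_ab hc hne hS hF hE
  have h1 := Hgen_ne_of_essential hS hF hE
  have h2 : Hgen F E < F.autGroup E := lt_of_le_of_ne Hgen_le_autGroup h1
  obtain ⟨α, hα, hαH⟩ := SetLike.exists_of_lt h2
  have hαm := (mem_autGroup_iff' hA.le α).1 hα
  have hEf : Finite E := finite_of_le hA.le
  refine ⟨aext α, hαm, hαm.img_eq_of_mapsTo fun x hx => aext_mem α hx, fun hcon => hαH ?_⟩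
  have huE : u ∈ E := hA.zle hc.huS
  obtain ⟨k, hk⟩ := K1 hc hS hF hne (Cj.of_map hαm huE) hcon
  obtain ⟨g, hg, hgx⟩ := ext_of_fix hc hS hF hA hαm hk
  have hlt : E < S := by
    refine lt_of_le_of_ne hA.le ?_
    rintro rfl
    exact ess_ne hS hF hE
  exact mem_Hgen_of hlt hg fun x => by rw [hgx x x.2, aext_apply]

theorem two (hc : CC S p u) (hne : ∃ s ∈ S, s ∉ Zc S) [Finite S] [Fact p.Prime] (hS : IsPGroup p S) {F : FusionSystem S}
    (hF : F.IsSaturated p) (hcore : F.core = ⊥) : ∃ w₁ w₂, Cj F u w₁ ∧ Cj F u w₂ ∧ w₁ * w₂ ≠ w₂ * w₁ := by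
  by_contra hcon
  push Not at hcon
  set V := Subgroup.closure {w | Cj F u w} with hV
  have hVS : V ≤ S := by
    rw [hV, Subgroup.closure_le]
    intro w hw
    exact Cj.right_mem hw
  have hn : F.IsNormal V := by
    apply isNormal_of_essential hS hF
    intro P hP
    have hVP : V ≤ P := by
      rcases hP with rfl | hP
      · exact hVS
      · have hA := ess_ab hc hne hS hF hP
        obtain ⟨f, hf, hfE, hfu⟩ := ess_map hc hne hS hF hP
        have huE : u ∈ P := hA.zle hc.huS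
        have h0 := Cj.of_map hf huE
        have hfP : f u ∈ P := by
          have := apply_mem_img (f := f) huE
          rwa [hfE] at this
        rw [hV, Subgroup.closure_le]
        intro w hw
        exact hA.mem_of_commute hc hfP hfu (Cj.right_mem hw) (hcon w (f u) hw h0)
    refine ⟨hVP, fun α hα x hx hxV => ?_⟩
    have hPS : P ≤ S := by
      rcases hP with rfl | hP
      · exact le_rfl
      · exact hP.1.1
    have hαm := (mem_autGroup_iff' hPS α).1 hα
    rw [← aext_of_mem α hx]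
    have : ∀ y ∈ V, aext α y ∈ V := by
      intro y hy
      have hy2 := hy
      rw [hV] at hy2
      induction hy2 using Subgroup.closure_induction with
      | mem y hy' =>
        exact Subgroup.subset_closure (Cj.trans hy' (Cj.of_map hαm (hVP hy)))
      | one => rw [hαm.map_one]; exact V.one_mem
      | mul a b ha hb iha ihb =>
        have ha' : a ∈ V := ha
        have hb' : b ∈ V := hb
        rw [hαm.map_mul (hVP ha') (hVP hb')]
        exact V.mul_mem (iha ha') (ihb hb')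
      | inv a ha iha =>
        have ha' : a ∈ V := ha
        rw [hαm.map_inv (hVP ha')]
        exact V.inv_mem (iha ha')
    exact this x hxV
  have h1 := IsNormal.le_core hn
  rw [hcore] at h1
  exact hc.hu1 (Subgroup.mem_bot.1 (h1 (Subgroup.subset_closure (Cj.refl F (hc.zle hc.huS)))))

theorem Cj_notin (hc : CC S p u) [Finite S] [Fact p.Prime] (hS : IsPGroup p S) {F : FusionSystem S}
    {w w' : Ω} (h : Cj F u w) (h' : Cj F u w') (hww : w * w' ≠ w' * w) : w ∉ Zc S ∧ w' ∉ Zc S :=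
  ⟨fun hZ => hww ((mem_Zc.1 hZ).2 w' h'.right_mem).symm, fun hZ => hww ((mem_Zc.1 hZ).2 w h.right_mem)⟩

theorem pprime (hc : CC S p u) [Finite S] [hp : Fact p.Prime] (hS : IsPGroup p S) {F : FusionSystem S} (hF : F.IsSaturated p)
    {g : Ω → Ω} (hg : FMap F S g) :
    ∃ n : ℕ, ¬ p ∣ n ∧ ∀ z ∈ Zc S, g^[n] z = z := by
  obtain ⟨γ, hγ, hγx⟩ := hg.exists_aut_of_mapsTo fun x hx => hg.mapsTo hx
  have hfn : F.IsFullyNormalized S := ⟨le_rfl, fun Q hQ => by
    have hNS : normalizerIn S S = S := inf_eq_left.2 Subgroup.le_normalizer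
    rw [hNS]; exact card_le_of_le inf_le_left⟩
  obtain ⟨⟨-, R, hR⟩, -⟩ := Saturated.of_fullyNormalized hS hF hfn
  have hRn : (R : Subgroup (F.autGroup S)).Normal := by
    have h1 : (R : Subgroup (F.autGroup S)) = (Inn S).subgroupOf (F.autGroup S) := by
      rw [hR]
      ext α
      constructor
      · intro hα
        obtain ⟨g, hg, hgx⟩ := mem_autInducedBy_iff.1 (show (α : MulAut S) ∈ autInducedBy S S from hα)
        refine ⟨⟨g, hg⟩, ?_⟩
        ext x
        exact (hgx x).symm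
      · intro hα
        exact inn_le_autInducedBy le_rfl hα
    rw [h1]
    exact inn_normal_autGroup F S
  obtain ⟨n, hn, h1⟩ : ∃ n : ℕ, ¬ p ∣ n ∧ (⟨γ, hγ⟩ : F.autGroup S) ^ n ∈ (R : Subgroup (F.autGroup S)) :=
    ⟨_, R.not_dvd_index, Subgroup.pow_index_mem (R : Subgroup (F.autGroup S)) (⟨γ, hγ⟩ : F.autGroup S)⟩
  refine ⟨n, hn, fun z hz => ?_⟩
  rw [hR] at h1
  obtain ⟨s, hs, hsx⟩ := mem_autInducedBy_iff.1 (show ((⟨γ, hγ⟩ ^ n : F.autGroup S) :
    MulAut S) ∈ autInducedBy S S from h1)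
  have h2 : ∀ m : ℕ, ∀ x : S, ((γ ^ m) x : Ω) = g^[m] x := by
    intro m
    induction m with
    | zero => intro x; rfl
    | succ m ih =>
      intro x
      rw [Function.iterate_succ_apply, pow_succ]
      show ((γ ^ m) (γ x) : Ω) = _
      rw [ih (γ x), hγx]
  have h3 := hsx ⟨z, hc.zle hz⟩
  have h4 : (((γ ^ n) ⟨z, hc.zle hz⟩ : S) : Ω) = s * z * s⁻¹ := h3
  rw [h2] at h4
  rw [h4, (mem_Zc.1 hz).2 s hs, mul_assoc, mul_inv_cancel, mul_one]

end CfsgLib.H9Zx
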