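import Cfsg.Agent.Lib.H9Zx4

/-!
Fusion systems over `p`-groups with centre of index `p²` (4): odd `p`.
-/
set_option autoImplicit false
set_option maxHeartbeats 400000

namespace CfsgLib.H9Zx

open Cfsg Cfsg.FusionSystem CfsgLib.SylowIn CfsgLib.Fusion

variable {Ω : Type*} [Group Ω] {S : Subgroup Ω} {p : ℕ} {u : Ω}

theorem CC.dvd_of_zpow (hc : CC S p u) [hp : Fact p.Prime] {k : ℤ} (h : u ^ k = 1) : (p : ℤ) ∣ k := by
  have h1 : orderOf u = p := orderOf_eq_prime hc.hup hc.hu1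
  rw [← h1]
  exact orderOf_dvd_iff_zpow_eq_one.2 h

theorem CC.zpow_of_dvd (hc : CC S p u) {k : ℤ} (h : (p : ℤ) ∣ k) : u ^ k = 1 := by
  obtain ⟨m, rfl⟩ := h
  rw [zpow_mul, zpow_natCast, hc.hup, one_zpow]

theorem fix_of (hc : CC S p u) [Finite S] [hp : Fact p.Prime] (hS : IsPGroup p S) {F : FusionSystem S} (hF : F.IsSaturated p)
    {g : Ω → Ω} (hg : FMap F S g) (hgu : g u = u) (hz : ∀ z ∈ Zc S, ∃ k : ℤ, g z = z * u ^ k) :
    ∀ z ∈ Zc S, g z = z := by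
  obtain ⟨n, hn, hgn⟩ := pprime hc hS hF hg
  intro z hzZ
  obtain ⟨k, hk⟩ := hz z hzZ
  have huS := hc.zle hc.huS
  have h1 : ∀ m : ℕ, g^[m] z = z * u ^ (k * m) := by
    intro m
    induction m with
    | zero => simp
    | succ m ih =>
      rw [Function.iterate_succ_apply', ih, hg.map_mul (hc.zle hzZ) (S.zpow_mem huS _), hg.map_zpow huS, hgu, hk,
        mul_assoc, ← zpow_add]
      congr 2
      push_cast
      ring
  have h2 := h1 n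
  rw [hgn z hzZ] at h2
  have h3 : u ^ (k * n) = 1 := (left_eq_mul.1 h2)
  have h4 := hc.dvd_of_zpow h3
  have h5 : (p : ℤ) ∣ k := by
    rcases (Nat.prime_iff_prime_int.1 hp.out).dvd_or_dvd h4 with h | h
    · exact h
    · exact absurd (Int.natCast_dvd_natCast.1 h) hn
  rw [hk, hc.zpow_of_dvd h5, mul_one]

theorem exists_t (hc : CC S p u) [Finite S] [hp : Fact p.Prime] (hS : IsPGroup p S) {F : FusionSystem S} (hF : F.IsSaturated p)
    {E : Subgroup Ω} (hE : Ab S E) {f f' : Ω → Ω} (hf : FMap F E f) (hf' : FMap F E f') (hfE : ∀ x ∈ E, f x ∈ E)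
    (hfE' : ∀ x ∈ E, f' x ∈ E) (h1 : ∀ x ∈ E, f' (f x) = x) (h2 : ∀ x ∈ E, f (f' x) = x) (hfu : f u ∉ Zc S) :
    ∃ t, FMap F S t ∧ t u = u⁻¹ ∧ (∀ z ∈ Zc S, ∃ m : ℤ, t z = z * u ^ (2 * m) ∧ ∃ y ∈ Zc S, f y = z * u ^ m) ∧
      ∀ z ∈ Zc S, (∃ y ∈ Zc S, f y = z) → t z = z := by
  have huE : u ∈ E := hE.zle hc.huS
  have hne : ∃ s ∈ S, s ∉ Zc S := by
    obtain ⟨w, hw, hwZ⟩ := hE.ne
    exact ⟨w, hE.le hw, hwZ⟩
  set w := f u with hw
  have hwE : w ∈ E := hfE u huE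
  have hwS := hE.le hwE
  set x0 := f' u with hx0
  have hx0E : x0 ∈ E := hfE' u huE
  have hCw : Cj F u w := Cj.of_map hf huE
  have hCx : Cj F u x0 := Cj.of_map hf' huE
  have hx0Z : x0 ∉ Zc S := by
    intro hcon
    obtain ⟨k, hk⟩ := K1 hc hS hF hne hCx hcon
    have h3 : u = w ^ k := by
      have h4 : f x0 = u := h2 u huE
      rw [← h4, hk, hf.map_zpow huE]
    obtain ⟨m, hm⟩ := zpow_eq_gen hc (hCw.pow_p hc) h3
    apply hfu
    rw [hm]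
    exact hc.zu ⟨m, rfl⟩
  obtain ⟨s1, hs1, hs1w⟩ := hc.ex w hwS hfu
  obtain ⟨s2, hs2, hs2x⟩ := hc.ex x0 (hE.le hx0E) hx0Z
  have hs2i : s2⁻¹ ∈ S := S.inv_mem hs2
  have hs2x' : s2⁻¹ * x0 * s2⁻¹⁻¹ = x0 * u⁻¹ := by
    have h3 : x0 = s2⁻¹ * x0 * s2 * u := by
      calc x0 = s2⁻¹ * (s2 * x0 * s2⁻¹) * s2 := by group
        _ = s2⁻¹ * (x0 * u) * s2 := by rw [hs2x]
        _ = s2⁻¹ * x0 * (u * s2) := by group
        _ = s2⁻¹ * x0 * (s2 * u) := by rw [← hc.ucom hs2]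
        _ = _ := by group
    calc s2⁻¹ * x0 * s2⁻¹⁻¹ = (s2⁻¹ * x0 * s2 * u) * u⁻¹ := by group
      _ = x0 * u⁻¹ := by rw [← h3]
  have hconju : ∀ s ∈ S, s * u * s⁻¹ = u := by
    intro s hs
    rw [hc.ucom hs, mul_assoc, mul_inv_cancel, mul_one]
  -- τ₁, τ₂
  set τ₁ : Ω → Ω := fun x => s1 * x * s1⁻¹ with hτ₁
  set τ₂ : Ω → Ω := fun x => f (s2⁻¹ * f' x * s2⁻¹⁻¹) with hτ₂
  have m1 : FMap F E τ₁ := FMap.conj hE.le hs1
  have c1 : ∀ x ∈ E, τ₁ x ∈ E := fun x hx => hE.conj_mem hc hs1 hx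
  have m2 : FMap F E τ₂ := (hf'.comp (FMap.conj hE.le hs2i) hfE').comp hf (fun x hx => hE.conj_mem hc hs2i (hfE' x hx))
  have c2 : ∀ x ∈ E, τ₂ x ∈ E := fun x hx => hfE _ (hE.conj_mem hc hs2i (hfE' x hx))
  set ω : Ω → Ω := fun x => τ₁ (τ₂ (τ₁ x)) with hω
  have m3 : FMap F E ω := (m1.comp m2 c1).comp m1 (fun x hx => c2 _ (c1 x hx))
  have c3 : ∀ x ∈ E, ω x ∈ E := fun x hx => c1 _ (c2 _ (c1 x hx))
  have e1 : τ₁ u = u := hconju s1 hs1
  have e2 : τ₁ w = w * u := hs1w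
  have e3 : τ₂ u = u * w⁻¹ := by
    show f (s2⁻¹ * x0 * s2⁻¹⁻¹) = _
    rw [hs2x', hf.map_mul hx0E (E.inv_mem huE), hf.map_inv huE, h2 u huE]
  have e4 : τ₂ w = w := by
    show f (s2⁻¹ * f' (f u) * s2⁻¹⁻¹) = _
    rw [h1 u huE, hconju _ hs2i]
  have hwi := E.inv_mem hwE
  have huw : u * w = w * u := hE.comm u huE w hwE
  have e5 : ω u = w⁻¹ := by
    show τ₁ (τ₂ (τ₁ u)) = _
    rw [e1, e3, m1.map_mul huE hwi, m1.map_inv hwE, e1, e2, mul_inv_rev, mul_inv_cancel_left]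
  have e6 : ω w = u := by
    show τ₁ (τ₂ (τ₁ w)) = _
    rw [e2, m2.map_mul hwE huE, e3, e4, ← mul_assoc, ← huw, mul_assoc, mul_inv_cancel, mul_one, e1]
  set t0 : Ω → Ω := fun x => ω (ω x) with ht0
  have m4 : FMap F E t0 := m3.comp m3 c3
  have e7 : t0 u = u⁻¹ := by
    show ω (ω u) = _
    rw [e5, m3.map_inv hwE, e6]
  have e8 : ∀ z ∈ Zc S, f' z ∈ Zc S → t0 z = z := by
    intro z hz hz'
    have i1 : τ₁ z = z := by
      show s1 * z * s1⁻¹ = z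
      rw [(mem_Zc.1 hz).2 s1 hs1, mul_assoc, mul_inv_cancel, mul_one]
    have i2 : τ₂ z = z := by
      show f (s2⁻¹ * f' z * s2⁻¹⁻¹) = z
      rw [(mem_Zc.1 hz').2 _ hs2i, mul_assoc, mul_inv_cancel, mul_one, h2 z (hE.zle hz)]
    have i3 : ω z = z := by
      show τ₁ (τ₂ (τ₁ z)) = z
      rw [i1, i2, i1]
    show ω (ω z) = z
    rw [i3, i3]
  have e9 : ∀ z ∈ Zc S, ∃ m : ℤ, t0 z = z * u ^ (2 * m) ∧ ∃ y ∈ Zc S, f y = z * u ^ m := by
    intro z hz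
    have hzE := hE.zle hz
    obtain ⟨m, hm⟩ := hc.conj hs2i (hE.le (hfE' z hzE))
    have i1 : τ₂ z = z * w ^ m := by
      show f (s2⁻¹ * f' z * s2⁻¹⁻¹) = _
      rw [hm, hf.map_mul (hfE' z hzE) (E.zpow_mem huE m), hf.map_zpow huE, h2 z hzE]
    set z' := z * u ^ m with hz'
    have hz'Z : z' ∈ Zc S := (Zc S).mul_mem hz ((Zc S).zpow_mem hc.huS m)
    have hz'E := hE.zle hz'Z
    have i2 : τ₂ z' = z' := by
      rw [hz', m2.map_mul hzE (E.zpow_mem huE m), m2.map_zpow huE, e3, i1]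
      have hcm : Commute u w⁻¹ := (show Commute u w from huw).inv_right
      rw [hcm.mul_zpow, mul_assoc, ← mul_assoc (w ^ m)]
      have hcm2 : Commute (w ^ m) (u ^ m) := ((show Commute w u from huw.symm).zpow_left m).zpow_right m
      rw [hcm2.eq, mul_assoc, inv_zpow, mul_inv_cancel, mul_one]
    have i3 : f' z' ∈ Zc S := by
      by_contra hcon
      have h3 : s2⁻¹ * f' z' * s2⁻¹⁻¹ = f' z' := by
        apply hf.inj (hE.conj_mem hc hs2i (hfE' z' hz'E)) (hfE' z' hz'E)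
        rw [h2 z' hz'E]
        exact i2
      have h4 : s2⁻¹ * f' z' = f' z' * s2⁻¹ := by
        rwa [mul_inv_eq_iff_eq_mul] at h3
      have h5 := hE.mem_of_commute hc (hfE' z' hz'E) hcon hs2i h4
      have h6 := hE.comm s2⁻¹ h5 x0 hx0E
      rw [h6, mul_assoc, mul_inv_cancel, mul_one] at hs2x'
      apply hc.hu1
      have := left_eq_mul.1 hs2x'
      exact inv_eq_one.1 this
    refine ⟨m, ?_, f' z', i3, h2 z' hz'E⟩
    have i4 : z = z' * u ^ (-m) := by rw [hz']; group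
    have i5 : t0 z = t0 z' * (t0 u) ^ (-m) := by
      conv_lhs => rw [i4]
      rw [m4.map_mul hz'E (E.zpow_mem huE _), m4.map_zpow huE]
    rw [i5, e8 z' hz'Z i3, e7, hz']
    rw [inv_zpow, ← zpow_neg, neg_neg, mul_assoc, ← zpow_add, ← two_mul]
  obtain ⟨t, ht, htx⟩ := ext_of_fix hc hS hF hE m4 (k := -1) (by rw [e7, zpow_neg_one])
  refine ⟨t, ht, by rw [htx u huE, e7], fun z hz => ?_, ?_⟩
  · rw [htx z (hE.zle hz)]
    exact e9 z hz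
  · rintro z hz ⟨y, hy, rfl⟩
    rw [htx _ (hE.zle hz)]
    apply e8 _ hz
    rw [h1 y (hE.zle hy)]
    exact hy

end CfsgLib.H9Zx
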