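import Cfsg.Agent.Lib.H9Zx5

/-!
Fusion systems over `p`-groups with centre of index `p²` (5): odd `p`, the centre.
-/
set_option autoImplicit false
set_option maxHeartbeats 400000

namespace CfsgLib.H9Zx

open Cfsg Cfsg.FusionSystem CfsgLib.SylowIn CfsgLib.Fusion

variable {Ω : Type*} [Group Ω] {S : Subgroup Ω} {p : ℕ} {u : Ω}

theorem exists_ess (hc : CC S p u) [Finite S] [Fact p.Prime] (hS : IsPGroup p S) {F : FusionSystem S}
    (hF : F.IsSaturated p) (hcore : F.core = ⊥) : ∃ E, F.IsEssential p E := by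
  by_contra hcon
  push Not at hcon
  have hn : F.IsNormal S := by
    apply isNormal_of_essential hS hF
    intro P hP
    rcases hP with rfl | hP
    · exact ⟨le_rfl, fun α _ x hx _ => (α ⟨x, hx⟩).2⟩
    · exact absurd hP (hcon P)
  have h1 := IsNormal.le_core hn
  rw [hcore] at h1
  exact hc.hu1 (Subgroup.mem_bot.1 (h1 (hc.zle hc.huS)))

/-- inverse of an automorphism -/
theorem exists_inv_aut {F : FusionSystem S} {E : Subgroup Ω} {f : Ω → Ω} (hf : FMap F E f) (hfE : img E f = E) :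
    ∃ f', FMap F E f' ∧ (∀ x ∈ E, f x ∈ E) ∧ (∀ x ∈ E, f' x ∈ E) ∧ (∀ x ∈ E, f' (f x) = x) ∧ (∀ x ∈ E, f (f' x) = x) := by
  obtain ⟨f', hf', h1, h2⟩ := hf.exists_inv
  rw [hfE] at hf' h2
  refine ⟨f', hf', fun x hx => ?_, fun x hx => (h2 x hx).1, h1, fun x hx => (h2 x hx).2⟩
  have := apply_mem_img (f := f) hx
  rwa [hfE] at this

theorem zmap (hc : CC S p u) [Finite S] {F : FusionSystem S} {g : Ω → Ω} (hg : FMap F S g) {z : Ω} (hz : z ∈ Zc S) : g z ∈ Zc S := by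
  rw [mem_Zc]
  refine ⟨hg.mapsTo (hc.zle hz), fun y hy => ?_⟩
  have himg : img S g = S := hg.img_eq_of_mapsTo fun x hx => hg.mapsTo hx
  rw [← himg] at hy
  obtain ⟨w, hw, rfl⟩ := hg.mem_img.1 hy
  rw [← hg.map_mul hw (hc.zle hz), ← hg.map_mul (hc.zle hz) hw, (mem_Zc.1 hz).2 w hw]

theorem odd_center (hc : CC S p u) (hne : ∃ s ∈ S, s ∉ Zc S) [Finite S] [hp : Fact p.Prime] (hS : IsPGroup p S)
    {F : FusionSystem S} (hF : F.IsSaturated p) (hcore : F.core = ⊥) (hp2 : p ≠ 2) : Zc S ≤ Subgroup.zpowers u := by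
  have huS := hc.zle hc.huS
  have htwo : ∀ k : ℤ, u ^ (2 * k) = 1 → u ^ k = 1 := by
    intro k hk
    have h1 := hc.dvd_of_zpow hk
    apply hc.zpow_of_dvd
    rcases (Nat.prime_iff_prime_int.1 hp.out).dvd_or_dvd h1 with h | h
    · exfalso
      have h2 : p ∣ 2 := by exact_mod_cast h
      exact hp2 ((Nat.prime_dvd_prime_iff_eq hp.out Nat.prime_two).1 h2)
    · exact h
  obtain ⟨E₀, hE₀⟩ := exists_ess hc hS hF hcore
  obtain ⟨f₀, hf₀, hf₀E, hf₀u⟩ := ess_map hc hne hS hF hE₀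
  obtain ⟨f₀', k1, k2, k3, k4, k5⟩ := exists_inv_aut hf₀ hf₀E
  obtain ⟨t, ht, htu, htz, -⟩ := exists_t hc hS hF (ess_ab hc hne hS hF hE₀) hf₀ k1 k2 k3 k4 k5 hf₀u
  -- agreement
  have hagree : ∀ t', FMap F S t' → t' u = u⁻¹ → (∀ z ∈ Zc S, ∃ m : ℤ, t' z = z * u ^ m) → ∀ z ∈ Zc S, t' z = t z := by
    intro t' ht' htu' htz' z hz
    have h1 : ∀ r, FMap F S r → r u = u⁻¹ → (∀ z ∈ Zc S, ∃ m : ℤ, r z = z * u ^ m) → ∀ z ∈ Zc S, t (r z) = z := by
      intro r hr hru hrz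
      apply fix_of hc hS hF (g := fun x => t (r x)) (hr.comp ht fun x hx => hr.mapsTo hx)
      · show t (r u) = u
        rw [hru, ht.map_inv huS, htu, inv_inv]
      · intro z hz
        obtain ⟨m, hm⟩ := hrz z hz
        obtain ⟨m', hm', -⟩ := htz z hz
        refine ⟨2 * m' - m, ?_⟩
        show t (r z) = _
        rw [hm, ht.map_mul (hc.zle hz) (S.zpow_mem huS m), ht.map_zpow huS, htu, hm', inv_zpow, mul_assoc, ← zpow_neg,
          ← zpow_add]
        rfl
    have h2 := h1 t' ht' htu' htz' z hz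
    have h3 := h1 t ht htu (fun z hz => by
      obtain ⟨m, hm, -⟩ := htz z hz
      exact ⟨_, hm⟩) z hz
    exact ht.inj (ht'.mapsTo (hc.zle hz)) (ht.mapsTo (hc.zle hz)) (h2.trans h3.symm)
  -- the normal subgroup
  let N : Subgroup Ω :=
    { carrier := {z | z ∈ Zc S ∧ t z = z}
      one_mem' := ⟨(Zc S).one_mem, ht.map_one⟩
      mul_mem' := by
        rintro a b ⟨h1, h2⟩ ⟨h3, h4⟩
        exact ⟨(Zc S).mul_mem h1 h3, by rw [ht.map_mul (hc.zle h1) (hc.zle h3), h2, h4]⟩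
      inv_mem' := by
        rintro a ⟨h1, h2⟩
        exact ⟨(Zc S).inv_mem h1, by rw [ht.map_inv (hc.zle h1), h2]⟩ }
  have hmemN : ∀ z, z ∈ N ↔ z ∈ Zc S ∧ t z = z := fun z => Iff.rfl
  have hNZ : N ≤ Zc S := fun z hz => hz.1
  -- invariance under `Aut_F(S)`
  have hNS : ∀ σ, FMap F S σ → ∀ z ∈ N, σ z ∈ N := by
    intro σ hσ z hz
    have himg : img S σ = S := hσ.img_eq_of_mapsTo fun x hx => hσ.mapsTo hx
    obtain ⟨σ', hσ', j1, j2, j3, j4⟩ := exists_inv_aut hσ himg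
    have hσz := zmap hc hσ hz.1
    obtain ⟨k, hk⟩ := K1 hc hS hF hne (Cj.of_map hσ' huS) (zmap hc hσ' hc.huS)
    obtain ⟨k', hk'⟩ := K1 hc hS hF hne (Cj.of_map hσ huS) (zmap hc hσ hc.huS)
    have h1 := hagree (fun x => σ (t (σ' x))) ((hσ'.comp ht fun x hx => hσ'.mapsTo hx).comp hσ
      fun x hx => ht.mapsTo (hσ'.mapsTo hx)) (by
      show σ (t (σ' u)) = u⁻¹
      rw [hk, ht.map_zpow huS, htu, inv_zpow, hσ.map_inv (S.zpow_mem huS k), ← hk, j4 u huS]) (by
      intro y hy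
      obtain ⟨m, hm, -⟩ := htz (σ' y) (zmap hc hσ' hy)
      refine ⟨k' * (2 * m), ?_⟩
      show σ (t (σ' y)) = _
      rw [hm, hσ.map_mul (hσ'.mapsTo (hc.zle hy)) (S.zpow_mem huS _), hσ.map_zpow huS, hk', j4 y (hc.zle hy), ← zpow_mul])
      (σ z) hσz
    refine ⟨hσz, ?_⟩
    rw [← h1]
    show σ (t (σ' (σ z))) = σ z
    rw [j3 z (hc.zle hz.1), hz.2]
  have hn : F.IsNormal N := by
    apply isNormal_of_essential hS hF
    intro P hP
    have hNP : N ≤ P := by
      rcases hP with rfl | hP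
      · exact hNZ.trans hc.zle
      · exact hNZ.trans (ess_ab hc hne hS hF hP).zle
    have hPS : P ≤ S := by
      rcases hP with rfl | hP
      · exact le_rfl
      · exact hP.1.1
    refine ⟨hNP, fun α hα x hx hxN => ?_⟩
    have hαm := (mem_autGroup_iff' hPS α).1 hα
    rw [← aext_of_mem α hx]
    rcases hP with rfl | hP
    · exact hNS _ hαm x hxN
    · have hA := ess_ab hc hne hS hF hP
      have huP : u ∈ P := hA.zle hc.huS
      have hPf : Finite P := finite_of_le hPS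
      have hαP : img P (aext α) = P := hαm.img_eq_of_mapsTo fun x hx => aext_mem α hx
      by_cases hαu : aext α u ∈ Zc S
      · obtain ⟨k, hk⟩ := K1 hc hS hF hne (Cj.of_map hαm huP) hαu
        obtain ⟨g, hg, hgx⟩ := ext_of_fix hc hS hF hA hαm hk
        rw [← hgx x hx]
        exact hNS g hg x hxN
      · obtain ⟨β, hβ, q2, q3, q4, q5⟩ := exists_inv_aut hαm hαP
        have hβu : β u ∉ Zc S := by
          intro hcon
          obtain ⟨k, hk⟩ := K1 hc hS hF hne (Cj.of_map hβ huP) hcon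
          have h3 : u = (aext α u) ^ k := by
            calc u = aext α (β u) := (q5 u huP).symm
              _ = aext α (u ^ k) := by rw [hk]
              _ = (aext α u) ^ k := hαm.map_zpow huP k
          obtain ⟨m, hm⟩ := zpow_eq_gen hc ((Cj.of_map hαm huP).pow_p hc) h3
          apply hαu
          rw [hm]
          exact hc.zu ⟨m, rfl⟩
        obtain ⟨tβ, r1, r2, r3, -⟩ := exists_t hc hS hF hA hβ hαm q3 q2 q5 q4 hβu
        obtain ⟨tα, r1', r2', r3', r4'⟩ := exists_t hc hS hF hA hαm hβ q2 q3 q4 q5 hαu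
        have s1 := hagree tβ r1 r2 (fun z hz => by
          obtain ⟨m, hm, -⟩ := r3 z hz
          exact ⟨_, hm⟩)
        have s2 := hagree tα r1' r2' (fun z hz => by
          obtain ⟨m, hm, -⟩ := r3' z hz
          exact ⟨_, hm⟩)
        obtain ⟨m, hm, y, hy, hym⟩ := r3 x hxN.1
        rw [s1 x hxN.1, hxN.2] at hm
        have h5 : u ^ m = 1 := htwo m (left_eq_mul.1 hm)
        rw [h5, mul_one] at hym
        have h6 : aext α x = y := by rw [← hym, q5 y (hA.zle hy)]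
        have h7 : aext α x ∈ Zc S := by rw [h6]; exact hy
        refine ⟨h7, ?_⟩
        rw [← s2 _ h7]
        exact r4' _ h7 ⟨x, hxN.1, rfl⟩
  have h1 := IsNormal.le_core hn
  rw [hcore] at h1
  intro z hz
  obtain ⟨m, hm, -⟩ := htz z hz
  have h2 : z * u ^ m ∈ N := by
    refine ⟨(Zc S).mul_mem hz ((Zc S).zpow_mem hc.huS m), ?_⟩
    rw [ht.map_mul (hc.zle hz) (S.zpow_mem huS m), ht.map_zpow huS, htu, hm, inv_zpow, mul_assoc, ← zpow_neg, ← zpow_add]
    congr 2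
    ring
  have h3 := Subgroup.mem_bot.1 (h1 h2)
  refine ⟨-m, ?_⟩
  show u ^ (-m) = z
  rw [zpow_neg]
  exact (eq_inv_of_mul_eq_one_left h3).symm

end CfsgLib.H9Zx
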