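import Cfsg.Agent.Lib.H9Zx6

/-!
Fusion systems over `2`-groups with centre of index `4` (1).
-/
set_option autoImplicit false
set_option maxHeartbeats 400000

namespace CfsgLib.H9Zx

open Cfsg Cfsg.FusionSystem CfsgLib.SylowIn CfsgLib.Fusion

variable {Ω : Type*} [Group Ω] {S : Subgroup Ω} {u : Ω}

theorem zpow_par {a : Ω} (ha : a ^ 2 = 1) (i : ℤ) : a ^ i = 1 ∨ a ^ i = a := by
  rcases Int.even_or_odd' i with ⟨k, rfl | rfl⟩
  · left; rw [zpow_mul, zpow_ofNat, ha, one_zpow]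
  · right; rw [zpow_add, zpow_mul, zpow_ofNat, ha, one_zpow, one_mul, zpow_one]

/-- the elements of the centre that stay central under maps of `C_S(w)` -/
def CW (F : FusionSystem S) (w : Ω) : Set Ω := {z | z ∈ Zc S ∧ ∀ f, FMap F (AA S w) f → f z ∈ Zc S}

theorem L1 (hc : CC S 2 u) [Finite S] (hS : IsPGroup 2 S) {F : FusionSystem S} (hF : F.IsSaturated 2)
    {w w' : Ω} (hwZ : w ∉ Zc S) (h : Cj F u w) (h' : Cj F u w') (hww : w' * w = w * w') :
    w' = u ∨ w' = w ∨ w' = w * u := by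
  have : Fact (Nat.Prime 2) := ⟨Nat.prime_two⟩
  have hw := h.right_mem
  have hw1 : w' ≠ 1 := by
    obtain ⟨f, hf, rfl⟩ := h'
    intro hcon
    apply hc.hu1
    apply hf.inj (Subgroup.mem_zpowers u) (Subgroup.one_mem _)
    rw [hcon, hf.map_one]
  by_cases hZ' : w' ∈ Zc S
  · obtain ⟨k, hk⟩ := K1 hc hS hF ⟨w, hw, hwZ⟩ h' hZ'
    rcases zpow_par hc.hup k with h1 | h1
    · rw [h1] at hk; exact absurd hk hw1
    · rw [h1] at hk; exact Or.inl hk
  · obtain ⟨i, j, hij⟩ := K4 hc hS hF hwZ h hZ' h' hww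
    have hw2 := h.pow_p hc
    rcases zpow_par hc.hup i with h1 | h1 <;> rcases zpow_par hw2 j with h2 | h2 <;> rw [h1, h2] at hij
    · exact absurd (by rw [hij, mul_one]) hw1
    · right; left; rw [hij, one_mul]
    · left; rw [hij, mul_one]
    · right; right; rw [hij, hc.ucom hw]

theorem Cj.ne_one (hc : CC S 2 u) {F : FusionSystem S} {w : Ω} (h : Cj F u w) : w ≠ 1 := by
  obtain ⟨f, hf, rfl⟩ := h
  intro hcon
  apply hc.hu1
  apply hf.inj (Subgroup.mem_zpowers u) (Subgroup.one_mem _)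
  rw [hcon, hf.map_one]

theorem Cj.eq_u (hc : CC S 2 u) [Finite S] (hS : IsPGroup 2 S) {F : FusionSystem S} (hF : F.IsSaturated 2)
    (hne : ∃ s ∈ S, s ∉ Zc S) {w : Ω} (h : Cj F u w) (hZ : w ∈ Zc S) : w = u := by
  have : Fact (Nat.Prime 2) := ⟨Nat.prime_two⟩
  obtain ⟨k, hk⟩ := K1 hc hS hF hne h hZ
  rcases zpow_par hc.hup k with h1 | h1
  · rw [h1] at hk; exact absurd hk (h.ne_one hc)
  · rw [h1] at hk; exact hk

theorem u_mem_AA (hc : CC S 2 u) {w : Ω} (hw : w ∈ S) : u ∈ AA S w := mem_AA.2 ⟨hc.zle hc.huS, (hc.ucom hw).symm⟩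

theorem z_mem_AA (hc : CC S 2 u) {w : Ω} (hw : w ∈ S) {z : Ω} (hz : z ∈ Zc S) : z ∈ AA S w :=
  mem_AA.2 ⟨hc.zle hz, ((mem_Zc.1 hz).2 w hw).symm⟩

theorem w_mem_AA {w : Ω} (hw : w ∈ S) : w ∈ AA S w := mem_AA.2 ⟨hw, rfl⟩

theorem L2 (hc : CC S 2 u) [Finite S] {F : FusionSystem S}
    {w : Ω} (hw : w ∈ S) {f : Ω → Ω} (hf : FMap F (AA S w) f) (hfu : f u ∉ Zc S)
    {z : Ω} (hz : z ∈ Zc S) : f z ∈ Zc S ∨ f (z * u) ∈ Zc S := by
  have hzA := z_mem_AA hc hw hz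
  have huA := u_mem_AA hc hw
  have h1 : f z * f u = f u * f z := by
    rw [← hf.map_mul hzA huA, ← hf.map_mul huA hzA, hc.ucom (hc.zle hz)]
  obtain ⟨i, hi⟩ := hc.cen (f u) (hf.mapsTo huA) hfu (f z) (hf.mapsTo hzA) h1
  have h2 : (f u) ^ 2 = 1 := by rw [← hf.map_pow huA, hc.hup, hf.map_one]
  rcases zpow_par h2 i with h3 | h3
  · left; rwa [h3, mul_one] at hi
  · right; rw [hf.map_mul hzA huA]; rwa [h3] at hi

theorem L3 (hc : CC S 2 u) [Finite S] (hS : IsPGroup 2 S) {F : FusionSystem S} (hF : F.IsSaturated 2)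
    {w : Ω} (hwZ : w ∉ Zc S) (h : Cj F u w) {f₀ : Ω → Ω} (hf₀ : FMap F (AA S w) f₀) (hf₀w : f₀ w = u)
    {z : Ω} (hz : z ∈ Zc S) (hfz : f₀ z ∈ Zc S) : z ∈ CW F w := by
  have : Fact (Nat.Prime 2) := ⟨Nat.prime_two⟩
  have hw := h.right_mem
  have hzA := z_mem_AA hc hw hz
  have huA := u_mem_AA hc hw
  have hwA := w_mem_AA hw
  have hA := AA_ab hc hw hwZ
  have hne : ∃ s ∈ S, s ∉ Zc S := ⟨w, hw, hwZ⟩
  -- maps sending `w` to `u`
  have hstep : ∀ f, FMap F (AA S w) f → f w = u → f z ∈ Zc S := by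
    intro f hf hfw
    obtain ⟨f₀', hf₀', k1, k2⟩ := hf₀.exists_inv
    have hB := hA.img hc hS hF hf₀
    have hψ := hf₀'.comp hf (fun x hx => (k2 x hx).1)
    have e1 : (fun x => f (f₀' x)) u = u ^ (1 : ℤ) := by
      show f (f₀' u) = _
      rw [← hf₀w, k1 w hwA, hfw, hf₀w, zpow_one]
    obtain ⟨g, hg, hgx⟩ := ext_of_fix hc hS hF hB hψ e1
    have h1 := zmap hc hg hfz
    rw [hgx _ (apply_mem_img hzA)] at h1
    have h2 : f (f₀' (f₀ z)) ∈ Zc S := h1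
    rwa [k1 z hzA] at h2
  refine ⟨hz, fun f hf => ?_⟩
  by_cases hfu : f u ∈ Zc S
  · obtain ⟨k, hk⟩ := K1 hc hS hF hne (Cj.of_map hf huA) hfu
    obtain ⟨g, hg, hgx⟩ := ext_of_fix hc hS hF hA hf hk
    rw [← hgx z hzA]
    exact zmap hc hg hz
  · have hcomm : f w * f u = f u * f w := by
      rw [← hf.map_mul hwA huA, ← hf.map_mul huA hwA, hc.ucom hw]
    rcases L1 hc hS hF hfu (Cj.of_map hf huA) (h.trans (Cj.of_map hf hwA)) hcomm with h1 | h1 | h1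
    · exact hstep f hf h1
    · exfalso
      apply hwZ
      have := hf.inj hwA huA h1
      rw [this]
      exact hc.huS
    · -- `f (w u) = u`
      obtain ⟨s, hs, hsw⟩ := hc.ex w hw hwZ
      have hm : FMap F (AA S w) (fun x => f (s * x * s⁻¹)) := (FMap.conj hA.le hs).comp hf
        (fun x hx => hA.conj_mem hc hs hx)
      have h2 := hstep _ hm (by
        show f (s * w * s⁻¹) = u
        have h3 : (f u) ^ 2 = 1 := by rw [← hf.map_pow huA, hc.hup, hf.map_one]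
        rw [hsw, hf.map_mul hwA huA, h1, hc.ucom (hf.mapsTo huA), mul_assoc, ← pow_two, h3, mul_one])
      have h3 : f (s * z * s⁻¹) ∈ Zc S := h2
      rwa [(mem_Zc.1 hz).2 s hs, mul_assoc, mul_inv_cancel, mul_one] at h3

/-- classification of the conjugates of `u` -/
theorem L4 (hc : CC S 2 u) [Finite S] (hS : IsPGroup 2 S) {F : FusionSystem S} (hF : F.IsSaturated 2)
    {w₁ w₂ : Ω} (h1 : Cj F u w₁) (h2 : Cj F u w₂) (h12 : w₁ * w₂ ≠ w₂ * w₁) {w : Ω} (h : Cj F u w) (hwZ : w ∉ Zc S) :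
    (w = w₁ ∨ w = w₁ * u) ∨ (w = w₂ ∨ w = w₂ * u) := by
  have : Fact (Nat.Prime 2) := ⟨Nat.prime_two⟩
  obtain ⟨hZ1, hZ2⟩ := Cj_notin hc hS h1 h2 h12
  have hwu : w ≠ u := fun hh => hwZ (by rw [hh]; exact hc.huS)
  by_cases c1 : w * w₁ = w₁ * w
  · rcases L1 hc hS hF hZ1 h1 h c1 with h3 | h3 | h3
    · exact absurd h3 hwu
    · exact Or.inl (Or.inl h3)
    · exact Or.inl (Or.inr h3)
  by_cases c2 : w * w₂ = w₂ * w
  · rcases L1 hc hS hF hZ2 h2 h c2 with h3 | h3 | h3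
    · exact absurd h3 hwu
    · exact Or.inr (Or.inl h3)
    · exact Or.inr (Or.inr h3)
  exfalso
  have s1 := h1.right_mem
  have s2 := h2.right_mem
  have p1 := h1.pow_p hc
  have p2 := h2.pow_p hc
  have pw := h.pow_p hc
  obtain ⟨i, j, z, hz, hw⟩ := hc.gen w₁ s1 w₂ s2 h12 w h.right_mem
  have hzc : ∀ x ∈ S, x * z = z * x := (mem_Zc.1 hz).2
  rcases zpow_par p1 i with q1 | q1 <;> rcases zpow_par p2 j with q2 | q2 <;> rw [q1, q2] at hw
  · apply c1; rw [hw, one_mul, one_mul, hzc w₁ s1]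
  · apply c2; rw [hw, one_mul, mul_assoc, ← hzc w₂ s2]
  · apply c1; rw [hw, mul_one, mul_assoc, ← hzc w₁ s1]
  · -- `w = w₁ w₂ z`
    obtain ⟨k, hk⟩ := hc.comm w₂ s2 w₁ s1
    have hk' : u ^ k = w₂ * w₁ * w₂⁻¹ * w₁⁻¹ := hk
    have h3 : w₂ * w₁ = u ^ k * (w₁ * w₂) := by rw [hk']; group
    rcases zpow_par hc.hup k with q | q <;> rw [q] at h3
    · apply h12; rw [h3, one_mul]
    · apply K3 hc hS hF hZ1 h1 hz
      have hu2 : u * u = 1 := by rw [← pow_two]; exact hc.hup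
      have e1 : w₁ * w₂ * (w₁ * w₂) = u := by
        calc w₁ * w₂ * (w₁ * w₂) = w₁ * (w₂ * w₁) * w₂ := by group
          _ = w₁ * (u * (w₁ * w₂)) * w₂ := by rw [h3]
          _ = (w₁ * u) * w₁ * w₂ * w₂ := by group
          _ = (u * w₁) * w₁ * w₂ * w₂ := by rw [hc.ucom s1]
          _ = u * w₁ ^ 2 * w₂ ^ 2 := by rw [pow_two, pow_two]; group
          _ = u := by rw [p1, p2, mul_one, mul_one]
      have e2 : w ^ 2 = u * z ^ 2 := by
        rw [hw, pow_two, pow_two]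
        calc w₁ * w₂ * z * (w₁ * w₂ * z) = w₁ * w₂ * (z * (w₁ * w₂)) * z := by group
          _ = w₁ * w₂ * ((w₁ * w₂) * z) * z := by rw [hzc _ (S.mul_mem s1 s2)]
          _ = (w₁ * w₂ * (w₁ * w₂)) * (z * z) := by group
          _ = _ := by rw [e1]
      rw [pw] at e2
      calc z ^ 2 = (u * u) * z ^ 2 := by rw [hu2, one_mul]
        _ = u * (u * z ^ 2) := by group
        _ = u := by rw [← e2, mul_one]

end CfsgLib.H9Zx
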