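import Cfsg.Agent.Lib.H9Zx7
import Cfsg.Agent.Lib.H9FT

/-!
Fusion systems over `2`-groups with centre of index `4` (2).
-/
set_option autoImplicit false
set_option maxHeartbeats 400000

namespace CfsgLib.H9Zx

open Cfsg Cfsg.FusionSystem CfsgLib.SylowIn CfsgLib.Fusion

variable {Ω : Type*} [Group Ω] {S : Subgroup Ω} {u : Ω}

theorem CW_one (hc : CC S 2 u) {F : FusionSystem S} (w : Ω) : (1 : Ω) ∈ CW F w :=
  ⟨(Zc S).one_mem, fun f hf => by rw [hf.map_one]; exact (Zc S).one_mem⟩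

theorem CW_mul (hc : CC S 2 u) {F : FusionSystem S} {w : Ω} (hw : w ∈ S) {a b : Ω} (ha : a ∈ CW F w) (hb : b ∈ CW F w) :
    a * b ∈ CW F w :=
  ⟨(Zc S).mul_mem ha.1 hb.1, fun f hf => by
    rw [hf.map_mul (z_mem_AA hc hw ha.1) (z_mem_AA hc hw hb.1)]
    exact (Zc S).mul_mem (ha.2 f hf) (hb.2 f hf)⟩

theorem CW_inv (hc : CC S 2 u) {F : FusionSystem S} {w : Ω} (hw : w ∈ S) {a : Ω} (ha : a ∈ CW F w) : a⁻¹ ∈ CW F w :=
  ⟨(Zc S).inv_mem ha.1, fun f hf => by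
    rw [hf.map_inv (z_mem_AA hc hw ha.1)]
    exact (Zc S).inv_mem (ha.2 f hf)⟩

theorem AA_mul_u (hc : CC S 2 u) {w : Ω} : AA S (w * u) = AA S w := by
  ext x
  rw [mem_AA, mem_AA]
  constructor
  · rintro ⟨h1, h2⟩
    refine ⟨h1, ?_⟩
    have h3 := hc.ucom h1
    apply mul_right_cancel (b := u)
    rw [mul_assoc, h2, mul_assoc w u x, ← h3, mul_assoc]
  · rintro ⟨h1, h2⟩
    refine ⟨h1, ?_⟩
    have h3 := hc.ucom h1
    rw [← mul_assoc, h2, mul_assoc, h3, mul_assoc]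

/-- the data for `p = 2` -/
structure DD (F : FusionSystem S) (u w₁ w₂ : Ω) : Prop where
  cc : CC S 2 u
  pg : IsPGroup 2 S
  sat : F.IsSaturated 2
  h1 : Cj F u w₁
  h2 : Cj F u w₂
  h12 : w₁ * w₂ ≠ w₂ * w₁

variable {F : FusionSystem S} {w₁ w₂ : Ω}

theorem DD.z1 [Finite S] (d : DD F u w₁ w₂) : w₁ ∉ Zc S := by
  have : Fact (Nat.Prime 2) := ⟨Nat.prime_two⟩
  exact (Cj_notin d.cc d.pg d.h1 d.h2 d.h12).1

theorem DD.z2 [Finite S] (d : DD F u w₁ w₂) : w₂ ∉ Zc S := by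
  have : Fact (Nat.Prime 2) := ⟨Nat.prime_two⟩
  exact (Cj_notin d.cc d.pg d.h1 d.h2 d.h12).2

theorem DD.ne [Finite S] (d : DD F u w₁ w₂) : ∃ s ∈ S, s ∉ Zc S := ⟨w₁, d.h1.right_mem, d.z1⟩

theorem DD.swap (d : DD F u w₁ w₂) : DD F u w₂ w₁ := ⟨d.cc, d.pg, d.sat, d.h2, d.h1, fun h => d.h12 h.symm⟩

theorem DD.AA_cases [Finite S] (d : DD F u w₁ w₂) {w : Ω} (h : Cj F u w) (hZ : w ∉ Zc S) :
    AA S w = AA S w₁ ∨ AA S w = AA S w₂ := by
  rcases L4 d.cc d.pg d.sat d.h1 d.h2 d.h12 h hZ with (rfl | rfl) | (rfl | rfl)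
  · exact Or.inl rfl
  · exact Or.inl (AA_mul_u d.cc)
  · exact Or.inr rfl
  · exact Or.inr (AA_mul_u d.cc)

/-- automorphisms of `S` preserve `CW w₁ ∩ CW w₂` -/
theorem DD.inv_S [Finite S] (d : DD F u w₁ w₂) {σ : Ω → Ω} (hσ : FMap F S σ) {z : Ω} (hz1 : z ∈ CW F w₁) (hz2 : z ∈ CW F w₂)
    {w : Ω} (h : Cj F u w) (hZ : w ∉ Zc S) : σ z ∈ CW F w := by
  refine ⟨zmap d.cc hσ hz1.1, fun f hf => ?_⟩
  have himg : img S σ = S := hσ.img_eq_of_mapsTo fun x hx => hσ.mapsTo hx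
  obtain ⟨σ', hσ', j1, j2, j3, j4⟩ := exists_inv_aut hσ himg
  have hw := h.right_mem
  have h3 : Cj F u (σ' w) := h.trans (Cj.of_map hσ' hw)
  have h4 : σ' w ∉ Zc S := fun hcon => hZ (by
    have := zmap d.cc hσ hcon
    rwa [j4 w hw] at this)
  have h5 : FMap F (AA S (σ' w)) (fun x => f (σ x)) := by
    refine (hσ.restrict inf_le_left).comp hf fun x hx => ?_
    replace hx := mem_AA.1 (show x ∈ AA S (σ' w) from hx)
    rw [mem_AA]
    refine ⟨hσ.mapsTo hx.1, ?_⟩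
    have h6 := congrArg σ hx.2
    rwa [hσ.map_mul hx.1 (hσ'.mapsTo hw), hσ.map_mul (hσ'.mapsTo hw) hx.1, j4 w hw] at h6
  rcases d.AA_cases h3 h4 with h6 | h6
  · rw [h6] at h5
    exact hz1.2 _ h5
  · rw [h6] at h5
    exact hz2.2 _ h5

theorem DD.ess [Finite S] (d : DD F u w₁ w₂) {P : Subgroup Ω} (hP : F.IsEssential 2 P) : P = AA S w₁ ∨ P = AA S w₂ := by
  have : Fact (Nat.Prime 2) := ⟨Nat.prime_two⟩
  have hA := ess_ab d.cc d.ne d.pg d.sat hP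
  obtain ⟨f, hf, hfP, hfu⟩ := ess_map d.cc d.ne d.pg d.sat hP
  have huP : u ∈ P := hA.zle d.cc.huS
  have hfuP : f u ∈ P := by
    have := apply_mem_img (f := f) huP
    rwa [hfP] at this
  have h1 : P = AA S (f u) := by
    apply le_antisymm
    · intro x hx
      exact mem_AA.2 ⟨hA.le hx, hA.comm x hx _ hfuP⟩
    · intro x hx
      rw [mem_AA] at hx
      exact hA.mem_of_commute d.cc hfuP hfu hx.1 hx.2
  rw [h1]
  exact d.AA_cases (Cj.of_map hf huP) hfu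

theorem DD.inter [Finite S] (d : DD F u w₁ w₂) (hcore : F.core = ⊥) {z : Ω} (hz1 : z ∈ CW F w₁) (hz2 : z ∈ CW F w₂) : z = 1 := by
  have : Fact (Nat.Prime 2) := ⟨Nat.prime_two⟩
  have s1 := d.h1.right_mem
  have s2 := d.h2.right_mem
  let N : Subgroup Ω :=
    { carrier := {z | z ∈ CW F w₁ ∧ z ∈ CW F w₂}
      one_mem' := ⟨CW_one d.cc _, CW_one d.cc _⟩
      mul_mem' := fun ha hb => ⟨CW_mul d.cc s1 ha.1 hb.1, CW_mul d.cc s2 ha.2 hb.2⟩
      inv_mem' := fun ha => ⟨CW_inv d.cc s1 ha.1, CW_inv d.cc s2 ha.2⟩ }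
  have hNZ : N ≤ Zc S := fun z hz => hz.1.1
  have hNS : ∀ σ, FMap F S σ → ∀ z ∈ N, σ z ∈ N := fun σ hσ z hz =>
    ⟨d.inv_S hσ hz.1 hz.2 d.h1 d.z1, d.inv_S hσ hz.1 hz.2 d.h2 d.z2⟩
  have hn : F.IsNormal N := by
    apply isNormal_of_essential d.pg d.sat
    intro P hP
    have hNP : N ≤ P := by
      rcases hP with rfl | hP
      · exact hNZ.trans d.cc.zle
      · exact hNZ.trans (ess_ab d.cc d.ne d.pg d.sat hP).zle
    have hPS : P ≤ S := by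
      rcases hP with rfl | hP
      · exact le_rfl
      · exact hP.1.1
    refine ⟨hNP, fun α hα x hx hxN => ?_⟩
    have hαm := (mem_autGroup_iff' hPS α).1 hα
    rw [← aext_of_mem α hx]
    rcases hP with rfl | hP
    · exact hNS _ hαm x hxN
    · have h3 : aext α x ∈ Zc S := by
        rcases d.ess hP with h4 | h4
        · exact hxN.1.2 _ (by rw [← h4]; exact hαm)
        · exact hxN.2.2 _ (by rw [← h4]; exact hαm)
      obtain ⟨g, hg, hgx⟩ := extC d.cc d.pg d.sat (Cj.of_map hαm hx) h3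
      have h4 : AA S x = S := by
        apply le_antisymm inf_le_left
        intro y hy
        exact mem_AA.2 ⟨hy, (mem_Zc.1 hxN.1.1).2 y hy⟩
      rw [h4] at hg
      rw [← hgx]
      exact hNS g hg x hxN
  have h1 := IsNormal.le_core hn
  rw [hcore] at h1
  exact Subgroup.mem_bot.1 (h1 ⟨hz1, hz2⟩)

theorem DD.u_notin [Finite S] (d : DD F u w₁ w₂) : u ∉ CW F w₁ := by
  have : Fact (Nat.Prime 2) := ⟨Nat.prime_two⟩
  obtain ⟨g, hg, hgw, hgu⟩ := K2 d.cc d.pg d.sat d.z1 d.h1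
  exact fun h => hgu (h.2 g hg)

theorem DD.index [Finite S] (d : DD F u w₁ w₂) {z : Ω} (hz : z ∈ Zc S) : z ∈ CW F w₁ ∨ z * u ∈ CW F w₁ := by
  have : Fact (Nat.Prime 2) := ⟨Nat.prime_two⟩
  obtain ⟨g, hg, hgw, hgu⟩ := K2 d.cc d.pg d.sat d.z1 d.h1
  rcases L2 d.cc d.h1.right_mem hg hgu hz with h | h
  · exact Or.inl (L3 d.cc d.pg d.sat d.z1 d.h1 hg hgw hz h)
  · exact Or.inr (L3 d.cc d.pg d.sat d.z1 d.h1 hg hgw ((Zc S).mul_mem hz d.cc.huS) h)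

end CfsgLib.H9Zx
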