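import Cfsg.Agent.Lib.H9Zx8

/-!
Fusion systems over `2`-groups with centre of index `4` (3).
-/
set_option autoImplicit false
set_option maxHeartbeats 400000

namespace CfsgLib.H9Zx

open Cfsg Cfsg.FusionSystem CfsgLib.SylowIn CfsgLib.Fusion

variable {Ω : Type*} [Group Ω] {S : Subgroup Ω} {u : Ω} {F : FusionSystem S} {w₁ w₂ : Ω}

theorem DD.comm21 (d : DD F u w₁ w₂) {a b : Ω} (ha : a ∈ S) (hb : b ∈ S) : b * a = a * b ∨ b * a = a * b * u := by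
  obtain ⟨k, hk⟩ := d.cc.comm b hb a ha
  have hk' : u ^ k = b * a * b⁻¹ * a⁻¹ := hk
  have h3 : b * a = u ^ k * (a * b) := by rw [hk']; group
  rcases zpow_par d.cc.hup k with q | q <;> rw [q] at h3
  · left; rw [h3, one_mul]
  · right; rw [h3, d.cc.ucom (S.mul_mem ha hb)]

/-- the subgroup generated by `u`, `w₁`, `w₂` -/
def D0 (d : DD F u w₁ w₂) : Subgroup Ω where
  carrier := {x | ∃ i j k : ℤ, x = u ^ i * w₁ ^ j * w₂ ^ k}
  one_mem' := ⟨0, 0, 0, by simp⟩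
  mul_mem' := by
    rintro _ _ ⟨i, j, k, rfl⟩ ⟨i', j', k', rfl⟩
    have s1 := d.h1.right_mem
    have s2 := d.h2.right_mem
    have hu : ∀ x ∈ S, ∀ m : ℤ, x * u ^ m = u ^ m * x := by
      intro x hx m
      have : Commute x u := d.cc.ucom hx
      exact (this.zpow_right m).eq
    have hcc : ∃ m : ℤ, w₂ ^ k * w₁ ^ j' = u ^ m * (w₁ ^ j' * w₂ ^ k) := by
      obtain ⟨m, hm⟩ := d.cc.comm (w₂ ^ k) (S.zpow_mem s2 k) (w₁ ^ j') (S.zpow_mem s1 j')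
      have hm' : u ^ m = w₂ ^ k * w₁ ^ j' * (w₂ ^ k)⁻¹ * (w₁ ^ j')⁻¹ := hm
      exact ⟨m, by rw [hm']; group⟩
    obtain ⟨m, hm⟩ := hcc
    refine ⟨i + i' + m, j + j', k + k', ?_⟩
    have a1 := S.zpow_mem s1 j
    have a2 := S.zpow_mem s2 k
    calc u ^ i * w₁ ^ j * w₂ ^ k * (u ^ i' * w₁ ^ j' * w₂ ^ k')
        = u ^ i * ((w₁ ^ j * w₂ ^ k) * u ^ i') * w₁ ^ j' * w₂ ^ k' := by group
      _ = u ^ i * (u ^ i' * (w₁ ^ j * w₂ ^ k)) * w₁ ^ j' * w₂ ^ k' := by rw [hu _ (S.mul_mem a1 a2)]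
      _ = u ^ i * u ^ i' * w₁ ^ j * (w₂ ^ k * w₁ ^ j') * w₂ ^ k' := by group
      _ = u ^ i * u ^ i' * (w₁ ^ j * u ^ m) * (w₁ ^ j' * w₂ ^ k) * w₂ ^ k' := by rw [hm]; group
      _ = u ^ i * u ^ i' * (u ^ m * w₁ ^ j) * (w₁ ^ j' * w₂ ^ k) * w₂ ^ k' := by rw [hu _ a1]
      _ = _ := by rw [zpow_add, zpow_add, zpow_add, zpow_add]; group
  inv_mem' := by
    rintro _ ⟨i, j, k, rfl⟩
    have s1 := d.h1.right_mem
    have s2 := d.h2.right_mem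
    have hu : ∀ x ∈ S, ∀ m : ℤ, x * u ^ m = u ^ m * x := by
      intro x hx m
      have : Commute x u := d.cc.ucom hx
      exact (this.zpow_right m).eq
    obtain ⟨m, hm⟩ := d.cc.comm (w₂ ^ (-k)) (S.zpow_mem s2 _) (w₁ ^ (-j)) (S.zpow_mem s1 _)
    have hm' : u ^ m = w₂ ^ (-k) * w₁ ^ (-j) * (w₂ ^ (-k))⁻¹ * (w₁ ^ (-j))⁻¹ := hm
    have hm'' : w₂ ^ (-k) * w₁ ^ (-j) = u ^ m * (w₁ ^ (-j) * w₂ ^ (-k)) := by rw [hm']; group
    refine ⟨-i + m, -j, -k, ?_⟩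
    calc (u ^ i * w₁ ^ j * w₂ ^ k)⁻¹ = (w₂ ^ (-k) * w₁ ^ (-j)) * u ^ (-i) := by group
      _ = u ^ (-i) * (w₂ ^ (-k) * w₁ ^ (-j)) := hu _ (S.mul_mem (S.zpow_mem s2 _) (S.zpow_mem s1 _)) _
      _ = _ := by rw [hm'', zpow_add]; group

theorem mem_D0 {d : DD F u w₁ w₂} {x : Ω} : x ∈ D0 d ↔ ∃ i j k : ℤ, x = u ^ i * w₁ ^ j * w₂ ^ k := Iff.rfl

theorem D0_u (d : DD F u w₁ w₂) : u ∈ D0 d := ⟨1, 0, 0, by simp⟩
theorem D0_1 (d : DD F u w₁ w₂) : w₁ ∈ D0 d := ⟨0, 1, 0, by simp⟩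
theorem D0_2 (d : DD F u w₁ w₂) : w₂ ∈ D0 d := ⟨0, 0, 1, by simp⟩

theorem DD.not_mem_D0 [Finite S] (d : DD F u w₁ w₂) {c : Ω} (hc : c ∈ Zc S) (hcD : c ∈ D0 d) : c = 1 ∨ c = u := by
  have : Fact (Nat.Prime 2) := ⟨Nat.prime_two⟩
  obtain ⟨i, j, k, h⟩ := hcD
  have s1 := d.h1.right_mem
  have s2 := d.h2.right_mem
  have hui : u ^ i ∈ Zc S := (Zc S).zpow_mem d.cc.huS i
  have h' : w₁ ^ j * w₂ ^ k ∈ Zc S := by
    have : w₁ ^ j * w₂ ^ k = (u ^ i)⁻¹ * c := by rw [h]; group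
    rw [this]
    exact (Zc S).mul_mem ((Zc S).inv_mem hui) hc
  rcases zpow_par (d.h1.pow_p d.cc) j with q1 | q1 <;> rcases zpow_par (d.h2.pow_p d.cc) k with q2 | q2 <;>
    rw [q1, q2] at h h'
  · rw [mul_one, mul_one] at h
    rcases zpow_par d.cc.hup i with q | q <;> rw [q] at h
    · exact Or.inl h
    · exact Or.inr h
  · rw [one_mul] at h'; exact absurd h' d.z2
  · rw [mul_one] at h'; exact absurd h' d.z1
  · exfalso
    have h3 := (mem_Zc.1 h').2 w₁ s1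
    apply d.h12
    rw [mul_assoc] at h3
    exact mul_left_cancel h3

/-- automorphisms of `C_S(w₁)` move elements inside `D0` -/
theorem DD.autA [Finite S] (d : DD F u w₁ w₂) {c : Ω} (hc1 : c ∈ CW F w₁) (hall : ∀ z ∈ CW F w₁, z = 1 ∨ z = c)
    (hcne : c ≠ 1) {f : Ω → Ω} (hf : FMap F (AA S w₁) f) (hfA : ∀ x ∈ AA S w₁, f x ∈ AA S w₁) :
    ∀ x ∈ AA S w₁, x⁻¹ * f x ∈ D0 d := by
  have : Fact (Nat.Prime 2) := ⟨Nat.prime_two⟩
  have s1 := d.h1.right_mem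
  have hA := AA_ab d.cc s1 d.z1
  have huA := u_mem_AA d.cc s1
  have hwA := w_mem_AA s1
  let T : Subgroup Ω :=
    { carrier := {x | x ∈ AA S w₁ ∧ x⁻¹ * f x ∈ D0 d}
      one_mem' := ⟨(AA S w₁).one_mem, by rw [hf.map_one]; simp [(D0 d).one_mem]⟩
      mul_mem' := by
        rintro a b ⟨h1, h2⟩ ⟨h3, h4⟩
        refine ⟨(AA S w₁).mul_mem h1 h3, ?_⟩
        have e1 : (a * b)⁻¹ * f (a * b) = (a⁻¹ * f a) * (b⁻¹ * f b) := by
          rw [hf.map_mul h1 h3, mul_inv_rev]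
          have h5 := hA.comm b⁻¹ ((AA S w₁).inv_mem h3) (a⁻¹ * f a) ((AA S w₁).mul_mem ((AA S w₁).inv_mem h1) (hfA a h1))
          calc b⁻¹ * a⁻¹ * (f a * f b) = (b⁻¹ * (a⁻¹ * f a)) * f b := by group
            _ = ((a⁻¹ * f a) * b⁻¹) * f b := by rw [h5]
            _ = _ := by group
        rw [e1]
        exact (D0 d).mul_mem h2 h4
      inv_mem' := by
        rintro a ⟨h1, h2⟩
        refine ⟨(AA S w₁).inv_mem h1, ?_⟩
        have e1 : a⁻¹⁻¹ * f a⁻¹ = (a⁻¹ * f a)⁻¹ := by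
          rw [hf.map_inv h1]
          have h5 := hA.comm a h1 (f a)⁻¹ ((AA S w₁).inv_mem (hfA a h1))
          rw [inv_inv, h5]; group
        rw [e1]
        exact (D0 d).inv_mem h2 }
  have hT : ∀ x, x ∈ T ↔ x ∈ AA S w₁ ∧ x⁻¹ * f x ∈ D0 d := fun x => Iff.rfl
  have hcl : ∀ x ∈ AA S w₁, Cj F u (f x) → f x ∈ D0 d := by
    intro x hx h
    have h3 : f x * w₁ = w₁ * f x := hA.comm _ (hfA x hx) _ hwA
    rcases L1 d.cc d.pg d.sat d.z1 d.h1 h h3 with h4 | h4 | h4 <;> rw [h4]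
    · exact D0_u d
    · exact D0_1 d
    · exact (D0 d).mul_mem (D0_1 d) (D0_u d)
  have t1 : u ∈ T := ⟨huA, (D0 d).mul_mem ((D0 d).inv_mem (D0_u d)) (hcl u huA (Cj.of_map hf huA))⟩
  have t2 : w₁ ∈ T := ⟨hwA, (D0 d).mul_mem ((D0 d).inv_mem (D0_1 d)) (hcl w₁ hwA (d.h1.trans (Cj.of_map hf hwA)))⟩
  have hcA := z_mem_AA d.cc s1 hc1.1
  have t3 : c ∈ T := by
    refine ⟨hcA, ?_⟩
    have h3 : f c ∈ CW F w₁ := ⟨hc1.2 f hf, fun g hg => hc1.2 (fun x => g (f x)) (hf.comp hg hfA)⟩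
    rcases hall _ h3 with h4 | h4
    · exfalso
      apply hcne
      apply hf.inj hcA (AA S w₁).one_mem
      rw [h4, hf.map_one]
    · rw [h4, inv_mul_cancel]; exact (D0 d).one_mem
  have tz : ∀ z ∈ Zc S, z ∈ T := by
    intro z hz
    rcases d.index hz with h | h
    · rcases hall _ h with rfl | rfl
      · exact T.one_mem
      · exact t3
    · have e : z = z * u * u⁻¹ := by group
      rw [e]
      refine T.mul_mem ?_ (T.inv_mem t1)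
      rcases hall _ h with h4 | h4 <;> rw [h4]
      · exact T.one_mem
      · exact t3
  intro x hx
  have hx' := mem_AA.1 hx
  obtain ⟨i, hi⟩ := d.cc.cen w₁ s1 d.z1 x hx'.1 hx'.2
  have e : x = x * w₁ ^ i * w₁ ^ (-i) := by group
  have : x ∈ T := by
    rw [e]
    exact T.mul_mem (tz _ hi) (T.zpow_mem t2 _)
  exact this.2

theorem DD.autS1 [Finite S] (d : DD F u w₁ w₂) {c : Ω} (hc1 : c ∈ CW F w₁) (hc2 : c ∉ CW F w₂)
    {σ : Ω → Ω} (hσ : FMap F S σ) (hσc : σ c = c) : σ w₁ = w₁ ∨ σ w₁ = w₁ * u := by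
  have : Fact (Nat.Prime 2) := ⟨Nat.prime_two⟩
  have s1 := d.h1.right_mem
  have himg : img S σ = S := hσ.img_eq_of_mapsTo fun x hx => hσ.mapsTo hx
  obtain ⟨σ', hσ', j1, j2, j3, j4⟩ := exists_inv_aut hσ himg
  have h3 : Cj F u (σ w₁) := d.h1.trans (Cj.of_map hσ s1)
  have h4 : σ w₁ ∉ Zc S := fun hcon => d.z1 (by
    have := zmap d.cc hσ' hcon
    rwa [j3 _ s1] at this)
  have key : AA S (σ w₁) = AA S w₂ → False := by
    intro hAA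
    apply hc2
    refine ⟨hc1.1, fun f hf => ?_⟩
    rw [← hAA] at hf
    have h5 : FMap F (AA S w₁) (fun x => f (σ x)) := by
      refine (hσ.restrict inf_le_left).comp hf fun x hx => ?_
      replace hx := mem_AA.1 (show x ∈ AA S w₁ from hx)
      rw [mem_AA]
      refine ⟨hσ.mapsTo hx.1, ?_⟩
      rw [← hσ.map_mul hx.1 s1, hx.2, hσ.map_mul s1 hx.1]
    have h6 := hc1.2 _ h5
    have h7 : f (σ c) ∈ Zc S := h6
    rwa [hσc] at h7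
  rcases L4 d.cc d.pg d.sat d.h1 d.h2 d.h12 h3 h4 with h | (h | h)
  · exact h
  · exact absurd (by rw [h]) key
  · exact absurd (by rw [h, AA_mul_u d.cc]) key

end CfsgLib.H9Zx
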