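import Cfsg.Agent.Lib.Quad2

/-!
# Hermitian forms over finite fields I: the involution of the field
-/

namespace CfsgLib.Herm

open Module

set_option linter.unusedSimpArgs false
set_option linter.unusedSectionVars false

variable {F : Type*} [Field F]

/-- `σ` is the `q`-power map on a field with `q²` elements. -/
structure QConj (σ : F →+* F) (q : ℕ) : Prop where
  card : Nat.card F = q ^ 2
  pow : ∀ a, σ a = a ^ q

namespace QConj

variable {σ : F →+* F} {q : ℕ}

lemma two_le (hq : QConj σ q) : 2 ≤ q := by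
  by_contra h
  have h1 : q = 0 ∨ q = 1 := by omega
  rcases h1 with rfl | rfl
  · have := hq.pow 0
    rw [pow_zero, map_zero] at this
    exact zero_ne_one this
  · have h2 := hq.card
    rw [one_pow] at h2
    have : Finite F := (Nat.card_pos_iff.mp (by omega)).2
    have h3 := Finite.one_lt_card (α := F)
    omega

lemma pos (hq : QConj σ q) : 0 < q := by have := hq.two_le; omega

lemma finite (hq : QConj σ q) : Finite F := by
  have h := hq.card
  have h2 := hq.two_le
  exact (Nat.card_pos_iff.mp (by rw [h]; positivity)).2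

lemma invol (hq : QConj σ q) (a : F) : σ (σ a) = a := by
  have := hq.finite
  have := Fintype.ofFinite F
  rw [hq.pow, hq.pow, ← pow_mul, ← sq, ← hq.card, Nat.card_eq_fintype_card, FiniteField.pow_card]

lemma inj (hq : QConj σ q) {a b : F} (h : σ a = σ b) : a = b := σ.injective h

/-- Cardinality of the unit group. -/
lemma card_units (hq : QConj σ q) : Nat.card Fˣ = (q - 1) * (q + 1) := by
  have := hq.finite
  have h1 : Nat.card F = Nat.card Fˣ + 1 := Nat.card_eq_card_units_add_one (α := F)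
  have h2 := hq.two_le
  rw [hq.card] at h1
  obtain ⟨k, rfl⟩ := Nat.exists_eq_add_of_le h2
  have : 2 + k - 1 = k + 1 := by omega
  rw [this]
  have : (2 + k) ^ 2 = (k + 1) * (2 + k + 1) + 1 := by ring
  omega

lemma range_ker (hq : QConj σ q) : (powMonoidHom (q + 1) : Fˣ →* Fˣ).range =
    (powMonoidHom (q - 1) : Fˣ →* Fˣ).ker := by
  have := hq.finite
  have h2 := hq.two_le
  apply Subgroup.eq_of_le_of_card_ge
  · rintro _ ⟨u, rfl⟩
    rw [MonoidHom.mem_ker, powMonoidHom_apply, powMonoidHom_apply, ← pow_mul, mul_comm,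
      ← hq.card_units, pow_card_eq_one']
  · rw [IsCyclic.card_powMonoidHom_range, IsCyclic.card_powMonoidHom_ker, hq.card_units,
      Nat.gcd_eq_right (Dvd.intro_left _ rfl), Nat.gcd_eq_right (Dvd.intro _ rfl),
      Nat.mul_div_cancel _ (by omega)]

lemma fixed_iff (hq : QConj σ q) {a : F} (ha : a ≠ 0) : σ a = a ↔ a ^ (q - 1) = 1 := by
  have h2 := hq.two_le
  have h3 : a ^ q = a ^ (q - 1) * a := by rw [← pow_succ]; congr 1; omega
  rw [hq.pow, h3]
  constructor
  · intro h
    exact mul_right_cancel₀ ha (by rw [h, one_mul])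
  · intro h
    rw [h, one_mul]

/-- Surjectivity of the norm. -/
lemma exists_norm (hq : QConj σ q) {c : F} (hc : σ c = c) : ∃ a, a * σ a = c := by
  have h2 := hq.two_le
  by_cases hc0 : c = 0
  · exact ⟨0, by rw [hc0, zero_mul]⟩
  have h1 : Units.mk0 c hc0 ∈ (powMonoidHom (q + 1) : Fˣ →* Fˣ).range := by
    rw [hq.range_ker, MonoidHom.mem_ker]
    apply Units.ext
    exact (hq.fixed_iff hc0).mp hc
  obtain ⟨u, hu⟩ := h1
  refine ⟨u, ?_⟩
  have h3 := congrArg Units.val hu
  change (u : F) ^ (q + 1) = c at h3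
  rw [hq.pow, ← pow_succ', h3]

lemma exists_norm_ne (hq : QConj σ q) {c : F} (hc : σ c = c) (hc0 : c ≠ 0) :
    ∃ a, a ≠ 0 ∧ a * σ a = c := by
  obtain ⟨a, ha⟩ := hq.exists_norm hc
  exact ⟨a, by rintro rfl; rw [zero_mul] at ha; exact hc0 ha.symm, ha⟩

lemma card_norm_one (hq : QConj σ q) : Nat.card {a : F // a * σ a = 1} = q + 1 := by
  have := hq.finite
  have h2 := hq.two_le
  have h1 : Nat.card (powMonoidHom (q + 1) : Fˣ →* Fˣ).ker = q + 1 := by
    rw [IsCyclic.card_powMonoidHom_ker, hq.card_units, Nat.gcd_eq_right (Dvd.intro_left _ rfl)]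
  rw [← h1]
  apply Nat.card_congr
  refine ⟨fun a => ⟨Units.mk0 a.1 ?_, ?_⟩, fun u => ⟨(u.1 : F), ?_⟩, ?_, ?_⟩
  · intro h
    have := a.2
    rw [h, zero_mul] at this
    exact zero_ne_one this
  · rw [MonoidHom.mem_ker]
    apply Units.ext
    change a.1 ^ (q + 1) = 1
    rw [pow_succ', ← hq.pow, a.2]
  · have h3 := congrArg Units.val (MonoidHom.mem_ker.mp u.2)
    change (u.1 : F) ^ (q + 1) = 1 at h3
    rw [hq.pow, ← pow_succ', h3]
  · intro a
    exact Subtype.ext rfl
  · intro u
    exact Subtype.ext (Units.ext rfl)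

lemma card_norm (hq : QConj σ q) {c : F} (hc : σ c = c) (hc0 : c ≠ 0) :
    Nat.card {a : F // a * σ a = c} = q + 1 := by
  obtain ⟨b, hb0, hb⟩ := hq.exists_norm_ne hc hc0
  rw [← hq.card_norm_one]
  have hsb : σ b ≠ 0 := by rw [Ne, map_eq_zero]; exact hb0
  apply Nat.card_congr
  refine ⟨fun a => ⟨a.1 / b, ?_⟩, fun a => ⟨a.1 * b, ?_⟩, ?_, ?_⟩
  · rw [map_div₀, div_mul_div_comm, a.2, hb, div_self hc0]
  · rw [map_mul]
    linear_combination (b * σ b) * a.2 + hb
  · intro a
    exact Subtype.ext (div_mul_cancel₀ _ hb0)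
  · intro a
    exact Subtype.ext (mul_div_cancel_right₀ _ hb0)

/-- Number of fixed elements. -/
lemma card_fixed (hq : QConj σ q) : Nat.card {a : F // σ a = a} = q := by
  have := hq.finite
  have h2 := hq.two_le
  have h1 : Nat.card (powMonoidHom (q - 1) : Fˣ →* Fˣ).ker = q - 1 := by
    rw [IsCyclic.card_powMonoidHom_ker, hq.card_units, Nat.gcd_eq_right (Dvd.intro _ rfl)]
  have h3 : Nat.card {a : {a : F // σ a = a} // a ≠ ⟨0, map_zero σ⟩} = q - 1 := by
    rw [← h1]
    apply Nat.card_congr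
    refine ⟨fun a => ⟨Units.mk0 a.1.1 (fun h => a.2 (Subtype.ext h)), ?_⟩,
      fun u => ⟨⟨(u.1 : F), ?_⟩, ?_⟩, ?_, ?_⟩
    · rw [MonoidHom.mem_ker]
      apply Units.ext
      exact (hq.fixed_iff (fun h => a.2 (Subtype.ext h))).mp a.1.2
    · exact (hq.fixed_iff (Units.ne_zero _)).mpr (congrArg Units.val (MonoidHom.mem_ker.mp u.2))
    · intro h
      exact Units.ne_zero _ (congrArg Subtype.val h)
    · intro a
      exact Subtype.ext (Subtype.ext rfl)
    · intro u
      exact Subtype.ext (Units.ext rfl)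
  classical
  have h4 := Nat.card_congr (Equiv.sumCompl (fun a : {a : F // σ a = a} => a = ⟨0, map_zero σ⟩))
  rw [Nat.card_sum] at h4
  have h5 : Nat.card {a : {a : F // σ a = a} // a = ⟨0, map_zero σ⟩} = 1 := Nat.card_unique
  have h6 : Nat.card {a : {a : F // σ a = a} // ¬ (a = ⟨0, map_zero σ⟩)} = q - 1 := h3
  rw [h5, h6] at h4
  omega

lemma exists_ne (hq : QConj σ q) : ∃ a, σ a ≠ a := by
  by_contra h
  push Not at h
  have h1 := hq.card_fixed
  have h2 : Nat.card {a : F // σ a = a} = Nat.card F :=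
    Nat.card_congr (Equiv.subtypeUnivEquiv h)
  have h3 := hq.two_le
  rw [h2, hq.card] at h1
  have : q * 2 ≤ q * q := Nat.mul_le_mul_left _ h3
  rw [sq] at h1
  omega

lemma exists_trace_ne (hq : QConj σ q) : ∃ a, a + σ a ≠ 0 := by
  by_contra h
  push Not at h
  obtain ⟨a, ha⟩ := hq.exists_ne
  have h1 := h 1
  rw [map_one] at h1
  have h2 := h a
  apply ha
  linear_combination h2 - a * h1

/-- Surjectivity of the trace. -/
lemma exists_trace (hq : QConj σ q) {c : F} (hc : σ c = c) : ∃ a, a + σ a = c := by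
  obtain ⟨b, hb⟩ := hq.exists_trace_ne
  refine ⟨c / (b + σ b) * b, ?_⟩
  have h1 : σ (c / (b + σ b)) = c / (b + σ b) := by
    rw [map_div₀, hc, map_add, hq.invol, add_comm (σ b)]
  rw [map_mul, h1]
  field_simp

/-- There is a nonzero element of given trace. -/
lemma exists_trace_ne_zero (hq : QConj σ q) {c : F} (hc : σ c = c) : ∃ a, a ≠ 0 ∧ a + σ a = c := by
  by_cases hc0 : c = 0
  · obtain ⟨b, hb⟩ := hq.exists_ne
    refine ⟨σ b - b, sub_ne_zero.mpr hb, ?_⟩
    rw [map_sub, hq.invol, hc0]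
    ring
  · obtain ⟨a, ha⟩ := hq.exists_trace hc
    refine ⟨a, ?_, ha⟩
    rintro rfl
    rw [map_zero, add_zero] at ha
    exact hc0 ha.symm

lemma norm_fixed (hq : QConj σ q) (a : F) : σ (a * σ a) = a * σ a := by
  rw [map_mul, hq.invol, mul_comm]

lemma trace_fixed (hq : QConj σ q) (a : F) : σ (a + σ a) = a + σ a := by
  rw [map_add, hq.invol, add_comm]

/-- Number of elements of given trace. -/
lemma card_trace (hq : QConj σ q) {c : F} (hc : σ c = c) :
    Nat.card {a : F // a + σ a = c} = q := by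
  obtain ⟨b, hb⟩ := hq.exists_trace hc
  obtain ⟨d, hd0, hd⟩ := hq.exists_trace_ne_zero (map_zero σ)
  have hd' : σ d = - d := by linear_combination hd
  conv_rhs => rw [← hq.card_fixed]
  apply Nat.card_congr
  refine ⟨fun a => ⟨(a.1 - b) / d, ?_⟩, fun a => ⟨a.1 * d + b, ?_⟩, ?_, ?_⟩
  · rw [map_div₀, map_sub, hd']
    have h1 := a.2
    have h2 : σ a.1 - σ b = -(a.1 - b) := by linear_combination h1 - hb
    rw [h2, neg_div_neg_eq]
  · rw [map_add, map_mul, a.2, hd']
    linear_combination hb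
  · intro a
    apply Subtype.ext
    change (a.1 - b) / d * d + b = a.1
    rw [div_mul_cancel₀ _ hd0]
    ring
  · intro a
    apply Subtype.ext
    change (a.1 * d + b - b) / d = a.1
    rw [add_sub_cancel_right, mul_div_cancel_right₀ _ hd0]

end QConj

/-- Any involutory automorphism of a finite field is of this form. -/
lemma exists_qconj [Finite F] {σ : F →+* F} (hσ : σ ≠ RingHom.id F)
    (hσ2 : ∀ a, σ (σ a) = a) : ∃ q, QConj σ q := by
  have := Fintype.ofFinite F
  obtain ⟨p, hp⟩ := CharP.exists F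
  obtain ⟨n, hp', hn⟩ := FiniteField.card F p
  have : Fact p.Prime := ⟨hp'⟩
  let _ := ZMod.algebra F p
  let τ : F ≃ₐ[ZMod p] F :=
    { toFun := σ, invFun := σ, left_inv := hσ2, right_inv := hσ2, map_mul' := map_mul σ,
      map_add' := map_add σ
      commutes' := fun r => by
        have h1 : (σ.comp (algebraMap (ZMod p) F)) = algebraMap (ZMod p) F := Subsingleton.elim _ _
        exact RingHom.congr_fun h1 r }
  obtain ⟨k, hk⟩ := (FiniteField.bijective_frobeniusAlgEquivOfAlgebraic_pow (ZMod p) F).2 τ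
  have hpow : ∀ a, σ a = a ^ (p ^ k.1) := by
    intro a
    have h1 : τ a = (FiniteField.frobeniusAlgEquivOfAlgebraic (ZMod p) F ^ k.1) a := by rw [← hk]
    have h2 : (FiniteField.frobeniusAlgEquivOfAlgebraic (ZMod p) F ^ k.1) a =
        a ^ (Fintype.card (ZMod p) ^ k.1) := by
      rw [AlgEquiv.coe_pow, FiniteField.coe_frobeniusAlgEquivOfAlgebraic_iterate]
    rw [h2, ZMod.card] at h1
    exact h1
  have hfr : Module.finrank (ZMod p) F = n := by
    have h1 := Module.card_eq_pow_finrank (K := ZMod p) (V := F)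
    rw [ZMod.card, hn] at h1
    exact (Nat.pow_right_injective hp'.two_le h1).symm
  have hkn : k.1 < n := by
    have := k.2
    omega
  have hk0 : k.1 ≠ 0 := by
    intro h0
    apply hσ
    ext a
    rw [hpow, h0, pow_zero, pow_one, RingHom.id_apply]
  have h2k : 2 * k.1 = n := by
    -- `frob^(2k) = 1` and the order of Frobenius is `n`
    have h1 : (FiniteField.frobeniusAlgEquivOfAlgebraic (ZMod p) F) ^ (2 * k.1) = 1 := by
      rw [mul_comm, pow_mul]
      have h2 : (FiniteField.frobeniusAlgEquivOfAlgebraic (ZMod p) F) ^ k.1 = τ := hk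
      rw [h2, sq]
      ext a
      exact hσ2 a
    have h2 := orderOf_dvd_of_pow_eq_one h1
    have h3 : orderOf (FiniteField.frobeniusAlgEquivOfAlgebraic (ZMod p) F) = (n : ℕ) := by
      rw [FiniteField.orderOf_frobeniusAlgEquivOfAlgebraic, hfr]
    rw [h3] at h2
    obtain ⟨c, hc⟩ := h2
    have hc1 : c = 1 := by
      rcases Nat.lt_trichotomy c 1 with h | h | h
      · have : c = 0 := by omega
        subst this
        omega
      · exact h
      · exfalso
        have : (n : ℕ) * 2 ≤ n * c := Nat.mul_le_mul_left _ h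
        omega
    rw [hc1, mul_one] at hc
    exact hc
  refine ⟨p ^ k.1, ⟨?_, hpow⟩⟩
  rw [Nat.card_eq_fintype_card, hn, ← pow_mul, mul_comm, h2k]

/-- The `q`-power map. -/
lemma exists_sigma [Finite F] {q : ℕ} (hF : Nat.card F = q ^ 2) : ∃ σ : F →+* F, QConj σ q := by
  have := Fintype.ofFinite F
  obtain ⟨p, hp⟩ := CharP.exists F
  obtain ⟨n, hp', hn⟩ := FiniteField.card F p
  have : Fact p.Prime := ⟨hp'⟩
  have h1 : q ∣ p ^ (n : ℕ) := by
    rw [← hn, ← Nat.card_eq_fintype_card, hF, sq]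
    exact Dvd.intro _ rfl
  obtain ⟨k, -, rfl⟩ := (Nat.dvd_prime_pow hp').mp h1
  have : ExpChar F p := ExpChar.prime hp'
  exact ⟨iterateFrobenius F p k, hF, fun a => iterateFrobenius_def p k a⟩

end CfsgLib.Herm
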