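import Cfsg.Agent.Lib.Herm

/-!
# Hermitian forms over finite fields II: Witt's lemma, orthonormal bases
-/

namespace CfsgLib.Herm

open Module CfsgLib.IsomDecomp

set_option linter.unusedSimpArgs false
set_option linter.unusedSectionVars false

variable {F V : Type*} [Field F] [AddCommGroup V] [Module F V]
variable {σ : F →+* F} {q : ℕ}

/-- Non-degenerate Hermitian forms. -/
structure HForm (B : V →ₛₗ[σ] V →ₗ[F] F) : Prop where
  symm : ∀ x y, σ (B x y) = B y x
  nd : ∀ x, (∀ y, B x y = 0) → x = 0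

/-- The unitary group. -/
def U (B : V →ₛₗ[σ] V →ₗ[F] F) : Subgroup (V ≃ₗ[F] V) := isomF F (fun u v => B u v)

lemma mem_U {B : V →ₛₗ[σ] V →ₗ[F] F} {g : V ≃ₗ[F] V} :
    g ∈ U B ↔ ∀ x y, B (g x) (g y) = B x y := Iff.rfl

section Basic

variable {B : V →ₛₗ[σ] V →ₗ[F] F}

lemma map_smul_left (B : V →ₛₗ[σ] V →ₗ[F] F) (a : F) (x y : V) : B (a • x) y = σ a * B x y := by
  rw [LinearMap.map_smulₛₗ, LinearMap.smul_apply, smul_eq_mul]

lemma map_smul_right (B : V →ₛₗ[σ] V →ₗ[F] F) (a : F) (x y : V) : B x (a • y) = a * B x y := by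
  rw [LinearMap.map_smul, smul_eq_mul]

lemma map_add_left (B : V →ₛₗ[σ] V →ₗ[F] F) (x x' y : V) : B (x + x') y = B x y + B x' y := by
  rw [LinearMap.map_add, LinearMap.add_apply]

lemma map_add_right (B : V →ₛₗ[σ] V →ₗ[F] F) (x y y' : V) : B x (y + y') = B x y + B x y' := by
  rw [LinearMap.map_add]

lemma map_sub_left (B : V →ₛₗ[σ] V →ₗ[F] F) (x x' y : V) : B (x - x') y = B x y - B x' y := by
  rw [LinearMap.map_sub, LinearMap.sub_apply]

lemma map_sub_right (B : V →ₛₗ[σ] V →ₗ[F] F) (x y y' : V) : B x (y - y') = B x y - B x y' := by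
  rw [LinearMap.map_sub]

lemma map_zero_left (B : V →ₛₗ[σ] V →ₗ[F] F) (y : V) : B 0 y = 0 := by
  rw [LinearMap.map_zero, LinearMap.zero_apply]

lemma HForm.eq_zero_comm (h : HForm B) {x y : V} (hxy : B x y = 0) : B y x = 0 := by
  rw [← h.symm, hxy, map_zero]

lemma HForm.self_fixed (h : HForm B) (x : V) : σ (B x x) = B x x := h.symm x x

/-- Every functional is represented. -/
lemma HForm.exists_repr [Finite F] [FiniteDimensional F V] (h : HForm B) (ℓ : V →ₗ[F] F) :
    ∃ y, ∀ x, B y x = ℓ x := by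
  have : Finite V := Module.finite_of_finite F
  have : Finite (V →ₗ[F] F) := Module.finite_of_finite F
  have hinj : Function.Injective (fun y => B y) := by
    intro x y hxy
    have h1 : x - y = 0 := h.nd _ fun z => by
      rw [map_sub_left]
      have := LinearMap.congr_fun hxy z
      simp only at this
      rw [this, sub_self]
    exact sub_eq_zero.mp h1
  have e : V ≃ (V →ₗ[F] F) := (finBasis F V).toDualEquiv.toEquiv
  obtain ⟨y, hy⟩ := ((Finite.injective_iff_surjective_of_equiv e).mp hinj) ℓ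
  exact ⟨y, fun x => LinearMap.congr_fun hy x⟩

lemma HForm.exists_orth_ne_zero [Finite F] [FiniteDimensional F V] (h : HForm B)
    {X : Submodule F V} {x : V} (hx : x ∉ X) : ∃ r, (∀ z ∈ X, B r z = 0) ∧ B r x ≠ 0 := by
  obtain ⟨ℓ, hℓ, hX⟩ := Submodule.exists_le_ker_of_notMem hx
  obtain ⟨r, hr⟩ := h.exists_repr ℓ
  refine ⟨r, fun z hz => ?_, ?_⟩
  · rw [hr]; exact hX hz
  · rw [hr]; exact hℓ

lemma HForm.exists_orth_ne_zero_two [Finite F] [FiniteDimensional F V] (h : HForm B)
    {X : Submodule F V} {x y : V} (hx : x ∉ X) (hy : y ∉ X) :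
    ∃ r, (∀ z ∈ X, B r z = 0) ∧ B r x ≠ 0 ∧ B r y ≠ 0 := by
  obtain ⟨r, hr1, hr2⟩ := h.exists_orth_ne_zero hx
  obtain ⟨s, hs1, hs2⟩ := h.exists_orth_ne_zero hy
  by_cases h1 : B r y = 0
  · by_cases h2 : B s x = 0
    · refine ⟨r + s, fun z hz => ?_, ?_, ?_⟩
      · rw [map_add_left, hr1 z hz, hs1 z hz, add_zero]
      · rw [map_add_left, h2, add_zero]; exact hr2
      · rw [map_add_left, h1, zero_add]; exact hs2
    · exact ⟨s, hs1, h2, hs2⟩
  · exact ⟨r, hr1, hr2, h1⟩

/-- A linear map preserving `B` as an automorphism. -/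
noncomputable def ofIsomH [FiniteDimensional F V] (h : HForm B) (T : V →ₗ[F] V)
    (hT : ∀ x y, B (T x) (T y) = B x y) : V ≃ₗ[F] V :=
  LinearEquiv.ofInjectiveEndo T (by
    rw [injective_iff_map_eq_zero]
    intro x hx
    apply h.nd
    intro y
    rw [← hT, hx, map_zero_left])

lemma ofIsomH_apply [FiniteDimensional F V] (h : HForm B) (T : V →ₗ[F] V)
    (hT : ∀ x y, B (T x) (T y) = B x y) (x : V) : ofIsomH h T hT x = T x := rfl

lemma ofIsomH_mem [FiniteDimensional F V] (h : HForm B) (T : V →ₗ[F] V)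
    (hT : ∀ x y, B (T x) (T y) = B x y) : ofIsomH h T hT ∈ U B := hT

/-- The map `x ↦ x + a B(u,x) u`. -/
noncomputable def trT (B : V →ₛₗ[σ] V →ₗ[F] F) (u : V) (a : F) : V →ₗ[F] V :=
  LinearMap.id + LinearMap.smulRight (a • B u) u

lemma trT_apply (B : V →ₛₗ[σ] V →ₗ[F] F) (u : V) (a : F) (x : V) :
    trT B u a x = x + (a * B u x) • u := rfl

lemma trT_isom (h : HForm B) {u : V} {a : F} (ha : a + σ a + a * σ a * B u u = 0) (x y : V) :
    B (trT B u a x) (trT B u a y) = B x y := by
  rw [trT_apply, trT_apply]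
  simp only [map_add_left, map_add_right, map_smul_left, map_smul_right, map_mul, h.symm u x]
  linear_combination (B x u * B u y) * ha

/-- The one-step extension in Witt's lemma. -/
lemma HForm.exists_step [Finite F] [FiniteDimensional F V] (hq : QConj σ q) (h : HForm B)
    {X : Submodule F V} {x y : V} (hx : x ∉ X) (hy : y ∉ X) (hxy : B x x = B y y)
    (hX : ∀ z ∈ X, B z x = B z y) :
    ∃ t ∈ U B, (∀ z ∈ X, t z = z) ∧ t x = y := by
  -- the direct case
  have key : ∀ x y : V, B x x = B y y → (∀ z ∈ X, B z x = B z y) → B (x - y) x ≠ 0 →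
      ∃ t ∈ U B, (∀ z ∈ X, t z = z) ∧ t x = y := by
    intro x y hxy hX hne
    set u := x - y with hu
    set a := -(B u x)⁻¹ with ha
    have h1 : B u u = B u x + σ (B u x) := by
      have e1 : B u x = B x x - B y x := by rw [hu, map_sub_left]
      have e2 : σ (B u x) = B x x - B x y := by rw [e1, map_sub, h.symm, h.symm]
      rw [e1, ← e1, e2, hu, map_sub_left, map_sub_right, map_sub_right, map_sub_left]
      linear_combination -hxy
    have hσne : σ (B u x) ≠ 0 := by rw [Ne, map_eq_zero]; exact hne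
    have h2 : a + σ a + a * σ a * B u u = 0 := by
      rw [h1, ha, map_neg, map_inv₀]
      field_simp
      ring
    refine ⟨ofIsomH h (trT B u a) (trT_isom h h2), ofIsomH_mem _ _ _, ?_, ?_⟩
    · intro z hz
      have h3 : B u z = 0 := by
        rw [← h.symm, hu, map_sub_right, hX z hz, sub_self, map_zero]
      rw [ofIsomH_apply, trT_apply, h3, mul_zero, zero_smul, add_zero]
    · rw [ofIsomH_apply, trT_apply, ha, neg_mul, inv_mul_cancel₀ hne, neg_smul, one_smul, hu]
      abel
  by_cases hne : B (x - y) x = 0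
  swap
  · exact key x y hxy hX hne
  obtain ⟨r, hr, hrx, hry⟩ := h.exists_orth_ne_zero_two hx hy
  -- choose `e ≠ 0` of trace `-B r r`
  obtain ⟨e, he0, he⟩ := hq.exists_trace_ne_zero (c := -B r r) (by rw [map_neg, h.self_fixed])
  set w := (B r x / e) • r with hw
  have hBxr : B x r ≠ 0 := fun h0 => hrx (h.eq_zero_comm h0)
  have hByr : B y r ≠ 0 := fun h0 => hry (h.eq_zero_comm h0)
  have hσe : σ e ≠ 0 := by rw [Ne, map_eq_zero]; exact he0
  have hc : σ (B r x / e) = B x r / σ e := by rw [map_div₀, h.symm]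
  have hwx : B w x = B x r / σ e * B r x := by rw [hw, map_smul_left, hc]
  have hwx0 : B w x ≠ 0 := by
    rw [hwx]
    exact mul_ne_zero (div_ne_zero hBxr hσe) hrx
  have hxw : B x w = B r x / e * B x r := by rw [hw, map_smul_right]
  have hww : B w w = (B x r / σ e) * ((B r x / e) * B r r) := by
    rw [hw, map_smul_left, map_smul_right, hc]
  have hyw0 : B y w ≠ 0 := by
    rw [hw, map_smul_right]
    exact mul_ne_zero (div_ne_zero hrx he0) hByr
  have hsum : B x w + B w x + B w w = 0 := by
    rw [hxw, hwx, hww]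
    field_simp
    linear_combination (B r x * B x r) * he
  have hzz : B (x + w) (x + w) = B x x := by
    rw [map_add_left, map_add_right, map_add_right]
    linear_combination hsum
  have hvw : ∀ v ∈ X, B v w = 0 := by
    intro v hv
    rw [hw, map_smul_right, h.eq_zero_comm (hr v hv), mul_zero]
  rw [map_sub_left] at hne
  obtain ⟨t₁, ht₁, ht₁X, ht₁x⟩ := key x (x + w) hzz.symm (by
    intro v hv
    rw [map_add_right, hvw v hv, add_zero]) (by
    rw [map_sub_left, map_add_left]
    intro h0
    apply hwx0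
    linear_combination -h0)
  obtain ⟨t₂, ht₂, ht₂X, ht₂x⟩ := key (x + w) y (by rw [hzz, hxy]) (by
    intro v hv
    rw [map_add_right, hvw v hv, add_zero, hX v hv]) (by
    rw [map_sub_left, hzz, map_add_right]
    intro h0
    apply hyw0
    linear_combination hne - h0)
  refine ⟨t₂ * t₁, mul_mem ht₂ ht₁, fun v hv => ?_, ?_⟩
  · rw [LinearEquiv.mul_apply, ht₁X v hv, ht₂X v hv]
  · rw [LinearEquiv.mul_apply, ht₁x, ht₂x]

/-- Witt's lemma for families. -/
theorem HForm.exists_family [Finite F] [FiniteDimensional F V] (hq : QConj σ q) (h : HForm B)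
    {n : ℕ} (v v' : Fin n → V) (hv : LinearIndependent F v) (hv' : LinearIndependent F v')
    (hvv : ∀ i j, B (v i) (v j) = B (v' i) (v' j)) :
    ∃ g ∈ U B, ∀ i, g (v i) = v' i := by
  induction n with
  | zero => exact ⟨1, one_mem _, fun i => i.elim0⟩
  | succ n ih =>
    have hv₁ := hv.comp Fin.castSucc (Fin.castSucc_injective n)
    have hv₂ := hv'.comp Fin.castSucc (Fin.castSucc_injective n)
    obtain ⟨g, hg, hgv⟩ := ih (v ∘ Fin.castSucc) (v' ∘ Fin.castSucc) hv₁ hv₂
      (fun i j => hvv _ _)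
    set X : Submodule F V := Submodule.span F (Set.range (v' ∘ Fin.castSucc)) with hX
    have hy : v' (Fin.last n) ∉ X := by
      have := hv'.notMem_span_image (s := Set.range Fin.castSucc) (x := Fin.last n) (by
        rintro ⟨i, hi⟩
        exact (Fin.castSucc_lt_last i).ne hi)
      rwa [← Set.range_comp] at this
    have hx : g (v (Fin.last n)) ∉ X := by
      intro hmem
      have h1 : v (Fin.last n) ∈ Submodule.span F (Set.range (v ∘ Fin.castSucc)) := by
        have h2 : X = (Submodule.span F (Set.range (v ∘ Fin.castSucc))).map (g : V →ₗ[F] V) := by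
          rw [hX, Submodule.map_span, ← Set.range_comp]
          congr 1
          ext z
          simp only [Set.mem_range]
          exact exists_congr fun i => by rw [← hgv i]; rfl
        rw [h2] at hmem
        obtain ⟨z, hz, hzg⟩ := hmem
        have : z = v (Fin.last n) := g.injective hzg
        rwa [← this]
      have := hv.notMem_span_image (s := Set.range Fin.castSucc) (x := Fin.last n) (by
        rintro ⟨i, hi⟩
        exact (Fin.castSucc_lt_last i).ne hi)
      rw [← Set.range_comp] at this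
      exact this h1
    obtain ⟨t, ht, ht1, ht2⟩ := h.exists_step hq hx hy (by rw [mem_U.mp hg, hvv]) (by
      intro z hz
      rw [hX] at hz
      induction hz using Submodule.span_induction with
      | mem z hz =>
        obtain ⟨i, rfl⟩ := hz
        have := hgv i
        rw [← this, mem_U.mp hg]
        change B (v (Fin.castSucc i)) (v (Fin.last n)) = _
        rw [hvv]
        rw [this]
        rfl
      | zero => rw [map_zero_left, map_zero_left]
      | add x y _ _ hx hy => rw [map_add_left, map_add_left, hx, hy]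
      | smul a x _ hx => rw [map_smul_left, map_smul_left, hx])
    refine ⟨t * g, mul_mem ht hg, fun i => ?_⟩
    rw [LinearEquiv.mul_apply]
    refine Fin.lastCases ?_ (fun i => ?_) i
    · exact ht2
    · have := hgv i
      simp only [Function.comp] at this
      rw [this]
      exact ht1 _ (Submodule.subset_span ⟨i, rfl⟩)

/-- Witt's lemma. -/
theorem HForm.exists_extension [Finite F] [FiniteDimensional F V] (hq : QConj σ q) (h : HForm B)
    (X : Submodule F V) (φ : X →ₗ[F] V) (hφ : Function.Injective φ)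
    (hX : ∀ x y : X, B (φ x) (φ y) = B (x : V) (y : V)) :
    ∃ g ∈ U B, ∀ x : X, g (x : V) = φ x := by
  let b := Module.finBasis F X
  obtain ⟨g, hg, hgv⟩ := h.exists_family hq (fun i => (b i : V)) (fun i => φ (b i))
    (b.linearIndependent.map' X.subtype (Submodule.ker_subtype X))
    (b.linearIndependent.map' φ (LinearMap.ker_eq_bot.mpr hφ)) (fun i j => (hX _ _).symm)
  refine ⟨g, hg, fun x => ?_⟩
  have h1 : (g : V →ₗ[F] V).comp X.subtype = φ := b.ext fun i => hgv i
  exact LinearMap.congr_fun h1 x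

/-! ### Non-isotropic vectors -/

/-- There is a non-isotropic vector. -/
lemma HForm.exists_ne_zero (hq : QConj σ q) (h : HForm B) [Nontrivial V] :
    ∃ v, B v v ≠ 0 := by
  by_contra hcon
  push Not at hcon
  obtain ⟨x, hx⟩ := exists_ne (0 : V)
  obtain ⟨y, hy⟩ : ∃ y, B x y ≠ 0 := by
    by_contra h2
    push Not at h2
    exact hx (h.nd x h2)
  obtain ⟨a, ha⟩ := hq.exists_trace_ne
  have h1 := hcon (x + (a / B x y) • y)
  rw [map_add_left, map_add_right, map_add_right, hcon, map_smul_left, map_smul_left,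
    map_smul_right, map_smul_right, hcon, map_div₀, h.symm, ← h.symm x y] at h1
  have hσ : σ (B x y) ≠ 0 := by rw [Ne, map_eq_zero]; exact hy
  apply ha
  have e1 : a / B x y * B x y = a := div_mul_cancel₀ _ hy
  have e2 : σ a / B y x * B y x = σ a := div_mul_cancel₀ _ (by rw [← h.symm]; exact hσ)
  rw [h.symm] at h1
  linear_combination h1 - e1 - e2

lemma exists_smul_one (hq : QConj σ q) (h : HForm B) {v : V} (hv : B v v ≠ 0) {c : F}
    (hc : σ c = c) (hc0 : c ≠ 0) : ∃ a : F, a ≠ 0 ∧ B (a • v) (a • v) = c := by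
  obtain ⟨a, ha0, ha⟩ := hq.exists_norm_ne (c := c / B v v) (by rw [map_div₀, hc, h.self_fixed])
    (div_ne_zero hc0 hv)
  refine ⟨a, ha0, ?_⟩
  rw [map_smul_left, map_smul_right, ← mul_assoc, mul_comm (σ a), ha, div_mul_cancel₀ _ hv]

/-- There is a vector of norm one. -/
lemma HForm.exists_norm_eq (hq : QConj σ q) (h : HForm B) [Nontrivial V] {c : F}
    (hc : σ c = c) (hc0 : c ≠ 0) : ∃ v, B v v = c := by
  obtain ⟨v, hv⟩ := h.exists_ne_zero hq
  obtain ⟨a, -, ha⟩ := exists_smul_one hq h hv hc hc0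
  exact ⟨_, ha⟩

/-! ### Orthogonal complements -/

/-- The orthogonal complement. -/
def perp (B : V →ₛₗ[σ] V →ₗ[F] F) (W : Submodule F V) : Submodule F V where
  carrier := {y | ∀ x ∈ W, B x y = 0}
  add_mem' := fun {a b} ha hb x hx => by rw [map_add_right, ha x hx, hb x hx, add_zero]
  zero_mem' := fun x _ => by rw [LinearMap.map_zero]
  smul_mem' := fun c y hy x hx => by rw [map_smul_right, hy x hx, mul_zero]

lemma mem_perp {W : Submodule F V} {y : V} : y ∈ perp B W ↔ ∀ x ∈ W, B x y = 0 := Iff.rfl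

/-- The restriction of a form. -/
noncomputable def resB (B : V →ₛₗ[σ] V →ₗ[F] F) (W : Submodule F V) : W →ₛₗ[σ] W →ₗ[F] F where
  toFun x := (B x).comp W.subtype
  map_add' x y := by ext z; simp [map_add_left]
  map_smul' a x := by ext z; simp [map_smul_left]

lemma resB_apply (B : V →ₛₗ[σ] V →ₗ[F] F) (W : Submodule F V) (x y : W) :
    resB B W x y = B (x : V) (y : V) := rfl

/-- Perpendicular of a single non-isotropic vector. -/
lemma isCompl_span (h : HForm B) {v : V} (hv : B v v ≠ 0) : IsCompl (F ∙ v) (perp B (F ∙ v)) := by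
  constructor
  · rw [Submodule.disjoint_def]
    intro x hx hx'
    obtain ⟨a, rfl⟩ := Submodule.mem_span_singleton.mp hx
    have h1 := hx' v (Submodule.mem_span_singleton_self v)
    rw [map_smul_right] at h1
    rw [(mul_eq_zero.mp h1).resolve_right hv, zero_smul]
  · rw [codisjoint_iff, eq_top_iff]
    intro x _
    rw [Submodule.mem_sup]
    refine ⟨(B v x / B v v) • v, Submodule.smul_mem _ _ (Submodule.mem_span_singleton_self v),
      x - (B v x / B v v) • v, ?_, by abel⟩
    intro y hy
    obtain ⟨a, rfl⟩ := Submodule.mem_span_singleton.mp hy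
    rw [map_smul_left, map_sub_right, map_smul_right, div_mul_cancel₀ _ hv, sub_self, mul_zero]

lemma mem_perp_span {v y : V} : y ∈ perp B (F ∙ v) ↔ B v y = 0 := by
  constructor
  · intro h
    exact h v (Submodule.mem_span_singleton_self v)
  · intro h x hx
    obtain ⟨a, rfl⟩ := Submodule.mem_span_singleton.mp hx
    rw [map_smul_left, h, mul_zero]

/-- The restriction to a summand of an orthogonal decomposition is non-degenerate. -/
lemma HForm.restrict (h : HForm B) {W W' : Submodule F V} (hW : IsCompl W W')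
    (hperp : ∀ x ∈ W, ∀ y ∈ W', B x y = 0) : HForm (resB B W) := by
  refine ⟨fun x y => h.symm _ _, fun x hx => ?_⟩
  apply Subtype.ext
  apply h.nd
  intro y
  obtain ⟨a, b, hab⟩ := exists_add_of_isCompl hW y
  rw [hab, map_add_right, hperp x.1 x.2 b.1 b.2, add_zero]
  exact hx a

lemma HForm.restrict_right (h : HForm B) {W W' : Submodule F V} (hW : IsCompl W W')
    (hperp : ∀ x ∈ W, ∀ y ∈ W', B x y = 0) : HForm (resB B W') :=
  h.restrict hW.symm fun x hx y hy => h.eq_zero_comm (hperp y hy x hx)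

lemma HForm.perp_span (h : HForm B) {v : V} (hv : B v v ≠ 0) :
    HForm (resB B (perp B (F ∙ v))) :=
  h.restrict_right (isCompl_span h hv) fun x hx y hy => hy x hx

lemma finrank_perp_span [FiniteDimensional F V] (h : HForm B) {v : V} (hv : B v v ≠ 0) :
    finrank F (perp B (F ∙ v)) + 1 = finrank F V := by
  have h1 := Submodule.finrank_add_eq_of_isCompl (isCompl_span h hv)
  have hv0 : v ≠ 0 := by rintro rfl; exact hv (map_zero_left B _)
  rw [finrank_span_singleton hv0] at h1
  omega

/-- Existence of orthonormal bases. -/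
theorem HForm.exists_orthonormal_aux (hq : QConj σ q) (n : ℕ) : ∀ (V : Type _) [AddCommGroup V]
    [Module F V] [FiniteDimensional F V] (B : V →ₛₗ[σ] V →ₗ[F] F), HForm B → finrank F V = n →
    ∃ w : Fin n → V, ∀ i j, B (w i) (w j) = if i = j then 1 else 0 := by
  induction n with
  | zero => exact fun V _ _ _ B h hV => ⟨fun i => i.elim0, fun i => i.elim0⟩
  | succ n ih =>
    intro V _ _ _ B h hV
    have : Nontrivial V := Module.nontrivial_of_finrank_pos (R := F) (by omega)
    obtain ⟨v, hv⟩ := h.exists_norm_eq hq (map_one σ) one_ne_zero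
    have hv1 : B v v ≠ 0 := by rw [hv]; exact one_ne_zero
    have hdim := finrank_perp_span h hv1
    obtain ⟨w, hw⟩ := ih _ (resB B (perp B (F ∙ v))) (h.perp_span hv1) (by omega)
    have h1 : ∀ i, B v (w i) = 0 := fun i => mem_perp_span.mp (w i).2
    have h2 : ∀ i, B (w i) v = 0 := fun i => h.eq_zero_comm (h1 i)
    refine ⟨Fin.cons v (fun i => (w i : V)), ?_⟩
    intro i j
    rcases Fin.eq_zero_or_eq_succ i with rfl | ⟨i, rfl⟩ <;>
    rcases Fin.eq_zero_or_eq_succ j with rfl | ⟨j, rfl⟩
    · rw [Fin.cons_zero, hv, if_pos rfl]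
    · rw [Fin.cons_zero, Fin.cons_succ, h1, if_neg (Fin.succ_ne_zero j).symm]
    · rw [Fin.cons_zero, Fin.cons_succ, h2, if_neg (Fin.succ_ne_zero i)]
    · rw [Fin.cons_succ, Fin.cons_succ]
      have := hw i j
      rw [resB_apply] at this
      rw [this]
      simp [Fin.succ_inj]

lemma linearIndependent_of_orthonormal {ι : Type*} [Fintype ι] [DecidableEq ι]
    {w : ι → V} (hw : ∀ i j, B (w i) (w j) = if i = j then 1 else 0) :
    LinearIndependent F w := by
  rw [Fintype.linearIndependent_iff]
  intro c hc i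
  have h1 : B (w i) (∑ j, c j • w j) = c i := by
    rw [map_sum]
    simp only [map_smul_right, hw]
    simp
  rw [← h1, hc, LinearMap.map_zero]

theorem HForm.exists_orthonormal [FiniteDimensional F V] (hq : QConj σ q) (h : HForm B) {n : ℕ}
    (hV : finrank F V = n) : ∃ b : Basis (Fin n) F V, ∀ i j, B (b i) (b j) =
      if i = j then 1 else 0 := by
  obtain ⟨w, hw⟩ := HForm.exists_orthonormal_aux hq n V B h hV
  have hli := linearIndependent_of_orthonormal hw
  rcases Nat.eq_zero_or_pos n with rfl | hn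
  · have : Subsingleton V := finrank_zero_iff.mp hV
    exact ⟨Basis.empty V, fun i => i.elim0⟩
  · have : Nonempty (Fin n) := ⟨⟨0, hn⟩⟩
    refine ⟨basisOfLinearIndependentOfCardEqFinrank hli (by rw [Fintype.card_fin, hV]), ?_⟩
    intro i j
    rw [coe_basisOfLinearIndependentOfCardEqFinrank]
    exact hw i j

/-- Hermitian forms of the same dimension are isometric. -/
theorem exists_isometry {V' : Type*} [AddCommGroup V'] [Module F V'] [FiniteDimensional F V]
    [FiniteDimensional F V'] {B' : V' →ₛₗ[σ] V' →ₗ[F] F} (hq : QConj σ q) (h : HForm B)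
    (h' : HForm B') (hV : finrank F V = finrank F V') :
    ∃ e : V ≃ₗ[F] V', ∀ x y, B' (e x) (e y) = B x y := by
  obtain ⟨b, hb⟩ := h.exists_orthonormal hq rfl
  obtain ⟨b', hb'⟩ := h'.exists_orthonormal hq hV.symm
  refine ⟨b.equiv b' (Equiv.refl _), fun x y => ?_⟩
  rw [← b.sum_repr x, ← b.sum_repr y]
  simp only [map_sum, LinearEquiv.map_smul, Basis.equiv_apply, Equiv.refl_apply,
    LinearMap.sum_apply, map_smul_left, map_smul_right, hb, hb']

end Basic

end CfsgLib.Herm
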