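import Cfsg.Agent.Lib.Herm2
import Cfsg.Agent.Lib.Linear
import Cfsg.Prelude.Def_LieClassical
import Mathlib.LinearAlgebra.Transvection.Basic

/-!
# Hermitian forms over finite fields III: counting vectors, orders of unitary groups
-/

namespace CfsgLib.Herm

open Module CfsgLib.IsomDecomp Cfsg

set_option linter.unusedSimpArgs false
set_option linter.unusedSectionVars false

variable {F V : Type*} [Field F] [AddCommGroup V] [Module F V]
variable {σ : F →+* F} {q : ℕ}

/-! ### Counting -/

/-- The basic recursion. -/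
lemma card_pairs (hq : QConj σ q) {W : Type*} [Finite W] (h : W → F) (hh : ∀ w, σ (h w) = h w)
    {c : F} (hc : σ c = c) :
    Nat.card {x : F × W // x.1 * σ x.1 + h x.2 = c} + q * Nat.card {w : W // h w = c} =
      (q + 1) * Nat.card W := by
  classical
  have := hq.finite
  have := Fintype.ofFinite W
  have e : {x : F × W // x.1 * σ x.1 + h x.2 = c} ≃ Σ w : W, {a : F // a * σ a = c - h w} :=
    { toFun := fun x => ⟨x.1.2, x.1.1, by have := x.2; linear_combination this⟩
      invFun := fun y => ⟨(y.2.1, y.1), by have := y.2.2; linear_combination this⟩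
      left_inv := fun x => rfl
      right_inv := fun y => rfl }
  have hfib : ∀ w : W, Nat.card {a : F // a * σ a = c - h w} = if h w = c then 1 else q + 1 := by
    intro w
    split_ifs with hw
    · rw [hw, sub_self]
      rw [Nat.card_eq_one_iff_unique]
      refine ⟨⟨fun a b => ?_⟩, ⟨⟨0, by rw [zero_mul]⟩⟩⟩
      have key : ∀ a : {a : F // a * σ a = 0}, a.1 = 0 := by
        intro a
        rcases mul_eq_zero.mp a.2 with h0 | h0
        · exact h0
        · exact (map_eq_zero σ).mp h0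
      exact Subtype.ext ((key a).trans (key b).symm)
    · exact hq.card_norm (by rw [map_sub, hc, hh]) (sub_ne_zero.mpr fun h0 => hw h0.symm)
  rw [Nat.card_congr e, Nat.card_sigma, Finset.sum_congr rfl fun w _ => hfib w,
    Finset.sum_ite, Finset.sum_const, Finset.sum_const, smul_eq_mul, smul_eq_mul, mul_one]
  have h1 : Nat.card {w : W // h w = c} = (Finset.univ.filter fun w => h w = c).card := by
    rw [Nat.card_eq_fintype_card, Fintype.card_subtype]
  have h2 : (Finset.univ.filter fun w => h w = c).card +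
      (Finset.univ.filter fun w => ¬ h w = c).card = Nat.card W := by
    rw [Finset.card_filter_add_card_filter_not, Finset.card_univ, Nat.card_eq_fintype_card]
  rw [h1, ← h2]
  ring

/-- The number of vectors of `F^n` of norm `c`. -/
noncomputable def cnt (σ : F →+* F) (n : ℕ) (c : F) : ℕ := Nat.card {v : Fin n → F // ∑ i, v i * σ (v i) = c}

lemma cnt_succ (hq : QConj σ q) (n : ℕ) {c : F} (hc : σ c = c) :
    cnt σ (n + 1) c + q * cnt σ n c = (q + 1) * q ^ (2 * n) := by
  have := hq.finite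
  have h1 := card_pairs hq (W := Fin n → F) (fun v => ∑ i, v i * σ (v i)) (fun v => by
    rw [map_sum]
    exact Finset.sum_congr rfl fun i _ => hq.norm_fixed _) hc
  have h2 : cnt σ (n + 1) c = Nat.card {x : F × (Fin n → F) // x.1 * σ x.1 +
      ∑ i, x.2 i * σ (x.2 i) = c} := by
    apply Nat.card_congr
    refine (Equiv.subtypeEquiv (Fin.consEquiv (fun _ : Fin (n + 1) => F)) ?_).symm
    intro x
    rw [Fin.sum_univ_succ]
    simp [Fin.consEquiv]
  rw [h2]
  have h3 : Nat.card (Fin n → F) = q ^ (2 * n) := by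
    rw [Nat.card_fun, Nat.card_eq_fintype_card (α := Fin n), Fintype.card_fin, hq.card, ← pow_mul]
  rw [h3] at h1
  exact h1

lemma cnt_zero_zero (σ : F →+* F) : cnt σ 0 0 = 1 := by
  rw [cnt, Nat.card_eq_one_iff_unique]
  exact ⟨⟨fun a b => Subtype.ext (Subsingleton.elim _ _)⟩, ⟨⟨fun i => i.elim0, by simp⟩⟩⟩

lemma cnt_zero_of_ne (σ : F →+* F) {c : F} (hc : c ≠ 0) : cnt σ 0 c = 0 := by
  rw [cnt, Nat.card_eq_zero]
  left
  refine ⟨fun x => hc ?_⟩
  have := x.2
  simpa using this.symm

/-- `q * N(n, c) = q^(2n) - (-q)^n` for `c ≠ 0`. -/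
lemma cnt_ne_zero (hq : QConj σ q) {c : F} (hc : σ c = c) (hc0 : c ≠ 0) (n : ℕ) :
    (q : ℤ) * cnt σ n c = (q : ℤ) ^ (2 * n) - (-(q : ℤ)) ^ n := by
  induction n with
  | zero => rw [cnt_zero_of_ne σ hc0]; simp
  | succ n ih =>
    have h1 := cnt_succ hq n hc
    zify at h1
    have h2 : (cnt σ (n + 1) c : ℤ) = (q + 1) * q ^ (2 * n) - (q * cnt σ n c) := by
      linear_combination h1
    rw [h2, ih]
    ring

lemma cnt_zero (hq : QConj σ q) (n : ℕ) :
    (q : ℤ) * cnt σ n 0 = (q : ℤ) ^ (2 * n) + (q - 1) * (-(q : ℤ)) ^ n := by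
  induction n with
  | zero =>
    rw [cnt_zero_zero]
    simp
  | succ n ih =>
    have h1 := cnt_succ hq n (map_zero σ)
    zify at h1
    have h2 : (cnt σ (n + 1) 0 : ℤ) = (q + 1) * q ^ (2 * n) - (q * cnt σ n 0) := by
      linear_combination h1
    rw [h2, ih]
    ring

lemma cnt_succ_of_ne (hq : QConj σ q) {c : F} (hc : σ c = c) (hc0 : c ≠ 0) (n : ℕ) :
    cnt σ (n + 1) c = q ^ n * (if Even n then q ^ (n + 1) + 1 else q ^ (n + 1) - 1) := by
  have h2 := hq.two_le
  have h1 := cnt_ne_zero hq hc hc0 (n + 1)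
  have hq0 : (q : ℤ) ≠ 0 := by exact_mod_cast (by omega : q ≠ 0)
  have h3 : (cnt σ (n + 1) c : ℤ) = q ^ n * (q ^ (n + 1) + (-1) ^ n) := by
    apply mul_left_cancel₀ hq0
    rw [h1, neg_pow (q : ℤ) (n + 1)]
    ring
  have h4 : 1 ≤ q ^ (n + 1) := Nat.one_le_pow _ _ (by omega)
  zify
  rw [h3]
  split_ifs with h
  · rw [h.neg_one_pow]
  · rw [(Nat.not_even_iff_odd.mp h).neg_one_pow]; push_cast [h4]; ring

lemma cnt_succ_zero (hq : QConj σ q) (n : ℕ) :
    cnt σ (n + 1) 0 = (if Even (n + 1) then (q ^ (n + 1) - 1) * (q ^ n + 1)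
      else (q ^ (n + 1) + 1) * (q ^ n - 1)) + 1 := by
  have h2 := hq.two_le
  have h1 := cnt_zero hq (n + 1)
  have hq0 : (q : ℤ) ≠ 0 := by exact_mod_cast (by omega : q ≠ 0)
  have h3 : (cnt σ (n + 1) 0 : ℤ) = q ^ (2 * n + 1) - (q - 1) * ((-1) ^ n * q ^ n) := by
    apply mul_left_cancel₀ hq0
    rw [h1, neg_pow (q : ℤ) (n + 1)]
    ring
  have h4 : 1 ≤ q ^ (n + 1) := Nat.one_le_pow _ _ (by omega)
  have h5 : 1 ≤ q ^ n := Nat.one_le_pow _ _ (by omega)
  zify
  rw [h3]
  split_ifs with h
  · have hn : Odd n := by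
      rw [Nat.even_add_one] at h
      exact Nat.not_even_iff_odd.mp h
    rw [hn.neg_one_pow]; push_cast [h4]; ring
  · have hn : Even n := by
      rw [Nat.even_add_one, not_not] at h
      exact h
    rw [hn.neg_one_pow]; push_cast [h5]; ring

/-! ### The standard form -/

/-- The standard Hermitian form. -/
noncomputable def stdH (σ : F →+* F) (n : ℕ) : (Fin n → F) →ₛₗ[σ] (Fin n → F) →ₗ[F] F where
  toFun x := ∑ i, (σ (x i)) • LinearMap.proj i
  map_add' x y := by
    rw [← Finset.sum_add_distrib]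
    exact Finset.sum_congr rfl fun i _ => by rw [Pi.add_apply, map_add, add_smul]
  map_smul' a x := by
    rw [Finset.smul_sum]
    exact Finset.sum_congr rfl fun i _ => by rw [Pi.smul_apply, smul_eq_mul, map_mul, mul_smul]

lemma stdH_apply (σ : F →+* F) {n : ℕ} (x y : Fin n → F) :
    stdH σ n x y = ∑ i, σ (x i) * y i := by
  change (∑ i, (σ (x i)) • (LinearMap.proj i : (Fin n → F) →ₗ[F] F)) y = _
  rw [LinearMap.sum_apply]
  rfl

lemma stdH_single (σ : F →+* F) {n : ℕ} (i j : Fin n) :
    stdH σ n (Pi.single i 1) (Pi.single j 1) = if i = j then 1 else 0 := by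
  rw [stdH_apply, Finset.sum_eq_single j]
  · rw [Pi.single_eq_same, mul_one]
    by_cases h : i = j
    · subst h; simp
    · rw [if_neg h, Pi.single_eq_of_ne (Ne.symm h), map_zero]
  · intro k _ hk
    rw [Pi.single_eq_of_ne hk, mul_zero]
  · intro h
    exact absurd (Finset.mem_univ j) h

lemma stdH_hform (hq : QConj σ q) (n : ℕ) : HForm (stdH σ n) := by
  constructor
  · intro x y
    rw [stdH_apply, stdH_apply, map_sum]
    exact Finset.sum_congr rfl fun i _ => by rw [map_mul, hq.invol, mul_comm]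
  · intro x hx
    funext i
    have h1 := hx (Pi.single i 1)
    rw [stdH_apply, Finset.sum_eq_single i] at h1
    · rw [Pi.single_eq_same, mul_one] at h1
      exact (map_eq_zero σ).mp h1
    · intro k _ hk
      rw [Pi.single_eq_of_ne hk, mul_zero]
    · intro h
      exact absurd (Finset.mem_univ i) h

lemma hermForm_eq (hq : QConj σ q) {n : ℕ} (u v : Fin n → F) :
    hermForm n F q u v = stdH σ n v u := by
  rw [hermForm, stdH_apply]
  exact Finset.sum_congr rfl fun i _ => by rw [hq.pow, mul_comm]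

/-- Number of vectors of given norm in any space. -/
lemma card_norm_eq [FiniteDimensional F V] {B : V →ₛₗ[σ] V →ₗ[F] F} (hq : QConj σ q)
    (h : HForm B) (c : F) {n : ℕ} (hV : finrank F V = n) :
    Nat.card {v : V // B v v = c} = cnt σ n c := by
  obtain ⟨e, he⟩ := exists_isometry hq h (stdH_hform hq n) (by rw [hV]; simp)
  apply Nat.card_congr
  refine Equiv.subtypeEquiv e.toEquiv ?_
  intro v
  change B v v = c ↔ ∑ i, e v i * σ (e v i) = c
  rw [← he, stdH_apply]
  have : ∑ i, σ (e v i) * e v i = ∑ i, e v i * σ (e v i) :=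
    Finset.sum_congr rfl fun i _ => mul_comm _ _
  rw [this]

/-- `GU_n` as a group of linear automorphisms. -/
noncomputable def GUEquiv (hq : QConj σ q) (n : ℕ) : GU n F q ≃* U (stdH σ n) :=
  ((CfsgLib.Quad.glEquiv (Fin n) F).subgroupMap (GU n F q)).trans (MulEquiv.subgroupCongr (by
    ext g
    rw [Subgroup.mem_map]
    constructor
    · rintro ⟨h, hh, rfl⟩
      rw [mem_U]
      intro x y
      change stdH σ n (CfsgLib.Quad.glEquiv (Fin n) F h x) (CfsgLib.Quad.glEquiv (Fin n) F h y) = _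
      rw [CfsgLib.Quad.glEquiv_apply, CfsgLib.Quad.glEquiv_apply]
      have := hh y x
      rw [hermForm_eq hq, hermForm_eq hq] at this
      exact this
    · intro hg
      refine ⟨(CfsgLib.Quad.glEquiv (Fin n) F).symm g, ?_, by simp⟩
      intro x y
      rw [hermForm_eq hq, hermForm_eq hq]
      change stdH σ n (((CfsgLib.Quad.glEquiv (Fin n) F).symm g : Matrix (Fin n) (Fin n) F).mulVec y)
        (((CfsgLib.Quad.glEquiv (Fin n) F).symm g : Matrix (Fin n) (Fin n) F).mulVec x) = _
      rw [← CfsgLib.Quad.glEquiv_apply, ← CfsgLib.Quad.glEquiv_apply, MulEquiv.apply_symm_apply]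
      exact mem_U.mp hg y x))

lemma GUEquiv_apply (hq : QConj σ q) {n : ℕ} (g : GU n F q) (v : Fin n → F) :
    (GUEquiv hq n g : (Fin n → F) ≃ₗ[F] (Fin n → F)) v =
      ((g : GL (Fin n) F) : Matrix (Fin n) (Fin n) F).mulVec v :=
  CfsgLib.Quad.glEquiv_apply (g : GL (Fin n) F) v

/-- Orthogonal sum decompositions. -/
lemma isOrthoSum_of_perp {B : V →ₛₗ[σ] V →ₗ[F] F} (h : HForm B) {W W' : Submodule F V}
    (hW : ∀ x ∈ W, ∀ y ∈ W', B x y = 0) : IsOrthoSum (fun x y => B x y) W W' := by
  intro a ha b hb c hc d hd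
  have h1 : B a d = 0 := hW a ha d hd
  have h2 : B b c = 0 := h.eq_zero_comm (hW c hc b hb)
  change B (a + b) (c + d) = B a c + B b d
  rw [map_add_left, map_add_right, map_add_right, h1, h2]
  ring

lemma fix_preserves_perp {B : V →ₛₗ[σ] V →ₗ[F] F} {W : Submodule F V} :
    ∀ g ∈ isomFix (fun x y => B x y) W, ∀ x ∈ perp B W, g x ∈ perp B W := by
  intro g hg x hx y hy
  have h1 := (mem_isomFix.mp hg).2 y hy
  have h2 : B (g y) (g x) = B y x := (mem_isomFix.mp hg).1 y x
  rw [h1, hx y hy] at h2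
  exact h2

/-- Orbit-stabiliser for vectors of norm one. -/
lemma card_U_succ [Finite F] [FiniteDimensional F V] {B : V →ₛₗ[σ] V →ₗ[F] F} (hq : QConj σ q)
    (h : HForm B) {v : V} (hv : B v v = 1) :
    Nat.card (U B) = Nat.card {w : V // B w w = 1} * Nat.card (U (resB B (perp B (F ∙ v)))) := by
  have hv1 : B v v ≠ 0 := by rw [hv]; exact one_ne_zero
  have hv0 : v ≠ 0 := by rintro rfl; exact hv1 (map_zero_left B _)
  have h1 := card_isomF_eq (F := F) (f := fun x y => B x y) (fun _ : Fin 1 => v)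
    {w | B (w 0) (w 0) = 1} (by
      intro w
      constructor
      · intro hw
        have hw1 : B (w 0) (w 0) = 1 := hw
        have hw0 : w 0 ≠ 0 := by
          intro h0
          rw [h0, map_zero_left] at hw1
          exact zero_ne_one hw1
        obtain ⟨g, hg, hgv⟩ := h.exists_family hq (fun _ : Fin 1 => v) w
          (LinearIndependent.of_subsingleton 0 hv0) (LinearIndependent.of_subsingleton 0 hw0) (by
            intro i j
            rw [Subsingleton.elim i 0, Subsingleton.elim j 0, hv, hw1])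
        exact ⟨g, hg, hgv⟩
      · rintro ⟨g, hg, hgw⟩
        change B (w 0) (w 0) = 1
        rw [← hgw 0]
        have := mem_U.mp hg v v
        rw [this, hv])
  have h2 : Set.range (fun _ : Fin 1 => v) = {v} := Set.range_const
  rw [h2] at h1
  have e := fixEquiv (isCompl_span h hv1) (isOrthoSum_of_perp h fun x hx y hy => hy x hx)
    fix_preserves_perp
  rw [U, h1, ← Nat.card_congr e.toEquiv]
  congr 1
  apply Nat.card_congr
  exact
    { toFun := fun w => ⟨w.1 0, w.2⟩
      invFun := fun w => ⟨fun _ => w.1, w.2⟩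
      left_inv := fun w => Subtype.ext (funext fun i => by rw [Subsingleton.elim i 0])
      right_inv := fun w => rfl }

/-- The order of the unitary group. -/
theorem card_U (hq : QConj σ q) (n : ℕ) : ∀ (V : Type _) [AddCommGroup V] [Module F V]
    [FiniteDimensional F V] (B : V →ₛₗ[σ] V →ₗ[F] F), HForm B → finrank F V = n →
    Nat.card (U B) = q ^ (n * (n - 1) / 2) *
      ∏ i ∈ Finset.range n, (if Even i then q ^ (i + 1) + 1 else q ^ (i + 1) - 1) := by
  induction n with
  | zero =>
    intro V _ _ _ B h hV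
    have : Subsingleton V := finrank_zero_iff.mp hV
    have h1 : Nat.card (U B) = 1 := by
      rw [Nat.card_eq_one_iff_unique]
      exact ⟨⟨fun a b => Subtype.ext (LinearEquiv.ext fun x => Subsingleton.elim _ _)⟩, ⟨1⟩⟩
    rw [h1]; simp
  | succ n ih =>
    intro V _ _ _ B h hV
    have := hq.finite
    have : Nontrivial V := Module.nontrivial_of_finrank_pos (R := F) (by omega)
    obtain ⟨v, hv⟩ := h.exists_norm_eq hq (map_one σ) one_ne_zero
    have hv1 : B v v ≠ 0 := by rw [hv]; exact one_ne_zero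
    have hdim := finrank_perp_span h hv1
    rw [card_U_succ hq h hv, ih _ _ (h.perp_span hv1) (by omega), card_norm_eq hq h 1 hV,
      cnt_succ_of_ne hq (map_one σ) one_ne_zero, Finset.prod_range_succ]
    have e : (n + 1) * (n + 1 - 1) / 2 = n * (n - 1) / 2 + n := by
      rcases Nat.eq_zero_or_pos n with rfl | hn
      · rfl
      · obtain ⟨m, rfl⟩ := Nat.exists_eq_add_of_le hn
        have e1 : (1 + m + 1) * (1 + m + 1 - 1) = (1 + m) * (1 + m - 1) + (1 + m) * 2 := by
          have : 1 + m + 1 - 1 = 1 + m := by omega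
          have h3 : 1 + m - 1 = m := by omega
          rw [this, h3]; ring
        rw [e1, Nat.add_mul_div_right _ _ (by norm_num)]
    rw [e, pow_add]
    ring

/-! ### Determinants -/

/-- The determinant of a unitary map. -/
theorem det_norm [FiniteDimensional F V] {B : V →ₛₗ[σ] V →ₗ[F] F} (hq : QConj σ q) (h : HForm B)
    {g : V ≃ₗ[F] V} (hg : g ∈ U B) :
    σ (LinearMap.det (g : V →ₗ[F] V)) * LinearMap.det (g : V →ₗ[F] V) = 1 := by
  obtain ⟨b, hb⟩ := h.exists_orthonormal hq rfl
  set M := LinearMap.toMatrix b b (g : V →ₗ[F] V) with hM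
  have hMij : ∀ i j, M i j = B (b i) (g (b j)) := by
    intro i j
    rw [hM, LinearMap.toMatrix_apply]
    conv_rhs => rw [← b.sum_repr (g (b j))]
    rw [map_sum]
    simp only [map_smul_right, hb]
    simp
  have h1 : (M.map σ).transpose * M = 1 := by
    ext i j
    rw [Matrix.mul_apply]
    simp only [Matrix.transpose_apply, Matrix.map_apply]
    have h2 : B (g (b i)) (g (b j)) = B (b i) (b j) := mem_U.mp hg _ _
    rw [hb] at h2
    rw [Matrix.one_apply, ← h2]
    conv_rhs => rw [← b.sum_repr (g (b i))]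
    rw [map_sum, LinearMap.sum_apply]
    refine Finset.sum_congr rfl fun k _ => ?_
    rw [map_smul_left, hMij k j, hM, LinearMap.toMatrix_apply]
    rfl
  have h2 := congrArg Matrix.det h1
  rw [Matrix.det_mul, Matrix.det_transpose, Matrix.det_one] at h2
  have h3 : (M.map σ).det = σ M.det := (RingHom.map_det σ M).symm
  rw [h3, hM, LinearMap.det_toMatrix] at h2
  exact h2

lemma det_trT [FiniteDimensional F V] (B : V →ₛₗ[σ] V →ₗ[F] F) (u : V) (a : F) :
    LinearMap.det (trT B u a) = 1 + a * B u u := by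
  have h1 : trT B u a = LinearMap.transvection (a • B u) u := by
    ext x
    rw [trT_apply, LinearMap.transvection.apply]
    rfl
  rw [h1, LinearMap.transvection.det]
  rfl

/-- The special unitary group, as a group of linear automorphisms. -/
noncomputable def SUL (B : V →ₛₗ[σ] V →ₗ[F] F) : Subgroup (V ≃ₗ[F] V) := U B ⊓ (LinearEquiv.det).ker

lemma mem_SUL {B : V →ₛₗ[σ] V →ₗ[F] F} {g : V ≃ₗ[F] V} :
    g ∈ SUL B ↔ g ∈ U B ∧ LinearMap.det (g : V →ₗ[F] V) = 1 := by
  rw [SUL, Subgroup.mem_inf, MonoidHom.mem_ker, ← LinearEquiv.coe_det, Units.ext_iff,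
    Units.val_one]

/-- A quasi-reflection. -/
noncomputable def qrefl [FiniteDimensional F V] {B : V →ₛₗ[σ] V →ₗ[F] F} (h : HForm B) {v : V}
    (hv : B v v = 1) {c : F} (hc : c * σ c = 1) : V ≃ₗ[F] V :=
  ofIsomH h (trT B v (c - 1)) (trT_isom h (by
    rw [hv, map_sub, map_one]
    linear_combination hc))

lemma qrefl_apply [FiniteDimensional F V] {B : V →ₛₗ[σ] V →ₗ[F] F} (h : HForm B) {v : V}
    (hv : B v v = 1) {c : F} (hc : c * σ c = 1) (x : V) :
    qrefl h hv hc x = x + ((c - 1) * B v x) • v := rfl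

lemma qrefl_mem [FiniteDimensional F V] {B : V →ₛₗ[σ] V →ₗ[F] F} (h : HForm B) {v : V}
    (hv : B v v = 1) {c : F} (hc : c * σ c = 1) : qrefl h hv hc ∈ U B := ofIsomH_mem _ _ _

lemma det_qrefl [FiniteDimensional F V] {B : V →ₛₗ[σ] V →ₗ[F] F} (h : HForm B) {v : V}
    (hv : B v v = 1) {c : F} (hc : c * σ c = 1) :
    LinearMap.det (qrefl h hv hc : V →ₗ[F] V) = c := by
  have h1 : (qrefl h hv hc : V →ₗ[F] V) = trT B v (c - 1) := rfl
  rw [h1, det_trT, hv]
  ring

/-- The determinant as a homomorphism to the norm one group. -/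
noncomputable def normOne (σ : F →+* F) : Subgroup Fˣ where
  carrier := {u | (u : F) * σ u = 1}
  mul_mem' := fun {a b} ha hb => by
    change ((a * b : Fˣ) : F) * σ ((a * b : Fˣ) : F) = 1
    have ha' : (a : F) * σ a = 1 := ha
    have hb' : (b : F) * σ b = 1 := hb
    rw [Units.val_mul, map_mul]
    linear_combination ((b : F) * σ b) * ha' + hb'
  one_mem' := by
    change ((1 : Fˣ) : F) * σ ((1 : Fˣ) : F) = 1
    rw [Units.val_one, map_one, mul_one]
  inv_mem' := fun {a} ha => by
    change ((a⁻¹ : Fˣ) : F) * σ ((a⁻¹ : Fˣ) : F) = 1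
    have ha' : (a : F) * σ a = 1 := ha
    rw [Units.val_inv_eq_inv_val, map_inv₀, ← mul_inv, ha', inv_one]

lemma mem_normOne {u : Fˣ} : u ∈ normOne σ ↔ (u : F) * σ u = 1 := Iff.rfl

lemma card_normOne (hq : QConj σ q) : Nat.card (normOne σ) = q + 1 := by
  rw [← hq.card_norm_one]
  apply Nat.card_congr
  refine ⟨fun u => ⟨(u.1 : F), u.2⟩, fun a => ⟨Units.mk0 a.1 ?_, a.2⟩, ?_, ?_⟩
  · intro h
    have := a.2
    rw [h, zero_mul] at this
    exact zero_ne_one this
  · intro u
    exact Subtype.ext (Units.ext rfl)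
  · intro a
    exact Subtype.ext rfl

/-- The determinant on the unitary group. -/
noncomputable def detU [FiniteDimensional F V] {B : V →ₛₗ[σ] V →ₗ[F] F} (hq : QConj σ q)
    (h : HForm B) : U B →* normOne σ where
  toFun g := ⟨LinearEquiv.det (g : V ≃ₗ[F] V), by
    rw [mem_normOne, LinearEquiv.coe_det, mul_comm]
    exact det_norm hq h g.2⟩
  map_one' := Subtype.ext (map_one _)
  map_mul' a b := Subtype.ext (map_mul _ _ _)

lemma detU_surjective [FiniteDimensional F V] {B : V →ₛₗ[σ] V →ₗ[F] F} (hq : QConj σ q)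
    (h : HForm B) [Nontrivial V] : Function.Surjective (detU hq h) := by
  intro c
  obtain ⟨v, hv⟩ := h.exists_norm_eq hq (map_one σ) one_ne_zero
  have hc := mem_normOne.mp c.2
  refine ⟨⟨qrefl h hv hc, qrefl_mem h hv hc⟩, ?_⟩
  apply Subtype.ext
  apply Units.ext
  change ((LinearEquiv.det (qrefl h hv hc) : Fˣ) : F) = _
  rw [LinearEquiv.coe_det, det_qrefl]

/-- The special unitary group as the kernel of the determinant. -/
noncomputable def SULEquiv [FiniteDimensional F V] {B : V →ₛₗ[σ] V →ₗ[F] F} (hq : QConj σ q)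
    (h : HForm B) : (detU hq h).ker ≃* SUL B where
  toFun g := ⟨g.1.1, g.1.2, by
    have := congrArg Subtype.val (MonoidHom.mem_ker.mp g.2)
    exact this⟩
  invFun g := ⟨⟨g.1, g.2.1⟩, by
    rw [MonoidHom.mem_ker]
    exact Subtype.ext g.2.2⟩
  left_inv g := rfl
  right_inv g := rfl
  map_mul' a b := rfl

lemma card_SUL [FiniteDimensional F V] {B : V →ₛₗ[σ] V →ₗ[F] F} (hq : QConj σ q)
    (h : HForm B) [Nontrivial V] : (q + 1) * Nat.card (SUL B) = Nat.card (U B) := by
  have h1 := Subgroup.card_mul_index (detU hq h).ker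
  rw [Subgroup.index_ker, MonoidHom.range_eq_top.mpr (detU_surjective hq h), Subgroup.card_top,
    card_normOne hq, Nat.card_congr (SULEquiv hq h).toEquiv] at h1
  rw [← h1, mul_comm]

/-- `SU_n` as a group of linear automorphisms. -/
noncomputable def slHom (n : ℕ) (F : Type*) [Field F] :
    Matrix.SpecialLinearGroup (Fin n) F →* ((Fin n → F) ≃ₗ[F] (Fin n → F)) :=
  (CfsgLib.Quad.glEquiv (Fin n) F).toMonoidHom.comp Matrix.SpecialLinearGroup.toGL

lemma slHom_apply {n : ℕ} (A : Matrix.SpecialLinearGroup (Fin n) F) (v : Fin n → F) :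
    slHom n F A v = (A : Matrix (Fin n) (Fin n) F).mulVec v :=
  CfsgLib.Quad.glEquiv_apply _ v

lemma slHom_injective (n : ℕ) : Function.Injective (slHom n F) := by
  intro A A' hAA
  apply (CfsgLib.Linear.toGL_injective' (ι := Fin n) (F := F))
  exact (CfsgLib.Quad.glEquiv (Fin n) F).injective hAA

lemma det_glEquiv {n : ℕ} (g : GL (Fin n) F) :
    LinearMap.det ((CfsgLib.Quad.glEquiv (Fin n) F g : (Fin n → F) ≃ₗ[F] (Fin n → F)) :
      (Fin n → F) →ₗ[F] (Fin n → F)) = (g : Matrix (Fin n) (Fin n) F).det := by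
  rw [← LinearMap.det_toLin']
  rfl

noncomputable def SUEquiv (hq : QConj σ q) (n : ℕ) : SU n F q ≃* SUL (stdH σ n) :=
  ((SU n F q).equivMapOfInjective (slHom n F) (slHom_injective n)).trans
    (MulEquiv.subgroupCongr (by
    ext g
    rw [Subgroup.mem_map, mem_SUL]
    constructor
    · rintro ⟨A, hA, rfl⟩
      refine ⟨?_, ?_⟩
      · rw [mem_U]
        intro x y
        rw [slHom_apply, slHom_apply]
        have := hA y x
        rw [hermForm_eq hq, hermForm_eq hq] at this
        exact this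
      · have := det_glEquiv (Matrix.SpecialLinearGroup.toGL A)
        change LinearMap.det ((CfsgLib.Quad.glEquiv (Fin n) F
          (Matrix.SpecialLinearGroup.toGL A) : (Fin n → F) ≃ₗ[F] (Fin n → F)) :
          (Fin n → F) →ₗ[F] (Fin n → F)) = 1
        rw [this]
        exact A.2
    · rintro ⟨hg, hdet⟩
      obtain ⟨A, rfl⟩ := (CfsgLib.Quad.glEquiv (Fin n) F).surjective g
      rw [det_glEquiv] at hdet
      refine ⟨⟨(A : Matrix (Fin n) (Fin n) F), hdet⟩, ?_, ?_⟩
      · intro x y
        rw [hermForm_eq hq, hermForm_eq hq]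
        have := mem_U.mp hg y x
        rw [CfsgLib.Quad.glEquiv_apply, CfsgLib.Quad.glEquiv_apply] at this
        exact this
      · change CfsgLib.Quad.glEquiv (Fin n) F (Matrix.SpecialLinearGroup.toGL
          ⟨(A : Matrix (Fin n) (Fin n) F), hdet⟩) = _
        congr 1
        apply Units.ext
        rfl))

lemma SUEquiv_apply (hq : QConj σ q) {n : ℕ} (A : SU n F q) (v : Fin n → F) :
    (SUEquiv hq n A : (Fin n → F) ≃ₗ[F] (Fin n → F)) v =
      ((A : Matrix.SpecialLinearGroup (Fin n) F) : Matrix (Fin n) (Fin n) F).mulVec v :=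
  slHom_apply (A : Matrix.SpecialLinearGroup (Fin n) F) v

end CfsgLib.Herm
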