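import Cfsg.Agent.Lib.Herm3

/-!
# Hermitian forms over finite fields IV: transvections and generation of the special unitary group
-/

namespace CfsgLib.Herm

open Module CfsgLib.IsomDecomp Cfsg

set_option linter.unusedSimpArgs false
set_option linter.unusedSectionVars false

variable {F V : Type*} [Field F] [AddCommGroup V] [Module F V]
variable {σ : F →+* F} {q : ℕ} {B : V →ₛₗ[σ] V →ₗ[F] F}

lemma unitaryTransvection_mulVec (hq : QConj σ q) {n : ℕ} (v x : Fin n → F) (c : F) :
    (unitaryTransvection n q v c).mulVec x = trT (stdH σ n) v c x := by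
  rw [unitaryTransvection, Matrix.add_mulVec, Matrix.one_mulVec, Matrix.smul_mulVec,
    Matrix.vecMulVec_mulVec, trT_apply, stdH_apply]
  congr 1
  funext i
  simp only [Pi.smul_apply, smul_eq_mul, dotProduct, MulOpposite.smul_eq_mul_unop, hq.pow]
  simp
  ring

lemma trT_isom_iff (hq : QConj σ q) (h : HForm B) {v : V} (hv : v ≠ 0) (hv0 : B v v = 0) {c : F} :
    (∀ x y, B (trT B v c x) (trT B v c y) = B x y) ↔ c + σ c = 0 := by
  constructor
  · intro hT
    obtain ⟨y, hy⟩ : ∃ y, B v y ≠ 0 := by
      by_contra h2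
      push Not at h2
      exact hv (h.nd v h2)
    have h1 := hT y y
    rw [trT_apply] at h1
    simp only [map_add_left, map_add_right, map_smul_left, map_smul_right, map_mul, h.symm v y,
      hv0] at h1
    have h2 : (B y v * B v y) * (c + σ c) = 0 := by linear_combination h1
    exact (mul_eq_zero.mp h2).resolve_left
      (mul_ne_zero (fun h0 => hy (h.eq_zero_comm h0)) hy)
  · intro hc
    exact trT_isom h (by rw [hv0, mul_zero, add_zero, hc])

lemma trace_zero_iff (hq : QConj σ q) {c : F} : c + σ c = 0 ↔ (c = 0 ∨ c ^ (q - 1) = -1) := by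
  have h2 := hq.two_le
  have h3 : c ^ q = c ^ (q - 1) * c := by rw [← pow_succ]; congr 1; omega
  rw [hq.pow, h3]
  constructor
  · intro h
    by_cases hc : c = 0
    · exact Or.inl hc
    · right
      have h4 : (c ^ (q - 1) + 1) * c = 0 := by linear_combination h
      have := (mul_eq_zero.mp h4).resolve_right hc
      linear_combination this
  · rintro (h | h)
    · rw [h]; ring
    · rw [h]; ring


/-! ### Siegel transformations -/

/-- The map `x ↦ x + B(u,x) y + (c B(u,x) - B(y,x)) u`. -/
noncomputable def siT (B : V →ₛₗ[σ] V →ₗ[F] F) (u y : V) (c : F) : V →ₗ[F] V :=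
  LinearMap.id + LinearMap.smulRight (B u) y + LinearMap.smulRight (c • B u - B y) u

lemma siT_apply (u y : V) (c : F) (x : V) :
    siT B u y c x = x + B u x • y + (c * B u x - B y x) • u := rfl

lemma siT_isom (h : HForm B) {u y : V} {c : F} (hu : B u u = 0) (huy : B u y = 0)
    (hc : c + σ c + B y y = 0) (x z : V) : B (siT B u y c x) (siT B u y c z) = B x z := by
  have hyu : B y u = 0 := h.eq_zero_comm huy
  rw [siT_apply, siT_apply]
  simp only [map_add_left, map_add_right, map_smul_left, map_smul_right, map_mul, map_sub,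
    h.symm u x, h.symm y x, hu, huy, hyu]
  linear_combination (B x u * B u z) * hc

lemma det_siT [FiniteDimensional F V] (h : HForm B) {u y : V} {c : F} (hu : B u u = 0)
    (huy : B u y = 0) : LinearMap.det (siT B u y c) = 1 := by
  have hyu : B y u = 0 := h.eq_zero_comm huy
  have h1 : siT B u y c = (LinearMap.transvection ((c + B y y) • B u - B y) u).comp
      (LinearMap.transvection (B u) y) := by
    ext x
    rw [siT_apply, LinearMap.comp_apply, LinearMap.transvection.apply,
      LinearMap.transvection.apply]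
    simp only [LinearMap.sub_apply, LinearMap.smul_apply, LinearMap.map_add, LinearMap.map_smul,
      huy, smul_eq_mul]
    module
  rw [h1, LinearMap.det_comp, LinearMap.transvection.det, LinearMap.transvection.det]
  simp only [LinearMap.sub_apply, LinearMap.smul_apply, hu, huy, hyu, smul_eq_mul]
  ring

/-- Siegel transformations as automorphisms. -/
noncomputable def siH [FiniteDimensional F V] (h : HForm B) {u y : V} {c : F} (hu : B u u = 0)
    (huy : B u y = 0) (hc : c + σ c + B y y = 0) : V ≃ₗ[F] V :=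
  ofIsomH h (siT B u y c) (siT_isom h hu huy hc)

lemma siH_apply [FiniteDimensional F V] (h : HForm B) {u y : V} {c : F} (hu : B u u = 0)
    (huy : B u y = 0) (hc : c + σ c + B y y = 0) (x : V) :
    siH h hu huy hc x = x + B u x • y + (c * B u x - B y x) • u := rfl

lemma siH_mem [FiniteDimensional F V] (h : HForm B) {u y : V} {c : F} (hu : B u u = 0)
    (huy : B u y = 0) (hc : c + σ c + B y y = 0) : siH h hu huy hc ∈ SUL B :=
  mem_SUL.mpr ⟨ofIsomH_mem _ _ _, det_siT h hu huy⟩

/-- Transvections as automorphisms. -/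
noncomputable def tvH [FiniteDimensional F V] (h : HForm B) {u : V} {c : F} (hu : B u u = 0)
    (hc : c + σ c = 0) : V ≃ₗ[F] V :=
  ofIsomH h (trT B u c) (trT_isom h (by rw [hu, mul_zero, add_zero, hc]))

lemma tvH_apply [FiniteDimensional F V] (h : HForm B) {u : V} {c : F} (hu : B u u = 0)
    (hc : c + σ c = 0) (x : V) : tvH h hu hc x = x + (c * B u x) • u := rfl

lemma tvH_mem [FiniteDimensional F V] (h : HForm B) {u : V} {c : F} (hu : B u u = 0)
    (hc : c + σ c = 0) : tvH h hu hc ∈ SUL B :=
  mem_SUL.mpr ⟨ofIsomH_mem _ _ _, by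
    change LinearMap.det (trT B u c) = 1
    rw [det_trT, hu, mul_zero, add_zero]⟩

/-- Being a transvection. -/
def IsTv (B : V →ₛₗ[σ] V →ₗ[F] F) (g : V ≃ₗ[F] V) : Prop :=
  ∃ (u : V) (c : F), B u u = 0 ∧ c + σ c = 0 ∧ ∀ x, g x = x + (c * B u x) • u

/-- Being a Siegel transformation. -/
def IsSi (B : V →ₛₗ[σ] V →ₗ[F] F) (g : V ≃ₗ[F] V) : Prop :=
  ∃ (u y : V) (c : F), B u u = 0 ∧ B u y = 0 ∧ c + σ c + B y y = 0 ∧
    ∀ x, g x = x + B u x • y + (c * B u x - B y x) • u

/-- The group generated by the transvections. -/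
def TG (B : V →ₛₗ[σ] V →ₗ[F] F) : Subgroup (V ≃ₗ[F] V) := Subgroup.closure {g | IsTv B g}

/-- The group generated by the Siegel transformations. -/
def EG (B : V →ₛₗ[σ] V →ₗ[F] F) : Subgroup (V ≃ₗ[F] V) := Subgroup.closure {g | IsSi B g}

lemma tvH_mem_TG [FiniteDimensional F V] (h : HForm B) {u : V} {c : F} (hu : B u u = 0)
    (hc : c + σ c = 0) : tvH h hu hc ∈ TG B :=
  Subgroup.subset_closure ⟨u, c, hu, hc, fun x => rfl⟩

lemma siH_mem_EG [FiniteDimensional F V] (h : HForm B) {u y : V} {c : F} (hu : B u u = 0)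
    (huy : B u y = 0) (hc : c + σ c + B y y = 0) : siH h hu huy hc ∈ EG B :=
  Subgroup.subset_closure ⟨u, y, c, hu, huy, hc, fun x => rfl⟩

lemma TG_le_EG (B : V →ₛₗ[σ] V →ₗ[F] F) : TG B ≤ EG B := by
  rw [TG, Subgroup.closure_le]
  rintro g ⟨u, c, hu, hc, hg⟩
  refine Subgroup.subset_closure ⟨u, 0, c, hu, LinearMap.map_zero _, ?_, ?_⟩
  · rw [map_zero_left, add_zero, hc]
  · intro x
    rw [hg, map_zero_left, smul_zero, add_zero, sub_zero]

lemma EG_le_SUL [FiniteDimensional F V] (h : HForm B) : EG B ≤ SUL B := by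
  rw [EG, Subgroup.closure_le]
  rintro g ⟨u, y, c, hu, huy, hc, hg⟩
  have : g = siH h hu huy hc := LinearEquiv.ext hg
  rw [this]
  exact siH_mem h hu huy hc

lemma TG_le_SUL [FiniteDimensional F V] (h : HForm B) : TG B ≤ SUL B :=
  (TG_le_EG B).trans (EG_le_SUL h)

/-! ### Gluing -/

lemma glue_mem_TG (h : HForm B) {W W' : Submodule F V} (hW : IsCompl W W')
    (hperp : ∀ x ∈ W, ∀ y ∈ W', B x y = 0) {g : W ≃ₗ[F] W} (hg : g ∈ TG (resB B W)) :
    glue hW (g, 1) ∈ TG B := by
  have key : TG (resB B W) ≤ (TG B).comap ((glue hW).comp (MonoidHom.inl _ _)) := by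
    rw [TG, Subgroup.closure_le]
    rintro g ⟨u, c, hu, hc, hg⟩
    refine Subgroup.subset_closure ⟨u, c, hu, hc, fun x => ?_⟩
    obtain ⟨a, b, rfl⟩ := exists_add_of_isCompl hW x
    change glue hW (g, 1) (a + b : V) = _
    rw [glue_apply, map_add_right, hperp u.1 u.2 b.1 b.2, add_zero]
    have h1 := congrArg Subtype.val (hg a)
    change (g a : V) = (a : V) + (c * B (u : V) (a : V)) • (u : V) at h1
    change (g a : V) + (b : V) = _
    rw [h1]
    abel
  exact key hg

lemma glue_mem_EG (h : HForm B) {W W' : Submodule F V} (hW : IsCompl W W')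
    (hperp : ∀ x ∈ W, ∀ y ∈ W', B x y = 0) {g : W ≃ₗ[F] W} (hg : g ∈ EG (resB B W)) :
    glue hW (g, 1) ∈ EG B := by
  have key : EG (resB B W) ≤ (EG B).comap ((glue hW).comp (MonoidHom.inl _ _)) := by
    rw [EG, Subgroup.closure_le]
    rintro g ⟨u, y, c, hu, huy, hc, hg⟩
    refine Subgroup.subset_closure ⟨u, y, c, hu, huy, hc, fun x => ?_⟩
    obtain ⟨a, b, rfl⟩ := exists_add_of_isCompl hW x
    change glue hW (g, 1) (a + b : V) = _
    rw [glue_apply, map_add_right, map_add_right, hperp u.1 u.2 b.1 b.2,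
      hperp y.1 y.2 b.1 b.2, add_zero, add_zero]
    have h1 := congrArg Subtype.val (hg a)
    change (g a : V) = (a : V) + B (u : V) (a : V) • (y : V) +
      (c * B (u : V) (a : V) - B (y : V) (a : V)) • (u : V) at h1
    change (g a : V) + (b : V) = _
    rw [h1]
    abel
  exact key hg

/-! ### Orthogonal complements of non-degenerate subspaces -/

/-- Complement of a non-degenerate subspace. -/
lemma isCompl_perp [FiniteDimensional F V] (hq : QConj σ q) (h : HForm B) {W : Submodule F V}
    (hW : HForm (resB B W)) : IsCompl W (perp B W) := by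
  constructor
  · rw [Submodule.disjoint_def]
    intro x hx hx'
    have h1 : (⟨x, hx⟩ : W) = 0 := hW.nd _ fun y => by
      rw [resB_apply]
      exact h.eq_zero_comm (hx' y.1 y.2)
    exact congrArg Subtype.val h1
  · rw [codisjoint_iff, eq_top_iff]
    intro x _
    obtain ⟨b, hb⟩ := hW.exists_orthonormal hq rfl
    rw [Submodule.mem_sup]
    set p := ∑ i, B (b i : V) x • (b i : V) with hp
    have hpW : p ∈ W := Submodule.sum_mem _ fun i _ => W.smul_mem _ (b i).2
    refine ⟨p, hpW, x - p, ?_, by abel⟩
    intro y hy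
    have h1 : ∀ i, B (b i : V) (x - p) = 0 := by
      intro i
      rw [map_sub_right, hp, map_sum]
      simp only [map_smul_right]
      have h2 : ∀ j, B (b j : V) x * B (b i : V) (b j : V) =
          if i = j then B (b j : V) x else 0 := by
        intro j
        have := hb i j
        rw [resB_apply] at this
        rw [this]
        split_ifs <;> simp
      rw [Finset.sum_congr rfl fun j _ => h2 j]
      simp
    have h3 : ((⟨y, hy⟩ : W) : V) = y := rfl
    rw [← h3, ← b.sum_repr ⟨y, hy⟩, Submodule.coe_sum, map_sum, LinearMap.sum_apply]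
    apply Finset.sum_eq_zero
    intro i _
    rw [Submodule.coe_smul, map_smul_left, h1, mul_zero]

lemma perp_hform [FiniteDimensional F V] (hq : QConj σ q) (h : HForm B) {W : Submodule F V}
    (hW : HForm (resB B W)) : HForm (resB B (perp B W)) :=
  h.restrict_right (isCompl_perp hq h hW) fun x hx y hy => hy x hx

/-! ### Isotropic vectors and hyperbolic pairs -/

/-- Existence of isotropic vectors. -/
lemma HForm.exists_isotropic [FiniteDimensional F V] (hq : QConj σ q) (h : HForm B)
    (hV : 2 ≤ finrank F V) : ∃ e : V, e ≠ 0 ∧ B e e = 0 := by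
  obtain ⟨b, hb⟩ := h.exists_orthonormal hq rfl
  obtain ⟨a, ha⟩ := hq.exists_norm (c := -1) (by rw [map_neg, map_one])
  have h01 : (⟨0, by omega⟩ : Fin (finrank F V)) ≠ ⟨1, by omega⟩ := by
    intro h0
    have := congrArg Fin.val h0
    simp at this
  refine ⟨b ⟨0, by omega⟩ + a • b ⟨1, by omega⟩, ?_, ?_⟩
  · intro h0
    have h1 := congrArg (fun x => b.repr x ⟨0, by omega⟩) h0
    simp [Finsupp.single_apply, h01.symm] at h1
  · rw [map_add_left, map_add_right, map_add_right, map_smul_left, map_smul_left, map_smul_right,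
      map_smul_right, hb, hb, hb, hb, if_pos rfl, if_neg h01, if_neg h01.symm, if_pos rfl]
    linear_combination ha

/-- Existence of a hyperbolic partner. -/
lemma HForm.exists_partner (hq : QConj σ q) (h : HForm B) {e : V} (he0 : e ≠ 0)
    (he : B e e = 0) : ∃ f, B f f = 0 ∧ B e f = 1 := by
  obtain ⟨y, hy⟩ : ∃ y, B e y ≠ 0 := by
    by_contra hcon
    push Not at hcon
    exact he0 (h.nd e hcon)
  obtain ⟨z, hz⟩ : ∃ z, B e z = 1 := ⟨(B e y)⁻¹ • y, by
    rw [map_smul_right, inv_mul_cancel₀ hy]⟩
  have hz' : B z e = 1 := by rw [← h.symm, hz, map_one]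
  obtain ⟨a, ha⟩ := hq.exists_trace (c := - B z z) (by rw [map_neg, h.self_fixed])
  refine ⟨z + a • e, ?_, ?_⟩
  · rw [map_add_left, map_add_right, map_add_right, map_smul_left, map_smul_left, map_smul_right,
      map_smul_right, he, hz, hz']
    linear_combination ha
  · rw [map_add_right, map_smul_right, he, hz]
    ring

lemma linearIndependent_hyp (h : HForm B) {e f : V} (he : B e e = 0) (hf : B f f = 0)
    (hef : B e f = 1) : LinearIndependent F ![e, f] := by
  have hfe : B f e = 1 := by rw [← h.symm, hef, map_one]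
  rw [LinearIndependent.pair_iff]
  intro s t hst
  have h1 : B e (s • e + t • f) = 0 := by rw [hst, LinearMap.map_zero]
  have h2 : B f (s • e + t • f) = 0 := by rw [hst, LinearMap.map_zero]
  rw [map_add_right, map_smul_right, map_smul_right, he, hef] at h1
  rw [map_add_right, map_smul_right, map_smul_right, hf, hfe] at h2
  constructor
  · linear_combination h2
  · linear_combination h1

/-- The orthogonal complement of a pair of vectors. -/
def hpp (B : V →ₛₗ[σ] V →ₗ[F] F) (e f : V) : Submodule F V := perp B (Submodule.span F {e, f})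

lemma mem_hpp {e f x : V} : x ∈ hpp B e f ↔ B e x = 0 ∧ B f x = 0 := by
  rw [hpp, mem_perp]
  constructor
  · intro h
    exact ⟨h e (Submodule.subset_span (by simp)), h f (Submodule.subset_span (by simp))⟩
  · rintro ⟨h1, h2⟩ w hw
    obtain ⟨a, b, rfl⟩ := Submodule.mem_span_pair.mp hw
    rw [map_add_left, map_smul_left, map_smul_left, h1, h2, mul_zero, mul_zero, add_zero]

lemma hform_pair (h : HForm B) {e f : V} (he : B e e = 0) (hf : B f f = 0) (hef : B e f = 1) :
    HForm (resB B (Submodule.span F {e, f})) := by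
  have hfe : B f e = 1 := by rw [← h.symm, hef, map_one]
  refine ⟨fun x y => h.symm _ _, fun x hx => ?_⟩
  apply Subtype.ext
  obtain ⟨a, b, hab⟩ := Submodule.mem_span_pair.mp x.2
  have h1 : B (x : V) e = 0 := hx ⟨e, Submodule.subset_span (by simp)⟩
  have h2 : B (x : V) f = 0 := hx ⟨f, Submodule.subset_span (by simp)⟩
  rw [← hab, map_add_left, map_smul_left, map_smul_left, he, hfe] at h1
  rw [← hab, map_add_left, map_smul_left, map_smul_left, hef, hf] at h2
  have hb : b = 0 := (map_eq_zero σ).mp (by linear_combination h1)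
  have ha : a = 0 := (map_eq_zero σ).mp (by linear_combination h2)
  rw [← hab, ha, hb, zero_smul, zero_smul, add_zero]
  rfl

lemma hpp_hform [FiniteDimensional F V] (hq : QConj σ q) (h : HForm B) {e f : V} (he : B e e = 0)
    (hf : B f f = 0) (hef : B e f = 1) : HForm (resB B (hpp B e f)) :=
  perp_hform hq h (hform_pair h he hf hef)

lemma finrank_hpp [FiniteDimensional F V] (hq : QConj σ q) (h : HForm B) {e f : V}
    (he : B e e = 0) (hf : B f f = 0) (hef : B e f = 1) :
    finrank F (hpp B e f) + 2 = finrank F V := by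
  have h1 := Submodule.finrank_add_eq_of_isCompl (isCompl_perp hq h (hform_pair h he hf hef))
  have h2 : finrank F (Submodule.span F {e, f}) = 2 := by
    have h3 := finrank_span_eq_card (linearIndependent_hyp h he hf hef)
    have h4 : Set.range ![e, f] = {e, f} := by
      rw [Matrix.range_cons, Matrix.range_cons, Matrix.range_empty, Set.union_empty]
      rfl
    rw [Fintype.card_fin, h4] at h3
    exact h3
  rw [h2] at h1
  rw [hpp]
  omega

/-- Decomposition with respect to a hyperbolic pair. -/
lemma hpp_decomp (h : HForm B) {e f : V} (he : B e e = 0) (hf : B f f = 0)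
    (hef : B e f = 1) (x : V) : x - B f x • e - B e x • f ∈ hpp B e f := by
  have hfe : B f e = 1 := by rw [← h.symm, hef, map_one]
  rw [mem_hpp]
  constructor
  · rw [map_sub_right, map_sub_right, map_smul_right, map_smul_right, he, hef]
    ring
  · rw [map_sub_right, map_sub_right, map_smul_right, map_smul_right, hf, hfe]
    ring

end CfsgLib.Herm
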