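import Cfsg.Agent.Lib.Herm4

/-!
# Hermitian forms over finite fields V: generation of the special unitary group
-/

namespace CfsgLib.Herm

open Module CfsgLib.IsomDecomp Cfsg

set_option linter.unusedSimpArgs false
set_option linter.unusedSectionVars false

variable {F V : Type*} [Field F] [AddCommGroup V] [Module F V] [FiniteDimensional F V]
variable {σ : F →+* F} {q : ℕ} {B : V →ₛₗ[σ] V →ₗ[F] F}

/-- The determinant of a glued map. -/
lemma det_glue {W W' : Submodule F V} (hW : IsCompl W W') (g : W ≃ₗ[F] W) (g' : W' ≃ₗ[F] W') :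
    LinearMap.det (glue hW (g, g') : V →ₗ[F] V) =
      LinearMap.det (g : W →ₗ[F] W) * LinearMap.det (g' : W' →ₗ[F] W') := by
  have h1 : ((glue hW (g, g') : V ≃ₗ[F] V) : V →ₗ[F] V) =
      (((Submodule.prodEquivOfIsCompl W W' hW : (W × W') ≃ₗ[F] V) : (W × W') →ₗ[F] V) ∘ₗ
        (LinearMap.prodMap (g : W →ₗ[F] W) (g' : W' →ₗ[F] W'))) ∘ₗ
        ((Submodule.prodEquivOfIsCompl W W' hW).symm : V →ₗ[F] (W × W')) := rfl
  rw [h1, LinearMap.comp_assoc, LinearMap.det_conj, LinearMap.det_prodMap]

/-- Symmetric form of `glue`. -/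
lemma glue_symm {W W' : Submodule F V} (hW : IsCompl W W') (g : W ≃ₗ[F] W) (g' : W' ≃ₗ[F] W') :
    glue hW (g, g') = glue hW.symm (g', g) := by
  ext x
  obtain ⟨a, b, rfl⟩ := exists_add_of_isCompl hW x
  rw [glue_apply, add_comm (a : V) b, glue_apply, add_comm]

/-- Gluing elements of the unitary groups. -/
lemma glue_mem_U (h : HForm B) {W W' : Submodule F V} (hW : IsCompl W W')
    (hperp : ∀ x ∈ W, ∀ y ∈ W', B x y = 0) {g : W ≃ₗ[F] W} (hg : g ∈ U (resB B W))
    {g' : W' ≃ₗ[F] W'} (hg' : g' ∈ U (resB B W')) : glue hW (g, g') ∈ U B :=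
  (glue_mem_isomPair hW (isOrthoSum_of_perp h hperp) (g, g') hg hg').1

/-! ### Dimension two -/

section Two

lemma hyp_decomp_two (hq : QConj σ q) (h : HForm B) (hV : finrank F V = 2) {e f : V}
    (he : B e e = 0) (hf : B f f = 0) (hef : B e f = 1) (x : V) :
    x = B f x • e + B e x • f := by
  have h1 := finrank_hpp hq h he hf hef
  have h2 : finrank F (hpp B e f) = 0 := by omega
  have h3 := hpp_decomp h he hf hef x
  rw [Submodule.finrank_eq_zero.mp h2, Submodule.mem_bot] at h3
  have h4 : x = (x - B f x • e - B e x • f) + (B f x • e + B e x • f) := by abel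
  rw [h3, zero_add] at h4
  exact h4

lemma det_two (hq : QConj σ q) (h : HForm B) (hV : finrank F V = 2) {e f : V}
    (he : B e e = 0) (hf : B f f = 0) (hef : B e f = 1) (g : V →ₗ[F] V) :
    LinearMap.det g = B f (g e) * B e (g f) - B f (g f) * B e (g e) := by
  have hfe : B f e = 1 := by rw [← h.symm, hef, map_one]
  let b := basisOfLinearIndependentOfCardEqFinrank (linearIndependent_hyp h he hf hef)
    (by rw [Fintype.card_fin, hV])
  have hb0 : b 0 = e := by simp [b]
  have hb1 : b 1 = f := by simp [b]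
  have hr : ∀ x, b.repr x 0 = B f x ∧ b.repr x 1 = B e x := by
    intro x
    have h1 := b.sum_repr x
    rw [Fin.sum_univ_two, hb0, hb1] at h1
    constructor
    · conv_rhs => rw [← h1]
      rw [map_add_right, map_smul_right, map_smul_right, hfe, hf]
      ring
    · conv_rhs => rw [← h1]
      rw [map_add_right, map_smul_right, map_smul_right, he, hef]
      ring
  rw [← LinearMap.det_toMatrix b, Matrix.det_fin_two]
  simp only [LinearMap.toMatrix_apply, hb0, hb1, (hr _).1, (hr _).2]

/-- Relations between the matrix entries. -/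
lemma entries_two (hq : QConj σ q) (h : HForm B) (hV : finrank F V = 2) {e f : V}
    (he : B e e = 0) (hf : B f f = 0) (hef : B e f = 1) {g : V ≃ₗ[F] V} (hg : g ∈ SUL B) :
    B f (g e) * B e (g f) - B f (g f) * B e (g e) = 1 ∧ σ (B f (g e)) = B f (g e) ∧
      σ (B e (g f)) = B e (g f) ∧ σ (B e (g e)) = - B e (g e) ∧ σ (B f (g f)) = - B f (g f) := by
  have hfe : B f e = 1 := by rw [← h.symm, hef, map_one]
  obtain ⟨hgU, hdet⟩ := mem_SUL.mp hg
  rw [det_two hq h hV he hf hef] at hdet
  change B f (g e) * B e (g f) - B f (g f) * B e (g e) = 1 at hdet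
  have hU := mem_U.mp hgU
  set α := B f (g e) with hα
  set γ := B e (g e) with hγ
  set β := B f (g f) with hβ
  set δ := B e (g f) with hδ
  have hge : g e = α • e + γ • f := hyp_decomp_two hq h hV he hf hef (g e)
  have hgf : g f = β • e + δ • f := hyp_decomp_two hq h hV he hf hef (g f)
  clear_value α β γ δ
  have h1 := hU e e
  have h2 := hU e f
  have h3 := hU f e
  have h4 := hU f f
  rw [hge] at h1
  rw [hge, hgf] at h2 h3
  rw [hgf] at h4
  simp only [map_add_left, map_add_right, map_smul_left, map_smul_right, he, hf, hef, hfe,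
    mul_zero, mul_one, zero_add, add_zero] at h1 h2 h3 h4
  refine ⟨hdet, ?_, ?_, ?_, ?_⟩
  · -- σα = α
    have e1 : (σ α - α) * (α * δ - β * γ) = 0 := by
      linear_combination α * (h2 - hdet) - β * h1
    rw [hdet, mul_one] at e1
    linear_combination e1
  · have e1 : (σ δ - δ) * (α * δ - β * γ) = 0 := by
      linear_combination δ * (h3 - hdet) - γ * h4
    rw [hdet, mul_one] at e1
    linear_combination e1
  · have e1 : (σ γ + γ) * (α * δ - β * γ) = 0 := by
      linear_combination δ * h1 - γ * (h2 - hdet)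
    rw [hdet, mul_one] at e1
    linear_combination e1
  · have e1 : (σ β + β) * (α * δ - β * γ) = 0 := by
      linear_combination α * h4 - β * (h3 - hdet)
    rw [hdet, mul_one] at e1
    linear_combination e1

/-- In dimension two the special unitary group is generated by transvections. -/
theorem SUL_le_TG_two (hq : QConj σ q) (h : HForm B) (hV : finrank F V = 2) : SUL B ≤ TG B := by
  obtain ⟨e, he0, he⟩ := h.exists_isotropic hq (by omega)
  obtain ⟨f, hf, hef⟩ := h.exists_partner hq he0 he
  have hfe : B f e = 1 := by rw [← h.symm, hef, map_one]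
  -- elements fixing `e`
  have hA : ∀ t ∈ SUL B, t e = e → t ∈ TG B := by
    intro t ht hte
    obtain ⟨h1, h2, h3, h4, h5⟩ := entries_two hq h hV he hf hef ht
    rw [hte, hfe, he, mul_zero, sub_zero, one_mul] at h1
    have h6 : B f (t f) + σ (B f (t f)) = 0 := by rw [h5]; ring
    have h7 : t = tvH h he h6 := by
      ext x
      rw [hyp_decomp_two hq h hV he hf hef x, map_add, map_add, LinearEquiv.map_smul,
        LinearEquiv.map_smul, LinearEquiv.map_smul, LinearEquiv.map_smul, hte, tvH_apply,
        tvH_apply, he, hef, mul_zero, zero_smul, add_zero, mul_one]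
      congr 2
      have h8 := hyp_decomp_two hq h hV he hf hef (t f)
      rw [h1, one_smul] at h8
      rw [h8]
      simp only [map_add_right, map_smul_right, hfe, hf]
      module
    rw [h7]
    exact tvH_mem_TG h he h6
  -- elements with `γ ≠ 0`
  have hB : ∀ g ∈ SUL B, B e (g e) ≠ 0 → g ∈ TG B := by
    intro g hg hγ
    obtain ⟨h1, h2, h3, h4, h5⟩ := entries_two hq h hV he hf hef hg
    set α := B f (g e) with hα
    set γ := B e (g e) with hγ'
    have hge : g e = α • e + γ • f := hyp_decomp_two hq h hV he hf hef (g e)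
    clear_value α γ
    have c1 : -((α - 1) / γ) + σ (-((α - 1) / γ)) = 0 := by
      rw [map_neg, map_div₀, map_sub, map_one, h2, h4]
      field_simp
      ring
    have c2 : -γ + σ (-γ) = 0 := by rw [map_neg, h4]; ring
    have ht : tvH h hf c2 * tvH h he c1 * g ∈ TG B := by
      apply hA
      · exact mul_mem (mul_mem (tvH_mem h hf c2) (tvH_mem h he c1)) hg
      · rw [LinearEquiv.mul_apply, LinearEquiv.mul_apply, hge, tvH_apply, tvH_apply]
        simp only [map_add_right, map_smul_right, he, hf, hef, hfe]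
        have e1 : α • e + γ • f + (-((α - 1) / γ) * (α * 0 + γ * 1)) • e = e + γ • f := by
          have : -((α - 1) / γ) * (α * 0 + γ * 1) = 1 - α := by field_simp; ring
          rw [this]
          module
        rw [e1]
        have e2 : (α * 1 + γ * 0 + -((α - 1) / γ) * (α * 0 + γ * 1) * 1) = 1 := by
          field_simp; ring
        rw [e2]
        module
    have h9 : g = (tvH h hf c2 * tvH h he c1)⁻¹ * (tvH h hf c2 * tvH h he c1 * g) := by group
    rw [h9]
    exact mul_mem (inv_mem (mul_mem (tvH_mem_TG h hf c2) (tvH_mem_TG h he c1))) ht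
  intro g hg
  by_cases hγ : B e (g e) = 0
  · obtain ⟨c, hc0, hc⟩ := hq.exists_trace_ne_zero (map_zero σ)
    obtain ⟨h1, -⟩ := entries_two hq h hV he hf hef hg
    have hα : B f (g e) ≠ 0 := by
      intro h0
      rw [h0, hγ] at h1
      simp at h1
    have h2 : tvH h hf hc * g ∈ TG B := by
      apply hB
      · exact mul_mem (tvH_mem h hf hc) hg
      · rw [LinearEquiv.mul_apply, tvH_apply, map_add_right, map_smul_right, hγ, hef, zero_add,
          mul_one]
        exact mul_ne_zero hc0 hα
    have h9 : g = (tvH h hf hc)⁻¹ * (tvH h hf hc * g) := by group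
    rw [h9]
    exact mul_mem (inv_mem (tvH_mem_TG h hf hc)) h2
  · exact hB g hg hγ

end Two

/-! ### Transitivity -/

/-- Vectors of norm one orthogonal to a given one. -/
lemma HForm.exists_orth_one (hq : QConj σ q) (h : HForm B) (hV : 2 ≤ finrank F V) {y : V}
    (hy : B y y = 1) : ∃ z, B z z = 1 ∧ B y z = 0 ∧ B z y = 0 := by
  have hy1 : B y y ≠ 0 := by rw [hy]; exact one_ne_zero
  have hdim := finrank_perp_span h hy1
  have : Nontrivial (perp B (F ∙ y)) := Module.nontrivial_of_finrank_pos (R := F) (by omega)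
  obtain ⟨z, hz⟩ := (h.perp_span hy1).exists_norm_eq hq (map_one σ) one_ne_zero
  have hyz := mem_perp_span.mp z.2
  exact ⟨z.1, hz, hyz, h.eq_zero_comm hyz⟩

/-- The special unitary group is transitive on vectors of norm one. -/
theorem exists_SUL_map (hq : QConj σ q) (h : HForm B) (hV : 2 ≤ finrank F V) {x y : V}
    (hx : B x x = 1) (hy : B y y = 1) : ∃ g ∈ SUL B, g x = y := by
  have := hq.finite
  have hx0 : x ≠ 0 := by rintro rfl; rw [map_zero_left] at hx; exact zero_ne_one hx
  have hy0 : y ≠ 0 := by rintro rfl; rw [map_zero_left] at hy; exact zero_ne_one hy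
  obtain ⟨g, hg, hgx⟩ := h.exists_family hq (fun _ : Fin 1 => x) (fun _ => y)
    (LinearIndependent.of_subsingleton 0 hx0) (LinearIndependent.of_subsingleton 0 hy0)
    (fun i j => by rw [hx, hy])
  obtain ⟨z, hz, -, hzy⟩ := h.exists_orth_one hq hV hy
  have hdet := det_norm hq h hg
  set d := LinearMap.det (g : V →ₗ[F] V) with hd
  have hd0 : d ≠ 0 := fun h0 => by rw [h0, mul_zero] at hdet; exact zero_ne_one hdet
  have hd1 : d⁻¹ * σ d⁻¹ = 1 := by
    rw [map_inv₀, ← mul_inv, mul_comm d, hdet, inv_one]
  refine ⟨qrefl h hz hd1 * g, ?_, ?_⟩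
  · rw [mem_SUL]
    refine ⟨mul_mem (qrefl_mem h hz hd1) hg, ?_⟩
    have h1 : ((qrefl h hz hd1 * g : V ≃ₗ[F] V) : V →ₗ[F] V) =
        (qrefl h hz hd1 : V →ₗ[F] V) ∘ₗ (g : V →ₗ[F] V) := rfl
    rw [h1, LinearMap.det_comp, det_qrefl, ← hd, inv_mul_cancel₀ hd0]
  · rw [LinearEquiv.mul_apply, hgx 0, qrefl_apply, hzy, mul_zero, zero_smul, add_zero]

/-- Transvections are transitive on norm one vectors spanning a non-degenerate plane. -/
theorem exists_TG_map_of_ne (hq : QConj σ q) (h : HForm B) {x y : V}
    (hx : B x x = 1) (hy : B y y = 1) (hxy : B x y * σ (B x y) ≠ 1) :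
    ∃ g ∈ TG B, g x = y := by
  have hyx : B y x = σ (B x y) := (h.symm x y).symm
  set P := Submodule.span F {x, y} with hP
  have hxP : x ∈ P := Submodule.subset_span (by simp)
  have hyP : y ∈ P := Submodule.subset_span (by simp)
  have hPform : HForm (resB B P) := by
    refine ⟨fun x y => h.symm _ _, fun w hw => ?_⟩
    apply Subtype.ext
    obtain ⟨a, b, hab⟩ := Submodule.mem_span_pair.mp w.2
    have h1 : B (w : V) x = 0 := hw ⟨x, hxP⟩
    have h2 : B (w : V) y = 0 := hw ⟨y, hyP⟩
    rw [← hab, map_add_left, map_smul_left, map_smul_left, hx, hyx] at h1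
    rw [← hab, map_add_left, map_smul_left, map_smul_left, hy] at h2
    have h3 : σ b * (1 - B x y * σ (B x y)) = 0 := by linear_combination h2 - B x y * h1
    have h4 : σ a * (1 - B x y * σ (B x y)) = 0 := by
      linear_combination h1 - σ (B x y) * h2
    have h5 : (1 - B x y * σ (B x y)) ≠ 0 := fun h0 => hxy (by linear_combination -h0)
    have hb : b = 0 := (map_eq_zero σ).mp ((mul_eq_zero.mp h3).resolve_right h5)
    have ha : a = 0 := (map_eq_zero σ).mp ((mul_eq_zero.mp h4).resolve_right h5)
    rw [← hab, ha, hb, zero_smul, zero_smul, add_zero]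
    rfl
  have hli : LinearIndependent F ![x, y] := by
    rw [LinearIndependent.pair_iff]
    intro s t hst
    have h1 : B x (s • x + t • y) = 0 := by rw [hst, LinearMap.map_zero]
    have h2 : B y (s • x + t • y) = 0 := by rw [hst, LinearMap.map_zero]
    rw [map_add_right, map_smul_right, map_smul_right, hx] at h1
    rw [map_add_right, map_smul_right, map_smul_right, hy, hyx] at h2
    have h3 : t * (1 - B x y * σ (B x y)) = 0 := by linear_combination h2 - σ (B x y) * h1
    have h4 : s * (1 - B x y * σ (B x y)) = 0 := by linear_combination h1 - B x y * h2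
    have h5 : (1 - B x y * σ (B x y)) ≠ 0 := fun h0 => hxy (by linear_combination -h0)
    exact ⟨(mul_eq_zero.mp h4).resolve_right h5, (mul_eq_zero.mp h3).resolve_right h5⟩
  have hPd : finrank F P = 2 := by
    have h3 := finrank_span_eq_card hli
    have h4 : Set.range ![x, y] = {x, y} := by
      rw [Matrix.range_cons, Matrix.range_cons, Matrix.range_empty, Set.union_empty]
      rfl
    rw [Fintype.card_fin, h4] at h3
    exact h3
  obtain ⟨g, hg, hgx⟩ := exists_SUL_map hq hPform (by omega) (x := ⟨x, hxP⟩) (y := ⟨y, hyP⟩) hx hy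
  have hpp : ∀ x ∈ P, ∀ y ∈ perp B P, B x y = 0 := fun x hx y hy => hy x hx
  refine ⟨glue (isCompl_perp hq h hPform) (g, 1), glue_mem_TG h _ hpp
    (SUL_le_TG_two hq hPform hPd hg), ?_⟩
  have h1 := glue_left (isCompl_perp hq h hPform) (g, (1 : perp B P ≃ₗ[F] perp B P)) ⟨x, hxP⟩
  rw [h1, hgx]

theorem exists_TG_map_smul (hq : QConj σ q) (h : HForm B) (hV : 2 ≤ finrank F V) {x : V}
    (hx : B x x = 1) {a : F} (ha : a * σ a = 1) : ∃ g ∈ TG B, g x = a • x := by
  obtain ⟨z, hz, hxz, hzx⟩ := h.exists_orth_one hq hV hx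
  obtain ⟨g₁, hg₁, hg₁x⟩ := exists_TG_map_of_ne hq h hx hz (by rw [hxz, zero_mul]; exact zero_ne_one)
  obtain ⟨g₂, hg₂, hg₂z⟩ := exists_TG_map_of_ne hq h hz (y := a • x) (by
    rw [map_smul_left, map_smul_right, hx]
    linear_combination ha) (by rw [map_smul_right, hzx, mul_zero, zero_mul]; exact zero_ne_one)
  exact ⟨g₂ * g₁, mul_mem hg₂ hg₁, by rw [LinearEquiv.mul_apply, hg₁x, hg₂z]⟩

/-- Siegel transformations are transitive on vectors of norm one. -/
theorem exists_EG_map (hq : QConj σ q) (h : HForm B) (hV : 2 ≤ finrank F V) {x y : V}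
    (hx : B x x = 1) (hy : B y y = 1) : ∃ g ∈ EG B, g x = y := by
  by_cases hxy : B x y * σ (B x y) = 1
  swap
  · obtain ⟨g, hg, hgx⟩ := exists_TG_map_of_ne hq h hx hy hxy
    exact ⟨g, TG_le_EG B hg, hgx⟩
  obtain ⟨g₁, hg₁, hg₁x⟩ := exists_TG_map_smul hq h hV hx hxy
  have hyx : B y x = σ (B x y) := (h.symm x y).symm
  set a := B x y with ha
  set r := y - a • x with hr
  have hrr : B r r = 0 := by
    rw [hr, map_sub_left, map_sub_right, map_sub_right, map_smul_left, map_smul_left,
      map_smul_right, map_smul_right, hx, hy, hyx, ← ha]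
    linear_combination -hxy
  have hrx : B r x = 0 := by
    rw [hr, map_sub_left, map_smul_left, hx, hyx]
    ring
  have h1 : B r (-(a • x)) = 0 := by
    rw [LinearMap.map_neg, map_smul_right, hrx, mul_zero, neg_zero]
  obtain ⟨c, hc⟩ := hq.exists_trace (c := -1) (by rw [map_neg, map_one])
  have h2 : B (-(a • x)) (-(a • x)) = 1 := by
    rw [LinearMap.map_neg, LinearMap.map_neg, LinearMap.neg_apply, neg_neg, map_smul_left,
      map_smul_right, hx]
    linear_combination hxy
  have h3 : c + σ c + B (-(a • x)) (-(a • x)) = 0 := by rw [h2, hc]; ring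
  refine ⟨siH h hrr h1 h3 * g₁, mul_mem (siH_mem_EG h hrr h1 h3) (TG_le_EG B hg₁), ?_⟩
  rw [LinearEquiv.mul_apply, hg₁x, siH_apply]
  have h4 : B r (a • x) = 0 := by rw [map_smul_right, hrx, mul_zero]
  have h5 : B (-(a • x)) (a • x) = -1 := by
    rw [LinearMap.map_neg, LinearMap.neg_apply, map_smul_left, map_smul_right, hx]
    linear_combination -hxy
  rw [h4, h5, hr]
  module

/-- Reduction to the stabiliser of a vector of norm one. -/
theorem SUL_le_of_transitive (h : HForm B) {G : Subgroup (V ≃ₗ[F] V)}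
    (hGS : G ≤ SUL B) {x : V} (hx : B x x = 1)
    (hG : ∀ y, B y y = 1 → ∃ g ∈ G, g x = y) (hsub : ∀ t ∈ SUL (resB B (perp B (F ∙ x))),
      glue (isCompl_span h (v := x) (by rw [hx]; exact one_ne_zero)).symm (t, 1) ∈ G) :
    SUL B ≤ G := by
  have hx1 : B x x ≠ 0 := by rw [hx]; exact one_ne_zero
  intro g hg
  have hU := mem_U.mp (mem_SUL.mp hg).1
  obtain ⟨s, hs, hsx⟩ := hG (g x) (by rw [hU, hx])
  set t := s⁻¹ * g with ht
  have htS : t ∈ SUL B := mul_mem (inv_mem (hGS hs)) hg
  obtain ⟨htU, htdet⟩ := mem_SUL.mp htS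
  have htx : t x = x := by
    rw [ht, LinearEquiv.mul_apply, ← hsx]
    exact s.symm_apply_apply x
  have htx' : t⁻¹ x = x := by
    conv_lhs => rw [← htx]
    exact t.symm_apply_apply x
  set W := perp B (F ∙ x) with hW
  have h1 : ∀ y, y ∈ F ∙ x ↔ t y ∈ F ∙ x := by
    intro y
    constructor
    · intro hy
      obtain ⟨a, rfl⟩ := Submodule.mem_span_singleton.mp hy
      rw [LinearEquiv.map_smul, htx]
      exact Submodule.smul_mem _ _ (Submodule.mem_span_singleton_self x)
    · intro hy
      obtain ⟨a, ha⟩ := Submodule.mem_span_singleton.mp hy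
      have : y = a • x := by
        apply t.injective
        rw [LinearEquiv.map_smul, htx, ha]
      rw [this]
      exact Submodule.smul_mem _ _ (Submodule.mem_span_singleton_self x)
  have h2 : ∀ y, y ∈ W ↔ t y ∈ W := by
    intro y
    rw [hW, mem_perp_span, mem_perp_span]
    have := mem_U.mp htU x y
    rw [htx] at this
    rw [this]
  have hc := isCompl_span h hx1
  have h3 := glue_comp hc t h1 h2
  have h4 : comp t (F ∙ x) h1 = 1 := by
    ext y
    rw [comp_apply]
    obtain ⟨a, ha⟩ := Submodule.mem_span_singleton.mp y.2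
    rw [← ha, LinearEquiv.map_smul, htx, ha]
    rfl
  rw [h4, glue_symm] at h3
  have h5 : comp t W h2 ∈ SUL (resB B W) := by
    rw [mem_SUL]
    refine ⟨fun y z => ?_, ?_⟩
    · change B (comp t W h2 y : V) (comp t W h2 z : V) = B (y : V) (z : V)
      rw [comp_apply, comp_apply]
      exact mem_U.mp htU _ _
    · have h6 := det_glue hc.symm (comp t W h2) (1 : (F ∙ x) ≃ₗ[F] (F ∙ x))
      rw [h3, htdet] at h6
      have h7 : LinearMap.det ((1 : (F ∙ x) ≃ₗ[F] (F ∙ x)) : (F ∙ x) →ₗ[F] (F ∙ x)) = 1 :=
        LinearMap.det_id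
      rw [h7, mul_one] at h6
      exact h6.symm
  have h6 := hsub _ h5
  rw [h3] at h6
  have h7 : g = s * t := by rw [ht]; group
  rw [h7]
  exact mul_mem hs h6

/-- Siegel transformations generate the special unitary group. -/
theorem SUL_le_EG_aux (hq : QConj σ q) (n : ℕ) : ∀ (V : Type _) [AddCommGroup V] [Module F V]
    [FiniteDimensional F V] (B : V →ₛₗ[σ] V →ₗ[F] F), HForm B → finrank F V = n + 2 →
    SUL B ≤ EG B := by
  induction n with
  | zero => exact fun V _ _ _ B h hV => (SUL_le_TG_two hq h hV).trans (TG_le_EG B)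
  | succ n ih =>
    intro V _ _ _ B h hV
    have : Nontrivial V := Module.nontrivial_of_finrank_pos (R := F) (by omega)
    obtain ⟨x, hx⟩ := h.exists_norm_eq hq (map_one σ) one_ne_zero
    have hx1 : B x x ≠ 0 := by rw [hx]; exact one_ne_zero
    have hdim := finrank_perp_span h hx1
    refine SUL_le_of_transitive h (EG_le_SUL h) hx
      (fun y hy => exists_EG_map hq h (by omega) hx hy) fun t ht => ?_
    have hp : ∀ a ∈ perp B (F ∙ x), ∀ b ∈ F ∙ x, B a b = 0 := fun a ha b hb =>
      h.eq_zero_comm (ha b hb)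
    exact glue_mem_EG h _ hp
      (ih _ _ (h.perp_span hx1) (by omega) ht)

theorem EG_eq (hq : QConj σ q) (h : HForm B) (hV : 2 ≤ finrank F V) : EG B = SUL B :=
  le_antisymm (EG_le_SUL h) (SUL_le_EG_aux hq (finrank F V - 2) V B h (by omega))

/-- For `q > 2` transvections are transitive on vectors of norm one. -/
theorem exists_TG_map (hq : QConj σ q) (h : HForm B) (hq2 : 3 ≤ q) (hV : 2 ≤ finrank F V)
    {x y : V} (hx : B x x = 1) (hy : B y y = 1) : ∃ g ∈ TG B, g x = y := by
  by_cases hxy : B x y * σ (B x y) = 1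
  swap
  · exact exists_TG_map_of_ne hq h hx hy hxy
  -- it is enough to find an intermediate vector
  obtain ⟨z, hz, hxz, hzy⟩ : ∃ z, B z z = 1 ∧ B x z * σ (B x z) ≠ 1 ∧ B z y = 0 := by
    have hy1 : B y y ≠ 0 := by rw [hy]; exact one_ne_zero
    have hdim := finrank_perp_span h hy1
    set W := perp B (F ∙ y) with hW
    have hWf : HForm (resB B W) := h.perp_span hy1
    have : Nontrivial W := Module.nontrivial_of_finrank_pos (R := F) (by omega)
    have hyx : B y x = σ (B x y) := (h.symm x y).symm
    set x' := x - B y x • y with hx'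
    have hx'W : x' ∈ W := by
      rw [hW, mem_perp_span, hx', map_sub_right, map_smul_right, hy]
      ring
    by_cases hx'0 : x' = 0
    · obtain ⟨z, hz⟩ := hWf.exists_norm_eq hq (map_one σ) one_ne_zero
      have hyz : B y (z : V) = 0 := mem_perp_span.mp z.2
      refine ⟨z, hz, ?_, h.eq_zero_comm hyz⟩
      have h1 : x = B y x • y := sub_eq_zero.mp hx'0
      have h2 : B x (z : V) = 0 := by
        rw [h1, map_smul_left, hyz, mul_zero]
      rw [h2, zero_mul]
      exact zero_ne_one
    · have hxx' : B x' x' = 0 := by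
        rw [hx', map_sub_left, map_sub_right, map_sub_right, map_smul_left, map_smul_left,
          map_smul_right, map_smul_right, hx, hy, hyx, hq.invol]
        linear_combination -hxy
      obtain ⟨w, hw, hxw⟩ := hWf.exists_partner hq (e := ⟨x', hx'W⟩)
        (fun h0 => hx'0 (congrArg Subtype.val h0)) hxx'
      have hw' : B (w : V) (w : V) = 0 := hw
      have hxw' : B x' (w : V) = 1 := hxw
      have hwx' : B (w : V) x' = 1 := by rw [← h.symm, hxw', map_one]
      -- `β` of norm different from `0, 1`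
      obtain ⟨β, hβ0, hβ1⟩ : ∃ β : F, β ≠ 0 ∧ β * σ β ≠ 1 := by
        by_contra hcon
        push Not at hcon
        have h1 : Nat.card {a : F // a * σ a = 1} = q + 1 := hq.card_norm_one
        have h2 : Nat.card Fˣ = (q - 1) * (q + 1) := hq.card_units
        have h3 : Nat.card {a : F // a * σ a = 1} = Nat.card Fˣ := by
          apply Nat.card_congr
          refine ⟨fun a => Units.mk0 a.1 ?_, fun u => ⟨(u : F), hcon _ (Units.ne_zero u)⟩, ?_, ?_⟩
          · intro h0
            have := a.2
            rw [h0, zero_mul] at this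
            exact zero_ne_one this
          · intro a; exact Subtype.ext rfl
          · intro u; exact Units.ext rfl
        rw [h1, h2] at h3
        obtain ⟨k, rfl⟩ := Nat.exists_eq_add_of_le hq2
        have h4 : 3 + k - 1 = k + 2 := by omega
        rw [h4] at h3
        have h5 : 2 * (3 + k + 1) ≤ (k + 2) * (3 + k + 1) :=
          Nat.mul_le_mul_right _ (by omega)
        omega
      have hσβ : σ β ≠ 0 := by rw [Ne, map_eq_zero]; exact hβ0
      obtain ⟨a, ha⟩ := hq.exists_trace (c := 1) (map_one σ)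
      -- `z = (σ a / σ β) x' + β w`
      have hzW : (a / σ β) • x' + β • (w : V) ∈ W :=
        W.add_mem (W.smul_mem _ hx'W) (W.smul_mem _ w.2)
      have hyz : B y ((a / σ β) • x' + β • (w : V)) = 0 := mem_perp_span.mp hzW
      refine ⟨(a / σ β) • x' + β • (w : V), ?_, ?_, h.eq_zero_comm hyz⟩
      · simp only [map_add_left, map_add_right, map_smul_left, map_smul_right, hxx', hw', hxw',
          hwx', map_div₀, hq.invol]
        have e1 : σ a / β * β = σ a := div_mul_cancel₀ _ hβ0
        have e2 : a / σ β * σ β = a := div_mul_cancel₀ _ hσβ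
        linear_combination ha + e1 + e2
      · have h1 : x = x' + B y x • y := by rw [hx']; abel
        have h2 : B x ((a / σ β) • x' + β • (w : V)) = β := by
          have h3 : B x ((a / σ β) • x' + β • (w : V)) =
              B (x' + B y x • y) ((a / σ β) • x' + β • (w : V)) := by rw [← h1]
          rw [h3, map_add_left, map_smul_left, hyz, map_add_right, map_smul_right, map_smul_right,
            hxx', hxw']
          ring
        rw [h2]
        exact hβ1
  obtain ⟨g₁, hg₁, hg₁x⟩ := exists_TG_map_of_ne hq h hx hz hxz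
  obtain ⟨g₂, hg₂, hg₂z⟩ := exists_TG_map_of_ne hq h hz hy (by
    rw [hzy, zero_mul]; exact zero_ne_one)
  exact ⟨g₂ * g₁, mul_mem hg₂ hg₁, by rw [LinearEquiv.mul_apply, hg₁x, hg₂z]⟩

theorem SUL_le_TG_aux (hq : QConj σ q) (hq2 : 3 ≤ q) (n : ℕ) : ∀ (V : Type _) [AddCommGroup V]
    [Module F V] [FiniteDimensional F V] (B : V →ₛₗ[σ] V →ₗ[F] F), HForm B →
    finrank F V = n + 2 → SUL B ≤ TG B := by
  induction n with
  | zero => exact fun V _ _ _ B h hV => SUL_le_TG_two hq h hV
  | succ n ih =>
    intro V _ _ _ B h hV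
    have : Nontrivial V := Module.nontrivial_of_finrank_pos (R := F) (by omega)
    obtain ⟨x, hx⟩ := h.exists_norm_eq hq (map_one σ) one_ne_zero
    have hx1 : B x x ≠ 0 := by rw [hx]; exact one_ne_zero
    have hdim := finrank_perp_span h hx1
    refine SUL_le_of_transitive h (TG_le_SUL h) hx
      (fun y hy => exists_TG_map hq h hq2 (by omega) hx hy) fun t ht => ?_
    have hp : ∀ a ∈ perp B (F ∙ x), ∀ b ∈ F ∙ x, B a b = 0 := fun a ha b hb =>
      h.eq_zero_comm (ha b hb)
    exact glue_mem_TG h _ hp
      (ih _ _ (h.perp_span hx1) (by omega) ht)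

/-! ### Siegel transformations in dimension at least four -/

/-- Every vector of a non-degenerate space with isotropic vectors is a sum of isotropic
vectors. -/
theorem isotropic_induction (hq : QConj σ q) (h : HForm B) (hV : 2 ≤ finrank F V) {P : V → Prop}
    (hP0 : ∀ v, B v v = 0 → P v) (hPadd : ∀ v w, P v → P w → P (v + w)) (v : V) : P v := by
  obtain ⟨e, he0, he⟩ := h.exists_isotropic hq hV
  obtain ⟨f, hf, hef⟩ := h.exists_partner hq he0 he
  have hfe : B f e = 1 := by rw [← h.symm, hef, map_one]
  have key : ∀ (e w : V), B e e = 0 → B e w ≠ 0 → P w := by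
    intro e w he hew
    have hwe : B w e ≠ 0 := fun h0 => hew (h.eq_zero_comm h0)
    obtain ⟨a, ha⟩ := hq.exists_trace (c := B w w) (h.self_fixed w)
    have h1 : B (w - (a / B w e) • e) (w - (a / B w e) • e) = 0 := by
      have h2 : σ (B w e) = B e w := h.symm w e
      simp only [map_sub_left, map_sub_right, map_smul_left, map_smul_right, he, map_div₀, h2]
      have e1 : a / B w e * B w e = a := div_mul_cancel₀ _ hwe
      have e2 : σ a / B e w * B e w = σ a := div_mul_cancel₀ _ hew
      linear_combination -ha - e1 - e2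
    have h2 : B ((a / B w e) • e) ((a / B w e) • e) = 0 := by
      rw [map_smul_left, map_smul_right, he, mul_zero, mul_zero]
    have h3 := hPadd _ _ (hP0 _ h1) (hP0 _ h2)
    rwa [sub_add_cancel] at h3
  by_cases hev : B e v = 0
  · by_cases hfv : B f v = 0
    · have h1 : P (v + e) := key f (v + e) hf (by
        rw [map_add_right, hfv, hfe, zero_add]; exact one_ne_zero)
      have h2 : B (-e) (-e) = 0 := by
        rw [LinearMap.map_neg, LinearMap.map_neg, LinearMap.neg_apply, he]; simp
      have h3 := hPadd _ _ h1 (hP0 _ h2)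
      rwa [add_neg_cancel_right] at h3
    · exact key f v hf hfv
  · exact key e v he hev

/-- Product of Siegel transformations. -/
lemma siH_mul (h : HForm B) {u y y' : V} {c c' : F} (hu : B u u = 0) (hy : B u y = 0)
    (hc : c + σ c + B y y = 0) (hy' : B u y' = 0) (hc' : c' + σ c' + B y' y' = 0)
    (hyy : B u (y + y') = 0) (hcc : (c + c' - B y y') + σ (c + c' - B y y') +
      B (y + y') (y + y') = 0) :
    siH h hu hy hc * siH h hu hy' hc' = siH h hu hyy hcc := by
  have hyu : B y u = 0 := h.eq_zero_comm hy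
  ext x
  rw [LinearEquiv.mul_apply]
  simp only [siH_apply, map_add_left, map_add_right, map_smul_right, hu, hy, hy', hyu]
  module

lemma siH_congr (h : HForm B) {u u' y y' : V} {c c' : F} (hu : B u u = 0) (hy : B u y = 0)
    (hc : c + σ c + B y y = 0) (hu' : B u' u' = 0) (hy' : B u' y' = 0)
    (hc' : c' + σ c' + B y' y' = 0) (huu : u = u') (hyy : y = y') (hcc : c = c') :
    siH h hu hy hc = siH h hu' hy' hc' := by
  subst huu; subst hyy; subst hcc; rfl

/-- In dimension at least four the Siegel transformations are products of transvections. -/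
theorem EG_le_TG (hq : QConj σ q) (h : HForm B) (hV : 4 ≤ finrank F V) : EG B ≤ TG B := by
  rw [EG, Subgroup.closure_le]
  rintro g ⟨u, y, c, hu, hy, hc, hg⟩
  have hg' : g = siH h hu hy hc := LinearEquiv.ext hg
  rw [hg']
  by_cases hu0 : u = 0
  · have : siH h hu hy hc = 1 := by
      ext x
      rw [siH_apply, hu0, map_zero_left]
      simp
    rw [this]
    exact one_mem _
  obtain ⟨f, hf, huf⟩ := h.exists_partner hq hu0 hu
  have hfu : B f u = 1 := by rw [← h.symm, huf, map_one]
  -- isotropic `w`
  have hiso : ∀ (w : V) (hw : B u w = 0) (hww : B w w = 0) (c : F) (hc : c + σ c + B w w = 0),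
      siH h hu hw hc ∈ TG B := by
    intro w hw hww c hc
    obtain ⟨d, hd0, hd⟩ := hq.exists_trace_ne_zero (map_zero σ)
    have hd' : σ d = -d := by linear_combination hd
    have hwu : B w u = 0 := h.eq_zero_comm hw
    have hc0 : c + σ c = 0 := by rw [hww, add_zero] at hc; exact hc
    -- `u + (1/d) w` and so on
    have h1 : B (u + d⁻¹ • w) (u + d⁻¹ • w) = 0 := by
      simp only [map_add_left, map_add_right, map_smul_left, map_smul_right, hu, hw, hwu, hww]
      ring
    have hd2 : (c - d) + σ (c - d) = 0 := by rw [map_sub]; linear_combination hc0 - hd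
    have hd3 : d⁻¹ + σ d⁻¹ = 0 := by
      rw [map_inv₀, hd', inv_neg, add_neg_cancel]
    have h2 : siH h hu hw hc = tvH h h1 hd * tvH h hu hd2 * tvH h hww hd3 := by
      ext x
      rw [LinearEquiv.mul_apply, LinearEquiv.mul_apply, siH_apply]
      simp only [tvH_apply, map_add_left, map_add_right, map_smul_left, map_smul_right, hu, hw,
        hwu, hww, map_inv₀, hd', mul_zero, add_zero]
      have e1 : d * (B u x + (-d)⁻¹ * B w x) = d * B u x - B w x := by
        field_simp
        ring
      rw [e1]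
      have e2 : d⁻¹ * B w x - (d⁻¹ * B w x) = 0 := sub_self _
      rw [smul_add, smul_smul]
      have e3 : (d * B u x - B w x) * d⁻¹ = B u x - d⁻¹ * B w x := by field_simp
      rw [e3]
      module
    rw [h2]
    exact mul_mem (mul_mem (tvH_mem_TG h h1 hd) (tvH_mem_TG h hu hd2)) (tvH_mem_TG h hww hd3)
  -- all of `⟨u, f⟩^⊥`
  have hWf := hpp_hform hq h hu hf huf
  have hWd := finrank_hpp hq h hu hf huf
  have hall : ∀ w : hpp B u f, ∀ (c : F) (hc : c + σ c + B (w : V) (w : V) = 0),
      siH h hu (mem_hpp.mp w.2).1 hc ∈ TG B := by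
    intro w
    refine isotropic_induction hq hWf (by omega) (P := fun w : hpp B u f =>
      ∀ (c : F) (hc : c + σ c + B (w : V) (w : V) = 0),
      siH h hu (mem_hpp.mp w.2).1 hc ∈ TG B) ?_ ?_ w
    · intro v hv c hc
      exact hiso v.1 (mem_hpp.mp v.2).1 hv c hc
    · intro v w hv hw c hc
      obtain ⟨c₁, hc₁⟩ := hq.exists_trace (c := - B (v : V) (v : V)) (by
        rw [map_neg, h.self_fixed])
      have hc₁' : c₁ + σ c₁ + B (v : V) (v : V) = 0 := by rw [hc₁]; ring
      have hsum : B ((v + w : hpp B u f) : V) ((v + w : hpp B u f) : V) =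
          B (v : V) (v : V) + B (v : V) (w : V) + B (w : V) (v : V) + B (w : V) (w : V) := by
        rw [Submodule.coe_add, map_add_left, map_add_right, map_add_right]
        ring
      have hc₂ : (c - c₁ + B (v : V) (w : V)) + σ (c - c₁ + B (v : V) (w : V)) +
          B (w : V) (w : V) = 0 := by
        rw [map_add, map_sub, h.symm]
        rw [hsum] at hc
        linear_combination hc - hc₁'
      have h1 := mul_mem (hv c₁ hc₁') (hw _ hc₂)
      have hyy : B u ((v : V) + (w : V)) = 0 := by
        rw [map_add_right, (mem_hpp.mp v.2).1, (mem_hpp.mp w.2).1, add_zero]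
      have e1 : c₁ + (c - c₁ + B (v : V) (w : V)) - B (v : V) (w : V) = c := by ring
      rw [siH_mul h hu _ _ _ _ hyy (by rw [e1]; exact hc)] at h1
      rw [siH_congr h hu _ hc hu hyy (by rw [← e1] at hc; exact hc) rfl rfl e1.symm]
      exact h1
  -- the general case
  have hdec := hpp_decomp h hu hf huf y
  rw [hy, zero_smul, sub_zero] at hdec
  set w := y - B f y • u with hw
  have hyw : y = w + B f y • u := by rw [hw]; abel
  have hBw := mem_hpp.mp hdec
  have hwu : B w u = 0 := h.eq_zero_comm hBw.1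
  have hww : B w w = B y y := by
    have hyu : B y u = 0 := h.eq_zero_comm hy
    rw [hw, map_sub_left, map_sub_right, map_sub_right, map_smul_left, map_smul_left,
      map_smul_right, map_smul_right, hy, hu, hyu]
    ring
  have hc' : (c + B f y - σ (B f y)) + σ (c + B f y - σ (B f y)) + B w w = 0 := by
    rw [map_sub, map_add, hq.invol, hww]
    linear_combination hc
  have h2 : siH h hu hy hc = siH h hu hBw.1 hc' := by
    ext x
    rw [siH_apply, siH_apply]
    have e1 : B y x = B w x + σ (B f y) * B u x := by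
      conv_lhs => rw [hyw]
      rw [map_add_left, map_smul_left]
    rw [e1]
    have e2 : B u x • y = B u x • w + (B u x * B f y) • u := by
      conv_lhs => rw [hyw]
      rw [smul_add, smul_smul]
    rw [e2]
    module
  rw [h2]
  exact hall ⟨w, hdec⟩ _ hc'

/-- The special unitary group is generated by transvections. -/
theorem TG_eq (hq : QConj σ q) (h : HForm B)
    (hV : finrank F V = 2 ∨ (finrank F V = 3 ∧ 3 ≤ q) ∨ 4 ≤ finrank F V) : TG B = SUL B := by
  apply le_antisymm (TG_le_SUL h)
  rcases hV with hV | ⟨hV, hq2⟩ | hV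
  · exact SUL_le_TG_two hq h hV
  · exact SUL_le_TG_aux hq hq2 1 V B h hV
  · rw [← EG_eq hq h (by omega)]
    exact EG_le_TG hq h hV

end CfsgLib.Herm
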