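import Cfsg.Agent.Lib.Herm5

/-!
# Hermitian forms over finite fields VI: commutators and centres
-/

namespace CfsgLib.Herm

open Module CfsgLib.IsomDecomp Cfsg
open scoped commutatorElement

set_option linter.unusedSimpArgs false
set_option linter.unusedSectionVars false

variable {F V : Type*} [Field F] [AddCommGroup V] [Module F V] [FiniteDimensional F V]
variable {σ : F →+* F} {q : ℕ} {B : V →ₛₗ[σ] V →ₗ[F] F}

/-- Transvections are commutators of Siegel transformations. -/
theorem tvH_eq_commutator (hq : QConj σ q) (h : HForm B) (hV : 3 ≤ finrank F V) {u : V} {c : F}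
    (hu : B u u = 0) (hc : c + σ c = 0) :
    ∃ a ∈ SUL B, ∃ b ∈ SUL B, ⁅a, b⁆ = tvH h hu hc := by
  by_cases hu0 : u = 0
  · refine ⟨1, one_mem _, 1, one_mem _, ?_⟩
    rw [commutatorElement_one_left]
    ext x
    rw [tvH_apply, hu0, map_zero_left]
    simp
  obtain ⟨f, hf, huf⟩ := h.exists_partner hq hu0 hu
  have hWf := hpp_hform hq h hu hf huf
  have hWd := finrank_hpp hq h hu hf huf
  have : Nontrivial (hpp B u f) := Module.nontrivial_of_finrank_pos (R := F) (by omega)
  obtain ⟨⟨w, hwm⟩, hw⟩ := hWf.exists_norm_eq hq (map_one σ) one_ne_zero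
  have hww : B w w = 1 := hw
  have huw := (mem_hpp.mp hwm).1
  obtain ⟨μ, hμ⟩ := hq.exists_trace (c := 1) (map_one σ)
  have hc' : σ c = -c := by linear_combination hc
  set y : V := w with hy
  set y' : V := (-(c * μ)) • w with hy'
  have huy' : B u y' = 0 := by rw [hy', map_smul_right, huw, mul_zero]
  obtain ⟨c₁, hc₁⟩ := hq.exists_trace (c := - B y y) (by rw [map_neg, h.self_fixed])
  obtain ⟨c₂, hc₂⟩ := hq.exists_trace (c := - B y' y') (by rw [map_neg, h.self_fixed])
  have hc₁' : c₁ + σ c₁ + B y y = 0 := by rw [hc₁]; ring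
  have hc₂' : c₂ + σ c₂ + B y' y' = 0 := by rw [hc₂]; ring
  have hdiff : B y' y - B y y' = c := by
    rw [hy', map_smul_left, map_smul_right, hy, hww, map_neg, map_mul, hc']
    linear_combination c * hμ
  refine ⟨siH h hu huw hc₁', siH_mem _ _ _ _, siH h hu huy' hc₂', siH_mem _ _ _ _, ?_⟩
  rw [commutatorElement_def, mul_assoc _ _ (siH h hu huy' hc₂')⁻¹, ← mul_inv_rev,
    mul_inv_eq_iff_eq_mul]
  have hyu : B y u = 0 := h.eq_zero_comm huw
  have hyu' : B y' u = 0 := h.eq_zero_comm huy'
  ext x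
  simp only [LinearEquiv.mul_apply]
  simp only [siH_apply, tvH_apply, map_add_left, map_add_right, map_smul_right, hu, huw,
    huy', hyu, hyu', mul_zero, add_zero]
  rw [← hdiff]
  module

/-- Transvections as elements of the special unitary group. -/
lemma exists_commutator_SUL (hq : QConj σ q) (h : HForm B) (hV : 3 ≤ finrank F V) {u : V} {c : F}
    (hu : B u u = 0) (hc : c + σ c = 0) (g : SUL B) (hg : (g : V ≃ₗ[F] V) = tvH h hu hc) :
    g ∈ commutatorSet (SUL B) := by
  obtain ⟨a, ha, b, hb, hab⟩ := tvH_eq_commutator hq h hV hu hc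
  refine ⟨⟨a, ha⟩, ⟨b, hb⟩, Subtype.ext ?_⟩
  rw [hg]
  exact hab

/-- The special unitary group is perfect. -/
theorem commutator_SUL_eq_top (hq : QConj σ q) (h : HForm B)
    (hV : (finrank F V = 3 ∧ 3 ≤ q) ∨ 4 ≤ finrank F V) : commutator (SUL B) = ⊤ := by
  rw [eq_top_iff]
  intro g _
  have h1 : (g : V ≃ₗ[F] V) ∈ TG B := by rw [TG_eq hq h (Or.inr hV)]; exact g.2
  have key : TG B ≤ (commutator (SUL B)).map (SUL B).subtype := by
    rw [TG, Subgroup.closure_le]
    rintro g ⟨u, c, hu, hc, hg⟩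
    have hg' : g = tvH h hu hc := LinearEquiv.ext hg
    refine ⟨⟨g, by rw [hg']; exact tvH_mem h hu hc⟩, ?_, rfl⟩
    rw [commutator_eq_closure]
    exact Subgroup.subset_closure (exists_commutator_SUL hq h (by omega) hu hc _ hg')
  obtain ⟨g', hg', hgg⟩ := key h1
  rwa [← Subtype.ext hgg]

/-! ### Centres -/

/-- A unitary map commuting with all transvections fixes all isotropic points. -/
lemma fix_of_comm (hq : QConj σ q) (h : HForm B) {g : V ≃ₗ[F] V}
    (hg : ∀ (u : V) (c : F) (hu : B u u = 0) (hc : c + σ c = 0),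
      g * tvH h hu hc = tvH h hu hc * g) {u : V} (hu : B u u = 0) : ∃ a : F, g u = a • u := by
  by_cases hu0 : u = 0
  · exact ⟨1, by rw [hu0, map_zero, smul_zero]⟩
  obtain ⟨c, hc0, hc⟩ := hq.exists_trace_ne_zero (map_zero σ)
  obtain ⟨f, hf, huf⟩ := h.exists_partner hq hu0 hu
  have h1 := LinearEquiv.congr_fun (hg u c hu hc) f
  rw [LinearEquiv.mul_apply, LinearEquiv.mul_apply, tvH_apply, tvH_apply, map_add,
    LinearEquiv.map_smul, huf, mul_one] at h1
  have h2 : c • g u = (c * B u (g f)) • u := add_left_cancel h1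
  refine ⟨B u (g f), ?_⟩
  have h3 : c • g u = c • (B u (g f) • u) := by rw [h2, mul_smul]
  exact smul_right_injective V hc0 h3

/-- A unitary map fixing all isotropic points is scalar. -/
theorem scalar_of_fix (hq : QConj σ q) (h : HForm B) (hV : 2 ≤ finrank F V) {g : V ≃ₗ[F] V}
    (hgU : g ∈ U B) (hg : ∀ u : V, B u u = 0 → ∃ a : F, g u = a • u) :
    ∃ a : F, a * σ a = 1 ∧ ∀ x, g x = a • x := by
  obtain ⟨e, he0, he⟩ := h.exists_isotropic hq hV
  obtain ⟨f, hf, hef⟩ := h.exists_partner hq he0 he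
  have hfe : B f e = 1 := by rw [← h.symm, hef, map_one]
  have hU := mem_U.mp hgU
  obtain ⟨a, ha⟩ := hg e he
  obtain ⟨b, hb⟩ := hg f hf
  obtain ⟨ε, hε0, hε⟩ := hq.exists_trace_ne_zero (map_zero σ)
  have hli := LinearIndependent.pair_iff.mp (linearIndependent_hyp h he hf hef)
  -- `a = b`
  have hab : a = b := by
    have h1 : B (e + ε • f) (e + ε • f) = 0 := by
      simp only [map_add_left, map_add_right, map_smul_left, map_smul_right, he, hf, hef, hfe]
      linear_combination hε
    obtain ⟨d, hd⟩ := hg _ h1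
    rw [map_add, LinearEquiv.map_smul, ha, hb] at hd
    have h2 : (a - d) • e + (ε * (b - d)) • f = 0 := by
      have : (a - d) • e + (ε * (b - d)) • f = (a • e + ε • b • f) - d • (e + ε • f) := by module
      rw [this, hd, sub_self]
    obtain ⟨h3, h4⟩ := hli _ _ h2
    have h5 := (mul_eq_zero.mp h4).resolve_left hε0
    linear_combination h3 - h5
  have hunit : a * σ a = 1 := by
    have h1 := hU e f
    rw [ha, hb, ← hab, map_smul_left, map_smul_right, hef] at h1
    linear_combination h1
  have ha0 : a ≠ 0 := by rintro rfl; rw [zero_mul] at hunit; exact zero_ne_one hunit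
  have hσa0 : σ a ≠ 0 := by rw [Ne, map_eq_zero]; exact ha0
  refine ⟨a, hunit, fun x => ?_⟩
  have hdec := hpp_decomp h he hf hef x
  set w := x - B f x • e - B e x • f with hw
  obtain ⟨hw1, hw2⟩ := mem_hpp.mp hdec
  have hxw : x = B f x • e + B e x • f + w := by rw [hw]; abel
  have hgw : g w = a • w := by
    obtain ⟨s, hs⟩ := hq.exists_trace (c := - B w w) (by rw [map_neg, h.self_fixed])
    have hwe := h.eq_zero_comm hw1
    have hwf := h.eq_zero_comm hw2
    have h1 : B (e + s • f + w) (e + s • f + w) = 0 := by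
      simp only [map_add_left, map_add_right, map_smul_left, map_smul_right, he, hf, hef, hfe,
        hw1, hw2, hwe, hwf]
      linear_combination hs
    obtain ⟨d, hd⟩ := hg _ h1
    have h2 : B f (g w) = 0 := by
      have := hU f w
      rw [hb, map_smul_left, hw2, ← hab] at this
      exact (mul_eq_zero.mp this).resolve_left hσa0
    rw [_root_.map_add, _root_.map_add, LinearEquiv.map_smul, ha, hb] at hd
    have h3 : a = d := by
      have h4 := congrArg (B f) hd
      simp only [map_add_right, map_smul_right, hfe, hf, h2, hw2] at h4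
      linear_combination h4
    rw [← h3, ← hab, smul_add, smul_add, smul_comm s a f] at hd
    exact add_left_cancel hd
  rw [hxw, map_add, map_add, LinearEquiv.map_smul, LinearEquiv.map_smul, ha, hb, hgw, ← hab]
  module

/-- Scalars in the unitary group. -/
noncomputable def scalU (B : V →ₛₗ[σ] V →ₗ[F] F) (a : normOne σ) : V ≃ₗ[F] V :=
  LinearEquiv.smulOfUnit a.1

lemma scalU_apply (a : normOne σ) (x : V) : scalU B a x = (a.1 : F) • x := rfl

lemma scalU_mem (a : normOne σ) : scalU B a ∈ U B := by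
  rw [mem_U]
  intro x y
  rw [scalU_apply, scalU_apply, map_smul_left, map_smul_right]
  linear_combination (B x y) * mem_normOne.mp a.2

lemma det_scalU (a : normOne σ) :
    LinearMap.det (scalU B a : V →ₗ[F] V) = (a.1 : F) ^ finrank F V := by
  have h1 : (scalU B a : V →ₗ[F] V) = (a.1 : F) • LinearMap.id := by
    ext x; rfl
  rw [h1, LinearMap.det_smul, LinearMap.det_id, mul_one]

/-- The centre of the special unitary group. -/
theorem card_center_SUL (hq : QConj σ q) (h : HForm B) (hV : 2 ≤ finrank F V) :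
    Nat.card (Subgroup.center (SUL B)) = Nat.gcd (finrank F V) (q + 1) := by
  have := hq.finite
  have h1 : Nat.card (powMonoidHom (finrank F V) : normOne σ →* normOne σ).ker =
      Nat.gcd (finrank F V) (q + 1) := by
    rw [IsCyclic.card_powMonoidHom_ker, card_normOne hq, Nat.gcd_comm]
  rw [← h1]
  have : Nontrivial V := Module.nontrivial_of_finrank_pos (R := F) (by omega)
  symm
  apply Nat.card_congr
  refine Equiv.ofBijective (fun a => ⟨⟨scalU B a.1, ?_⟩, ?_⟩) ⟨?_, ?_⟩
  · rw [mem_SUL]
    refine ⟨scalU_mem _, ?_⟩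
    rw [det_scalU]
    have h2 := MonoidHom.mem_ker.mp a.2
    rw [powMonoidHom_apply] at h2
    have h3 := congrArg (fun u : normOne σ => ((u : Fˣ) : F)) h2
    simpa using h3
  · rw [Subgroup.mem_center_iff]
    intro g
    apply Subtype.ext
    ext x
    change g.1 ((a.1.1 : F) • x) = (a.1.1 : F) • g.1 x
    rw [LinearEquiv.map_smul]
  · intro a b hab
    obtain ⟨x, hx⟩ := exists_ne (0 : V)
    have h2 := congrArg (fun z : Subgroup.center (SUL B) => (z.1.1 : V ≃ₗ[F] V) x) hab
    change (a.1.1 : F) • x = (b.1.1 : F) • x at h2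
    apply Subtype.ext
    apply Subtype.ext
    apply Units.ext
    exact smul_left_injective F hx h2
  · rintro ⟨⟨g, hg⟩, hgc⟩
    have hcomm : ∀ (u : V) (c : F) (hu : B u u = 0) (hc : c + σ c = 0),
        g * tvH h hu hc = tvH h hu hc * g := by
      intro u c hu hc
      exact (congrArg Subtype.val (Subgroup.mem_center_iff.mp hgc ⟨_, tvH_mem h hu hc⟩)).symm
    obtain ⟨a, ha1, ha⟩ := scalar_of_fix hq h hV (mem_SUL.mp hg).1
      (fun u hu => fix_of_comm hq h hcomm hu)
    have ha0 : a ≠ 0 := by rintro rfl; rw [zero_mul] at ha1; exact zero_ne_one ha1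
    have hga : g = scalU B ⟨Units.mk0 a ha0, ha1⟩ := by
      ext x
      rw [ha, scalU_apply]
      rfl
    refine ⟨⟨⟨Units.mk0 a ha0, ha1⟩, ?_⟩, ?_⟩
    · rw [MonoidHom.mem_ker, powMonoidHom_apply]
      apply Subtype.ext
      apply Units.ext
      have h2 := (mem_SUL.mp hg).2
      rw [hga, det_scalU] at h2
      simpa using h2
    · apply Subtype.ext
      apply Subtype.ext
      exact hga.symm

/-- The centre of the unitary group. -/
theorem mem_center_U (hq : QConj σ q) (h : HForm B) (hV : 2 ≤ finrank F V) (g : U B) :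
    g ∈ Subgroup.center (U B) ↔ ∃ a : normOne σ, (g : V ≃ₗ[F] V) = scalU B a := by
  constructor
  · intro hgc
    have hcomm : ∀ (u : V) (c : F) (hu : B u u = 0) (hc : c + σ c = 0),
        (g : V ≃ₗ[F] V) * tvH h hu hc = tvH h hu hc * g := by
      intro u c hu hc
      exact (congrArg Subtype.val (Subgroup.mem_center_iff.mp hgc
        ⟨_, (mem_SUL.mp (tvH_mem h hu hc)).1⟩)).symm
    obtain ⟨a, ha1, ha⟩ := scalar_of_fix hq h hV g.2 (fun u hu => fix_of_comm hq h hcomm hu)
    have ha0 : a ≠ 0 := by rintro rfl; rw [zero_mul] at ha1; exact zero_ne_one ha1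
    refine ⟨⟨Units.mk0 a ha0, ha1⟩, ?_⟩
    ext x
    rw [ha, scalU_apply]
    rfl
  · rintro ⟨a, ha⟩
    rw [Subgroup.mem_center_iff]
    intro g'
    apply Subtype.ext
    change (g' : V ≃ₗ[F] V) * g = g * g'
    rw [ha]
    ext x
    change g'.1 ((a.1 : F) • x) = (a.1 : F) • g'.1 x
    rw [LinearEquiv.map_smul]

lemma coe_detU (hq : QConj σ q) (h : HForm B) (g : U B) :
    ((detU hq h g : Fˣ) : F) = LinearMap.det ((g : V ≃ₗ[F] V) : V →ₗ[F] V) :=
  LinearEquiv.coe_det _

end CfsgLib.Herm
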