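import Cfsg.Agent.Lib.Herm6
import Cfsg.Agent.Lib.AltForm4

/-!
# Hermitian forms over finite fields VII: action on isotropic points, simplicity
-/

namespace CfsgLib.Herm

open Module CfsgLib.IsomDecomp Cfsg
open scoped commutatorElement LinearAlgebra.Projectivization Pointwise

set_option linter.unusedSimpArgs false
set_option linter.unusedSectionVars false

variable {F V : Type*} [Field F] [AddCommGroup V] [Module F V] [FiniteDimensional F V]
variable {σ : F →+* F} {q : ℕ} {B : V →ₛₗ[σ] V →ₗ[F] F}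

/-! ### Hyperbolic rotations -/

/-- The map `x ↦ x + (c - 1) B(f,x) e + (σ(c)⁻¹ - 1) B(e,x) f`. -/
noncomputable def hsT (B : V →ₛₗ[σ] V →ₗ[F] F) (e f : V) (c : F) : V →ₗ[F] V :=
  LinearMap.id + LinearMap.smulRight ((c - 1) • B f) e +
    LinearMap.smulRight (((σ c)⁻¹ - 1) • B e) f

lemma hsT_apply (e f : V) (c : F) (x : V) :
    hsT B e f c x = x + ((c - 1) * B f x) • e + (((σ c)⁻¹ - 1) * B e x) • f := rfl

lemma hsT_isom (hq : QConj σ q) (h : HForm B) {e f : V} (he : B e e = 0) (hf : B f f = 0)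
    (hef : B e f = 1) {c : F} (hc : c ≠ 0) (x y : V) :
    B (hsT B e f c x) (hsT B e f c y) = B x y := by
  have hfe : B f e = 1 := by rw [← h.symm, hef, map_one]
  have hσc : σ c ≠ 0 := by rw [Ne, map_eq_zero]; exact hc
  rw [hsT_apply, hsT_apply]
  simp only [map_add_left, map_add_right, map_smul_left, map_smul_right, map_mul, map_sub,
    map_one, h.symm e x, h.symm f x, he, hf, hef, hfe, map_inv₀, hq.invol]
  field_simp
  ring

lemma det_hsT (h : HForm B) {e f : V} (he : B e e = 0) (hf : B f f = 0)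
    (hef : B e f = 1) {c : F} : LinearMap.det (hsT B e f c) = c * (σ c)⁻¹ := by
  have hfe : B f e = 1 := by rw [← h.symm, hef, map_one]
  have h1 : hsT B e f c = (LinearMap.transvection (((σ c)⁻¹ - 1) • B e) f).comp
      (LinearMap.transvection ((c - 1) • B f) e) := by
    ext x
    rw [hsT_apply, LinearMap.comp_apply, LinearMap.transvection.apply,
      LinearMap.transvection.apply]
    simp only [LinearMap.smul_apply, LinearMap.map_add, LinearMap.map_smul, he, smul_eq_mul]
    module
  rw [h1, LinearMap.det_comp, LinearMap.transvection.det, LinearMap.transvection.det]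
  simp only [LinearMap.smul_apply, hfe, hef, smul_eq_mul]
  ring

/-- Hyperbolic rotations. -/
noncomputable def hsH (hq : QConj σ q) (h : HForm B) {e f : V} (he : B e e = 0) (hf : B f f = 0)
    (hef : B e f = 1) {c : F} (hc : c ≠ 0) : V ≃ₗ[F] V :=
  ofIsomH h (hsT B e f c) (hsT_isom hq h he hf hef hc)

lemma hsH_apply (hq : QConj σ q) (h : HForm B) {e f : V} (he : B e e = 0) (hf : B f f = 0)
    (hef : B e f = 1) {c : F} (hc : c ≠ 0) (x : V) : hsH hq h he hf hef hc x =
      x + ((c - 1) * B f x) • e + (((σ c)⁻¹ - 1) * B e x) • f := rfl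

lemma hsH_mem (hq : QConj σ q) (h : HForm B) {e f : V} (he : B e e = 0) (hf : B f f = 0)
    (hef : B e f = 1) {c : F} (hc : c ≠ 0) : hsH hq h he hf hef hc ∈ U B := ofIsomH_mem _ _ _

lemma det_hsH (hq : QConj σ q) (h : HForm B) {e f : V} (he : B e e = 0) (hf : B f f = 0)
    (hef : B e f = 1) {c : F} (hc : c ≠ 0) :
    LinearMap.det (hsH hq h he hf hef hc : V →ₗ[F] V) = c * (σ c)⁻¹ := det_hsT h he hf hef

/-- Hilbert 90. -/
lemma QConj.hilbert90 (hq : QConj σ q) {d : F} (hd : d * σ d = 1) :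
    ∃ c, c ≠ 0 ∧ c * (σ c)⁻¹ = d := by
  have hd0 : d ≠ 0 := by rintro rfl; rw [zero_mul] at hd; exact zero_ne_one hd
  have key : ∀ x : F, x + d * σ x ≠ 0 → ∃ c, c ≠ 0 ∧ c * (σ c)⁻¹ = d := by
    intro x hx
    refine ⟨x + d * σ x, hx, ?_⟩
    have h1 : σ (x + d * σ x) ≠ 0 := by rw [Ne, map_eq_zero]; exact hx
    rw [← div_eq_mul_inv, div_eq_iff h1, map_add, map_mul, hq.invol]
    linear_combination -x * hd
  by_cases h1 : (1 : F) + d * σ 1 = 0
  · obtain ⟨a, ha⟩ := hq.exists_ne
    apply key a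
    rw [map_one, mul_one] at h1
    have h2 : d = -1 := by linear_combination h1
    rw [h2]
    intro h3
    apply ha
    linear_combination -h3
  · exact key 1 h1

/-! ### Orbits on isotropic vectors -/

lemma det_mul_eq (a b : V ≃ₗ[F] V) : LinearMap.det ((a * b : V ≃ₗ[F] V) : V →ₗ[F] V) =
    LinearMap.det (a : V →ₗ[F] V) * LinearMap.det (b : V →ₗ[F] V) := by
  rw [← LinearMap.det_comp]
  rfl

/-- Transitivity on hyperbolic pairs in dimension at least three. -/
theorem exists_SUL_pair (hq : QConj σ q) (h : HForm B) (hV : 3 ≤ finrank F V) {e f e' f' : V}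
    (he : B e e = 0) (hf : B f f = 0) (hef : B e f = 1) (he' : B e' e' = 0) (hf' : B f' f' = 0)
    (hef' : B e' f' = 1) : ∃ g ∈ SUL B, g e = e' ∧ g f = f' := by
  have := hq.finite
  have hfe : B f e = 1 := by rw [← h.symm, hef, map_one]
  have hfe' : B f' e' = 1 := by rw [← h.symm, hef', map_one]
  obtain ⟨g, hg, hgx⟩ := h.exists_family hq ![e, f] ![e', f'] (linearIndependent_hyp h he hf hef)
    (linearIndependent_hyp h he' hf' hef') (fun i j => by
      fin_cases i <;> fin_cases j <;> simp [he, hf, hef, he', hf', hef', hfe, hfe'])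
  have h0 : g e = e' := hgx 0
  have h1 : g f = f' := hgx 1
  have hWf := hpp_hform hq h he' hf' hef'
  have hWd := finrank_hpp hq h he' hf' hef'
  have : Nontrivial (hpp B e' f') := Module.nontrivial_of_finrank_pos (R := F) (by omega)
  obtain ⟨⟨z, hzm⟩, hz⟩ := hWf.exists_norm_eq hq (map_one σ) one_ne_zero
  have hzz : B z z = 1 := hz
  obtain ⟨hz1, hz2⟩ := mem_hpp.mp hzm
  have hz1' := h.eq_zero_comm hz1
  have hz2' := h.eq_zero_comm hz2
  have hdet := det_norm hq h hg
  set d := LinearMap.det (g : V →ₗ[F] V) with hd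
  have hd0 : d ≠ 0 := fun h0 => by rw [h0, mul_zero] at hdet; exact zero_ne_one hdet
  have hd1 : d⁻¹ * σ d⁻¹ = 1 := by
    rw [map_inv₀, ← mul_inv, mul_comm d, hdet, inv_one]
  refine ⟨qrefl h hzz hd1 * g, ?_, ?_, ?_⟩
  · rw [mem_SUL]
    refine ⟨mul_mem (qrefl_mem h hzz hd1) hg, ?_⟩
    rw [det_mul_eq, det_qrefl, ← hd, inv_mul_cancel₀ hd0]
  · rw [LinearEquiv.mul_apply, h0, qrefl_apply, hz1', mul_zero, zero_smul, add_zero]
  · rw [LinearEquiv.mul_apply, h1, qrefl_apply, hz2', mul_zero, zero_smul, add_zero]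

/-- Transitivity on isotropic vectors. -/
theorem exists_SUL_isotropic (hq : QConj σ q) (h : HForm B) (hV : 3 ≤ finrank F V) {e e' : V}
    (he0 : e ≠ 0) (he : B e e = 0) (he0' : e' ≠ 0) (he' : B e' e' = 0) :
    ∃ g ∈ SUL B, g e = e' := by
  obtain ⟨f, hf, hef⟩ := h.exists_partner hq he0 he
  obtain ⟨f', hf', hef'⟩ := h.exists_partner hq he0' he'
  obtain ⟨g, hg, hge, -⟩ := exists_SUL_pair hq h hV he hf hef he' hf' hef'
  exact ⟨g, hg, hge⟩

/-- Transitivity on pairs of orthogonal isotropic points. -/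
theorem exists_SUL_orthogonal (hq : QConj σ q) (h : HForm B) {u v u' v' : V}
    (hli : LinearIndependent F ![u, v]) (hli' : LinearIndependent F ![u', v'])
    (hu : B u u = 0) (hv : B v v = 0) (huv : B u v = 0) (hu' : B u' u' = 0) (hv' : B v' v' = 0)
    (huv' : B u' v' = 0) : ∃ g ∈ SUL B, ∃ a : F, a ≠ 0 ∧ g u = a • u' ∧ g v = v' := by
  have := hq.finite
  have hvu : B v u = 0 := h.eq_zero_comm huv
  have hvu' : B v' u' = 0 := h.eq_zero_comm huv'
  obtain ⟨g, hg, hgx⟩ := h.exists_family hq ![u, v] ![u', v'] hli hli' (fun i j => by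
      fin_cases i <;> fin_cases j <;> simp [hu, hv, huv, hu', hv', huv', hvu, hvu'])
  have h0 : g u = u' := hgx 0
  have h1 : g v = v' := hgx 1
  -- a partner of `u'` orthogonal to `v'`
  have hnm : u' ∉ F ∙ v' := by
    intro hm
    obtain ⟨c, hc⟩ := Submodule.mem_span_singleton.mp hm
    have h2 := LinearIndependent.pair_iff.mp hli' 1 (-c) (by rw [← hc]; module)
    exact one_ne_zero h2.1
  obtain ⟨r, hr1, hr2⟩ := h.exists_orth_ne_zero hnm
  have hr1' : B r v' = 0 := hr1 v' (Submodule.mem_span_singleton_self v')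
  have hru : B u' r ≠ 0 := fun h0 => hr2 (h.eq_zero_comm h0)
  set z := (B u' r)⁻¹ • r with hz
  have hz1 : B u' z = 1 := by rw [hz, map_smul_right, inv_mul_cancel₀ hru]
  have hz2 : B z u' = 1 := by rw [← h.symm, hz1, map_one]
  have hz3 : B z v' = 0 := by rw [hz, map_smul_left, hr1', mul_zero]
  obtain ⟨a, ha⟩ := hq.exists_trace (c := - B z z) (by rw [map_neg, h.self_fixed])
  set f := z + a • u' with hf
  have hff : B f f = 0 := by
    simp only [hf, map_add_left, map_add_right, map_smul_left, map_smul_right, hu', hz1, hz2]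
    linear_combination ha
  have huf : B u' f = 1 := by rw [hf, map_add_right, hz1, map_smul_right, hu']; ring
  have hfv : B f v' = 0 := by rw [hf, map_add_left, hz3, map_smul_left, huv']; ring
  have hdet := det_norm hq h hg
  set d := LinearMap.det (g : V →ₗ[F] V) with hd
  have hd0 : d ≠ 0 := fun h0 => by rw [h0, mul_zero] at hdet; exact zero_ne_one hdet
  have hd1 : d⁻¹ * σ d⁻¹ = 1 := by
    rw [map_inv₀, ← mul_inv, mul_comm d, hdet, inv_one]
  obtain ⟨c, hc0, hc⟩ := hq.hilbert90 hd1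
  refine ⟨hsH hq h hu' hff huf hc0 * g, ?_, c, hc0, ?_, ?_⟩
  · rw [mem_SUL]
    refine ⟨mul_mem (hsH_mem _ _ _ _ _ _) hg, ?_⟩
    rw [det_mul_eq, det_hsH, hc, ← hd, inv_mul_cancel₀ hd0]
  · have hfu : B f u' = 1 := by rw [← h.symm, huf, map_one]
    rw [LinearEquiv.mul_apply, h0, hsH_apply, hu', hfu]
    module
  · rw [LinearEquiv.mul_apply, h1, hsH_apply, huv', hfv]
    module

/-! ### The action on isotropic points -/

/-- The isotropic points. -/
def ipSet (B : V →ₛₗ[σ] V →ₗ[F] F) : SubMulAction (SUL B) (ℙ F V) where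
  carrier := {x | ∃ (v : V) (hv : v ≠ 0), B v v = 0 ∧ x = Projectivization.mk F v hv}
  smul_mem' := by
    rintro g _ ⟨v, hv, hQ, rfl⟩
    refine ⟨g.1 v, (LinearEquiv.map_ne_zero_iff _).mpr hv, ?_, rfl⟩
    rw [mem_U.mp g.2.1, hQ]

/-- The point of an isotropic vector. -/
def ipMk (B : V →ₛₗ[σ] V →ₗ[F] F) {v : V} (hv : v ≠ 0) (h : B v v = 0) : ipSet B :=
  ⟨Projectivization.mk F v hv, v, hv, h, rfl⟩

lemma smul_ipMk (g : SUL B) {v : V} (hv : v ≠ 0) (h : B v v = 0) :
    g • ipMk B hv h = ipMk B (v := g.1 v) ((LinearEquiv.map_ne_zero_iff _).mpr hv)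
      (by rw [mem_U.mp g.2.1, h]) := rfl

lemma ipMk_eq_iff {v w : V} (hv : v ≠ 0) (h : B v v = 0) (hw : w ≠ 0)
    (h' : B w w = 0) : ipMk B hv h = ipMk B hw h' ↔ ∃ a : F, a • w = v := by
  rw [Subtype.ext_iff]
  exact Projectivization.mk_eq_mk_iff' F v w hv hw

lemma exists_ipMk (x : ipSet B) : ∃ (v : V) (hv : v ≠ 0) (h : B v v = 0),
    x = ipMk B hv h := by
  obtain ⟨x, v, hv, h, rfl⟩ := x
  exact ⟨v, hv, h, rfl⟩

lemma linearIndependent_of_ipMk_ne {v w : V} (hv : v ≠ 0) (h : B v v = 0)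
    (hw : w ≠ 0) (h' : B w w = 0) (hne : ipMk B hv h ≠ ipMk B hw h') :
    LinearIndependent F ![v, w] := by
  rw [← CfsgLib.AltForm.mk_ne_mk_iff hv hw]
  intro h1
  exact hne (Subtype.ext h1)

/-- Primitivity on isotropic points. -/
theorem isPreprimitive_ipSet (hq : QConj σ q) (h : HForm B) (hV : 3 ≤ finrank F V) :
    MulAction.IsPreprimitive (SUL B) (ipSet B) := by
  have := hq.finite
  have hpt : MulAction.IsPretransitive (SUL B) (ipSet B) := by
    refine ⟨fun x y => ?_⟩
    obtain ⟨v, hv, hv', rfl⟩ := exists_ipMk x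
    obtain ⟨w, hw, hw', rfl⟩ := exists_ipMk y
    obtain ⟨g, hg, hgv⟩ := exists_SUL_isotropic hq h hV hv hv' hw hw'
    refine ⟨⟨g, hg⟩, ?_⟩
    rw [smul_ipMk, ipMk_eq_iff]
    exact ⟨1, by rw [one_smul, ← hgv]⟩
  have orb1 : ∀ {u v u' v' : V} (hu : u ≠ 0) (hv : v ≠ 0) (hu' : u' ≠ 0) (hv' : v' ≠ 0)
      (su : B u u = 0) (sv : B v v = 0) (su' : B u' u' = 0) (sv' : B v' v' = 0),
      B u v ≠ 0 → B u' v' ≠ 0 → ∃ g : SUL B,
        g • ipMk B hu su = ipMk B hu' su' ∧ g • ipMk B hv sv = ipMk B hv' sv' := by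
    intro u v u' v' hu hv hu' hv' su sv su' sv' huv huv'
    have e1 : B u ((B u v)⁻¹ • v) = 1 := by
      rw [map_smul_right, inv_mul_cancel₀ huv]
    have e2 : B u' ((B u' v')⁻¹ • v') = 1 := by
      rw [map_smul_right, inv_mul_cancel₀ huv']
    obtain ⟨g, hg, hgu, hgv⟩ := exists_SUL_pair hq h hV su
      (by rw [map_smul_left, map_smul_right, sv]; ring) e1 su'
      (by rw [map_smul_left, map_smul_right, sv']; ring) e2
    refine ⟨⟨g, hg⟩, ?_, ?_⟩
    · rw [smul_ipMk, ipMk_eq_iff]
      exact ⟨1, by rw [one_smul, ← hgu]⟩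
    · rw [smul_ipMk, ipMk_eq_iff]
      refine ⟨B u v * (B u' v')⁻¹, ?_⟩
      change _ = g v
      rw [mul_smul, ← hgv, LinearEquiv.map_smul, smul_smul, mul_inv_cancel₀ huv, one_smul]
  have orb2 : ∀ {u v u' v' : V} (hu : u ≠ 0) (hv : v ≠ 0) (hu' : u' ≠ 0) (hv' : v' ≠ 0)
      (su : B u u = 0) (sv : B v v = 0) (su' : B u' u' = 0) (sv' : B v' v' = 0),
      B u v = 0 → B u' v' = 0 → LinearIndependent F ![u, v] →
      LinearIndependent F ![u', v'] → ∃ g : SUL B,
        g • ipMk B hu su = ipMk B hu' su' ∧ g • ipMk B hv sv = ipMk B hv' sv' := by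
    intro u v u' v' hu hv hu' hv' su sv su' sv' huv huv' hli hli'
    obtain ⟨g, hg, a, ha0, hgu, hgv⟩ := exists_SUL_orthogonal hq h hli hli' su sv huv su' sv' huv'
    refine ⟨⟨g, hg⟩, ?_, ?_⟩
    · rw [smul_ipMk, ipMk_eq_iff]
      exact ⟨a, hgu.symm⟩
    · rw [smul_ipMk, ipMk_eq_iff]
      exact ⟨1, by rw [one_smul]; exact hgv.symm⟩
  refine ⟨fun {S} hS => ?_⟩
  by_cases hsub : S.Subsingleton
  · exact Or.inl hsub
  right
  have hmove : ∀ {g : SUL B} {x y : ipSet B}, x ∈ S → y ∈ S → g • x ∈ S → g • y ∈ S := by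
    intro g x y hx hy hgx
    have h1 : g • S = S := by
      rcases hS.smul_eq_smul_or_disjoint g 1 with h | h
      · rw [one_smul] at h; exact h
      · rw [one_smul] at h
        exact absurd hgx (fun hh => Set.disjoint_left.mp h ⟨x, hx, rfl⟩ hh)
    rw [← h1]
    exact ⟨y, hy, rfl⟩
  rw [Set.not_subsingleton_iff] at hsub
  obtain ⟨x, hx, y, hy, hxy⟩ := hsub
  obtain ⟨u, hu, su, rfl⟩ := exists_ipMk x
  obtain ⟨v, hv, sv, rfl⟩ := exists_ipMk y
  rw [Set.eq_univ_iff_forall]
  intro z
  obtain ⟨w, hw, sw, rfl⟩ := exists_ipMk z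
  by_cases huv : B u v = 0
  · have hli := linearIndependent_of_ipMk_ne hu su hv sv hxy
    have step : ∀ {a b : V} (ha : a ≠ 0) (hb : b ≠ 0) (sa : B a a = 0) (sb : B b b = 0),
        B a b = 0 → ipMk B ha sa ∈ S → ipMk B hb sb ∈ S := by
      intro a b ha hb sa sb hab haS
      by_cases hne : ipMk B ha sa = ipMk B hb sb
      · rwa [← hne]
      · obtain ⟨g, hg1, hg2⟩ := orb2 hu hv ha hb su sv sa sb huv hab hli
          (linearIndependent_of_ipMk_ne ha sa hb sb hne)
        rw [← hg2]
        exact hmove hx hy (by rw [hg1]; exact haS)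
    by_cases huw : B u w = 0
    · exact step hu hw su sw huw hx
    · -- a hyperbolic pair; its complement contains isotropic vectors
      have e1 : B u ((B u w)⁻¹ • w) = 1 := by
        rw [map_smul_right, inv_mul_cancel₀ huw]
      have e2 : B ((B u w)⁻¹ • w) ((B u w)⁻¹ • w) = 0 := by
        rw [map_smul_left, map_smul_right, sw]; ring
      have hWf := hpp_hform hq h su e2 e1
      have hWd := finrank_hpp hq h su e2 e1
      -- the dimension is at least four, as `⟨u, v⟩` is totally isotropic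
      have h4 : 4 ≤ finrank F V := by
        -- `v` minus its component along `u` lies in the complement of a hyperbolic pair
        obtain ⟨f, hf, huf⟩ := h.exists_partner hq hu su
        have hd2 := finrank_hpp hq h su hf huf
        by_contra hlt
        have hd1 : finrank F (hpp B u f) = 1 := by omega
        have hdec := hpp_decomp h su hf huf v
        rw [huv, zero_smul, sub_zero] at hdec
        have hiso : B (v - B f v • u) (v - B f v • u) = 0 := by
          have hvu := h.eq_zero_comm huv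
          simp only [map_sub_left, map_sub_right, map_smul_left, map_smul_right, huv, hvu, su, sv]
          ring
        have hne : v - B f v • u ≠ 0 := by
          intro h0
          have h5 := LinearIndependent.pair_iff.mp hli (-(B f v)) 1 (by rw [← h0]; module)
          exact one_ne_zero h5.2
        obtain ⟨b, hb⟩ := (hpp_hform hq h su hf huf).exists_orthonormal hq hd1
        have h6 := b.sum_repr ⟨_, hdec⟩
        rw [Fin.sum_univ_one] at h6
        have h7 : resB B (hpp B u f) ⟨_, hdec⟩ ⟨_, hdec⟩ = 0 := hiso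
        rw [← h6, map_smul_left, map_smul_right, hb, if_pos rfl, mul_one] at h7
        have h8 : b.repr ⟨_, hdec⟩ 0 = 0 := by
          rcases mul_eq_zero.mp h7 with h9 | h9
          · exact (map_eq_zero σ).mp h9
          · exact h9
        rw [h8, zero_smul] at h6
        exact hne (congrArg Subtype.val h6.symm)
      obtain ⟨⟨t, htm⟩, ht0, st⟩ := hWf.exists_isotropic hq (by omega)
      have st' : B t t = 0 := st
      have ht0' : t ≠ 0 := fun h0 => ht0 (Subtype.ext h0)
      obtain ⟨h1, h2⟩ := mem_hpp.mp htm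
      have h3 : B w t = 0 := by
        rw [map_smul_left] at h2
        exact (mul_eq_zero.mp h2).resolve_left fun h0 => inv_ne_zero huw ((map_eq_zero σ).mp h0)
      exact step ht0' hw st' sw (h.eq_zero_comm h3) (step hu ht0' su st' h1 hx)
  · have step : ∀ {a b : V} (ha : a ≠ 0) (hb : b ≠ 0) (sa : B a a = 0) (sb : B b b = 0),
        B a b ≠ 0 → ipMk B ha sa ∈ S → ipMk B hb sb ∈ S := by
      intro a b ha hb sa sb hab haS
      obtain ⟨g, hg1, hg2⟩ := orb1 hu hv ha hb su sv sa sb huv hab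
      rw [← hg2]
      exact hmove hx hy (by rw [hg1]; exact haS)
    by_cases huw : B u w = 0
    swap
    · exact step hu hw su sw huw hx
    obtain ⟨r, -, hru, hrw⟩ := h.exists_orth_ne_zero_two (X := ⊥) (x := u) (y := w)
      (by simpa using hu) (by simpa using hw)
    -- make `r` isotropic by adding a multiple of `u`
    have hur : B u r ≠ 0 := fun h0 => hru (h.eq_zero_comm h0)
    obtain ⟨a, ha⟩ := hq.exists_trace (c := - B r r) (by rw [map_neg, h.self_fixed])
    set r' := r + (a / B r u) • u with hr'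
    have hσ : σ (B r u) = B u r := h.symm r u
    have h1 : B r' r' = 0 := by
      simp only [hr', map_add_left, map_add_right, map_smul_left, map_smul_right, su, map_div₀, hσ]
      have e1 : a / B r u * B r u = a := div_mul_cancel₀ _ hru
      have e2 : σ a / B u r * B u r = σ a := div_mul_cancel₀ _ hur
      linear_combination ha + e1 + e2
    have h2 : B u r' ≠ 0 := by
      rw [hr', map_add_right, map_smul_right, su, mul_zero, add_zero]
      exact hur
    have h3 : B r' w ≠ 0 := by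
      rw [hr', map_add_left, map_smul_left, huw, mul_zero, add_zero]
      exact hrw
    have hr0 : r' ≠ 0 := by
      intro h0
      rw [h0, map_zero_left] at h3
      exact h3 rfl
    exact step hr0 hw h1 sw h3 (step hu hr0 su h1 h2 hx)

/-! ### The Iwasawa structure -/

/-- The group of transvections of an isotropic vector. -/
def tvS (h : HForm B) {u : V} (hu : B u u = 0) : Subgroup (SUL B) where
  carrier := {g | ∃ (c : F) (hc : c + σ c = 0), (g : V ≃ₗ[F] V) = tvH h hu hc}
  mul_mem' := by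
    rintro a b ⟨c, hc, ha⟩ ⟨d, hd, hb⟩
    have hcd : (c + d) + σ (c + d) = 0 := by rw [map_add]; linear_combination hc + hd
    refine ⟨c + d, hcd, ?_⟩
    rw [Subgroup.coe_mul, ha, hb]
    ext x
    simp only [LinearEquiv.mul_apply, tvH_apply, map_add_right, map_smul_right, hu]
    module
  one_mem' := ⟨0, by rw [map_zero, add_zero], by
    ext x
    rw [tvH_apply]
    simp⟩
  inv_mem' := by
    rintro a ⟨c, hc, ha⟩
    have hc' : -c + σ (-c) = 0 := by rw [map_neg]; linear_combination -hc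
    refine ⟨-c, hc', ?_⟩
    rw [Subgroup.coe_inv, ha, inv_eq_iff_mul_eq_one]
    ext x
    simp only [LinearEquiv.mul_apply, tvH_apply, map_add_right, map_smul_right, hu]
    change _ = x
    module

lemma mem_tvS (h : HForm B) {u : V} (hu : B u u = 0) (g : SUL B) :
    g ∈ tvS h hu ↔ ∃ (c : F) (hc : c + σ c = 0), (g : V ≃ₗ[F] V) = tvH h hu hc := Iff.rfl

lemma tvS_smul (hq : QConj σ q) (h : HForm B) {u : V} (hu : B u u = 0) {t : F} (ht : t ≠ 0)
    (htu : B (t • u) (t • u) = 0) : tvS h htu = tvS h hu := by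
  have hσt : σ t ≠ 0 := by rw [Ne, map_eq_zero]; exact ht
  ext g
  rw [mem_tvS, mem_tvS]
  constructor
  · rintro ⟨c, hc, hg⟩
    have hc' : c * (t * σ t) + σ (c * (t * σ t)) = 0 := by
      rw [map_mul, hq.norm_fixed]
      linear_combination (t * σ t) * hc
    refine ⟨c * (t * σ t), hc', ?_⟩
    rw [hg]
    ext x
    simp only [tvH_apply, map_smul_left]
    module
  · rintro ⟨c, hc, hg⟩
    have hc' : c / (t * σ t) + σ (c / (t * σ t)) = 0 := by
      rw [map_div₀, hq.norm_fixed, ← add_div, hc, zero_div]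
    refine ⟨c / (t * σ t), hc', ?_⟩
    rw [hg]
    ext x
    simp only [tvH_apply, map_smul_left, smul_smul]
    congr 2
    field_simp

lemma conj_tvS (h : HForm B) {u : V} (hu : B u u = 0) (g : SUL B)
    (hgu : B (g.1 u) (g.1 u) = 0) : tvS h hgu = MulAut.conj g • tvS h hu := by
  have hconj : ∀ (c : F) (hc : c + σ c = 0), (g : V ≃ₗ[F] V) * tvH h hu hc * (g : V ≃ₗ[F] V)⁻¹ =
      tvH h hgu hc := by
    intro c hc
    rw [mul_inv_eq_iff_eq_mul]
    ext x
    rw [LinearEquiv.mul_apply, LinearEquiv.mul_apply, tvH_apply, tvH_apply, _root_.map_add,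
      LinearEquiv.map_smul, mem_U.mp g.2.1]
  ext k
  rw [Subgroup.mem_pointwise_smul_iff_inv_smul_mem, mem_tvS, mem_tvS]
  simp only [MulAut.smul_def, MulAut.inv_apply, MulAut.conj_symm_apply, Subgroup.coe_mul,
      Subgroup.coe_inv]
  constructor
  · rintro ⟨c, hc, hk⟩
    refine ⟨c, hc, ?_⟩
    rw [hk, ← hconj c hc]
    group
  · rintro ⟨c, hc, hk⟩
    refine ⟨c, hc, ?_⟩
    rw [← hconj c hc, ← hk]
    group

lemma ipRep_spec (x : ipSet B) : ∃ h : B x.1.rep x.1.rep = 0, x = ipMk B x.1.rep_nonzero h := by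
  obtain ⟨x, v, hv, h, rfl⟩ := x
  obtain ⟨a, ha⟩ := Projectivization.exists_smul_eq_mk_rep F v hv
  have h1 : B (Projectivization.mk F v hv).rep (Projectivization.mk F v hv).rep = 0 := by
    rw [← ha, Units.smul_def, map_smul_left, map_smul_right, h, mul_zero, mul_zero]
  refine ⟨h1, Subtype.ext ?_⟩
  exact (Projectivization.mk_rep _).symm

/-- The Iwasawa structure. -/
noncomputable def iwasawaH (hq : QConj σ q) (h : HForm B) (hT : TG B = SUL B) :
    MulAction.IwasawaStructure (SUL B) (ipSet B) where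
  T x := tvS h (ipRep_spec x).1
  is_comm x := by
    refine ⟨⟨fun a b => ?_⟩⟩
    obtain ⟨a, c, hc, ha⟩ := a
    obtain ⟨b, d, hd, hb⟩ := b
    apply Subtype.ext
    apply Subtype.ext
    change a.1 * b.1 = b.1 * a.1
    rw [ha, hb]
    ext x
    simp only [LinearEquiv.mul_apply, tvH_apply, map_add_right, map_smul_right,
      (ipRep_spec _).1]
    module
  is_conj g x := by
    have h1 := (ipRep_spec x).2
    have h3 : g • x = ipMk B (v := g.1 x.1.rep)
        ((LinearEquiv.map_ne_zero_iff _).mpr x.1.rep_nonzero)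
        (by rw [mem_U.mp g.2.1]; exact (ipRep_spec x).1) := by
      conv_lhs => rw [h1]
      rfl
    rw [← conj_tvS h (ipRep_spec x).1 g (by rw [mem_U.mp g.2.1]; exact (ipRep_spec x).1)]
    have h4 := (ipMk_eq_iff _ _ _ _).mp (h3.symm.trans (ipRep_spec (g • x)).2).symm
    obtain ⟨a, ha⟩ := h4
    have ha0 : a ≠ 0 := by
      rintro rfl
      rw [zero_smul] at ha
      exact (g • x).1.rep_nonzero ha.symm
    have h5 : B (a • g.1 x.1.rep) (a • g.1 x.1.rep) = 0 := by
      rw [map_smul_left, map_smul_right, mem_U.mp g.2.1, (ipRep_spec x).1, mul_zero, mul_zero]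
    rw [← tvS_smul hq h (by rw [mem_U.mp g.2.1]; exact (ipRep_spec x).1) ha0 h5]
    congr 1
    exact ha.symm
  is_generator := by
    rw [eq_top_iff]
    intro g _
    have hg1 : (g : V ≃ₗ[F] V) ∈ TG B := by rw [hT]; exact g.2
    have key : TG B ≤ (⨆ x : ipSet B, tvS h (ipRep_spec x).1).map (SUL B).subtype := by
      conv_lhs => rw [TG]
      rw [Subgroup.closure_le]
      rintro g ⟨u, c, hu, hc, hg⟩
      have hg' : g = tvH h hu hc := LinearEquiv.ext hg
      rw [hg']
      by_cases hu0 : u = 0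
      · have : tvH h hu hc = 1 := by
          ext x
          rw [tvH_apply, hu0, map_zero_left]
          simp
        rw [this]
        exact one_mem _
      refine ⟨⟨tvH h hu hc, tvH_mem h hu hc⟩, ?_, rfl⟩
      refine Subgroup.mem_iSup_of_mem (ipMk B hu0 hu) ?_
      have h1 := (ipRep_spec (ipMk B hu0 hu)).2
      obtain ⟨a, ha⟩ := (ipMk_eq_iff _ _ _ _).mp h1.symm
      have ha0 : a ≠ 0 := by
        rintro rfl
        rw [zero_smul] at ha
        exact (ipMk B hu0 hu).1.rep_nonzero ha.symm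
      have h2 : B (a • u) (a • u) = 0 := by
        rw [map_smul_left, map_smul_right, hu, mul_zero, mul_zero]
      have h3 : tvS h (ipRep_spec (ipMk B hu0 hu)).1 = tvS h hu := by
        rw [← tvS_smul hq h hu ha0 h2]
        congr 1
        exact ha.symm
      rw [h3]
      exact ⟨c, hc, rfl⟩
    obtain ⟨k, hk, hkg⟩ := key hg1
    have : k = g := Subtype.ext hkg
    rwa [← this]

/-- Simplicity of the projective special unitary groups. -/
theorem isSimpleGroup_SUL (hq : QConj σ q) (h : HForm B)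
    (hV : (finrank F V = 3 ∧ 3 ≤ q) ∨ 4 ≤ finrank F V) :
    IsSimpleGroup (SUL B ⧸ Subgroup.center (SUL B)) := by
  have hV3 : 3 ≤ finrank F V := by omega
  have hprim := isPreprimitive_ipSet hq h hV3
  have hperf := commutator_SUL_eq_top hq h hV
  refine CfsgLib.AltForm.isSimpleGroup_quotient_center (iwasawaH hq h (TG_eq hq h (Or.inr hV)))
    hperf ?_ ?_
  · intro g hg
    rw [MonoidHom.mem_ker] at hg
    obtain ⟨a, -, ha⟩ := scalar_of_fix hq h (by omega) (mem_SUL.mp g.2).1 fun v hv => by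
      by_cases hv0 : v = 0
      · exact ⟨0, by rw [hv0, _root_.map_zero, smul_zero]⟩
      have h1 : g • ipMk B hv0 hv = ipMk B hv0 hv := DFunLike.congr_fun hg (ipMk B hv0 hv)
      rw [smul_ipMk, ipMk_eq_iff] at h1
      obtain ⟨a, ha⟩ := h1
      exact ⟨a, ha.symm⟩
    rw [Subgroup.mem_center_iff]
    intro k
    apply Subtype.ext
    ext x
    change k.1 (g.1 x) = g.1 (k.1 x)
    rw [ha, ha, LinearEquiv.map_smul]
  · intro hcen
    have h1 := card_center_SUL hq h (by omega)
    obtain ⟨e, he0, he⟩ := h.exists_isotropic hq (by omega)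
    obtain ⟨f, hf, hef⟩ := h.exists_partner hq he0 he
    obtain ⟨c, hc0, hc⟩ := hq.exists_trace_ne_zero (map_zero σ)
    -- the transvection is central, hence scalar
    have h2 : (⟨tvH h he hc, tvH_mem h he hc⟩ : SUL B) ∈ Subgroup.center (SUL B) := by
      rw [hcen]; trivial
    have hcomm : ∀ (u : V) (d : F) (hu : B u u = 0) (hd : d + σ d = 0),
        tvH h he hc * tvH h hu hd = tvH h hu hd * tvH h he hc := by
      intro u d hu hd
      exact (congrArg Subtype.val (Subgroup.mem_center_iff.mp h2 ⟨_, tvH_mem h hu hd⟩)).symm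
    obtain ⟨a, -, ha⟩ := scalar_of_fix hq h (by omega) (mem_SUL.mp (tvH_mem h he hc)).1
      (fun u hu => fix_of_comm hq h hcomm hu)
    have h3 := ha e
    have h4 := ha f
    rw [tvH_apply, he, mul_zero, zero_smul, add_zero] at h3
    rw [tvH_apply, hef, mul_one] at h4
    have ha1 : a = 1 := by
      have h5 : (a - 1) • e = 0 := by
        rw [sub_smul, ← h3]
        module
      exact sub_eq_zero.mp ((smul_eq_zero.mp h5).resolve_right he0)
    rw [ha1, one_smul] at h4
    have h5 : c • e = 0 := by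
      have : f + c • e = f + 0 := by rw [h4, add_zero]
      exact add_left_cancel this
    exact (smul_ne_zero hc0 he0) h5

end CfsgLib.Herm
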