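import Cfsg.Agent.Lib.Herm7
import Cfsg.Agent.Lib.AltForm5

/-!
# Hermitian forms over finite fields VIII: totally isotropic subspaces, parabolic subgroups
-/

namespace CfsgLib.Herm

open Module CfsgLib.IsomDecomp CfsgLib.CountSub Cfsg

set_option linter.unusedSimpArgs false
set_option linter.unusedSectionVars false

variable {F V : Type*} [Field F] [AddCommGroup V] [Module F V] [FiniteDimensional F V]
variable {σ : F →+* F} {q : ℕ} {B : V →ₛₗ[σ] V →ₗ[F] F}

/-! ### The orthogonal of a subspace -/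

lemma le_perp_of_isotropic {W : Submodule F V} (hW : ∀ u ∈ W, ∀ v ∈ W, B u v = 0) :
    W ≤ perp B W := fun x hx y hy => hW y hy x hx

lemma perp_perp [Finite F] (h : HForm B) (W : Submodule F V) : perp B (perp B W) = W := by
  apply le_antisymm
  · intro x hx
    by_contra hxW
    obtain ⟨r, hr1, hr2⟩ := h.exists_orth_ne_zero hxW
    exact hr2 (hx r fun y hy => h.eq_zero_comm (hr1 y hy))
  · intro x hx y hy
    exact h.eq_zero_comm (hy x hx)

/-- The dimension of the orthogonal. -/
lemma finrank_perp (hq : QConj σ q) (h : HForm B) (W : Submodule F V) :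
    finrank F (perp B W) + finrank F W = finrank F V := by
  have := hq.finite
  let b := finBasis F W
  let Φ : V →ₗ[F] (Fin (finrank F W) → F) := LinearMap.pi fun i => B (b i : V)
  have hker : LinearMap.ker Φ = perp B W := by
    ext x
    rw [LinearMap.mem_ker, mem_perp]
    constructor
    · intro hx y hy
      have h1 : ∀ i, B (b i : V) x = 0 := fun i => congrFun hx i
      have h2 : y = ((⟨y, hy⟩ : W) : V) := rfl
      rw [h2, ← b.sum_repr ⟨y, hy⟩, Submodule.coe_sum, map_sum, LinearMap.sum_apply]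
      apply Finset.sum_eq_zero
      intro i _
      rw [Submodule.coe_smul, map_smul_left, h1, mul_zero]
    · intro hx
      funext i
      exact hx _ (b i).2
  have hsurj : LinearMap.range Φ = ⊤ := by
    by_contra hne
    obtain ⟨f, hf0, hf⟩ := Submodule.exists_le_ker_of_lt_top _ (lt_top_iff_ne_top.mpr hne)
    apply hf0
    have h1 : ∑ i, σ (f (Pi.single i 1)) • (b i : V) = 0 := by
      apply h.nd
      intro x
      have h2 : f (Φ x) = 0 := hf ⟨x, rfl⟩
      have h3 : Φ x = ∑ i, Φ x i • (Pi.single i 1 : Fin (finrank F W) → F) := by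
        funext j
        simp [Finset.sum_apply, Pi.single_apply]
      rw [h3, map_sum] at h2
      rw [map_sum, LinearMap.sum_apply, ← h2]
      refine Finset.sum_congr rfl fun i _ => ?_
      rw [map_smul_left, hq.invol, LinearMap.map_smul, smul_eq_mul, mul_comm]
      rfl
    have h4 : LinearIndependent F (fun i => (b i : V)) :=
      b.linearIndependent.map' _ (Submodule.ker_subtype W)
    have h5 := Fintype.linearIndependent_iff.mp h4 _ h1
    apply LinearMap.pi_ext'
    intro i
    apply LinearMap.ext_ring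
    rw [LinearMap.comp_apply, LinearMap.single_apply, LinearMap.zero_comp, LinearMap.zero_apply]
    exact (map_eq_zero σ).mp (h5 i)
  have h6 := LinearMap.finrank_range_add_finrank_ker Φ
  rw [hker, hsurj, finrank_top, Module.finrank_fin_fun] at h6
  omega

/-- Number of isotropic vectors orthogonal to a totally isotropic subspace, outside it. -/
lemma card_isotropic_ext (hq : QConj σ q) (h : HForm B) {W : Submodule F V}
    (hW : ∀ u ∈ W, ∀ v ∈ W, B u v = 0) {k : ℕ} (hk : finrank F W = k) :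
    Nat.card {x : V // (x ∈ perp B W ∧ x ∉ W) ∧ B x x = 0} =
      q ^ (2 * k) * (cnt σ (finrank F V - 2 * k) 0 - 1) := by
  have := hq.finite
  have : Finite V := Module.finite_of_finite F
  have hle := le_perp_of_isotropic hW
  have hdim := finrank_perp hq h W
  -- a complement of `W` in its orthogonal
  obtain ⟨C, hC⟩ := (W.comap (perp B W).subtype).exists_isCompl
  set W₁ := C.map (perp B W).subtype with hW₁
  have hW₁le : W₁ ≤ perp B W := by
    rintro _ ⟨x, -, rfl⟩
    exact x.2
  have hmem : ∀ x : V, x ∈ W₁ ↔ ∃ hx : x ∈ perp B W, (⟨x, hx⟩ : perp B W) ∈ C := by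
    intro x
    constructor
    · rintro ⟨y, hy, rfl⟩
      exact ⟨y.2, hy⟩
    · rintro ⟨hx, hxC⟩
      exact ⟨⟨x, hx⟩, hxC, rfl⟩
  have hdisj : ∀ x, x ∈ W → x ∈ W₁ → x = 0 := by
    intro x hx hx1
    obtain ⟨hx2, hx3⟩ := (hmem x).mp hx1
    have h1 := Submodule.disjoint_def.mp hC.disjoint ⟨x, hx2⟩ hx hx3
    exact congrArg Subtype.val h1
  have hsum : ∀ x ∈ perp B W, ∃ a ∈ W, ∃ b ∈ W₁, x = a + b := by
    intro x hx
    have h1 : (⟨x, hx⟩ : perp B W) ∈ (W.comap (perp B W).subtype) ⊔ C := by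
      rw [hC.sup_eq_top]; trivial
    obtain ⟨a, ha, b, hb, hab⟩ := Submodule.mem_sup.mp h1
    exact ⟨a.1, ha, b.1, (hmem _).mpr ⟨b.2, hb⟩, (congrArg Subtype.val hab).symm⟩
  have hform : HForm (resB B W₁) := by
    refine ⟨fun x y => h.symm _ _, fun x hx => ?_⟩
    have h1 : (x : V) ∈ perp B (perp B W) := by
      intro y hy
      obtain ⟨a, ha, b, hb, rfl⟩ := hsum y hy
      rw [map_add_left, hW₁le x.2 a ha, zero_add]
      exact h.eq_zero_comm (hx ⟨b, hb⟩)
    rw [perp_perp h] at h1
    exact Subtype.ext (hdisj _ h1 x.2)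
  have hd1 : finrank F W₁ = finrank F V - 2 * k := by
    have h1 : finrank F W₁ = finrank F C :=
      (LinearEquiv.finrank_eq (Submodule.equivMapOfInjective _
        (perp B W).injective_subtype C)).symm
    have h2 := Submodule.finrank_add_eq_of_isCompl hC
    have h3 : finrank F (W.comap (perp B W).subtype) = finrank F W :=
      LinearEquiv.finrank_eq (Submodule.comapSubtypeEquivOfLe hle)
    rw [h3] at h2
    omega
  have hc1 : Nat.card {x : W₁ // B (x : V) (x : V) = 0} = cnt σ (finrank F V - 2 * k) 0 :=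
    card_norm_eq hq hform 0 hd1
  -- the bijection
  have hB : ∀ a ∈ W, ∀ b ∈ W₁, B (a + b) (a + b) = B b b := by
    intro a ha b hb
    have h1 := hW₁le hb a ha
    have h2 := h.eq_zero_comm h1
    rw [map_add_left, map_add_right, map_add_right, hW a ha a ha, h1, h2]
    ring
  have e : (W × {x : {x : W₁ // B (x : V) (x : V) = 0} // x ≠ ⟨0, map_zero_left B _⟩}) ≃
      {x : V // (x ∈ perp B W ∧ x ∉ W) ∧ B x x = 0} := by
    refine Equiv.ofBijective (fun y => ⟨(y.1 : V) + (y.2.1.1 : V), ⟨⟨?_, ?_⟩, ?_⟩⟩) ⟨?_, ?_⟩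
    · exact (perp B W).add_mem (hle y.1.2) (hW₁le y.2.1.1.2)
    · intro hm
      apply y.2.2
      apply Subtype.ext
      apply Subtype.ext
      apply hdisj _ _ y.2.1.1.2
      have := W.sub_mem hm y.1.2
      rwa [add_sub_cancel_left] at this
    · rw [hB _ y.1.2 _ y.2.1.1.2]
      exact y.2.1.2
    · intro y z hyz
      have h1 : (y.1 : V) + (y.2.1.1 : V) = (z.1 : V) + (z.2.1.1 : V) := congrArg Subtype.val hyz
      have h2 : (y.1 : V) - (z.1 : V) = (z.2.1.1 : V) - (y.2.1.1 : V) := by
        rw [sub_eq_sub_iff_add_eq_add, h1]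
        abel
      have h3 : (y.1 : V) - (z.1 : V) = 0 := hdisj _ (W.sub_mem y.1.2 z.1.2) (by
        rw [h2]; exact W₁.sub_mem z.2.1.1.2 y.2.1.1.2)
      have h4 : (y.1 : V) = z.1 := sub_eq_zero.mp h3
      rw [h3] at h2
      have h5 : (y.2.1.1 : V) = z.2.1.1 := (sub_eq_zero.mp h2.symm).symm
      exact Prod.ext (Subtype.ext h4) (Subtype.ext (Subtype.ext (Subtype.ext h5)))
    · rintro ⟨x, ⟨hx1, hx2⟩, hx3⟩
      obtain ⟨a, ha, b, hb, rfl⟩ := hsum x hx1
      rw [hB a ha b hb] at hx3
      refine ⟨(⟨a, ha⟩, ⟨⟨⟨b, hb⟩, hx3⟩, ?_⟩), rfl⟩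
      intro h0
      apply hx2
      have : b = 0 := congrArg (fun z : {x : W₁ // B (x : V) (x : V) = 0} => (z.1 : V)) h0
      rw [this, add_zero]
      exact ha
  rw [← Nat.card_congr e, Nat.card_prod]
  congr 1
  · rw [Module.natCard_eq_pow_finrank (K := F), hk, hq.card, ← pow_mul]
  · classical
    have h4 := Nat.card_congr (Equiv.sumCompl (fun x : {x : W₁ // B (x : V) (x : V) = 0} =>
      x = ⟨0, map_zero_left B _⟩))
    rw [Nat.card_sum, hc1] at h4
    have h5 : Nat.card {x : {x : W₁ // B (x : V) (x : V) = 0} // x = ⟨0, map_zero_left B _⟩} = 1 :=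
      Nat.card_unique
    rw [h5] at h4
    have h6 : Nat.card {x : {x : W₁ // B (x : V) (x : V) = 0} // ¬ (x = ⟨0, map_zero_left B _⟩)} =
      Nat.card {x : {x : W₁ // B (x : V) (x : V) = 0} // x ≠ ⟨0, map_zero_left B _⟩} := rfl
    rw [h6] at h4
    omega

/-! ### Frames -/

/-- Isotropic frames. -/
def IsFrameH (B : V →ₛₗ[σ] V →ₗ[F] F) {k : ℕ} (w : Fin k → V) : Prop :=
  LinearIndependent F w ∧ ∀ i j, B (w i) (w j) = 0

lemma isFrameH_iff_span (B : V →ₛₗ[σ] V →ₗ[F] F) {k : ℕ} (w : Fin k → V) :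
    IsFrameH B w ↔ LinearIndependent F w ∧
      ∀ u ∈ Submodule.span F (Set.range w), ∀ v ∈ Submodule.span F (Set.range w), B u v = 0 := by
  refine and_congr_right fun _ => ⟨fun h u hu v hv => ?_, fun h i j =>
    h _ (Submodule.subset_span ⟨i, rfl⟩) _ (Submodule.subset_span ⟨j, rfl⟩)⟩
  induction hu using Submodule.span_induction with
  | mem u hu =>
    obtain ⟨i, rfl⟩ := hu
    induction hv using Submodule.span_induction with
    | mem v hv => obtain ⟨j, rfl⟩ := hv; exact h i j
    | zero => simp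
    | add a b _ _ ha hb => rw [map_add_right, ha, hb, add_zero]
    | smul a b _ hb => rw [map_smul_right, hb, mul_zero]
  | zero => exact map_zero_left B _
  | add a b _ _ ha hb => rw [map_add_left, ha, hb, add_zero]
  | smul a b _ hb => rw [map_smul_left, hb, mul_zero]

lemma isFrameH_snoc (h : HForm B) {k : ℕ} (w : Fin k → V) (x : V) :
    IsFrameH B (Fin.snoc w x : Fin (k + 1) → V) ↔ IsFrameH B w ∧
      ((x ∈ perp B (Submodule.span F (Set.range w)) ∧
        x ∉ Submodule.span F (Set.range w)) ∧ B x x = 0) := by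
  rw [IsFrameH, IsFrameH, linearIndependent_finSnoc]
  constructor
  · rintro ⟨⟨h1, h2⟩, h3⟩
    refine ⟨⟨h1, fun i j => ?_⟩, ⟨?_, h2⟩, ?_⟩
    · have := h3 i.castSucc j.castSucc
      simpa using this
    · intro z hz
      induction hz using Submodule.span_induction with
      | mem z hz =>
        obtain ⟨i, rfl⟩ := hz
        have := h3 i.castSucc (Fin.last k)
        simpa using this
      | zero => exact map_zero_left B _
      | add a b _ _ ha hb => rw [map_add_left, ha, hb, add_zero]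
      | smul a b _ hb => rw [map_smul_left, hb, mul_zero]
    · have := h3 (Fin.last k) (Fin.last k)
      simpa using this
  · rintro ⟨⟨h1, h2⟩, ⟨h3, h4⟩, hxx⟩
    refine ⟨⟨h1, h4⟩, ?_⟩
    have h5 : ∀ i, B (w i) x = 0 := fun i => h3 _ (Submodule.subset_span ⟨i, rfl⟩)
    intro i j
    refine Fin.lastCases ?_ (fun i => ?_) i
    · refine Fin.lastCases ?_ (fun j => ?_) j
      · simpa using hxx
      · simpa using h.eq_zero_comm (h5 j)
    · refine Fin.lastCases ?_ (fun j => ?_) j
      · simpa using h5 i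
      · simpa using h2 i j

/-- The number of isotropic `k`-frames in dimension `n`. -/
theorem card_isFrameH (hq : QConj σ q) (h : HForm B) (k : ℕ) :
    Nat.card {w : Fin k → V // IsFrameH B w} =
      ∏ i ∈ Finset.range k, (q ^ (2 * i) * (cnt σ (finrank F V - 2 * i) 0 - 1)) := by
  have := hq.finite
  induction k with
  | zero =>
    rw [Finset.prod_range_zero]
    have : Unique {w : Fin 0 → V // IsFrameH B w} :=
      { default := ⟨Fin.elim0, linearIndependent_empty_type, fun i => i.elim0⟩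
        uniq := fun w => Subtype.ext (funext fun i => i.elim0) }
    exact Nat.card_unique
  | succ k ih =>
    rw [Finset.prod_range_succ, ← ih]
    refine card_snoc_frames (F := F) k _ (fun w x =>
      (x ∈ perp B (Submodule.span F (Set.range w)) ∧
        x ∉ Submodule.span F (Set.range w)) ∧ B x x = 0) _ (isFrameH_snoc h) _ fun w hw => ?_
    exact card_isotropic_ext hq h ((isFrameH_iff_span B w).mp hw).2 (by
      rw [finrank_span_eq_card hw.1, Fintype.card_fin])

theorem card_isotropic_subspacesH (hq : QConj σ q) (h : HForm B) (k : ℕ) :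
    Nat.card {W : Submodule F V // finrank F W = k ∧ ∀ u ∈ W, ∀ v ∈ W, B u v = 0} *
        ∏ i : Fin k, (Nat.card F ^ k - Nat.card F ^ (i : ℕ)) =
      ∏ i ∈ Finset.range k, (q ^ (2 * i) * (cnt σ (finrank F V - 2 * i) 0 - 1)) := by
  have := hq.finite
  rw [← card_frames k (fun W : Submodule F V => ∀ u ∈ W, ∀ v ∈ W, B u v = 0),
    ← card_isFrameH hq h k]
  exact Nat.card_congr (Equiv.subtypeEquivRight fun w => (isFrameH_iff_span B w).symm)

/-- Stabilisers of totally isotropic subspaces. -/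
theorem card_U_eq_frames_mul (hq : QConj σ q) (h : HForm B) {k : ℕ} (W : Submodule F V)
    (hk : finrank F W = k) (hW : ∀ u ∈ W, ∀ v ∈ W, B u v = 0) :
    Nat.card (U B) = (∏ i ∈ Finset.range k, (q ^ (2 * i) * (cnt σ (finrank F V - 2 * i) 0 - 1))) *
      Nat.card (isomFix (fun u v => B u v) W) := by
  have := hq.finite
  subst hk
  set b := Module.finBasis F W with hb
  have hspan : Submodule.span F (Set.range fun i => (b i : V)) = W := by
    have h1 : (Set.range fun i => (b i : V)) = W.subtype '' (Set.range b) := by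
      rw [← Set.range_comp]; rfl
    rw [h1, ← Submodule.map_span, b.span_eq, Submodule.map_top, Submodule.range_subtype]
  have hli : LinearIndependent F (fun i => (b i : V)) :=
    b.linearIndependent.map' _ (Submodule.ker_subtype W)
  have h1 := card_isomF_eq (F := F) (f := fun u v => B u v) (fun i => (b i : V))
    {w | IsFrameH B w} (by
      intro w
      constructor
      · rintro ⟨hw1, hw2⟩
        obtain ⟨g, hg, hgv⟩ := h.exists_family hq (fun i => (b i : V)) w hli hw1
          (fun i j => by rw [hw2, hW _ (b i).2 _ (b j).2])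
        exact ⟨g, hg, hgv⟩
      · rintro ⟨g, hg, hgv⟩
        have hwe : w = (g : V →ₗ[F] V) ∘ (fun i => (b i : V)) := funext fun i => (hgv i).symm
        refine ⟨?_, fun i j => ?_⟩
        · rw [hwe]
          exact hli.map' _ (LinearEquiv.ker g)
        · rw [← hgv, ← hgv]
          exact (hg _ _).trans (hW _ (b i).2 _ (b j).2))
  rw [U, h1, hspan]
  congr 1
  exact card_isFrameH hq h _

theorem card_isomStab_isotropicH (hq : QConj σ q) (h : HForm B) {k : ℕ} (W : Submodule F V)
    (hk : finrank F W = k) (hW : ∀ u ∈ W, ∀ v ∈ W, B u v = 0) :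
    Nat.card (isomStab (fun u v => B u v) W) =
      (∏ i : Fin k, (Nat.card F ^ k - Nat.card F ^ (i : ℕ))) *
      Nat.card (isomFix (fun u v => B u v) W) := by
  have := hq.finite
  rw [card_isomStab, ← card_linearEquiv hk]
  · congr 1
    have : isomF F (restr (fun u v => B u v) W) = ⊤ := by
      rw [eq_top_iff]
      intro g _ u v
      change B (g u) (g v) = B u v
      rw [hW _ (g u).2 _ (g v).2, hW _ u.2 _ v.2]
    rw [this]
    exact Nat.card_congr Subgroup.topEquiv.toEquiv
  · intro g₀ hg₀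
    obtain ⟨g, hg, hgx⟩ := h.exists_extension hq W (W.subtype.comp (g₀ : W →ₗ[F] W))
      (Subtype.val_injective.comp g₀.injective) (fun x x' => hg₀ x x')
    exact ⟨g, hg, hgx⟩

/-! ### Arithmetic -/

/-- The factors of the order of the unitary group. -/
def fU (q i : ℕ) : ℕ := if Even i then q ^ (i + 1) + 1 else q ^ (i + 1) - 1

/-- The order of the unitary group. -/
def ordU (q n : ℕ) : ℕ := q ^ (n * (n - 1) / 2) * ∏ i ∈ Finset.range n, fU q i

lemma cnt_sub_one (hq : QConj σ q) (n : ℕ) : cnt σ (n + 2) 0 - 1 = fU q n * fU q (n + 1) := by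
  rw [cnt_succ_zero hq, Nat.add_sub_cancel, fU, fU]
  by_cases h : Even n
  · have h1 : ¬ Even (n + 1) := by rw [Nat.even_add_one, not_not]; exact h
    have h2 : Even (n + 1 + 1) := by rw [Nat.even_add_one]; exact h1
    rw [if_pos h, if_neg h1, if_pos h2, mul_comm]
  · have h1 : Even (n + 1) := by rw [Nat.even_add_one]; exact h
    have h2 : ¬ Even (n + 1 + 1) := by rw [Nat.even_add_one, not_not]; exact h1
    rw [if_neg h, if_pos h1, if_neg h2, mul_comm]

lemma tri_succ (n : ℕ) : (n + 1) * (n + 1 - 1) / 2 = n * (n - 1) / 2 + n := by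
  rcases Nat.eq_zero_or_pos n with rfl | hn
  · rfl
  · obtain ⟨m, rfl⟩ := Nat.exists_eq_add_of_le hn
    have e1 : (1 + m + 1) * (1 + m + 1 - 1) = (1 + m) * (1 + m - 1) + (1 + m) * 2 := by
      have : 1 + m + 1 - 1 = 1 + m := by omega
      have h3 : 1 + m - 1 = m := by omega
      rw [this, h3]; ring
    rw [e1, Nat.add_mul_div_right _ _ (by norm_num)]

lemma ordU_add_two (q n : ℕ) :
    ordU q (n + 2) = fU q n * fU q (n + 1) * q ^ (2 * n + 1) * ordU q n := by
  rw [ordU, ordU, tri_succ (n + 1), tri_succ n, Finset.prod_range_succ, Finset.prod_range_succ]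
  have : n * (n - 1) / 2 + n + (n + 1) = n * (n - 1) / 2 + (2 * n + 1) := by omega
  rw [this, pow_add]
  ring

lemma ordU_eq (hq : QConj σ q) (k : ℕ) : ∀ d : ℕ, ordU q (2 * k + d) =
    (∏ i ∈ Finset.range k, (q ^ (2 * i) * (cnt σ (2 * k + d - 2 * i) 0 - 1))) *
      q ^ (k * (k + 2 * d)) * ordU q d := by
  induction k with
  | zero => intro d; simp
  | succ k ih =>
    intro d
    have h1 := ih (d + 2)
    have e1 : 2 * (k + 1) + d = 2 * k + (d + 2) := by ring
    rw [e1, h1, ordU_add_two, Finset.prod_range_succ]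
    have e2 : 2 * k + (d + 2) - 2 * k = d + 2 := by omega
    rw [e2, cnt_sub_one hq]
    ring

theorem card_isomStab_isotropic_eq (hq : QConj σ q) (h : HForm B) {k d : ℕ} (W : Submodule F V)
    (hV : finrank F V = 2 * k + d)
    (hk : finrank F W = k) (hW : ∀ u ∈ W, ∀ v ∈ W, B u v = 0) :
    Nat.card (isomStab (fun u v => B u v) W) = q ^ (k * (k + 2 * d)) *
      (∏ i : Fin k, ((q ^ 2) ^ k - (q ^ 2) ^ (i : ℕ))) * ordU q d := by
  have := hq.finite
  have h1 := card_U_eq_frames_mul hq h W hk hW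
  have h2 := card_isomStab_isotropicH hq h W hk hW
  have h3 : Nat.card (U B) = ordU q (2 * k + d) := card_U hq _ V B h hV
  have h4 := ordU_eq hq k d
  rw [h3, h4, hV] at h1
  have hpos : 0 < ∏ i ∈ Finset.range k, (q ^ (2 * i) * (cnt σ (2 * k + d - 2 * i) 0 - 1)) := by
    rcases Nat.eq_zero_or_pos (∏ i ∈ Finset.range k,
      (q ^ (2 * i) * (cnt σ (2 * k + d - 2 * i) 0 - 1))) with h0 | h0
    · exfalso
      rw [h0, zero_mul, zero_mul] at h4
      rw [h4] at h3
      have : Finite (U B) := by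
        have : Finite V := Module.finite_of_finite F
        have : Finite (V ≃ₗ[F] V) := Finite.of_injective (fun g => (g : V → V)) DFunLike.coe_injective
        infer_instance
      exact Nat.card_pos.ne' h3
    · exact h0
  rw [mul_assoc] at h1
  have h5 := Nat.eq_of_mul_eq_mul_left hpos h1
  rw [h2, ← h5, hq.card]
  ring

/-- The determinant is surjective on stabilisers of totally isotropic subspaces. -/
lemma exists_det_stab (hq : QConj σ q) (h : HForm B) (hV : 1 ≤ finrank F V)
    (W : Submodule F V) (hW : ∀ u ∈ W, ∀ v ∈ W, B u v = 0) {d : F} (hd : d * σ d = 1) :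
    ∃ g ∈ isomStab (fun u v => B u v) W, LinearMap.det (g : V →ₗ[F] V) = d := by
  by_cases hW0 : W = ⊥
  · have : Nontrivial V := Module.nontrivial_of_finrank_pos (R := F) (by omega)
    obtain ⟨v, hv⟩ := h.exists_norm_eq hq (map_one σ) one_ne_zero
    refine ⟨qrefl h hv hd, ⟨qrefl_mem h hv hd, fun x => ?_⟩, det_qrefl h hv hd⟩
    rw [hW0, Submodule.mem_bot, Submodule.mem_bot]
    exact ((qrefl h hv hd).map_eq_zero_iff).symm
  · obtain ⟨u, huW, hu0⟩ := (Submodule.ne_bot_iff W).mp hW0
    obtain ⟨f, hf, huf⟩ := h.exists_partner hq hu0 (hW u huW u huW)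
    obtain ⟨c, hc0, hc⟩ := hq.hilbert90 hd
    have hmem : ∀ x ∈ W, hsH hq h (hW u huW u huW) hf huf hc0 x ∈ W := by
      intro x hx
      rw [hsH_apply, hW u huW x hx, mul_zero, zero_smul, add_zero]
      exact W.add_mem hx (W.smul_mem _ huW)
    refine ⟨hsH hq h (hW u huW u huW) hf huf hc0, ⟨hsH_mem _ _ _ _ _ _, fun x => ?_⟩, by
      rw [det_hsH, hc]⟩
    constructor
    · exact hmem x
    · intro hx
      have h1 : W.map (hsH hq h (hW u huW u huW) hf huf hc0 : V →ₗ[F] V) ≤ W := by
        rintro _ ⟨y, hy, rfl⟩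
        exact hmem y hy
      have h2 : W.map (hsH hq h (hW u huW u huW) hf huf hc0 : V →ₗ[F] V) = W :=
        Submodule.eq_of_le_of_finrank_eq h1 (LinearEquiv.finrank_map_eq _ W)
      rw [← h2] at hx
      obtain ⟨y, hy, hyx⟩ := hx
      have : y = x := (hsH hq h (hW u huW u huW) hf huf hc0).injective hyx
      rwa [← this]

/-- Stabilisers in the special unitary group. -/
theorem card_SUL_stab (hq : QConj σ q) (h : HForm B) (hV : 1 ≤ finrank F V)
    (W : Submodule F V) (hW : ∀ u ∈ W, ∀ v ∈ W, B u v = 0) :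
    (q + 1) * Nat.card ↥(isomStab (fun u v => B u v) W ⊓ SUL B) =
      Nat.card (isomStab (fun u v => B u v) W) := by
  let G := isomStab (fun u v => B u v) W
  have hGU : G ≤ U B := fun g hg => hg.1
  let δ : G →* normOne σ := (detU hq h).comp (Subgroup.inclusion hGU)
  have hδ : ∀ g : G, ((δ g : Fˣ) : F) = LinearMap.det ((g : V ≃ₗ[F] V) : V →ₗ[F] V) :=
    fun g => coe_detU hq h _
  have hsurj : Function.Surjective δ := by
    intro d
    obtain ⟨g, hg, hgd⟩ := exists_det_stab hq h hV W hW (mem_normOne.mp d.2)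
    refine ⟨⟨g, hg⟩, Subtype.ext (Units.ext ?_)⟩
    rw [hδ]
    exact hgd
  have h1 := Subgroup.card_mul_index δ.ker
  rw [Subgroup.index_ker, MonoidHom.range_eq_top.mpr hsurj, Subgroup.card_top,
    card_normOne hq] at h1
  rw [← h1, mul_comm]
  congr 1
  apply Nat.card_congr
  refine ⟨fun g => ⟨⟨g.1, g.2.1⟩, ?_⟩, fun g => ⟨g.1.1, g.1.2, ?_⟩, fun g => rfl, fun g => rfl⟩
  · rw [MonoidHom.mem_ker]
    apply Subtype.ext
    apply Units.ext
    rw [hδ]
    exact (mem_SUL.mp g.2.2).2
  · change (g.1 : V ≃ₗ[F] V) ∈ SUL B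
    rw [mem_SUL]
    refine ⟨hGU g.1.2, ?_⟩
    rw [← hδ, MonoidHom.mem_ker.mp g.2]
    rfl

/-! ### Transport -/

/-- Isometric forms have isomorphic special unitary groups. -/
noncomputable def SULCongr {V' : Type*} [AddCommGroup V'] [Module F V'] [FiniteDimensional F V']
    (e : V ≃ₗ[F] V') {B' : V' →ₛₗ[σ] V' →ₗ[F] F} (h : ∀ x y, B' (e x) (e y) = B x y) :
    SUL B ≃* SUL B' where
  toFun g := ⟨(e.symm.trans (g : V ≃ₗ[F] V)).trans e, by
    rw [mem_SUL]
    refine ⟨?_, ?_⟩
    · rw [mem_U]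
      intro u v
      simp only [LinearEquiv.trans_apply]
      rw [h, mem_U.mp (mem_SUL.mp g.2).1, ← h, e.apply_symm_apply, e.apply_symm_apply]
    · have h1 : (((e.symm.trans (g : V ≃ₗ[F] V)).trans e : V' ≃ₗ[F] V') : V' →ₗ[F] V') =
        (e : V →ₗ[F] V') ∘ₗ ((g : V ≃ₗ[F] V) : V →ₗ[F] V) ∘ₗ (e.symm : V' →ₗ[F] V) := rfl
      rw [h1, LinearMap.det_conj]
      exact (mem_SUL.mp g.2).2⟩
  invFun g := ⟨(e.trans (g : V' ≃ₗ[F] V')).trans e.symm, by
    rw [mem_SUL]
    refine ⟨?_, ?_⟩
    · rw [mem_U]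
      intro u v
      simp only [LinearEquiv.trans_apply]
      rw [← h, e.apply_symm_apply, e.apply_symm_apply, mem_U.mp (mem_SUL.mp g.2).1, h]
    · have h1 : (((e.trans (g : V' ≃ₗ[F] V')).trans e.symm : V ≃ₗ[F] V) : V →ₗ[F] V) =
        (e.symm : V' →ₗ[F] V) ∘ₗ ((g : V' ≃ₗ[F] V') : V' →ₗ[F] V') ∘ₗ
          (e.symm.symm : V →ₗ[F] V') := rfl
      rw [h1, LinearMap.det_conj]
      exact (mem_SUL.mp g.2).2⟩
  left_inv g := by
    apply Subtype.ext
    ext x
    simp
  right_inv g := by
    apply Subtype.ext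
    ext x
    simp
  map_mul' a b := by
    apply Subtype.ext
    ext x
    simp [LinearEquiv.mul_apply]

/-- Isometric forms have isomorphic unitary groups. -/
noncomputable def UCongr {V' : Type*} [AddCommGroup V'] [Module F V']
    (e : V ≃ₗ[F] V') {B' : V' →ₛₗ[σ] V' →ₗ[F] F} (h : ∀ x y, B' (e x) (e y) = B x y) :
    U B ≃* U B' := isomFCongr (f := fun x y => B x y) (f' := fun x y => B' x y) e h

end CfsgLib.Herm
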