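import Mathlib

/-!
# Ito's theorem on products of abelian groups, for arbitrary groups
-/

set_option autoImplicit false
set_option linter.style.haveILetI false

namespace CfsgLib.Ito

open scoped commutatorElement

universe u

variable {G : Type u} [Group G]

/-- (S0047) **Itô**: a product of two abelian subgroups is metabelian -/
theorem ito (A B : Subgroup G) (hA : IsMulCommutative A) (hB : IsMulCommutative B)
    (hAB : ∀ g : G, ∃ a ∈ A, ∃ b ∈ B, g = a * b) : IsMulCommutative (commutator G) := by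
  have cA : ∀ x ∈ A, ∀ y ∈ A, x * y = y * x := fun x hx y hy =>
    congrArg Subtype.val (hA.is_comm.comm (⟨x, hx⟩ : A) ⟨y, hy⟩)
  have cB : ∀ x ∈ B, ∀ y ∈ B, x * y = y * x := fun x hx y hy =>
    congrArg Subtype.val (hB.is_comm.comm (⟨x, hx⟩ : B) ⟨y, hy⟩)
  have hBA : ∀ g : G, ∃ b ∈ B, ∃ a ∈ A, g = b * a := by
    intro g
    obtain ⟨a, ha, b, hb, h⟩ := hAB g⁻¹
    exact ⟨b⁻¹, B.inv_mem hb, a⁻¹, A.inv_mem ha, by rw [← mul_inv_rev, ← h, inv_inv]⟩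
  -- c a b = a⁻¹ b⁻¹ a b
  have key : ∀ a ∈ A, ∀ b ∈ B, ∀ α ∈ A, ∀ β ∈ B,
      (α * β)⁻¹ * (a⁻¹ * b⁻¹ * a * b) * (α * β) = (β * α)⁻¹ * (a⁻¹ * b⁻¹ * a * b) * (β * α) := by
    intro a ha b hb α hα β hβ
    obtain ⟨a2, ha2, b2, hb2, h2⟩ := hAB (α⁻¹ * b * α)
    obtain ⟨b3, hb3, a3, ha3, h3⟩ := hBA (β⁻¹ * a * β)
    -- LHS
    have l1 : α⁻¹ * (a⁻¹ * b⁻¹ * a * b) * α = a⁻¹ * b2⁻¹ * a * b2 := by
      have e1 : α⁻¹ * (a⁻¹ * b⁻¹ * a * b) * α =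
          (α⁻¹ * a⁻¹ * α) * (α⁻¹ * b * α)⁻¹ * (α⁻¹ * a * α) * (α⁻¹ * b * α) := by group
      have e2 : α⁻¹ * a * α = a := by rw [mul_assoc, cA a ha α hα, inv_mul_cancel_left]
      have e3 : α⁻¹ * a⁻¹ * α = a⁻¹ := by rw [mul_assoc, cA a⁻¹ (A.inv_mem ha) α hα, inv_mul_cancel_left]
      rw [e1, e2, e3, h2]
      have e4 : a2⁻¹ * a * a2 = a := by rw [mul_assoc, cA a ha a2 ha2, inv_mul_cancel_left]
      calc a⁻¹ * (a2 * b2)⁻¹ * a * (a2 * b2) = a⁻¹ * b2⁻¹ * (a2⁻¹ * a * a2) * b2 := by group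
        _ = _ := by rw [e4]
    have lhs : (α * β)⁻¹ * (a⁻¹ * b⁻¹ * a * b) * (α * β) = (β⁻¹ * a * β)⁻¹ * b2⁻¹ * (β⁻¹ * a * β) * b2 := by
      have e5 : β⁻¹ * b2 * β = b2 := by rw [mul_assoc, cB b2 hb2 β hβ, inv_mul_cancel_left]
      have e6 : β⁻¹ * b2⁻¹ * β = b2⁻¹ := by rw [mul_assoc, cB b2⁻¹ (B.inv_mem hb2) β hβ, inv_mul_cancel_left]
      calc (α * β)⁻¹ * (a⁻¹ * b⁻¹ * a * b) * (α * β) = β⁻¹ * (α⁻¹ * (a⁻¹ * b⁻¹ * a * b) * α) * β := by group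
        _ = β⁻¹ * (a⁻¹ * b2⁻¹ * a * b2) * β := by rw [l1]
        _ = (β⁻¹ * a * β)⁻¹ * (β⁻¹ * b2⁻¹ * β) * (β⁻¹ * a * β) * (β⁻¹ * b2 * β) := by group
        _ = _ := by rw [e5, e6]
    have r1 : β⁻¹ * (a⁻¹ * b⁻¹ * a * b) * β = a3⁻¹ * b⁻¹ * a3 * b := by
      have e5 : β⁻¹ * b * β = b := by rw [mul_assoc, cB b hb β hβ, inv_mul_cancel_left]
      have e6 : β⁻¹ * b⁻¹ * β = b⁻¹ := by rw [mul_assoc, cB b⁻¹ (B.inv_mem hb) β hβ, inv_mul_cancel_left]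
      have e7 : b3⁻¹ * b⁻¹ * b3 = b⁻¹ := by rw [mul_assoc, cB b⁻¹ (B.inv_mem hb) b3 hb3, inv_mul_cancel_left]
      calc β⁻¹ * (a⁻¹ * b⁻¹ * a * b) * β = (β⁻¹ * a * β)⁻¹ * (β⁻¹ * b⁻¹ * β) * (β⁻¹ * a * β) * (β⁻¹ * b * β) := by group
        _ = (b3 * a3)⁻¹ * b⁻¹ * (b3 * a3) * b := by rw [e5, e6, h3]
        _ = a3⁻¹ * (b3⁻¹ * b⁻¹ * b3) * a3 * b := by group
        _ = _ := by rw [e7]
    have rhs : (β * α)⁻¹ * (a⁻¹ * b⁻¹ * a * b) * (β * α) = (β⁻¹ * a * β)⁻¹ * b2⁻¹ * (β⁻¹ * a * β) * b2 := by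
      have e2 : α⁻¹ * a3 * α = a3 := by rw [mul_assoc, cA a3 ha3 α hα, inv_mul_cancel_left]
      have e3 : α⁻¹ * a3⁻¹ * α = a3⁻¹ := by rw [mul_assoc, cA a3⁻¹ (A.inv_mem ha3) α hα, inv_mul_cancel_left]
      have e4 : a2⁻¹ * a3 * a2 = a3 := by rw [mul_assoc, cA a3 ha3 a2 ha2, inv_mul_cancel_left]
      have e7 : b3⁻¹ * b2⁻¹ * b3 = b2⁻¹ := by rw [mul_assoc, cB b2⁻¹ (B.inv_mem hb2) b3 hb3, inv_mul_cancel_left]
      calc (β * α)⁻¹ * (a⁻¹ * b⁻¹ * a * b) * (β * α) = α⁻¹ * (β⁻¹ * (a⁻¹ * b⁻¹ * a * b) * β) * α := by group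
        _ = α⁻¹ * (a3⁻¹ * b⁻¹ * a3 * b) * α := by rw [r1]
        _ = (α⁻¹ * a3⁻¹ * α) * (α⁻¹ * b * α)⁻¹ * (α⁻¹ * a3 * α) * (α⁻¹ * b * α) := by group
        _ = a3⁻¹ * (a2 * b2)⁻¹ * a3 * (a2 * b2) := by rw [e2, e3, h2]
        _ = a3⁻¹ * b2⁻¹ * (a2⁻¹ * a3 * a2) * b2 := by group
        _ = a3⁻¹ * b2⁻¹ * a3 * b2 := by rw [e4]
        _ = a3⁻¹ * (b3⁻¹ * b2⁻¹ * b3) * a3 * b2 := by rw [e7]
        _ = (b3 * a3)⁻¹ * b2⁻¹ * (b3 * a3) * b2 := by group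
        _ = _ := by rw [h3]
    rw [lhs, rhs]
  -- commutators [a,b] commute with commutators
  have hcomm : ∀ a ∈ A, ∀ b ∈ B, ∀ α ∈ A, ∀ β ∈ B, ⁅a, b⁆ * ⁅α, β⁆ = ⁅α, β⁆ * ⁅a, b⁆ := by
    intro a ha b hb α hα β hβ
    have h := key a⁻¹ (A.inv_mem ha) b⁻¹ (B.inv_mem hb) α⁻¹ (A.inv_mem hα) β⁻¹ (B.inv_mem hβ)
    simp only [inv_inv, mul_inv_rev] at h
    rw [commutatorElement_def, commutatorElement_def]
    -- h : β α (a b a⁻¹ b⁻¹) α⁻¹ β⁻¹ = α β (a b a⁻¹ b⁻¹) β⁻¹ α⁻¹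
    have h' : (β * α) * (a * b * a⁻¹ * b⁻¹) * (β * α)⁻¹ = (α * β) * (a * b * a⁻¹ * b⁻¹) * (α * β)⁻¹ := by
      calc (β * α) * (a * b * a⁻¹ * b⁻¹) * (β * α)⁻¹ = β * α * (a * b * a⁻¹ * b⁻¹) * (α⁻¹ * β⁻¹) := by group
        _ = _ := h
        _ = _ := by group
    -- so (β α)⁻¹ (α β) commutes
    have h2 : ∀ s t c : G, s * c * s⁻¹ = t * c * t⁻¹ → (s⁻¹ * t) * c = c * (s⁻¹ * t) := by
      intro s t c hst
      calc s⁻¹ * t * c = s⁻¹ * (t * c * t⁻¹) * t := by group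
        _ = s⁻¹ * (s * c * s⁻¹) * t := by rw [hst]
        _ = _ := by group
    -- we want α β α⁻¹ β⁻¹; use α⁻¹, β⁻¹ version
    have h3 := key a⁻¹ (A.inv_mem ha) b⁻¹ (B.inv_mem hb) α hα β hβ
    simp only [inv_inv] at h3
    have h4 : (α * β)⁻¹ * (a * b * a⁻¹ * b⁻¹) * (α * β)⁻¹⁻¹ = (β * α)⁻¹ * (a * b * a⁻¹ * b⁻¹) * (β * α)⁻¹⁻¹ := by
      simpa [mul_assoc] using h3
    have h5 := h2 _ _ _ h4
    -- (α β)⁻¹⁻¹ (β α)⁻¹ = α β α⁻¹ β⁻¹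
    have e : (α * β)⁻¹⁻¹ * (β * α)⁻¹ = α * β * α⁻¹ * β⁻¹ := by group
    rw [e] at h5
    exact h5.symm
  -- G' is generated by conjugates; G' = [A,B]
  have hnorm : ∀ g : G, ∀ x ∈ (⁅A, B⁆ : Subgroup G), g * x * g⁻¹ ∈ (⁅A, B⁆ : Subgroup G) := by
    intro g x hx
    obtain ⟨a, ha, b, hb, rfl⟩ := hAB g
    have h1 := (Subgroup.mem_normalizer_iff.mp (Subgroup.normalizer_commutator_ge_right A B hb) x).mp hx
    have h2 := (Subgroup.mem_normalizer_iff.mp (Subgroup.normalizer_commutator_ge_left A B ha) _).mp h1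
    simpa [mul_assoc] using h2
  have hn : (⁅A, B⁆ : Subgroup G).Normal := ⟨fun x hx g => hnorm g x hx⟩
  have hG' : commutator G ≤ ⁅A, B⁆ := by
    rw [commutator_def, Subgroup.commutator_le]
    intro g _ h _
    obtain ⟨a, ha, b, hb, rfl⟩ := hAB g
    obtain ⟨c, hc, d, hd, rfl⟩ := hBA h
    rw [← QuotientGroup.ker_mk' (⁅A, B⁆ : Subgroup G), MonoidHom.mem_ker, map_commutatorElement,
      commutatorElement_eq_one_iff_mul_comm]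
    have hz : ∀ x ∈ A, ∀ y ∈ B, QuotientGroup.mk' (⁅A, B⁆ : Subgroup G) x * QuotientGroup.mk' (⁅A, B⁆ : Subgroup G) y =
        QuotientGroup.mk' (⁅A, B⁆ : Subgroup G) y * QuotientGroup.mk' (⁅A, B⁆ : Subgroup G) x := by
      intro x hx y hy
      rw [← commutatorElement_eq_one_iff_mul_comm, ← map_commutatorElement]
      exact (QuotientGroup.eq_one_iff _).mpr (Subgroup.commutator_mem_commutator hx hy)
    simp only [map_mul]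
    have z1 := hz a ha c hc
    have z2 := hz d hd b hb
    have z3 : QuotientGroup.mk' (⁅A, B⁆ : Subgroup G) b * QuotientGroup.mk' (⁅A, B⁆ : Subgroup G) c =
      QuotientGroup.mk' (⁅A, B⁆ : Subgroup G) c * QuotientGroup.mk' (⁅A, B⁆ : Subgroup G) b := by
      rw [← map_mul, ← map_mul, cB b hb c hc]
    have z4 : QuotientGroup.mk' (⁅A, B⁆ : Subgroup G) a * QuotientGroup.mk' (⁅A, B⁆ : Subgroup G) d =
      QuotientGroup.mk' (⁅A, B⁆ : Subgroup G) d * QuotientGroup.mk' (⁅A, B⁆ : Subgroup G) a := by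
      rw [← map_mul, ← map_mul, cA a ha d hd]
    set qa := QuotientGroup.mk' (⁅A, B⁆ : Subgroup G) a
    set qb := QuotientGroup.mk' (⁅A, B⁆ : Subgroup G) b
    set qc := QuotientGroup.mk' (⁅A, B⁆ : Subgroup G) c
    set qd := QuotientGroup.mk' (⁅A, B⁆ : Subgroup G) d
    calc qa * qb * (qc * qd) = qa * (qb * qc) * qd := by group
      _ = qa * (qc * qb) * qd := by rw [z3]
      _ = (qa * qc) * (qb * qd) := by group
      _ = (qc * qa) * (qd * qb) := by rw [z1, z2]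
      _ = qc * (qa * qd) * qb := by group
      _ = qc * (qd * qa) * qb := by rw [z4]
      _ = _ := by group
  have habel : IsMulCommutative (⁅A, B⁆ : Subgroup G) := by
    rw [← Subgroup.le_centralizer_iff_isMulCommutative]
    have h1 : (⁅A, B⁆ : Subgroup G) ≤ Subgroup.centralizer ((⁅A, B⁆ : Subgroup G) : Set G) := by
      rw [Subgroup.commutator_le]
      intro α hα β hβ
      have h2 : (⁅A, B⁆ : Subgroup G) ≤ Subgroup.centralizer {⁅α, β⁆} := by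
        rw [Subgroup.commutator_le]
        intro a ha b hb
        rw [Subgroup.mem_centralizer_iff]
        intro y hy
        rw [Set.mem_singleton_iff.mp hy]
        exact (hcomm a ha b hb α hα β hβ).symm
      rw [Subgroup.mem_centralizer_iff]
      intro x hx
      exact (Subgroup.mem_centralizer_iff.mp (h2 hx) _ rfl).symm
    exact h1
  have hfin : ∀ x ∈ commutator G, ∀ y ∈ commutator G, x * y = y * x := by
    intro x hx y hy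
    have := habel.is_comm.comm (⟨x, hG' hx⟩ : (⁅A, B⁆ : Subgroup G)) ⟨y, hG' hy⟩
    exact congrArg (Subtype.val) this
  exact ⟨⟨fun x y => Subtype.ext (hfin x x.2 y y.2)⟩⟩

end CfsgLib.Ito
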