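import Mathlib
import Cfsg.Agent.Lib.Mob36

set_option autoImplicit false
set_option maxHeartbeats 400000

/-! Tetrahedral, octahedral and icosahedral subgroups are conjugate to the standard ones. -/
namespace CfsgLib.Mob37

open OnePoint Matrix CfsgLib.Mob3 CfsgLib.Mob4 CfsgLib.Mob5 CfsgLib.Mob7 CfsgLib.Mob10 CfsgLib.Mob12 CfsgLib.Mob13 CfsgLib.Mob15 CfsgLib.Mob16 CfsgLib.Mob18 CfsgLib.Mob20 CfsgLib.Mob22 CfsgLib.Mob24 CfsgLib.Mob25 CfsgLib.Mob28 CfsgLib.Mob29 CfsgLib.Mob30 CfsgLib.Mob31 CfsgLib.Mob32 CfsgLib.Mob33 CfsgLib.Mob35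

universe u v w

/-! ### ring identities -/
section
variable {R : Type u} [Ring R] {x y : R}

theorem r_xyx (hx : x * x = x - 1) (h : x * y + y * x = x + y - 1) : x * y * x = y - 1 := by
  have h1 : x * y = x + y - 1 - y * x := by rw [← h]; abel
  rw [h1]
  have : (x + y - 1 - y * x) * x = x * x + y * x - x - y * (x * x) := by noncomm_ring
  rw [this, hx]
  noncomm_ring

theorem r_xyyx (hx : x * x = x - 1) (hy : y * y = y - 1) (h : x * y + y * x = x + y - 1) : x * y * (y * x) = y - x := by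
  have h1 : x * y * (y * x) = x * (y * y) * x := by noncomm_ring
  rw [h1, hy, mul_sub, sub_mul, r_xyx hx h, mul_one, hx]
  abel

theorem r_sq (hx : x * x = x - 1) (hy : y * y = y - 1) (h : x * y + y * x = x + y - 1) : x * y * (x * y) = -1 := by
  rw [← mul_assoc, r_xyx hx h, sub_mul, hy, one_mul]
  abel

end

section
variable {F : Type u} [Field F]

theorem trace_one_sq {A : Matrix.SpecialLinearGroup (Fin 2) F} (h : A.1 0 0 + A.1 1 1 = 1) : A.1 * A.1 = A.1 - 1 := by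
  obtain ⟨a, b, c, d, hd, rfl⟩ := exists_m4 A
  have h' : a + d = 1 := h
  change !![a, b; c, d] * !![a, b; c, d] = !![a, b; c, d] - 1
  rw [Matrix.mul_fin_two]
  ext i j
  fin_cases i <;> fin_cases j
  · simp; linear_combination a * h' - hd
  · simp; linear_combination b * h'
  · simp; linear_combination c * h'
  · simp; linear_combination d * h' - hd

theorem anti_of_tr' {A B : Matrix.SpecialLinearGroup (Fin 2) F} (h : A.1 0 0 + A.1 1 1 = 1) (h' : B.1 0 0 + B.1 1 1 = 1)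
    (h'' : (A * B).1 0 0 + (A * B).1 1 1 = 0) : A.1 * B.1 + B.1 * A.1 = A.1 + B.1 - 1 := by
  obtain ⟨a, b, c, d, hd, rfl⟩ := exists_m4 A
  obtain ⟨a', b', c', d', hd', rfl⟩ := exists_m4 B
  have e1 : a + d = 1 := h
  have e2 : a' + d' = 1 := h'
  rw [m4_mul] at h''
  have e3 : (a * a' + b * c') + (c * b' + d * d') = 0 := h''
  change !![a, b; c, d] * !![a', b'; c', d'] + !![a', b'; c', d'] * !![a, b; c, d] = !![a, b; c, d] + !![a', b'; c', d'] - 1
  rw [Matrix.mul_fin_two, Matrix.mul_fin_two]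
  have ed : d = 1 - a := by linear_combination e1
  have ed' : d' = 1 - a' := by linear_combination e2
  subst ed
  subst ed'
  ext i j
  fin_cases i <;> fin_cases j
  · simp; linear_combination e3
  · simp; ring
  · simp; ring
  · simp; linear_combination e3

theorem ps_neg {a b c d : F} (h : a * d - b * c = 1) (h' : -a * -d - -b * -c = 1) : ps (m4 (-a) (-b) (-c) (-d) h') = ps (m4 a b c d h) := by
  have h1 : m4 (-a) (-b) (-c) (-d) h' = m4 (-1) 0 0 (-1) (by ring) * m4 a b c d h := by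
    rw [m4_mul]
    apply m4_congr <;> ring
  rw [h1, ps_mul, (ps_m4_eq_one _).2 ⟨rfl, rfl, rfl⟩, one_mul]

/-- elements of order three lift to matrices of trace one -/
theorem lift3 {b : ProjectiveSpecialLinearGroup (Fin 2) F} (hb : b * b * b = 1) (hb1 : b ≠ 1) :
    ∃ A : Matrix.SpecialLinearGroup (Fin 2) F, ps A = b ∧ A.1 0 0 + A.1 1 1 = 1 := by
  obtain ⟨A, rfl⟩ := QuotientGroup.mk_surjective b
  obtain ⟨a, b, c, d, hd, rfl⟩ := exists_m4 A
  change ps _ * ps _ * ps _ = 1 at hb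
  change ps _ ≠ 1 at hb1
  rw [← ps_mul, ← ps_mul, m4_mul, m4_mul, ps_m4_eq_one] at hb
  rw [Ne, ps_m4_eq_one] at hb1
  obtain ⟨e1, e2, e3⟩ := hb
  have ht : (a + d) ^ 2 - 1 = 0 := by
    by_contra hne
    apply hb1
    refine ⟨?_, ?_, ?_⟩
    · have : b * ((a + d) ^ 2 - 1) = 0 := by linear_combination e1 + b * hd
      exact (mul_eq_zero.1 this).resolve_right hne
    · have : c * ((a + d) ^ 2 - 1) = 0 := by linear_combination e2 + c * hd
      exact (mul_eq_zero.1 this).resolve_right hne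
    · have : (a - d) * ((a + d) ^ 2 - 1) = 0 := by linear_combination e3 + (a - d) * hd
      linear_combination (mul_eq_zero.1 this).resolve_right hne
  have ht' : (a + d - 1) * (a + d + 1) = 0 := by linear_combination ht
  rcases mul_eq_zero.1 ht' with h | h
  · exact ⟨m4 a b c d hd, rfl, by change a + d = 1; linear_combination h⟩
  · refine ⟨m4 (-a) (-b) (-c) (-d) (by linear_combination hd), ps_neg hd _, ?_⟩
    change -a + -d = 1
    linear_combination -h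

theorem B1_tr (h2 : (2 : F) ≠ 0) {α β : F} (hS : α ^ 2 + β ^ 2 = -1) : (B1 h2 hS).1 0 0 + (B1 h2 hS).1 1 1 = 1 := by
  change (1 + α + β) / 2 + (1 - α - β) / 2 = 1
  field_simp; ring

theorem B2_tr (h2 : (2 : F) ≠ 0) {α β : F} (hS : α ^ 2 + β ^ 2 = -1) : (B2 h2 hS).1 0 0 + (B2 h2 hS).1 1 1 = 1 := by
  change (1 + α - β) / 2 + (1 - α + β) / 2 = 1
  field_simp; ring

/-- tetrahedral pairs -/
def TP {G : Type v} [Group G] (b₁ b₂ : G) : Prop :=
  b₁ * b₁ * b₁ = 1 ∧ b₁ ≠ 1 ∧ b₂ * b₂ * b₂ = 1 ∧ b₂ ≠ 1 ∧ b₁ * b₂ * (b₁ * b₂) = 1 ∧ b₁ * b₂ ≠ 1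

theorem TP.map {G : Type v} [Group G] {H : Type w} [Group H] {b₁ b₂ : G} (h : TP b₁ b₂) (f : G →* H) (hf : Function.Injective f) : TP (f b₁) (f b₂) := by
  obtain ⟨h1, h2, h3, h4, h5, h6⟩ := h
  refine ⟨by rw [← map_mul, ← map_mul, h1, map_one], ?_, by rw [← map_mul, ← map_mul, h3, map_one], ?_, by rw [← map_mul, ← map_mul, h5, map_one], ?_⟩
  · intro h; rw [← map_one f] at h; exact h2 (hf h)
  · intro h; rw [← map_one f] at h; exact h4 (hf h)
  · intro h; rw [← map_mul, ← map_one f] at h; exact h6 (hf h)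

/-- tetrahedral pairs are conjugate to the standard pair -/
theorem conj_tet (h2 : (2 : F) ≠ 0) {α β : F} (hS : α ^ 2 + β ^ 2 = -1) {b₁ b₂ : ProjectiveSpecialLinearGroup (Fin 2) F} (h : TP b₁ b₂) :
    ∃ (g : GL (Fin 2) F) (A₁ A₂ : Matrix.SpecialLinearGroup (Fin 2) F), ps A₁ = b₁ ∧ ps A₂ = b₂ ∧
      A₁.1 0 0 + A₁.1 1 1 = 1 ∧ A₂.1 0 0 + A₂.1 1 1 = 1 ∧
      (g : Matrix (Fin 2) (Fin 2) F) * (B1 h2 hS).1 = A₁.1 * (g : Matrix (Fin 2) (Fin 2) F) ∧
      (g : Matrix (Fin 2) (Fin 2) F) * (B2 h2 hS).1 = A₂.1 * (g : Matrix (Fin 2) (Fin 2) F) := by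
  obtain ⟨h3, h3', h4, h4', h5, h5'⟩ := h
  obtain ⟨A₁, rfl, t1⟩ := lift3 h3 h3'
  obtain ⟨A₂, rfl, t2⟩ := lift3 h4 h4'
  have t12 := tr_of_sq (A := A₁ * A₂) h2 h5 h5'
  have ex := trace_one_sq t1
  have ey := trace_one_sq t2
  have exy := anti_of_tr' t1 t2 t12
  have eyx : A₂.1 * A₁.1 + A₁.1 * A₂.1 = A₂.1 + A₁.1 - 1 := by rw [add_comm, exy, add_comm A₁.1]
  -- the standard pair
  have s12 : (B1 h2 hS * B2 h2 hS).1 0 0 + (B1 h2 hS * B2 h2 hS).1 1 1 = 0 := by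
    rw [B12]
    change α + -α = 0
    ring
  have fx := trace_one_sq (B1_tr h2 hS)
  have fy := trace_one_sq (B2_tr h2 hS)
  have fxy := anti_of_tr' (B1_tr h2 hS) (B2_tr h2 hS) s12
  have e12 : (B1 h2 hS).1 * (B2 h2 hS).1 = !![α, β; β, -α] := congrArg Subtype.val (B12 h2 hS)
  have e21 : (B2 h2 hS).1 * (B1 h2 hS).1 = !![0, 1; -1, 0] := congrArg Subtype.val (B21 h2 hS)
  obtain ⟨g, g1, g2⟩ := quat_conj h2 hS (I := A₁.1 * A₂.1) (J := A₂.1 * A₁.1) (r_sq ex ey exy) (r_sq ey ex eyx)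
    (by rw [r_xyyx ex ey exy, r_xyyx ey ex eyx]; abel)
  rw [← e12] at g1
  rw [← e21] at g2
  refine ⟨g, A₁, A₂, rfl, rfl, t1, t2, ?_⟩
  obtain ⟨γ, hγ⟩ : ∃ γ, γ = (g : Matrix (Fin 2) (Fin 2) F) := ⟨_, rfl⟩
  rw [← hγ] at g1 g2 ⊢
  -- sum and difference
  have k1 : γ * ((B1 h2 hS).1 + (B2 h2 hS).1) = (A₁.1 + A₂.1) * γ := by
    have e1 : γ * ((B1 h2 hS).1 * (B2 h2 hS).1 + (B2 h2 hS).1 * (B1 h2 hS).1) = (A₁.1 * A₂.1 + A₂.1 * A₁.1) * γ := by
      rw [mul_add, add_mul, g1, g2]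
    rw [fxy, exy, mul_sub, sub_mul, mul_one, one_mul] at e1
    exact sub_left_injective e1
  have k2 : γ * ((B2 h2 hS).1 - (B1 h2 hS).1) = (A₂.1 - A₁.1) * γ := by
    rw [← r_xyyx fx fy fxy, ← r_xyyx ex ey exy]
    calc γ * ((B1 h2 hS).1 * (B2 h2 hS).1 * ((B2 h2 hS).1 * (B1 h2 hS).1)) = γ * ((B1 h2 hS).1 * (B2 h2 hS).1) * ((B2 h2 hS).1 * (B1 h2 hS).1) := by
          rw [mul_assoc γ]
      _ = A₁.1 * A₂.1 * (γ * ((B2 h2 hS).1 * (B1 h2 hS).1)) := by rw [g1, mul_assoc]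
      _ = A₁.1 * A₂.1 * (A₂.1 * A₁.1) * γ := by rw [g2, mul_assoc (A₁.1 * A₂.1)]
  have hsm : ∀ X Y : Matrix (Fin 2) (Fin 2) F, (2 : F) • X = (2 : F) • Y → X = Y := by
    intro X Y h
    have := congrArg (fun Z => (2 : F)⁻¹ • Z) h
    simpa [smul_smul, inv_mul_cancel₀ h2] using this
  constructor
  · apply hsm
    have : (2 : F) • (γ * (B1 h2 hS).1) = γ * ((B1 h2 hS).1 + (B2 h2 hS).1) - γ * ((B2 h2 hS).1 - (B1 h2 hS).1) := by
      rw [two_smul]; noncomm_ring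
    rw [this, k1, k2, two_smul]; noncomm_ring
  · apply hsm
    have : (2 : F) • (γ * (B2 h2 hS).1) = γ * ((B1 h2 hS).1 + (B2 h2 hS).1) + γ * ((B2 h2 hS).1 - (B1 h2 hS).1) := by
      rw [two_smul]; noncomm_ring
    rw [this, k1, k2, two_smul]; noncomm_ring

/-- the third generator of an icosahedral group -/
theorem third (h2 : (2 : F) ≠ 0) {α β : F} (hS : α ^ 2 + β ^ 2 = -1) {C : Matrix.SpecialLinearGroup (Fin 2) F}
    (h : C.1 0 0 + C.1 1 1 = 1) (h1 : (B1 h2 hS * C).1 0 0 + (B1 h2 hS * C).1 1 1 = 0) (h3 : (B2 h2 hS * C).1 0 0 + (B2 h2 hS * C).1 1 1 = 0) :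
    ∃ (τ : F) (hτ : τ ^ 2 = τ + 1), C = B3 h2 hS hτ := by
  obtain ⟨a, b, c, d, hd, rfl⟩ := exists_m4 C
  have h' : a + d = 1 := h
  have ed : d = 1 - a := by linear_combination h'
  subst ed
  unfold B1 at h1
  unfold B2 at h3
  rw [m4_mul] at h1 h3
  have e1 : ((1 + α + β) / 2 * a + (1 + β - α) / 2 * c) + ((-1 + β - α) / 2 * b + (1 - α - β) / 2 * (1 - a)) = 0 := h1
  have e3 : ((1 + α - β) / 2 * a + (1 + β + α) / 2 * c) + ((-1 + β + α) / 2 * b + (1 - α + β) / 2 * (1 - a)) = 0 := h3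
  have e1' : ((1 + α + β) * a + (1 + β - α) * c) + ((-1 + β - α) * b + (1 - α - β) * (1 - a)) = 0 := by
    field_simp at e1; linear_combination e1
  have e3' : ((1 + α - β) * a + (1 + β + α) * c) + ((-1 + β + α) * b + (1 - α + β) * (1 - a)) = 0 := by
    field_simp at e3; linear_combination e3
  -- sum and difference
  have s : α * (2 * a - 1) + β * (b + c) = (b - c) - 1 := by
    have : 2 * (α * (2 * a - 1) + β * (b + c) - ((b - c) - 1)) = 0 := by linear_combination e1' + e3'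
    linear_combination (mul_eq_zero.1 this).resolve_left h2
  have t : -β * (2 * a - 1) + α * (b + c) = 0 := by
    have : 2 * (-β * (2 * a - 1) + α * (b + c)) = 0 := by linear_combination e3' - e1'
    exact (mul_eq_zero.1 this).resolve_left h2
  have u : 2 * a - 1 = (1 - (b - c)) * α := by linear_combination (-α) * s + β * t + (2 * a - 1) * hS
  have v : b + c = (1 - (b - c)) * β := by linear_combination (-β) * s - α * t + (b + c) * hS
  have hτ : (b - c) ^ 2 = (b - c) + 1 := by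
    have : 2 * ((b - c) ^ 2 - ((b - c) + 1)) = 0 := by
      have e4 : 4 * (a * (1 - a) - b * c) = 4 := by linear_combination 4 * hd
      have e5 : 1 - (2 * a - 1) ^ 2 - (b + c) ^ 2 + (b - c) ^ 2 = 4 := by linear_combination e4
      rw [u, v] at e5
      linear_combination e5 + (1 - (b - c)) ^ 2 * hS
    linear_combination (mul_eq_zero.1 this).resolve_left h2
  refine ⟨b - c, hτ, ?_⟩
  unfold B3
  apply m4_congr
  · field_simp; linear_combination u
  · field_simp; linear_combination v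
  · field_simp; linear_combination v
  · field_simp; linear_combination -u

end

end CfsgLib.Mob37
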