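import Mathlib
import Cfsg.Agent.Lib.OMG12
import Cfsg.Agent.Lib.OMG4

/-! `-1` and the swap in Omega. -/

namespace CfsgLib.Omg

open Module CfsgLib.Quad Cfsg CfsgLib.Disc

theorem arith2 {q : ℕ} (hq : Odd q) (m : ℕ) : q ^ m % 4 = 1 ↔ Even (m * (q - 1) / 2) := by
  rw [arith hq]
  rw [Nat.odd_iff] at hq
  by_cases h3 : q % 4 = 3
  · rcases Nat.even_or_odd m with h | h
    · constructor
      · intro _; exact Or.inl h
      · intro _
        obtain ⟨k, rfl⟩ := h
        rw [← two_mul, pow_mul, Nat.pow_mod, Nat.pow_mod q 2 4, h3]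
        norm_num
    · have h5 : q ^ m % 4 = 3 := by
        obtain ⟨k, rfl⟩ := h
        rw [pow_succ, pow_mul, Nat.mul_mod, Nat.pow_mod (q ^ 2) k 4, Nat.pow_mod q 2 4, h3]
        norm_num
      rw [h5]
      rw [← Nat.not_even_iff_odd] at h
      constructor
      · intro h6; omega
      · rintro (h6 | h6)
        · exact absurd h6 h
        · omega
  · have h4 : q % 4 = 1 := by omega
    constructor
    · intro _; exact Or.inr h4
    · intro _
      rw [Nat.pow_mod, h4, one_pow]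
      norm_num


theorem odd_pow_mod {q : ℕ} (hq : Odd q) (m : ℕ) : q ^ m % 4 = 3 ↔ ¬ (q ^ m % 4 = 1) := by
  have h1 : Odd (q ^ m) := hq.pow
  rw [Nat.odd_iff] at h1
  omega

theorem neg_one_iff {F : Type*} [Field F] [Fintype F] (h2 : (2 : F) ≠ 0) {m : ℕ}
    {ι : Type} [Fintype ι] [DecidableEq ι] (hι : Fintype.card ι = 2 * (m + 1))
    (Q : QuadraticForm F (ι → F)) (hQ : (QuadraticMap.polarBilin Q).Nondegenerate) (b : Basis ι F (ι → F)) :
    (∃ g : ↥(isometryGroup F ⇑Q), g ∈ Omega F ⇑Q ∧ ((g : GL ι F) : Matrix ι ι F) = -1) ↔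
      IsSquare (gd (QuadraticMap.polarBilin Q) b) := by
  have hodd : Odd (Fintype.card F) := by
    rw [Nat.odd_iff]
    have := card_odd_of_two_ne_zero h2
    rwa [Nat.card_eq_fintype_card] at this
  have hfr : finrank F (ι → F) = finrank F (Fin (m + 1) ⊕ Fin (m + 1) → F) := by
    rw [finrank_QP, Module.finrank_fintype_fun_eq_card, hι]
  by_cases hsq : IsSquare (gd (QuadraticMap.polarBilin Q) b *
      gd (QuadraticMap.polarBilin (QP (m + 1) F)) (Pi.basisFun F (Fin (m + 1) ⊕ Fin (m + 1))))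
  · obtain ⟨e, he⟩ := isom_of_gd h2 hQ (QP_nondegenerate (m + 1)) hfr b _ hsq
    rw [exists_neg_iff ⇑Q (QP (m + 1) F) e he,
      ← exists_neg_iff (quadFormPlus (m + 1) F) (QP (m + 1) F) (LinearEquiv.refl _ _) (fun v => QP_apply _ v),
      neg_mem_Omega_plus h2 m, Nat.card_eq_fintype_card,
      isSquare_mul_iff (gd_ne_zero hQ b) (gd_ne_zero (QP_nondegenerate (m + 1)) _) hsq, gd_plus hodd, arith2 hodd]
  · obtain ⟨ν, hν⟩ := exists_nonsquare h2
    have hab : Aniso (0 : F) (-ν) := by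
      intro z₁ z₂ h
      have h5 : z₁ ^ 2 = ν * z₂ ^ 2 := by linear_combination h
      have h6 : z₂ = 0 := by
        by_contra hne
        apply hν
        refine ⟨z₁ / z₂, ?_⟩
        field_simp
        linear_combination -h5
      refine ⟨?_, h6⟩
      rw [h6] at h5
      have h7 : z₁ ^ 2 = 0 := by rw [h5]; ring
      exact (pow_eq_zero_iff two_ne_zero).1 h7
    have hfr2 : finrank F (ι → F) = finrank F ((Fin m ⊕ Fin m) ⊕ Fin 2 → F) := by
      rw [Module.finrank_fintype_fun_eq_card, Module.finrank_fintype_fun_eq_card, hι]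
      simp only [Fintype.card_sum, Fintype.card_fin]
      ring
    have hM : IsSquare (gd (QuadraticMap.polarBilin Q) b *
        gd (QuadraticMap.polarBilin (QM m 0 (-ν))) (Pi.basisFun F ((Fin m ⊕ Fin m) ⊕ Fin 2))) := by
      have h5 := gd_plus (F := F) hodd (m + 1) (Pi.basisFun F (Fin (m + 1) ⊕ Fin (m + 1)))
      have h6 := gd_minus hodd m hab (Pi.basisFun F ((Fin m ⊕ Fin m) ⊕ Fin 2))
      by_cases h7 : IsSquare (gd (QuadraticMap.polarBilin Q) b)
      · have h8 : ¬ IsSquare (gd (QuadraticMap.polarBilin (QP (m + 1) F)) (Pi.basisFun F (Fin (m + 1) ⊕ Fin (m + 1)))) :=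
          fun h => hsq (h7.mul h)
        rw [h5] at h8
        exact h7.mul (h6.2 h8)
      · have h8 : IsSquare (gd (QuadraticMap.polarBilin (QP (m + 1) F)) (Pi.basisFun F (Fin (m + 1) ⊕ Fin (m + 1)))) := by
          by_contra h9
          exact hsq (isSquare_mul_of_not h7 h9)
        rw [h5] at h8
        exact isSquare_mul_of_not h7 (fun h => h6.1 h h8)
    obtain ⟨e, he⟩ := isom_of_gd h2 hQ (QM_nondeg m hab) hfr2 b _ hM
    rw [exists_neg_iff ⇑Q (QM m 0 (-ν)) e he,
      ← exists_neg_iff (quadFormMinus m F 0 (-ν)) (QM m 0 (-ν)) (LinearEquiv.refl _ _) (fun v => QM_apply _ _ _ v),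
      neg_mem_Omega_minus h2 hab m, Nat.card_eq_fintype_card,
      isSquare_mul_iff (gd_ne_zero hQ b) (gd_ne_zero (QM_nondeg m hab) _) hM, gd_minus hodd m hab,
      odd_pow_mod hodd, arith2 hodd]

/-- hyperbolic scaling with nontrivial spinor norm -/
theorem exists_hs {F V : Type*} [Field F] [Finite F] [AddCommGroup V] [Module F V] [FiniteDimensional F V]
    (h2 : (2 : F) ≠ 0) {Q : QuadraticForm F V} (hQ : (QuadraticMap.polarBilin Q).Nondegenerate) {e f : V}
    (he : Q e = 0) (hf : Q f = 0) (hef : QuadraticMap.polarBilin Q e f = 1) {c : F} (hc : c ≠ 0) :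
    ∃ g : O Q, dick hQ g = 1 ∧ sgnO Q 1 g = eta c ∧
      ∀ x, g.1 x = x + ((c - 1) * QuadraticMap.polarBilin Q f x) • e + ((c⁻¹ - 1) * QuadraticMap.polarBilin Q e x) • f := by
  have hm : (-1 : F) ≠ 0 := neg_ne_zero.2 one_ne_zero
  have e1 : Q (e - c⁻¹ • f) = -c⁻¹ := by
    rw [CfsgLib.Quad.map_sub, CfsgLib.Quad.map_smul, he, hf, LinearMap.map_smul, hef]
    simp
  have e2 : Q (e - f) = -1 := by
    rw [CfsgLib.Quad.map_sub, he, hf, hef]
    simp
  have h1 : Q (e - c⁻¹ • f) ≠ 0 := by rw [e1]; exact neg_ne_zero.2 (inv_ne_zero hc)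
  have h3 : Q (e - f) ≠ 0 := by rw [e2]; exact hm
  refine ⟨reflO h1 * reflO h3, ?_, ?_, ?_⟩
  · rw [map_mul, dick_reflO, dick_reflO]; simp
  · rw [map_mul, sgn_refl h2, sgn_refl h2, e1, e2, neg_mul_neg, ← eta_mul (neg_ne_zero.2 (inv_ne_zero hc)) hm]
    have h5 : -c⁻¹ * -1 = c⁻¹ := by ring
    rw [h5]
    by_cases h6 : IsSquare c
    · rw [eta_eq_one.2 h6, eta_eq_one]
      exact h6.inv
    · have h7 : ¬ IsSquare c⁻¹ := by
        intro h
        apply h6
        have := h.inv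
        rwa [inv_inv] at this
      unfold eta
      rw [if_neg h6, if_neg h7]
  · intro x
    exact exists_hscale he hf hef hc h1 h3 x

end CfsgLib.Omg
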