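import Mathlib
import Cfsg.Agent.Lib.OMG13
import Cfsg.Agent.Lib.Laws3

/-! The Levi subgroup `GL_m` of the hyperbolic orthogonal group. -/

namespace CfsgLib.Omg

open Module CfsgLib.Quad Cfsg CfsgLib.Laws Matrix

section

variable {F : Type*} [Field F] [Finite F] {m : ℕ}

theorem char_GL (h2 : (2 : F) ≠ 0) (χ : GL (Fin m) F →* ℤˣ)
    (hχ : ∀ (j : Fin m) (d : F), d ≠ 0 → ∀ A : GL (Fin m) F, A.1 = diagonal (Function.update 1 j d) → χ A = eta d)
    (A : GL (Fin m) F) : χ A = eta A.1.det := by
  have hA : A.1.det ≠ 0 := ((Matrix.isUnit_iff_isUnit_det _).1 A.isUnit).ne_zero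
  refine diagonal_transvection_induction_of_det_ne_zero
    (fun M => ∀ A : GL (Fin m) F, A.1 = M → χ A = eta M.det) A.1 hA ?_ ?_ ?_ A rfl
  · intro D hD A hAD
    have hD0 : ∀ i, D i ≠ 0 := by
      rw [det_diagonal, Finset.prod_ne_zero_iff] at hD
      exact fun i => hD i (Finset.mem_univ i)
    have key : ∀ s : Finset (Fin m), ∀ A : GL (Fin m) F, A.1 = diagonal (fun i => if i ∈ s then D i else 1) →
        χ A = eta (∏ i ∈ s, D i) := by
      intro s
      induction s using Finset.induction_on with
      | empty =>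
        intro A hA
        have h1 : A = 1 := by
          apply Units.ext
          rw [hA]
          simp
        rw [h1, map_one, Finset.prod_empty, eta_eq_one.2 IsSquare.one]
      | insert j s hj ih =>
        intro A hA
        have hdet1 : (diagonal (Function.update (1 : Fin m → F) j (D j))).det ≠ 0 := by
          rw [det_diagonal, Finset.prod_ne_zero_iff]
          intro i _
          by_cases hij : i = j
          · subst hij; rw [Function.update_self]; exact hD0 i
          · rw [Function.update_of_ne hij]; exact one_ne_zero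
        have hdet2 : (diagonal (fun i : Fin m => if i ∈ s then D i else 1)).det ≠ 0 := by
          rw [det_diagonal, Finset.prod_ne_zero_iff]
          intro i _
          split_ifs
          · exact hD0 i
          · exact one_ne_zero
        have h1 : A = GeneralLinearGroup.mkOfDetNeZero _ hdet1 * GeneralLinearGroup.mkOfDetNeZero _ hdet2 := by
          apply Units.ext
          rw [hA]
          change _ = diagonal (Function.update (1 : Fin m → F) j (D j)) * diagonal (fun i : Fin m => if i ∈ s then D i else 1)
          rw [diagonal_mul_diagonal]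
          congr 1
          funext i
          by_cases hij : i = j
          · subst hij
            rw [Function.update_self, if_neg hj, mul_one, if_pos (Finset.mem_insert_self _ _)]
          · rw [Function.update_of_ne hij, Pi.one_apply, one_mul]
            by_cases his : i ∈ s
            · rw [if_pos his, if_pos (Finset.mem_insert_of_mem his)]
            · rw [if_neg his, if_neg (by simp [hij, his])]
        rw [h1, map_mul, hχ j (D j) (hD0 j) _ rfl, ih _ rfl, Finset.prod_insert hj,
          eta_mul (hD0 j) (Finset.prod_ne_zero_iff.2 fun i _ => hD0 i)]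
    rw [det_diagonal]
    apply key Finset.univ A
    rw [hAD]
    simp
  · intro t A hAt
    have hdet : (transvection t.i t.j (t.c / 2)).det ≠ 0 := by
      rw [det_transvection_of_ne _ _ t.hij]
      exact one_ne_zero
    have h1 : A = GeneralLinearGroup.mkOfDetNeZero _ hdet * GeneralLinearGroup.mkOfDetNeZero _ hdet := by
      apply Units.ext
      rw [hAt]
      change _ = transvection t.i t.j (t.c / 2) * transvection t.i t.j (t.c / 2)
      rw [transvection_mul_transvection_same t.i t.j t.hij]
      rw [TransvectionStruct.toMatrix]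
      congr 1
      field_simp
      ring
    rw [h1, map_mul, TransvectionStruct.det, eta_eq_one.2 IsSquare.one]
    exact Int.units_mul_self _
  · intro M N hM hN ihM ihN A hAMN
    have h1 : A = GeneralLinearGroup.mkOfDetNeZero M hM * GeneralLinearGroup.mkOfDetNeZero N hN := by
      apply Units.ext
      rw [hAMN]
      rfl
    rw [h1, map_mul, ihM _ rfl, ihN _ rfl, det_mul, eta_mul hM hN]

/-- the Levi homomorphism -/
noncomputable def dG (m : ℕ) (F : Type*) [Field F] : GL (Fin m) F →* isometryGroup F ⇑(QP m F) :=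
  dd.codRestrict _ (fun g => by
    have e : quadFormPlus m F = ⇑(QP m F) := funext fun v => (QP_apply m v).symm
    rw [← e]
    exact plus_mem g)

theorem dG_coe (g : GL (Fin m) F) : ((dG m F g : GL (Fin m ⊕ Fin m) F)).1 = fromBlocks g.1 0 0 (g⁻¹).1.transpose := rfl

theorem dG_inl (g : GL (Fin m) F) (v : Fin m ⊕ Fin m → F) (i : Fin m) :
    (isometryGroupEquiv (QP m F) (dG m F g)).1 v (Sum.inl i) = (g.1 *ᵥ (v ∘ Sum.inl)) i := by
  rw [isometryGroupEquiv_apply, dG_coe, fromBlocks_mulVec]
  simp

theorem dG_inr (g : GL (Fin m) F) (v : Fin m ⊕ Fin m → F) (i : Fin m) :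
    (isometryGroupEquiv (QP m F) (dG m F g)).1 v (Sum.inr i) = ((g⁻¹).1.transpose *ᵥ (v ∘ Sum.inr)) i := by
  rw [isometryGroupEquiv_apply, dG_coe, fromBlocks_mulVec]
  simp

theorem dG_dick (h4 : (∃ c : F, c ≠ 0 ∧ c ≠ 1) ∨ finrank F (Fin m ⊕ Fin m → F) ≠ 4) (g : GL (Fin m) F) :
    dick (QP_nondegenerate (F := F) m) (isometryGroupEquiv (QP m F) (dG m F g)) = 1 := by
  rw [← even_sub_iff (QP_nondegenerate m) (finrank_QP m) h4 _ (U0_MS m)]
  have h1 : isometryGroupEquiv (QP m F) (dG m F g) ∈ stab (QP m F)
      (LinearMap.ker (LinearMap.funLeft F F (Sum.inr : Fin m → Fin m ⊕ Fin m))) := by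
    apply mem_stab_of
    intro x hx
    rw [LinearMap.mem_ker] at hx ⊢
    funext i
    change (isometryGroupEquiv (QP m F) (dG m F g)).1 x (Sum.inr i) = 0
    rw [dG_inr]
    have h2 : x ∘ Sum.inr = 0 := hx
    rw [h2, mulVec_zero]
    rfl
  have h3 : (LinearMap.ker (LinearMap.funLeft F F (Sum.inr : Fin m → Fin m ⊕ Fin m))).map
      ((isometryGroupEquiv (QP m F) (dG m F g)).1 : (Fin m ⊕ Fin m → F) →ₗ[F] _) =
      LinearMap.ker (LinearMap.funLeft F F (Sum.inr : Fin m → Fin m ⊕ Fin m)) := h1
  rw [h3, inf_idem, (U0_MS m).1, Nat.sub_self]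
  exact Even.zero

theorem dG_sgn (h2 : (2 : F) ≠ 0) (g : GL (Fin m) F) :
    sgnO (QP m F) 1 (isometryGroupEquiv (QP m F) (dG m F g)) = eta g.1.det := by
  refine char_GL h2 ((sgnO (QP m F) 1).comp ((isometryGroupEquiv (QP m F)).toMonoidHom.comp (dG m F))) ?_ g
  intro j d hd A hA
  obtain ⟨t, -, t2, t3⟩ := exists_hs (Q := QP m F) h2 (QP_nondegenerate m) (e := Pi.single (Sum.inl j) 1) (f := Pi.single (Sum.inr j) 1)
    (by rw [QP_apply]; simp [Cfsg.quadFormPlus, Pi.single_apply])
    (by rw [QP_apply]; simp [Cfsg.quadFormPlus, Pi.single_apply])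
    (by rw [polarP]; simp [Pi.single_apply]) hd
  have hβe : ∀ x, QuadraticMap.polarBilin (QP m F) (Pi.single (Sum.inl j) 1) x = x (Sum.inr j) := by
    intro x
    rw [polarP]
    simp [Pi.single_apply]
  have hβf : ∀ x, QuadraticMap.polarBilin (QP m F) (Pi.single (Sum.inr j) 1) x = x (Sum.inl j) := by
    intro x
    rw [polarP]
    simp [Pi.single_apply]
  have hinv : (A⁻¹).1 = diagonal (Function.update 1 j d⁻¹) := by
    have h5 : A.1 * diagonal (Function.update (1 : Fin m → F) j d⁻¹) = 1 := by
      rw [hA, diagonal_mul_diagonal, ← diagonal_one]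
      congr 1
      funext i
      by_cases hij : i = j
      · subst hij
        rw [Function.update_self, Function.update_self, mul_inv_cancel₀ hd]
      · rw [Function.update_of_ne hij, Function.update_of_ne hij]
        simp
    calc (A⁻¹).1 = (A⁻¹).1 * (A.1 * diagonal (Function.update (1 : Fin m → F) j d⁻¹)) := by rw [h5, Matrix.mul_one]
      _ = ((A⁻¹).1 * A.1) * diagonal (Function.update (1 : Fin m → F) j d⁻¹) := by rw [Matrix.mul_assoc]
      _ = _ := by rw [A.inv_mul, Matrix.one_mul]
  have h6 : isometryGroupEquiv (QP m F) (dG m F A) = t := by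
    apply O_ext
    intro x
    funext k
    rw [t3, hβe, hβf]
    rcases k with k | k
    · rw [dG_inl, hA, mulVec_diagonal]
      by_cases hk : k = j
      · subst hk
        simp
        ring
      · simp [Pi.single_apply, hk]
    · rw [dG_inr, hinv, diagonal_transpose, mulVec_diagonal]
      by_cases hk : k = j
      · subst hk
        simp
        ring
      · simp [Pi.single_apply, hk]
  change sgnO (QP m F) 1 (isometryGroupEquiv (QP m F) (dG m F A)) = eta d
  rw [h6, t2]

end

end CfsgLib.Omg
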