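import Cfsg.Agent.Lib.Quad2
import Cfsg.Agent.Lib.Invol
import Cfsg.Prelude.Def_Classical

/-!
# Quadratic forms III: the standard forms over finite fields; orders of the orthogonal groups
-/

namespace CfsgLib.Quad

open Module CfsgLib.IsomDecomp Cfsg

set_option linter.unusedSimpArgs false
set_option linter.unusedSectionVars false

variable {F V : Type*} [Field F] [AddCommGroup V] [Module F V]

/-- Transport of nondegeneracy. -/
lemma nondegenerate_congr {V' : Type*} [AddCommGroup V'] [Module F V'] (e : V ≃ₗ[F] V')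
    {Q : QuadraticForm F V} {Q' : QuadraticForm F V'} (h : ∀ u, Q' (e u) = Q u)
    (hQ : (QuadraticMap.polarBilin Q).Nondegenerate) :
    (QuadraticMap.polarBilin Q').Nondegenerate := by
  apply nondegenerate_of_left
  intro x hx
  have h1 : e.symm x = 0 := hQ.1 _ fun y => by
    have h2 := hx (e y)
    rw [QuadraticMap.polarBilin_apply_apply, QuadraticMap.polar] at h2 ⊢
    rw [← h, ← h, ← h, _root_.map_add, e.apply_symm_apply]
    exact h2
  simpa using h1

/-- `m` hyperbolic planes plus `Q`. -/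
noncomputable def hypSum (m : ℕ) (Q : QuadraticForm F V) :
    QuadraticForm F ((Fin m → F × F) × V) :=
  ∑ i, QuadraticMap.linMulLin
      ((LinearMap.fst F F F).comp ((LinearMap.proj i).comp (LinearMap.fst F (Fin m → F × F) V)))
      ((LinearMap.snd F F F).comp ((LinearMap.proj i).comp (LinearMap.fst F (Fin m → F × F) V))) +
    Q.comp (LinearMap.snd F (Fin m → F × F) V)

lemma hypSum_apply (m : ℕ) (Q : QuadraticForm F V) (x : (Fin m → F × F) × V) :
    hypSum m Q x = ∑ i, (x.1 i).1 * (x.1 i).2 + Q x.2 := by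
  simp [hypSum]

/-- Splitting off the first hyperbolic plane. -/
def hypSumSucc (m : ℕ) (F V : Type*) [Field F] [AddCommGroup V] [Module F V] :
    ((Fin (m + 1) → F × F) × V) ≃ₗ[F] (F × F) × ((Fin m → F × F) × V) where
  toFun x := (x.1 0, (fun i => x.1 i.succ, x.2))
  invFun y := (Fin.cons y.1 y.2.1, y.2.2)
  map_add' x y := rfl
  map_smul' c x := rfl
  left_inv x := Prod.ext (by
    funext i
    refine Fin.cases ?_ (fun j => ?_) i <;> simp) rfl
  right_inv y := by simp

lemma hsum_hypSumSucc (m : ℕ) (Q : QuadraticForm F V) (x : (Fin (m + 1) → F × F) × V) :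
    hsum (hypSum m Q) (hypSumSucc m F V x) = hypSum (m + 1) Q x := by
  rw [hsum_apply, hypSum_apply, hypSum_apply, Fin.sum_univ_succ]
  simp [hypSumSucc, add_assoc]

/-- No hyperbolic planes. -/
def hypSumZero (F V : Type*) [Field F] [AddCommGroup V] [Module F V] :
    ((Fin 0 → F × F) × V) ≃ₗ[F] V where
  toFun x := x.2
  invFun y := (0, y)
  map_add' x y := rfl
  map_smul' c x := rfl
  left_inv x := Prod.ext (Subsingleton.elim _ _) rfl
  right_inv y := rfl

lemma hypSumZero_apply' (Q : QuadraticForm F V) (x : (Fin 0 → F × F) × V) :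
    Q (hypSumZero F V x) = hypSum 0 Q x := by
  rw [hypSum_apply]
  simp [hypSumZero]

lemma hypSum_nondegenerate (m : ℕ) {Q : QuadraticForm F V}
    (hQ : (QuadraticMap.polarBilin Q).Nondegenerate) :
    (QuadraticMap.polarBilin (hypSum m Q)).Nondegenerate := by
  induction m with
  | zero =>
    exact nondegenerate_congr (hypSumZero F V).symm (fun u => by
      rw [← hypSumZero_apply', LinearEquiv.apply_symm_apply]) hQ
  | succ m ih =>
    exact nondegenerate_congr (hypSumSucc m F V).symm (fun u => by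
      rw [← hsum_hypSumSucc, LinearEquiv.apply_symm_apply]) (hsum_nondegenerate ih)

section Count

variable [FiniteDimensional F V]

lemma finrank_hypSum (m : ℕ) : finrank F ((Fin m → F × F) × V) = 2 * m + finrank F V := by
  rw [Module.finrank_prod, Module.finrank_pi_fintype]
  simp [mul_comm]

variable [Finite F]

lemma card_singular_hypSum (m : ℕ) (Q : QuadraticForm F V) :
    Nat.card F * Nat.card {x : (Fin m → F × F) × V // hypSum m Q x = 0} +
      Nat.card F ^ (m + finrank F V) =
    Nat.card F ^ (m + 1) * Nat.card {x : V // Q x = 0} + Nat.card F ^ (2 * m + finrank F V) := by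
  induction m with
  | zero =>
    have e : {x : (Fin 0 → F × F) × V // hypSum 0 Q x = 0} ≃ {x : V // Q x = 0} :=
      (hypSumZero F V).toEquiv.subtypeEquiv fun x => by
        rw [← hypSumZero_apply']; rfl
    rw [Nat.card_congr e]
    simp
  | succ m ih =>
    have e : {x : (Fin (m + 1) → F × F) × V // hypSum (m + 1) Q x = 0} ≃
        {x : (F × F) × ((Fin m → F × F) × V) // hsum (hypSum m Q) x = 0} :=
      (hypSumSucc m F V).toEquiv.subtypeEquiv fun x => by
        rw [← hsum_hypSumSucc]; rfl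
    rw [Nat.card_congr e]
    have h := card_singular_hsum (hypSum m Q)
    rw [finrank_hypSum] at h
    generalize Nat.card {x : (F × F) × ((Fin m → F × F) × V) // hsum (hypSum m Q) x = 0} = N' at *
    generalize Nat.card {x : (Fin m → F × F) × V // hypSum m Q x = 0} = N at *
    generalize Nat.card {x : V // Q x = 0} = N₀ at *
    generalize Nat.card F = q at *
    generalize finrank F V = d at *
    have h1 : q * (N' + q ^ (2 * m + d)) = q * (q * N + q ^ (2 * m + d + 1)) := by rw [h]
    zify at *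
    linear_combination h1 + (q : ℤ) * ih

lemma card_O_congr {V' : Type*} [AddCommGroup V'] [Module F V'] (e : V ≃ₗ[F] V')
    {Q : QuadraticForm F V} {Q' : QuadraticForm F V'} (h : ∀ u, Q' (e u) = Q u) :
    Nat.card (O Q) = Nat.card (O Q') := Nat.card_congr (OCongr e h).toEquiv

lemma card_O_hypSum_zero (Q : QuadraticForm F V) :
    Nat.card (O (hypSum 0 Q)) = Nat.card (O Q) :=
  card_O_congr (hypSumZero F V) fun u => hypSumZero_apply' Q u

lemma card_O_hypSum_succ (m : ℕ) {Q : QuadraticForm F V}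
    (hQ : (QuadraticMap.polarBilin Q).Nondegenerate) :
    Nat.card (O (hypSum (m + 1) Q)) =
      (Nat.card {x : (Fin (m + 1) → F × F) × V // hypSum (m + 1) Q x = 0} - 1) *
      Nat.card F ^ (2 * m + finrank F V) * Nat.card (O (hypSum m Q)) := by
  have e : {x : (Fin (m + 1) → F × F) × V // hypSum (m + 1) Q x = 0} ≃
      {x : (F × F) × ((Fin m → F × F) × V) // hsum (hypSum m Q) x = 0} :=
    (hypSumSucc m F V).toEquiv.subtypeEquiv fun x => by
      rw [← hsum_hypSumSucc]; rfl
  rw [card_O_congr (hypSumSucc m F V) (fun u => hsum_hypSumSucc m Q u), Nat.card_congr e,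
    card_O_hsum (hypSum_nondegenerate m hQ), finrank_hypSum]

end Count

/-! ### The three types -/

section Types

/-- The zero form on the zero space. -/
noncomputable def zeroQ (F : Type*) [Field F] : QuadraticForm F PUnit.{1} := 0

lemma zeroQ_nondegenerate : (QuadraticMap.polarBilin (zeroQ F)).Nondegenerate :=
  nondegenerate_of_left fun _ _ => Subsingleton.elim _ _

lemma card_O_zeroQ : Nat.card (O (zeroQ F)) = 1 := by
  rw [Nat.card_eq_one_iff_unique]
  refine ⟨⟨fun a b => Subtype.ext (LinearEquiv.ext fun x => Subsingleton.elim _ _)⟩, ⟨1⟩⟩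

/-- The form `x²`. -/
noncomputable def sqQ (F : Type*) [Field F] : QuadraticForm F F := QuadraticMap.sq

lemma sqQ_apply (x : F) : sqQ F x = x * x := rfl

lemma sqQ_nondegenerate (h2 : (2 : F) ≠ 0) : (QuadraticMap.polarBilin (sqQ F)).Nondegenerate := by
  apply nondegenerate_of_left
  intro x hx
  have h := hx 1
  rw [QuadraticMap.polarBilin_apply_apply, QuadraticMap.polar, sqQ_apply, sqQ_apply,
    sqQ_apply] at h
  have h3 : 2 * x = 0 := by linear_combination h
  exact (mul_eq_zero.mp h3).resolve_left h2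

lemma card_O_sqQ (h2 : (2 : F) ≠ 0) : Nat.card (O (sqQ F)) = 2 := by
  have e : O (sqQ F) ≃ {x : F // x * x = 1} :=
    { toFun := fun g => ⟨g.1 1, by
        have := mem_O.mp g.2 1
        rw [sqQ_apply, sqQ_apply, mul_one] at this
        exact this⟩
      invFun := fun x => ⟨LinearEquiv.smulOfNeZero F F x.1 (fun h => by
          have := x.2; rw [h, zero_mul] at this; exact zero_ne_one this), by
        rw [mem_O]
        intro y
        change (x.1 * y) * (x.1 * y) = y * y
        linear_combination y * y * x.2⟩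
      left_inv := fun g => by
        apply Subtype.ext
        apply LinearEquiv.ext
        intro y
        change g.1 1 * y = g.1 y
        conv_rhs => rw [← mul_one y, ← smul_eq_mul y (1 : F), _root_.map_smul]
        rw [smul_eq_mul, mul_comm]
      right_inv := fun x => by
        apply Subtype.ext
        change x.1 * 1 = x.1
        rw [mul_one] }
  rw [Nat.card_congr e]
  have hne : (1 : F) ≠ -1 := fun h => h2 (by linear_combination h)
  have : {x : F | x * x = 1} = {1, -1} := by
    ext x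
    simp only [Set.mem_setOf_eq, Set.mem_insert_iff, Set.mem_singleton_iff]
    exact mul_self_eq_one_iff
  change Nat.card {x : F | x * x = 1} = 2
  rw [this, Nat.card_coe_set_eq, Set.ncard_pair hne]

/-! #### The binary anisotropic form -/

/-- The quadratic algebra with norm form `z₁² + a z₁ z₂ + b z₂²`. -/
abbrev QK {F : Type*} [Field F] (a b : F) : Type _ := QuadraticAlgebra F (-b) a

/-- The binary form `z₁² + a z₁ z₂ + b z₂²` as norm form. -/
noncomputable def binQ {F : Type*} [Field F] (a b : F) : QuadraticForm F (QK a b) :=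
  QuadraticMap.linMulLin (QuadraticAlgebra.reₗ (-b) a) (QuadraticAlgebra.reₗ (-b) a) +
  a • QuadraticMap.linMulLin (QuadraticAlgebra.reₗ (-b) a) (QuadraticAlgebra.imₗ (-b) a) +
  b • QuadraticMap.linMulLin (QuadraticAlgebra.imₗ (-b) a) (QuadraticAlgebra.imₗ (-b) a)

lemma binQ_apply (a b : F) (z : QK a b) : binQ a b z = z.norm := by
  rw [QuadraticAlgebra.norm_def]
  simp [binQ]
  ring

lemma binQ_polar (a b : F) (z w : QK a b) :
    QuadraticMap.polarBilin (binQ a b) z w = 2 * z.re * w.re + a * (z.re * w.im + z.im * w.re) +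
      2 * b * z.im * w.im := by
  rw [QuadraticMap.polarBilin_apply_apply, QuadraticMap.polar, binQ_apply, binQ_apply, binQ_apply,
    QuadraticAlgebra.norm_def, QuadraticAlgebra.norm_def, QuadraticAlgebra.norm_def]
  simp only [QuadraticAlgebra.re_add, QuadraticAlgebra.im_add]
  ring

/-- Anisotropy. -/
def Aniso (a b : F) : Prop := ∀ z₁ z₂ : F, z₁ ^ 2 + a * z₁ * z₂ + b * z₂ ^ 2 = 0 → z₁ = 0 ∧ z₂ = 0

lemma Aniso.fact {a b : F} (hab : Aniso a b) : Fact (∀ r : F, r ^ 2 ≠ -b + a * r) :=
  ⟨fun r hr => one_ne_zero (hab (-r) 1 (by linear_combination hr)).2⟩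

lemma Aniso.norm_eq_zero {a b : F} (hab : Aniso a b) {z : QK a b} (h : z.norm = 0) : z = 0 := by
  rw [QuadraticAlgebra.norm_def] at h
  have := hab z.re z.im (by linear_combination h)
  exact QuadraticAlgebra.ext this.1 this.2

lemma Aniso.disc_ne_zero [Finite F] {a b : F} (hab : Aniso a b) : a ^ 2 - 4 * b ≠ 0 := by
  intro h
  by_cases h2 : (2 : F) = 0
  · -- characteristic two: `a = 0` and `b` is a square
    have h4 : (4 : F) = 0 := by
      have : (4 : F) = 2 * 2 := by norm_num
      rw [this, h2, zero_mul]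
    have ha : a = 0 := by
      rw [h4, zero_mul, sub_zero] at h
      exact pow_eq_zero_iff (two_ne_zero) |>.mp h
    have hch : CharP F 2 := CharTwo.of_one_ne_zero_of_two_eq_zero one_ne_zero h2
    obtain ⟨c, hc⟩ := FiniteField.isSquare_of_char_two (F := F) (by
      exact ringChar.eq F 2) b
    have := hab c 1 (by rw [ha, hc]; linear_combination c * c * h2)
    exact one_ne_zero this.2
  · have := hab (-a) 2 (by linear_combination -h)
    exact h2 this.2

lemma binQ_nondegenerate [Finite F] {a b : F} (hab : Aniso a b) :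
    (QuadraticMap.polarBilin (binQ a b)).Nondegenerate := by
  apply nondegenerate_of_left
  intro z hz
  have h1 := hz ⟨1, 0⟩
  have h2 := hz ⟨0, 1⟩
  rw [binQ_polar] at h1 h2
  simp only [mul_one, mul_zero, add_zero, zero_add] at h1 h2
  have hd := hab.disc_ne_zero
  have h3 : (a ^ 2 - 4 * b) * z.im = 0 := by linear_combination a * h1 - 2 * h2
  have h4 : (a ^ 2 - 4 * b) * z.re = 0 := by linear_combination a * h2 - 2 * b * h1
  exact QuadraticAlgebra.ext ((mul_eq_zero.mp h4).resolve_left hd)
    ((mul_eq_zero.mp h3).resolve_left hd)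

lemma algebraNorm_eq (a b : F) (z : QK a b) : Algebra.norm F z = z.norm := by
  rw [← QuadraticAlgebra.det_toLinearMap_eq_norm, Algebra.norm_apply]
  rfl

/-- The elements of norm one form a cyclic group of order `q + 1`. -/
theorem exists_unit_norm_one [Finite F] {a b : F} (hab : Aniso a b) :
    ∃ u : (QK a b)ˣ, orderOf u = Nat.card F + 1 ∧ (u : QK a b).norm = 1 ∧
      ∀ z : QK a b, z.norm = 1 → ∃ k : ℕ, z = (u : QK a b) ^ k := by
  have := hab.fact
  have : Finite (QK a b) := Module.finite_of_finite F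
  have := Fintype.ofFinite F
  set U : Subgroup (QK a b)ˣ := (Units.map (Algebra.norm F : QK a b →* F)).ker with hU
  have hcard : Nat.card U = Nat.card F + 1 := by
    have h1 : Nat.card U * U.index = Nat.card (QK a b)ˣ := Subgroup.card_mul_index U
    have h2 : U.index = Nat.card Fˣ := by
      rw [hU, Subgroup.index_ker, MonoidHom.range_eq_top.mpr
        (FiniteField.unitsMap_norm_surjective F (QK a b)), Subgroup.card_top]
    have h3 : Nat.card (QK a b) = Nat.card (QK a b)ˣ + 1 :=
      Nat.card_eq_card_units_add_one (α := QK a b)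
    have h4 : Nat.card F = Nat.card Fˣ + 1 := Nat.card_eq_card_units_add_one (α := F)
    have h5 : Nat.card (QK a b) = Nat.card F ^ 2 := by
      rw [Module.natCard_eq_pow_finrank (K := F), QuadraticAlgebra.finrank_eq_two]
    have h6 : 0 < Nat.card Fˣ := Nat.card_pos
    rw [h2] at h1
    have h7 : Nat.card U * Nat.card Fˣ = (Nat.card F + 1) * Nat.card Fˣ := by
      rw [h1]
      rw [h5, h4] at h3
      rw [h4]
      have : (Nat.card Fˣ + 1) ^ 2 = (Nat.card Fˣ + 1 + 1) * Nat.card Fˣ + 1 := by ring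
      omega
    exact Nat.eq_of_mul_eq_mul_right h6 h7
  obtain ⟨u, hu⟩ := IsCyclic.exists_generator (α := U)
  refine ⟨u.1, ?_, ?_, ?_⟩
  · rw [← hcard, Subgroup.orderOf_coe, orderOf_eq_card_of_forall_mem_zpowers hu]
  · have h0 : Units.map (Algebra.norm F : QK a b →* F) u.1 = 1 := u.2
    have h := congrArg Units.val h0
    rw [Units.coe_map] at h
    change Algebra.norm F ((u : (QK a b)ˣ) : QK a b) = 1 at h
    rw [algebraNorm_eq] at h
    exact h
  · intro z hz
    have hz0 : z ≠ 0 := by
      rintro rfl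
      rw [QuadraticAlgebra.norm_zero] at hz
      exact zero_ne_one hz
    have hzU : Units.mk0 z hz0 ∈ U := by
      rw [hU, MonoidHom.mem_ker]
      apply Units.ext
      change Algebra.norm F z = 1
      rw [algebraNorm_eq, hz]
    obtain ⟨k, hk⟩ := (mem_powers_iff_mem_zpowers (x := u)).mpr (hu ⟨_, hzU⟩)
    refine ⟨k, ?_⟩
    have h := congrArg (fun x : U => ((x : (QK a b)ˣ) : QK a b)) hk
    simpa using h.symm

/-- Multiplication by an element of norm one. -/
noncomputable def mulO {a b : F} (u : QK a b) (hu : u.norm = 1) : QK a b ≃ₗ[F] QK a b where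
  toFun z := u * z
  invFun z := star u * z
  map_add' x y := mul_add _ _ _
  map_smul' c x := mul_smul_comm _ _ _
  left_inv z := by
    change star u * (u * z) = z
    rw [← mul_assoc, mul_comm (star u), ← QuadraticAlgebra.algebraMap_norm_eq_mul_star, hu,
      _root_.map_one, one_mul]
  right_inv z := by
    change u * (star u * z) = z
    rw [← mul_assoc, ← QuadraticAlgebra.algebraMap_norm_eq_mul_star, hu,
      _root_.map_one, one_mul]

lemma mulO_mem {a b : F} (u : QK a b) (hu : u.norm = 1) : mulO u hu ∈ O (binQ a b) := by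
  rw [mem_O]
  intro z
  change binQ a b (u * z) = _
  rw [binQ_apply, binQ_apply, _root_.map_mul, hu, one_mul]

/-- Conjugation. -/
noncomputable def starO (a b : F) : QK a b ≃ₗ[F] QK a b where
  toFun z := star z
  invFun z := star z
  map_add' x y := star_add _ _
  map_smul' c x := by
    ext <;> simp <;> ring
  left_inv z := star_star z
  right_inv z := star_star z

lemma starO_mem (a b : F) : starO a b ∈ O (binQ a b) := by
  rw [mem_O]
  intro z
  change binQ a b (star z) = _
  rw [binQ_apply, binQ_apply, QuadraticAlgebra.norm_star]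

lemma isometry_binQ {a b : F} (hab : Aniso a b) {g : QK a b ≃ₗ[F] QK a b}
    (hg : g ∈ O (binQ a b)) : ∃ u : QK a b, u.norm = 1 ∧
      ((∀ z, g z = u * z) ∨ (∀ z, g z = u * star z)) := by
  have hdom : NoZeroDivisors (QK a b) := by
    have := hab.fact
    infer_instance
  have hg' := mem_O.mp hg
  simp only [binQ_apply] at hg'
  set u := g 1 with hu
  have hu1 : u.norm = 1 := by rw [hu, hg', QuadraticAlgebra.norm_one]
  have hun : u * star u = 1 := by
    rw [← QuadraticAlgebra.algebraMap_norm_eq_mul_star, hu1, _root_.map_one]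
  refine ⟨u, hu1, ?_⟩
  -- `h ω`
  set w : QK a b := ⟨0, 1⟩ with hw
  set v := star u * g w with hv
  have hv1 : v.norm = b := by
    rw [hv, _root_.map_mul, QuadraticAlgebra.norm_star, hu1, hg', one_mul, hw,
      QuadraticAlgebra.norm_def]
    simp
  have hv2 : (v + 1).norm = (w + 1).norm := by
    have : v + 1 = star u * g (w + 1) := by
      rw [_root_.map_add, mul_add, ← hu, hv, mul_comm (star u) u, hun]
    rw [this, _root_.map_mul, QuadraticAlgebra.norm_star, hu1, hg', one_mul]
  rw [QuadraticAlgebra.norm_def] at hv1 hv2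
  rw [QuadraticAlgebra.norm_def (w + 1)] at hv2
  simp only [QuadraticAlgebra.re_add, QuadraticAlgebra.im_add, QuadraticAlgebra.re_one,
    QuadraticAlgebra.im_one, hw] at hv2
  -- lin: trace
  have htr : 2 * v.re + a * v.im = a := by linear_combination hv2 - hv1
  have hfac : (v - w) * (v - star w) = 0 := by
    ext
    · simp [hw]
      linear_combination v.re * htr - hv1
    · simp [hw]
      linear_combination v.im * htr
  have hgen : ∀ z : QK a b, g z = z.re • u + z.im • (u * v) := by
    intro z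
    have hz : z = z.re • (1 : QK a b) + z.im • w := by
      ext <;> simp [hw, QuadraticAlgebra.re_one, QuadraticAlgebra.im_one]
    have huv : u * v = g w := by rw [hv, ← mul_assoc, hun, one_mul]
    conv_lhs => rw [hz]
    rw [_root_.map_add, _root_.map_smul, _root_.map_smul, ← hu, huv]
  rcases mul_eq_zero.mp hfac with h | h
  · left
    intro z
    rw [hgen, sub_eq_zero.mp h, ← mul_smul_comm, ← mul_one u, mul_assoc, ← mul_smul_comm,
      mul_assoc, ← mul_add]
    congr 1
    ext <;> simp [hw, QuadraticAlgebra.re_one, QuadraticAlgebra.im_one]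
  · right
    intro z
    rw [hgen, sub_eq_zero.mp h, ← mul_smul_comm]
    nth_rewrite 1 [← mul_one u]
    rw [← mul_smul_comm, ← mul_add]
    congr 1
    ext <;> simp [hw, QuadraticAlgebra.re_one, QuadraticAlgebra.im_one] <;> ring

/-- `O_2^-(q)` is dihedral of order `2(q + 1)`. -/
theorem O_binQ_dihedral [Finite F] {a b : F} (hab : Aniso a b) :
    Nonempty (O (binQ a b) ≃* DihedralGroup (Nat.card F + 1)) := by
  have := hab.fact
  obtain ⟨u, hu, hu1, hu2⟩ := exists_unit_norm_one hab
  let r : O (binQ a b) := ⟨mulO u hu1, mulO_mem _ _⟩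
  let s : O (binQ a b) := ⟨starO a b, starO_mem a b⟩
  have hr : ∀ (k : ℕ) (z : QK a b), (r ^ k).1 z = (u : QK a b) ^ k * z := by
    intro k
    induction k with
    | zero => intro z; simp
    | succ k ih =>
      intro z
      rw [pow_succ]
      change (r ^ k).1 ((u : QK a b) * z) = _
      rw [ih, pow_succ, mul_assoc]
  have hss : s * s = 1 := Subtype.ext (LinearEquiv.ext fun z => star_star z)
  have hun : (u : QK a b) * star (u : QK a b) = 1 := by
    rw [← QuadraticAlgebra.algebraMap_norm_eq_mul_star, hu1, _root_.map_one]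
  have hsr : (s * r) * (s * r) = 1 := by
    apply Subtype.ext
    apply LinearEquiv.ext
    intro z
    change star ((u : QK a b) * star ((u : QK a b) * z)) = z
    rw [star_mul', star_star, ← mul_assoc, mul_comm (star (u : QK a b)), hun, one_mul]
  have hxy : s * (s * r) = r := by rw [← mul_assoc, hss, one_mul]
  have hord : orderOf r = Nat.card F + 1 := by
    rw [← hu, ← orderOf_units]
    apply orderOf_eq_orderOf_iff.mpr
    intro k
    constructor
    · intro h
      have := hr k 1
      rw [h, mul_one] at this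
      exact this.symm
    · intro h
      apply Subtype.ext
      apply LinearEquiv.ext
      intro z
      rw [hr, h, one_mul]
      rfl
  set f := CfsgLib.Invol.dihedralHom s (s * r) hss hsr with hf
  have hinj : Function.Injective f := by
    rw [injective_iff_map_eq_one]
    intro d hd
    rcases d with i | i
    · rw [hf, CfsgLib.Invol.dihedralHom_r] at hd
      rw [CfsgLib.Invol.rot_eq_one hd]
      rfl
    · exfalso
      rw [hf, CfsgLib.Invol.dihedralHom_sr] at hd
      obtain ⟨k, -, hk⟩ := CfsgLib.Invol.exists_rot (s * (s * r)) i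
      rw [hk, hxy] at hd
      -- `s = r ^ (-k)`
      obtain ⟨j, hj⟩ : ∃ j : ℕ, r ^ j = s := by
        have h1 : s = r ^ (-k) := by
          rw [zpow_neg]
          exact eq_inv_of_mul_eq_one_left hd
        have hrf : IsOfFinOrder r := by
          rw [← orderOf_pos_iff, hord]; omega
        have h2 : s ∈ Subgroup.zpowers r := ⟨-k, h1.symm⟩
        obtain ⟨j, hj⟩ := hrf.mem_powers_iff_mem_zpowers.mpr h2
        exact ⟨j, hj⟩
      have h1 := hr j 1
      rw [hj, mul_one] at h1
      have h2 : (u : QK a b) ^ j = 1 := by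
        rw [← h1]
        exact star_one _
      have h3 := hr j ⟨0, 1⟩
      rw [hj, h2, one_mul] at h3
      have h4 : star (⟨0, 1⟩ : QK a b) = ⟨0, 1⟩ := h3
      have h5 := congrArg QuadraticAlgebra.re h4
      have h6 := congrArg QuadraticAlgebra.im h4
      simp at h5 h6
      apply hab.disc_ne_zero
      have h7 : (2 : F) = 0 := by linear_combination -h6
      rw [h5]
      linear_combination -2 * b * h7
  have hsurj : Function.Surjective f := by
    intro g
    obtain ⟨v, hv, hv2⟩ := isometry_binQ hab g.2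
    obtain ⟨k, rfl⟩ := hu2 v hv
    rcases hv2 with h | h
    · refine ⟨DihedralGroup.r ((k : ℤ) : ZMod _), ?_⟩
      rw [hf, CfsgLib.Invol.dihedralHom_r, CfsgLib.Invol.rot_intCast, hxy, zpow_natCast]
      apply Subtype.ext
      apply LinearEquiv.ext
      intro z
      rw [hr, h]
    · refine ⟨DihedralGroup.sr ((-(k : ℤ) : ℤ) : ZMod _), ?_⟩
      rw [hf, CfsgLib.Invol.dihedralHom_sr, CfsgLib.Invol.rot_intCast, hxy]
      have h1 : s * r ^ (-(k : ℤ)) = r ^ k * s := by
        have h2 : ∀ j : ℕ, s * (r ^ j)⁻¹ = r ^ j * s := by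
          intro j
          have h3 : s * r⁻¹ = r * s := by
            have h4 : s * r * s = r⁻¹ := by
              rw [eq_inv_iff_mul_eq_one, mul_assoc, hsr]
            rw [← h4, ← mul_assoc, ← mul_assoc, hss, one_mul]
          induction j with
          | zero => simp
          | succ j ih =>
            rw [pow_succ, mul_inv_rev, ← mul_assoc, h3, mul_assoc, ih, ← mul_assoc, ← pow_succ',
              ← pow_succ]
        rw [zpow_neg, zpow_natCast, h2]
      rw [h1]
      apply Subtype.ext
      apply LinearEquiv.ext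
      intro z
      rw [h]
      change (r ^ k).1 (star z) = _
      rw [hr]
  have e : DihedralGroup (orderOf (s * (s * r))) ≃* O (binQ a b) :=
    MulEquiv.ofBijective f ⟨hinj, hsurj⟩
  rw [hxy, hord] at e
  exact ⟨e.symm⟩

lemma card_O_binQ [Finite F] {a b : F} (hab : Aniso a b) :
    Nat.card (O (binQ a b)) = 2 * (Nat.card F + 1) := by
  obtain ⟨e⟩ := O_binQ_dihedral hab
  rw [Nat.card_congr e.toEquiv, DihedralGroup.nat_card]

lemma card_singular_zeroQ : Nat.card {x : PUnit.{1} // zeroQ F x = 0} = 1 := by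
  rw [Nat.card_eq_one_iff_unique]
  exact ⟨⟨fun a b => Subtype.ext (Subsingleton.elim _ _)⟩, ⟨⟨PUnit.unit, rfl⟩⟩⟩

lemma card_singular_sqQ : Nat.card {x : F // sqQ F x = 0} = 1 := by
  rw [Nat.card_eq_one_iff_unique]
  refine ⟨⟨fun a b => Subtype.ext ?_⟩, ⟨⟨0, by rw [sqQ_apply]; simp⟩⟩⟩
  have ha := a.2
  have hb := b.2
  rw [sqQ_apply, mul_self_eq_zero] at ha hb
  rw [ha, hb]

lemma card_singular_binQ {a b : F} (hab : Aniso a b) :
    Nat.card {x : QK a b // binQ a b x = 0} = 1 := by
  rw [Nat.card_eq_one_iff_unique]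
  refine ⟨⟨fun x y => Subtype.ext ?_⟩, ⟨⟨0, QuadraticMap.map_zero _⟩⟩⟩
  have hx := x.2
  have hy := y.2
  rw [binQ_apply] at hx hy
  rw [hab.norm_eq_zero hx, hab.norm_eq_zero hy]

end Types

/-! ### Coordinates -/

section Coord

/-- The matrix isometry group of a function which is a quadratic form in other coordinates. -/
noncomputable def isoMat {ι : Type} [Fintype ι] [DecidableEq ι] (Qf : (ι → F) → F)
    (Q : QuadraticForm F V) (e : (ι → F) ≃ₗ[F] V) (h : ∀ v, Q (e v) = Qf v) :
    isometryGroup F Qf ≃* O Q :=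
  (MulEquiv.subgroupCongr (by
    have : ⇑(Q.comp e.toLinearMap) = Qf := funext h
    rw [this]) : isometryGroup F Qf ≃* isometryGroup F ⇑(Q.comp e.toLinearMap)).trans
    ((isometryGroupEquiv (Q.comp e.toLinearMap)).trans (OCongr e fun _ => rfl))

lemma isoMat_apply {ι : Type} [Fintype ι] [DecidableEq ι] (Qf : (ι → F) → F)
    (Q : QuadraticForm F V) (e : (ι → F) ≃ₗ[F] V) (h : ∀ v, Q (e v) = Qf v)
    (g : isometryGroup F Qf) (v : ι → F) :
    (isoMat Qf Q e h g : V ≃ₗ[F] V) (e v) = e (((g : GL ι F) : Matrix ι ι F).mulVec v) := by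
  change e ((isometryGroupEquiv (Q.comp e.toLinearMap) _ : (ι → F) ≃ₗ[F] (ι → F))
    (e.symm (e v))) = _
  rw [e.symm_apply_apply, isometryGroupEquiv_apply]
  rfl

/-- Coordinates for the plus form. -/
def ePlus (m : ℕ) (F : Type*) [Field F] :
    (Fin m ⊕ Fin m → F) ≃ₗ[F] (Fin m → F × F) × PUnit.{1} where
  toFun v := (fun i => (v (.inl i), v (.inr i)), PUnit.unit)
  invFun x := Sum.elim (fun i => (x.1 i).1) (fun i => (x.1 i).2)
  map_add' x y := rfl
  map_smul' c x := rfl
  left_inv v := by
    funext i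
    rcases i with i | i <;> rfl
  right_inv x := rfl

lemma ePlus_apply (m : ℕ) (v : Fin m ⊕ Fin m → F) :
    hypSum m (zeroQ F) (ePlus m F v) = quadFormPlus m F v := by
  rw [hypSum_apply, quadFormPlus]
  change (∑ i : Fin m, v (.inl i) * v (.inr i)) + (0 : F) = _
  rw [add_zero]

/-- Coordinates for the odd form. -/
def eOdd (m : ℕ) (F : Type*) [Field F] :
    (Unit ⊕ (Fin m ⊕ Fin m) → F) ≃ₗ[F] (Fin m → F × F) × F where
  toFun v := (fun i => (v (.inr (.inl i)), v (.inr (.inr i))), v (.inl ()))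
  invFun x := Sum.elim (fun _ => x.2) (Sum.elim (fun i => (x.1 i).1) (fun i => (x.1 i).2))
  map_add' x y := rfl
  map_smul' c x := rfl
  left_inv v := by
    funext i
    rcases i with i | i | i <;> rfl
  right_inv x := rfl

lemma eOdd_apply (m : ℕ) (v : Unit ⊕ (Fin m ⊕ Fin m) → F) :
    hypSum m (sqQ F) (eOdd m F v) = quadFormOdd m F v := by
  rw [hypSum_apply, quadFormOdd, sqQ_apply]
  change (∑ i : Fin m, v (.inr (.inl i)) * v (.inr (.inr i))) + v (.inl ()) * v (.inl ()) = _
  ring

/-- Coordinates for the minus form. -/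
def eMinus (m : ℕ) {F : Type*} [Field F] (a b : F) :
    ((Fin m ⊕ Fin m) ⊕ Fin 2 → F) ≃ₗ[F] (Fin m → F × F) × QK a b where
  toFun v := (fun i => (v (.inl (.inl i)), v (.inl (.inr i))), ⟨v (.inr 0), v (.inr 1)⟩)
  invFun x := Sum.elim (Sum.elim (fun i => (x.1 i).1) (fun i => (x.1 i).2)) ![x.2.re, x.2.im]
  map_add' x y := rfl
  map_smul' c x := rfl
  left_inv v := by
    funext i
    rcases i with (i | i) | i
    · rfl
    · rfl
    · fin_cases i <;> rfl
  right_inv x := rfl

lemma eMinus_apply (m : ℕ) (a b : F) (v : (Fin m ⊕ Fin m) ⊕ Fin 2 → F) :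
    hypSum m (binQ a b) (eMinus m a b v) = quadFormMinus m F a b v := by
  rw [hypSum_apply, quadFormMinus, binQ_apply, QuadraticAlgebra.norm_def]
  change (∑ i : Fin m, v (.inl (.inl i)) * v (.inl (.inr i))) +
    (v (.inr 0) * v (.inr 0) + a * v (.inr 0) * v (.inr 1) - -b * v (.inr 1) * v (.inr 1)) = _
  ring

variable [Finite F]

lemma two_ne_zero_of_odd (hodd : Odd (Nat.card F)) : (2 : F) ≠ 0 := by
  intro h2
  have := Fintype.ofFinite F
  have hch : CharP F 2 := CharTwo.of_one_ne_zero_of_two_eq_zero one_ne_zero h2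
  have h3 := FiniteField.even_card_iff_char_two (F := F)
  rw [ringChar.eq F 2] at h3
  rw [Nat.card_eq_fintype_card] at hodd
  have h4 : Fintype.card F % 2 = 0 := h3.mp rfl
  rw [Nat.odd_iff] at hodd
  omega

theorem card_plus_zero (m : ℕ) :
    Nat.card {v : Fin (m + 1) ⊕ Fin (m + 1) → F // quadFormPlus (m + 1) F v = 0} +
      Nat.card F ^ m = Nat.card F ^ (2 * m + 1) + Nat.card F ^ (m + 1) := by
  have e : {v : Fin (m + 1) ⊕ Fin (m + 1) → F // quadFormPlus (m + 1) F v = 0} ≃
      {x : (Fin (m + 1) → F × F) × PUnit.{1} // hypSum (m + 1) (zeroQ F) x = 0} :=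
    (ePlus (m + 1) F).toEquiv.subtypeEquiv fun v => by
      rw [← ePlus_apply]; rfl
  rw [Nat.card_congr e]
  have h := card_singular_hypSum (m + 1) (zeroQ F)
  rw [card_singular_zeroQ, finrank_eq_zero_of_subsingleton] at h
  have hq : 0 < Nat.card F := Nat.card_pos
  apply Nat.eq_of_mul_eq_mul_left hq
  zify at *
  linear_combination h

theorem card_odd_zero (m : ℕ) :
    Nat.card {v : Unit ⊕ (Fin m ⊕ Fin m) → F // quadFormOdd m F v = 0} =
      Nat.card F ^ (2 * m) := by
  have e : {v : Unit ⊕ (Fin m ⊕ Fin m) → F // quadFormOdd m F v = 0} ≃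
      {x : (Fin m → F × F) × F // hypSum m (sqQ F) x = 0} :=
    (eOdd m F).toEquiv.subtypeEquiv fun v => by
      rw [← eOdd_apply]; rfl
  rw [Nat.card_congr e]
  have h := card_singular_hypSum m (sqQ F)
  rw [card_singular_sqQ, Module.finrank_self] at h
  have hq : 0 < Nat.card F := Nat.card_pos
  apply Nat.eq_of_mul_eq_mul_left hq
  zify at *
  linear_combination h

theorem card_minus_zero {a b : F} (hab : Aniso a b) (m : ℕ) :
    Nat.card {v : (Fin m ⊕ Fin m) ⊕ Fin 2 → F // quadFormMinus m F a b v = 0} +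
        Nat.card F ^ (m + 1) = Nat.card F ^ (2 * m + 1) + Nat.card F ^ m := by
  have e : {v : (Fin m ⊕ Fin m) ⊕ Fin 2 → F // quadFormMinus m F a b v = 0} ≃
      {x : (Fin m → F × F) × QK a b // hypSum m (binQ a b) x = 0} :=
    (eMinus m a b).toEquiv.subtypeEquiv fun v => by
      rw [← eMinus_apply]; rfl
  rw [Nat.card_congr e]
  have h := card_singular_hypSum m (binQ a b)
  rw [card_singular_binQ hab, QuadraticAlgebra.finrank_eq_two] at h
  have hq : 0 < Nat.card F := Nat.card_pos
  apply Nat.eq_of_mul_eq_mul_left hq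
  zify at *
  linear_combination h

/-- `|O^+_{2m}(q)|`. -/
theorem card_O_plus (m : ℕ) :
    Nat.card (isometryGroup F (quadFormPlus (m + 1) F)) =
      2 * Nat.card F ^ ((m + 1) * m) * (Nat.card F ^ (m + 1) - 1) *
        ∏ i ∈ Finset.range m, (Nat.card F ^ (2 * (i + 1)) - 1) := by
  rw [Nat.card_congr (isoMat _ (hypSum (m + 1) (zeroQ F)) (ePlus (m + 1) F)
    (ePlus_apply (m + 1))).toEquiv]
  have hq : 0 < Nat.card F := Nat.card_pos
  have hN : ∀ k : ℕ, Nat.card {x : (Fin (k + 1) → F × F) × PUnit.{1} //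
      hypSum (k + 1) (zeroQ F) x = 0} - 1 =
      (Nat.card F ^ (k + 1) - 1) * (Nat.card F ^ k + 1) := by
    intro k
    have h := card_plus_zero (F := F) k
    have e : {v : Fin (k + 1) ⊕ Fin (k + 1) → F // quadFormPlus (k + 1) F v = 0} ≃
        {x : (Fin (k + 1) → F × F) × PUnit.{1} // hypSum (k + 1) (zeroQ F) x = 0} :=
      (ePlus (k + 1) F).toEquiv.subtypeEquiv fun v => by
        rw [← ePlus_apply]; rfl
    rw [Nat.card_congr e] at h
    have h1 : 1 ≤ Nat.card F ^ (k + 1) := Nat.one_le_pow _ _ hq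
    obtain ⟨c, hc⟩ := Nat.exists_eq_add_of_le h1
    rw [hc, Nat.add_sub_cancel_left]
    have h2 : Nat.card F ^ (2 * k + 1) = Nat.card F ^ k * (1 + c) := by rw [← hc]; ring
    rw [h2, hc] at h
    have : c * (Nat.card F ^ k + 1) + 1 + Nat.card F ^ k =
      Nat.card F ^ k * (1 + c) + (1 + c) := by ring
    omega
  induction m with
  | zero =>
    rw [card_O_hypSum_succ 0 zeroQ_nondegenerate, hN, card_O_hypSum_zero, card_O_zeroQ,
      finrank_eq_zero_of_subsingleton]
    simp only [zero_add, pow_one, pow_zero, mul_zero, add_zero, mul_one, Finset.range_zero,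
      Finset.prod_empty]
    ring
  | succ m ih =>
    rw [card_O_hypSum_succ (m + 1) zeroQ_nondegenerate, hN, ih,
      finrank_eq_zero_of_subsingleton, Finset.prod_range_succ]
    have h1 : Nat.card F ^ (2 * (m + 1)) - 1 =
        (Nat.card F ^ (m + 1) - 1) * (Nat.card F ^ (m + 1) + 1) := by
      have h1 : 1 ≤ Nat.card F ^ (m + 1) := Nat.one_le_pow _ _ hq
      obtain ⟨c, hc⟩ := Nat.exists_eq_add_of_le h1
      have h2 : Nat.card F ^ (2 * (m + 1)) = (1 + c) * (1 + c) := by rw [← hc]; ring
      rw [h2, hc, Nat.add_sub_cancel_left]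
      have : (1 + c) * (1 + c) = c * (1 + c + 1) + 1 := by ring
      omega
    rw [h1]
    generalize Nat.card F ^ (m + 1 + 1) - 1 = x
    generalize Nat.card F ^ (m + 1) - 1 = y
    ring

/-- `|O_{2m+1}(q)|`, `q` odd. -/
theorem card_O_odd (h2 : (2 : F) ≠ 0) (m : ℕ) :
    Nat.card (isometryGroup F (quadFormOdd m F)) =
      2 * Nat.card F ^ (m ^ 2) * ∏ i ∈ Finset.range m, (Nat.card F ^ (2 * (i + 1)) - 1) := by
  rw [Nat.card_congr (isoMat _ (hypSum m (sqQ F)) (eOdd m F) (eOdd_apply m)).toEquiv]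
  have hN : ∀ k : ℕ, Nat.card {x : (Fin k → F × F) × F // hypSum k (sqQ F) x = 0} =
      Nat.card F ^ (2 * k) := by
    intro k
    rw [← card_odd_zero]
    exact (Nat.card_congr ((eOdd k F).toEquiv.subtypeEquiv fun v => by
      rw [← eOdd_apply]; rfl)).symm
  induction m with
  | zero => rw [card_O_hypSum_zero, card_O_sqQ h2]; simp
  | succ m ih =>
    rw [card_O_hypSum_succ m (sqQ_nondegenerate h2), hN, ih, Module.finrank_self,
      Finset.prod_range_succ]
    generalize Nat.card F ^ (2 * (m + 1)) - 1 = x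
    ring

/-- `|O^-_{2m+2}(q)|`. -/
theorem card_O_minus {a b : F} (hab : Aniso a b) (m : ℕ) :
    Nat.card (isometryGroup F (quadFormMinus m F a b)) =
      2 * Nat.card F ^ ((m + 1) * m) * (Nat.card F ^ (m + 1) + 1) *
        ∏ i ∈ Finset.range m, (Nat.card F ^ (2 * (i + 1)) - 1) := by
  rw [Nat.card_congr (isoMat _ (hypSum m (binQ a b)) (eMinus m a b) (eMinus_apply m a b)).toEquiv]
  have hq : 0 < Nat.card F := Nat.card_pos
  have hN : ∀ k : ℕ, Nat.card {x : (Fin (k + 1) → F × F) × QK a b //
      hypSum (k + 1) (binQ a b) x = 0} - 1 =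
      (Nat.card F ^ (k + 1) - 1) * (Nat.card F ^ (k + 2) + 1) := by
    intro k
    have h := card_minus_zero hab (k + 1)
    have e : {v : (Fin (k + 1) ⊕ Fin (k + 1)) ⊕ Fin 2 → F // quadFormMinus (k + 1) F a b v = 0} ≃
        {x : (Fin (k + 1) → F × F) × QK a b // hypSum (k + 1) (binQ a b) x = 0} :=
      (eMinus (k + 1) a b).toEquiv.subtypeEquiv fun v => by
        rw [← eMinus_apply]; rfl
    rw [Nat.card_congr e] at h
    have h1 : 1 ≤ Nat.card F ^ (k + 1) := Nat.one_le_pow _ _ hq
    obtain ⟨c, hc⟩ := Nat.exists_eq_add_of_le h1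
    have h2 : Nat.card F ^ (2 * (k + 1) + 1) = Nat.card F ^ (k + 1 + 1) * (1 + c) := by
      rw [← hc]; ring
    rw [h2, hc] at h
    rw [hc, Nat.add_sub_cancel_left]
    have h3 : c * (Nat.card F ^ (k + 2) + 1) + 1 + Nat.card F ^ (k + 1 + 1) =
      Nat.card F ^ (k + 1 + 1) * (1 + c) + (1 + c) := by ring
    omega
  induction m with
  | zero =>
    rw [card_O_hypSum_zero, card_O_binQ hab]
    simp
  | succ m ih =>
    rw [card_O_hypSum_succ m (binQ_nondegenerate hab), hN, ih,
      QuadraticAlgebra.finrank_eq_two, Finset.prod_range_succ]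
    have h1 : Nat.card F ^ (2 * (m + 1)) - 1 =
        (Nat.card F ^ (m + 1) - 1) * (Nat.card F ^ (m + 1) + 1) := by
      have h1 : 1 ≤ Nat.card F ^ (m + 1) := Nat.one_le_pow _ _ hq
      obtain ⟨c, hc⟩ := Nat.exists_eq_add_of_le h1
      have h2 : Nat.card F ^ (2 * (m + 1)) = (1 + c) * (1 + c) := by rw [← hc]; ring
      rw [h2, hc, Nat.add_sub_cancel_left]
      have : (1 + c) * (1 + c) = c * (1 + c + 1) + 1 := by ring
      omega
    rw [h1]
    generalize Nat.card F ^ (m + 1) - 1 = y
    ring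

end Coord

/-! ### The hyperbolic plane -/

section Plane

/-- The form `x y`. -/
noncomputable def hypQ (F : Type*) [Field F] : QuadraticForm F (F × F) :=
  QuadraticMap.linMulLin (LinearMap.fst F F F) (LinearMap.snd F F F)

lemma hypQ_apply (x : F × F) : hypQ F x = x.1 * x.2 := rfl

/-- `(x, y) ↦ (t x, t⁻¹ y)`. -/
def hscl (t : Fˣ) : (F × F) ≃ₗ[F] (F × F) where
  toFun x := (t * x.1, (t⁻¹ : Fˣ) * x.2)
  invFun x := ((t⁻¹ : Fˣ) * x.1, t * x.2)
  map_add' x y := Prod.ext (mul_add _ _ _) (mul_add _ _ _)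
  map_smul' c x := Prod.ext (mul_left_comm _ _ _) (mul_left_comm _ _ _)
  left_inv x := Prod.ext (by simp) (by simp)
  right_inv x := Prod.ext (by simp) (by simp)

lemma hscl_mem (t : Fˣ) : hscl t ∈ O (hypQ F) := by
  rw [mem_O]
  intro x
  rw [hypQ_apply, hypQ_apply]
  change (t * x.1) * ((t⁻¹ : Fˣ) * x.2) = _
  rw [mul_mul_mul_comm, Units.mul_inv, one_mul]

/-- The swap. -/
def hswap (F : Type*) [Field F] : (F × F) ≃ₗ[F] (F × F) where
  toFun x := (x.2, x.1)
  invFun x := (x.2, x.1)
  map_add' x y := rfl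
  map_smul' c x := rfl
  left_inv x := rfl
  right_inv x := rfl

lemma hswap_mem : hswap F ∈ O (hypQ F) := by
  rw [mem_O]
  intro x
  rw [hypQ_apply, hypQ_apply]
  exact mul_comm _ _

lemma isometry_hypQ {g : (F × F) ≃ₗ[F] (F × F)} (hg : g ∈ O (hypQ F)) :
    ∃ t : Fˣ, g = hscl t ∨ g = hscl t * hswap F := by
  have hg' := mem_O.mp hg
  have h1 := hg' (1, 0)
  have h2 := hg' (0, 1)
  have h3 := hg' (1, 1)
  have h4 : g (1, 1) = g (1, 0) + g (0, 1) := by rw [← _root_.map_add]; simp
  rw [h4] at h3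
  simp only [hypQ_apply, Prod.fst_add, Prod.snd_add, mul_zero, zero_mul, mul_one] at h1 h2 h3
  have hgx : ∀ x : F × F, g x = x.1 • g (1, 0) + x.2 • g (0, 1) := by
    intro x
    rw [← _root_.map_smul, ← _root_.map_smul, ← _root_.map_add]
    congr 1
    simp
  rcases mul_eq_zero.mp h1 with h5 | h5
  · -- `g e = (0, *)`
    have h6 : (g (1, 0)).2 * (g (0, 1)).1 = 1 := by
      rw [h5] at h3
      linear_combination h3 - h2
    have h7 : (g (0, 1)).1 ≠ 0 := right_ne_zero_of_mul_eq_one h6
    have h8 : (g (0, 1)).2 = 0 := (mul_eq_zero.mp h2).resolve_left h7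
    refine ⟨Units.mk0 _ h7, Or.inr (LinearEquiv.ext fun x => ?_)⟩
    rw [hgx]
    refine Prod.ext ?_ ?_
    · change x.1 * (g (1, 0)).1 + x.2 * (g (0, 1)).1 = (g (0, 1)).1 * x.2
      rw [h5]; ring
    · change x.1 * (g (1, 0)).2 + x.2 * (g (0, 1)).2 = (g (0, 1)).1⁻¹ * x.1
      rw [h8, mul_zero, add_zero, mul_comm]
      congr 1
      exact eq_inv_of_mul_eq_one_left h6
  · have h6 : (g (1, 0)).1 * (g (0, 1)).2 = 1 := by
      rw [h5] at h3
      linear_combination h3 - h2
    have h7 : (g (1, 0)).1 ≠ 0 := left_ne_zero_of_mul_eq_one h6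
    have h8 : (g (0, 1)).1 = 0 := by
      rcases mul_eq_zero.mp h2 with h | h
      · exact h
      · rw [h, mul_zero] at h6; exact absurd h6 zero_ne_one
    refine ⟨Units.mk0 _ h7, Or.inl (LinearEquiv.ext fun x => ?_)⟩
    rw [hgx]
    refine Prod.ext ?_ ?_
    · change x.1 * (g (1, 0)).1 + x.2 * (g (0, 1)).1 = (g (1, 0)).1 * x.1
      rw [h8]; ring
    · change x.1 * (g (1, 0)).2 + x.2 * (g (0, 1)).2 = (g (1, 0)).1⁻¹ * x.2
      rw [h5, mul_zero, zero_add, mul_comm]
      congr 1
      exact eq_inv_of_mul_eq_one_right h6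

/-- `O_2^+(q)` is dihedral of order `2(q - 1)`. -/
theorem O_hypQ_dihedral [Finite F] :
    Nonempty (O (hypQ F) ≃* DihedralGroup (Nat.card F - 1)) := by
  obtain ⟨u, hu⟩ := IsCyclic.exists_generator (α := Fˣ)
  let r : O (hypQ F) := ⟨hscl u, hscl_mem _⟩
  let s : O (hypQ F) := ⟨hswap F, hswap_mem⟩
  have hr : ∀ (k : ℕ), (r ^ k).1 = hscl (u ^ k) := by
    intro k
    induction k with
    | zero =>
      apply LinearEquiv.ext; intro z
      refine Prod.ext ?_ ?_
      · change z.1 = ((u ^ 0 : Fˣ) : F) * z.1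
        simp
      · change z.2 = (((u ^ 0)⁻¹ : Fˣ) : F) * z.2
        simp
    | succ k ih =>
      rw [pow_succ, Subgroup.coe_mul, ih]
      apply LinearEquiv.ext; intro z
      refine Prod.ext ?_ ?_
      · change ((u ^ k : Fˣ) : F) * (u * z.1) = ((u ^ (k + 1) : Fˣ) : F) * z.1
        rw [pow_succ, Units.val_mul, mul_assoc]
      · change (((u ^ k)⁻¹ : Fˣ) : F) * ((u⁻¹ : Fˣ) * z.2) = (((u ^ (k + 1))⁻¹ : Fˣ) : F) * z.2
        rw [← mul_assoc, ← Units.val_mul, ← _root_.mul_inv_rev, pow_succ']
  have hss : s * s = 1 := rfl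
  have hsr : (s * r) * (s * r) = 1 := by
    apply Subtype.ext
    apply LinearEquiv.ext
    intro z
    refine Prod.ext ?_ ?_
    · change ((u⁻¹ : Fˣ) : F) * (u * z.1) = z.1
      simp
    · change (u : F) * ((u⁻¹ : Fˣ) * z.2) = z.2
      simp
  have hxy : s * (s * r) = r := by rw [← mul_assoc, hss, one_mul]
  have hord : orderOf r = Nat.card F - 1 := by
    have h0 : Nat.card F = Nat.card Fˣ + 1 := Nat.card_eq_card_units_add_one (α := F)
    rw [h0, Nat.add_sub_cancel, ← orderOf_eq_card_of_forall_mem_zpowers hu]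
    apply orderOf_eq_orderOf_iff.mpr
    intro k
    constructor
    · intro h
      have h1 := congrArg (fun g : O (hypQ F) => (g.1 (1, 0)).1) h
      have h2 : (r ^ k).1 (1, 0) = (((u ^ k : Fˣ) : F) * 1, (((u ^ k)⁻¹ : Fˣ) : F) * 0) := by
        rw [hr]; rfl
      replace h1 : ((r ^ k).1 (1, 0)).1 = (1 : F) := h1
      rw [h2] at h1
      apply Units.ext
      simpa using h1
    · intro h
      apply Subtype.ext
      rw [hr, h]
      apply LinearEquiv.ext; intro z
      refine Prod.ext ?_ ?_
      · change ((1 : Fˣ) : F) * z.1 = z.1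
        simp
      · change ((1⁻¹ : Fˣ) : F) * z.2 = z.2
        simp
  set f := CfsgLib.Invol.dihedralHom s (s * r) hss hsr with hf
  have hmemr : ∀ g : O (hypQ F), g ∈ Subgroup.zpowers r → ∃ j : ℕ, r ^ j = g := by
    intro g hg
    have hpos : 0 < Nat.card Fˣ := Nat.card_pos
    have h0 : Nat.card F = Nat.card Fˣ + 1 := Nat.card_eq_card_units_add_one (α := F)
    have hrf : IsOfFinOrder r := by
      rw [← orderOf_pos_iff, hord]; omega
    exact hrf.mem_powers_iff_mem_zpowers.mpr hg
  have hinj : Function.Injective f := by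
    rw [injective_iff_map_eq_one]
    intro d hd
    rcases d with i | i
    · rw [hf, CfsgLib.Invol.dihedralHom_r] at hd
      rw [CfsgLib.Invol.rot_eq_one hd]
      rfl
    · exfalso
      rw [hf, CfsgLib.Invol.dihedralHom_sr] at hd
      obtain ⟨k, -, hk⟩ := CfsgLib.Invol.exists_rot (s * (s * r)) i
      rw [hk, hxy] at hd
      obtain ⟨j, hj⟩ : ∃ j : ℕ, r ^ j = s := by
        apply hmemr
        refine ⟨-k, ?_⟩
        change r ^ (-k) = s
        rw [_root_.zpow_neg]
        exact (eq_inv_of_mul_eq_one_left hd).symm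
      have h1 := congrArg (fun g : O (hypQ F) => (g.1 (1, 0)).1) hj
      have h2 : (r ^ j).1 (1, 0) = (((u ^ j : Fˣ) : F) * 1, (((u ^ j)⁻¹ : Fˣ) : F) * 0) := by
        rw [hr]; rfl
      replace h1 : ((r ^ j).1 (1, 0)).1 = (0 : F) := h1
      rw [h2] at h1
      have h3 : (((u ^ j : Fˣ) : F)) = 0 := by
        rw [mul_one] at h1
        exact h1
      exact (u ^ j).ne_zero h3
  have hsurj : Function.Surjective f := by
    intro g
    obtain ⟨t, ht⟩ := isometry_hypQ g.2
    obtain ⟨k, hk⟩ : ∃ k : ℕ, u ^ k = t := mem_powers_iff_mem_zpowers.mpr (hu t)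
    rcases ht with h | h
    · refine ⟨DihedralGroup.r ((k : ℤ) : ZMod _), ?_⟩
      rw [hf, CfsgLib.Invol.dihedralHom_r, CfsgLib.Invol.rot_intCast, hxy, zpow_natCast]
      apply Subtype.ext
      rw [hr, hk, h]
    · refine ⟨DihedralGroup.sr ((-(k : ℤ) : ℤ) : ZMod _), ?_⟩
      rw [hf, CfsgLib.Invol.dihedralHom_sr, CfsgLib.Invol.rot_intCast, hxy]
      have h1 : s * r ^ (-(k : ℤ)) = r ^ k * s := by
        have h2 : ∀ j : ℕ, s * (r ^ j)⁻¹ = r ^ j * s := by
          intro j
          have h3 : s * r⁻¹ = r * s := by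
            have h4 : s * r * s = r⁻¹ := by
              rw [eq_inv_iff_mul_eq_one, mul_assoc, hsr]
            rw [← h4, ← mul_assoc, ← mul_assoc, hss, one_mul]
          induction j with
          | zero => simp
          | succ j ih =>
            rw [pow_succ, _root_.mul_inv_rev, ← mul_assoc, h3, mul_assoc, ih, ← mul_assoc,
              ← pow_succ', ← pow_succ]
        rw [_root_.zpow_neg, zpow_natCast, h2]
      rw [h1]
      apply Subtype.ext
      rw [Subgroup.coe_mul, hr, hk, h]
  have e : DihedralGroup (orderOf (s * (s * r))) ≃* O (hypQ F) :=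
    MulEquiv.ofBijective f ⟨hinj, hsurj⟩
  rw [hxy, hord] at e
  exact ⟨e.symm⟩

end Plane

end CfsgLib.Quad
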