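import Mathlib
import Cfsg.Agent.Lib.OMG17
import Cfsg.Agent.Lib.Quad3

/-! Hyperbolic forms from perfect pairings. -/

namespace CfsgLib.GUs

open Module

theorem exists_e {F V A C : Type*} [Field F] [AddCommGroup V] [Module F V] [AddCommGroup A] [Module F A] [AddCommGroup C] [Module F C]
    [FiniteDimensional F V] [FiniteDimensional F A] (m : ℕ) (w : V →ₗ[F] A) (u : V →ₗ[F] C) (P : A →ₗ[F] C →ₗ[F] F)
    (hP : ∀ y, (∀ x, P x y = 0) → y = 0) (hinj : ∀ v, w v = 0 → u v = 0 → v = 0) (hA : finrank F A = m)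
    (hV : finrank F V = 2 * m) : ∃ e : V ≃ₗ[F] (Fin m ⊕ Fin m → F), ∀ v, Cfsg.quadFormPlus m F (e v) = P (w v) (u v) := by
  let b := finBasisOfFinrankEq F A hA
  let f : V →ₗ[F] (Fin m ⊕ Fin m → F) := LinearMap.pi (Sum.elim (fun i => (b.coord i).comp w) (fun i => (P (b i)).comp u))
  have f1 : ∀ v i, f v (Sum.inl i) = b.repr (w v) i := fun v i => rfl
  have f2 : ∀ v i, f v (Sum.inr i) = P (b i) (u v) := fun v i => rfl
  have hf : Function.Injective f := by
    rw [injective_iff_map_eq_zero]
    intro v hv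
    apply hinj v
    · apply b.repr.injective
      ext i
      rw [← f1, hv, map_zero]
      rfl
    · apply hP
      have h1 : P.flip (u v) = 0 := by
        apply b.ext
        intro i
        rw [LinearMap.flip_apply, ← f2, hv]
        rfl
      intro x
      exact congrArg (fun g : A →ₗ[F] F => g x) h1
  have hd : finrank F V = finrank F (Fin m ⊕ Fin m → F) := by
    rw [hV, finrank_fintype_fun_eq_card, Fintype.card_sum, Fintype.card_fin, two_mul]
  refine ⟨LinearMap.linearEquivOfInjective f hf hd, fun v => ?_⟩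
  rw [LinearMap.linearEquivOfInjective_apply]
  change ∑ i : Fin m, f v (Sum.inl i) * f v (Sum.inr i) = _
  conv_rhs => rw [← b.sum_repr (w v)]
  rw [map_sum, LinearMap.sum_apply]
  apply Finset.sum_congr rfl
  intro i _
  rw [f1, f2, map_smul, LinearMap.smul_apply, smul_eq_mul]

end CfsgLib.GUs
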