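import Mathlib

set_option autoImplicit false

namespace CfsgLib.Semis

open Polynomial Module Matrix

/-- if the irreducible `p` divides the characteristic polynomial then `p(A)` is singular -/
theorem det_aeval_eq_zero {F : Type*} [Field F] {n : Type*} [Fintype n] [DecidableEq n] (A : Matrix n n F)
    (p : F[X]) (hp : Irreducible p) (h : p ∣ A.charpoly) : (aeval A p).det = 0 := by
  have : Fact (Irreducible p) := ⟨hp⟩
  let K := AdjoinRoot p
  let α : K := AdjoinRoot.root p
  have hα : aeval α p = 0 := by rw [AdjoinRoot.aeval_eq, AdjoinRoot.mk_self]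
  let AK : Matrix n n K := A.map (algebraMap F K)
  have h1 : (AK.charpoly).eval α = 0 := by
    have e1 : AK.charpoly = A.charpoly.map (algebraMap F K) := Matrix.charpoly_map A (algebraMap F K)
    rw [e1, eval_map, ← aeval_def]
    obtain ⟨c, hc⟩ := h
    rw [hc, map_mul, hα, zero_mul]
  rw [Matrix.eval_charpoly] at h1
  obtain ⟨v, hv, hv'⟩ := (Matrix.exists_mulVec_eq_zero_iff).2 h1
  have h2 : AK.mulVec v = α • v := by
    rw [Matrix.sub_mulVec, sub_eq_zero] at hv'
    rw [← hv']
    ext i
    simp [Matrix.scalar_apply, Matrix.mulVec_diagonal]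
  have h3 : (aeval AK (p.map (algebraMap F K))).mulVec v = (p.map (algebraMap F K)).eval α • v := by
    have h4 : Module.End.HasEigenvector (Matrix.toLin' AK) α v := by
      rw [Module.End.hasEigenvector_iff, Module.End.mem_eigenspace_iff]
      exact ⟨by rw [Matrix.toLin'_apply, h2], hv⟩
    have h5 := Module.End.aeval_apply_of_hasEigenvector (p := p.map (algebraMap F K)) h4
    have h6 : aeval (Matrix.toLin' AK) (p.map (algebraMap F K)) = Matrix.toLin' (aeval AK (p.map (algebraMap F K))) := by
      exact (aeval_algHom_apply (Matrix.toLinAlgEquiv' : Matrix n n K ≃ₐ[K] _).toAlgHom AK (p.map (algebraMap F K)))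
    rw [h6, Matrix.toLin'_apply] at h5
    exact h5
  rw [eval_map, ← aeval_def, hα, zero_smul] at h3
  have h7 : (aeval AK (p.map (algebraMap F K))).det = 0 := (Matrix.exists_mulVec_eq_zero_iff).1 ⟨v, hv, h3⟩
  have h8 : aeval AK (p.map (algebraMap F K)) = (aeval A p).map (algebraMap F K) := by
    rw [aeval_map_algebraMap]
    exact aeval_algHom_apply ((Algebra.ofId F K).mapMatrix) A p
  rw [h8] at h7
  have h9 : ((aeval A p).map (algebraMap F K)).det = algebraMap F K (aeval A p).det :=
    (RingHom.map_det (algebraMap F K) (aeval A p)).symm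
  rw [h9] at h7
  exact (map_eq_zero (algebraMap F K)).1 h7

section modules

variable {F : Type*} [Field F]

/-- multiplication by `X` as an `F`-linear map -/
noncomputable def mulX (F : Type*) [Field F] (M : Type*) [AddCommGroup M] [Module F M] [Module F[X] M] [IsScalarTower F F[X] M] : M →ₗ[F] M where
  toFun m := (X : F[X]) • m
  map_add' a b := smul_add _ a b
  map_smul' c m := by
    rw [RingHom.id_apply, ← algebraMap_smul F[X] c m, ← algebraMap_smul F[X] c, smul_smul, smul_smul, mul_comm]

theorem mulX_apply {M : Type*} [AddCommGroup M] [Module F M] [Module F[X] M] [IsScalarTower F F[X] M] (m : M) :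
    mulX F M m = (X : F[X]) • m := rfl

theorem aeval_mulX {M : Type*} [AddCommGroup M] [Module F M] [Module F[X] M] [IsScalarTower F F[X] M] (p : F[X]) (m : M) :
    aeval (mulX F M) p m = p • m := by
  induction p using Polynomial.induction_on' with
  | add p q hp hq => rw [map_add, LinearMap.add_apply, hp, hq, add_smul]
  | monomial k a =>
    rw [aeval_monomial, Module.End.mul_apply, Module.algebraMap_end_apply, ← C_mul_X_pow_eq_monomial, mul_smul,
      ← Polynomial.algebraMap_eq, algebraMap_smul]
    congr 1
    induction k generalizing m with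
    | zero => simp
    | succ k ih => rw [pow_succ, Module.End.mul_apply, ih, mulX_apply, smul_smul, pow_succ]

theorem charpoly_congr {M M' : Type*} [AddCommGroup M] [Module F M] [Module F[X] M] [IsScalarTower F F[X] M]
    [AddCommGroup M'] [Module F M'] [Module F[X] M'] [IsScalarTower F F[X] M'] [FiniteDimensional F M] [FiniteDimensional F M']
    (e : M ≃ₗ[F[X]] M') : (mulX F M).charpoly = (mulX F M').charpoly := by
  let e' : M ≃ₗ[F] M' := e.restrictScalars F
  rw [← LinearEquiv.charpoly_conj e' (mulX F M)]
  congr 1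
  apply LinearMap.ext
  intro m
  rw [LinearEquiv.conj_apply_apply, mulX_apply, mulX_apply]
  show e (X • e.symm m) = X • m
  rw [map_smul, LinearEquiv.apply_symm_apply]

theorem charpoly_prod {M M' : Type*} [AddCommGroup M] [Module F M] [Module F[X] M] [IsScalarTower F F[X] M]
    [AddCommGroup M'] [Module F M'] [Module F[X] M'] [IsScalarTower F F[X] M'] [FiniteDimensional F M] [FiniteDimensional F M'] :
    (mulX F (M × M')).charpoly = (mulX F M).charpoly * (mulX F M').charpoly := by
  rw [← LinearMap.charpoly_prodMap]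
  congr 1

/-- an irreducible factor of the characteristic polynomial kills a nonzero vector -/
theorem exists_smul_eq_zero {M : Type*} [AddCommGroup M] [Module F M] [Module F[X] M] [IsScalarTower F F[X] M]
    [FiniteDimensional F M] (p : F[X]) (hp : Irreducible p) (h : p ∣ (mulX F M).charpoly) :
    ∃ w : M, w ≠ 0 ∧ p • w = 0 := by
  classical
  let b := Module.finBasis F M
  let A := LinearMap.toMatrix b b (mulX F M)
  have h1 : p ∣ A.charpoly := by rw [LinearMap.charpoly_toMatrix]; exact h
  have h2 := det_aeval_eq_zero A p hp h1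
  have h3 : aeval A p = LinearMap.toMatrix b b (aeval (mulX F M) p) := by
    exact aeval_algHom_apply (LinearMap.toMatrixAlgEquiv b).toAlgHom (mulX F M) p
  rw [h3, LinearMap.det_toMatrix] at h2
  by_contra hcon
  push Not at hcon
  have h4 : Function.Injective (aeval (mulX F M) p) := by
    rw [injective_iff_map_eq_zero]
    intro w hw
    by_contra hw0
    rw [aeval_mulX] at hw
    exact hcon w hw0 hw
  have h5 : IsUnit (LinearMap.det (aeval (mulX F M) p)) := by
    have h6 : Function.Bijective (aeval (mulX F M) p) := ⟨h4, LinearMap.injective_iff_surjective.1 h4⟩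
    exact LinearEquiv.isUnit_det' (LinearEquiv.ofBijective (aeval (mulX F M) p) h6)
  rw [h2] at h5
  exact not_isUnit_zero h5

theorem charpoly_quot (p : F[X]) (hm : p.Monic) [FiniteDimensional F (F[X] ⧸ Ideal.span {p})] :
    (mulX F (F[X] ⧸ Ideal.span {p})).charpoly = p := by
  have hp0 : p ≠ 0 := hm.ne_zero
  let h : PowerBasis F (AdjoinRoot p) := AdjoinRoot.powerBasis hp0
  have h1 : (Algebra.leftMulMatrix h.basis h.gen).charpoly = minpoly F h.gen := charpoly_leftMulMatrix h
  have h2 : minpoly F h.gen = p := AdjoinRoot.minpoly_powerBasis_gen_of_monic hm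
  have h3 : (LinearMap.toMatrix h.basis h.basis (mulX F (F[X] ⧸ Ideal.span {p}))).charpoly =
      (Algebra.leftMulMatrix h.basis h.gen).charpoly := by
    congr 1
  exact (LinearMap.charpoly_toMatrix (mulX F (F[X] ⧸ Ideal.span {p})) h.basis).symm.trans (h3.trans (h1.trans h2))

theorem finite_quot (p : F[X]) (hp0 : p ≠ 0) : FiniteDimensional F (F[X] ⧸ Ideal.span {p}) := by
  exact Module.Finite.of_basis (AdjoinRoot.powerBasis hp0).basis

/-- split off a simple factor -/
theorem exists_split {M : Type*} [AddCommGroup M] [Module F M] [Module F[X] M] [IsScalarTower F F[X] M]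
    [FiniteDimensional F M] [IsSemisimpleModule F[X] M] (p : F[X]) (hp : Irreducible p) (h : p ∣ (mulX F M).charpoly) :
    ∃ C : Submodule F[X] M, Nonempty (M ≃ₗ[F[X]] (F[X] ⧸ Ideal.span {p}) × C) := by
  obtain ⟨w, hw0, hw⟩ := exists_smul_eq_zero p hp h
  have htor : Ideal.torsionOf F[X] M w = Ideal.span {p} := by
    have hmax : (Ideal.span {p}).IsMaximal := PrincipalIdealRing.isMaximal_of_irreducible hp
    symm
    apply hmax.eq_of_le
    · intro htop
      have : (1 : F[X]) ∈ Ideal.torsionOf F[X] M w := by rw [htop]; trivial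
      rw [Ideal.mem_torsionOf_iff, one_smul] at this
      exact hw0 this
    · rw [Ideal.span_singleton_le_iff_mem, Ideal.mem_torsionOf_iff]
      exact hw
  obtain ⟨C, hC⟩ := exists_isCompl (Submodule.span F[X] {w})
  refine ⟨C, ⟨?_⟩⟩
  have e1 : (F[X] ⧸ Ideal.torsionOf F[X] M w) ≃ₗ[F[X]] Submodule.span F[X] {w} := Ideal.quotTorsionOfEquivSpanSingleton F[X] M w
  rw [htor] at e1
  exact ((Submodule.prodEquivOfIsCompl _ _ hC).symm).trans (LinearEquiv.prodCongr e1.symm (LinearEquiv.refl _ _))

theorem nonempty_equiv_aux (n : ℕ) : ∀ (M M' : Type*) [AddCommGroup M] [Module F M] [Module F[X] M] [IsScalarTower F F[X] M]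
    [AddCommGroup M'] [Module F M'] [Module F[X] M'] [IsScalarTower F F[X] M'] [FiniteDimensional F M] [FiniteDimensional F M']
    [IsSemisimpleModule F[X] M] [IsSemisimpleModule F[X] M'], finrank F M = n → (mulX F M).charpoly = (mulX F M').charpoly →
    Nonempty (M ≃ₗ[F[X]] M') := by
  classical
  induction n using Nat.strong_induction_on with
  | _ n ih =>
    intro M M' _ _ _ _ _ _ _ _ _ _ _ _ hn hχ
    have hfr : finrank F M' = n := by
      rw [← hn, ← LinearMap.charpoly_natDegree (mulX F M), ← LinearMap.charpoly_natDegree (mulX F M'), hχ]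
    rcases Nat.eq_zero_or_pos n with h0 | hpos
    · have h1 : Subsingleton M := finrank_zero_iff.1 (hn.trans h0)
      have h2 : Subsingleton M' := finrank_zero_iff.1 (hfr.trans h0)
      exact ⟨{ toFun := fun _ => 0, map_add' := fun _ _ => by simp, map_smul' := fun _ _ => by simp, invFun := fun _ => 0, left_inv := fun _ => Subsingleton.elim _ _, right_inv := fun _ => Subsingleton.elim _ _ }⟩
    · have hdeg : (mulX F M).charpoly.natDegree = n := by rw [LinearMap.charpoly_natDegree, hn]
      have hnu : ¬ IsUnit (mulX F M).charpoly := by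
        intro hu
        have := natDegree_eq_zero_of_isUnit hu
        omega
      have hne : (mulX F M).charpoly ≠ 0 := (LinearMap.charpoly_monic _).ne_zero
      obtain ⟨p0, hp0, hdvd0⟩ := WfDvdMonoid.exists_irreducible_factor hnu hne
      let p := normalize p0
      have hp : Irreducible p := (associated_normalize p0).irreducible hp0
      have hpm : p.Monic := monic_normalize hp0.ne_zero
      have hdvd : p ∣ (mulX F M).charpoly := (normalize_dvd_iff).2 hdvd0
      obtain ⟨C, ⟨e⟩⟩ := exists_split (M := M) p hp hdvd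
      obtain ⟨C', ⟨e'⟩⟩ := exists_split (M := M') p hp (by rw [← hχ]; exact hdvd)
      have : FiniteDimensional F (F[X] ⧸ Ideal.span {p}) := finite_quot p hpm.ne_zero
      have hC : FiniteDimensional F C := FiniteDimensional.of_injective (C.subtype.restrictScalars F) C.injective_subtype
      have hC' : FiniteDimensional F C' := FiniteDimensional.of_injective (C'.subtype.restrictScalars F) C'.injective_subtype
      have e1 := charpoly_congr e
      have e2 := charpoly_congr e'
      rw [charpoly_prod, charpoly_quot p hpm] at e1 e2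
      have e3 : (mulX F C).charpoly = (mulX F C').charpoly := by
        apply mul_left_cancel₀ hpm.ne_zero
        rw [← e1, ← e2, hχ]
      have hfC : finrank F C < n := by
        have h3 : n = p.natDegree + finrank F C := by
          rw [← hdeg, e1, hpm.natDegree_mul (LinearMap.charpoly_monic _), LinearMap.charpoly_natDegree]
        have h4 : 0 < p.natDegree := hp.natDegree_pos
        omega
      obtain ⟨f⟩ := ih (finrank F C) hfC C C' rfl e3
      exact ⟨e.trans ((LinearEquiv.prodCongr (LinearEquiv.refl _ _) f).trans e'.symm)⟩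

/-- semisimple modules over `F[X]` with the same characteristic polynomial are isomorphic -/
theorem nonempty_equiv (M M' : Type*) [AddCommGroup M] [Module F M] [Module F[X] M] [IsScalarTower F F[X] M]
    [AddCommGroup M'] [Module F M'] [Module F[X] M'] [IsScalarTower F F[X] M'] [FiniteDimensional F M] [FiniteDimensional F M']
    [IsSemisimpleModule F[X] M] [IsSemisimpleModule F[X] M'] (h : (mulX F M).charpoly = (mulX F M').charpoly) :
    Nonempty (M ≃ₗ[F[X]] M') := nonempty_equiv_aux _ M M' rfl h

/-- over a finite field, the commutant of a semisimple endomorphism contains elements of every nonzero determinant -/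
theorem exists_det {M : Type*} [AddCommGroup M] [Module F M] [Module F[X] M] [IsScalarTower F F[X] M] [Finite F]
    [FiniteDimensional F M] [IsSemisimpleModule F[X] M] [Nontrivial M] (δ : F) :
    ∃ D : M →ₗ[F[X]] M, LinearMap.det (D.restrictScalars F) = δ := by
  have hnu : ¬ IsUnit (mulX F M).charpoly := by
    intro hu
    have := natDegree_eq_zero_of_isUnit hu
    rw [LinearMap.charpoly_natDegree] at this
    have h2 : 0 < finrank F M := finrank_pos
    omega
  have hne : (mulX F M).charpoly ≠ 0 := (LinearMap.charpoly_monic _).ne_zero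
  obtain ⟨p, hp, hdvd⟩ := WfDvdMonoid.exists_irreducible_factor hnu hne
  obtain ⟨C, ⟨e⟩⟩ := exists_split (M := M) p hp hdvd
  have : FiniteDimensional F (F[X] ⧸ Ideal.span {p}) := finite_quot p hp.ne_zero
  have hC : FiniteDimensional F C := FiniteDimensional.of_injective (C.subtype.restrictScalars F) C.injective_subtype
  have : Fact (Irreducible p) := ⟨hp⟩
  have hfinK : FiniteDimensional F (AdjoinRoot p) := finite_quot p hp.ne_zero
  have hfin : Finite (AdjoinRoot p) := Module.finite_of_finite F
  obtain ⟨x, hx⟩ := FiniteField.norm_surjective F (AdjoinRoot p) δ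
  obtain ⟨g, rfl⟩ := AdjoinRoot.mk_surjective x
  let D0 : ((F[X] ⧸ Ideal.span {p}) × C) →ₗ[F[X]] ((F[X] ⧸ Ideal.span {p}) × C) :=
    LinearMap.prodMap (LinearMap.lsmul F[X] (F[X] ⧸ Ideal.span {p}) g) LinearMap.id
  refine ⟨(e.symm.toLinearMap ∘ₗ D0) ∘ₗ e.toLinearMap, ?_⟩
  have h1 : ((e.symm.toLinearMap ∘ₗ D0) ∘ₗ e.toLinearMap).restrictScalars F =
      (e.restrictScalars F).symm.toLinearMap ∘ₗ ((D0.restrictScalars F) ∘ₗ (e.restrictScalars F).toLinearMap) := rfl
  rw [h1]
  have h2 := LinearMap.det_conj (D0.restrictScalars F) (e.restrictScalars F).symm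
  rw [LinearEquiv.symm_symm] at h2
  rw [h2]
  have h3 : D0.restrictScalars F = LinearMap.prodMap ((LinearMap.lsmul F[X] (F[X] ⧸ Ideal.span {p}) g).restrictScalars F) LinearMap.id := rfl
  rw [h3, LinearMap.det_prodMap, LinearMap.det_id, mul_one, ← hx, Algebra.norm_apply]
  congr 1

end modules

section matrices

variable {F : Type*} [Field F] {n : Type*} [Fintype n] [DecidableEq n]

theorem charpoly_AEval (A : Matrix n n F) : (mulX F (Module.AEval' (Matrix.toLin' A))).charpoly = A.charpoly := by
  rw [← Matrix.charpoly_toLin', ← LinearEquiv.charpoly_conj (Module.AEval'.of (Matrix.toLin' A)) (Matrix.toLin' A)]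
  congr 1
  apply LinearMap.ext
  intro m
  rw [LinearEquiv.conj_apply_apply, mulX_apply]
  conv_lhs => rw [← LinearEquiv.apply_symm_apply (Module.AEval'.of (Matrix.toLin' A)) m]
  rw [Module.AEval'.X_smul_of]

/-- semisimple matrices with the same characteristic polynomial are similar -/
theorem matrix_conj (A B : Matrix n n F) (hA : Module.End.IsSemisimple (Matrix.toLin' A)) (hB : Module.End.IsSemisimple (Matrix.toLin' B))
    (h : A.charpoly = B.charpoly) : ∃ P : (Matrix n n F)ˣ, (P : Matrix n n F) * A = B * P := by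
  have : IsSemisimpleModule F[X] (Module.AEval' (Matrix.toLin' A)) := hA
  have : IsSemisimpleModule F[X] (Module.AEval' (Matrix.toLin' B)) := hB
  obtain ⟨e⟩ := nonempty_equiv (F := F) (Module.AEval' (Matrix.toLin' A)) (Module.AEval' (Matrix.toLin' B))
    (by rw [charpoly_AEval, charpoly_AEval, h])
  let f : (n → F) ≃ₗ[F] (n → F) := (Module.AEval'.of (Matrix.toLin' A)).trans ((e.restrictScalars F).trans (Module.AEval'.of (Matrix.toLin' B)).symm)
  have hf : ∀ v, f (A.mulVec v) = B.mulVec (f v) := by
    intro v
    have h1 : Module.AEval'.of (Matrix.toLin' A) (A.mulVec v) = (X : F[X]) • Module.AEval'.of (Matrix.toLin' A) v := by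
      rw [Module.AEval'.X_smul_of, Matrix.toLin'_apply]
    show (Module.AEval'.of (Matrix.toLin' B)).symm (e (Module.AEval'.of (Matrix.toLin' A) (A.mulVec v))) = _
    rw [h1, map_smul, Module.AEval'.of_symm_X_smul]
    rfl
  let P : Matrix n n F := LinearMap.toMatrix' (f : (n → F) →ₗ[F] (n → F))
  let Q : Matrix n n F := LinearMap.toMatrix' (f.symm : (n → F) →ₗ[F] (n → F))
  have hPQ : P * Q = 1 := by rw [← LinearMap.toMatrix'_comp]; simp
  have hQP : Q * P = 1 := by rw [← LinearMap.toMatrix'_comp]; simp
  refine ⟨⟨P, Q, hPQ, hQP⟩, ?_⟩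
  show P * A = B * P
  have h1 : LinearMap.toMatrix' (Matrix.toLin' A) = A := LinearMap.toMatrix'_toLin' _
  have h2 : LinearMap.toMatrix' (Matrix.toLin' B) = B := LinearMap.toMatrix'_toLin' _
  conv_lhs => rw [← h1]
  conv_rhs => rw [← h2]
  rw [← LinearMap.toMatrix'_comp, ← LinearMap.toMatrix'_comp]
  congr 1
  apply LinearMap.ext
  intro v
  exact hf v

/-- the commutant of a semisimple matrix over a finite field has elements of every determinant -/
theorem matrix_commuting_det [Finite F] [Nonempty n] (A : Matrix n n F) (hA : Module.End.IsSemisimple (Matrix.toLin' A)) (δ : F) :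
    ∃ D : Matrix n n F, D * A = A * D ∧ D.det = δ := by
  have : IsSemisimpleModule F[X] (Module.AEval' (Matrix.toLin' A)) := hA
  have : Nontrivial (Module.AEval' (Matrix.toLin' A)) := (Module.AEval'.of (Matrix.toLin' A)).symm.toEquiv.nontrivial
  obtain ⟨D, hD⟩ := exists_det (F := F) (M := Module.AEval' (Matrix.toLin' A)) δ
  let f : (n → F) →ₗ[F] (n → F) := ((Module.AEval'.of (Matrix.toLin' A)).symm.toLinearMap ∘ₗ ((D.restrictScalars F) ∘ₗ (Module.AEval'.of (Matrix.toLin' A)).toLinearMap))
  have hf : ∀ v, f (A.mulVec v) = A.mulVec (f v) := by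
    intro v
    have h1 : Module.AEval'.of (Matrix.toLin' A) (A.mulVec v) = (X : F[X]) • Module.AEval'.of (Matrix.toLin' A) v := by
      rw [Module.AEval'.X_smul_of, Matrix.toLin'_apply]
    show (Module.AEval'.of (Matrix.toLin' A)).symm (D (Module.AEval'.of (Matrix.toLin' A) (A.mulVec v))) = _
    rw [h1, map_smul, Module.AEval'.of_symm_X_smul]
    rfl
  refine ⟨LinearMap.toMatrix' f, ?_, ?_⟩
  · have h1 : LinearMap.toMatrix' (Matrix.toLin' A) = A := LinearMap.toMatrix'_toLin' _
    conv_lhs => rw [← h1]
    conv_rhs => rw [← h1]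
    rw [← LinearMap.toMatrix'_comp, ← LinearMap.toMatrix'_comp]
    congr 1
    apply LinearMap.ext
    intro v
    exact hf v
  · rw [LinearMap.det_toMatrix', ← hD]
    have h2 := LinearMap.det_conj (D.restrictScalars F) (Module.AEval'.of (Matrix.toLin' A)).symm
    rw [LinearEquiv.symm_symm] at h2
    exact h2

theorem isSemisimple_of_pow_eq_one (A : Matrix n n F) {m : ℕ} (hm : (m : F) ≠ 0) (h : A ^ m = 1) :
    Module.End.IsSemisimple (Matrix.toLin' A) := by
  have hsep : (X ^ m - 1 : F[X]).Separable := by
    have := Polynomial.separable_X_pow_sub_C (1 : F) hm one_ne_zero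
    simpa using this
  apply Module.End.isSemisimple_of_squarefree_aeval_eq_zero hsep.squarefree
  rw [map_sub, map_pow, aeval_X, map_one, ← Matrix.toLin'_pow, h, Matrix.toLin'_one]
  exact sub_self _

/-- elements of order prime to the characteristic are semisimple -/
theorem isSemisimple_of_coprime [Finite F] {p : ℕ} [Fact p.Prime] [CharP F p] (g : (Matrix n n F)ˣ)
    (h : (orderOf g).Coprime p) : Module.End.IsSemisimple (Matrix.toLin' (g : Matrix n n F)) := by
  apply isSemisimple_of_pow_eq_one (m := orderOf g)
  · rw [Ne, CharP.cast_eq_zero_iff F p]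
    intro hd
    have := Nat.Coprime.eq_one_of_dvd h.symm hd
    exact (Fact.out : p.Prime).one_lt.ne' this
  · rw [← Units.val_pow_eq_pow_val, pow_orderOf_eq_one, Units.val_one]

end matrices

end CfsgLib.Semis
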