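import Cfsg.Agent.Lib.GLOrd
import Cfsg.Agent.Lib.Semis

/-!
# Orders of elements of `PSL_n(F)` over a finite field.
-/

set_option autoImplicit false

namespace CfsgLib.PSLOrd

open Matrix Polynomial

variable {F : Type*} [Field F] {n : ℕ}

theorem mem_range_of_pow_card [Fintype F] {K : Type*} [Field K] [Algebra F K] {x : K} (hx : x ^ Fintype.card F = x) :
    ∃ c : F, algebraMap F K c = x := by
  classical
  by_contra hcon
  push Not at hcon
  have hq : 1 < Fintype.card F := Fintype.one_lt_card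
  have hP : (X ^ Fintype.card F - X : K[X]) ≠ 0 := FiniteField.X_pow_card_sub_X_ne_zero K hq
  have h1 : insert x (Finset.univ.image (algebraMap F K)) ⊆ (X ^ Fintype.card F - X : K[X]).roots.toFinset := by
    intro y hy
    rw [Multiset.mem_toFinset, mem_roots hP, IsRoot, eval_sub, eval_pow, eval_X, sub_eq_zero]
    rcases Finset.mem_insert.1 hy with rfl | hy
    · exact hx
    · obtain ⟨c, _, rfl⟩ := Finset.mem_image.1 hy
      rw [← map_pow, FiniteField.pow_card]
  have h2 : (insert x (Finset.univ.image (algebraMap F K))).card = Fintype.card F + 1 := by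
    rw [Finset.card_insert_of_notMem, Finset.card_image_of_injective _ (algebraMap F K).injective, Finset.card_univ]
    intro h
    obtain ⟨c, _, hc⟩ := Finset.mem_image.1 h
    exact hcon c hc
  have h3 := Finset.card_le_card h1
  have h4 := Multiset.toFinset_card_le (X ^ Fintype.card F - X : K[X]).roots
  have h5 := card_roots' (X ^ Fintype.card F - X : K[X])
  rw [FiniteField.X_pow_card_sub_X_natDegree_eq K hq] at h5
  omega

theorem mk_eq_one_iff (s : Matrix.SpecialLinearGroup (Fin n) F) :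
    (QuotientGroup.mk s : Matrix.ProjectiveSpecialLinearGroup (Fin n) F) = 1 ↔ ∃ c : F, s.1 = c • (1 : Matrix (Fin n) (Fin n) F) := by
  rw [QuotientGroup.eq_one_iff, Matrix.SpecialLinearGroup.mem_center_iff]
  constructor
  · rintro ⟨c, _, hc⟩
    exact ⟨c, by rw [← hc, scalar_apply, smul_one_eq_diagonal]⟩
  · rintro ⟨c, hc⟩
    refine ⟨c, ?_, by rw [hc, scalar_apply, smul_one_eq_diagonal]⟩
    have h := s.2
    rw [hc, det_smul, det_one, mul_one] at h
    exact h

theorem mk_pow_eq_one_iff (s : Matrix.SpecialLinearGroup (Fin n) F) (k : ℕ) :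
    (QuotientGroup.mk s : Matrix.ProjectiveSpecialLinearGroup (Fin n) F) ^ k = 1 ↔ ∃ c : F, s.1 ^ k = c • (1 : Matrix (Fin n) (Fin n) F) := by
  rw [← QuotientGroup.mk_pow, mk_eq_one_iff]
  rw [Matrix.SpecialLinearGroup.coe_pow]

/-- elements commuting with an idempotent -/
noncomputable def Psi (e : Matrix (Fin n) (Fin n) F) (he : e * e = e) : F × F →* Matrix (Fin n) (Fin n) F where
  toFun x := x.1 • e + x.2 • (1 - e)
  map_one' := by simp
  map_mul' x y := by
    have h1 : e * (1 - e) = 0 := by rw [mul_sub, mul_one, he, sub_self]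
    have h2 : (1 - e) * e = 0 := by rw [sub_mul, one_mul, he, sub_self]
    have h3 : (1 - e) * (1 - e) = 1 - e := by rw [mul_sub, mul_one, h2, sub_zero]
    simp only [Prod.fst_mul, Prod.snd_mul, add_mul, mul_add, smul_mul_assoc, mul_smul_comm, h1, h2, h3, he, smul_zero, add_zero, zero_add,
      smul_smul]
    rw [mul_comm y.2 x.2, mul_comm x.1 y.1]

theorem exists_h [Fintype F] (e : Matrix (Fin n) (Fin n) F) (he : e * e = e) {r : ℕ} (hr : r.Prime)
    (hrq : r ∣ Fintype.card F - 1) (hrn : ¬ r ∣ n) :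
    ∃ (h : Matrix.SpecialLinearGroup (Fin n) F) (l m : F), h.1 = l • e + m • (1 - e) ∧ l ^ r = 1 ∧ m ^ r = 1 ∧ l ≠ m := by
  let K : Subgroup Fˣ := (powMonoidHom r : Fˣ →* Fˣ).ker
  have hK : Nat.card K = r := by
    show Nat.card (powMonoidHom r : Fˣ →* Fˣ).ker = r
    rw [IsCyclic.card_powMonoidHom_ker, Nat.card_units, Nat.card_eq_fintype_card]
    exact Nat.gcd_eq_right hrq
  let Φ : K × K →* Fˣ := ((Units.map (detMonoidHom.comp (Psi e he))).comp (MulEquiv.prodUnits.symm.toMonoidHom)).comp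
    (K.subtype.prodMap K.subtype)
  have hΦ : ∀ x : K × K, (Φ x : F) = (((x.1 : Fˣ) : F) • e + ((x.2 : Fˣ) : F) • (1 - e)).det := fun x => rfl
  have hrange : Φ.range ≤ K := by
    rintro _ ⟨x, rfl⟩
    show (Φ x) ^ r = 1
    rw [← map_pow]
    have : x ^ r = 1 := by
      apply Prod.ext
      · exact Subtype.ext x.1.2
      · exact Subtype.ext x.2.2
    rw [this, map_one]
  have hker : Φ.ker ≠ ⊥ := by
    intro h
    have h1 := Subgroup.card_mul_index Φ.ker
    rw [Subgroup.index_ker, h, Subgroup.card_bot, one_mul, Nat.card_prod, hK] at h1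
    have h2 := Subgroup.card_le_of_le hrange
    rw [h1, hK] at h2
    have h3 := hr.two_le
    nlinarith
  obtain ⟨⟨x, hx⟩, hx1⟩ := Subgroup.ne_bot_iff_exists_ne_one.1 hker
  have hdet : (((x.1 : Fˣ) : F) • e + ((x.2 : Fˣ) : F) • (1 - e)).det = 1 := by
    rw [← hΦ, MonoidHom.mem_ker.1 hx]; rfl
  refine ⟨⟨_, hdet⟩, _, _, rfl, ?_, ?_, ?_⟩
  · have := congrArg Units.val (show ((x.1 : Fˣ)) ^ r = 1 from x.1.2)
    simpa using this
  · have := congrArg Units.val (show ((x.2 : Fˣ)) ^ r = 1 from x.2.2)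
    simpa using this
  · intro h
    rw [h, ← smul_add, add_sub_cancel, det_smul, det_one, mul_one, Fintype.card_fin] at hdet
    have h1 : (x.2 : Fˣ) ^ n = 1 := Units.ext (by rw [Units.val_pow_eq_pow_val]; exact hdet)
    have h2 : (x.2 : Fˣ) ^ r = 1 := x.2.2
    have h3 : orderOf (x.2 : Fˣ) ∣ 1 := by
      have h4 : Nat.gcd n r = 1 := by
        rw [Nat.gcd_comm]; exact (Nat.Prime.coprime_iff_not_dvd hr).2 hrn
      rw [← h4]
      exact Nat.dvd_gcd (orderOf_dvd_of_pow_eq_one h1) (orderOf_dvd_of_pow_eq_one h2)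
    have h4 : (x.2 : Fˣ) = 1 := orderOf_eq_one_iff.1 (Nat.dvd_one.1 h3)
    have h5 : (x.1 : Fˣ) = 1 := Units.ext (by rw [h, h4])
    exact hx1 (Subtype.ext (Prod.ext (Subtype.ext h5) (Subtype.ext h4)))

/-- a decomposable element may be multiplied by an element of order `r` -/
theorem exists_mul [Fintype F] (g : Matrix.SpecialLinearGroup (Fin n) F) (e : Matrix (Fin n) (Fin n) F) (he : e * e = e) (he0 : e ≠ 0)
    (he1 : e ≠ 1) (hge : g.1 * e = e * g.1) {r : ℕ} (hr : r.Prime)
    (hrq : r ∣ Fintype.card F - 1) (hrn : ¬ r ∣ n)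
    (hrg : ¬ r ∣ orderOf (QuotientGroup.mk g : Matrix.ProjectiveSpecialLinearGroup (Fin n) F)) :
    ∃ y : Matrix.ProjectiveSpecialLinearGroup (Fin n) F, orderOf y = r * orderOf (QuotientGroup.mk g : Matrix.ProjectiveSpecialLinearGroup (Fin n) F) := by
  obtain ⟨h, l, m, hh, hl, hm, hlm⟩ := exists_h e he hr hrq hrn
  have h1 : e * (1 - e) = 0 := by rw [mul_sub, mul_one, he, sub_self]
  have h2 : (1 - e) * e = 0 := by rw [sub_mul, one_mul, he, sub_self]
  have h3 : (1 - e) * (1 - e) = 1 - e := by rw [mul_sub, mul_one, h2, sub_zero]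
  have hord : orderOf (QuotientGroup.mk h : Matrix.ProjectiveSpecialLinearGroup (Fin n) F) = r := by
    have : Fact r.Prime := ⟨hr⟩
    apply orderOf_eq_prime
    · rw [mk_pow_eq_one_iff]
      refine ⟨1, ?_⟩
      have h4 : h.1 = Psi e he (l, m) := hh
      rw [h4, ← map_pow]
      have : ((l, m) : F × F) ^ r = 1 := Prod.ext hl hm
      rw [this, map_one, one_smul]
    · intro h4
      obtain ⟨c, hc⟩ := (mk_eq_one_iff h).1 h4
      rw [hh] at hc
      have h5 := congrArg (fun M => M * e) hc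
      have h6 := congrArg (fun M => M * (1 - e)) hc
      simp only [add_mul, smul_mul_assoc, h1, h2, h3, he, smul_zero, add_zero, zero_add, one_mul] at h5 h6
      have h7 : l = c := by
        by_contra hne
        apply he0
        have : (l - c) • e = 0 := by rw [sub_smul, h5, sub_self]
        exact (smul_eq_zero.1 this).resolve_left (sub_ne_zero.2 hne)
      have h8 : m = c := by
        by_contra hne
        apply he1
        have : (m - c) • (1 - e) = 0 := by rw [sub_smul, h6, sub_self]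
        exact (sub_eq_zero.1 ((smul_eq_zero.1 this).resolve_left (sub_ne_zero.2 hne))).symm
      exact hlm (h7.trans h8.symm)
  refine ⟨QuotientGroup.mk h * QuotientGroup.mk g, ?_⟩
  rw [Commute.orderOf_mul_eq_mul_orderOf_of_coprime, hord]
  · show QuotientGroup.mk (h * g) = QuotientGroup.mk (g * h)
    congr 1
    apply Subtype.ext
    rw [Matrix.SpecialLinearGroup.coe_mul, Matrix.SpecialLinearGroup.coe_mul, hh]
    simp only [add_mul, mul_add, smul_mul_assoc, mul_smul_comm, sub_mul, mul_sub, one_mul, mul_one, hge]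
  · rw [hord]
    exact (Nat.Prime.coprime_iff_not_dvd hr).2 hrg

theorem geom_mul (q d k : ℕ) (hq : 2 ≤ q) :
    ∑ i ∈ Finset.range (d * k), q ^ i = (∑ i ∈ Finset.range d, q ^ i) * ∑ j ∈ Finset.range k, (q ^ d) ^ j := by
  have h1 : (∑ i ∈ Finset.range (d * k), (q : ℤ) ^ i) * (q - 1) = (q : ℤ) ^ (d * k) - 1 := geom_sum_mul _ _
  have h2 : (∑ i ∈ Finset.range d, (q : ℤ) ^ i) * (q - 1) = (q : ℤ) ^ d - 1 := geom_sum_mul _ _
  have h3 : (∑ j ∈ Finset.range k, ((q : ℤ) ^ d) ^ j) * ((q : ℤ) ^ d - 1) = ((q : ℤ) ^ d) ^ k - 1 := geom_sum_mul _ _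
  have h4 : ((q : ℤ) - 1) ≠ 0 := by
    have : (2 : ℤ) ≤ q := by exact_mod_cast hq
    omega
  have h5 : (∑ i ∈ Finset.range (d * k), (q : ℤ) ^ i) = (∑ i ∈ Finset.range d, (q : ℤ) ^ i) * ∑ j ∈ Finset.range k, ((q : ℤ) ^ d) ^ j := by
    apply mul_right_cancel₀ h4
    rw [h1, pow_mul, ← h3, ← h2]
    ring
  exact_mod_cast h5

/-- order of the Singer cycle of `PSL_n(q)` -/
def M (n q : ℕ) : ℕ := (∑ i ∈ Finset.range n, q ^ i) / Nat.gcd n (q - 1)

theorem sum_mod (n q : ℕ) (hq : 1 ≤ q) : (∑ i ∈ Finset.range n, q ^ i) ≡ n [MOD (q - 1)] := by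
  have h1 : q ≡ 1 [MOD (q - 1)] := by
    have : q = 1 + (q - 1) := by omega
    conv_lhs => rw [this]
    exact Nat.ModEq.symm (by simp [Nat.ModEq])
  induction n with
  | zero => rfl
  | succ n ih =>
    rw [Finset.sum_range_succ]
    have := h1.pow n
    rw [one_pow] at this
    exact ih.add this

theorem gcd_eq (n q : ℕ) (hq : 1 ≤ q) : Nat.gcd (∑ i ∈ Finset.range n, q ^ i) (q - 1) = Nat.gcd n (q - 1) :=
  (sum_mod n q hq).gcd_eq

theorem M_mul (n q : ℕ) (hq : 1 ≤ q) : M n q * Nat.gcd n (q - 1) = ∑ i ∈ Finset.range n, q ^ i := by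
  unfold M
  rw [← gcd_eq n q hq]
  exact Nat.div_mul_cancel (Nat.gcd_dvd_left _ _)

/-- dichotomy -/
theorem dichotomy [Fintype F] (p : ℕ) [Fact p.Prime] [CharP F p] (hn : 2 ≤ n) (g : Matrix.SpecialLinearGroup (Fin n) F) :
    (∃ e : Matrix (Fin n) (Fin n) F, e * e = e ∧ e ≠ 0 ∧ e ≠ 1 ∧ g.1 * e = e * g.1) ∨
      ∃ c : F, g.1 ^ (Fintype.card F ^ n * M n (Fintype.card F)) = c • (1 : Matrix (Fin n) (Fin n) F) := by
  classical
  set χ := g.1.charpoly with hχ
  have hmon : χ.Monic := Matrix.charpoly_monic g.1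
  have hdeg : χ.natDegree = n := by rw [hχ, Matrix.charpoly_natDegree_eq_dim, Fintype.card_fin]
  have hχ0 : χ ≠ 0 := hmon.ne_zero
  obtain ⟨f, hfm, hfi, hfd⟩ := Polynomial.exists_monic_irreducible_factor χ (by
    intro h
    have := natDegree_eq_zero_of_isUnit h
    omega)
  obtain ⟨k, B, hB, hfB⟩ := WfDvdMonoid.max_power_factor hχ0 hfi
  have hdetf : ∀ A : F[X], f ∣ A → ¬ IsUnit (aeval g.1 A) := by
    rintro A ⟨A', rfl⟩ hA
    rw [map_mul] at hA
    have h1 := (Matrix.isUnit_iff_isUnit_det _).1 hA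
    rw [det_mul, CfsgLib.Semis.det_aeval_eq_zero g.1 f hfi hfd, zero_mul] at h1
    exact not_isUnit_zero h1
  have hk : 1 ≤ k := by
    by_contra h0
    have : k = 0 := by omega
    subst this
    rw [pow_zero, one_mul] at hfB
    exact hB (hfB ▸ hfd)
  by_cases hBu : IsUnit B
  swap
  · left
    obtain ⟨f', hfm', hfi', hfd'⟩ := Polynomial.exists_monic_irreducible_factor B hBu
    have hcop : IsCoprime (f ^ k) B := (hfi.coprime_iff_not_dvd.2 hB).pow_left
    obtain ⟨u, v, huv⟩ := hcop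
    have hsum : aeval g.1 (u * f ^ k) + aeval g.1 (v * B) = 1 := by rw [← map_add, huv, map_one]
    have hprod : aeval g.1 (v * B) * aeval g.1 (u * f ^ k) = 0 := by
      rw [← map_mul]
      have : v * B * (u * f ^ k) = (u * v) * χ := by rw [hfB]; ring
      rw [this, map_mul, hχ, Matrix.aeval_self_charpoly, mul_zero]
    refine ⟨aeval g.1 (v * B), ?_, ?_, ?_, ?_⟩
    · have h1 : aeval g.1 (v * B) * (aeval g.1 (u * f ^ k) + aeval g.1 (v * B)) = aeval g.1 (v * B) := by rw [hsum, mul_one]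
      rw [mul_add, hprod, zero_add] at h1
      exact h1
    · intro h0
      rw [h0, add_zero] at hsum
      exact hdetf (u * f ^ k) (dvd_mul_of_dvd_right (dvd_pow_self f (by omega)) _) (by rw [hsum]; exact isUnit_one)
    · intro h1
      have h2 : aeval g.1 (v * B) = aeval g.1 v * aeval g.1 B := map_mul _ _ _
      have h3 : IsUnit (aeval g.1 v * aeval g.1 B) := by rw [← h2, h1]; exact isUnit_one
      have h4 := (Matrix.isUnit_iff_isUnit_det _).1 h3
      obtain ⟨B', hB'⟩ := hfd'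
      rw [hB', map_mul, det_mul, det_mul, CfsgLib.Semis.det_aeval_eq_zero g.1 f' hfi' (by
        rw [← hχ, hfB, hB']; exact ⟨f ^ k * B', by ring⟩), zero_mul, mul_zero] at h4
      exact not_isUnit_zero h4
    · have h1 : g.1 = aeval g.1 (X : F[X]) := (aeval_X _).symm
      conv_lhs => rw [h1]
      conv_rhs => rw [h1]
      rw [aeval_X]
      conv_lhs => enter [1]; rw [h1]
      conv_rhs => enter [2]; rw [h1]
      rw [← map_mul, ← map_mul, mul_comm]
  · right
    have hχk : χ = f ^ k := by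
      have h1 : (f ^ k).Monic := hfm.pow k
      have h2 : B.Monic := by
        apply Monic.of_mul_monic_left h1
        rw [← hfB]; exact hmon
      rw [hfB, h2.eq_one_of_isUnit hBu, mul_one]
    have hdk : f.natDegree * k = n := by rw [← hdeg, hχk, natDegree_pow, mul_comm]
    have hd1 : 1 ≤ f.natDegree := hfi.natDegree_pos
    set q := Fintype.card F with hq
    have hq2 : 2 ≤ q := Fintype.one_lt_card
    set S := g.1 ^ (q ^ n) with hS
    have hexp : ∀ (j : ℕ) (A : Matrix (Fin n) (Fin n) F) (P : F[X]), aeval (A ^ q ^ j) P = (aeval A P) ^ q ^ j := by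
      intro j
      induction j with
      | zero => intro A P; simp
      | succ j ih =>
        intro A P
        rw [pow_succ, pow_mul, pow_mul, ← ih]
        have h1 := congrArg (aeval (A ^ q ^ j)) (FiniteField.expand_card P)
        rw [expand_aeval, map_pow] at h1
        exact h1
    have hnq : n < q ^ n := Nat.lt_pow_self (by omega)
    have hfS : aeval S f = 0 := by
      rw [hS, hexp]
      have h1 : (aeval g.1 f) ^ k = 0 := by rw [← map_pow, ← hχk, hχ, Matrix.aeval_self_charpoly]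
      refine pow_eq_zero_of_le ?_ h1
      have : k ≤ n := by rw [← hdk]; exact Nat.le_mul_of_pos_left _ hd1
      omega
    have hcS : S.charpoly = f ^ k := by
      have : ∀ j, (g.1 ^ q ^ j).charpoly = f ^ k := by
        intro j
        induction j with
        | zero => rw [pow_zero, pow_one, ← hχk]
        | succ j ih => rw [pow_succ, pow_mul, FiniteField.Matrix.charpoly_pow_card, ih]
      exact this n
    have hdetS : S.det = 1 := by rw [hS, det_pow, g.2, one_pow]
    have : Fact (Irreducible f) := ⟨hfi⟩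
    let K := AdjoinRoot f
    let pb := AdjoinRoot.powerBasis' hfm
    have hfdK : FiniteDimensional F K := pb.finite
    have hfinK : Finite K := Module.finite_of_finite F
    have hfr : Module.finrank F K = f.natDegree := by rw [pb.finrank]; rfl
    let α : K := AdjoinRoot.root f
    have hmin : minpoly F α = f := by
      have := AdjoinRoot.minpoly_powerBasis_gen_of_monic hfm
      simpa using this
    have hNk : (Algebra.norm F α) ^ k = 1 := by
      have h1 : Algebra.norm F α = (-1) ^ f.natDegree * f.coeff 0 := by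
        have h2 := Algebra.PowerBasis.norm_gen_eq_coeff_zero_minpoly pb
        have h3 : pb.gen = α := rfl
        have h4 : pb.dim = f.natDegree := rfl
        rw [h3, h4, hmin] at h2
        exact h2
      have h2 : S.det = (-1) ^ n * (f ^ k).coeff 0 := by
        rw [Matrix.det_eq_sign_charpoly_coeff, hcS, Fintype.card_fin]
      rw [h1, mul_pow, ← pow_mul, hdk]
      rw [coeff_zero_eq_eval_zero, eval_pow, ← coeff_zero_eq_eval_zero] at h2
      rw [← h2, hdetS]
    have hNα : algebraMap F K (Algebra.norm F α) = α ^ (∑ i ∈ Finset.range f.natDegree, q ^ i) := by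
      rw [FiniteField.algebraMap_norm_eq_pow_sum, hfr, Nat.card_eq_fintype_card]
    have hαD : α ^ (∑ i ∈ Finset.range n, q ^ i) = 1 := by
      rw [← hdk, geom_mul q _ _ hq2, pow_mul, ← hNα, ← map_pow]
      have h1 : (Algebra.norm F α) ^ (∑ j ∈ Finset.range k, (q ^ f.natDegree) ^ j) = 1 := by
        rw [← Finset.prod_pow_eq_pow_sum]
        have h2 : ∀ j ∈ Finset.range k, (Algebra.norm F α) ^ (q ^ f.natDegree) ^ j = Algebra.norm F α := by
          intro j _
          rw [← pow_mul, hq, FiniteField.pow_card_pow]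
        rw [Finset.prod_congr rfl h2, Finset.prod_const, Finset.card_range, hNk]
      rw [h1, map_one]
    obtain ⟨c', hc'⟩ : Nat.gcd n (q - 1) ∣ q - 1 := Nat.gcd_dvd_right _ _
    have hαM : (α ^ M n q) ^ q = α ^ M n q := by
      have h1 : (α ^ M n q) ^ (q - 1) = 1 := by
        rw [← pow_mul]
        have : M n q * (q - 1) = (∑ i ∈ Finset.range n, q ^ i) * c' := by
          conv_lhs => rw [hc']
          rw [← mul_assoc, M_mul n q (by omega)]
        rw [this, pow_mul, hαD, one_pow]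
      calc (α ^ M n q) ^ q = (α ^ M n q) ^ (q - 1 + 1) := by rw [Nat.sub_add_cancel (by omega)]
        _ = _ := by rw [pow_succ, h1, one_mul]
    obtain ⟨c, hc⟩ := mem_range_of_pow_card hαM
    refine ⟨c, ?_⟩
    have h1 : AdjoinRoot.mk f (X ^ M n q - C c) = 0 := by
      rw [map_sub, map_pow, AdjoinRoot.mk_X, AdjoinRoot.mk_C, sub_eq_zero]
      exact hc.symm
    rw [AdjoinRoot.mk_eq_zero] at h1
    obtain ⟨R, hR⟩ := h1
    have h2 := congrArg (aeval S) hR
    rw [map_mul, hfS, zero_mul, map_sub, map_pow, aeval_X, aeval_C, sub_eq_zero] at h2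
    rw [pow_mul, ← hS, h2, Algebra.algebraMap_eq_smul_one]

/-- Singer cycles in `PSL_n(q)` -/
theorem exists_singer [Fintype F] (hn : 1 ≤ n) :
    ∃ x : Matrix.ProjectiveSpecialLinearGroup (Fin n) F, M n (Fintype.card F) ∣ orderOf x := by
  obtain ⟨g, hg, hgs⟩ := CfsgLib.Singer.exists_singer F n hn
  rw [Nat.card_eq_fintype_card] at hg hgs
  set q := Fintype.card F with hq
  have hq2 : 2 ≤ q := Fintype.one_lt_card
  have hdet : (g.1 ^ (q - 1)).det = 1 := by
    rw [det_pow]
    exact FiniteField.pow_card_sub_one_eq_one _ ((Matrix.isUnit_iff_isUnit_det _).1 g.isUnit).ne_zero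
  let s : Matrix.SpecialLinearGroup (Fin n) F := ⟨g.1 ^ (q - 1), hdet⟩
  refine ⟨QuotientGroup.mk s, ?_⟩
  have h1 := pow_orderOf_eq_one (QuotientGroup.mk s : Matrix.ProjectiveSpecialLinearGroup (Fin n) F)
  obtain ⟨c, hc⟩ := (mk_pow_eq_one_iff s _).1 h1
  set i := orderOf (QuotientGroup.mk s : Matrix.ProjectiveSpecialLinearGroup (Fin n) F)
  have h2 := hgs ((q - 1) * i) c (by
    rw [Units.val_pow_eq_pow_val, pow_mul]
    show s.1 ^ i = _
    rw [hc, scalar_apply, smul_one_eq_diagonal])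
  have h3 : q ^ n - 1 = (q - 1) * ∑ i ∈ Finset.range n, q ^ i := by
    have h4 : (∑ i ∈ Finset.range n, (q : ℤ) ^ i) * (q - 1) = (q : ℤ) ^ n - 1 := geom_sum_mul _ _
    have h5 : 1 ≤ q ^ n := Nat.one_le_pow _ _ (by omega)
    zify [h5, (by omega : 1 ≤ q)]
    rw [← h4]; ring
  rw [h3, mul_assoc] at h2
  have h4 := Nat.dvd_of_mul_dvd_mul_left (by omega) h2
  have hc0 : 0 < Nat.gcd n (q - 1) := Nat.gcd_pos_of_pos_right _ (by omega)
  have h5 : Nat.Coprime (M n q) ((q - 1) / Nat.gcd n (q - 1)) := by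
    unfold M
    rw [← gcd_eq n q (by omega)]
    exact Nat.coprime_div_gcd_div_gcd (by rw [gcd_eq n q (by omega)]; exact hc0)
  have h6 : M n q ∣ ((q - 1) / Nat.gcd n (q - 1)) * i := by
    rw [← M_mul n q (by omega)] at h4
    have h7 : i * (q - 1) = (((q - 1) / Nat.gcd n (q - 1)) * i) * Nat.gcd n (q - 1) := by
      have : (q - 1) / Nat.gcd n (q - 1) * Nat.gcd n (q - 1) = q - 1 := Nat.div_mul_cancel (Nat.gcd_dvd_right _ _)
      calc i * (q - 1) = i * ((q - 1) / Nat.gcd n (q - 1) * Nat.gcd n (q - 1)) := by rw [this]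
        _ = _ := by ring
    rw [h7] at h4
    exact Nat.dvd_of_mul_dvd_mul_right hc0 h4
  exact h5.dvd_of_dvd_mul_left h6

/-- orders of `p`-elements in `PSL` -/
theorem orderOf_mk_unip (p : ℕ) [Fact p.Prime] [CharP F p] (hn : 1 ≤ n) (u : (Matrix (Fin n) (Fin n) F)ˣ) {e : ℕ} (hu : orderOf u = p ^ e)
    (s : Matrix.SpecialLinearGroup (Fin n) F) (hs : s.1 = u.1) : orderOf (QuotientGroup.mk s : Matrix.ProjectiveSpecialLinearGroup (Fin n) F) = p ^ e := by
  rw [← hu]
  apply orderOf_eq_orderOf_iff.2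
  intro m
  rw [mk_pow_eq_one_iff, hs]
  constructor
  · rintro ⟨c, hc⟩
    have h1 : (c • (1 : Matrix (Fin n) (Fin n) F)) ^ p ^ e = 1 := by
      rw [← hc, ← pow_mul, mul_comm, pow_mul]
      have : u ^ p ^ e = 1 := by rw [← hu, pow_orderOf_eq_one]
      have h2 := congrArg Units.val this
      rw [Units.val_pow_eq_pow_val] at h2
      show (u.1 ^ p ^ e) ^ m = 1
      rw [h2, Units.val_one, one_pow]
    rw [_root_.smul_pow, one_pow] at h1
    have h2 : c ^ p ^ e = 1 := by
      have := congrFun (congrFun h1 ⟨0, hn⟩) ⟨0, hn⟩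
      simpa using this
    have h3 : (c - 1) ^ p ^ e = 0 := by rw [sub_pow_char_pow, h2, one_pow, sub_self]
    have h4 : c = 1 := sub_eq_zero.1 (pow_eq_zero_iff (by have := (Fact.out : p.Prime).pos; positivity) |>.1 h3)
    apply Units.ext
    rw [Units.val_pow_eq_pow_val, Units.val_one]
    rw [h4, one_smul] at hc
    exact hc
  · intro h
    refine ⟨1, ?_⟩
    have := congrArg Units.val h
    rw [Units.val_pow_eq_pow_val, Units.val_one] at this
    rw [one_smul]; exact this

theorem det_unip {m : ℕ} (u : (Matrix (Fin m) (Fin m) F)ˣ) (hu : u.1 = 1 + CfsgLib.Unip.shift m F) : u.1.det = 1 := by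
  rw [hu, det_of_isUpperTriangular]
  · apply Finset.prod_eq_one
    intro i _
    simp [CfsgLib.Unip.shift]
  · intro i j hij
    have : j < i := hij
    rw [Matrix.add_apply, one_apply_ne (ne_of_gt this)]
    simp only [CfsgLib.Unip.shift, of_apply, zero_add]
    rw [if_neg]
    intro h
    have h2 : j.1 < i.1 := this
    omega

/-- regular unipotent elements in `PSL` -/
theorem exists_unip (p : ℕ) [Fact p.Prime] [CharP F p] (hn : 1 ≤ n) :
    ∃ x : Matrix.ProjectiveSpecialLinearGroup (Fin n) F, orderOf x = p ^ Nat.clog p n := by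
  obtain ⟨u, hu⟩ := CfsgLib.Unip.exists_jordan n F
  have h1 : u.1 - 1 = CfsgLib.Unip.shift n F := by rw [hu, add_sub_cancel_left]
  have h2 := CfsgLib.Unip.orderOf_eq p u (by rw [h1]; exact ⟨n, CfsgLib.Unip.shift_pow_self n F⟩)
    (by rw [h1, Fintype.card_fin]; exact CfsgLib.Unip.shift_pow_ne n (by omega) F)
  rw [Fintype.card_fin] at h2
  exact ⟨_, orderOf_mk_unip p hn u h2 ⟨_, det_unip u hu⟩ rfl⟩

/-- unipotent elements with two Jordan blocks -/
theorem exists_unip' (p : ℕ) [Fact p.Prime] [CharP F p] (hn : 2 ≤ n) :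
    ∃ (g : Matrix.SpecialLinearGroup (Fin n) F) (e : Matrix (Fin n) (Fin n) F), e * e = e ∧ e ≠ 0 ∧ e ≠ 1 ∧ g.1 * e = e * g.1 ∧
      orderOf (QuotientGroup.mk g : Matrix.ProjectiveSpecialLinearGroup (Fin n) F) = p ^ Nat.clog p (n - 1) := by
  obtain ⟨u, hu⟩ := CfsgLib.Unip.exists_jordan (n - 1) F
  have h1 : u.1 - 1 = CfsgLib.Unip.shift (n - 1) F := by rw [hu, add_sub_cancel_left]
  have h2 := CfsgLib.Unip.orderOf_eq p u (by rw [h1]; exact ⟨n - 1, CfsgLib.Unip.shift_pow_self (n - 1) F⟩)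
    (by rw [h1, Fintype.card_fin]; exact CfsgLib.Unip.shift_pow_ne (n - 1) (by omega) F)
  rw [Fintype.card_fin] at h2
  have hi : n - 1 ≤ n := by omega
  have h3 : orderOf (CfsgLib.GLOrd.emb hi u) = p ^ Nat.clog p (n - 1) := by
    rw [orderOf_injective _ (CfsgLib.GLOrd.emb_injective hi), h2]
  have hdet : (CfsgLib.GLOrd.emb hi u).1.det = 1 := by
    rw [CfsgLib.GLOrd.emb_det, det_unip u hu]
  let E := Matrix.reindexAlgEquiv F F (finSumFinEquiv.trans (finCongr (Nat.add_sub_cancel' hi)))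
  let e := E (fromBlocks (1 : Matrix (Fin (n - 1)) (Fin (n - 1)) F) 0 0 (0 : Matrix (Fin (n - (n - 1))) (Fin (n - (n - 1))) F))
  refine ⟨⟨_, hdet⟩, e, ?_, ?_, ?_, ?_, orderOf_mk_unip p (by omega) _ h3 ⟨_, hdet⟩ rfl⟩
  · show E _ * E _ = E _
    rw [← map_mul, fromBlocks_multiply]
    simp
  · intro h0
    have h4 : fromBlocks (1 : Matrix (Fin (n - 1)) (Fin (n - 1)) F) 0 0 (0 : Matrix (Fin (n - (n - 1))) (Fin (n - (n - 1))) F) = 0 :=
      E.injective (by rw [map_zero]; exact h0)
    have h5 := congrFun (congrFun h4 (Sum.inl ⟨0, by omega⟩)) (Sum.inl ⟨0, by omega⟩)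
    simp at h5
  · intro h0
    have h4 : fromBlocks (1 : Matrix (Fin (n - 1)) (Fin (n - 1)) F) 0 0 (0 : Matrix (Fin (n - (n - 1))) (Fin (n - (n - 1))) F) = 1 :=
      E.injective (by rw [map_one]; exact h0)
    have h5 := congrFun (congrFun h4 (Sum.inr ⟨0, by omega⟩)) (Sum.inr ⟨0, by omega⟩)
    simp at h5
  · show E (fromBlocks u.1 0 0 (1 : Matrix (Fin (n - (n - 1))) (Fin (n - (n - 1))) F)) * E _ = E _ * E (fromBlocks u.1 0 0 (1 : Matrix (Fin (n - (n - 1))) (Fin (n - (n - 1))) F))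
    rw [← map_mul, ← map_mul, fromBlocks_multiply, fromBlocks_multiply]
    simp

theorem coprime_M (p : ℕ) [Fact p.Prime] [Fintype F] [CharP F p] (hn : 1 ≤ n) : Nat.Coprime p (M n (Fintype.card F)) := by
  have hp : p ∣ Fintype.card F := by
    have h1 : ((Fintype.card F : ℕ) : F) = 0 := FiniteField.cast_card_eq_zero F
    exact (CharP.cast_eq_zero_iff F p _).1 h1
  have hq2 : 2 ≤ Fintype.card F := Fintype.one_lt_card
  apply Nat.Coprime.coprime_dvd_right (Dvd.intro _ (M_mul n (Fintype.card F) (by omega)))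
  rw [Nat.Prime.coprime_iff_not_dvd Fact.out]
  intro h
  obtain ⟨m, rfl⟩ : ∃ m, n = m + 1 := ⟨n - 1, by omega⟩
  rw [Finset.sum_range_succ'] at h
  have h2 : p ∣ ∑ k ∈ Finset.range m, (Fintype.card F) ^ (k + 1) :=
    Finset.dvd_sum fun i _ => hp.trans (dvd_pow_self _ (by omega))
  have h3 := (Nat.dvd_add_right h2).1 h
  rw [pow_zero] at h3
  exact (Fact.out : p.Prime).one_lt.ne' (Nat.dvd_one.1 h3)

/-- orders of elements that cannot be multiplied by an element of order `r` -/
theorem order_cases [Fintype F] (p : ℕ) [Fact p.Prime] [CharP F p] (hn : 2 ≤ n) {r : ℕ} (hr : r.Prime)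
    (hrq : r ∣ Fintype.card F - 1) (hrn : ¬ r ∣ n) (x : Matrix.ProjectiveSpecialLinearGroup (Fin n) F) (hx : ¬ r ∣ orderOf x) :
    (∃ y : Matrix.ProjectiveSpecialLinearGroup (Fin n) F, orderOf y = r * orderOf x) ∨
      orderOf x ∣ p ^ Nat.clog p n * M n (Fintype.card F) := by
  obtain ⟨g, rfl⟩ := QuotientGroup.mk_surjective x
  rcases dichotomy p hn g with ⟨e, he, he0, he1, hge⟩ | hc
  · left
    exact exists_mul g e he he0 he1 hge hr hrq hrn hx
  · right
    have h1 := orderOf_dvd_of_pow_eq_one ((mk_pow_eq_one_iff g _).2 hc)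
    set o := orderOf (QuotientGroup.mk g : Matrix.ProjectiveSpecialLinearGroup (Fin n) F)
    set q := Fintype.card F with hq
    have hq2 : 2 ≤ q := Fintype.one_lt_card
    obtain ⟨a, ha⟩ : ∃ a : ℕ, q = p ^ a := by
      obtain ⟨a, _, ha⟩ := FiniteField.card F p
      exact ⟨a, ha⟩
    let N' := ∏ i ∈ Finset.Icc 1 n, (q ^ i - 1)
    have hcopN : Nat.Coprime p N' := by
      apply Nat.Coprime.prod_right
      intro i hi
      have hi1 := (Finset.mem_Icc.1 hi).1
      have hp : p ∣ q := by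
        have h1 : ((Fintype.card F : ℕ) : F) = 0 := FiniteField.cast_card_eq_zero F
        exact (CharP.cast_eq_zero_iff F p _).1 h1
      rw [Nat.Prime.coprime_iff_not_dvd Fact.out]
      intro h
      have h2 : p ∣ q ^ i := hp.trans (dvd_pow_self _ (by omega))
      have h3 : 1 ≤ q ^ i := Nat.one_le_pow _ _ (by omega)
      have h4 : p ∣ 1 := by
        have := (Nat.dvd_sub h2 h)
        rwa [Nat.sub_sub_self h3] at this
      exact (Fact.out : p.Prime).one_lt.ne' (Nat.dvd_one.1 h4)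
    have h2 : o ∣ N' * p ^ Nat.clog p n := by
      apply orderOf_dvd_of_pow_eq_one
      have h3 := CfsgLib.GLOrd.pow_eq_one p g.toGL N' (by
        intro i hi1 hin
        rw [Nat.card_eq_fintype_card]
        exact Finset.dvd_prod_of_mem (fun i => q ^ i - 1) (Finset.mem_Icc.2 ⟨hi1, hin⟩))
      rw [mk_pow_eq_one_iff]
      refine ⟨1, ?_⟩
      have h4 := congrArg Units.val h3
      rw [Units.val_pow_eq_pow_val] at h4
      rw [one_smul]; exact h4
    have h3 : o = Nat.gcd o (q ^ n) * Nat.gcd o (M n q) := by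
      have hcop : Nat.Coprime (q ^ n) (M n q) := by
        have h4 : Nat.Coprime p (M n q) := coprime_M (F := F) p (by omega)
        have h5 : q ^ n = (p ^ a) ^ n := by rw [← ha]
        rw [h5]
        exact (h4.pow_left _).pow_left _
      rw [← Nat.Coprime.gcd_mul o hcop]
      exact (Nat.gcd_eq_left h1).symm
    rw [h3]
    apply mul_dvd_mul
    · have h4 : Nat.gcd o (q ^ n) ∣ N' * p ^ Nat.clog p n := (Nat.gcd_dvd_left _ _).trans h2
      have h5 : Nat.Coprime (Nat.gcd o (q ^ n)) N' := by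
        apply Nat.Coprime.coprime_dvd_left (Nat.gcd_dvd_right _ _)
        rw [ha]
        exact (hcopN.pow_left _).pow_left _
      exact h5.dvd_of_dvd_mul_left h4
    · exact Nat.gcd_dvd_right _ _

end CfsgLib.PSLOrd
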