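import Cfsg.Agent.Lib.AltForm
import Cfsg.Agent.Lib.IsomDecomp

/-!
# Quadratic forms with non-degenerate polar form: Witt's lemma over any field
-/

namespace CfsgLib.Quad

open Module CfsgLib.IsomDecomp

set_option linter.unusedSimpArgs false
set_option linter.unusedSectionVars false

variable {F V : Type*} [Field F] [AddCommGroup V] [Module F V]

/-- The isometry group of a quadratic form. -/
def O (Q : QuadraticForm F V) : Subgroup (V ≃ₗ[F] V) := isomF F (fun u _ => Q u)

lemma mem_O {Q : QuadraticForm F V} {g : V ≃ₗ[F] V} : g ∈ O Q ↔ ∀ x, Q (g x) = Q x :=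
  ⟨fun h x => h x x, fun h x _ => h x⟩

/-- The polar form as a bilinear form. -/
local notation "β[" Q "]" => QuadraticMap.polarBilin Q

lemma map_add (Q : QuadraticForm F V) (v w : V) :
    Q (v + w) = Q v + Q w + β[Q] v w := by
  rw [QuadraticMap.polarBilin_apply_apply, QuadraticMap.polar]; ring

lemma map_smul (Q : QuadraticForm F V) (a : F) (v : V) : Q (a • v) = a ^ 2 * Q v := by
  rw [QuadraticMap.map_smul, smul_eq_mul, pow_two]

lemma map_sub (Q : QuadraticForm F V) (v w : V) :
    Q (v - w) = Q v + Q w - β[Q] v w := by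
  rw [sub_eq_add_neg, map_add, LinearMap.map_neg, QuadraticMap.map_neg]; ring

lemma polar_self (Q : QuadraticForm F V) (v : V) : β[Q] v v = 2 * Q v := by
  rw [QuadraticMap.polarBilin_apply_apply, QuadraticMap.polar_self, nsmul_eq_mul]
  norm_num

lemma polar_comm (Q : QuadraticForm F V) (v w : V) : β[Q] v w = β[Q] w v := by
  rw [QuadraticMap.polarBilin_apply_apply, QuadraticMap.polarBilin_apply_apply,
    QuadraticMap.polar_comm]

lemma polar_isSymm (Q : QuadraticForm F V) : (β[Q]).IsSymm := ⟨fun v w => polar_comm Q v w⟩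

lemma polar_isRefl (Q : QuadraticForm F V) : (β[Q]).IsRefl := (polar_isSymm Q).isRefl

lemma map_add_two (Q : QuadraticForm F V) (x y w : V) (a b : F) :
    Q (x + a • y + b • w) = Q x + a ^ 2 * Q y + b ^ 2 * Q w + a * β[Q] x y + b * β[Q] x w +
      a * b * β[Q] y w := by
  rw [map_add, map_add, map_smul, map_smul]
  simp only [LinearMap.map_add, LinearMap.add_apply, LinearMap.map_smul, LinearMap.smul_apply,
    smul_eq_mul]
  ring

lemma polar_of_mem_O {Q : QuadraticForm F V} {g : V ≃ₗ[F] V} (hg : g ∈ O Q) (x y : V) :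
    β[Q] (g x) (g y) = β[Q] x y := by
  rw [QuadraticMap.polarBilin_apply_apply, QuadraticMap.polarBilin_apply_apply,
    QuadraticMap.polar, QuadraticMap.polar, ← _root_.map_add, mem_O.mp hg, mem_O.mp hg,
    mem_O.mp hg]

variable [FiniteDimensional F V]

/-- A linear map preserving `Q` as an automorphism. -/
noncomputable def ofIsom {Q : QuadraticForm F V} (hQ : (β[Q]).Nondegenerate) (T : V →ₗ[F] V)
    (h : ∀ x, Q (T x) = Q x) : V ≃ₗ[F] V :=
  LinearEquiv.ofInjectiveEndo T (by
    rw [injective_iff_map_eq_zero]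
    intro x hx
    apply hQ.1
    intro y
    have h1 : β[Q] (T x) (T y) = β[Q] x y := by
      rw [QuadraticMap.polarBilin_apply_apply, QuadraticMap.polarBilin_apply_apply,
        QuadraticMap.polar, QuadraticMap.polar, ← _root_.map_add, h, h, h]
    rw [← h1, hx, LinearMap.map_zero]
    rfl)

lemma ofIsom_apply {Q : QuadraticForm F V} (hQ : (β[Q]).Nondegenerate) (T : V →ₗ[F] V)
    (h : ∀ x, Q (T x) = Q x) (x : V) : ofIsom hQ T h x = T x := rfl

lemma ofIsom_mem {Q : QuadraticForm F V} (hQ : (β[Q]).Nondegenerate) (T : V →ₗ[F] V)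
    (h : ∀ x, Q (T x) = Q x) : ofIsom hQ T h ∈ O Q := mem_O.mpr h

/-- The reflection map `x ↦ x - Q(w)⁻¹ β(w,x) w`. -/
noncomputable def reflT (Q : QuadraticForm F V) (w : V) : V →ₗ[F] V :=
  LinearMap.id - LinearMap.smulRight ((Q w)⁻¹ • β[Q] w) w

lemma reflT_apply (Q : QuadraticForm F V) (w x : V) :
    reflT Q w x = x - ((Q w)⁻¹ * β[Q] w x) • w := by
  simp [reflT]

lemma reflT_map (Q : QuadraticForm F V) {w : V} (hw : Q w ≠ 0) (x : V) :
    Q (reflT Q w x) = Q x := by
  rw [reflT_apply, map_sub, map_smul, LinearMap.map_smul, smul_eq_mul, polar_comm Q x w]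
  field_simp
  ring

/-- The Eichler (Siegel) transformation. -/
noncomputable def eichT (Q : QuadraticForm F V) (w y : V) : V →ₗ[F] V :=
  LinearMap.id + LinearMap.smulRight (β[Q] w) y +
    LinearMap.smulRight (-(β[Q] y) - (Q y) • (β[Q] w)) w

lemma eichT_apply (Q : QuadraticForm F V) (w y x : V) :
    eichT Q w y x = x + (β[Q] w x) • y + (- β[Q] y x - Q y * β[Q] w x) • w := by
  simp [eichT]

lemma eichT_map (Q : QuadraticForm F V) {w y : V} (hw : Q w = 0) (hwy : β[Q] w y = 0) (x : V) :
    Q (eichT Q w y x) = Q x := by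
  rw [eichT_apply, map_add_two, hw, polar_comm Q y w, hwy, polar_comm Q x w, polar_comm Q x y]
  ring

/-- Scaling of a hyperbolic pair. -/
noncomputable def hscaleT (Q : QuadraticForm F V) (w y : V) (c : F) : V →ₗ[F] V :=
  LinearMap.id + LinearMap.smulRight ((c - 1) • β[Q] y) w +
    LinearMap.smulRight ((c⁻¹ - 1) • β[Q] w) y

lemma hscaleT_apply (Q : QuadraticForm F V) (w y x : V) (c : F) :
    hscaleT Q w y c x = x + ((c - 1) * β[Q] y x) • w + ((c⁻¹ - 1) * β[Q] w x) • y := by
  simp [hscaleT]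

lemma hscaleT_map (Q : QuadraticForm F V) {w y : V} {c : F} (hc : c ≠ 0) (hw : Q w = 0)
    (hy : Q y = 0) (hwy : β[Q] w y = 1) (x : V) :
    Q (hscaleT Q w y c x) = Q x := by
  rw [hscaleT_apply, map_add_two, hw, hy, hwy, polar_comm Q x w, polar_comm Q x y]
  field_simp
  ring

lemma exists_step {Q : QuadraticForm F V} (hQ : (β[Q]).Nondegenerate)
    {X : Submodule F V} {x y : V} (hx : x ∉ X) (hy : y ∉ X) (hxy : Q x = Q y)
    (hX : ∀ z ∈ X, β[Q] z x = β[Q] z y) :
    ∃ t ∈ O Q, (∀ z ∈ X, t z = z) ∧ t x = y := by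
  by_cases hw0 : y - x = 0
  · refine ⟨1, one_mem _, fun _ _ => rfl, ?_⟩
    exact (sub_eq_zero.mp hw0).symm
  set w := y - x with hw
  have hyw : y = x + w := by rw [hw]; abel
  have hzw : ∀ z ∈ X, β[Q] w z = 0 := by
    intro z hz
    rw [polar_comm, hw, LinearMap.map_sub, hX z hz, sub_self]
  have hQw : Q w = - β[Q] w x := by
    have h1 : Q y = Q x + Q w + β[Q] x w := by rw [hyw, map_add]
    rw [← hxy] at h1
    rw [polar_comm]
    linear_combination -h1
  by_cases hQw0 : Q w = 0
  · have hwx : β[Q] w x = 0 := by rw [hQw0] at hQw; linear_combination hQw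
    by_cases hxX : x ∈ X ⊔ (F ∙ w)
    · -- hyperbolic scaling
      obtain ⟨z₀, hz₀, v, hv, hzv⟩ := Submodule.mem_sup.mp hxX
      obtain ⟨c, rfl⟩ := Submodule.mem_span_singleton.mp hv
      have hc : c ≠ 0 := by
        rintro rfl
        rw [zero_smul, add_zero] at hzv
        exact hx (hzv ▸ hz₀)
      have hc1 : c + 1 ≠ 0 := by
        intro h
        apply hy
        have : y = z₀ := by
          rw [hyw, ← hzv]
          have h2 : c • w + w = (c + 1) • w := by rw [add_smul, one_smul]
          rw [add_assoc, h2, h, zero_smul, add_zero]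
        rwa [this]
      have hwX : w ∉ X := by
        intro h
        apply hx
        rw [← hzv]
        exact X.add_mem hz₀ (X.smul_mem c h)
      obtain ⟨y₀', hy₀', hne⟩ := CfsgLib.AltForm.exists_orthogonal_ne_zero hQ (polar_isRefl Q) hwX
      rw [LinearMap.BilinForm.mem_orthogonal_iff] at hy₀'
      obtain ⟨y₀, hy₀, hy₀w⟩ : ∃ y₀, (∀ z ∈ X, β[Q] z y₀ = 0) ∧ β[Q] w y₀ = 1 := by
        refine ⟨(β[Q] y₀' w)⁻¹ • y₀', fun z hz => ?_, ?_⟩
        · rw [LinearMap.map_smul, hy₀' z hz, smul_zero]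
        · rw [LinearMap.map_smul, smul_eq_mul, polar_comm Q w y₀', inv_mul_cancel₀ hne]
      obtain ⟨y₁, hy₁, hy₁w, hQy₁⟩ : ∃ y₁, (∀ z ∈ X, β[Q] z y₁ = 0) ∧ β[Q] w y₁ = 1 ∧
          Q y₁ = 0 := by
        refine ⟨y₀ - Q y₀ • w, fun z hz => ?_, ?_, ?_⟩
        · rw [LinearMap.map_sub, LinearMap.map_smul, hy₀ z hz, polar_comm Q z w, hzw z hz,
            smul_zero, sub_zero]
        · rw [LinearMap.map_sub, LinearMap.map_smul, hy₀w, polar_self, hQw0]
          simp
        · rw [map_sub, map_smul, hQw0, LinearMap.map_smul, polar_comm Q y₀ w, hy₀w]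
          simp
      have hlam : (c + 1) / c ≠ 0 := div_ne_zero hc1 hc
      refine ⟨ofIsom hQ (hscaleT Q w y₁ ((c + 1) / c)) (hscaleT_map Q hlam hQw0 hQy₁ hy₁w),
        ofIsom_mem _ _ _, fun z hz => ?_, ?_⟩
      · rw [ofIsom_apply, hscaleT_apply, polar_comm Q y₁ z, hy₁ z hz, hzw z hz]
        simp
      · have h1 : β[Q] y₁ x = c := by
          rw [← hzv, LinearMap.map_add, LinearMap.map_smul, polar_comm Q y₁ z₀, hy₁ z₀ hz₀,
            polar_comm Q y₁ w, hy₁w]
          simp
        rw [ofIsom_apply, hscaleT_apply, h1, hwx, hyw]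
        have h2 : ((c + 1) / c - 1) * c = 1 := by field_simp; ring
        rw [h2, mul_zero, zero_smul, add_zero, one_smul]
    · -- Eichler transformation
      obtain ⟨y', hy', hne⟩ := CfsgLib.AltForm.exists_orthogonal_ne_zero hQ (polar_isRefl Q) hxX
      rw [LinearMap.BilinForm.mem_orthogonal_iff] at hy'
      obtain ⟨y₀, hy₀, hy₀x⟩ : ∃ y₀, (∀ z ∈ X ⊔ (F ∙ w), β[Q] z y₀ = 0) ∧ β[Q] y₀ x = -1 := by
        refine ⟨(-(β[Q] y' x)⁻¹) • y', fun z hz => ?_, ?_⟩
        · rw [LinearMap.map_smul, hy' z hz, smul_zero]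
        · rw [LinearMap.map_smul, LinearMap.smul_apply, smul_eq_mul, neg_mul, inv_mul_cancel₀ hne]
      have hwy₀ : β[Q] w y₀ = 0 := hy₀ w (Submodule.mem_sup_right
        (Submodule.mem_span_singleton_self w))
      refine ⟨ofIsom hQ (eichT Q w y₀) (eichT_map Q hQw0 hwy₀), ofIsom_mem _ _ _,
        fun z hz => ?_, ?_⟩
      · rw [ofIsom_apply, eichT_apply, hzw z hz, polar_comm Q y₀ z,
          hy₀ z (Submodule.mem_sup_left hz)]
        simp
      · rw [ofIsom_apply, eichT_apply, hwx, hy₀x, hyw]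
        simp
  · refine ⟨ofIsom hQ (reflT Q w) (reflT_map Q hQw0), ofIsom_mem _ _ _, fun z hz => ?_, ?_⟩
    · rw [ofIsom_apply, reflT_apply, hzw z hz, mul_zero, zero_smul, sub_zero]
    · rw [ofIsom_apply, reflT_apply, hyw]
      have h1 : (Q w)⁻¹ * β[Q] w x = -1 := by
        have : β[Q] w x = - Q w := by rw [hQw]; ring
        rw [this, mul_neg, inv_mul_cancel₀ hQw0]
      rw [h1, neg_smul, one_smul, sub_neg_eq_add]

/-- Witt's lemma for families. -/
theorem exists_O_family {Q : QuadraticForm F V} (hQ : (β[Q]).Nondegenerate)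
    {n : ℕ} (v v' : Fin n → V) (hv : LinearIndependent F v) (hv' : LinearIndependent F v')
    (h0 : ∀ i, Q (v i) = Q (v' i))
    (h : ∀ i j, β[Q] (v i) (v j) = β[Q] (v' i) (v' j)) :
    ∃ g ∈ O Q, ∀ i, g (v i) = v' i := by
  induction n with
  | zero => exact ⟨1, one_mem _, fun i => i.elim0⟩
  | succ n ih =>
    have hv₁ := hv.comp Fin.castSucc (Fin.castSucc_injective n)
    have hv₂ := hv'.comp Fin.castSucc (Fin.castSucc_injective n)
    obtain ⟨g, hg, hgv⟩ := ih (v ∘ Fin.castSucc) (v' ∘ Fin.castSucc) hv₁ hv₂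
      (fun i => h0 _) (fun i j => h _ _)
    set X : Submodule F V := Submodule.span F (Set.range (v' ∘ Fin.castSucc)) with hX
    have hy : v' (Fin.last n) ∉ X := by
      have := hv'.notMem_span_image (s := Set.range Fin.castSucc) (x := Fin.last n) (by
        rintro ⟨i, hi⟩
        exact (Fin.castSucc_lt_last i).ne hi)
      rwa [← Set.range_comp] at this
    have hx : g (v (Fin.last n)) ∉ X := by
      intro hmem
      have h1 : v (Fin.last n) ∈ Submodule.span F (Set.range (v ∘ Fin.castSucc)) := by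
        have h2 : X = (Submodule.span F (Set.range (v ∘ Fin.castSucc))).map (g : V →ₗ[F] V) := by
          rw [hX, Submodule.map_span, ← Set.range_comp]
          congr 1
          ext z
          simp only [Set.mem_range]
          exact exists_congr fun i => by rw [← hgv i]; rfl
        rw [h2] at hmem
        obtain ⟨z, hz, hzg⟩ := hmem
        have : z = v (Fin.last n) := g.injective hzg
        rwa [← this]
      have := hv.notMem_span_image (s := Set.range Fin.castSucc) (x := Fin.last n) (by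
        rintro ⟨i, hi⟩
        exact (Fin.castSucc_lt_last i).ne hi)
      rw [← Set.range_comp] at this
      exact this h1
    obtain ⟨t, ht, ht1, ht2⟩ := exists_step hQ hx hy (by rw [mem_O.mp hg, h0]) (by
      intro z hz
      rw [hX] at hz
      induction hz using Submodule.span_induction with
      | mem z hz =>
        obtain ⟨i, rfl⟩ := hz
        have := hgv i
        rw [← this, polar_of_mem_O hg]
        change β[Q] (v (Fin.castSucc i)) (v (Fin.last n)) = _
        rw [h]
        rw [this]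
        rfl
      | zero => simp
      | add x y _ _ hx hy =>
        rw [LinearMap.map_add, LinearMap.add_apply, LinearMap.add_apply, hx, hy]
      | smul a x _ hx => rw [LinearMap.map_smul, LinearMap.smul_apply, LinearMap.smul_apply, hx])
    refine ⟨t * g, mul_mem ht hg, fun i => ?_⟩
    rw [LinearEquiv.mul_apply]
    refine Fin.lastCases ?_ (fun i => ?_) i
    · exact ht2
    · have := hgv i
      simp only [Function.comp] at this
      rw [this]
      exact ht1 _ (Submodule.subset_span ⟨i, rfl⟩)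

/-- Witt's lemma for quadratic forms with non-degenerate polar form. -/
theorem exists_O_extension {Q : QuadraticForm F V} (hQ : (β[Q]).Nondegenerate)
    (X : Submodule F V) (φ : X →ₗ[F] V) (hφ : Function.Injective φ)
    (h : ∀ x : X, Q (φ x) = Q (x : V)) :
    ∃ g ∈ O Q, ∀ x : X, g (x : V) = φ x := by
  let b := Module.finBasis F X
  have hpol : ∀ x x' : X, β[Q] (φ x) (φ x') = β[Q] (x : V) (x' : V) := by
    intro x x'
    rw [QuadraticMap.polarBilin_apply_apply, QuadraticMap.polarBilin_apply_apply,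
      QuadraticMap.polar, QuadraticMap.polar, ← _root_.map_add, h, h, h]
    rfl
  obtain ⟨g, hg, hgv⟩ := exists_O_family hQ (fun i => (b i : V)) (fun i => φ (b i))
    (b.linearIndependent.map' X.subtype (Submodule.ker_subtype X))
    (b.linearIndependent.map' φ (LinearMap.ker_eq_bot.mpr hφ)) (fun i => (h _).symm)
    (fun i j => (hpol _ _).symm)
  refine ⟨g, hg, fun x => ?_⟩
  have : (g : V →ₗ[F] V).comp X.subtype = φ := b.ext fun i => hgv i
  exact DFunLike.congr_fun this x

lemma exists_injective_of_finrank_le {W₁ W₂ : Type*} [AddCommGroup W₁] [Module F W₁]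
    [FiniteDimensional F W₁] [AddCommGroup W₂] [Module F W₂] [FiniteDimensional F W₂]
    (h : finrank F W₁ ≤ finrank F W₂) : ∃ φ : W₁ →ₗ[F] W₂, Function.Injective φ := by
  let b₁ := Module.finBasis F W₁
  let b₂ := Module.finBasis F W₂
  refine ⟨(b₂.repr.symm : _ →ₗ[F] W₂) ∘ₗ (Finsupp.lmapDomain F F (Fin.castLE h)) ∘ₗ
    (b₁.repr : W₁ →ₗ[F] _), ?_⟩
  have h1 : Function.Injective (Finsupp.lmapDomain F F (Fin.castLE h)) :=
    Finsupp.mapDomain_injective (Fin.castLE_injective h)
  intro x y hxy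
  exact b₁.repr.injective (h1 (b₂.repr.symm.injective hxy))

lemma finrank_comap_equiv (g : V ≃ₗ[F] V) (W : Submodule F V) :
    finrank F (W.comap (g : V →ₗ[F] V)) = finrank F W := by
  have h1 := LinearEquiv.finrank_map_eq g (W.comap (g : V →ₗ[F] V))
  rw [Submodule.map_comap_eq_of_surjective g.surjective] at h1
  exact h1.symm

/-- Maximal totally singular subspaces have the same dimension (Witt index). -/
theorem finrank_eq_of_maximal {Q : QuadraticForm F V} (hQ : (β[Q]).Nondegenerate)
    {W₁ W₂ : Submodule F V} (h₁ : ∀ w ∈ W₁, Q w = 0) (h₂ : ∀ w ∈ W₂, Q w = 0)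
    (hmax : ∀ W : Submodule F V, W₁ ≤ W → (∀ w ∈ W, Q w = 0) → W = W₁) :
    finrank F W₂ ≤ finrank F W₁ := by
  by_contra hlt
  push Not at hlt
  obtain ⟨φ, hφ⟩ := exists_injective_of_finrank_le hlt.le
  obtain ⟨g, hg, hgx⟩ := exists_O_extension hQ W₁ (W₂.subtype.comp φ)
      (Subtype.val_injective.comp hφ) (fun x => by
        rw [h₁ _ x.2]; exact h₂ _ (φ x).2)
  have h3 := hmax (W₂.comap (g : V →ₗ[F] V)) (fun x hx => by
      rw [Submodule.mem_comap]
      change g x ∈ W₂
      have := hgx ⟨x, hx⟩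
      rw [this]
      exact (φ ⟨x, hx⟩).2) (fun w hw => by
      rw [← mem_O.mp hg]
      exact h₂ _ hw)
  have h4 := finrank_comap_equiv g W₂
  rw [h3] at h4
  omega

lemma polar_eq_zero_of_singular {Q : QuadraticForm F V} {W : Submodule F V}
    (hW : ∀ w ∈ W, Q w = 0) {u v : V} (hu : u ∈ W) (hv : v ∈ W) : β[Q] u v = 0 := by
  rw [QuadraticMap.polarBilin_apply_apply, QuadraticMap.polar, hW _ (W.add_mem hu hv), hW _ hu,
    hW _ hv]
  ring

lemma two_mul_finrank_singular_le {Q : QuadraticForm F V} (hQ : (β[Q]).Nondegenerate)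
    {W : Submodule F V} (hW : ∀ w ∈ W, Q w = 0) : 2 * finrank F W ≤ finrank F V := by
  have h1 := LinearMap.BilinForm.finrank_orthogonal hQ W
  have h2 : W ≤ LinearMap.BilinForm.orthogonal (β[Q]) W := by
    intro x hx
    rw [LinearMap.BilinForm.mem_orthogonal_iff]
    intro y hy
    exact polar_eq_zero_of_singular hW hy hx
  have h3 := Submodule.finrank_mono h2
  have h4 := Submodule.finrank_le W
  omega

end CfsgLib.Quad
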