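import Cfsg.Agent.Lib.Quad9

/-!
# Quadratic forms X: the group generated by Siegel transformations
-/

namespace CfsgLib.Quad

open Module CfsgLib.IsomDecomp Cfsg
open scoped commutatorElement

set_option linter.unusedSimpArgs false
set_option linter.unusedSectionVars false

variable {F V : Type*} [Field F] [AddCommGroup V] [Module F V] [FiniteDimensional F V]

local notation "β[" Q "]" => QuadraticMap.polarBilin Q

/-- The group generated by the Siegel transformations. -/
def eichG (Q : QuadraticForm F V) : Subgroup (O Q) :=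
  Subgroup.closure {g | ∃ (u y : V) (hu : Q u = 0) (huy : β[Q] u y = 0), g = eichO hu huy}

lemma eichO_mem {Q : QuadraticForm F V} {u y : V} (hu : Q u = 0) (huy : β[Q] u y = 0) :
    eichO hu huy ∈ eichG Q := Subgroup.subset_closure ⟨u, y, hu, huy, rfl⟩

lemma eichG_normal (Q : QuadraticForm F V) : (eichG Q).Normal := by
  have h1 : eichG Q = Subgroup.normalClosure
      {g | ∃ (u y : V) (hu : Q u = 0) (huy : β[Q] u y = 0), g = eichO hu huy} := by
    apply le_antisymm
    · exact Subgroup.closure_le_normalClosure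
    · rw [Subgroup.normalClosure]
      apply Subgroup.closure_mono
      intro x hx
      rw [Group.mem_conjugatesOfSet_iff] at hx
      obtain ⟨_, ⟨u, y, hu, huy, rfl⟩, hc⟩ := hx
      rw [isConj_iff] at hc
      obtain ⟨g, rfl⟩ := hc
      exact ⟨_, _, _, _, eichO_conj g hu huy⟩
  rw [h1]
  exact Subgroup.normalClosure_normal

/-- Existence of a hyperbolic partner. -/
lemma exists_partner {Q : QuadraticForm F V} (hQ : (β[Q]).Nondegenerate) {e : V} (he0 : e ≠ 0)
    (he : Q e = 0) : ∃ f, Q f = 0 ∧ β[Q] e f = 1 := by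
  obtain ⟨y, hy⟩ : ∃ y, β[Q] e y ≠ 0 := by
    by_contra hcon
    push Not at hcon
    exact he0 (hQ.1 e hcon)
  obtain ⟨z, hz⟩ : ∃ z, β[Q] e z = 1 := ⟨(β[Q] e y)⁻¹ • y, by
    rw [LinearMap.map_smul, smul_eq_mul, inv_mul_cancel₀ hy]⟩
  refine ⟨z - Q z • e, ?_, ?_⟩
  · rw [map_sub, map_smul, he, LinearMap.map_smul, polar_comm Q z e, hz]
    simp
  · rw [LinearMap.map_sub, LinearMap.map_smul, polar_self, he, hz]
    simp

lemma ne_zero_of_polar {Q : QuadraticForm F V} {e f : V} (h : β[Q] e f ≠ 0) : e ≠ 0 := by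
  rintro rfl
  exact h (by simp)

lemma eichO_move {Q : QuadraticForm F V} {u f f' : V} (hu : Q u = 0) (hf : Q f = 0)
    (hf' : Q f' = 0) (h : β[Q] u f = 1) (h' : β[Q] u f' = 1) (hy : β[Q] u (f' - f) = 0) :
    (eichO hu hy).1 f = f' := by
  have h1 : Q (f' - f) = -β[Q] f' f := by rw [map_sub, hf, hf']; ring
  rw [eichO_apply, h1, h, LinearMap.map_sub, LinearMap.sub_apply, polar_self, hf]
  module

/-! ### The orthogonal complement of a hyperbolic pair -/

/-- The orthogonal complement of two vectors. -/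
def hperp (Q : QuadraticForm F V) (e f : V) : Submodule F V :=
  LinearMap.ker (β[Q] e) ⊓ LinearMap.ker (β[Q] f)

lemma mem_hperp {Q : QuadraticForm F V} {e f x : V} :
    x ∈ hperp Q e f ↔ β[Q] e x = 0 ∧ β[Q] f x = 0 := by
  rw [hperp, Submodule.mem_inf, LinearMap.mem_ker, LinearMap.mem_ker]

/-- The restriction of `Q` to a subspace. -/
noncomputable def resQ (Q : QuadraticForm F V) (W : Submodule F V) : QuadraticForm F W :=
  Q.comp W.subtype

lemma resQ_apply (Q : QuadraticForm F V) (W : Submodule F V) (x : W) : resQ Q W x = Q x := rfl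

lemma resQ_polar (Q : QuadraticForm F V) (W : Submodule F V) (x y : W) :
    β[resQ Q W] x y = β[Q] (x : V) (y : V) := rfl

/-- Decomposition with respect to a hyperbolic pair. -/
lemma hperp_decomp {Q : QuadraticForm F V} {e f : V} (he : Q e = 0) (hf : Q f = 0)
    (hef : β[Q] e f = 1) (x : V) : x - β[Q] f x • e - β[Q] e x • f ∈ hperp Q e f := by
  rw [mem_hperp]
  constructor
  · rw [LinearMap.map_sub, LinearMap.map_sub, LinearMap.map_smul, LinearMap.map_smul, polar_self,
      he, hef]
    simp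
  · rw [LinearMap.map_sub, LinearMap.map_sub, LinearMap.map_smul, LinearMap.map_smul, polar_self,
      hf, polar_comm Q f e, hef]
    simp

lemma resQ_hperp_nondegenerate {Q : QuadraticForm F V} (hQ : (β[Q]).Nondegenerate) {e f : V}
    (he : Q e = 0) (hf : Q f = 0) (hef : β[Q] e f = 1) :
    (β[resQ Q (hperp Q e f)]).Nondegenerate := by
  apply nondegenerate_of_left
  intro x hx
  apply Subtype.ext
  apply hQ.1
  intro y
  have h1 := hx ⟨_, hperp_decomp he hf hef y⟩
  rw [resQ_polar] at h1
  change β[Q] x.1 (y - β[Q] f y • e - β[Q] e y • f) = 0 at h1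
  have h2 := mem_hperp.mp x.2
  rw [LinearMap.map_sub, LinearMap.map_sub, LinearMap.map_smul, LinearMap.map_smul,
    polar_comm Q x.1 e, polar_comm Q x.1 f, h2.1, h2.2] at h1
  simpa using h1

lemma finrank_hperp {Q : QuadraticForm F V} (hQ : (β[Q]).Nondegenerate) {e f : V}
    (he : Q e = 0) (hf : Q f = 0) (hef : β[Q] e f = 1) :
    finrank F (hperp Q e f) + 2 = finrank F V := by
  have hli : LinearIndependent F ![e, f] := by
    rw [LinearIndependent.pair_iff]
    intro s t hst
    have h1 : β[Q] e (s • e + t • f) = 0 := by rw [hst, LinearMap.map_zero]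
    have h2 : β[Q] f (s • e + t • f) = 0 := by rw [hst, LinearMap.map_zero]
    rw [LinearMap.map_add, LinearMap.map_smul, LinearMap.map_smul, polar_self, he] at h1
    rw [LinearMap.map_add, LinearMap.map_smul, LinearMap.map_smul, polar_self, hf,
      polar_comm Q f e] at h2
    simp only [hef, smul_eq_mul, mul_zero, mul_one, add_zero, zero_add] at h1 h2
    exact ⟨h2, h1⟩
  have h1 : hperp Q e f = LinearMap.BilinForm.orthogonal (β[Q])
      (Submodule.span F (Set.range ![e, f])) := by
    ext x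
    rw [mem_hperp, mem_orth]
    constructor
    · rintro ⟨h1, h2⟩ w hw
      rw [Submodule.mem_span_range_iff_exists_fun] at hw
      obtain ⟨c, rfl⟩ := hw
      simp only [Fin.sum_univ_two, Matrix.cons_val_zero, Matrix.cons_val_one,
        Matrix.cons_val_fin_one, LinearMap.map_add, LinearMap.map_smul, LinearMap.add_apply,
        LinearMap.smul_apply, h1, h2, smul_zero, add_zero]
    · intro h
      exact ⟨h e (Submodule.subset_span ⟨0, rfl⟩), h f (Submodule.subset_span ⟨1, rfl⟩)⟩
  have h2 := LinearMap.BilinForm.finrank_orthogonal hQ (Submodule.span F (Set.range ![e, f]))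
  rw [finrank_span_eq_card hli, Fintype.card_fin] at h2
  have h3 := Submodule.finrank_le (Submodule.span F (Set.range ![e, f]))
  rw [finrank_span_eq_card hli, Fintype.card_fin] at h3
  rw [h1, h2]
  omega

section Fin

variable [Finite F]

lemma exists_hperp_map_eq {Q : QuadraticForm F V} (hQ : (β[Q]).Nondegenerate) {e f : V}
    (he : Q e = 0) (hf : Q f = 0) (hef : β[Q] e f = 1) (hV : 4 ≤ finrank F V) (c : F) :
    ∃ w, β[Q] e w = 0 ∧ β[Q] f w = 0 ∧ Q w = c := by
  have h1 := finrank_hperp hQ he hf hef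
  obtain ⟨w, hw⟩ := exists_map_eq (resQ_hperp_nondegenerate hQ he hf hef) (by omega) c
  exact ⟨w.1, (mem_hperp.mp w.2).1, (mem_hperp.mp w.2).2, hw⟩

/-- A second hyperbolic pair orthogonal to a given one. -/
lemma exists_second_pair {Q : QuadraticForm F V} (hQ : (β[Q]).Nondegenerate) {e f : V}
    (he : Q e = 0) (hf : Q f = 0) (hef : β[Q] e f = 1) (hV : 5 ≤ finrank F V) :
    ∃ e₂ f₂, e₂ ∈ hperp Q e f ∧ f₂ ∈ hperp Q e f ∧ Q e₂ = 0 ∧ Q f₂ = 0 ∧ β[Q] e₂ f₂ = 1 := by
  have h1 := finrank_hperp hQ he hf hef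
  have hN := resQ_hperp_nondegenerate hQ he hf hef
  obtain ⟨e₂, he₂0, he₂⟩ := exists_singular hN (by omega)
  obtain ⟨f₂, hf₂, hef₂⟩ := exists_partner hN he₂0 he₂
  exact ⟨e₂.1, f₂.1, e₂.2, f₂.2, he₂, hf₂, hef₂⟩

/-- Siegel transformations are transitive on singular vectors (dimension at least four). -/
theorem exists_eichG_singular {Q : QuadraticForm F V} (hQ : (β[Q]).Nondegenerate)
    (hV : 4 ≤ finrank F V) {e e' : V} (he0 : e ≠ 0) (he : Q e = 0) (he0' : e' ≠ 0)
    (he' : Q e' = 0) : ∃ g ∈ eichG Q, g.1 e = e' := by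
  -- the non-orthogonal case
  have key : ∀ a b : V, Q a = 0 → Q b = 0 → β[Q] a b ≠ 0 → ∃ g ∈ eichG Q, g.1 a = b := by
    intro a b ha hb hab
    -- hyperbolic pair `a, c⁻¹ b`
    set c := β[Q] a b with hc
    have hb' : Q (c⁻¹ • b) = 0 := by rw [map_smul, hb, mul_zero]
    have hab' : β[Q] a (c⁻¹ • b) = 1 := by
      rw [LinearMap.map_smul, smul_eq_mul, ← hc, inv_mul_cancel₀ hab]
    obtain ⟨w, hw1, hw2, hw3⟩ := exists_hperp_map_eq hQ ha hb' hab' hV (-c⁻¹)
    have hw2' : β[Q] b w = 0 := by
      rw [LinearMap.map_smul, LinearMap.smul_apply, smul_eq_mul] at hw2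
      exact (mul_eq_zero.mp hw2).resolve_left (inv_ne_zero hab)
    set u := c⁻¹ • a + c⁻¹ • b + w with hu
    have hwa : β[Q] w a = 0 := by rw [polar_comm, hw1]
    have hwb : β[Q] w b = 0 := by rw [polar_comm, hw2']
    have hQu : Q u = 0 := by
      rw [hu, map_add, map_add, map_smul, map_smul, ha, hb, hw3]
      simp only [LinearMap.map_smul, LinearMap.map_add, LinearMap.add_apply, LinearMap.smul_apply,
        smul_eq_mul, hw1, hw2', ← hc]
      field_simp
      ring
    have hua : β[Q] u a = 1 := by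
      rw [hu]
      simp only [LinearMap.map_smul, LinearMap.map_add, LinearMap.add_apply, LinearMap.smul_apply,
        smul_eq_mul, polar_self, ha, hwa, polar_comm Q b a, ← hc]
      field_simp
      ring
    have hub : β[Q] u b = 1 := by
      rw [hu]
      simp only [LinearMap.map_smul, LinearMap.map_add, LinearMap.add_apply, LinearMap.smul_apply,
        smul_eq_mul, polar_self, hb, hwb, ← hc]
      field_simp
      ring
    have hy : β[Q] u (b - a) = 0 := by rw [LinearMap.map_sub, hua, hub, sub_self]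
    exact ⟨eichO hQu hy, eichO_mem _ _, eichO_move hQu ha hb hua hub hy⟩
  by_cases hee : β[Q] e e' = 0
  · obtain ⟨r, -, hre, hre'⟩ := CfsgLib.AltForm.exists_orthogonal_ne_zero_two hQ (polar_isRefl Q)
      (X := ⊥) (x := e) (y := e') (by simpa using he0) (by simpa using he0')
    set r' := r - (Q r / β[Q] r e) • e with hr'
    have h1 : Q r' = 0 := by
      rw [hr', map_sub, map_smul, he, LinearMap.map_smul, smul_eq_mul]
      field_simp
      simp
    have h2 : β[Q] e r' ≠ 0 := by
      rw [hr', LinearMap.map_sub, LinearMap.map_smul, polar_self, he, polar_comm Q e r]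
      simpa using hre
    have h3 : β[Q] r' e' ≠ 0 := by
      rw [hr', LinearMap.map_sub, LinearMap.map_smul, LinearMap.sub_apply, LinearMap.smul_apply,
        hee]
      simpa using hre'
    obtain ⟨g, hg, hg1⟩ := key e r' he h1 h2
    obtain ⟨h, hh, hh1⟩ := key r' e' h1 he' h3
    refine ⟨h * g, mul_mem hh hg, ?_⟩
    change h.1 (g.1 e) = e'
    rw [hg1, hh1]
  · exact key e e' he he' hee

/-- Siegel transformations are transitive on hyperbolic pairs. -/
theorem exists_eichG_pair {Q : QuadraticForm F V} (hQ : (β[Q]).Nondegenerate)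
    (hV : 4 ≤ finrank F V) {e f e' f' : V} (he : Q e = 0) (hf : Q f = 0) (hef : β[Q] e f = 1)
    (he' : Q e' = 0) (hf' : Q f' = 0) (hef' : β[Q] e' f' = 1) :
    ∃ g ∈ eichG Q, g.1 e = e' ∧ g.1 f = f' := by
  obtain ⟨g, hg, hge⟩ := exists_eichG_singular hQ hV
    (ne_zero_of_polar (Q := Q) (f := f) (by rw [hef]; exact one_ne_zero)) he
    (ne_zero_of_polar (Q := Q) (f := f') (by rw [hef']; exact one_ne_zero)) he'
  have h1 : Q (g.1 f) = 0 := by rw [map_coe, hf]
  have h2 : β[Q] e' (g.1 f) = 1 := by rw [← hge, polar_coe, hef]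
  have hy : β[Q] e' (f' - g.1 f) = 0 := by rw [LinearMap.map_sub, hef', h2, sub_self]
  refine ⟨eichO he' hy * g, mul_mem (eichO_mem _ _) hg, ?_, ?_⟩
  · change (eichO he' hy).1 (g.1 e) = e'
    rw [hge, eichO_apply, polar_self, he', polar_comm Q _ e', hy]
    simp
  · change (eichO he' hy).1 (g.1 f) = f'
    exact eichO_move he' h1 hf' h2 hef' hy

/-- Every nonzero vector is non-orthogonal to some singular vector. -/
lemma exists_singular_polar_ne {Q : QuadraticForm F V} (hQ : (β[Q]).Nondegenerate)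
    (hV : 3 ≤ finrank F V) {v : V} (hv : v ≠ 0) : ∃ e, Q e = 0 ∧ β[Q] e v ≠ 0 := by
  obtain ⟨e, he0, he⟩ := exists_singular hQ hV
  obtain ⟨f, hf, hef⟩ := exists_partner hQ he0 he
  by_cases h1 : β[Q] e v = 0
  swap
  · exact ⟨e, he, h1⟩
  by_cases h2 : β[Q] f v = 0
  swap
  · exact ⟨f, hf, h2⟩
  have hvm : v ∈ hperp Q e f := mem_hperp.mpr ⟨h1, h2⟩
  obtain ⟨y, hy⟩ : ∃ y : hperp Q e f, β[Q] y.1 v ≠ 0 := by
    by_contra hcon
    push Not at hcon
    have h3 := (resQ_hperp_nondegenerate hQ he hf hef).2 ⟨v, hvm⟩ hcon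
    exact hv (congrArg Subtype.val h3)
  have hy1 := (mem_hperp.mp y.2).1
  have hy2 := (mem_hperp.mp y.2).2
  refine ⟨f + y.1 - Q y.1 • e, ?_, ?_⟩
  · rw [map_sub, map_add, map_smul, he, hf, hy2]
    simp only [LinearMap.map_smul, LinearMap.map_add, LinearMap.add_apply, LinearMap.smul_apply,
      smul_eq_mul, polar_comm Q f e, hef, polar_comm Q y.1 e, hy1]
    ring
  · simp only [LinearMap.map_smul, LinearMap.map_add, LinearMap.map_sub, LinearMap.add_apply,
      LinearMap.sub_apply, LinearMap.smul_apply, smul_eq_mul, h1, h2]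
    simpa using hy

/-- Every nonsingular vector has the form `e + c f`. -/
lemma exists_pair_of_nonsingular {Q : QuadraticForm F V} (hQ : (β[Q]).Nondegenerate)
    (hV : 3 ≤ finrank F V) {v : V} (hv : Q v ≠ 0) :
    ∃ e f, Q e = 0 ∧ Q f = 0 ∧ β[Q] e f = 1 ∧ v = e + Q v • f := by
  have hv0 : v ≠ 0 := by rintro rfl; exact hv (QuadraticMap.map_zero Q)
  obtain ⟨e', he', hne⟩ := exists_singular_polar_ne hQ hV hv0
  set f := (β[Q] e' v)⁻¹ • e' with hf
  have hQf : Q f = 0 := by rw [hf, map_smul, he', mul_zero]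
  have hfv : β[Q] f v = 1 := by
    rw [hf, LinearMap.map_smul, LinearMap.smul_apply, smul_eq_mul, inv_mul_cancel₀ hne]
  clear_value f
  refine ⟨v - Q v • f, f, ?_, hQf, ?_, by abel⟩
  · rw [map_sub, map_smul, hQf, LinearMap.map_smul, polar_comm Q v f, hfv]
    simp
  · rw [polar_comm, LinearMap.map_sub, LinearMap.map_smul, polar_self, hQf, hfv]
    simp

/-- Siegel transformations are transitive on vectors of given nonzero value. -/
theorem exists_eichG_nonsingular {Q : QuadraticForm F V} (hQ : (β[Q]).Nondegenerate)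
    (hV : 4 ≤ finrank F V) {v w : V} (hv : Q v ≠ 0) (hvw : Q v = Q w) :
    ∃ g ∈ eichG Q, g.1 v = w := by
  obtain ⟨e, f, he, hf, hef, hv'⟩ := exists_pair_of_nonsingular hQ (by omega) hv
  obtain ⟨e', f', he', hf', hef', hw'⟩ := exists_pair_of_nonsingular hQ (by omega)
    (show Q w ≠ 0 by rw [← hvw]; exact hv)
  obtain ⟨g, hg, hge, hgf⟩ := exists_eichG_pair hQ hV he hf hef he' hf' hef'
  refine ⟨g, hg, ?_⟩
  rw [hv', _root_.map_add, _root_.map_smul, hge, hgf, hvw, ← hw']

/-- The quotient of the orthogonal group by the group of Siegel transformations is abelian. -/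
theorem commutator_le_eichG {Q : QuadraticForm F V} (hQ : (β[Q]).Nondegenerate)
    (hV : 4 ≤ finrank F V) : commutator (O Q) ≤ eichG Q := by
  have hN := eichG_normal Q
  -- reflections commute modulo `eichG`
  have h1 : ∀ (v w : V) (hv : Q v ≠ 0) (hw : Q w ≠ 0),
      QuotientGroup.mk' (eichG Q) (reflO hv) * QuotientGroup.mk' (eichG Q) (reflO hw) =
      QuotientGroup.mk' (eichG Q) (reflO hw) * QuotientGroup.mk' (eichG Q) (reflO hv) := by
    intro v w hv hw
    obtain ⟨w', hvw', hw'⟩ := exists_orthogonal_map_eq hQ (by omega) hv (Q w)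
    have hw'0 : Q w' ≠ 0 := by rw [hw']; exact hw
    obtain ⟨g, hg, hgw⟩ := exists_eichG_nonsingular hQ hV hw'0 hw'
    have h2 : QuotientGroup.mk' (eichG Q) (reflO hw) =
        QuotientGroup.mk' (eichG Q) (reflO hw'0) := by
      have h3 := reflO_conj g hw'0
      have h4 : g * reflO hw'0 * g⁻¹ = reflO hw := by
        rw [h3]
        congr 1
      rw [← h4, _root_.map_mul, _root_.map_mul]
      have h5 : QuotientGroup.mk' (eichG Q) g = 1 := (QuotientGroup.eq_one_iff g).mpr hg
      rw [_root_.map_inv, h5, one_mul, inv_one, mul_one]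
    rw [h2, ← _root_.map_mul, ← _root_.map_mul]
    congr 1
    -- orthogonal reflections commute
    have h6 := reflO_conj (reflO hv) hw'0
    have h7 : reflO hv * reflO hw'0 * (reflO hv)⁻¹ = reflO hw'0 := by
      rw [h6]
      congr 1
      exact reflO_of_orthogonal hv hvw'
    exact mul_inv_eq_iff_eq_mul.mp h7
  have h2 : ∀ (v : V) (hv : Q v ≠ 0) (g : O Q),
      QuotientGroup.mk' (eichG Q) (reflO hv) * QuotientGroup.mk' (eichG Q) g =
      QuotientGroup.mk' (eichG Q) g * QuotientGroup.mk' (eichG Q) (reflO hv) := by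
    intro v hv
    have h3 : (Subgroup.centralizer {QuotientGroup.mk' (eichG Q) (reflO hv)}).comap
        (QuotientGroup.mk' (eichG Q)) = ⊤ := by
      apply eq_top_of_reflO_eichO hQ
      · intro w hw
        rw [Subgroup.mem_comap, Subgroup.mem_centralizer_singleton_iff]
        exact (h1 v w hv hw).symm
      · intro u y hu huy
        rw [Subgroup.mem_comap, show QuotientGroup.mk' (eichG Q) (eichO hu huy) = 1 from
          (QuotientGroup.eq_one_iff _).mpr (eichO_mem hu huy)]
        exact one_mem _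
    intro g
    have h4 : g ∈ (Subgroup.centralizer {QuotientGroup.mk' (eichG Q) (reflO hv)}).comap
        (QuotientGroup.mk' (eichG Q)) := by rw [h3]; trivial
    rw [Subgroup.mem_comap, Subgroup.mem_centralizer_singleton_iff] at h4
    exact h4.symm
  have h3 : (Subgroup.center (O Q ⧸ eichG Q)).comap (QuotientGroup.mk' (eichG Q)) = ⊤ := by
    apply eq_top_of_reflO_eichO hQ
    · intro w hw
      rw [Subgroup.mem_comap, Subgroup.mem_center_iff]
      intro x
      obtain ⟨g, rfl⟩ := QuotientGroup.mk'_surjective _ x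
      exact (h2 w hw g).symm
    · intro u y hu huy
      rw [Subgroup.mem_comap, show QuotientGroup.mk' (eichG Q) (eichO hu huy) = 1 from
        (QuotientGroup.eq_one_iff _).mpr (eichO_mem hu huy)]
      exact one_mem _
  rw [commutator_eq_closure, Subgroup.closure_le]
  rintro _ ⟨a, b, rfl⟩
  have ha : a ∈ (Subgroup.center (O Q ⧸ eichG Q)).comap (QuotientGroup.mk' (eichG Q)) := by
    rw [h3]; trivial
  rw [Subgroup.mem_comap, Subgroup.mem_center_iff] at ha
  change ⁅a, b⁆ ∈ eichG Q
  rw [← QuotientGroup.eq_one_iff]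
  change QuotientGroup.mk' (eichG Q) ⁅a, b⁆ = 1
  rw [map_commutatorElement, commutatorElement_eq_one_iff_mul_comm]
  exact (ha _).symm

end Fin

/-- Siegel transformations are commutators in the orthogonal group if there are at least three
scalars. -/
theorem eichO_mem_commutatorSet {Q : QuadraticForm F V} (hQ : (β[Q]).Nondegenerate)
    {t : F} (ht0 : t ≠ 0) (ht1 : t ≠ 1) {u y : V} (hu : Q u = 0) (huy : β[Q] u y = 0) :
    eichO hu huy ∈ commutatorSet (O Q) := by
  by_cases hu0 : u = 0
  · refine ⟨1, 1, ?_⟩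
    rw [commutatorElement_one_left]
    symm
    apply O_ext
    intro x
    rw [eichO_apply, hu0]
    simp
  obtain ⟨f, hf, huf⟩ := exists_partner hQ hu0 hu
  -- replace `y` by a vector orthogonal to `f`
  set y' := y - β[Q] f y • u with hy'
  have huy' : β[Q] u y' = 0 := by
    rw [hy', LinearMap.map_sub, LinearMap.map_smul, polar_self, hu, huy]; simp
  have hfy' : β[Q] f y' = 0 := by
    rw [hy', LinearMap.map_sub, LinearMap.map_smul, polar_comm Q f u, huf]; simp
  have e1 : eichO hu huy' = eichO hu huy := by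
    have hs : β[Q] u ((β[Q] f y) • u) = 0 := by rw [LinearMap.map_smul, polar_self, hu]; simp
    have hs' : β[Q] u (y' + (β[Q] f y) • u) = 0 := by rw [LinearMap.map_add, huy', hs, add_zero]
    have h1 := eichO_mul hu huy' hs hs'
    rw [eichO_eq_one, mul_one] at h1
    rw [h1]
    congr 1
    rw [hy']; abel
  have htc : t - 1 ≠ 0 := sub_ne_zero.mpr ht1
  set z := (t - 1)⁻¹ • y' with hz
  have huz : β[Q] u z = 0 := by rw [hz, LinearMap.map_smul, huy', smul_zero]
  have hfz : β[Q] f z = 0 := by rw [hz, LinearMap.map_smul, hfy', smul_zero]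
  -- the scaling element
  have hr1 : Q (u - t⁻¹ • f) ≠ 0 := by
    rw [map_sub, map_smul, hu, hf, LinearMap.map_smul, huf]
    simpa using ht0
  have hr2 : Q (u - f) ≠ 0 := by
    rw [map_sub, hu, hf, huf]
    simp
  set h := reflO hr1 * reflO hr2 with hh
  have hhu : h.1 u = t • u := by
    rw [hh, exists_hscale hu hf huf ht0, polar_self, hu, polar_comm Q f u, huf]
    module
  have hhz : h.1 z = z := by
    rw [hh, exists_hscale hu hf huf ht0, huz, hfz]
    simp
  refine ⟨h, eichO hu huz, ?_⟩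
  rw [← e1, commutatorElement_def, eichO_conj]
  rw [mul_inv_eq_iff_eq_mul]
  apply O_ext
  intro x
  change _ = (eichO hu huy').1 ((eichO hu huz).1 x)
  have hyz : β[Q] u (y' + z) = 0 := by rw [LinearMap.map_add, huy', huz, add_zero]
  rw [show (eichO hu huy').1 ((eichO hu huz).1 x) = (eichO hu hyz).1 x from
    eichT_eichT Q hu huy' huz x]
  rw [eichO_apply, eichO_apply, hhu, hhz]
  have h5 : y' = (t - 1) • z := by rw [hz, smul_smul, mul_inv_cancel₀ htc, one_smul]
  rw [h5]
  have h6 : (t - 1) • z + z = t • z := by module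
  rw [h6]
  simp only [LinearMap.map_smul, LinearMap.smul_apply, smul_eq_mul, map_smul]
  module

theorem eichG_le_commutator {Q : QuadraticForm F V} (hQ : (β[Q]).Nondegenerate)
    {t : F} (ht0 : t ≠ 0) (ht1 : t ≠ 1) : eichG Q ≤ commutator (O Q) := by
  rw [eichG, Subgroup.closure_le]
  rintro _ ⟨u, y, hu, huy, rfl⟩
  rw [commutator_eq_closure]
  exact Subgroup.subset_closure (eichO_mem_commutatorSet hQ ht0 ht1 hu huy)

end CfsgLib.Quad
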