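import Cfsg.Agent.Lib.Quad10
import Cfsg.Agent.Lib.AltForm4

/-!
# Quadratic forms XI: perfectness, primitivity and simplicity of `Ω`
-/

namespace CfsgLib.Quad

open Module CfsgLib.IsomDecomp Cfsg
open scoped commutatorElement LinearAlgebra.Projectivization Pointwise

set_option linter.unusedSimpArgs false
set_option linter.unusedSectionVars false

variable {F V : Type*} [Field F] [AddCommGroup V] [Module F V] [FiniteDimensional F V]

local notation "β[" Q "]" => QuadraticMap.polarBilin Q

lemma eichO_congr {Q : QuadraticForm F V} {u u' y y' : V} (hu : Q u = 0) (huy : β[Q] u y = 0)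
    (hu' : Q u' = 0) (huy' : β[Q] u' y' = 0) (h1 : u = u') (h2 : y = y') :
    eichO hu huy = eichO hu' huy' := by
  subst h1 h2
  rfl

/-- Singular vectors span. -/
lemma span_singular [Finite F] {Q : QuadraticForm F V} (hQ : (β[Q]).Nondegenerate)
    (hV : 3 ≤ finrank F V) : Submodule.span F {v | Q v = 0} = ⊤ := by
  by_contra hne
  have h1 : LinearMap.BilinForm.orthogonal (β[Q]) (Submodule.span F {v | Q v = 0}) ≠ ⊥ := by
    intro h
    have h2 := LinearMap.BilinForm.finrank_orthogonal hQ (Submodule.span F {v | Q v = 0})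
    rw [h, finrank_bot] at h2
    have h3 := Submodule.finrank_lt hne
    omega
  obtain ⟨v, hv, hv0⟩ := Submodule.exists_mem_ne_zero_of_ne_bot h1
  obtain ⟨e, he, hne'⟩ := exists_singular_polar_ne hQ hV hv0
  exact hne' (mem_orth.mp hv e (Submodule.subset_span he))

/-- A subgroup containing all Siegel transformations with singular vectors contains `eichG`. -/
theorem eichG_le_of_singular [Finite F] {Q : QuadraticForm F V} (hQ : (β[Q]).Nondegenerate)
    (hV : 5 ≤ finrank F V) (G : Subgroup (O Q))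
    (hG : ∀ (u y : V) (hu : Q u = 0) (_ : Q y = 0) (huy : β[Q] u y = 0), eichO hu huy ∈ G) :
    eichG Q ≤ G := by
  rw [eichG, Subgroup.closure_le]
  rintro _ ⟨u, y, hu, huy, rfl⟩
  by_cases hu0 : u = 0
  · subst hu0
    have : eichO hu huy = 1 := by
      apply O_ext
      intro x
      rw [eichO_apply]
      simp
    rw [this]
    exact one_mem _
  obtain ⟨f, hf, huf⟩ := exists_partner hQ hu0 hu
  -- vectors of `hperp u f`
  have key : ∀ z : hperp Q u f, ∀ a : F, eichO hu (y := a • z.1)
      (by rw [LinearMap.map_smul, (mem_hperp.mp z.2).1, smul_zero]) ∈ G := by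
    intro z
    have hz : z ∈ Submodule.span F {v : hperp Q u f | resQ Q (hperp Q u f) v = 0} := by
      rw [span_singular (resQ_hperp_nondegenerate hQ hu hf huf)
        (by have := finrank_hperp hQ hu hf huf; omega)]
      trivial
    induction hz using Submodule.span_induction with
    | mem z hz =>
      intro a
      apply hG
      rw [map_smul]
      have : Q z.1 = 0 := hz
      rw [this, mul_zero]
    | zero =>
      intro a
      have : eichO hu (y := a • ((0 : hperp Q u f) : V))
          (by rw [Submodule.coe_zero, smul_zero, LinearMap.map_zero]) = 1 := by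
        apply O_ext
        intro x
        rw [eichO_apply]
        simp
      rw [this]
      exact one_mem _
    | add x y _ _ hx hy =>
      intro a
      have h1 := mul_mem (hx a) (hy a)
      rw [eichO_mul hu _ _ (by
        rw [← smul_add, LinearMap.map_smul, LinearMap.map_add, (mem_hperp.mp x.2).1,
          (mem_hperp.mp y.2).1]
        simp)] at h1
      rw [eichO_congr hu _ hu _ rfl (show a • ((x + y : hperp Q u f) : V) = a • x.1 + a • y.1 by
        rw [Submodule.coe_add, smul_add])]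
      exact h1
    | smul b x _ hx =>
      intro a
      have h1 := hx (a * b)
      rw [eichO_congr hu _ hu _ rfl (show a • ((b • x : hperp Q u f) : V) = (a * b) • x.1 by
        rw [Submodule.coe_smul, smul_smul])]
      exact h1
  -- reduce `y` modulo `u`
  set y' := y - β[Q] f y • u with hy'
  have huy' : β[Q] u y' = 0 := by
    rw [hy', LinearMap.map_sub, LinearMap.map_smul, polar_self, hu, huy]; simp
  have hfy' : β[Q] f y' = 0 := by
    rw [hy', LinearMap.map_sub, LinearMap.map_smul, polar_comm Q f u, huf]; simp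
  have e1 : eichO hu huy' = eichO hu huy := by
    have hs : β[Q] u ((β[Q] f y) • u) = 0 := by rw [LinearMap.map_smul, polar_self, hu]; simp
    have hs' : β[Q] u (y' + (β[Q] f y) • u) = 0 := by rw [LinearMap.map_add, huy', hs, add_zero]
    have h1 := eichO_mul hu huy' hs hs'
    rw [eichO_eq_one, mul_one] at h1
    rw [h1]
    exact eichO_congr _ _ _ _ rfl (by rw [hy']; abel)
  have h2 := key ⟨y', mem_hperp.mpr ⟨huy', hfy'⟩⟩ 1
  have h3 : eichO hu huy' ∈ G := by
    rw [eichO_congr hu huy' hu (by rw [one_smul]; exact huy') rfl (one_smul F y').symm]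
    exact h2
  rw [e1] at h3
  exact h3

/-- The commutator relation for Siegel transformations. -/
lemma eichO_commutator {Q : QuadraticForm F V} {e₁ e₂ f₂ w : V} (he₁ : Q e₁ = 0) (he₂ : Q e₂ = 0)
    (hf₂ : Q f₂ = 0) (hw : Q w = 0) (h12 : β[Q] e₁ e₂ = 0) (h1f : β[Q] e₁ f₂ = 0)
    (h1w : β[Q] e₁ w = 0) (h2f : β[Q] e₂ f₂ = 1) (h2w : β[Q] e₂ w = 0) (hfw : β[Q] f₂ w = 0)
    (h1w' : β[Q] e₁ (-w) = 0) :
    ⁅eichO he₁ h1f, eichO he₂ h2w⁆ = eichO he₁ h1w' := by
  rw [commutatorElement_def, eichO_conj, mul_inv_eq_iff_eq_mul]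
  apply O_ext
  intro x
  have hg1 : (eichO he₁ h1f).1 e₂ = e₂ - e₁ := by
    rw [eichO_apply, h12, polar_comm Q f₂ e₂, h2f]
    module
  have hg2 : (eichO he₁ h1f).1 w = w := by
    rw [eichO_apply, h1w, hfw]
    module
  change _ = (eichO he₁ h1w').1 ((eichO he₂ h2w).1 x)
  rw [eichO_apply, hg1, hg2, eichO_apply, eichO_apply]
  simp only [LinearMap.map_add, LinearMap.map_smul, LinearMap.map_neg, LinearMap.neg_apply,
    LinearMap.map_sub, LinearMap.sub_apply, smul_eq_mul, hw, QuadraticMap.map_neg, h1w, h12,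
    polar_self, polar_comm Q w e₂, h2w, polar_comm Q w e₁]
  match_scalars <;> ring

section Fin

variable [Finite F]

/-- In dimension at least seven the Siegel group is perfect. -/
theorem eichG_le_commutator_self {Q : QuadraticForm F V} (hQ : (β[Q]).Nondegenerate)
    (hV : 7 ≤ finrank F V) : eichG Q ≤ ⁅eichG Q, eichG Q⁆ := by
  apply eichG_le_of_singular hQ (by omega)
  intro u y hu hy huy
  by_cases hu0 : u = 0
  · subst hu0
    have : eichO hu huy = 1 := by
      apply O_ext
      intro x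
      rw [eichO_apply]
      simp
    rw [this]
    exact one_mem _
  obtain ⟨f, hf, huf⟩ := exists_partner hQ hu0 hu
  set y' := y - β[Q] f y • u with hy'
  have huy' : β[Q] u y' = 0 := by
    rw [hy', LinearMap.map_sub, LinearMap.map_smul, polar_self, hu, huy]; simp
  have hfy' : β[Q] f y' = 0 := by
    rw [hy', LinearMap.map_sub, LinearMap.map_smul, polar_comm Q f u, huf]; simp
  have hQy' : Q y' = 0 := by
    rw [hy', map_sub, map_smul, hu, hy, LinearMap.map_smul, polar_comm Q y u, huy]
    simp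
  have e1 : eichO hu huy' = eichO hu huy := by
    have hs : β[Q] u ((β[Q] f y) • u) = 0 := by rw [LinearMap.map_smul, polar_self, hu]; simp
    have hs' : β[Q] u (y' + (β[Q] f y) • u) = 0 := by rw [LinearMap.map_add, huy', hs, add_zero]
    have h1 := eichO_mul hu huy' hs hs'
    rw [eichO_eq_one, mul_one] at h1
    rw [h1]
    exact eichO_congr _ _ _ _ rfl (by rw [hy']; abel)
  rw [← e1]
  by_cases hy0 : y' = 0
  · have : eichO hu huy' = 1 := by
      apply O_ext
      intro x
      rw [eichO_apply, hy0]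
      simp
    rw [this]
    exact one_mem _
  -- work inside `hperp u f`
  have hN := resQ_hperp_nondegenerate hQ hu hf huf
  have hdim := finrank_hperp hQ hu hf huf
  set W := hperp Q u f with hW
  let yW : W := ⟨y', mem_hperp.mpr ⟨huy', hfy'⟩⟩
  have hyW0 : yW ≠ 0 := fun h => hy0 (congrArg Subtype.val h)
  obtain ⟨z, hz, hyz⟩ := exists_partner hN hyW0 hQy'
  obtain ⟨e₂, f₂, he₂m, hf₂m, he₂, hf₂, hef₂⟩ := exists_second_pair hN (e := yW) (f := z) hQy' hz hyz
    (by omega)
  have h1 := mem_hperp.mp he₂m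
  have h2 := mem_hperp.mp hf₂m
  have h3 := mem_hperp.mp e₂.2
  have h4 := mem_hperp.mp f₂.2
  have hnw : Q (-y') = 0 := by rw [QuadraticMap.map_neg, hQy']
  have h5 := eichO_commutator (Q := Q) (e₁ := u) (e₂ := e₂.1) (f₂ := f₂.1) (w := -y') hu he₂ hf₂ hnw
    h3.1 h4.1 (by rw [LinearMap.map_neg, huy', neg_zero]) hef₂
    (by
      rw [LinearMap.map_neg, neg_eq_zero, polar_comm]
      exact h1.1) (by
      rw [LinearMap.map_neg, neg_eq_zero, polar_comm]
      exact h2.1) (by rw [neg_neg]; exact huy')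
  rw [eichO_congr hu huy' hu (by rw [neg_neg]; exact huy') rfl (neg_neg y').symm, ← h5]
  exact Subgroup.commutator_mem_commutator (eichO_mem _ _) (eichO_mem _ _)

theorem commutator_eq_eichG {Q : QuadraticForm F V} (hQ : (β[Q]).Nondegenerate)
    (hV : 7 ≤ finrank F V) : commutator (O Q) = eichG Q := by
  apply le_antisymm (commutator_le_eichG hQ (by omega))
  refine (eichG_le_commutator_self hQ hV).trans ?_
  rw [commutator_def]
  exact Subgroup.commutator_mono le_top le_top

/-- Lifting from the complement of a hyperbolic pair. -/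
lemma exists_lift_eichG {Q : QuadraticForm F V} {e f : V}
    (g : O (resQ Q (hperp Q e f))) (hg : g ∈ eichG (resQ Q (hperp Q e f))) :
    ∃ h ∈ eichG Q, h.1 e = e ∧ h.1 f = f ∧ ∀ w : hperp Q e f, h.1 w.1 = (g.1 w).1 := by
  induction hg using Subgroup.closure_induction with
  | mem g hg =>
    obtain ⟨u, y, hu, huy, rfl⟩ := hg
    have hu' : Q u.1 = 0 := hu
    have huy' : β[Q] u.1 y.1 = 0 := huy
    refine ⟨eichO hu' huy', eichO_mem _ _, ?_, ?_, ?_⟩
    · rw [eichO_apply, polar_comm Q u.1 e, polar_comm Q y.1 e, (mem_hperp.mp u.2).1,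
        (mem_hperp.mp y.2).1]
      simp
    · rw [eichO_apply, polar_comm Q u.1 f, polar_comm Q y.1 f, (mem_hperp.mp u.2).2,
        (mem_hperp.mp y.2).2]
      simp
    · intro w
      rw [eichO_apply, eichO_apply]
      rfl
  | one => exact ⟨1, one_mem _, rfl, rfl, fun w => rfl⟩
  | mul g₁ g₂ _ _ h₁ h₂ =>
    obtain ⟨k₁, hk₁, a₁, b₁, c₁⟩ := h₁
    obtain ⟨k₂, hk₂, a₂, b₂, c₂⟩ := h₂
    refine ⟨k₁ * k₂, mul_mem hk₁ hk₂, ?_, ?_, ?_⟩
    · change k₁.1 (k₂.1 e) = e
      rw [a₂, a₁]
    · change k₁.1 (k₂.1 f) = f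
      rw [b₂, b₁]
    · intro w
      change k₁.1 (k₂.1 w.1) = (g₁.1 (g₂.1 w)).1
      rw [c₂, c₁]
  | inv g _ h =>
    obtain ⟨k, hk, a, b, c⟩ := h
    refine ⟨k⁻¹, inv_mem hk, ?_, ?_, ?_⟩
    · change k.1.symm e = e
      rw [LinearEquiv.symm_apply_eq, a]
    · change k.1.symm f = f
      rw [LinearEquiv.symm_apply_eq, b]
    · intro w
      change k.1.symm w.1 = (g.1.symm w).1
      rw [LinearEquiv.symm_apply_eq, c, g.1.apply_symm_apply]

/-- A partner orthogonal to a given vector. -/
lemma exists_partner_orthogonal {Q : QuadraticForm F V} (hQ : (β[Q]).Nondegenerate) {u v : V}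
    (hli : LinearIndependent F ![u, v]) (hu : Q u = 0) (hv : Q v = 0) (huv : β[Q] u v = 0) :
    ∃ f, Q f = 0 ∧ β[Q] u f = 1 ∧ β[Q] f v = 0 := by
  have hu' : u ∉ (F ∙ v) := by
    intro h
    obtain ⟨a, ha⟩ := Submodule.mem_span_singleton.mp h
    have := LinearIndependent.pair_iff.mp hli 1 (-a) (by rw [one_smul, ← ha]; module)
    exact one_ne_zero this.1
  obtain ⟨r, hr, hru⟩ := CfsgLib.AltForm.exists_orthogonal_ne_zero hQ (polar_isRefl Q) hu'
  rw [LinearMap.BilinForm.mem_orthogonal_iff] at hr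
  have hvr : β[Q] v r = 0 := hr v (Submodule.mem_span_singleton_self v)
  set f₀ := (β[Q] r u)⁻¹ • r with hf₀
  have h1 : β[Q] u f₀ = 1 := by
    rw [hf₀, LinearMap.map_smul, smul_eq_mul, polar_comm Q u r, inv_mul_cancel₀ hru]
  have h2 : β[Q] v f₀ = 0 := by rw [hf₀, LinearMap.map_smul, hvr, smul_zero]
  clear_value f₀
  refine ⟨f₀ - Q f₀ • u, ?_, ?_, ?_⟩
  · rw [map_sub, map_smul, hu, LinearMap.map_smul, polar_comm Q f₀ u, h1]
    simp
  · rw [LinearMap.map_sub, LinearMap.map_smul, polar_self, hu, h1]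
    simp
  · rw [polar_comm, LinearMap.map_sub, LinearMap.map_smul, h2, polar_comm Q v u, huv]
    simp

/-- Transitivity on orthogonal pairs of singular vectors. -/
theorem exists_eichG_orthogonal {Q : QuadraticForm F V} (hQ : (β[Q]).Nondegenerate)
    (hV : 6 ≤ finrank F V) {u v u' v' : V} (hli : LinearIndependent F ![u, v])
    (hli' : LinearIndependent F ![u', v'])
    (hu : Q u = 0) (hv : Q v = 0) (huv : β[Q] u v = 0)
    (hu' : Q u' = 0) (hv' : Q v' = 0) (huv' : β[Q] u' v' = 0) :
    ∃ g ∈ eichG Q, g.1 u = u' ∧ g.1 v = v' := by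
  obtain ⟨f, hf, huf, hfv⟩ := exists_partner_orthogonal hQ hli hu hv huv
  obtain ⟨f', hf', huf', hfv'⟩ := exists_partner_orthogonal hQ hli' hu' hv' huv'
  obtain ⟨g, hg, hgu, hgf⟩ := exists_eichG_pair hQ (by omega) hu hf huf hu' hf' huf'
  have hN := resQ_hperp_nondegenerate hQ hu' hf' huf'
  have hdim := finrank_hperp hQ hu' hf' huf'
  have h1 : g.1 v ∈ hperp Q u' f' := mem_hperp.mpr
    ⟨by rw [← hgu, polar_coe, huv], by rw [← hgf, polar_coe, hfv]⟩
  have h2 : v' ∈ hperp Q u' f' := mem_hperp.mpr ⟨huv', hfv'⟩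
  have hv0 : v ≠ 0 := by
    rintro rfl
    have := LinearIndependent.pair_iff.mp hli 0 1 (by simp)
    exact one_ne_zero this.2
  have hv0' : v' ≠ 0 := by
    rintro rfl
    have := LinearIndependent.pair_iff.mp hli' 0 1 (by simp)
    exact one_ne_zero this.2
  obtain ⟨k, hk, hkv⟩ := exists_eichG_singular hN (by omega) (e := ⟨g.1 v, h1⟩) (e' := ⟨v', h2⟩)
    (fun h => hv0 (by
      have h3 := congrArg Subtype.val h
      exact (LinearEquiv.map_eq_zero_iff g.1).mp h3)) (by
      change Q (g.1 v) = 0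
      rw [map_coe, hv]) (fun h => hv0' (congrArg Subtype.val h)) hv'
  obtain ⟨h, hh, hhu, hhf, hhw⟩ := exists_lift_eichG k hk
  refine ⟨h * g, mul_mem hh hg, ?_, ?_⟩
  · change h.1 (g.1 u) = u'
    rw [hgu, hhu]
  · change h.1 (g.1 v) = v'
    have := hhw ⟨g.1 v, h1⟩
    rw [hkv] at this
    exact this

end Fin

end CfsgLib.Quad
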