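import Cfsg.Agent.Lib.Quad11

/-!
# Quadratic forms XII: action on singular points and simplicity of `PΩ`
-/

namespace CfsgLib.Quad

open Module CfsgLib.IsomDecomp Cfsg
open scoped commutatorElement LinearAlgebra.Projectivization Pointwise

set_option linter.unusedSimpArgs false
set_option linter.unusedSectionVars false

variable {F V : Type*} [Field F] [AddCommGroup V] [Module F V] [FiniteDimensional F V]

local notation "β[" Q "]" => QuadraticMap.polarBilin Q

/-- The `O Q`-stable set of singular points. -/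
def spSet (Q : QuadraticForm F V) : SubMulAction (O Q) (ℙ F V) where
  carrier := {x | ∃ (v : V) (hv : v ≠ 0), Q v = 0 ∧ x = Projectivization.mk F v hv}
  smul_mem' := by
    rintro g _ ⟨v, hv, hQ, rfl⟩
    refine ⟨g.1 v, (LinearEquiv.map_ne_zero_iff _).mpr hv, ?_, rfl⟩
    rw [map_coe, hQ]

/-- The point of a singular vector. -/
def spMk (Q : QuadraticForm F V) {v : V} (hv : v ≠ 0) (h : Q v = 0) : spSet Q :=
  ⟨Projectivization.mk F v hv, v, hv, h, rfl⟩

lemma smul_spMk {Q : QuadraticForm F V} (g : O Q) {v : V} (hv : v ≠ 0) (h : Q v = 0) :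
    g • spMk Q hv h = spMk Q (v := g.1 v) ((LinearEquiv.map_ne_zero_iff _).mpr hv)
      (by rw [map_coe, h]) := rfl

lemma spMk_eq_iff {Q : QuadraticForm F V} {v w : V} (hv : v ≠ 0) (h : Q v = 0) (hw : w ≠ 0)
    (h' : Q w = 0) : spMk Q hv h = spMk Q hw h' ↔ ∃ a : F, a • w = v := by
  rw [Subtype.ext_iff]
  exact Projectivization.mk_eq_mk_iff' F v w hv hw

lemma exists_spMk {Q : QuadraticForm F V} (x : spSet Q) : ∃ (v : V) (hv : v ≠ 0) (h : Q v = 0),
    x = spMk Q hv h := by
  obtain ⟨x, v, hv, h, rfl⟩ := x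
  exact ⟨v, hv, h, rfl⟩

lemma linearIndependent_of_spMk_ne {Q : QuadraticForm F V} {v w : V} (hv : v ≠ 0) (h : Q v = 0)
    (hw : w ≠ 0) (h' : Q w = 0) (hne : spMk Q hv h ≠ spMk Q hw h') :
    LinearIndependent F ![v, w] := by
  rw [← CfsgLib.AltForm.mk_ne_mk_iff hv hw]
  intro h1
  exact hne (Subtype.ext h1)

section Fin

variable [Finite F]

/-- The Siegel group is primitive on singular points. -/
theorem isPreprimitive_spSet {Q : QuadraticForm F V} (hQ : (β[Q]).Nondegenerate)
    (hV : 6 ≤ finrank F V) : MulAction.IsPreprimitive (eichG Q) (spSet Q) := by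
  have hpt : MulAction.IsPretransitive (eichG Q) (spSet Q) := by
    refine ⟨fun x y => ?_⟩
    obtain ⟨v, hv, h, rfl⟩ := exists_spMk x
    obtain ⟨w, hw, h', rfl⟩ := exists_spMk y
    obtain ⟨g, hg, hgv⟩ := exists_eichG_singular hQ (by omega) hv h hw h'
    refine ⟨⟨g, hg⟩, ?_⟩
    change g • spMk Q hv h = _
    rw [smul_spMk, spMk_eq_iff]
    exact ⟨1, by rw [one_smul, hgv]⟩
  have orb1 : ∀ {u v u' v' : V} (hu : u ≠ 0) (hv : v ≠ 0) (hu' : u' ≠ 0) (hv' : v' ≠ 0)
      (su : Q u = 0) (sv : Q v = 0) (su' : Q u' = 0) (sv' : Q v' = 0),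
      β[Q] u v ≠ 0 → β[Q] u' v' ≠ 0 → ∃ g : eichG Q,
        g • spMk Q hu su = spMk Q hu' su' ∧ g • spMk Q hv sv = spMk Q hv' sv' := by
    intro u v u' v' hu hv hu' hv' su sv su' sv' h h'
    have e1 : β[Q] u ((β[Q] u v)⁻¹ • v) = 1 := by
      rw [LinearMap.map_smul, smul_eq_mul, inv_mul_cancel₀ h]
    have e2 : β[Q] u' ((β[Q] u' v')⁻¹ • v') = 1 := by
      rw [LinearMap.map_smul, smul_eq_mul, inv_mul_cancel₀ h']
    obtain ⟨g, hg, hgu, hgv⟩ := exists_eichG_pair hQ (by omega) su
      (by rw [map_smul, sv, mul_zero]) e1 su' (by rw [map_smul, sv', mul_zero]) e2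
    refine ⟨⟨g, hg⟩, ?_, ?_⟩
    · change g • spMk Q hu su = _
      rw [smul_spMk, spMk_eq_iff]
      exact ⟨1, by rw [one_smul, hgu]⟩
    · change g • spMk Q hv sv = _
      rw [smul_spMk, spMk_eq_iff]
      refine ⟨β[Q] u v * (β[Q] u' v')⁻¹, ?_⟩
      rw [mul_smul, ← hgv, _root_.map_smul, smul_smul, mul_inv_cancel₀ h, one_smul]
  have orb2 : ∀ {u v u' v' : V} (hu : u ≠ 0) (hv : v ≠ 0) (hu' : u' ≠ 0) (hv' : v' ≠ 0)
      (su : Q u = 0) (sv : Q v = 0) (su' : Q u' = 0) (sv' : Q v' = 0),
      β[Q] u v = 0 → β[Q] u' v' = 0 → LinearIndependent F ![u, v] →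
      LinearIndependent F ![u', v'] → ∃ g : eichG Q,
        g • spMk Q hu su = spMk Q hu' su' ∧ g • spMk Q hv sv = spMk Q hv' sv' := by
    intro u v u' v' hu hv hu' hv' su sv su' sv' h h' hli hli'
    obtain ⟨g, hg, hgu, hgv⟩ := exists_eichG_orthogonal hQ hV hli hli' su sv h su' sv' h'
    refine ⟨⟨g, hg⟩, ?_, ?_⟩
    · change g • spMk Q hu su = _
      rw [smul_spMk, spMk_eq_iff]
      exact ⟨1, by rw [one_smul, hgu]⟩
    · change g • spMk Q hv sv = _
      rw [smul_spMk, spMk_eq_iff]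
      exact ⟨1, by rw [one_smul, hgv]⟩
  refine ⟨fun {S} hS => ?_⟩
  by_cases hsub : S.Subsingleton
  · exact Or.inl hsub
  right
  have hmove : ∀ {g : eichG Q} {x y : spSet Q}, x ∈ S → y ∈ S → g • x ∈ S → g • y ∈ S := by
    intro g x y hx hy hgx
    have h1 : g • S = S := by
      rcases hS.smul_eq_smul_or_disjoint g 1 with h | h
      · rw [one_smul] at h; exact h
      · rw [one_smul] at h
        exact absurd hgx (fun hh => Set.disjoint_left.mp h ⟨x, hx, rfl⟩ hh)
    rw [← h1]
    exact ⟨y, hy, rfl⟩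
  rw [Set.not_subsingleton_iff] at hsub
  obtain ⟨x, hx, y, hy, hxy⟩ := hsub
  obtain ⟨u, hu, su, rfl⟩ := exists_spMk x
  obtain ⟨v, hv, sv, rfl⟩ := exists_spMk y
  rw [Set.eq_univ_iff_forall]
  intro z
  obtain ⟨w, hw, sw, rfl⟩ := exists_spMk z
  by_cases huv : β[Q] u v = 0
  · have hli := linearIndependent_of_spMk_ne hu su hv sv hxy
    have step : ∀ {a b : V} (ha : a ≠ 0) (hb : b ≠ 0) (sa : Q a = 0) (sb : Q b = 0),
        β[Q] a b = 0 → spMk Q ha sa ∈ S → spMk Q hb sb ∈ S := by
      intro a b ha hb sa sb hab haS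
      by_cases hne : spMk Q ha sa = spMk Q hb sb
      · rwa [← hne]
      · obtain ⟨g, hg1, hg2⟩ := orb2 hu hv ha hb su sv sa sb huv hab hli
          (linearIndependent_of_spMk_ne ha sa hb sb hne)
        rw [← hg2]
        exact hmove hx hy (by rw [hg1]; exact haS)
    by_cases huw : β[Q] u w = 0
    · exact step hu hw su sw huw hx
    · -- a hyperbolic pair
      have e1 : β[Q] u ((β[Q] u w)⁻¹ • w) = 1 := by
        rw [LinearMap.map_smul, smul_eq_mul, inv_mul_cancel₀ huw]
      obtain ⟨t, t', ht, -, st, -, htt'⟩ := exists_second_pair hQ su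
        (f := (β[Q] u w)⁻¹ • w) (by rw [map_smul, sw, mul_zero]) e1 (by omega)
      have ht0 : t ≠ 0 := ne_zero_of_polar (Q := Q) (f := t') (by rw [htt']; exact one_ne_zero)
      have h1 := mem_hperp.mp ht
      have h2 : β[Q] w t = 0 := by
        have h3 := h1.2
        rw [LinearMap.map_smul, LinearMap.smul_apply, smul_eq_mul] at h3
        exact (mul_eq_zero.mp h3).resolve_left (inv_ne_zero huw)
      exact step ht0 hw st sw (by rw [polar_comm, h2]) (step hu ht0 su st h1.1 hx)
  · have step : ∀ {a b : V} (ha : a ≠ 0) (hb : b ≠ 0) (sa : Q a = 0) (sb : Q b = 0),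
        β[Q] a b ≠ 0 → spMk Q ha sa ∈ S → spMk Q hb sb ∈ S := by
      intro a b ha hb sa sb hab haS
      obtain ⟨g, hg1, hg2⟩ := orb1 hu hv ha hb su sv sa sb huv hab
      rw [← hg2]
      exact hmove hx hy (by rw [hg1]; exact haS)
    by_cases huw : β[Q] u w = 0
    swap
    · exact step hu hw su sw huw hx
    obtain ⟨r, -, hru, hrw⟩ := CfsgLib.AltForm.exists_orthogonal_ne_zero_two hQ (polar_isRefl Q)
      (X := ⊥) (x := u) (y := w) (by simpa using hu) (by simpa using hw)
    set r' := r - (Q r / β[Q] r u) • u with hr'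
    have h1 : Q r' = 0 := by
      rw [hr', map_sub, map_smul, su, LinearMap.map_smul, smul_eq_mul]
      field_simp
      simp
    have h2 : β[Q] u r' ≠ 0 := by
      rw [hr', LinearMap.map_sub, LinearMap.map_smul, polar_self, su, polar_comm Q u r]
      simpa using hru
    have h3 : β[Q] r' w ≠ 0 := by
      rw [hr', LinearMap.map_sub, LinearMap.map_smul, LinearMap.sub_apply, LinearMap.smul_apply,
        huw]
      simpa using hrw
    have hr0 : r' ≠ 0 := ne_zero_of_polar (Q := Q) h3
    exact step hr0 hw h1 sw h3 (step hu hr0 su h1 h2 hx)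

end Fin

/-- The group of Siegel transformations of a singular vector. -/
def eichT' {Q : QuadraticForm F V} {u : V} (hu : Q u = 0) : Subgroup (eichG Q) where
  carrier := {g | ∃ (y : V) (huy : β[Q] u y = 0), g.1 = eichO hu huy}
  mul_mem' := by
    rintro a b ⟨y, hy, ha⟩ ⟨z, hz, hb⟩
    have h : β[Q] u (y + z) = 0 := by rw [LinearMap.map_add, hy, hz, add_zero]
    exact ⟨y + z, h, by rw [Subgroup.coe_mul, ha, hb, eichO_mul hu hy hz h]⟩
  one_mem' := ⟨0, by rw [LinearMap.map_zero], by
    symm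
    apply O_ext
    intro x
    rw [eichO_apply]
    simp⟩
  inv_mem' := by
    rintro a ⟨y, hy, ha⟩
    have hy' : β[Q] u (-y) = 0 := by rw [LinearMap.map_neg, hy, neg_zero]
    refine ⟨-y, hy', ?_⟩
    rw [Subgroup.coe_inv, ha, inv_eq_iff_mul_eq_one]
    have h : β[Q] u (y + -y) = 0 := by rw [add_neg_cancel, LinearMap.map_zero]
    rw [eichO_mul hu hy hy' h]
    apply O_ext
    intro x
    rw [eichO_apply, add_neg_cancel]
    simp

lemma mem_eichT' {Q : QuadraticForm F V} {u : V} (hu : Q u = 0) (g : eichG Q) :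
    g ∈ eichT' hu ↔ ∃ (y : V) (huy : β[Q] u y = 0), g.1 = eichO hu huy := Iff.rfl

lemma eichT'_smul {Q : QuadraticForm F V} {u : V} (hu : Q u = 0) {t : F} (ht : t ≠ 0)
    (htu : Q (t • u) = 0) : eichT' htu = eichT' hu := by
  ext g
  rw [mem_eichT', mem_eichT']
  constructor
  · rintro ⟨y, hy, hg⟩
    have hy' : β[Q] u y = 0 := by
      rw [LinearMap.map_smul, LinearMap.smul_apply, smul_eq_mul] at hy
      exact (mul_eq_zero.mp hy).resolve_left ht
    exact ⟨t • y, by rw [LinearMap.map_smul, hy', smul_zero], by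
      rw [hg, eichO_smul hu hy' t htu hy]⟩
  · rintro ⟨y, hy, hg⟩
    have h1 : β[Q] (t • u) (t⁻¹ • y) = 0 := by
      rw [LinearMap.map_smul, LinearMap.map_smul, LinearMap.smul_apply, hy, smul_zero, smul_zero]
    refine ⟨t⁻¹ • y, h1, ?_⟩
    rw [hg, eichO_smul hu (by rw [LinearMap.map_smul, hy, smul_zero]) t htu h1
      (by rw [LinearMap.map_smul, LinearMap.map_smul, hy, smul_zero, smul_zero])]
    exact eichO_congr _ _ _ _ rfl (by rw [smul_smul, mul_inv_cancel₀ ht, one_smul])

lemma conj_eichT' {Q : QuadraticForm F V} {u : V} (hu : Q u = 0) (g : eichG Q)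
    (hgu : Q (g.1.1 u) = 0) : eichT' hgu = MulAut.conj g • eichT' hu := by
  ext h
  rw [Subgroup.mem_pointwise_smul_iff_inv_smul_mem, mem_eichT', mem_eichT']
  constructor
  · rintro ⟨y, hy, hh⟩
    obtain ⟨z, rfl⟩ := g.1.1.surjective y
    rw [polar_coe] at hy
    refine ⟨z, hy, ?_⟩
    simp only [MulAut.smul_def, MulAut.inv_apply, MulAut.conj_symm_apply, Subgroup.coe_mul,
      Subgroup.coe_inv]
    rw [hh, ← eichO_conj g.1 hu hy]
    group
  · rintro ⟨z, hz, hh⟩
    refine ⟨g.1.1 z, by rw [polar_coe, hz], ?_⟩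
    simp only [MulAut.smul_def, MulAut.inv_apply, MulAut.conj_symm_apply, Subgroup.coe_mul,
      Subgroup.coe_inv] at hh
    rw [← eichO_conj g.1 hu hz, ← hh]
    group

lemma spRep_spec {Q : QuadraticForm F V} (x : spSet Q) :
    ∃ h : Q x.1.rep = 0, x = spMk Q x.1.rep_nonzero h := by
  obtain ⟨x, v, hv, h, rfl⟩ := x
  obtain ⟨a, ha⟩ := Projectivization.exists_smul_eq_mk_rep F v hv
  have h1 : Q (Projectivization.mk F v hv).rep = 0 := by
    rw [← ha, Units.smul_def, map_smul, h, mul_zero]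
  refine ⟨h1, Subtype.ext ?_⟩
  exact (Projectivization.mk_rep _).symm

/-- The Iwasawa structure of the Siegel group on singular points. -/
noncomputable def iwasawaO (Q : QuadraticForm F V) :
    MulAction.IwasawaStructure (eichG Q) (spSet Q) where
  T x := eichT' (spRep_spec x).1
  is_comm x := by
    refine ⟨⟨fun a b => ?_⟩⟩
    obtain ⟨a, y, hy, ha⟩ := a
    obtain ⟨b, z, hz, hb⟩ := b
    apply Subtype.ext
    apply Subtype.ext
    change a.1 * b.1 = b.1 * a.1
    rw [ha, hb, eichO_mul _ hy hz (by rw [LinearMap.map_add, hy, hz, add_zero]),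
      eichO_mul _ hz hy (by rw [LinearMap.map_add, hy, hz, add_zero])]
    exact eichO_congr _ _ _ _ rfl (add_comm _ _)
  is_conj g x := by
    have h1 := (spRep_spec x).2
    have h2 := (spRep_spec (g • x)).2
    have h3 : g • x = spMk Q (v := g.1.1 x.1.rep)
        ((LinearEquiv.map_ne_zero_iff _).mpr x.1.rep_nonzero)
        (by rw [map_coe]; exact (spRep_spec x).1) := by
      conv_lhs => rw [h1]
      rfl
    rw [← conj_eichT' (spRep_spec x).1 g (by rw [map_coe]; exact (spRep_spec x).1)]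
    rw [h3] at h2
    have h4 := (spMk_eq_iff _ _ _ _).mp (h3.symm.trans (spRep_spec (g • x)).2).symm
    obtain ⟨a, ha⟩ := h4
    have ha0 : a ≠ 0 := by
      rintro rfl
      rw [zero_smul] at ha
      exact (g • x).1.rep_nonzero ha.symm
    have h5 : Q (a • g.1.1 x.1.rep) = 0 := by
      rw [map_smul, map_coe, (spRep_spec x).1, mul_zero]
    rw [← eichT'_smul (by rw [map_coe]; exact (spRep_spec x).1) ha0 h5]
    congr 1
    exact ha.symm
  is_generator := by
    rw [eq_top_iff]
    intro g _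
    have key : eichG Q ≤ (⨆ x : spSet Q, eichT' (spRep_spec x).1).map (eichG Q).subtype := by
      conv_lhs => rw [eichG]
      rw [Subgroup.closure_le]
      rintro _ ⟨u, y, hu, huy, rfl⟩
      by_cases hu0 : u = 0
      · subst hu0
        have : eichO hu huy = 1 := by
          apply O_ext
          intro x
          rw [eichO_apply]
          simp
        rw [this]
        exact one_mem _
      refine ⟨⟨eichO hu huy, eichO_mem _ _⟩, ?_, rfl⟩
      refine Subgroup.mem_iSup_of_mem (spMk Q hu0 hu) ?_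
      have h1 := (spRep_spec (spMk Q hu0 hu)).2
      obtain ⟨a, ha⟩ := (spMk_eq_iff _ _ _ _).mp h1.symm
      have ha0 : a ≠ 0 := by
        rintro rfl
        rw [zero_smul] at ha
        exact (spMk Q hu0 hu).1.rep_nonzero ha.symm
      have h2 : Q (a • u) = 0 := by rw [map_smul, hu, mul_zero]
      have h3 : eichT' (spRep_spec (spMk Q hu0 hu)).1 = eichT' hu := by
        rw [← eichT'_smul hu ha0 h2]
        congr 1
        exact ha.symm
      rw [h3]
      exact ⟨y, huy, rfl⟩
    obtain ⟨h, hh, hhg⟩ := key g.2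
    have : h = g := Subtype.ext hhg
    rwa [← this]

/-! ### Centre and simplicity -/

section Fin

variable [Finite F]

/-- An isometry fixing all singular points is `±1`. -/
theorem scalar_of_fix {Q : QuadraticForm F V} (hQ : (β[Q]).Nondegenerate)
    (hV : 5 ≤ finrank F V) (g : O Q) (hg : ∀ v : V, Q v = 0 → ∃ a : F, g.1 v = a • v) :
    ∃ a : F, a ^ 2 = 1 ∧ ∀ v, g.1 v = a • v := by
  -- a hyperbolic pair
  obtain ⟨e, he0, he⟩ := exists_singular hQ (by omega)
  obtain ⟨a, ha⟩ := hg e he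
  -- orthogonal vectors have the same scalar
  have horth : ∀ u v : V, Q u = 0 → Q v = 0 → β[Q] u v = 0 → LinearIndependent F ![u, v] →
      ∀ s t : F, g.1 u = s • u → g.1 v = t • v → s = t := by
    intro u v hu hv huv hli s t hs ht
    have h1 : Q (u + v) = 0 := by rw [map_add, hu, hv, huv]; ring
    obtain ⟨r, hr⟩ := hg _ h1
    rw [_root_.map_add, hs, ht] at hr
    have h2 : (s - r) • u + (t - r) • v = 0 := by
      have : (s - r) • u + (t - r) • v = (s • u + t • v) - r • (u + v) := by module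
      rw [this, hr, sub_self]
    have h3 := LinearIndependent.pair_iff.mp hli _ _ h2
    rw [sub_eq_zero.mp h3.1, sub_eq_zero.mp h3.2]
  have hpair : ∀ u v : V, Q u = 0 → Q v = 0 → β[Q] u v = 1 →
      ∀ s t : F, g.1 u = s • u → g.1 v = t • v → s = t ∧ s ^ 2 = 1 := by
    intro u v hu hv huv s t hs ht
    obtain ⟨e₂, f₂, he₂, -, hQe₂, -, hef₂⟩ := exists_second_pair hQ hu hv huv hV
    have h1 := mem_hperp.mp he₂
    have he₂0 : e₂ ≠ 0 := ne_zero_of_polar (Q := Q) (f := f₂) (by rw [hef₂]; exact one_ne_zero)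
    have hu0 : u ≠ 0 := ne_zero_of_polar (Q := Q) (f := v) (by rw [huv]; exact one_ne_zero)
    obtain ⟨r, hr⟩ := hg e₂ hQe₂
    have hli1 : LinearIndependent F ![u, e₂] := by
      rw [LinearIndependent.pair_iff' hu0]
      intro c hc
      have h2 : β[Q] v (c • u) = 0 := by rw [hc]; exact h1.2
      rw [LinearMap.map_smul, polar_comm Q v u, huv, smul_eq_mul, mul_one] at h2
      rw [h2, zero_smul] at hc
      exact he₂0 hc.symm
    have hv0 : v ≠ 0 := ne_zero_of_polar (Q := Q) (f := u) (by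
      rw [polar_comm, huv]; exact one_ne_zero)
    have hli2 : LinearIndependent F ![v, e₂] := by
      rw [LinearIndependent.pair_iff' hv0]
      intro c hc
      have h2 : β[Q] u (c • v) = 0 := by rw [hc]; exact h1.1
      rw [LinearMap.map_smul, huv, smul_eq_mul, mul_one] at h2
      rw [h2, zero_smul] at hc
      exact he₂0 hc.symm
    have h3 := horth u e₂ hu hQe₂ h1.1 hli1 s r hs hr
    have h4 := horth v e₂ hv hQe₂ h1.2 hli2 t r ht hr
    have h5 : s = t := h3.trans h4.symm
    refine ⟨h5, ?_⟩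
    have h6 := polar_coe Q g u v
    rw [hs, ht, LinearMap.map_smul, LinearMap.map_smul, LinearMap.smul_apply, huv, ← h5] at h6
    simpa [pow_two] using h6
  -- all scalars equal
  have hall : ∀ v : V, Q v = 0 → g.1 v = a • v := by
    intro v hv
    by_cases hv0 : v = 0
    · rw [hv0, _root_.map_zero, smul_zero]
    obtain ⟨b, hb⟩ := hg v hv
    have : a = b := by
      by_cases hev : β[Q] e v = 0
      · by_cases hli : LinearIndependent F ![e, v]
        · exact horth e v he hv hev hli a b ha hb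
        · rw [LinearIndependent.pair_iff' he0] at hli
          push Not at hli
          obtain ⟨c, rfl⟩ := hli
          have h1 : a • (c • e) = b • (c • e) := by
            rw [← hb, _root_.map_smul, ha, smul_comm]
          exact smul_left_injective F hv0 h1
      · have h1 : β[Q] e ((β[Q] e v)⁻¹ • v) = 1 := by
          rw [LinearMap.map_smul, smul_eq_mul, inv_mul_cancel₀ hev]
        exact (hpair e _ he (by rw [map_smul, hv, mul_zero]) h1 a b ha (by
          rw [_root_.map_smul, hb, smul_comm])).1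
    rw [hb, this]
  obtain ⟨f, hf, hef⟩ := exists_partner hQ he0 he
  refine ⟨a, (hpair e f he hf hef a a ha (hall f hf)).2, ?_⟩
  intro v
  have hv : v ∈ Submodule.span F {v | Q v = 0} := by
    rw [span_singular hQ (by omega)]; trivial
  induction hv using Submodule.span_induction with
  | mem x hx => exact hall x hx
  | zero => rw [_root_.map_zero, smul_zero]
  | add x y _ _ hx hy => rw [_root_.map_add, hx, hy, smul_add]
  | smul c x _ hx => rw [_root_.map_smul, hx, smul_comm]

lemma ker_le_center_eichG {Q : QuadraticForm F V} (hQ : (β[Q]).Nondegenerate)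
    (hV : 5 ≤ finrank F V) :
    (MulAction.toPermHom (eichG Q) (spSet Q)).ker ≤ Subgroup.center (eichG Q) := by
  intro g hg
  rw [MonoidHom.mem_ker] at hg
  obtain ⟨a, -, ha⟩ := scalar_of_fix hQ hV g.1 fun v hv => by
    by_cases hv0 : v = 0
    · exact ⟨0, by rw [hv0, _root_.map_zero, smul_zero]⟩
    have h1 : g • spMk Q hv0 hv = spMk Q hv0 hv := DFunLike.congr_fun hg (spMk Q hv0 hv)
    change g.1 • spMk Q hv0 hv = _ at h1
    rw [smul_spMk, spMk_eq_iff] at h1
    obtain ⟨a, ha⟩ := h1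
    exact ⟨a, ha.symm⟩
  rw [Subgroup.mem_center_iff]
  intro h
  apply Subtype.ext
  apply O_ext
  intro x
  change h.1.1 (g.1.1 x) = g.1.1 (h.1.1 x)
  rw [ha, ha, _root_.map_smul]

/-- Central elements of the Siegel group are `±1`. -/
lemma scalar_of_center {Q : QuadraticForm F V} (hQ : (β[Q]).Nondegenerate)
    (hV : 5 ≤ finrank F V) (g : eichG Q) (hg : g ∈ Subgroup.center (eichG Q)) :
    ∃ a : F, a ^ 2 = 1 ∧ ∀ v, g.1.1 v = a • v := by
  apply scalar_of_fix hQ hV
  intro u hu
  by_cases hu0 : u = 0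
  · exact ⟨0, by rw [hu0, _root_.map_zero, smul_zero]⟩
  obtain ⟨f, hf, huf⟩ := exists_partner hQ hu0 hu
  obtain ⟨y, y', hy, hy', hQy, hQy', hyy'⟩ := exists_second_pair hQ hu hf huf hV
  have h1 := mem_hperp.mp hy
  have h1' := mem_hperp.mp hy'
  have key : ∀ z z' : V, (hz : β[Q] u z = 0) → β[Q] u z' = 0 → Q z = 0 → β[Q] z z' = 1 →
      ∃ s t : F, g.1.1 u = s • z + t • u := by
    intro z z' hz hz' hQz hzz'
    have h2 := Subgroup.mem_center_iff.mp hg ⟨eichO hu hz, eichO_mem _ _⟩
    have h3 : (eichO hu hz).1 (g.1.1 z') = g.1.1 ((eichO hu hz).1 z') :=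
      congrArg (fun h : eichG Q => h.1.1 z') h2
    rw [eichO_apply, eichO_apply, hz', hzz', hQz] at h3
    have h4 : g.1.1 (z' + (0 : F) • z + (-1 - 0 * 0 : F) • u) = g.1.1 z' - g.1.1 u := by
      rw [_root_.map_add, _root_.map_add, _root_.map_smul, _root_.map_smul]
      module
    rw [h4] at h3
    refine ⟨-β[Q] u (g.1.1 z'), β[Q] z (g.1.1 z'), ?_⟩
    have h5 : g.1.1 u = g.1.1 z' - (g.1.1 z' - g.1.1 u) := by abel
    rw [h5, ← h3]
    module
  obtain ⟨s, t, hst⟩ := key y y' h1.1 h1'.1 hQy hyy'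
  obtain ⟨s', t', hst'⟩ := key y' y h1'.1 h1.1 hQy' (by rw [polar_comm]; exact hyy')
  have hs : s = 0 := by
    have h6 : β[Q] y' (g.1.1 u) = s := by
      rw [hst, LinearMap.map_add, LinearMap.map_smul, LinearMap.map_smul, polar_comm Q y' y, hyy',
        polar_comm Q y' u, h1'.1]
      simp
    have h7 : β[Q] y' (g.1.1 u) = 0 := by
      rw [hst', LinearMap.map_add, LinearMap.map_smul, LinearMap.map_smul, polar_self, hQy',
        polar_comm Q y' u, h1'.1]
      simp
    rw [← h6, h7]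
  refine ⟨t, ?_⟩
  rw [hst, hs, zero_smul, zero_add]

/-- Simplicity of the quotient of the Siegel group by its centre. -/
theorem isSimpleGroup_eichG {Q : QuadraticForm F V} (hQ : (β[Q]).Nondegenerate)
    (hV : 7 ≤ finrank F V) : IsSimpleGroup (eichG Q ⧸ Subgroup.center (eichG Q)) := by
  have hprim := isPreprimitive_spSet hQ (by omega : 6 ≤ finrank F V)
  have hperf : commutator (eichG Q) = ⊤ := by
    rw [eq_top_iff]
    intro x _
    have h1 := eichG_le_commutator_self hQ hV x.2
    rw [← Subgroup.map_subtype_commutator] at h1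
    obtain ⟨y, hy, hyx⟩ := h1
    have : y = x := Subtype.ext hyx
    exact this ▸ hy
  refine CfsgLib.AltForm.isSimpleGroup_quotient_center (iwasawaO Q) hperf
    (ker_le_center_eichG hQ (by omega)) ?_
  intro hcen
  obtain ⟨e, he0, he⟩ := exists_singular hQ (by omega)
  obtain ⟨f, hf, hef⟩ := exists_partner hQ he0 he
  obtain ⟨y, y', hy, hy', hQy, hQy', hyy'⟩ := exists_second_pair hQ he hf hef (by omega)
  have h1 := mem_hperp.mp hy
  have h1' := mem_hperp.mp hy'
  obtain ⟨a, -, ha⟩ := scalar_of_center hQ (by omega) ⟨eichO he h1.1, eichO_mem _ _⟩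
    (by rw [hcen]; trivial)
  have h2 := ha e
  have h3 := ha y'
  change (eichO he h1.1).1 e = a • e at h2
  change (eichO he h1.1).1 y' = a • y' at h3
  rw [eichO_apply, polar_self, he, polar_comm Q y e, h1.1] at h2
  rw [eichO_apply, h1'.1, hyy', hQy] at h3
  have ha1 : a = 1 := by
    have h4 : (a - 1) • e = 0 := by
      rw [sub_smul, ← h2]
      module
    exact sub_eq_zero.mp ((smul_eq_zero.mp h4).resolve_right he0)
  rw [ha1] at h3
  have h4 : e = 0 := by
    have : e = (1 : F) • y' - (y' + (0 : F) • y + (-1 - 0 * 0 : F) • e) := by module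
    rw [this, h3]
    module
  exact he0 h4

end Fin

end CfsgLib.Quad
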