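import Cfsg.Agent.Lib.Quad12
import Cfsg.Agent.Lib.Symp2

/-!
# Quadratic forms XIII: the groups `PΩ`: orders and simplicity
-/

namespace CfsgLib.Quad

open Module CfsgLib.IsomDecomp Cfsg

set_option linter.unusedSimpArgs false
set_option linter.unusedSectionVars false

variable {F V : Type*} [Field F] [AddCommGroup V] [Module F V] [FiniteDimensional F V]

local notation "β[" Q "]" => QuadraticMap.polarBilin Q

/-- Isomorphism of commutator subgroups. -/
noncomputable def commCongr {G H : Type*} [Group G] [Group H] (e : G ≃* H) :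
    commutator G ≃* commutator H :=
  (e.subgroupMap (commutator G)).trans (MulEquiv.subgroupCongr (by
    ext x
    constructor
    · rintro ⟨y, hy, rfl⟩
      exact (mem_commutator_congr e y).mpr hy
    · intro hx
      refine ⟨e.symm x, ?_, e.apply_symm_apply x⟩
      have h1 : e (e.symm x) ∈ commutator H := by rwa [e.apply_symm_apply]
      exact (mem_commutator_congr e _).mp h1))

/-- `PΩ` in other coordinates. -/
noncomputable def POmegaCongr {ι : Type} [Fintype ι] [DecidableEq ι] (Qf : (ι → F) → F)
    (Q : QuadraticForm F V) (e : (ι → F) ≃ₗ[F] V) (h : ∀ v, Q (e v) = Qf v) :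
    POmega F Qf ≃* (commutator (O Q) ⧸ Subgroup.center (commutator (O Q))) :=
  CfsgLib.Symp.quotCenterCongr (commCongr (isoMat Qf Q e h))

section Fin

variable [Finite F]

open Classical in
lemma card_center_commutator {Q : QuadraticForm F V} (hQ : (β[Q]).Nondegenerate)
    (hV : 7 ≤ finrank F V) :
    Nat.card (Subgroup.center (commutator (O Q))) =
      if (2 : F) ≠ 0 ∧ negO Q ∈ commutator (O Q) then 2 else 1 := by
  have key : ∀ H : Subgroup (O Q), H = eichG Q → Nat.card (Subgroup.center H) =
      if (2 : F) ≠ 0 ∧ negO Q ∈ H then 2 else 1 := by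
    rintro _ rfl
    have hnt : ∃ v : V, v ≠ 0 := by
      have : Nontrivial V := nontrivial_of_finrank_pos (R := F) (by omega)
      exact exists_ne 0
    obtain ⟨v, hv⟩ := hnt
    split_ifs with h
    · -- two elements
      obtain ⟨h2, hneg⟩ := h
      have hc : (⟨negO Q, hneg⟩ : eichG Q) ∈ Subgroup.center (eichG Q) := by
        rw [Subgroup.mem_center_iff]
        intro g
        apply Subtype.ext
        apply O_ext
        intro x
        change g.1.1 (-x) = -(g.1.1 x)
        exact _root_.map_neg _ _
      rw [Nat.card_eq_two_iff]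
      refine ⟨1, ⟨⟨negO Q, hneg⟩, hc⟩, ?_, ?_⟩
      · intro h3
        have h4 : v = -v := congrArg (fun g : Subgroup.center (eichG Q) => g.1.1.1 v) h3
        have h5 : (2 : F) • v = 0 := by
          rw [two_smul]
          nth_rewrite 1 [h4]
          exact neg_add_cancel v
        exact h2 ((smul_eq_zero.mp h5).resolve_right hv)
      · rw [Set.eq_univ_iff_forall]
        intro g
        obtain ⟨a, ha, hga⟩ := scalar_of_center hQ (by omega) g.1 g.2
        rcases (mul_self_eq_one_iff.mp ((pow_two a).symm.trans ha)) with rfl | rfl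
        · left
          apply Subtype.ext
          apply Subtype.ext
          apply O_ext
          intro x
          rw [hga, one_smul]
          rfl
        · right
          apply Subtype.ext
          apply Subtype.ext
          apply O_ext
          intro x
          rw [hga, neg_one_smul]
          rfl
    · rw [Nat.card_eq_one_iff_unique]
      refine ⟨⟨fun g g' => ?_⟩, ⟨1⟩⟩
      have hone : ∀ g : Subgroup.center (eichG Q), g = 1 := by
        intro g
        obtain ⟨a, ha, hga⟩ := scalar_of_center hQ (by omega) g.1 g.2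
        have ha1 : a = 1 := by
          rcases (mul_self_eq_one_iff.mp ((pow_two a).symm.trans ha)) with h1 | h1
          · exact h1
          · by_cases h2 : (2 : F) = 0
            · rw [h1]; linear_combination -h2
            · exfalso
              apply h
              refine ⟨h2, ?_⟩
              have h3 : negO Q = g.1.1 := by
                apply O_ext
                intro x
                rw [hga, h1, neg_one_smul]
                rfl
              rw [h3]
              exact g.1.2
        apply Subtype.ext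
        apply Subtype.ext
        apply O_ext
        intro x
        rw [hga, ha1, one_smul]
        rfl
      rw [hone g, hone g']
  exact key _ (commutator_eq_eichG hQ hV)

theorem isSimpleGroup_commutator {Q : QuadraticForm F V} (hQ : (β[Q]).Nondegenerate)
    (hV : 7 ≤ finrank F V) :
    IsSimpleGroup (commutator (O Q) ⧸ Subgroup.center (commutator (O Q))) := by
  have key : ∀ H : Subgroup (O Q), H = eichG Q → IsSimpleGroup (H ⧸ Subgroup.center H) := by
    rintro _ rfl
    exact isSimpleGroup_eichG hQ hV
  exact key _ (commutator_eq_eichG hQ hV)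

lemma isSimpleGroup_POmega {ι : Type} [Fintype ι] [DecidableEq ι] (Qf : (ι → F) → F)
    (Q : QuadraticForm F V) (e : (ι → F) ≃ₗ[F] V) (h : ∀ v, Q (e v) = Qf v)
    (hQ : (β[Q]).Nondegenerate) (hV : 7 ≤ finrank F V) : IsSimpleGroup (POmega F Qf) := by
  have := isSimpleGroup_commutator hQ hV
  exact (POmegaCongr Qf Q e h).isSimpleGroup

lemma card_POmega_mul {ι : Type} [Fintype ι] [DecidableEq ι] (Qf : (ι → F) → F)
    (Q : QuadraticForm F V) (e : (ι → F) ≃ₗ[F] V) (h : ∀ v, Q (e v) = Qf v) :
    Nat.card (POmega F Qf) * Nat.card (Subgroup.center (commutator (O Q))) *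
      (commutator (O Q)).index = Nat.card (isometryGroup F Qf) := by
  rw [Nat.card_congr (POmegaCongr Qf Q e h).toEquiv, Nat.card_congr (isoMat Qf Q e h).toEquiv,
    ← Subgroup.card_mul_index (commutator (O Q))]
  congr 1
  exact (Subgroup.card_eq_card_quotient_mul_card_subgroup _).symm

/-! ### The three families -/

theorem card_POmega_odd (h2 : (2 : F) ≠ 0) (m : ℕ) (hm : 3 ≤ m) :
    2 * Nat.card (POmega F (quadFormOdd m F)) =
      Nat.card F ^ (m ^ 2) * ∏ i ∈ Finset.range m, (Nat.card F ^ (2 * (i + 1)) - 1) := by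
  classical
  have hN := hypSum_nondegenerate m (sqQ_nondegenerate h2)
  have hdim : finrank F ((Fin m → F × F) × F) = 2 * m + 1 := by
    rw [finrank_hypSum, Module.finrank_self]
  have h := card_POmega_mul (quadFormOdd m F) (hypSum m (sqQ F)) (eOdd m F) (eOdd_apply m)
  rw [card_center_commutator hN (by omega), index_commutator_odd h2 hN (by omega),
    card_O_odd h2, if_neg] at h
  · rw [mul_one, mul_assoc 2] at h
    omega
  · rintro ⟨-, h3⟩
    have h4 : dick hN (negO _) = 1 := Abelianization.commutator_subset_ker _ h3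
    rw [dick_negO h2 hN, hdim, Odd.neg_one_pow ⟨m, rfl⟩] at h4
    exact absurd h4 (by decide)

/-- Arithmetic for the even-dimensional case. -/
lemma arith_even {P z i X g : ℕ} (h : P * z * i = 2 * X) (hi : i * z = 2 * g) : g * P = X := by
  have h1 : 2 * (g * P) = 2 * X := by
    rw [← h, ← mul_assoc, ← hi]; ring
  omega

lemma gcd_four {x : ℕ} (h : x % 4 = 2) : Nat.gcd 4 x = 2 := by
  rw [Nat.gcd_rec, h]
  rfl

theorem card_POmega_plus (m : ℕ) (hm : 4 ≤ m) :
    Nat.gcd 4 (Nat.card F ^ m - 1) * Nat.card (POmega F (quadFormPlus m F)) =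
      Nat.card F ^ (m * (m - 1)) * (Nat.card F ^ m - 1) *
        ∏ i ∈ Finset.range (m - 1), (Nat.card F ^ (2 * (i + 1)) - 1) := by
  classical
  obtain ⟨k, rfl⟩ := Nat.exists_eq_add_of_le' (show 1 ≤ m by omega)
  have hN := hypSum_nondegenerate (k + 1) (zeroQ_nondegenerate (F := F))
  have hdim : finrank F ((Fin (k + 1) → F × F) × PUnit.{1}) = 2 * (k + 1) := by
    rw [finrank_hypSum, finrank_eq_zero_of_subsingleton, add_zero]
  have h := card_POmega_mul (quadFormPlus (k + 1) F) (hypSum (k + 1) (zeroQ F)) (ePlus (k + 1) F)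
    (ePlus_apply (k + 1))
  rw [card_center_commutator hN (by omega), card_O_plus] at h
  rw [Nat.add_sub_cancel]
  have hq : 0 < Nat.card F := Nat.card_pos
  have hqk : 1 ≤ Nat.card F ^ (k + 1) := Nat.one_le_pow _ _ hq
  have h' : Nat.card (POmega F (quadFormPlus (k + 1) F)) *
      (if (2 : F) ≠ 0 ∧ negO (hypSum (k + 1) (zeroQ F)) ∈
        commutator (O (hypSum (k + 1) (zeroQ F))) then 2 else 1) *
      (commutator (O (hypSum (k + 1) (zeroQ F)))).index =
      2 * (Nat.card F ^ ((k + 1) * k) * (Nat.card F ^ (k + 1) - 1) *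
        ∏ i ∈ Finset.range k, (Nat.card F ^ (2 * (i + 1)) - 1)) := by
    rw [h]; ring
  refine arith_even h' ?_
  by_cases h2 : (2 : F) = 0
  · rw [if_neg (by tauto), index_commutator_even h2 hN (by omega) (by omega)]
    -- `q` is even
    have := Fintype.ofFinite F
    have hch : CharP F 2 := CharTwo.of_one_ne_zero_of_two_eq_zero one_ne_zero h2
    have h3 := FiniteField.even_card_iff_char_two (F := F)
    rw [ringChar.eq F 2] at h3
    have h4 : Nat.card F % 2 = 0 := by rw [Nat.card_eq_fintype_card]; exact h3.mp rfl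
    have h5 : Even (Nat.card F ^ (k + 1)) := (Nat.even_iff.mpr h4).pow_of_ne_zero (by omega)
    have h6 : Nat.Coprime 4 (Nat.card F ^ (k + 1) - 1) := by
      have h7 : Odd (Nat.card F ^ (k + 1) - 1) := Nat.Even.sub_odd hqk h5 odd_one
      have h8 : Nat.Coprime 2 (Nat.card F ^ (k + 1) - 1) := Nat.coprime_two_left.mpr h7
      exact Nat.Coprime.mul_left h8 h8
    rw [Nat.Coprime.gcd_eq_one h6]
  · rw [index_commutator_odd h2 hN (by omega)]
    have hodd : Odd (Nat.card F) := Nat.odd_iff.mpr (card_odd_of_two_ne_zero h2)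
    have h5 : Odd (Nat.card F ^ (k + 1)) := hodd.pow
    have hiff := (exists_neg_iff (quadFormPlus (k + 1) F) _ _ (ePlus_apply (k + 1))).symm.trans
      (neg_mem_Omega_plus h2 k)
    by_cases h6 : Nat.card F ^ (k + 1) % 4 = 1
    · rw [if_pos ⟨h2, hiff.mpr h6⟩]
      have h7 : 4 ∣ Nat.card F ^ (k + 1) - 1 := by omega
      rw [Nat.gcd_eq_left h7]
    · rw [if_neg (fun h => h6 (hiff.mp h.2))]
      have h7 : Nat.gcd 4 (Nat.card F ^ (k + 1) - 1) = 2 := by
        obtain ⟨l, hl⟩ := h5
        exact gcd_four (by omega)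
      rw [h7]

theorem card_POmega_minus {a b : F} (hab : Aniso a b) (m : ℕ) (hm : 4 ≤ m) :
    Nat.gcd 4 (Nat.card F ^ m + 1) * Nat.card (POmega F (quadFormMinus (m - 1) F a b)) =
      Nat.card F ^ (m * (m - 1)) * (Nat.card F ^ m + 1) *
        ∏ i ∈ Finset.range (m - 1), (Nat.card F ^ (2 * (i + 1)) - 1) := by
  classical
  obtain ⟨k, rfl⟩ := Nat.exists_eq_add_of_le' (show 1 ≤ m by omega)
  rw [Nat.add_sub_cancel]
  have hN := hypSum_nondegenerate k (binQ_nondegenerate hab)
  have hdim : finrank F ((Fin k → F × F) × QK a b) = 2 * k + 2 := by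
    rw [finrank_hypSum, QuadraticAlgebra.finrank_eq_two]
  have h := card_POmega_mul (quadFormMinus k F a b) (hypSum k (binQ a b)) (eMinus k a b)
    (eMinus_apply k a b)
  rw [card_center_commutator hN (by omega), card_O_minus hab] at h
  have h' : Nat.card (POmega F (quadFormMinus k F a b)) *
      (if (2 : F) ≠ 0 ∧ negO (hypSum k (binQ a b)) ∈
        commutator (O (hypSum k (binQ a b))) then 2 else 1) *
      (commutator (O (hypSum k (binQ a b)))).index =
      2 * (Nat.card F ^ ((k + 1) * k) * (Nat.card F ^ (k + 1) + 1) *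
        ∏ i ∈ Finset.range k, (Nat.card F ^ (2 * (i + 1)) - 1)) := by
    rw [h]; ring
  refine arith_even h' ?_
  by_cases h2 : (2 : F) = 0
  · rw [if_neg (by tauto), index_commutator_even h2 hN (by omega) (by omega)]
    -- `q` is even
    have := Fintype.ofFinite F
    have hch : CharP F 2 := CharTwo.of_one_ne_zero_of_two_eq_zero one_ne_zero h2
    have h3 := FiniteField.even_card_iff_char_two (F := F)
    rw [ringChar.eq F 2] at h3
    have h4 : Nat.card F % 2 = 0 := by rw [Nat.card_eq_fintype_card]; exact h3.mp rfl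
    have h5 : Even (Nat.card F ^ (k + 1)) := (Nat.even_iff.mpr h4).pow_of_ne_zero (by omega)
    have h6 : Nat.Coprime 4 (Nat.card F ^ (k + 1) + 1) := by
      have h7 : Odd (Nat.card F ^ (k + 1) + 1) := h5.add_one
      have h8 : Nat.Coprime 2 (Nat.card F ^ (k + 1) + 1) := Nat.coprime_two_left.mpr h7
      exact Nat.Coprime.mul_left h8 h8
    rw [Nat.Coprime.gcd_eq_one h6]
  · rw [index_commutator_odd h2 hN (by omega)]
    have hodd : Odd (Nat.card F) := Nat.odd_iff.mpr (card_odd_of_two_ne_zero h2)
    have h5 : Odd (Nat.card F ^ (k + 1)) := hodd.pow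
    have hiff := (exists_neg_iff (quadFormMinus k F a b) _ _ (eMinus_apply k a b)).symm.trans
      (neg_mem_Omega_minus h2 hab k)
    by_cases h6 : Nat.card F ^ (k + 1) % 4 = 3
    · rw [if_pos ⟨h2, hiff.mpr h6⟩]
      have h7 : 4 ∣ Nat.card F ^ (k + 1) + 1 := by omega
      rw [Nat.gcd_eq_left h7]
    · rw [if_neg (fun h => h6 (hiff.mp h.2))]
      have h7 : Nat.gcd 4 (Nat.card F ^ (k + 1) + 1) = 2 := by
        obtain ⟨l, hl⟩ := h5
        exact gcd_four (by omega)
      rw [h7]

end Fin

end CfsgLib.Quad
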