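import Cfsg.Agent.Lib.Quad
import Cfsg.Agent.Lib.AltForm2
import Cfsg.Agent.Lib.CountSub
import Cfsg.Prelude.Def_ClassicalGeometry

/-!
# Quadratic forms II: hyperbolic sums, numbers of singular vectors, orders of orthogonal groups
-/

namespace CfsgLib.Quad

open Module CfsgLib.IsomDecomp Cfsg Matrix

set_option linter.unusedSimpArgs false
set_option linter.unusedSectionVars false

variable {F V : Type*} [Field F] [AddCommGroup V] [Module F V]

/-- `GL` as linear automorphisms. -/
noncomputable def glEquiv (ι : Type*) [Fintype ι] [DecidableEq ι] (F : Type*) [Field F] :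
    GL ι F ≃* ((ι → F) ≃ₗ[F] (ι → F)) :=
  Matrix.GeneralLinearGroup.toLin.trans (LinearMap.GeneralLinearGroup.generalLinearEquiv F (ι → F))

lemma glEquiv_apply {ι : Type*} [Fintype ι] [DecidableEq ι] (g : GL ι F) (v : ι → F) :
    glEquiv ι F g v = (g : Matrix ι ι F) *ᵥ v := by
  simp [glEquiv]

/-- The matrix isometry group as a group of linear automorphisms. -/
noncomputable def isometryGroupEquiv {ι : Type} [Fintype ι] [DecidableEq ι]
    (Q : QuadraticForm F (ι → F)) : isometryGroup F ⇑Q ≃* O Q :=
  ((glEquiv ι F).subgroupMap (isometryGroup F ⇑Q)).trans (MulEquiv.subgroupCongr (by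
    ext g
    rw [Subgroup.mem_map]
    constructor
    · rintro ⟨h, hh, rfl⟩
      rw [mem_O]
      intro x
      change Q (glEquiv ι F h x) = Q x
      rw [glEquiv_apply]
      exact hh x x
    · intro hg
      refine ⟨(glEquiv ι F).symm g, ?_, by simp⟩
      intro x _
      change Q (((glEquiv ι F).symm g : Matrix ι ι F) *ᵥ x) = Q x
      rw [← glEquiv_apply, MulEquiv.apply_symm_apply]
      exact mem_O.mp hg x))

lemma isometryGroupEquiv_apply {ι : Type} [Fintype ι] [DecidableEq ι]
    (Q : QuadraticForm F (ι → F)) (g : isometryGroup F ⇑Q) (v : ι → F) :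
    (isometryGroupEquiv Q g : (ι → F) ≃ₗ[F] (ι → F)) v = ((g : GL ι F) : Matrix ι ι F) *ᵥ v :=
  glEquiv_apply (g : GL ι F) v

/-- Isometric forms have isomorphic isometry groups. -/
def OCongr {V' : Type*} [AddCommGroup V'] [Module F V'] (e : V ≃ₗ[F] V') {Q : QuadraticForm F V}
    {Q' : QuadraticForm F V'} (h : ∀ u, Q' (e u) = Q u) : O Q ≃* O Q' :=
  isomFCongr (f := fun u _ => Q u) (f' := fun u _ => Q' u) e (fun u _ => h u)

/-- The orthogonal sum of a hyperbolic plane and `Q`. -/
noncomputable def hsum (Q : QuadraticForm F V) : QuadraticForm F ((F × F) × V) :=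
  QuadraticMap.linMulLin
      ((LinearMap.fst F F F).comp (LinearMap.fst F (F × F) V))
      ((LinearMap.snd F F F).comp (LinearMap.fst F (F × F) V)) +
    Q.comp (LinearMap.snd F (F × F) V)

lemma hsum_apply (Q : QuadraticForm F V) (x : (F × F) × V) :
    hsum Q x = x.1.1 * x.1.2 + Q x.2 := by
  simp [hsum]

lemma hsum_polar (Q : QuadraticForm F V) (x y : (F × F) × V) :
    QuadraticMap.polarBilin (hsum Q) x y = x.1.1 * y.1.2 + y.1.1 * x.1.2 +
      QuadraticMap.polarBilin Q x.2 y.2 := by
  rw [QuadraticMap.polarBilin_apply_apply, QuadraticMap.polarBilin_apply_apply,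
    QuadraticMap.polar, QuadraticMap.polar, hsum_apply, hsum_apply, hsum_apply]
  simp only [Prod.fst_add, Prod.snd_add]
  ring

lemma nondegenerate_of_left {Q : QuadraticForm F V}
    (h : ∀ x, (∀ y, QuadraticMap.polarBilin Q x y = 0) → x = 0) :
    (QuadraticMap.polarBilin Q).Nondegenerate :=
  (polar_isRefl Q).nondegenerate_iff_separatingLeft.mpr h

lemma hsum_nondegenerate {Q : QuadraticForm F V} (hQ : (QuadraticMap.polarBilin Q).Nondegenerate) :
    (QuadraticMap.polarBilin (hsum Q)).Nondegenerate := by
  apply nondegenerate_of_left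
  intro x hx
  have h1 := hx ((1, 0), 0)
  have h2 := hx ((0, 1), 0)
  rw [hsum_polar] at h1 h2
  simp at h1 h2
  have h3 : x.2 = 0 := hQ.1 _ fun y => by
    have := hx ((0, 0), y)
    rw [hsum_polar] at this
    simpa using this
  exact Prod.ext (Prod.ext h2 h1) h3

section Count

variable [Finite F] [FiniteDimensional F V]

lemma finrank_hsum : finrank F ((F × F) × V) = finrank F V + 2 := by
  simp [add_comm]

/-- Recursion for the number of singular vectors. -/
lemma card_singular_hsum (Q : QuadraticForm F V) :
    Nat.card {x : (F × F) × V // hsum Q x = 0} + Nat.card F ^ finrank F V =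
      Nat.card F * Nat.card {x : V // Q x = 0} + Nat.card F ^ (finrank F V + 1) := by
  classical
  have := Fintype.ofFinite F
  have hVf : Finite V := Module.finite_of_finite F
  have := Fintype.ofFinite V
  set q := Nat.card F with hq
  have hq1 : 1 ≤ q := Nat.card_pos
  -- fibre counts
  have hfib : ∀ w : V, Nat.card {p : F × F // p.1 * p.2 + Q w = 0} + 1 =
      if Q w = 0 then 2 * q else q := by
    intro w
    have e0 : {p : F × F // p.1 * p.2 + Q w = 0 } ≃
        {p : F × F // p.1 = 0 ∧ Q w = 0} ⊕ {p : F × F // p.1 ≠ 0 ∧ p.1 * p.2 + Q w = 0} :=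
      { toFun := fun p => if h : p.1.1 = 0 then Sum.inl ⟨p.1, h, by
            have := p.2; rw [h, zero_mul, zero_add] at this; exact this⟩
          else Sum.inr ⟨p.1, h, p.2⟩
        invFun := fun p => p.elim (fun p => ⟨p.1, by rw [p.2.1, zero_mul, zero_add]; exact p.2.2⟩)
          (fun p => ⟨p.1, p.2.2⟩)
        left_inv := fun p => by
          by_cases h : p.1.1 = 0 <;> simp [h]
        right_inv := fun p => by
          rcases p with p | p
          · simp [p.2.1]
          · simp [p.2.1] }
    have e1 : {p : F × F // p.1 ≠ 0 ∧ p.1 * p.2 + Q w = 0} ≃ {a : F // a ≠ 0} :=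
      { toFun := fun p => ⟨p.1.1, p.2.1⟩
        invFun := fun a => ⟨(a.1, -(Q w) / a.1), a.2, by
          have := a.2
          field_simp
          ring⟩
        left_inv := fun p => by
          apply Subtype.ext
          have h1 := p.2.1
          have h2 := p.2.2
          apply Prod.ext
          · rfl
          · change -(Q w) / p.1.1 = p.1.2
            rw [div_eq_iff h1]
            linear_combination -h2
        right_inv := fun a => rfl }
    have hcu : Nat.card {a : F // a ≠ 0} + 1 = q := by
      have h1 : Nat.card {a : F // a ≠ 0} = Nat.card Fˣ :=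
        Nat.card_congr (unitsEquivNeZero (G₀ := F)).symm
      have h2 : Nat.card F = Nat.card Fˣ + 1 := Nat.card_eq_card_units_add_one (α := F)
      rw [h1, hq, h2]
    rw [Nat.card_congr e0, Nat.card_sum, Nat.card_congr e1]
    by_cases h : Q w = 0
    · have e2 : {p : F × F // p.1 = 0 ∧ Q w = 0} ≃ F :=
        { toFun := fun p => p.1.2
          invFun := fun b => ⟨(0, b), rfl, h⟩
          left_inv := fun p => Subtype.ext (Prod.ext p.2.1.symm rfl)
          right_inv := fun b => rfl }
      rw [Nat.card_congr e2, if_pos h, add_assoc, hcu]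
      ring
    · have : IsEmpty {p : F × F // p.1 = 0 ∧ Q w = 0} := ⟨fun p => h p.2.2⟩
      rw [Nat.card_of_isEmpty, if_neg h, zero_add, hcu]
  have e : {x : (F × F) × V // hsum Q x = 0} ≃ Σ w : V, {p : F × F // p.1 * p.2 + Q w = 0} :=
    { toFun := fun x => ⟨x.1.2, x.1.1, by rw [← hsum_apply]; exact x.2⟩
      invFun := fun p => ⟨(p.2.1, p.1), by rw [hsum_apply]; exact p.2.2⟩
      left_inv := fun x => rfl
      right_inv := fun p => rfl }
  have hsumV : ∑ w : V, (Nat.card {p : F × F // p.1 * p.2 + Q w = 0} + 1) =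
      ∑ w : V, if Q w = 0 then 2 * q else q := Finset.sum_congr rfl fun w _ => hfib w
  rw [Finset.sum_add_distrib, ← Nat.card_sigma, ← Nat.card_congr e, Finset.sum_const,
    Finset.card_univ, smul_eq_mul, mul_one] at hsumV
  have hVc : Fintype.card V = q ^ finrank F V := by
    rw [← Nat.card_eq_fintype_card, Module.natCard_eq_pow_finrank (K := F)]
  have hS : ∑ w : V, (if Q w = 0 then 2 * q else q) =
      q * Nat.card {x : V // Q x = 0} + q * Fintype.card V := by
    have h1 : ∀ w : V, (if Q w = 0 then 2 * q else q) = (if Q w = 0 then q else 0) + q := by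
      intro w
      by_cases h : Q w = 0
      · simp [h]; ring
      · simp [h]
    rw [Finset.sum_congr rfl fun w _ => h1 w, Finset.sum_add_distrib, Finset.sum_const,
      Finset.card_univ, smul_eq_mul, mul_comm (Fintype.card V), ← Finset.sum_filter,
      Finset.sum_const, smul_eq_mul, Nat.card_eq_fintype_card, Fintype.card_subtype, mul_comm q]
    ring
  rw [hS, hVc] at hsumV
  rw [hsumV, pow_succ]
  ring

/-- The order of the orthogonal group of a hyperbolic sum. -/
theorem card_O_hsum {Q : QuadraticForm F V} (hQ : (QuadraticMap.polarBilin Q).Nondegenerate) :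
    Nat.card (O (hsum Q)) = (Nat.card {x : (F × F) × V // hsum Q x = 0} - 1) *
      Nat.card F ^ (finrank F V) * Nat.card (O Q) := by
  classical
  have hH := hsum_nondegenerate hQ
  set Q' := hsum Q with hQ'
  have hVf : Finite V := Module.finite_of_finite F
  let e : (F × F) × V := ((1, 0), 0)
  let f : (F × F) × V := ((0, 1), 0)
  have he : Q' e = 0 := by rw [hQ', hsum_apply]; simp [e]
  have hf : Q' f = 0 := by rw [hQ', hsum_apply]; simp [f]
  have hef : QuadraticMap.polarBilin Q' e f = 1 := by rw [hQ', hsum_polar]; simp [e, f]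
  have hliof : ∀ a b : (F × F) × V, Q' a = 0 → Q' b = 0 → QuadraticMap.polarBilin Q' a b = 1 →
      LinearIndependent F ![a, b] := by
    intro a b ha hb hab
    rw [LinearIndependent.pair_iff]
    intro s t hst
    have h1 : QuadraticMap.polarBilin Q' a (s • a + t • b) = 0 := by rw [hst, LinearMap.map_zero]
    have h2 : QuadraticMap.polarBilin Q' b (s • a + t • b) = 0 := by rw [hst, LinearMap.map_zero]
    rw [LinearMap.map_add, LinearMap.map_smul, LinearMap.map_smul, polar_self, ha] at h1
    rw [LinearMap.map_add, LinearMap.map_smul, LinearMap.map_smul, polar_self, hb,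
      polar_comm Q' b a] at h2
    simp only [hab, smul_eq_mul, mul_zero, mul_one, add_zero, zero_add] at h1 h2
    exact ⟨h2, h1⟩
  -- orbit
  have h1 := card_isomF_eq (F := F) (f := fun u (_ : (F × F) × V) => Q' u) ![e, f]
    {w : Fin 2 → (F × F) × V | Q' (w 0) = 0 ∧ Q' (w 1) = 0 ∧
      QuadraticMap.polarBilin Q' (w 0) (w 1) = 1} (by
      intro w
      constructor
      · rintro ⟨hw0, hw1, hw2⟩
        have hwe : w = ![w 0, w 1] := by ext i : 1; fin_cases i <;> rfl
        obtain ⟨g, hg, hgv⟩ := exists_O_family hH ![e, f] w (hliof e f he hf hef)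
          (by rw [hwe]; exact hliof _ _ hw0 hw1 hw2) (by
            intro i
            fin_cases i
            · simpa [he] using hw0.symm
            · simpa [hf] using hw1.symm) (by
            intro i j
            fin_cases i <;> fin_cases j
            · simp only [Fin.zero_eta, Matrix.cons_val_zero]
              rw [polar_self, polar_self, he, hw0]
            · simp only [Fin.mk_one, Fin.zero_eta, Matrix.cons_val_one, Matrix.cons_val_zero]
              rw [hef, hw2]
            · simp only [Fin.mk_one, Fin.zero_eta, Matrix.cons_val_one, Matrix.cons_val_zero]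
              rw [polar_comm Q' f e, polar_comm Q' (w 1) (w 0), hef, hw2]
            · change QuadraticMap.polarBilin Q' f f = QuadraticMap.polarBilin Q' (w 1) (w 1)
              rw [polar_self, polar_self, hf, hw1])
        exact ⟨g, hg, hgv⟩
      · rintro ⟨g, hg, hgv⟩
        have hg' : g ∈ O Q' := hg
        refine ⟨?_, ?_, ?_⟩
        · rw [← hgv 0, mem_O.mp hg']; exact he
        · rw [← hgv 1, mem_O.mp hg']; exact hf
        · rw [← hgv 0, ← hgv 1, polar_of_mem_O hg']; exact hef)
  -- the complement
  set W₁ : Submodule F ((F × F) × V) := Submodule.span F (Set.range ![e, f]) with hW₁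
  have hmemW₁ : ∀ x : (F × F) × V, x ∈ W₁ ↔ x.2 = 0 := by
    intro x
    rw [hW₁, Submodule.mem_span_range_iff_exists_fun]
    constructor
    · rintro ⟨c, rfl⟩
      simp [Fin.sum_univ_two, e, f]
    · intro h
      refine ⟨![x.1.1, x.1.2], ?_⟩
      rw [Fin.sum_univ_two]
      refine Prod.ext (Prod.ext ?_ ?_) ?_
      · simp [e, f]
      · simp [e, f]
      · simp [e, f, h]
  let W₂ : Submodule F ((F × F) × V) := LinearMap.range (LinearMap.inr F (F × F) V)
  have hmemW₂ : ∀ x : (F × F) × V, x ∈ W₂ ↔ x.1 = 0 := by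
    intro x
    constructor
    · rintro ⟨y, rfl⟩; rfl
    · intro h
      exact ⟨x.2, Prod.ext h.symm rfl⟩
  have hc : IsCompl W₁ W₂ := by
    constructor
    · rw [Submodule.disjoint_def]
      intro x hx hx'
      exact Prod.ext ((hmemW₂ x).mp hx') ((hmemW₁ x).mp hx)
    · rw [codisjoint_iff, eq_top_iff]
      intro x _
      have hx : x = (x.1, 0) + (0, x.2) := by simp
      rw [hx]
      exact Submodule.add_mem_sup ((hmemW₁ _).mpr rfl) ((hmemW₂ _).mpr rfl)
  have hsumf : IsOrthoSum (fun u (_ : (F × F) × V) => Q' u) W₁ W₂ := by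
    intro a ha b hb c hcc d hd
    change Q' (a + b) = Q' a + Q' b
    rw [hmemW₁] at ha
    rw [hmemW₂] at hb
    rw [hQ', hsum_apply, hsum_apply, hsum_apply]
    simp [ha, hb]
  have hpres : ∀ g ∈ isomFix (fun u (_ : (F × F) × V) => Q' u) W₁, ∀ x ∈ W₂, g x ∈ W₂ := by
    intro g hg x hx
    have hg' : g ∈ O Q' := hg.1
    rw [hmemW₂] at hx ⊢
    have h5 : g e = e := hg.2 e ((hmemW₁ e).mpr rfl)
    have h6 : g f = f := hg.2 f ((hmemW₁ f).mpr rfl)
    have h7 := polar_of_mem_O hg' e x
    have h8 := polar_of_mem_O hg' f x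
    rw [h5, hQ', hsum_polar, hsum_polar, hx] at h7
    rw [h6, hQ', hsum_polar, hsum_polar, hx] at h8
    simp [e, f] at h7 h8
    exact Prod.ext h8 h7
  have h2 : Nat.card (isomFix (fun u (_ : (F × F) × V) => Q' u) W₁) = Nat.card (O Q) := by
    rw [← Nat.card_congr (fixEquiv hc hsumf hpres).toEquiv]
    let eW : W₂ ≃ₗ[F] V := (LinearEquiv.ofInjective (LinearMap.inr F (F × F) V)
      LinearMap.inr_injective).symm
    refine Nat.card_congr (isomFCongr (f := restr (fun u (_ : (F × F) × V) => Q' u) W₂)
      (f' := fun u (_ : V) => Q u) eW ?_).toEquiv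
    intro u v
    change Q (eW u) = Q' u
    obtain ⟨y, rfl⟩ := eW.symm.surjective u
    rw [LinearEquiv.apply_symm_apply]
    have : ((eW.symm y : W₂) : (F × F) × V) = ((0, 0), y) := rfl
    rw [this, hQ', hsum_apply]
    simp
  -- the number of hyperbolic pairs
  have h3 : Nat.card {w : Fin 2 → (F × F) × V | Q' (w 0) = 0 ∧ Q' (w 1) = 0 ∧
      QuadraticMap.polarBilin Q' (w 0) (w 1) = 1} =
      (Nat.card {x : (F × F) × V // Q' x = 0} - 1) * Nat.card F ^ (finrank F V) := by
    have hfinW : Finite ((F × F) × V) := inferInstance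
    have := Fintype.ofFinite ((F × F) × V)
    have e1 : {w : Fin 2 → (F × F) × V | Q' (w 0) = 0 ∧ Q' (w 1) = 0 ∧
      QuadraticMap.polarBilin Q' (w 0) (w 1) = 1} ≃
      Σ u : {x : (F × F) × V // Q' x = 0 ∧ x ≠ 0},
        {v : (F × F) × V // Q' v = 0 ∧ QuadraticMap.polarBilin Q' u v = 1} :=
      { toFun := fun w => ⟨⟨w.1 0, w.2.1, fun h0 => by
            have h4 := w.2.2.2
            rw [h0, LinearMap.map_zero, LinearMap.zero_apply] at h4
            exact zero_ne_one h4⟩, ⟨w.1 1, w.2.2.1, w.2.2.2⟩⟩
        invFun := fun p => ⟨![p.1, p.2], p.1.2.1, p.2.2.1, p.2.2.2⟩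
        left_inv := fun w => by
          apply Subtype.ext
          ext i : 1
          fin_cases i <;> rfl
        right_inv := fun p => rfl }
    have hfib : ∀ u : {x : (F × F) × V // Q' x = 0 ∧ x ≠ 0},
        Nat.card {v : (F × F) × V // Q' v = 0 ∧ QuadraticMap.polarBilin Q' u v = 1} =
        Nat.card F ^ finrank F V := by
      intro u
      have hne : QuadraticMap.polarBilin Q' (u : (F × F) × V) ≠ 0 := by
        intro h
        exact u.2.2 (hH.1 _ fun v => by rw [h]; rfl)
      have h4 := CfsgLib.AltForm.card_fiber (F := F)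
        (QuadraticMap.polarBilin Q' (u : (F × F) × V)) hne 1
      rw [finrank_hsum, Nat.add_sub_assoc (by norm_num)] at h4
      -- each vector `v` with `β(u,v)=1` is uniquely `v' - t u` with `v'` singular
      have e2 : {v : (F × F) × V // QuadraticMap.polarBilin Q' u v = 1} ≃
          {v : (F × F) × V // Q' v = 0 ∧ QuadraticMap.polarBilin Q' u v = 1} × F :=
        { toFun := fun v => (⟨v.1 - Q' v.1 • u.1, by
              rw [map_sub, map_smul, u.2.1, LinearMap.map_smul, polar_comm Q' v.1 u.1, v.2]
              simp, by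
              rw [LinearMap.map_sub, LinearMap.map_smul, polar_self, u.2.1, v.2]
              simp⟩, Q' v.1)
          invFun := fun p => ⟨p.1.1 + p.2 • u.1, by
              rw [LinearMap.map_add, LinearMap.map_smul, polar_self, u.2.1, p.1.2.2]
              simp⟩
          left_inv := fun v => by
            apply Subtype.ext
            simp
          right_inv := fun p => by
            have h5 : Q' (p.1.1 + p.2 • u.1) = p.2 := by
              rw [map_add, map_smul, u.2.1, p.1.2.1, LinearMap.map_smul, polar_comm Q' p.1.1 u.1,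
                p.1.2.2]
              simp
            refine Prod.ext (Subtype.ext ?_) h5
            simp [h5] }
      rw [Nat.card_congr e2, Nat.card_prod, show finrank F V + (2 - 1) = finrank F V + 1 from rfl,
        pow_succ] at h4
      exact Nat.eq_of_mul_eq_mul_right Nat.card_pos h4
    rw [Nat.card_congr e1, Nat.card_sigma, Finset.sum_congr rfl fun u _ => hfib u,
      Finset.sum_const, Finset.card_univ, smul_eq_mul]
    congr 1
    have e3 : {x : (F × F) × V // Q' x = 0} ≃ Option {x : (F × F) × V // Q' x = 0 ∧ x ≠ 0} :=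
      { toFun := fun x => if h : x.1 = 0 then none else some ⟨x.1, x.2, h⟩
        invFun := fun x => x.elim ⟨0, QuadraticMap.map_zero Q'⟩ fun x => ⟨x.1, x.2.1⟩
        left_inv := fun x => by
          by_cases h : x.1 = 0
          · simp only [h, dif_pos, Option.elim]
            exact Subtype.ext h.symm
          · simp [h]
        right_inv := fun x => by
          rcases x with _ | x
          · simp
          · simp [x.2.2] }
    rw [Nat.card_congr e3, ← Nat.card_eq_fintype_card (α := {x : (F × F) × V // Q' x = 0 ∧ x ≠ 0}),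
      Finite.card_option, Nat.add_sub_cancel]
  exact h1.trans (by rw [h3, h2])

end Count

end CfsgLib.Quad
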