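import Cfsg.Agent.Lib.Quad2

/-!
# Quadratic forms IV: reflections, Siegel transformations, generation of the orthogonal group
-/

namespace CfsgLib.Quad

open Module CfsgLib.IsomDecomp

set_option linter.unusedSimpArgs false
set_option linter.unusedSectionVars false

variable {F V : Type*} [Field F] [AddCommGroup V] [Module F V] [FiniteDimensional F V]

local notation "β[" Q "]" => QuadraticMap.polarBilin Q

lemma O_ext {Q : QuadraticForm F V} {g h : O Q} (H : ∀ x, g.1 x = h.1 x) : g = h :=
  Subtype.ext (LinearEquiv.ext H)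

lemma polar_coe (Q : QuadraticForm F V) (g : O Q) (x y : V) :
    β[Q] (g.1 x) (g.1 y) = β[Q] x y := polar_of_mem_O g.2 x y

lemma map_coe (Q : QuadraticForm F V) (g : O Q) (x : V) : Q (g.1 x) = Q x := mem_O.mp g.2 x

lemma reflT_reflT (Q : QuadraticForm F V) {w : V} (hw : Q w ≠ 0) (x : V) :
    reflT Q w (reflT Q w x) = x := by
  have h1 : β[Q] w (reflT Q w x) = - β[Q] w x := by
    rw [reflT_apply, LinearMap.map_sub, LinearMap.map_smul, polar_self, smul_eq_mul]
    field_simp
    ring
  rw [reflT_apply, h1, reflT_apply]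
  module

/-- Reflections as elements of the orthogonal group. -/
noncomputable def reflO {Q : QuadraticForm F V} {w : V} (hw : Q w ≠ 0) : O Q :=
  ⟨{ reflT Q w with
      invFun := reflT Q w
      left_inv := reflT_reflT Q hw
      right_inv := reflT_reflT Q hw }, mem_O.mpr (reflT_map Q hw)⟩

lemma reflO_apply {Q : QuadraticForm F V} {w : V} (hw : Q w ≠ 0) (x : V) :
    (reflO hw).1 x = x - ((Q w)⁻¹ * β[Q] w x) • w := reflT_apply Q w x

lemma reflO_mul_self {Q : QuadraticForm F V} {w : V} (hw : Q w ≠ 0) :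
    reflO hw * reflO hw = 1 := O_ext (reflT_reflT Q hw)

lemma reflO_self {Q : QuadraticForm F V} {w : V} (hw : Q w ≠ 0) :
    (reflO hw).1 w = -w := by
  rw [reflO_apply, polar_self]
  have : (Q w)⁻¹ * (2 * Q w) = 2 := by field_simp
  rw [this]
  module

lemma reflO_of_orthogonal {Q : QuadraticForm F V} {w x : V} (hw : Q w ≠ 0)
    (h : β[Q] w x = 0) : (reflO hw).1 x = x := by
  rw [reflO_apply, h, mul_zero, zero_smul, sub_zero]

lemma reflO_conj {Q : QuadraticForm F V} (g : O Q) {w : V} (hw : Q w ≠ 0) :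
    g * reflO hw * g⁻¹ = reflO (w := g.1 w) (by rw [map_coe]; exact hw) := by
  apply O_ext
  intro x
  obtain ⟨y, rfl⟩ := g.1.surjective x
  have h1 : (g * reflO hw * g⁻¹).1 (g.1 y) = g.1 ((reflO hw).1 y) := by
    change g.1 ((reflO hw).1 (g.1.symm (g.1 y))) = _
    rw [g.1.symm_apply_apply]
  rw [h1, reflO_apply, reflO_apply, map_coe, polar_coe, _root_.map_sub, _root_.map_smul]

lemma reflO_smul {Q : QuadraticForm F V} {w : V} (hw : Q w ≠ 0) {t : F} (ht : t ≠ 0)
    (h : Q (t • w) ≠ 0) : reflO h = reflO hw := by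
  apply O_ext
  intro x
  rw [reflO_apply, reflO_apply, map_smul, _root_.map_smul, LinearMap.smul_apply, smul_smul,
    smul_eq_mul]
  congr 2
  field_simp

/-- Siegel transformations as elements of the orthogonal group. -/
lemma eichT_eichT (Q : QuadraticForm F V) {u y y' : V} (hu : Q u = 0) (huy : β[Q] u y = 0)
    (huy' : β[Q] u y' = 0) (x : V) :
    eichT Q u y (eichT Q u y' x) = eichT Q u (y + y') x := by
  have h0 : β[Q] u u = 0 := by rw [polar_self, hu, mul_zero]
  have h1 : β[Q] u (eichT Q u y' x) = β[Q] u x := by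
    rw [eichT_apply, LinearMap.map_add, LinearMap.map_add, LinearMap.map_smul,
      LinearMap.map_smul, huy', h0]
    simp
  have h2 : β[Q] y (eichT Q u y' x) = β[Q] y x + β[Q] u x * β[Q] y y' := by
    rw [eichT_apply, LinearMap.map_add, LinearMap.map_add, LinearMap.map_smul,
      LinearMap.map_smul, polar_comm Q y u, huy]
    simp
  rw [eichT_apply, h1, h2, eichT_apply, eichT_apply, map_add, LinearMap.map_add,
    LinearMap.add_apply]
  module

lemma eichT_zero (Q : QuadraticForm F V) (u x : V) : eichT Q u 0 x = x := by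
  rw [eichT_apply]
  simp

noncomputable def eichO {Q : QuadraticForm F V} {u y : V} (hu : Q u = 0) (huy : β[Q] u y = 0) :
    O Q :=
  ⟨{ eichT Q u y with
      invFun := eichT Q u (-y)
      left_inv := fun x => by
        have h := eichT_eichT Q hu (y := -y) (y' := y) (by rw [LinearMap.map_neg, huy, neg_zero])
          huy x
        rw [neg_add_cancel, eichT_zero] at h
        exact h
      right_inv := fun x => by
        have h := eichT_eichT Q hu (y := y) (y' := -y) huy
          (by rw [LinearMap.map_neg, huy, neg_zero]) x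
        rw [add_neg_cancel, eichT_zero] at h
        exact h }, mem_O.mpr (eichT_map Q hu huy)⟩

lemma eichO_apply {Q : QuadraticForm F V} {u y : V} (hu : Q u = 0) (huy : β[Q] u y = 0) (x : V) :
    (eichO hu huy).1 x = x + (β[Q] u x) • y + (- β[Q] y x - Q y * β[Q] u x) • u :=
  eichT_apply Q u y x

lemma eichO_mul {Q : QuadraticForm F V} {u y y' : V} (hu : Q u = 0) (huy : β[Q] u y = 0)
    (huy' : β[Q] u y' = 0) (h : β[Q] u (y + y') = 0) :
    eichO hu huy * eichO hu huy' = eichO hu h := O_ext (eichT_eichT Q hu huy huy')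

lemma eichO_conj {Q : QuadraticForm F V} (g : O Q) {u y : V} (hu : Q u = 0)
    (huy : β[Q] u y = 0) :
    g * eichO hu huy * g⁻¹ = eichO (u := g.1 u) (y := g.1 y) (by rw [map_coe]; exact hu)
      (by rw [polar_coe]; exact huy) := by
  apply O_ext
  intro x
  obtain ⟨z, rfl⟩ := g.1.surjective x
  have h1 : (g * eichO hu huy * g⁻¹).1 (g.1 z) = g.1 ((eichO hu huy).1 z) := by
    change g.1 ((eichO hu huy).1 (g.1.symm (g.1 z))) = _
    rw [g.1.symm_apply_apply]
  rw [h1, eichO_apply, eichO_apply, map_coe, polar_coe, polar_coe, _root_.map_add,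
    _root_.map_add, _root_.map_smul, _root_.map_smul]

lemma eichO_smul {Q : QuadraticForm F V} {u y : V} (hu : Q u = 0) (huy : β[Q] u y = 0) (t : F)
    (h1 : Q (t • u) = 0) (h2 : β[Q] (t • u) y = 0) (h3 : β[Q] u (t • y) = 0) :
    eichO h1 h2 = eichO hu h3 := by
  apply O_ext
  intro x
  rw [eichO_apply, eichO_apply, map_smul, _root_.map_smul, _root_.map_smul,
    LinearMap.smul_apply, LinearMap.smul_apply, smul_eq_mul, smul_eq_mul]
  module

lemma eichO_eq_one {Q : QuadraticForm F V} {u : V} (hu : Q u = 0) (s : F)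
    (h : β[Q] u (s • u) = 0) : eichO hu h = 1 := by
  apply O_ext
  intro x
  rw [eichO_apply, map_smul, hu, _root_.map_smul, LinearMap.smul_apply, smul_eq_mul]
  change _ = x
  module

/-- `E(u, y) = r_y r_{y + Q(y) u}`. -/
lemma eichO_eq_reflO_mul {Q : QuadraticForm F V} {u y : V} (hu : Q u = 0) (huy : β[Q] u y = 0)
    (hy : Q y ≠ 0) (h : Q (y + Q y • u) ≠ 0) :
    eichO hu huy = reflO hy * reflO h := by
  apply O_ext
  intro x
  have hz : Q (y + Q y • u) = Q y := by
    rw [map_add, map_smul, hu, LinearMap.map_smul, polar_comm Q y u, huy]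
    simp
  have e : (reflO hy * reflO h).1 x = (reflO hy).1 ((reflO h).1 x) := rfl
  rw [e, eichO_apply, reflO_apply, reflO_apply, hz]
  simp only [LinearMap.map_sub, LinearMap.map_add, LinearMap.map_smul, LinearMap.add_apply,
    LinearMap.smul_apply, smul_eq_mul, polar_self, polar_comm Q y u, huy]
  match_scalars <;> field_simp <;> ring

/-- Scaling of a hyperbolic pair, as a product of two reflections. -/
lemma exists_hscale {Q : QuadraticForm F V} {e f : V} (he : Q e = 0) (hf : Q f = 0)
    (hef : β[Q] e f = 1) {c : F} (hc : c ≠ 0) (h1 : Q (e - c⁻¹ • f) ≠ 0) (h2 : Q (e - f) ≠ 0)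
    (x : V) :
    (reflO h1 * reflO h2).1 x = x + ((c - 1) * β[Q] f x) • e + ((c⁻¹ - 1) * β[Q] e x) • f := by
  have e0 : (reflO h1 * reflO h2).1 x = (reflO h1).1 ((reflO h2).1 x) := rfl
  have hQ1 : Q (e - c⁻¹ • f) = -c⁻¹ := by
    rw [map_sub, map_smul, he, hf, LinearMap.map_smul, hef]
    simp
  have hQ2 : Q (e - f) = -1 := by
    rw [map_sub, he, hf, hef]
    simp
  rw [e0, reflO_apply, reflO_apply, hQ1, hQ2]
  simp only [LinearMap.map_sub, LinearMap.map_add, LinearMap.map_smul, LinearMap.add_apply,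
    LinearMap.sub_apply, LinearMap.smul_apply, smul_eq_mul, polar_self, polar_comm Q f e, he, hf,
    hef]
  match_scalars <;> field_simp <;> ring

section Gen

/-- One step of Witt's lemma inside a subgroup containing the reflections and Siegel
transformations. -/
lemma exists_step_gen {Q : QuadraticForm F V} (hQ : (β[Q]).Nondegenerate) (G : Subgroup (O Q))
    (hR : ∀ (w : V) (hw : Q w ≠ 0), reflO hw ∈ G)
    (hE : ∀ (u y : V) (hu : Q u = 0) (huy : β[Q] u y = 0), eichO hu huy ∈ G)
    {X : Submodule F V} {x y : V} (hx : x ∉ X) (hy : y ∉ X) (hxy : Q x = Q y)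
    (hX : ∀ z ∈ X, β[Q] z x = β[Q] z y) :
    ∃ t ∈ G, (∀ z ∈ X, t.1 z = z) ∧ t.1 x = y := by
  by_cases hw0 : y - x = 0
  · refine ⟨1, one_mem _, fun _ _ => rfl, ?_⟩
    exact (sub_eq_zero.mp hw0).symm
  set w := y - x with hw
  have hyw : y = x + w := by rw [hw]; abel
  have hzw : ∀ z ∈ X, β[Q] w z = 0 := by
    intro z hz
    rw [polar_comm, hw, LinearMap.map_sub, hX z hz, sub_self]
  have hQw : Q w = - β[Q] w x := by
    have h1 : Q y = Q x + Q w + β[Q] x w := by rw [hyw, map_add]
    rw [← hxy] at h1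
    rw [polar_comm]
    linear_combination -h1
  by_cases hQw0 : Q w = 0
  · have hwx : β[Q] w x = 0 := by rw [hQw0] at hQw; linear_combination hQw
    by_cases hxX : x ∈ X ⊔ (F ∙ w)
    · -- hyperbolic scaling
      obtain ⟨z₀, hz₀, v, hv, hzv⟩ := Submodule.mem_sup.mp hxX
      obtain ⟨c, rfl⟩ := Submodule.mem_span_singleton.mp hv
      have hc : c ≠ 0 := by
        rintro rfl
        rw [zero_smul, add_zero] at hzv
        exact hx (hzv ▸ hz₀)
      have hc1 : c + 1 ≠ 0 := by
        intro h
        apply hy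
        have : y = z₀ := by
          rw [hyw, ← hzv]
          have h2 : c • w + w = (c + 1) • w := by rw [add_smul, one_smul]
          rw [add_assoc, h2, h, zero_smul, add_zero]
        rwa [this]
      have hwX : w ∉ X := by
        intro h
        apply hx
        rw [← hzv]
        exact X.add_mem hz₀ (X.smul_mem c h)
      obtain ⟨y₀', hy₀', hne⟩ := CfsgLib.AltForm.exists_orthogonal_ne_zero hQ (polar_isRefl Q) hwX
      rw [LinearMap.BilinForm.mem_orthogonal_iff] at hy₀'
      obtain ⟨y₀, hy₀, hy₀w⟩ : ∃ y₀, (∀ z ∈ X, β[Q] z y₀ = 0) ∧ β[Q] w y₀ = 1 := by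
        refine ⟨(β[Q] y₀' w)⁻¹ • y₀', fun z hz => ?_, ?_⟩
        · rw [LinearMap.map_smul, hy₀' z hz, smul_zero]
        · rw [LinearMap.map_smul, smul_eq_mul, polar_comm Q w y₀', inv_mul_cancel₀ hne]
      obtain ⟨y₁, hy₁, hy₁w, hQy₁⟩ : ∃ y₁, (∀ z ∈ X, β[Q] z y₁ = 0) ∧ β[Q] w y₁ = 1 ∧
          Q y₁ = 0 := by
        refine ⟨y₀ - Q y₀ • w, fun z hz => ?_, ?_, ?_⟩
        · rw [LinearMap.map_sub, LinearMap.map_smul, hy₀ z hz, polar_comm Q z w, hzw z hz,
            smul_zero, sub_zero]
        · rw [LinearMap.map_sub, LinearMap.map_smul, hy₀w, polar_self, hQw0]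
          simp
        · rw [map_sub, map_smul, hQw0, LinearMap.map_smul, polar_comm Q y₀ w, hy₀w]
          simp
      have hlam : (c + 1) / c ≠ 0 := div_ne_zero hc1 hc
      have hr1 : Q (w - ((c + 1) / c)⁻¹ • y₁) ≠ 0 := by
        rw [map_sub, map_smul, hQw0, hQy₁, LinearMap.map_smul, hy₁w]
        simpa using ⟨hc, hc1⟩
      have hr2 : Q (w - y₁) ≠ 0 := by
        rw [map_sub, hQw0, hQy₁, hy₁w]
        simp
      refine ⟨reflO hr1 * reflO hr2, mul_mem (hR _ _) (hR _ _), fun z hz => ?_, ?_⟩
      · rw [exists_hscale hQw0 hQy₁ hy₁w hlam, polar_comm Q y₁ z, hy₁ z hz, hzw z hz]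
        simp
      · have h1 : β[Q] y₁ x = c := by
          rw [← hzv, LinearMap.map_add, LinearMap.map_smul, polar_comm Q y₁ z₀, hy₁ z₀ hz₀,
            polar_comm Q y₁ w, hy₁w]
          simp
        rw [exists_hscale hQw0 hQy₁ hy₁w hlam, h1, hwx, hyw]
        have h2 : ((c + 1) / c - 1) * c = 1 := by field_simp; ring
        rw [h2, mul_zero, zero_smul, add_zero, one_smul]
    · -- Eichler transformation
      obtain ⟨y', hy', hne⟩ := CfsgLib.AltForm.exists_orthogonal_ne_zero hQ (polar_isRefl Q) hxX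
      rw [LinearMap.BilinForm.mem_orthogonal_iff] at hy'
      obtain ⟨y₀, hy₀, hy₀x⟩ : ∃ y₀, (∀ z ∈ X ⊔ (F ∙ w), β[Q] z y₀ = 0) ∧ β[Q] y₀ x = -1 := by
        refine ⟨(-(β[Q] y' x)⁻¹) • y', fun z hz => ?_, ?_⟩
        · rw [LinearMap.map_smul, hy' z hz, smul_zero]
        · rw [LinearMap.map_smul, LinearMap.smul_apply, smul_eq_mul, neg_mul, inv_mul_cancel₀ hne]
      have hwy₀ : β[Q] w y₀ = 0 := hy₀ w (Submodule.mem_sup_right
        (Submodule.mem_span_singleton_self w))
      refine ⟨eichO hQw0 hwy₀, hE _ _ _ _, fun z hz => ?_, ?_⟩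
      · rw [eichO_apply, hzw z hz, polar_comm Q y₀ z,
          hy₀ z (Submodule.mem_sup_left hz)]
        simp
      · rw [eichO_apply, hwx, hy₀x, hyw]
        simp
  · refine ⟨reflO hQw0, hR _ _, fun z hz => ?_, ?_⟩
    · rw [reflO_apply, hzw z hz, mul_zero, zero_smul, sub_zero]
    · rw [reflO_apply, hyw]
      have h1 : (Q w)⁻¹ * β[Q] w x = -1 := by
        have : β[Q] w x = - Q w := by rw [hQw]; ring
        rw [this, mul_neg, inv_mul_cancel₀ hQw0]
      rw [h1, neg_smul, one_smul, sub_neg_eq_add]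

theorem exists_family_gen {Q : QuadraticForm F V} (hQ : (β[Q]).Nondegenerate)
    (G : Subgroup (O Q)) (hR : ∀ (w : V) (hw : Q w ≠ 0), reflO hw ∈ G)
    (hE : ∀ (u y : V) (hu : Q u = 0) (huy : β[Q] u y = 0), eichO hu huy ∈ G)
    {n : ℕ} (v v' : Fin n → V) (hv : LinearIndependent F v) (hv' : LinearIndependent F v')
    (h0 : ∀ i, Q (v i) = Q (v' i))
    (h : ∀ i j, β[Q] (v i) (v j) = β[Q] (v' i) (v' j)) :
    ∃ g ∈ G, ∀ i, g.1 (v i) = v' i := by
  induction n with
  | zero => exact ⟨1, one_mem _, fun i => i.elim0⟩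
  | succ n ih =>
    have hv₁ := hv.comp Fin.castSucc (Fin.castSucc_injective n)
    have hv₂ := hv'.comp Fin.castSucc (Fin.castSucc_injective n)
    obtain ⟨g, hg, hgv⟩ := ih (v ∘ Fin.castSucc) (v' ∘ Fin.castSucc) hv₁ hv₂
      (fun i => h0 _) (fun i j => h _ _)
    set X : Submodule F V := Submodule.span F (Set.range (v' ∘ Fin.castSucc)) with hX
    have hy : v' (Fin.last n) ∉ X := by
      have := hv'.notMem_span_image (s := Set.range Fin.castSucc) (x := Fin.last n) (by
        rintro ⟨i, hi⟩
        exact (Fin.castSucc_lt_last i).ne hi)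
      rwa [← Set.range_comp] at this
    have hx : g.1 (v (Fin.last n)) ∉ X := by
      intro hmem
      have h1 : v (Fin.last n) ∈ Submodule.span F (Set.range (v ∘ Fin.castSucc)) := by
        have h2 : X = (Submodule.span F (Set.range (v ∘ Fin.castSucc))).map
            (g.1 : V →ₗ[F] V) := by
          rw [hX, Submodule.map_span, ← Set.range_comp]
          congr 1
          ext z
          simp only [Set.mem_range]
          exact exists_congr fun i => by rw [← hgv i]; rfl
        rw [h2] at hmem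
        obtain ⟨z, hz, hzg⟩ := hmem
        have : z = v (Fin.last n) := g.1.injective hzg
        rwa [← this]
      have := hv.notMem_span_image (s := Set.range Fin.castSucc) (x := Fin.last n) (by
        rintro ⟨i, hi⟩
        exact (Fin.castSucc_lt_last i).ne hi)
      rw [← Set.range_comp] at this
      exact this h1
    obtain ⟨t, ht, ht1, ht2⟩ := exists_step_gen hQ G hR hE hx hy (by rw [map_coe, h0]) (by
      intro z hz
      rw [hX] at hz
      induction hz using Submodule.span_induction with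
      | mem z hz =>
        obtain ⟨i, rfl⟩ := hz
        have := hgv i
        rw [← this, polar_coe]
        change β[Q] (v (Fin.castSucc i)) (v (Fin.last n)) = _
        rw [h]
        rw [this]
        rfl
      | zero => simp
      | add x y _ _ hx hy =>
        rw [LinearMap.map_add, LinearMap.add_apply, LinearMap.add_apply, hx, hy]
      | smul a x _ hx => rw [LinearMap.map_smul, LinearMap.smul_apply, LinearMap.smul_apply, hx])
    refine ⟨t * g, mul_mem ht hg, fun i => ?_⟩
    change t.1 (g.1 (v i)) = _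
    refine Fin.lastCases ?_ (fun i => ?_) i
    · exact ht2
    · have := hgv i
      simp only [Function.comp] at this
      rw [this]
      exact ht1 _ (Submodule.subset_span ⟨i, rfl⟩)

/-- The orthogonal group is generated by reflections and Siegel transformations. -/
theorem eq_top_of_reflO_eichO {Q : QuadraticForm F V} (hQ : (β[Q]).Nondegenerate)
    (G : Subgroup (O Q)) (hR : ∀ (w : V) (hw : Q w ≠ 0), reflO hw ∈ G)
    (hE : ∀ (u y : V) (hu : Q u = 0) (huy : β[Q] u y = 0), eichO hu huy ∈ G) : G = ⊤ := by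
  rw [eq_top_iff]
  intro g _
  let b := Module.finBasis F V
  obtain ⟨g', hg', h⟩ := exists_family_gen hQ G hR hE (fun i => b i) (fun i => g.1 (b i))
    b.linearIndependent (b.linearIndependent.map' (g.1 : V →ₗ[F] V)
      (LinearMap.ker_eq_bot.mpr g.1.injective)) (fun i => (map_coe Q g _).symm)
    (fun i j => (polar_coe Q g _ _).symm)
  have : g' = g := by
    apply Subtype.ext
    exact LinearEquiv.toLinearMap_injective (b.ext h)
  exact this ▸ hg'

/-- Generation by reflections. -/
theorem eq_top_of_reflO {Q : QuadraticForm F V} (hQ : (β[Q]).Nondegenerate)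
    (h4 : (∃ c : F, c ≠ 0 ∧ c ≠ 1) ∨ finrank F V ≠ 4)
    (G : Subgroup (O Q)) (hR : ∀ (w : V) (hw : Q w ≠ 0), reflO hw ∈ G) : G = ⊤ := by
  apply eq_top_of_reflO_eichO hQ G hR
  -- nonsingular `y`
  have h1 : ∀ (u y : V) (hu : Q u = 0) (huy : β[Q] u y = 0), Q y ≠ 0 → eichO hu huy ∈ G := by
    intro u y hu huy hy
    have hz : Q (y + Q y • u) ≠ 0 := by
      rw [map_add, map_smul, hu, LinearMap.map_smul, polar_comm Q y u, huy]
      simpa using hy
    rw [eichO_eq_reflO_mul hu huy hy hz]
    exact mul_mem (hR _ _) (hR _ _)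
  intro u y hu huy
  by_cases hy : Q y = 0
  swap
  · exact h1 u y hu huy hy
  by_cases hu0 : u = 0
  · subst hu0
    have : eichO hu huy = 1 := by
      apply O_ext
      intro x
      rw [eichO_apply]
      simp
    rw [this]
    exact one_mem _
  by_cases hyu : y ∈ (F ∙ u)
  · obtain ⟨s, rfl⟩ := Submodule.mem_span_singleton.mp hyu
    rw [eichO_eq_one]
    exact one_mem _
  -- it suffices to find a decomposition
  suffices h : ∃ z : V, β[Q] u z = 0 ∧ Q z ≠ 0 ∧ Q (y - z) ≠ 0 by
    obtain ⟨z, hz, hz1, hz2⟩ := h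
    have h3 : β[Q] u (y - z) = 0 := by rw [LinearMap.map_sub, hz, huy, sub_zero]
    have h4 : eichO hu hz * eichO hu h3 = eichO hu huy := by
      apply O_ext
      intro x
      have := eichT_eichT Q hu hz h3 x
      rw [add_sub_cancel] at this
      exact this
    rw [← h4]
    exact mul_mem (h1 u z hu hz hz1) (h1 u (y - z) hu h3 hz2)
  obtain ⟨z', hz', hne⟩ := CfsgLib.AltForm.exists_orthogonal_ne_zero hQ (polar_isRefl Q) hyu
  rw [LinearMap.BilinForm.mem_orthogonal_iff] at hz'
  have huz : β[Q] u z' = 0 := hz' u (Submodule.mem_span_singleton_self u)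
  rcases h4 with ⟨c, hc0, hc1⟩ | h4
  · -- more than two elements
    obtain ⟨z, hz, hyz⟩ : ∃ z, β[Q] u z = 0 ∧ β[Q] y z = 1 := by
      refine ⟨(β[Q] z' y)⁻¹ • z', ?_, ?_⟩
      · rw [LinearMap.map_smul, huz, smul_zero]
      · rw [LinearMap.map_smul, smul_eq_mul, polar_comm Q y z', inv_mul_cancel₀ hne]
    obtain ⟨t, ht1, ht2⟩ : ∃ t : F, Q z + t ≠ 0 ∧ Q z + t ≠ 1 := ⟨c - Q z, by
      rwa [add_sub_cancel], by rwa [add_sub_cancel]⟩
    refine ⟨z + t • y, ?_, ?_, ?_⟩
    · rw [LinearMap.map_add, LinearMap.map_smul, hz, huy, smul_zero, add_zero]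
    · rw [map_add, map_smul, hy, LinearMap.map_smul, polar_comm Q z y, hyz]
      simpa using ht1
    · rw [map_sub, map_add, map_smul, hy, LinearMap.map_smul, LinearMap.map_add,
        LinearMap.map_smul, polar_comm Q z y, hyz, polar_self, hy]
      intro h
      apply ht2
      simp at h
      linear_combination h
  · -- the case of two elements
    by_contra hcon
    push Not at hcon
    -- every `z ∈ ⟨u, y⟩^⊥` is singular
    set P : Submodule F V := Submodule.span F {u, y} with hP
    have hli : LinearIndependent F ![u, y] := by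
      rw [LinearIndependent.pair_iff]
      intro a b hab
      have hb : b = 0 := by
        by_contra hb
        apply hyu
        rw [Submodule.mem_span_singleton]
        refine ⟨-(b⁻¹ * a), ?_⟩
        have h5 : b • y = - (a • u) := by
          rw [eq_neg_iff_add_eq_zero, add_comm]; exact hab
        calc (-(b⁻¹ * a)) • u = b⁻¹ • (-(a • u)) := by module
          _ = y := by rw [← h5, smul_smul, inv_mul_cancel₀ hb, one_smul]
      rw [hb, zero_smul, add_zero] at hab
      exact ⟨(smul_eq_zero.mp hab).resolve_right hu0, hb⟩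
    have hP2 : finrank F P = 2 := by
      rw [hP, show ({u, y} : Set V) = Set.range ![u, y] by
        simp [Matrix.range_cons, Matrix.range_empty, Set.pair_comm]]
      rw [finrank_span_eq_card hli, Fintype.card_fin]
    have hsP : ∀ w ∈ P, Q w = 0 := by
      intro w hw
      obtain ⟨a, b, rfl⟩ := Submodule.mem_span_pair.mp hw
      rw [map_add, map_smul, map_smul, hu, hy, LinearMap.map_smul, LinearMap.map_smul,
        LinearMap.smul_apply, huy]
      simp
    have hsP' : ∀ w ∈ LinearMap.BilinForm.orthogonal (β[Q]) P, Q w = 0 := by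
      intro w hw
      rw [LinearMap.BilinForm.mem_orthogonal_iff] at hw
      have h5 : β[Q] u w = 0 := hw u (Submodule.subset_span (by simp))
      have h6 : β[Q] y w = 0 := hw y (Submodule.subset_span (by simp))
      by_contra h7
      have h8 := hcon w h5 h7
      rw [map_sub, hy, h6] at h8
      apply h7
      linear_combination h8
    have h5 := two_mul_finrank_singular_le hQ hsP
    have h6 := two_mul_finrank_singular_le hQ hsP'
    rw [LinearMap.BilinForm.finrank_orthogonal hQ, hP2] at h6
    rw [hP2] at h5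
    omega

end Gen

end CfsgLib.Quad
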