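import Cfsg.Agent.Lib.Quad4
import Cfsg.Agent.Lib.AltForm3

/-!
# Quadratic forms V: maximal singular subspaces, the Dickson invariant
-/

namespace CfsgLib.Quad

open Module CfsgLib.IsomDecomp

set_option linter.unusedSimpArgs false
set_option linter.unusedSectionVars false

variable {F V : Type*} [Field F] [AddCommGroup V] [Module F V] [FiniteDimensional F V]

local notation "β[" Q "]" => QuadraticMap.polarBilin Q

/-- Alternating forms have even rank. -/
lemma exists_finrank_ker (B : LinearMap.BilinForm F V) (hA : B.IsAlt) :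
    ∃ m, finrank F V = finrank F (LinearMap.ker B) + 2 * m := by
  obtain ⟨m, k, b, h1, h2, h3, h4⟩ := CfsgLib.AltForm.exists_symplectic_basis B hA
  have hker : LinearMap.ker B = Submodule.span F (Set.range (b ∘ Sum.inr)) := by
    apply le_antisymm
    · intro x hx
      rw [LinearMap.mem_ker] at hx
      have hx' : ∀ y, B y x = 0 := fun y => by
        rw [← hA.neg_eq, hx]; simp
      have hr : ∀ i : Fin m ⊕ Fin m, b.repr x (Sum.inl i) = 0 := by
        intro i
        have hs : x = ∑ j, b.repr x j • b j := (b.sum_repr x).symm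
        rcases i with i | i
        · have h5 : B x (b (Sum.inl (Sum.inr i))) = 0 := by rw [hx]; rfl
          rw [hs, _root_.map_sum, LinearMap.sum_apply, Fintype.sum_sum_type,
            Fintype.sum_sum_type] at h5
          simp only [LinearMap.map_smul, LinearMap.smul_apply, h1, h3, h4, smul_eq_mul, mul_zero,
            Finset.sum_const_zero, add_zero, mul_ite, mul_one, Finset.sum_ite_eq',
            Finset.mem_univ, if_true] at h5
          exact h5
        · have h5 : B (b (Sum.inl (Sum.inl i))) x = 0 := hx' _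
          rw [hs, _root_.map_sum, Fintype.sum_sum_type, Fintype.sum_sum_type] at h5
          have h6 : ∀ j, B (b (Sum.inl (Sum.inl i))) (b (Sum.inr j)) = 0 := fun j => by
            rw [← hA.neg_eq, h4]; simp
          simp only [LinearMap.map_smul, LinearMap.smul_apply, h1, h2, h6, smul_eq_mul, mul_zero,
            Finset.sum_const_zero, add_zero, zero_add, mul_ite, mul_one, Finset.sum_ite_eq,
            Finset.mem_univ, if_true] at h5
          exact h5
      have hs : x = ∑ j, b.repr x (Sum.inr j) • b (Sum.inr j) := by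
        conv_lhs => rw [← b.sum_repr x, Fintype.sum_sum_type]
        rw [Finset.sum_eq_zero (fun i _ => by rw [hr, zero_smul]), zero_add]
      rw [hs]
      exact Submodule.sum_mem _ fun j _ => Submodule.smul_mem _ _ (Submodule.subset_span ⟨j, rfl⟩)
    · rw [Submodule.span_le]
      rintro _ ⟨j, rfl⟩
      exact LinearMap.ext fun v => h4 j v
  refine ⟨m, ?_⟩
  rw [hker, finrank_span_eq_card (b.linearIndependent.comp _ Sum.inr_injective),
    finrank_eq_card_basis b]
  simp only [Fintype.card_sum, Fintype.card_fin]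
  omega

lemma mem_orth {Q : QuadraticForm F V} {W : Submodule F V} {x : V} :
    x ∈ LinearMap.BilinForm.orthogonal (β[Q]) W ↔ ∀ w ∈ W, β[Q] w x = 0 :=
  LinearMap.BilinForm.mem_orthogonal_iff

lemma orth_sup {Q : QuadraticForm F V} (A B : Submodule F V) :
    LinearMap.BilinForm.orthogonal (β[Q]) (A ⊔ B) =
      LinearMap.BilinForm.orthogonal (β[Q]) A ⊓ LinearMap.BilinForm.orthogonal (β[Q]) B := by
  ext x
  rw [Submodule.mem_inf, mem_orth, mem_orth, mem_orth]
  constructor
  · intro h
    exact ⟨fun w hw => h w (Submodule.mem_sup_left hw), fun w hw => h w (Submodule.mem_sup_right hw)⟩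
  · rintro ⟨h1, h2⟩ w hw
    obtain ⟨a, ha, b, hb, rfl⟩ := Submodule.mem_sup.mp hw
    rw [LinearMap.map_add, LinearMap.add_apply, h1 a ha, h2 b hb, add_zero]

lemma orth_eq_self {Q : QuadraticForm F V} (hQ : (β[Q]).Nondegenerate) {m : ℕ}
    (hV : finrank F V = 2 * m) {U : Submodule F V} (hU : finrank F U = m)
    (hs : ∀ w ∈ U, Q w = 0) : LinearMap.BilinForm.orthogonal (β[Q]) U = U := by
  symm
  apply Submodule.eq_of_le_of_finrank_eq
  · intro x hx
    rw [mem_orth]
    intro y hy
    exact polar_eq_zero_of_singular hs hy hx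
  · rw [LinearMap.BilinForm.finrank_orthogonal hQ, hV, hU]
    omega

/-- The parity relation between three maximal totally singular subspaces. -/
theorem even_three {Q : QuadraticForm F V} (hQ : (β[Q]).Nondegenerate) {m : ℕ}
    (hV : finrank F V = 2 * m) (U W X : Submodule F V)
    (hU : finrank F U = m) (hUs : ∀ w ∈ U, Q w = 0)
    (hW : finrank F W = m) (hWs : ∀ w ∈ W, Q w = 0)
    (hX : finrank F X = m) (hXs : ∀ w ∈ X, Q w = 0) :
    Even (m + finrank F ↥(U ⊓ W) + finrank F ↥(W ⊓ X) + finrank F ↥(U ⊓ X)) := by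
  have hU' := orth_eq_self hQ hV hU hUs
  have hW' := orth_eq_self hQ hV hW hWs
  have hX' := orth_eq_self hQ hV hX hXs
  -- the space `K`
  let K : Submodule F (V × V) :=
    { carrier := {p | p.1 ∈ W ∧ p.2 ∈ X ∧ p.1 + p.2 ∈ U}
      add_mem' := by
        rintro p p' ⟨h1, h2, h3⟩ ⟨h4, h5, h6⟩
        refine ⟨W.add_mem h1 h4, X.add_mem h2 h5, ?_⟩
        have := U.add_mem h3 h6
        rw [add_add_add_comm] at this
        exact this
      zero_mem' := ⟨W.zero_mem, X.zero_mem, by simp⟩
      smul_mem' := by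
        rintro c p ⟨h1, h2, h3⟩
        refine ⟨W.smul_mem c h1, X.smul_mem c h2, ?_⟩
        have := U.smul_mem c h3
        rw [smul_add] at this
        exact this }
  let b : LinearMap.BilinForm F K :=
    ((β[Q]).compl₁₂ ((LinearMap.snd F V V).comp K.subtype) ((LinearMap.fst F V V).comp K.subtype))
  have hb : ∀ p p' : K, b p p' = β[Q] p.1.2 p'.1.1 := fun p p' => rfl
  have hbA : b.IsAlt := by
    intro p
    rw [hb, polar_comm]
    obtain ⟨h1, h2, h3⟩ := p.2
    have h4 := map_add Q p.1.1 p.1.2
    rw [hUs _ h3, hWs _ h1, hXs _ h2] at h4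
    linear_combination -h4
  obtain ⟨k, hk⟩ := exists_finrank_ker b hbA
  -- dimension of `K`
  have hK : finrank F K + finrank F ↥(U ⊔ W ⊔ X) = 3 * m := by
    let f : (U × W × X) →ₗ[F] V :=
      (U.subtype.comp (LinearMap.fst F U (W × X))) +
        (W.subtype.comp ((LinearMap.fst F W X).comp (LinearMap.snd F U (W × X)))) +
        (X.subtype.comp ((LinearMap.snd F W X).comp (LinearMap.snd F U (W × X))))
    have hf : ∀ p, f p = p.1 + p.2.1 + p.2.2 := fun p => rfl
    have h1 := LinearMap.finrank_range_add_finrank_ker f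
    rw [Module.finrank_prod, Module.finrank_prod, hU, hW, hX] at h1
    have h2 : LinearMap.range f = U ⊔ W ⊔ X := by
      ext x
      rw [LinearMap.mem_range, Submodule.mem_sup]
      constructor
      · rintro ⟨p, rfl⟩
        exact ⟨p.1 + p.2.1, Submodule.add_mem_sup p.1.2 p.2.1.2, p.2.2, p.2.2.2, rfl⟩
      · rintro ⟨y, hy, z, hz, rfl⟩
        obtain ⟨u, hu, w, hw, rfl⟩ := Submodule.mem_sup.mp hy
        exact ⟨(⟨u, hu⟩, ⟨w, hw⟩, ⟨z, hz⟩), rfl⟩
    have e : K ≃ₗ[F] LinearMap.ker f :=
      { toFun := fun p => ⟨(⟨-(p.1.1 + p.1.2), U.neg_mem p.2.2.2⟩, ⟨p.1.1, p.2.1⟩,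
            ⟨p.1.2, p.2.2.1⟩), by
          rw [LinearMap.mem_ker, hf]
          change -(p.1.1 + p.1.2) + p.1.1 + p.1.2 = 0
          abel⟩
        invFun := fun p => ⟨(p.1.2.1, p.1.2.2), p.1.2.1.2, p.1.2.2.2, by
          have h := p.2
          rw [LinearMap.mem_ker, hf] at h
          have h3 : (p.1.2.1 : V) + p.1.2.2 = -(p.1.1 : V) := by
            rw [eq_neg_iff_add_eq_zero, ← h]; abel
          change (p.1.2.1 : V) + p.1.2.2 ∈ U
          rw [h3]
          exact U.neg_mem p.1.1.2⟩
        map_add' := fun p p' => by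
          apply Subtype.ext
          refine Prod.ext (Subtype.ext ?_) rfl
          change -((p.1.1 + p'.1.1) + (p.1.2 + p'.1.2)) = -(p.1.1 + p.1.2) + -(p'.1.1 + p'.1.2)
          abel
        map_smul' := fun c p => by
          apply Subtype.ext
          refine Prod.ext (Subtype.ext ?_) rfl
          change -(c • p.1.1 + c • p.1.2) = c • (-(p.1.1 + p.1.2))
          module
        left_inv := fun p => rfl
        right_inv := fun p => by
          apply Subtype.ext
          refine Prod.ext (Subtype.ext ?_) rfl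
          have h := p.2
          rw [LinearMap.mem_ker, hf] at h
          change -((p.1.2.1 : V) + p.1.2.2) = (p.1.1 : V)
          rw [neg_eq_iff_add_eq_zero, ← h]
          abel }
    rw [e.finrank_eq, ← h2]
    omega
  have hsum : finrank F ↥(U ⊔ W ⊔ X) + finrank F ↥(U ⊓ W ⊓ X) = 2 * m := by
    have h1 : LinearMap.BilinForm.orthogonal (β[Q]) (U ⊔ W ⊔ X) = U ⊓ W ⊓ X := by
      rw [orth_sup, orth_sup, hU', hW', hX']
    have h2 := LinearMap.BilinForm.finrank_orthogonal hQ (U ⊔ W ⊔ X)
    rw [h1, hV] at h2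
    have h3 := Submodule.finrank_le (U ⊔ W ⊔ X)
    omega
  -- the radical of `b`
  have hrad : finrank F (LinearMap.ker b) =
      finrank F ↥((W ⊓ U) ⊔ (W ⊓ X)) + finrank F ↥(U ⊓ X) := by
    let g : LinearMap.ker b →ₗ[F] V := (LinearMap.fst F V V).comp
      (K.subtype.comp (LinearMap.ker b).subtype)
    have h1 := LinearMap.finrank_range_add_finrank_ker (K := F) (V := ↥(LinearMap.ker b)) (V₂ := V) g
    have h2 : LinearMap.range g = (W ⊓ U) ⊔ (W ⊓ X) := by
      apply le_antisymm
      · rintro _ ⟨p, rfl⟩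
        change p.1.1.1 ∈ _
        have hp : b p.1 = 0 := p.2
        have hperp : LinearMap.BilinForm.orthogonal (β[Q]) (X ⊔ (U ⊓ W)) = X ⊓ (U ⊔ W) := by
          rw [orth_sup, hX']
          congr 1
          have h3 : LinearMap.BilinForm.orthogonal (β[Q]) (U ⊔ W) = U ⊓ W := by
            rw [orth_sup, hU', hW']
          rw [← h3, LinearMap.BilinForm.orthogonal_orthogonal hQ (polar_isRefl Q)]
        have h3 : p.1.1.1 ∈ X ⊔ (U ⊓ W) := by
          rw [← LinearMap.BilinForm.orthogonal_orthogonal hQ (polar_isRefl Q) (X ⊔ (U ⊓ W)),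
            hperp, mem_orth]
          intro x hx
          obtain ⟨u, hu, w, hw, huw⟩ := Submodule.mem_sup.mp hx.2
          -- `(−w, x) ∈ K`
          have hk : ((-w, x) : V × V) ∈ K := by
            refine ⟨W.neg_mem hw, hx.1, ?_⟩
            change -w + x ∈ U
            rw [← huw]
            have : -w + (u + w) = u := by abel
            rw [this]
            exact hu
          have h4 : b p.1 ⟨(-w, x), hk⟩ = 0 := by rw [hp]; rfl
          rw [← hbA.neg_eq, neg_eq_zero, hb] at h4
          exact h4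
        obtain ⟨x, hx, a, ha, hxa⟩ := Submodule.mem_sup.mp h3
        rw [← hxa, add_comm]
        refine Submodule.add_mem_sup ⟨ha.2, ha.1⟩ ⟨?_, hx⟩
        have : x = p.1.1.1 - a := by rw [← hxa]; abel
        rw [this]
        exact W.sub_mem p.1.2.1 ha.2
      · intro w hw
        obtain ⟨a, ha, c, hc, rfl⟩ := Submodule.mem_sup.mp hw
        have hk : ((a + c, -c) : V × V) ∈ K := by
          refine ⟨W.add_mem ha.1 hc.1, X.neg_mem hc.2, ?_⟩
          change a + c + -c ∈ U
          rw [add_neg_cancel_right]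
          exact ha.2
        refine ⟨⟨⟨(a + c, -c), hk⟩, ?_⟩, rfl⟩
        rw [LinearMap.mem_ker]
        apply LinearMap.ext
        intro p
        rw [← hbA.neg_eq]
        change -b p _ = 0
        rw [neg_eq_zero, hb]
        change β[Q] p.1.2 (a + c) = 0
        rw [LinearMap.map_add, polar_eq_zero_of_singular hXs p.2.2.1 hc.2, add_zero]
        have h5 : p.1.2 = (p.1.1 + p.1.2) - p.1.1 := by abel
        rw [h5, LinearMap.map_sub, LinearMap.sub_apply,
          polar_eq_zero_of_singular hUs p.2.2.2 ha.2, polar_eq_zero_of_singular hWs p.2.1 ha.1,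
          sub_zero]
    have e : LinearMap.ker g ≃ₗ[F] ↥(U ⊓ X) :=
      { toFun := fun p => ⟨p.1.1.1.2, by
          have h3 : p.1.1.1.1 = 0 := p.2
          refine ⟨?_, p.1.1.2.2.1⟩
          have h4 : p.1.1.1.1 + p.1.1.1.2 ∈ U := p.1.1.2.2.2
          rw [h3, zero_add] at h4
          exact h4⟩
        invFun := fun x => ⟨⟨⟨(0, x.1), W.zero_mem, x.2.2, by
            change 0 + x.1 ∈ U
            rw [zero_add]; exact x.2.1⟩, by
            rw [LinearMap.mem_ker]
            apply LinearMap.ext
            intro p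
            rw [← hbA.neg_eq]
            change -b p _ = 0
            rw [neg_eq_zero, hb]
            change β[Q] p.1.2 0 = 0
            rw [LinearMap.map_zero]⟩, rfl⟩
        map_add' := fun p p' => rfl
        map_smul' := fun c p => rfl
        left_inv := fun p => by
          have h3 : p.1.1.1.1 = 0 := p.2
          apply Subtype.ext
          apply Subtype.ext
          apply Subtype.ext
          exact Prod.ext h3.symm rfl
        right_inv := fun x => rfl }
    rw [h2, e.finrank_eq] at h1
    exact h1.symm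
  have hmod := Submodule.finrank_sup_add_finrank_inf_eq (W ⊓ U) (W ⊓ X)
  have h6 : (W ⊓ U) ⊓ (W ⊓ X) = U ⊓ W ⊓ X := by
    ext x
    simp only [Submodule.mem_inf]
    tauto
  rw [h6] at hmod
  have h7 : W ⊓ U = U ⊓ W := inf_comm _ _
  rw [h7] at hmod hrad
  rw [hrad] at hk
  rw [Nat.even_iff]
  omega

/-! ### The Dickson invariant -/

/-- `Q ⊥ -Q`. -/
noncomputable def dblQ (Q : QuadraticForm F V) : QuadraticForm F (V × V) :=
  Q.comp (LinearMap.fst F V V) - Q.comp (LinearMap.snd F V V)

lemma dblQ_apply (Q : QuadraticForm F V) (p : V × V) : dblQ Q p = Q p.1 - Q p.2 := rfl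

lemma dblQ_polar (Q : QuadraticForm F V) (p p' : V × V) :
    QuadraticMap.polarBilin (dblQ Q) p p' = β[Q] p.1 p'.1 - β[Q] p.2 p'.2 := by
  simp only [QuadraticMap.polarBilin_apply_apply, QuadraticMap.polar, dblQ_apply, Prod.fst_add,
    Prod.snd_add]
  ring

lemma dblQ_nondegenerate {Q : QuadraticForm F V} (hQ : (β[Q]).Nondegenerate) :
    (QuadraticMap.polarBilin (dblQ Q)).Nondegenerate := by
  apply nondegenerate_of_left
  intro p hp
  refine Prod.ext (hQ.1 _ fun y => ?_) (hQ.1 _ fun y => ?_)
  · have := hp (y, 0)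
    rw [dblQ_polar] at this
    simpa using this
  · have := hp (0, y)
    rw [dblQ_polar] at this
    simpa using this

/-- The graph of an isometry. -/
def graphO {Q : QuadraticForm F V} (g : O Q) : Submodule F (V × V) :=
  LinearMap.range ((g.1 : V →ₗ[F] V).prod LinearMap.id)

lemma mem_graphO {Q : QuadraticForm F V} (g : O Q) (p : V × V) :
    p ∈ graphO g ↔ p.1 = g.1 p.2 := by
  constructor
  · rintro ⟨x, rfl⟩; rfl
  · intro h
    exact ⟨p.2, Prod.ext h.symm rfl⟩

lemma finrank_graphO {Q : QuadraticForm F V} (g : O Q) : finrank F (graphO g) = finrank F V := by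
  rw [graphO]
  apply LinearMap.finrank_range_of_inj
  intro x y h
  exact congrArg Prod.snd h

lemma dblQ_graphO {Q : QuadraticForm F V} (g : O Q) (p : V × V) (hp : p ∈ graphO g) :
    dblQ Q p = 0 := by
  rw [mem_graphO] at hp
  rw [dblQ_apply, hp, map_coe, sub_self]

/-- Fixed vectors of an isometry. -/
def fixS {Q : QuadraticForm F V} (g : O Q) : Submodule F V :=
  LinearMap.ker ((g.1 : V →ₗ[F] V) - LinearMap.id)

lemma mem_fixS {Q : QuadraticForm F V} (g : O Q) (x : V) : x ∈ fixS g ↔ g.1 x = x := by
  rw [fixS, LinearMap.mem_ker, LinearMap.sub_apply, sub_eq_zero]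
  rfl

lemma finrank_graphO_inf {Q : QuadraticForm F V} (g h : O Q) :
    finrank F ↥(graphO g ⊓ graphO h) = finrank F (fixS (g⁻¹ * h)) := by
  have e : ↥(graphO g ⊓ graphO h) ≃ₗ[F] fixS (g⁻¹ * h) :=
    { toFun := fun p => ⟨p.1.2, by
        rw [mem_fixS]
        have h1 := (mem_graphO g p.1).mp p.2.1
        have h2 := (mem_graphO h p.1).mp p.2.2
        change g.1.symm (h.1 p.1.2) = _
        rw [← h2, h1, g.1.symm_apply_apply]⟩
      invFun := fun x => ⟨(g.1 x.1, x.1), (mem_graphO g _).mpr rfl, (mem_graphO h _).mpr (by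
        have h1 := (mem_fixS _ x.1).mp x.2
        change g.1.symm (h.1 x.1) = x.1 at h1
        rw [LinearEquiv.symm_apply_eq] at h1
        exact h1.symm)⟩
      map_add' := fun p p' => rfl
      map_smul' := fun c p => rfl
      left_inv := fun p => by
        apply Subtype.ext
        exact Prod.ext ((mem_graphO g p.1).mp p.2.1).symm rfl
      right_inv := fun x => rfl }
  exact e.finrank_eq

/-- The Dickson invariant. -/
noncomputable def dick {Q : QuadraticForm F V} (hQ : (β[Q]).Nondegenerate) : O Q →* ℤˣ :=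
  MonoidHom.mk' (fun g => (-1) ^ (finrank F V + finrank F (fixS g))) (by
    intro g h
    have h1 := even_three (dblQ_nondegenerate hQ) (m := finrank F V) (by
      rw [Module.finrank_prod]; ring) (graphO 1) (graphO g) (graphO (g * h))
      (finrank_graphO 1) (dblQ_graphO 1) (finrank_graphO g) (dblQ_graphO g)
      (finrank_graphO (g * h)) (dblQ_graphO (g * h))
    rw [finrank_graphO_inf, finrank_graphO_inf, finrank_graphO_inf, inv_one, one_mul,
      inv_mul_cancel_left, one_mul] at h1
    rw [← pow_add]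
    generalize finrank F V = n at *
    generalize finrank F (fixS g) = a at *
    generalize finrank F (fixS h) = b at *
    generalize finrank F (fixS (g * h)) = c at *
    obtain ⟨k, hk⟩ := h1
    have h2 : Even ((n + c) + (n + a + (n + b))) := ⟨n + k, by omega⟩
    have h3 : ((-1 : ℤˣ) ^ (n + c)) * ((-1) ^ (n + a + (n + b))) = 1 := by
      rw [← pow_add, Even.neg_one_pow h2]
    rw [mul_eq_one_iff_eq_inv] at h3
    rw [h3]
    exact Int.units_inv_eq_self _)

lemma dick_apply {Q : QuadraticForm F V} (hQ : (β[Q]).Nondegenerate) (g : O Q) :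
    dick hQ g = (-1) ^ (finrank F V + finrank F (fixS g)) := rfl

lemma dick_reflO {Q : QuadraticForm F V} (hQ : (β[Q]).Nondegenerate) {w : V} (hw : Q w ≠ 0) :
    dick hQ (reflO hw) = -1 := by
  have hw0 : w ≠ 0 := by rintro rfl; exact hw (QuadraticMap.map_zero Q)
  have h1 : fixS (reflO hw) = LinearMap.BilinForm.orthogonal (β[Q]) (F ∙ w) := by
    ext x
    rw [mem_fixS, mem_orth, reflO_apply, sub_eq_self]
    constructor
    · intro h y hy
      obtain ⟨a, rfl⟩ := Submodule.mem_span_singleton.mp hy
      have h2 : (Q w)⁻¹ * β[Q] w x = 0 := (smul_eq_zero.mp h).resolve_right hw0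
      have h3 := (mul_eq_zero.mp h2).resolve_left (inv_ne_zero hw)
      rw [LinearMap.map_smul, LinearMap.smul_apply, h3, smul_zero]
    · intro h
      rw [h w (Submodule.mem_span_singleton_self w), mul_zero, zero_smul]
  have h2 := LinearMap.BilinForm.finrank_orthogonal hQ (F ∙ w)
  rw [finrank_span_singleton hw0] at h2
  have h3 : 0 < finrank F V := finrank_pos_iff_exists_ne_zero.mpr ⟨w, hw0⟩
  rw [dick_apply, h1, h2, Odd.neg_one_pow]
  exact ⟨finrank F V - 1, by omega⟩

end CfsgLib.Quad
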