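import Cfsg.Agent.Lib.Quad5

/-!
# Quadratic forms VI: the sign character, commutator subgroups of orthogonal groups over
finite fields
-/

namespace CfsgLib.Quad

open Module CfsgLib.IsomDecomp

set_option linter.unusedSimpArgs false
set_option linter.unusedSectionVars false

/-- Parity of the number of points and of fixed points of an involution. -/
lemma card_mod_two_of_involutive {α : Type*} [Finite α] (f : α → α) (hf : ∀ a, f (f a) = a) :
    Nat.card α % 2 = Nat.card {a // f a = a} % 2 := by
  classical
  have := Fintype.ofFinite α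
  let f' : Function.End α := f
  have h : f' ^ 2 ^ 1 = 1 := by
    rw [pow_one, pow_two]
    funext a
    exact hf a
  have h1 := Equiv.Perm.card_fixedPoints_modEq (α := α) (f := f') (p := 2) (n := 1) h
  rw [Nat.card_eq_fintype_card, Nat.card_eq_fintype_card]
  exact h1

/-- Sign of an involution. -/
lemma sign_of_mul_self {α : Type*} [Fintype α] [DecidableEq α] (σ : Equiv.Perm α)
    (h : σ * σ = 1) (k : ℕ) (hk : σ.support.card = 2 * k) :
    Equiv.Perm.sign σ = (-1) ^ k := by
  by_cases h1 : σ = 1
  · subst h1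
    simp at hk
    subst hk
    simp
  · have ho : orderOf σ = 2 := orderOf_eq_prime (by rw [pow_two]; exact h) h1
    obtain ⟨n, hn⟩ := Equiv.Perm.cycleType_prime_order (σ := σ) (by rw [ho]; exact Nat.prime_two)
    have h2 := Equiv.Perm.sum_cycleType σ
    rw [hk, hn, ho, Multiset.sum_replicate, smul_eq_mul] at h2
    rw [Equiv.Perm.sign_of_cycleType, hn, ho, Multiset.sum_replicate, Multiset.card_replicate,
      smul_eq_mul]
    have h3 : k = n + 1 := by omega
    rw [h3, show (n + 1) * 2 + (n + 1) = 2 * (n + 1) + (n + 1) by ring, pow_add, pow_mul]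
    simp

/-- A set of representatives modulo sign. -/
lemma exists_half {F : Type*} [Field F] (h2 : (2 : F) ≠ 0) :
    ∃ P : F → Prop, ∀ x : F, x ≠ 0 → (P (-x) ↔ ¬ P x) := by
  refine ⟨fun x => WellOrderingRel x (-x), fun x hx => ?_⟩
  change WellOrderingRel (-x) (- -x) ↔ ¬ WellOrderingRel x (-x)
  rw [neg_neg]
  have hne : x ≠ -x := by
    intro h
    have h3 : 2 * x = 0 := by linear_combination h
    exact hx ((mul_eq_zero.mp h3).resolve_left h2)
  constructor
  · intro h h'
    exact asymm_of WellOrderingRel h h'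
  · intro h
    rcases trichotomous_of WellOrderingRel x (-x) with h' | h' | h'
    · exact absurd h' h
    · exact absurd h' hne
    · exact h'

variable {F V : Type*} [Field F] [AddCommGroup V] [Module F V] [FiniteDimensional F V]

local notation "β[" Q "]" => QuadraticMap.polarBilin Q

/-- The action on the vectors with `Q x = c`. -/
def permX (Q : QuadraticForm F V) (c : F) : O Q →* Equiv.Perm {x : V // Q x = c} :=
  MonoidHom.mk' (fun g =>
    { toFun := fun x => ⟨g.1 x.1, by rw [map_coe]; exact x.2⟩
      invFun := fun x => ⟨(g⁻¹).1 x.1, by rw [map_coe]; exact x.2⟩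
      left_inv := fun x => Subtype.ext (g.1.symm_apply_apply x.1)
      right_inv := fun x => Subtype.ext (g.1.apply_symm_apply x.1) }) (fun g h => rfl)

lemma permX_apply (Q : QuadraticForm F V) (c : F) (g : O Q) (x : {x : V // Q x = c}) :
    ((permX Q c g x : {x : V // Q x = c}) : V) = g.1 x.1 := rfl

section Sign

variable [Finite F]

open Classical in
/-- The sign character. -/
noncomputable def sgnO (Q : QuadraticForm F V) (c : F) : O Q →* ℤˣ :=
  haveI : Finite V := Module.finite_of_finite F
  haveI := Fintype.ofFinite V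
  (Equiv.Perm.sign (α := {x : V // Q x = c})).comp (permX Q c)

open Classical in
lemma sgnO_reflO (h2 : (2 : F) ≠ 0) {Q : QuadraticForm F V} {c : F} (hc : c ≠ 0) {w : V}
    (hw : Q w ≠ 0) : sgnO Q c (reflO hw) = if IsSquare (c * Q w) then -1 else 1 := by
  have hVf : Finite V := Module.finite_of_finite F
  have := Fintype.ofFinite V
  obtain ⟨P, hP⟩ := exists_half h2
  set σ := permX Q c (reflO hw) with hσ
  have hσσ : σ * σ = 1 := by rw [hσ, ← _root_.map_mul, reflO_mul_self, _root_.map_one]
  have hbs : ∀ x : {x : V // Q x = c}, β[Q] w (σ x).1 = - β[Q] w x.1 := by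
    intro x
    rw [hσ, permX_apply]
    rw [reflO_apply, LinearMap.map_sub, LinearMap.map_smul, polar_self, smul_eq_mul]
    field_simp
    ring
  have hσx : ∀ x : {x : V // Q x = c}, σ x ≠ x ↔ β[Q] w x.1 ≠ 0 := by
    intro x
    rw [not_iff_not]
    constructor
    · intro h
      have h3 := hbs x
      rw [h] at h3
      have h4 : 2 * β[Q] w x.1 = 0 := by linear_combination h3
      exact (mul_eq_zero.mp h4).resolve_left h2
    · intro h
      apply Subtype.ext
      rw [hσ, permX_apply, reflO_of_orthogonal hw h]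
  set k := Nat.card {x : {x : V // Q x = c} // β[Q] w x.1 ≠ 0 ∧ P (β[Q] w x.1)} with hk
  -- the support has `2k` elements
  have hsupp : σ.support.card = 2 * k := by
    have e : {x // x ∈ σ.support} ≃
        {x : {x : V // Q x = c} // β[Q] w x.1 ≠ 0 ∧ P (β[Q] w x.1)} × Bool :=
      { toFun := fun x => if h : P (β[Q] w x.1.1) then
            (⟨x.1, (hσx x.1).mp (Equiv.Perm.mem_support.mp x.2), h⟩, true)
          else (⟨σ x.1, by
            rw [hbs, neg_ne_zero]
            exact (hσx x.1).mp (Equiv.Perm.mem_support.mp x.2), by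
            rw [hbs, hP _ ((hσx x.1).mp (Equiv.Perm.mem_support.mp x.2))]
            exact h⟩, false)
        invFun := fun x => if x.2 then
            ⟨x.1.1, Equiv.Perm.mem_support.mpr ((hσx x.1.1).mpr x.1.2.1)⟩
          else ⟨σ x.1.1, by
            rw [Equiv.Perm.mem_support, hσx, hbs, neg_ne_zero]
            exact x.1.2.1⟩
        left_inv := fun x => by
          by_cases h : P (β[Q] w x.1.1)
          · simp only [h, dite_true, if_true]
          · have h3 : σ (σ x.1) = x.1 := by
              rw [← Equiv.Perm.mul_apply, hσσ]; rfl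
            simp only [h, dite_false, Bool.false_eq_true, if_false]
            exact Subtype.ext h3
        right_inv := fun x => by
          rcases x with ⟨⟨x, hx1, hx2⟩, b⟩
          cases b
          · have h3 : ¬ P (β[Q] w (σ x).1) := by
              rw [hbs, hP _ hx1, not_not]
              exact hx2
            have h4 : σ (σ x) = x := by
              rw [← Equiv.Perm.mul_apply, hσσ]; rfl
            simp only [h3, dite_false, Bool.false_eq_true, if_false]
            exact Prod.ext (Subtype.ext h4) rfl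
          · simp only [hx2, dite_true, if_true] }
    have h3 := Nat.card_congr e
    rw [Nat.card_prod, ← hk, Nat.card_eq_fintype_card (α := Bool), Fintype.card_bool] at h3
    rw [Nat.card_eq_fintype_card, Fintype.card_coe] at h3
    rw [h3, mul_comm]
  have hsg : sgnO Q c (reflO hw) = (-1) ^ k := by
    rw [← sign_of_mul_self σ hσσ k hsupp]
    rw [sgnO, MonoidHom.comp_apply, hσ]
    congr
    exact Subsingleton.elim _ _
  -- parity of `k`
  let ι : {x : {x : V // Q x = c} // β[Q] w x.1 ≠ 0 ∧ P (β[Q] w x.1)} →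
      {x : {x : V // Q x = c} // β[Q] w x.1 ≠ 0 ∧ P (β[Q] w x.1)} := fun x =>
    ⟨⟨-(σ x.1).1, by rw [QuadraticMap.map_neg]; exact (σ x.1).2⟩, by
      change β[Q] w (-(σ x.1).1) ≠ 0 ∧ P (β[Q] w (-(σ x.1).1))
      rw [LinearMap.map_neg, hbs, neg_neg]
      exact x.2⟩
  have hιval : ∀ x, (ι x).1.1 = -((reflO hw).1 x.1.1) := fun x => rfl
  have hιι : ∀ x, ι (ι x) = x := by
    intro x
    apply Subtype.ext
    apply Subtype.ext
    rw [hιval, hιval, _root_.map_neg, neg_neg]
    have := congrArg (fun g : O Q => g.1 x.1.1) (reflO_mul_self hw)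
    exact this
  have hpar := card_mod_two_of_involutive ι hιι
  rw [← hk] at hpar
  have hfix : Nat.card {x // ι x = x} = if IsSquare (c * Q w) then 1 else 0 := by
    -- fixed points are the multiples of `w`
    have hform : ∀ x, ι x = x → x.1.1 = (β[Q] w x.1.1 / (2 * Q w)) • w := by
      intro x hx
      have h3 := congrArg (fun y : {x : {x : V // Q x = c} // β[Q] w x.1 ≠ 0 ∧
        P (β[Q] w x.1)} => y.1.1) hx
      replace h3 : (ι x).1.1 = x.1.1 := h3
      rw [hιval, reflO_apply] at h3
      have h4 : (2 : F) • x.1.1 = ((Q w)⁻¹ * β[Q] w x.1.1) • w := by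
        have h5 : x.1.1 + x.1.1 = ((Q w)⁻¹ * β[Q] w x.1.1) • w := by
          nth_rewrite 1 [← h3]
          abel
        rw [two_smul]
        exact h5
      have h5 : x.1.1 = (2 : F)⁻¹ • ((2 : F) • x.1.1) := by
        rw [smul_smul, inv_mul_cancel₀ h2, one_smul]
      conv_lhs => rw [h5, h4, smul_smul]
      congr 1
      field_simp
    split_ifs with hsq
    · -- exactly one
      obtain ⟨s, hs⟩ := hsq
      -- `t = s / Q w`
      have ht : Q ((s / Q w) • w) = c := by
        rw [map_smul]
        field_simp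
        linear_combination -hs
      have hs0 : s ≠ 0 := by
        rintro rfl
        rw [mul_zero] at hs
        exact (mul_ne_zero hc hw) hs
      have hβ : ∀ t : F, β[Q] w (t • w) = 2 * t * Q w := by
        intro t
        rw [LinearMap.map_smul, polar_self, smul_eq_mul]; ring
      have hβ0 : β[Q] w ((s / Q w) • w) ≠ 0 := by
        rw [hβ]
        exact mul_ne_zero (mul_ne_zero h2 (div_ne_zero hs0 hw)) hw
      -- choose the sign
      obtain ⟨t, htQ, htβ, htP⟩ : ∃ t : F, Q (t • w) = c ∧ β[Q] w (t • w) ≠ 0 ∧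
          P (β[Q] w (t • w)) := by
        by_cases h3 : P (β[Q] w ((s / Q w) • w))
        · exact ⟨_, ht, hβ0, h3⟩
        · refine ⟨-(s / Q w), ?_, ?_, ?_⟩
          · rw [neg_smul, QuadraticMap.map_neg]; exact ht
          · rw [neg_smul, LinearMap.map_neg, neg_ne_zero]; exact hβ0
          · rw [neg_smul, LinearMap.map_neg, hP _ hβ0]; exact h3
      rw [Nat.card_eq_one_iff_unique]
      refine ⟨⟨fun x y => ?_⟩, ⟨⟨⟨⟨t • w, htQ⟩, htβ, htP⟩, ?_⟩⟩⟩
      · -- uniqueness
        have hx := hform x.1 x.2
        have hy := hform y.1 y.2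
        set a := β[Q] w x.1.1.1 / (2 * Q w) with ha
        set b := β[Q] w y.1.1.1 / (2 * Q w) with hb
        have hxQ : Q x.1.1.1 = c := x.1.1.2
        have hyQ : Q y.1.1.1 = c := y.1.1.2
        rw [hx, map_smul] at hxQ
        rw [hy, map_smul] at hyQ
        have hab : a ^ 2 = b ^ 2 := by
          have : a ^ 2 * Q w = b ^ 2 * Q w := by rw [hxQ, hyQ]
          exact mul_right_cancel₀ hw this
        rcases sq_eq_sq_iff_eq_or_eq_neg.mp hab with h3 | h3
        · apply Subtype.ext
          apply Subtype.ext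
          apply Subtype.ext
          rw [hx, hy, h3]
        · exfalso
          have h4 : P (β[Q] w x.1.1.1) := x.1.2.2
          have h5 : P (β[Q] w y.1.1.1) := y.1.2.2
          have h6 : β[Q] w x.1.1.1 = - β[Q] w y.1.1.1 := by
            rw [hx, hy, h3, neg_smul, LinearMap.map_neg]
          rw [h6, hP _ y.1.2.1] at h4
          exact h4 h5
      · apply Subtype.ext
        apply Subtype.ext
        rw [hιval, _root_.map_smul, reflO_self]
        module
    · rw [Nat.card_eq_zero]
      left
      refine ⟨fun x => hsq ?_⟩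
      have hx := hform x.1 x.2
      have hxQ : Q x.1.1.1 = c := x.1.1.2
      rw [hx, map_smul] at hxQ
      refine ⟨(β[Q] w x.1.1.1 / (2 * Q w)) * Q w, ?_⟩
      linear_combination -Q w * hxQ
  rw [hsg]
  rw [hfix] at hpar
  split_ifs at hpar ⊢ with hsq
  · rw [Odd.neg_one_pow]
    exact Nat.odd_iff.mpr hpar
  · rw [Even.neg_one_pow]
    exact Nat.even_iff.mpr (by simpa using hpar)

end Sign

/-! ### Universality -/

/-- The restriction of a non-zero form has an anisotropic vector. -/
lemma exists_ne_zero_of_nondegenerate {Q : QuadraticForm F V} (hQ : (β[Q]).Nondegenerate)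
    (hV : 0 < finrank F V) : ∃ w, Q w ≠ 0 := by
  by_contra hcon
  push Not at hcon
  obtain ⟨v, hv⟩ := finrank_pos_iff_exists_ne_zero.mp hV
  apply hv
  apply hQ.1
  intro y
  rw [QuadraticMap.polarBilin_apply_apply, QuadraticMap.polar, hcon, hcon, hcon]
  ring

/-- For `char F ≠ 2`, the orthogonal complement of a nonsingular vector contains a nonsingular
vector. -/
lemma exists_orthogonal_nonsingular (h2 : (2 : F) ≠ 0) {Q : QuadraticForm F V}
    (hQ : (β[Q]).Nondegenerate) (hV : 2 ≤ finrank F V) {w : V} (hw : Q w ≠ 0) :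
    ∃ y, β[Q] w y = 0 ∧ Q y ≠ 0 := by
  by_contra hcon
  push Not at hcon
  have hfr := LinearMap.BilinForm.finrank_orthogonal hQ (F ∙ w)
  have hw0 : w ≠ 0 := by rintro rfl; exact hw (QuadraticMap.map_zero Q)
  rw [finrank_span_singleton hw0] at hfr
  have hpos : 0 < finrank F (LinearMap.BilinForm.orthogonal (β[Q]) (F ∙ w)) := by omega
  obtain ⟨y, hy⟩ := finrank_pos_iff_exists_ne_zero.mp hpos
  have hmem : ∀ x, x ∈ LinearMap.BilinForm.orthogonal (β[Q]) (F ∙ w) ↔ β[Q] w x = 0 := by
    intro x
    rw [mem_orth]
    constructor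
    · intro h
      exact h w (Submodule.mem_span_singleton_self w)
    · intro h z hz
      obtain ⟨a, rfl⟩ := Submodule.mem_span_singleton.mp hz
      rw [LinearMap.map_smul, LinearMap.smul_apply, h, smul_zero]
  have hy1 := (hmem y.1).mp y.2
  apply hy
  apply Subtype.ext
  apply hQ.1
  intro x
  -- decompose `x`
  set a := β[Q] w x / (2 * Q w) with ha
  have hx : β[Q] w (x - a • w) = 0 := by
    rw [LinearMap.map_sub, LinearMap.map_smul, polar_self, ha, smul_eq_mul]
    field_simp
    ring
  have h3 : x = a • w + (x - a • w) := by abel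
  rw [h3, LinearMap.map_add, LinearMap.map_smul, polar_comm Q y.1 w, hy1, smul_zero, zero_add,
    QuadraticMap.polarBilin_apply_apply, QuadraticMap.polar, hcon _ hx, hcon _ hy1, hcon]
  · ring
  · rw [LinearMap.map_add, hy1, hx, add_zero]

lemma card_odd_of_two_ne_zero [Finite F] (h2 : (2 : F) ≠ 0) : Nat.card F % 2 = 1 := by
  have := Fintype.ofFinite F
  rw [Nat.card_eq_fintype_card]
  apply FiniteField.odd_card_of_char_ne_two
  intro h
  apply h2
  have : CharP F 2 := ringChar.of_eq h
  exact CharTwo.two_eq_zero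

/-- `a x² + b y² = c` is solvable over finite fields of odd characteristic. -/
lemma exists_sq_add_sq_eq [Finite F] (h2 : (2 : F) ≠ 0) {a b : F} (ha : a ≠ 0) (hb : b ≠ 0)
    (c : F) : ∃ x y : F, x ^ 2 * a + y ^ 2 * b = c := by
  have := Fintype.ofFinite F
  have hodd := card_odd_of_two_ne_zero h2
  rw [Nat.card_eq_fintype_card] at hodd
  obtain ⟨x, y, hxy⟩ := FiniteField.exists_root_sum_quadratic (R := F)
    (f := Polynomial.C a * Polynomial.X ^ 2 + Polynomial.C 0 * Polynomial.X + Polynomial.C (-c))
    (g := Polynomial.C b * Polynomial.X ^ 2 + Polynomial.C 0 * Polynomial.X + Polynomial.C 0)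
    (Polynomial.degree_quadratic ha) (Polynomial.degree_quadratic hb) hodd
  refine ⟨x, y, ?_⟩
  simp at hxy
  linear_combination hxy

lemma isSquare_of_two_eq_zero [Finite F] (h2 : (2 : F) = 0) (a : F) : IsSquare a := by
  have hch : CharP F 2 := CharTwo.of_one_ne_zero_of_two_eq_zero one_ne_zero h2
  exact FiniteField.isSquare_of_char_two (F := F) (ringChar.eq F 2) a

/-- Nondegenerate forms of dimension at least two over finite fields are universal. -/
theorem exists_map_eq [Finite F] {Q : QuadraticForm F V} (hQ : (β[Q]).Nondegenerate)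
    (hV : 2 ≤ finrank F V) (c : F) : ∃ v, Q v = c := by
  obtain ⟨w, hw⟩ := exists_ne_zero_of_nondegenerate hQ (by omega)
  by_cases h2 : (2 : F) = 0
  · obtain ⟨s, hs⟩ := isSquare_of_two_eq_zero h2 (c / Q w)
    refine ⟨s • w, ?_⟩
    rw [map_smul, pow_two, ← hs]
    field_simp
  · obtain ⟨y, hwy, hy⟩ := exists_orthogonal_nonsingular h2 hQ hV hw
    obtain ⟨a, b, hab⟩ := exists_sq_add_sq_eq h2 hw hy c
    refine ⟨a • w + b • y, ?_⟩
    rw [map_add, map_smul, map_smul, LinearMap.map_smul, LinearMap.map_smul,
      LinearMap.smul_apply, hwy]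
    simp [hab]

/-- The orthogonal complement of a nonsingular vector represents everything. -/
theorem exists_orthogonal_map_eq [Finite F] {Q : QuadraticForm F V} (hQ : (β[Q]).Nondegenerate)
    (hV : 3 ≤ finrank F V) {w : V} (hw : Q w ≠ 0) (c : F) : ∃ v, β[Q] w v = 0 ∧ Q v = c := by
  by_cases h2 : (2 : F) = 0
  · obtain ⟨s, hs⟩ := isSquare_of_two_eq_zero h2 (c / Q w)
    refine ⟨s • w, ?_, ?_⟩
    · rw [LinearMap.map_smul, polar_self, h2]; simp
    · rw [map_smul, pow_two, ← hs]
      field_simp
  · obtain ⟨y, hwy, hy⟩ := exists_orthogonal_nonsingular h2 hQ (by omega) hw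
    -- a third vector
    have hex : ∃ z, β[Q] w z = 0 ∧ β[Q] y z = 0 ∧ Q z ≠ 0 := by
      by_contra hcon
      push Not at hcon
      have hw0 : w ≠ 0 := by rintro rfl; exact hw (QuadraticMap.map_zero Q)
      have hdim : 0 < finrank F (LinearMap.BilinForm.orthogonal (β[Q])
          (Submodule.span F {w, y})) := by
        rw [LinearMap.BilinForm.finrank_orthogonal hQ]
        classical
        have h3 := finrank_span_finset_le_card (R := F) ({w, y} : Finset V)
        have h4 : ({w, y} : Finset V).card ≤ 2 := Finset.card_le_two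
        rw [Finset.coe_insert, Finset.coe_singleton, Set.finrank] at h3
        omega
      obtain ⟨z, hz⟩ := finrank_pos_iff_exists_ne_zero.mp hdim
      have hz1 : β[Q] w z.1 = 0 := mem_orth.mp z.2 w (Submodule.subset_span (by simp))
      have hz2 : β[Q] y z.1 = 0 := mem_orth.mp z.2 y (Submodule.subset_span (by simp))
      apply hz
      apply Subtype.ext
      apply hQ.1
      intro x
      set a := β[Q] w x / (2 * Q w) with ha
      set b := β[Q] y x / (2 * Q y) with hb
      set x' := x - a • w - b • y with hx'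
      have h3 : β[Q] w x' = 0 := by
        rw [hx', LinearMap.map_sub, LinearMap.map_sub, LinearMap.map_smul, LinearMap.map_smul,
          polar_self, hwy, ha, smul_eq_mul]
        field_simp
        simp
      have h4 : β[Q] y x' = 0 := by
        rw [hx', LinearMap.map_sub, LinearMap.map_sub, LinearMap.map_smul, LinearMap.map_smul,
          polar_self, polar_comm Q y w, hwy, hb, smul_eq_mul, smul_eq_mul]
        field_simp
        simp
      have h5 : x = a • w + b • y + x' := by rw [hx']; abel
      rw [h5, LinearMap.map_add, LinearMap.map_add, LinearMap.map_smul, LinearMap.map_smul,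
        polar_comm Q z.1 w, polar_comm Q z.1 y, hz1, hz2, smul_zero, smul_zero, zero_add,
        zero_add, QuadraticMap.polarBilin_apply_apply, QuadraticMap.polar, hcon _ h3 h4,
        hcon _ hz1 hz2, hcon]
      · ring
      · rw [LinearMap.map_add, hz1, h3, add_zero]
      · rw [LinearMap.map_add, hz2, h4, add_zero]
    obtain ⟨z, hz1, hz2, hz⟩ := hex
    obtain ⟨a, b, hab⟩ := exists_sq_add_sq_eq h2 hy hz c
    refine ⟨a • y + b • z, ?_, ?_⟩
    · rw [LinearMap.map_add, LinearMap.map_smul, LinearMap.map_smul, hwy, hz1]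
      simp
    · rw [map_add, map_smul, map_smul, LinearMap.map_smul, LinearMap.map_smul,
        LinearMap.smul_apply, hz2]
      simp [hab]

/-- Nondegenerate forms of dimension at least three over finite fields are isotropic. -/
theorem exists_singular [Finite F] {Q : QuadraticForm F V} (hQ : (β[Q]).Nondegenerate)
    (hV : 3 ≤ finrank F V) : ∃ v, v ≠ 0 ∧ Q v = 0 := by
  obtain ⟨w, hw⟩ := exists_ne_zero_of_nondegenerate hQ (by omega)
  by_cases h2 : (2 : F) = 0
  · have hw0 : w ≠ 0 := by rintro rfl; exact hw (QuadraticMap.map_zero Q)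
    have hdim := LinearMap.BilinForm.finrank_orthogonal hQ (F ∙ w)
    rw [finrank_span_singleton hw0] at hdim
    -- a vector in `w^⊥` outside `⟨w⟩`
    obtain ⟨y, hy, hyw⟩ : ∃ y ∈ LinearMap.BilinForm.orthogonal (β[Q]) (F ∙ w), y ∉ (F ∙ w) := by
      by_contra hcon
      push Not at hcon
      have h3 := Submodule.finrank_mono (show LinearMap.BilinForm.orthogonal (β[Q]) (F ∙ w) ≤
        (F ∙ w) from hcon)
      rw [hdim, finrank_span_singleton hw0] at h3
      omega
    have hwy : β[Q] w y = 0 := mem_orth.mp hy w (Submodule.mem_span_singleton_self w)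
    obtain ⟨s, hs⟩ := isSquare_of_two_eq_zero h2 (-Q y / Q w)
    refine ⟨y + s • w, ?_, ?_⟩
    · intro h
      apply hyw
      rw [Submodule.mem_span_singleton]
      refine ⟨-s, ?_⟩
      rw [neg_smul]
      exact (eq_neg_of_add_eq_zero_left h).symm
    · rw [map_add, map_smul, LinearMap.map_smul, polar_comm Q y w, hwy, pow_two, ← hs]
      field_simp
      simp
  · obtain ⟨v, hv1, hv2⟩ := exists_orthogonal_map_eq hQ hV hw (-Q w)
    refine ⟨w + v, ?_, ?_⟩
    · intro h
      have h3 : v = -w := (neg_eq_of_add_eq_zero_right h).symm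
      rw [h3, LinearMap.map_neg, polar_self, neg_eq_zero] at hv1
      exact mul_ne_zero h2 hw hv1
    · rw [map_add, hv1, hv2]
      ring

end CfsgLib.Quad
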