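import Mathlib
import Cfsg.Prelude.Def_ClassicalGeometry

/-!
# Quadratic forms on coordinate spaces: reflections and Siegel transformations as matrices.
-/

namespace CfsgLib.QuadMat

open Module Matrix Cfsg

set_option linter.unusedSimpArgs false
set_option linter.unusedSectionVars false

variable {F : Type*} [Field F] {ι : Type} [Fintype ι] [DecidableEq ι]

lemma polarVec_dot (Q : QuadraticForm F (ι → F)) (v x : ι → F) :
    polarVec ⇑Q v ⬝ᵥ x = QuadraticMap.polar ⇑Q v x := by
  have h1 : QuadraticMap.polar ⇑Q v x = Q.polarBilin v x := rfl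
  have hx : x = ∑ j, x j • (Pi.single j 1 : ι → F) := by
    ext i
    simp [Finset.sum_apply, Pi.single_apply]
  rw [h1]
  conv_rhs => rw [hx, map_sum]
  simp only [map_smul, smul_eq_mul]
  rw [dotProduct]
  refine Finset.sum_congr rfl fun j _ => ?_
  rw [mul_comm]
  rfl

lemma reflection_mulVec (Q : QuadraticForm F (ι → F)) (v x : ι → F) :
    reflectionMatrix ⇑Q v *ᵥ x = x - ((Q v)⁻¹ * QuadraticMap.polar ⇑Q v x) • v := by
  rw [reflectionMatrix, Matrix.sub_mulVec, Matrix.one_mulVec, Matrix.smul_mulVec,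
    Matrix.vecMulVec_mulVec, polarVec_dot, mul_smul]
  ext i
  simp [mul_comm]

lemma siegel_mulVec (Q : QuadraticForm F (ι → F)) (u v x : ι → F) (c : F) :
    siegelMatrix ⇑Q u v c *ᵥ x = x + (c * QuadraticMap.polar ⇑Q u x) • v -
      (c * QuadraticMap.polar ⇑Q v x) • u := by
  rw [siegelMatrix, Matrix.add_mulVec, Matrix.one_mulVec, Matrix.smul_mulVec, Matrix.sub_mulVec,
    Matrix.vecMulVec_mulVec, Matrix.vecMulVec_mulVec, polarVec_dot, polarVec_dot]
  ext i
  simp [mul_comm, mul_sub, mul_left_comm]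
  ring

lemma map_smul_sq (Q : QuadraticForm F (ι → F)) (a : F) (v : ι → F) : Q (a • v) = a ^ 2 * Q v := by
  rw [QuadraticMap.map_smul, smul_eq_mul, pow_two]

lemma polar_self (Q : QuadraticForm F (ι → F)) (v : ι → F) :
    QuadraticMap.polar ⇑Q v v = 2 * Q v := by
  have h := QuadraticMap.polar_self Q v
  rw [h]
  ring

lemma map_add' (Q : QuadraticForm F (ι → F)) (v w : ι → F) :
    Q (v + w) = Q v + Q w + QuadraticMap.polar ⇑Q v w := by
  rw [QuadraticMap.polar]; ring

lemma polar_smul_right' (Q : QuadraticForm F (ι → F)) (a : F) (v w : ι → F) :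
    QuadraticMap.polar ⇑Q v (a • w) = a * QuadraticMap.polar ⇑Q v w := by
  rw [QuadraticMap.polar_smul_right, smul_eq_mul]

lemma polar_smul_left' (Q : QuadraticForm F (ι → F)) (a : F) (v w : ι → F) :
    QuadraticMap.polar ⇑Q (a • v) w = a * QuadraticMap.polar ⇑Q v w := by
  rw [QuadraticMap.polar_smul_left, smul_eq_mul]

lemma reflection_map (Q : QuadraticForm F (ι → F)) {v : ι → F} (hv : Q v ≠ 0) (x : ι → F) :
    Q (reflectionMatrix ⇑Q v *ᵥ x) = Q x := by
  rw [reflection_mulVec, sub_eq_add_neg, ← neg_smul, map_add', map_smul_sq, polar_smul_right',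
    QuadraticMap.polar_comm ⇑Q x v]
  field_simp
  ring

lemma reflection_self (Q : QuadraticForm F (ι → F)) {v : ι → F} (hv : Q v ≠ 0) :
    reflectionMatrix ⇑Q v *ᵥ v = -v := by
  rw [reflection_mulVec, polar_self, mul_left_comm, inv_mul_cancel₀ hv]
  module

lemma reflection_orthogonal (Q : QuadraticForm F (ι → F)) {v x : ι → F}
    (h : QuadraticMap.polar ⇑Q v x = 0) :
    reflectionMatrix ⇑Q v *ᵥ x = x := by
  rw [reflection_mulVec, h, mul_zero, zero_smul, sub_zero]

lemma reflection_det (Q : QuadraticForm F (ι → F)) {v : ι → F} (hv : Q v ≠ 0) :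
    (reflectionMatrix ⇑Q v).det = -1 := by
  have h1 : reflectionMatrix ⇑Q v = 1 + Matrix.replicateCol Unit (-(Q v)⁻¹ • v) *
      Matrix.replicateRow Unit (polarVec ⇑Q v) := by
    ext i j
    simp [reflectionMatrix, Matrix.vecMulVec_apply, Matrix.mul_apply, Matrix.sub_apply,
      Matrix.add_apply, sub_eq_add_neg, mul_assoc]
  rw [h1, Matrix.det_one_add_replicateCol_mul_replicateRow, dotProduct_smul, polarVec_dot,
    polar_self, smul_eq_mul]
  field_simp
  ring

lemma reflectionMatrix_mul_self (Q : QuadraticForm F (ι → F)) {v : ι → F} (hv : Q v ≠ 0) :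
    reflectionMatrix ⇑Q v * reflectionMatrix ⇑Q v = 1 := by
  ext i j
  have h : ∀ x, (reflectionMatrix ⇑Q v * reflectionMatrix ⇑Q v) *ᵥ x = x := by
    intro x
    rw [← Matrix.mulVec_mulVec, reflection_mulVec Q v x, Matrix.mulVec_sub, Matrix.mulVec_smul,
      reflection_self Q hv, reflection_mulVec]
    module
  have := congrFun (h (Pi.single j 1)) i
  simpa [Matrix.one_apply, Pi.single_apply] using this

/-- The reflection as an element of the isometry group. -/
noncomputable def reflG (Q : QuadraticForm F (ι → F)) (v : ι → F) (hv : Q v ≠ 0) :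
    ↥(isometryGroup F ⇑Q) :=
  ⟨⟨reflectionMatrix ⇑Q v, reflectionMatrix ⇑Q v, reflectionMatrix_mul_self Q hv,
    reflectionMatrix_mul_self Q hv⟩, fun u _ => reflection_map Q hv u⟩

lemma reflG_coe (Q : QuadraticForm F (ι → F)) (v : ι → F) (hv : Q v ≠ 0) :
    ((reflG Q v hv : GL ι F) : Matrix ι ι F) = reflectionMatrix ⇑Q v := rfl

/-- Isometries preserve the polar form. -/
lemma polar_isometry (Q : QuadraticForm F (ι → F)) (g : ↥(isometryGroup F ⇑Q)) (x y : ι → F) :
    QuadraticMap.polar ⇑Q (((g : GL ι F) : Matrix ι ι F) *ᵥ x)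
      (((g : GL ι F) : Matrix ι ι F) *ᵥ y) = QuadraticMap.polar ⇑Q x y := by
  have h : ∀ x, Q (((g : GL ι F) : Matrix ι ι F) *ᵥ x) = Q x := fun x => g.2 x x
  rw [QuadraticMap.polar, QuadraticMap.polar, ← Matrix.mulVec_add, h, h, h]

lemma det_isometry (Q : QuadraticForm F (ι → F))
    (hQ : (QuadraticMap.polarBilin Q).Nondegenerate) (g : ↥(isometryGroup F ⇑Q)) :
    ((g : GL ι F) : Matrix ι ι F).det = 1 ∨ ((g : GL ι F) : Matrix ι ι F).det = -1 := by
  set A := ((g : GL ι F) : Matrix ι ι F) with hA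
  set G := LinearMap.BilinForm.toMatrix' (QuadraticMap.polarBilin Q) with hG
  have hdet : G.det ≠ 0 := by
    rw [hG]
    exact (LinearMap.BilinForm.nondegenerate_toMatrix'_iff.mpr hQ).det_ne_zero
  have hB : ∀ x y, QuadraticMap.polarBilin Q x y = x ⬝ᵥ G *ᵥ y := by
    intro x y
    have := Matrix.toBilin'_toMatrix' (QuadraticMap.polarBilin Q)
    rw [← Matrix.toBilin'_apply', hG, this]
  have h1 : Aᵀ * G * A = G := by
    ext i j
    have h2 : QuadraticMap.polarBilin Q (A *ᵥ Pi.single i 1) (A *ᵥ Pi.single j 1) =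
      QuadraticMap.polarBilin Q (Pi.single i 1) (Pi.single j 1) := polar_isometry Q g _ _
    rw [hB, hB] at h2
    have h3 : (A *ᵥ Pi.single i 1) ⬝ᵥ G *ᵥ (A *ᵥ Pi.single j 1) =
        (Pi.single i 1 : ι → F) ⬝ᵥ (Aᵀ * G * A) *ᵥ Pi.single j 1 := by
      rw [← Matrix.mulVec_mulVec, ← Matrix.mulVec_mulVec, Matrix.dotProduct_mulVec _ Aᵀ,
        Matrix.vecMul_transpose]
    rw [h3] at h2
    simpa using h2
  have h2 := congrArg Matrix.det h1
  rw [Matrix.det_mul, Matrix.det_mul, Matrix.det_transpose] at h2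
  have h3 : (A.det - 1) * (A.det + 1) = 0 := by
    have : G.det * (A.det * A.det - 1) = 0 := by linear_combination h2
    rcases mul_eq_zero.mp this with h | h
    · exact absurd h hdet
    · linear_combination h
  rcases mul_eq_zero.mp h3 with h | h
  · left; exact sub_eq_zero.mp h
  · right; exact eq_neg_of_add_eq_zero_left h

end CfsgLib.QuadMat
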