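import Cfsg.Agent.Lib.Quad6
import Cfsg.Agent.Lib.QuadMat

/-!
# Quadratic forms VII: commutator subgroups of orthogonal groups over finite fields
-/

namespace CfsgLib.Quad

open Module CfsgLib.IsomDecomp Cfsg

set_option linter.unusedSimpArgs false
set_option linter.unusedSectionVars false

variable {F V : Type*} [Field F] [AddCommGroup V] [Module F V] [FiniteDimensional F V]

local notation "β[" Q "]" => QuadraticMap.polarBilin Q

/-- Non-squares have square products. -/
lemma isSquare_mul_of_not [Finite F] {a b : F} (ha : ¬ IsSquare a) (hb : ¬ IsSquare b) :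
    IsSquare (a * b) := by
  classical
  have := Fintype.ofFinite F
  have ha0 : a ≠ 0 := by rintro rfl; exact ha IsSquare.zero
  have hb0 : b ≠ 0 := by rintro rfl; exact hb IsSquare.zero
  rw [← quadraticChar_one_iff_isSquare (mul_ne_zero ha0 hb0), _root_.map_mul,
    quadraticChar_neg_one_iff_not_isSquare.mpr ha, quadraticChar_neg_one_iff_not_isSquare.mpr hb]
  rfl

lemma exists_nonsquare [Finite F] (h2 : (2 : F) ≠ 0) : ∃ a : F, ¬ IsSquare a := by
  apply FiniteField.exists_nonsquare
  intro h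
  apply h2
  have : CharP F 2 := ringChar.of_eq h
  exact CharTwo.two_eq_zero

/-- Vectors of the same (nonzero) value: reflections are conjugate. -/
lemma exists_conj_reflO {Q : QuadraticForm F V} (hQ : (β[Q]).Nondegenerate) {w w' : V}
    (hw : Q w ≠ 0) (hw' : Q w' ≠ 0) (h : Q w = Q w') :
    ∃ g : O Q, g * reflO hw * g⁻¹ = reflO hw' := by
  have hw0 : w ≠ 0 := by rintro rfl; exact hw (QuadraticMap.map_zero Q)
  have hw0' : w' ≠ 0 := by rintro rfl; exact hw' (QuadraticMap.map_zero Q)
  obtain ⟨g, hg, hgw⟩ := exists_O_family hQ (fun _ : Fin 1 => w) (fun _ : Fin 1 => w')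
    (LinearIndependent.of_subsingleton 0 hw0) (LinearIndependent.of_subsingleton 0 hw0')
    (fun _ => h) (fun _ _ => by rw [polar_self, polar_self, h])
  refine ⟨⟨g, hg⟩, ?_⟩
  rw [reflO_conj]
  have h1 : g w = w' := hgw 0
  congr 1

/-- Reflections whose values differ by a square are conjugate. -/
lemma exists_conj_reflO' {Q : QuadraticForm F V} (hQ : (β[Q]).Nondegenerate) {w w' : V}
    (hw : Q w ≠ 0) (hw' : Q w' ≠ 0) (h : IsSquare (Q w * Q w')) :
    ∃ g : O Q, g * reflO hw * g⁻¹ = reflO hw' := by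
  obtain ⟨s, hs⟩ := h
  have hs0 : s ≠ 0 := by
    rintro rfl
    rw [mul_zero] at hs
    exact mul_ne_zero hw hw' hs
  have h1 : Q ((s / Q w) • w) = Q w' := by
    rw [map_smul]
    field_simp
    linear_combination -hs
  have h2 : Q ((s / Q w) • w) ≠ 0 := by rw [h1]; exact hw'
  rw [← reflO_smul hw (div_ne_zero hs0 hw) h2]
  exact exists_conj_reflO hQ h2 hw' h1

lemma of_conj {G : Type*} [Group G] (g x : G) :
    Abelianization.of (g * x * g⁻¹) = Abelianization.of x := by
  rw [_root_.map_mul, _root_.map_mul, _root_.map_inv, mul_comm, inv_mul_cancel_left]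

section Odd

variable [Finite F]

/-- The abelianization is generated by two reflections. -/
lemma exists_zpow_of (h2 : (2 : F) ≠ 0) {Q : QuadraticForm F V} (hQ : (β[Q]).Nondegenerate)
    {w₁ w₂ : V} (hw₁ : Q w₁ ≠ 0) (hw₂ : Q w₂ ≠ 0) (h12 : ¬ IsSquare (Q w₁ * Q w₂)) (g : O Q) :
    ∃ m n : ℤ, Abelianization.of (reflO hw₁) ^ m * Abelianization.of (reflO hw₂) ^ n =
      Abelianization.of g := by
  rw [← Subgroup.mem_closure_pair]
  set A := Subgroup.closure ({Abelianization.of (reflO hw₁), Abelianization.of (reflO hw₂)} :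
    Set (Abelianization (O Q))) with hA
  have h3 : (A.comap Abelianization.of) = ⊤ := by
    apply eq_top_of_reflO hQ
    · left
      refine ⟨-1, neg_ne_zero.mpr one_ne_zero, fun h => h2 ?_⟩
      linear_combination -h
    · intro w hw
      rw [Subgroup.mem_comap]
      by_cases h4 : IsSquare (Q w₁ * Q w)
      · obtain ⟨g, hg⟩ := exists_conj_reflO' hQ hw₁ hw h4
        rw [← hg, of_conj]
        exact Subgroup.subset_closure (by simp)
      · have h5 : IsSquare (Q w₂ * Q w) := by
          obtain ⟨s, hs⟩ := isSquare_mul_of_not h12 h4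
          refine ⟨s / Q w₁, ?_⟩
          field_simp
          linear_combination hs
        obtain ⟨g, hg⟩ := exists_conj_reflO' hQ hw₂ hw h5
        rw [← hg, of_conj]
        exact Subgroup.subset_closure (by simp)
  have h4 : g ∈ A.comap Abelianization.of := by rw [h3]; trivial
  exact h4

/-- Determinant and sign together. -/
noncomputable def chiO {Q : QuadraticForm F V} (hQ : (β[Q]).Nondegenerate) (c : F) :
    O Q →* ℤˣ × ℤˣ := (dick hQ).prod (sgnO Q c)

lemma even_of_neg_one_zpow {m : ℤ} (h : (-1 : ℤˣ) ^ m = 1) : Even m := by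
  by_contra hodd
  rw [Int.not_even_iff_odd] at hodd
  rw [Odd.neg_one_zpow hodd] at h
  exact absurd h (by decide)

lemma mem_commutator_iff {G : Type*} [Group G] (g : G) :
    g ∈ commutator G ↔ Abelianization.of g = 1 := by
  rw [← Abelianization.ker_of, MonoidHom.mem_ker]

lemma exists_pair (h2 : (2 : F) ≠ 0) {Q : QuadraticForm F V} (hQ : (β[Q]).Nondegenerate)
    (hV : 2 ≤ finrank F V) (c : F) (hc : c ≠ 0) :
    ∃ (w₁ w₂ : V) (hw₁ : Q w₁ ≠ 0) (hw₂ : Q w₂ ≠ 0), ¬ IsSquare (Q w₁ * Q w₂) ∧
      sgnO Q c (reflO hw₁) = -1 ∧ sgnO Q c (reflO hw₂) = 1 := by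
  obtain ⟨ν, hν⟩ := exists_nonsquare h2
  have hν0 : ν ≠ 0 := by rintro rfl; exact hν IsSquare.zero
  obtain ⟨w₁, h₁⟩ := exists_map_eq hQ hV c
  obtain ⟨w₂, h₂⟩ := exists_map_eq hQ hV (c * ν)
  have hw₁ : Q w₁ ≠ 0 := by rw [h₁]; exact hc
  have hw₂ : Q w₂ ≠ 0 := by rw [h₂]; exact mul_ne_zero hc hν0
  have hns : ¬ IsSquare (c * (c * ν)) := by
    rintro ⟨s, hs⟩
    apply hν
    refine ⟨s / c, ?_⟩
    field_simp
    linear_combination hs
  refine ⟨w₁, w₂, hw₁, hw₂, ?_, ?_, ?_⟩
  · rw [h₁, h₂]
    exact hns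
  · rw [sgnO_reflO h2 hc, if_pos]
    rw [h₁]
    exact ⟨c, rfl⟩
  · rw [sgnO_reflO h2 hc, if_neg]
    rw [h₂]
    exact hns

/-- `Ω = ker (det, sgn)` in odd characteristic. -/
theorem commutator_eq_ker_chiO (h2 : (2 : F) ≠ 0) {Q : QuadraticForm F V}
    (hQ : (β[Q]).Nondegenerate) (hV : 2 ≤ finrank F V) (c : F) (hc : c ≠ 0) :
    commutator (O Q) = (chiO hQ c).ker := by
  apply le_antisymm
  · exact Abelianization.commutator_subset_ker _
  · intro g hg
    rw [MonoidHom.mem_ker] at hg
    obtain ⟨w₁, w₂, hw₁, hw₂, hns, hs1, hs2⟩ := exists_pair h2 hQ hV c hc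
    obtain ⟨m, n, hmn⟩ := exists_zpow_of h2 hQ hw₁ hw₂ hns g
    -- factor `χ` through the abelianization
    set χ' := Abelianization.lift (chiO hQ c) with hχ'
    have h3 : chiO hQ c g = (chiO hQ c (reflO hw₁)) ^ m * (chiO hQ c (reflO hw₂)) ^ n := by
      have h4 := congrArg χ' hmn
      rw [_root_.map_mul, _root_.map_zpow, _root_.map_zpow, hχ', Abelianization.lift_apply_of,
        Abelianization.lift_apply_of, Abelianization.lift_apply_of] at h4
      exact h4.symm
    have h5 : chiO hQ c (reflO hw₁) = (-1, -1) := Prod.ext (dick_reflO hQ hw₁) hs1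
    have h6 : chiO hQ c (reflO hw₂) = (-1, 1) := Prod.ext (dick_reflO hQ hw₂) hs2
    rw [hg, h5, h6] at h3
    have h7 := congrArg Prod.fst h3
    have h8 := congrArg Prod.snd h3
    simp only [Prod.fst_one, Prod.snd_one, Prod.fst_mul, Prod.snd_mul, Prod.pow_fst, Prod.pow_snd,
      one_zpow, mul_one] at h7 h8
    have hm : Even m := even_of_neg_one_zpow h8.symm
    rw [← zpow_add] at h7
    have hmn' : Even (m + n) := even_of_neg_one_zpow h7.symm
    have hn : Even n := (Int.even_add.mp hmn').mp hm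
    obtain ⟨k, rfl⟩ := hm
    obtain ⟨l, rfl⟩ := hn
    have hsq : ∀ (w : V) (hw : Q w ≠ 0) (k : ℤ),
        Abelianization.of (reflO hw) ^ (k + k) = 1 := by
      intro w hw k
      rw [← two_mul, zpow_mul, zpow_two, ← _root_.map_mul, reflO_mul_self, _root_.map_one,
        one_zpow]
    rw [hsq, hsq, one_mul] at hmn
    exact (mem_commutator_iff g).mpr hmn.symm

lemma chiO_surjective (h2 : (2 : F) ≠ 0) {Q : QuadraticForm F V}
    (hQ : (β[Q]).Nondegenerate) (hV : 2 ≤ finrank F V) (c : F) (hc : c ≠ 0) :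
    Function.Surjective (chiO hQ c) := by
  obtain ⟨w₁, w₂, hw₁, hw₂, hns, hs1, hs2⟩ := exists_pair h2 hQ hV c hc
  have h5 : chiO hQ c (reflO hw₁) = (-1, -1) := Prod.ext (dick_reflO hQ hw₁) hs1
  have h6 : chiO hQ c (reflO hw₂) = (-1, 1) := Prod.ext (dick_reflO hQ hw₂) hs2
  rintro ⟨a, b⟩
  rcases Int.units_eq_one_or a with rfl | rfl <;> rcases Int.units_eq_one_or b with rfl | rfl
  · exact ⟨1, _root_.map_one _⟩
  · exact ⟨reflO hw₁ * reflO hw₂, by rw [_root_.map_mul, h5, h6]; rfl⟩
  · exact ⟨_, h6⟩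
  · exact ⟨_, h5⟩

/-- `|O : Ω| = 4` in odd characteristic. -/
theorem index_commutator_odd (h2 : (2 : F) ≠ 0) {Q : QuadraticForm F V}
    (hQ : (β[Q]).Nondegenerate) (hV : 2 ≤ finrank F V) : (commutator (O Q)).index = 4 := by
  rw [commutator_eq_ker_chiO h2 hQ hV 1 one_ne_zero, Subgroup.index_ker,
    MonoidHom.range_eq_top.mpr (chiO_surjective h2 hQ hV 1 one_ne_zero), Subgroup.card_top,
    Nat.card_prod]
  simp

/-- The abelianization in characteristic two is generated by one reflection. -/
lemma commutator_eq_ker_dick (h2 : (2 : F) = 0) {Q : QuadraticForm F V}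
    (hQ : (β[Q]).Nondegenerate) (h4 : (∃ c : F, c ≠ 0 ∧ c ≠ 1) ∨ finrank F V ≠ 4) :
    commutator (O Q) = (dick hQ).ker := by
  apply le_antisymm
  · exact Abelianization.commutator_subset_ker _
  · intro g hg
    rw [MonoidHom.mem_ker] at hg
    by_cases hV : 0 < finrank F V
    · obtain ⟨w, hw⟩ := exists_ne_zero_of_nondegenerate hQ hV
      have h5 : ∀ g : O Q, Abelianization.of g ∈
          Subgroup.zpowers (Abelianization.of (reflO hw)) := by
        intro g
        have h6 : (Subgroup.zpowers (Abelianization.of (reflO hw))).comap Abelianization.of =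
            ⊤ := by
          apply eq_top_of_reflO hQ h4
          intro w' hw'
          rw [Subgroup.mem_comap]
          obtain ⟨g, hg⟩ := exists_conj_reflO' hQ hw hw' (isSquare_of_two_eq_zero h2 _)
          rw [← hg, of_conj]
          exact Subgroup.mem_zpowers _
        have h7 : g ∈ (Subgroup.zpowers (Abelianization.of (reflO hw))).comap
          Abelianization.of := by rw [h6]; trivial
        exact h7
      obtain ⟨k, hk⟩ := h5 g
      have h8 : dick hQ g = (dick hQ (reflO hw)) ^ k := by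
        have h9 := congrArg (Abelianization.lift (dick hQ)) hk
        simp only [_root_.map_zpow, Abelianization.lift_apply_of] at h9
        exact h9.symm
      rw [hg, dick_reflO] at h8
      obtain ⟨l, rfl⟩ := even_of_neg_one_zpow h8.symm
      rw [mem_commutator_iff, ← hk]
      simp only
      rw [← two_mul, zpow_mul, zpow_two, ← _root_.map_mul, reflO_mul_self, _root_.map_one,
        one_zpow]
    · have h5 : finrank F V = 0 := by omega
      have : Subsingleton V := finrank_zero_iff.mp h5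
      have : g = 1 := O_ext fun x => Subsingleton.elim _ _
      rw [this]
      exact one_mem _

theorem index_commutator_even (h2 : (2 : F) = 0) {Q : QuadraticForm F V}
    (hQ : (β[Q]).Nondegenerate) (hV : 0 < finrank F V)
    (h4 : (∃ c : F, c ≠ 0 ∧ c ≠ 1) ∨ finrank F V ≠ 4) : (commutator (O Q)).index = 2 := by
  obtain ⟨w, hw⟩ := exists_ne_zero_of_nondegenerate hQ hV
  have hs : Function.Surjective (dick hQ) := by
    intro a
    rcases Int.units_eq_one_or a with rfl | rfl
    · exact ⟨1, _root_.map_one _⟩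
    · exact ⟨_, dick_reflO hQ hw⟩
  rw [commutator_eq_ker_dick h2 hQ h4, Subgroup.index_ker, MonoidHom.range_eq_top.mpr hs,
    Subgroup.card_top]
  simp

end Odd

/-! ### Matrix versions -/

section Mat

variable {ι : Type} [Fintype ι] [DecidableEq ι]

/-- Matrices of elements given by their action. -/
lemma coe_isometryGroupEquiv_symm (Q : QuadraticForm F (ι → F)) (g : O Q) (M : Matrix ι ι F)
    (h : ∀ v, M.mulVec v = g.1 v) :
    (((isometryGroupEquiv Q).symm g : GL ι F) : Matrix ι ι F) = M := by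
  have h1 := isometryGroupEquiv_apply Q ((isometryGroupEquiv Q).symm g)
  rw [MulEquiv.apply_symm_apply] at h1
  apply Matrix.mulVec_injective
  funext v
  rw [← h1 v, h v]

lemma reflO_eq_mulVec (Q : QuadraticForm F (ι → F)) {w : ι → F} (hw : Q w ≠ 0) (v : ι → F) :
    (reflectionMatrix ⇑Q w).mulVec v = (reflO hw).1 v := by
  rw [CfsgLib.QuadMat.reflection_mulVec, reflO_apply]
  rfl

lemma coe_symm_reflO (Q : QuadraticForm F (ι → F)) {w : ι → F} (hw : Q w ≠ 0) :
    (((isometryGroupEquiv Q).symm (reflO hw) : GL ι F) : Matrix ι ι F) =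
      reflectionMatrix ⇑Q w :=
  coe_isometryGroupEquiv_symm Q _ _ (reflO_eq_mulVec Q hw)

lemma eq_reflO_of_coe (Q : QuadraticForm F (ι → F)) {w : ι → F} (hw : Q w ≠ 0)
    (g : isometryGroup F ⇑Q) (h : ((g : GL ι F) : Matrix ι ι F) = reflectionMatrix ⇑Q w) :
    isometryGroupEquiv Q g = reflO hw := by
  apply O_ext
  intro x
  rw [← reflO_eq_mulVec, ← h, isometryGroupEquiv_apply]

lemma index_commutator_congr {G H : Type*} [Group G] [Group H] (e : G ≃* H) :
    (commutator G).index = (commutator H).index := by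
  have h1 : (commutator G).index = Nat.card (Abelianization G) := rfl
  have h2 : (commutator H).index = Nat.card (Abelianization H) := rfl
  rw [h1, h2, Nat.card_congr (e.abelianizationCongr).toEquiv]

end Mat

end CfsgLib.Quad
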