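import Cfsg.Agent.Lib.Quad7
import Cfsg.Agent.Lib.Quad3

/-!
# Quadratic forms VIII: matrix versions of the structure theorems; subgroups of index two
-/

namespace CfsgLib.Quad

open Module CfsgLib.IsomDecomp Cfsg
open scoped commutatorElement

set_option linter.unusedSimpArgs false
set_option linter.unusedSectionVars false

/-! ### A lemma about groups generated by involutions outside a subgroup of index two -/

section Grp

variable {G : Type*} [Group G]

lemma mem_closure_pairs {R : Set G} (hR : ∀ r ∈ R, r * r = 1) (hgen : Subgroup.closure R = ⊤)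
    (g : G) : g ∈ Subgroup.closure {x | ∃ a ∈ R, ∃ b ∈ R, x = a * b} ∨
      ∃ r ∈ R, g * r ∈ Subgroup.closure {x | ∃ a ∈ R, ∃ b ∈ R, x = a * b} := by
  have hinv : ∀ r ∈ R, r⁻¹ = r := fun r hr => inv_eq_of_mul_eq_one_left (hR r hr)
  have hstep : ∀ x : G, (x ∈ Subgroup.closure {x | ∃ a ∈ R, ∃ b ∈ R, x = a * b} ∨
      ∃ r ∈ R, x * r ∈ Subgroup.closure {x | ∃ a ∈ R, ∃ b ∈ R, x = a * b}) → ∀ y ∈ R,
      (x * y ∈ Subgroup.closure {x | ∃ a ∈ R, ∃ b ∈ R, x = a * b} ∨
      ∃ r ∈ R, x * y * r ∈ Subgroup.closure {x | ∃ a ∈ R, ∃ b ∈ R, x = a * b}) := by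
    rintro x (hx | ⟨r, hr, hx⟩) y hy
    · right
      exact ⟨y, hy, by rw [mul_assoc, hR y hy, mul_one]; exact hx⟩
    · left
      have h1 : x * y = (x * r) * (r * y) := by
        rw [mul_assoc, ← mul_assoc r r y, hR r hr, one_mul]
      rw [h1]
      exact mul_mem hx (Subgroup.subset_closure ⟨r, hr, y, hy, rfl⟩)
  have hg : g ∈ Subgroup.closure R := by rw [hgen]; trivial
  induction hg using Subgroup.closure_induction_right with
  | one => exact Or.inl (one_mem _)
  | mul_right x hx y hy ih => exact hstep x ih y hy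
  | mul_inv_cancel x hx y hy ih =>
    rw [hinv y hy]
    exact hstep x ih y hy

lemma commutator_le_of_index_two {R : Set G} (hR : ∀ r ∈ R, r * r = 1)
    (hgen : Subgroup.closure R = ⊤) (S : Subgroup G) (hS : ∀ r ∈ R, r ∉ S) (hSi : S.index = 2)
    (H : Subgroup S) (hH : H.index = 2) : commutator G ≤ H.map S.subtype := by
  have hinv : ∀ r ∈ R, r⁻¹ = r := fun r hr => inv_eq_of_mul_eq_one_left (hR r hr)
  have hSn : S.Normal := Subgroup.normal_of_index_eq_two hSi
  have hHn : H.Normal := Subgroup.normal_of_index_eq_two hH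
  have hpair : ∀ a ∈ R, ∀ b ∈ R, a * b ∈ S := fun a ha b hb =>
    (Subgroup.mul_mem_iff_of_index_two hSi).mpr
      ⟨fun h => absurd h (hS a ha), fun h => absurd h (hS b hb)⟩
  -- `S` is generated by the products of pairs
  have hSgen : Subgroup.closure {x : S | ∃ a ∈ R, ∃ b ∈ R, (x : G) = a * b} = ⊤ := by
    rw [eq_top_iff]
    intro s _
    have hle : Subgroup.closure {x | ∃ a ∈ R, ∃ b ∈ R, x = a * b} ≤ S := by
      rw [Subgroup.closure_le]
      rintro _ ⟨a, ha, b, hb, rfl⟩
      exact hpair a ha b hb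
    have h1 : (s : G) ∈ Subgroup.closure {x | ∃ a ∈ R, ∃ b ∈ R, x = a * b} := by
      rcases mem_closure_pairs hR hgen (s : G) with h | ⟨r, hr, h⟩
      · exact h
      · exfalso
        have h2 := hle h
        rw [Subgroup.mul_mem_iff_of_index_two hSi] at h2
        exact hS r hr (h2.mp s.2)
    have h2 : Subgroup.closure {x | ∃ a ∈ R, ∃ b ∈ R, x = a * b} =
        (Subgroup.closure {x : S | ∃ a ∈ R, ∃ b ∈ R, (x : G) = a * b}).map S.subtype := by
      rw [MonoidHom.map_closure]
      congr 1
      ext x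
      constructor
      · rintro ⟨a, ha, b, hb, rfl⟩
        exact ⟨⟨a * b, hpair a ha b hb⟩, ⟨a, ha, b, hb, rfl⟩, rfl⟩
      · rintro ⟨y, ⟨a, ha, b, hb, h⟩, rfl⟩
        exact ⟨a, ha, b, hb, h⟩
    rw [h2] at h1
    obtain ⟨t, ht, hts⟩ := h1
    have : t = s := Subtype.ext hts
    exact this ▸ ht
  have hcard : Nat.card (S ⧸ H) = 2 := by
    rw [← Subgroup.index_eq_card]; exact hH
  have hsq : ∀ x : S ⧸ H, x * x = 1 := by
    intro x
    have := pow_card_eq_one' (x := x)
    rw [hcard, pow_two] at this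
    exact this
  have hcomm : ∀ x y : S ⧸ H, x * y = y * x := by
    intro x y
    have h1 := hsq (x * y)
    have hx : x⁻¹ = x := inv_eq_of_mul_eq_one_left (hsq x)
    have hy : y⁻¹ = y := inv_eq_of_mul_eq_one_left (hsq y)
    calc x * y = (x * y)⁻¹ := (inv_eq_of_mul_eq_one_left h1).symm
      _ = y * x := by rw [mul_inv_rev, hx, hy]
  -- conjugation by `r ∈ R` acts trivially on `S / H`
  have key : ∀ r ∈ R, ∀ s : S, (QuotientGroup.mk' H) (MulAut.conjNormal (H := S) r s) =
      QuotientGroup.mk' H s := by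
    intro r hr
    have h1 : (QuotientGroup.mk' H).comp (MulAut.conjNormal (H := S) r).toMonoidHom =
        QuotientGroup.mk' H := by
      apply MonoidHom.eq_of_eqOn_dense hSgen
      rintro s ⟨a, ha, b, hb, hs⟩
      rw [MonoidHom.comp_apply]
      have e1 : (MulAut.conjNormal (H := S) r).toMonoidHom s =
          ⟨r * a, hpair r hr a ha⟩ * ⟨b * r, hpair b hb r hr⟩ := by
        apply Subtype.ext
        change r * (s : G) * r⁻¹ = _
        rw [hs, hinv r hr]
        change _ = (r * a) * (b * r)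
        group
      have e2 : s = ⟨r * a, hpair r hr a ha⟩⁻¹ * ⟨b * r, hpair b hb r hr⟩⁻¹ := by
        apply Subtype.ext
        change (s : G) = (r * a)⁻¹ * (b * r)⁻¹
        rw [hs, mul_inv_rev, mul_inv_rev, hinv a ha, hinv b hb, hinv r hr, mul_assoc, ← mul_assoc r,
          hR r hr, one_mul]
      rw [e1]
      conv_rhs => rw [e2]
      rw [_root_.map_mul, _root_.map_mul, _root_.map_inv, _root_.map_inv,
        inv_eq_of_mul_eq_one_left (hsq _), inv_eq_of_mul_eq_one_left (hsq _)]
    intro s
    exact DFunLike.congr_fun h1 s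
  have key2 : ∀ r ∈ R, ∀ s ∈ S, r * s * r⁻¹ * s⁻¹ ∈ H.map S.subtype := by
    intro r hr s hs
    have h1 := key r hr ⟨s, hs⟩
    have h2 : (MulAut.conjNormal (H := S) r ⟨s, hs⟩) * (⟨s, hs⟩ : S)⁻¹ ∈ H := by
      rw [← QuotientGroup.eq_one_iff, QuotientGroup.mk_mul, QuotientGroup.mk_inv,
        mul_inv_eq_one]
      exact h1
    exact ⟨_, h2, rfl⟩
  have hHS : H.map S.subtype ≤ S := by
    rintro _ ⟨s, _, rfl⟩
    exact s.2
  -- `H` is normal in `G`
  have hN : (H.map S.subtype).Normal := by
    have h1 : ∀ g : G, ∀ h ∈ H.map S.subtype, g * h * g⁻¹ ∈ H.map S.subtype := by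
      intro g
      have hg : g ∈ Subgroup.closure R := by rw [hgen]; trivial
      have hstep : ∀ r ∈ R, ∀ h ∈ H.map S.subtype, r * h * r⁻¹ ∈ H.map S.subtype := by
        intro r hr h hh
        have := mul_mem (key2 r hr h (hHS hh)) hh
        rwa [inv_mul_cancel_right] at this
      induction hg using Subgroup.closure_induction with
      | mem r hr => exact hstep r hr
      | one => intro h hh; simpa using hh
      | mul x y _ _ hx hy =>
        intro h hh
        have := hx _ (hy h hh)
        have e : x * y * h * (x * y)⁻¹ = x * (y * h * y⁻¹) * x⁻¹ := by group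
        rw [e]; exact this
      | inv x hx' hx =>
        -- use finiteness-free argument: `x⁻¹` is again a product of elements of `R`
        have h2 : x⁻¹ ∈ Subgroup.closure R := inv_mem hx'
        have h3 : ∀ z ∈ Subgroup.closure R, ∀ h ∈ H.map S.subtype,
            z * h * z⁻¹ ∈ H.map S.subtype := by
          intro z hz
          induction hz using Subgroup.closure_induction_left with
          | one => intro h hh; simpa using hh
          | mul_left r hr y hy ih =>
            intro h hh
            have := hstep r hr _ (ih h hh)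
            have e : r * y * h * (r * y)⁻¹ = r * (y * h * y⁻¹) * r⁻¹ := by group
            rw [e]; exact this
          | inv_mul_cancel r hr y hy ih =>
            intro h hh
            have := hstep r hr _ (ih h hh)
            have e : r⁻¹ * y * h * (r⁻¹ * y)⁻¹ = r⁻¹ * (y * h * y⁻¹) * (r⁻¹)⁻¹ := by group
            rw [e, inv_inv]
            rw [hinv r hr] at this ⊢
            exact this
        exact h3 _ h2
    exact ⟨fun h hh g => h1 g h hh⟩
  -- conclusion
  have key3 : ∀ r ∈ R, ∀ x : G, r * x * r⁻¹ * x⁻¹ ∈ H.map S.subtype := by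
    intro r hr x
    by_cases hx : x ∈ S
    · exact key2 r hr x hx
    · have h1 : x * r ∈ S := (Subgroup.mul_mem_iff_of_index_two hSi).mpr
        ⟨fun h => absurd h hx, fun h => absurd h (hS r hr)⟩
      have h2 := key2 r hr (x * r) h1
      have e : r * (x * r) * r⁻¹ * (x * r)⁻¹ = r * x * r⁻¹ * x⁻¹ := by group
      rwa [e] at h2
  have hC : (Subgroup.center (G ⧸ H.map S.subtype)).comap
      (QuotientGroup.mk' (H.map S.subtype)) = ⊤ := by
    rw [eq_top_iff, ← hgen, Subgroup.closure_le]
    intro r hr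
    change QuotientGroup.mk' (H.map S.subtype) r ∈ Subgroup.center _
    rw [Subgroup.mem_center_iff]
    intro y
    obtain ⟨x, rfl⟩ := QuotientGroup.mk'_surjective _ y
    rw [← _root_.map_mul, ← _root_.map_mul]
    have h1 := key3 r hr x
    rw [← QuotientGroup.eq_one_iff] at h1
    have e : r * x = (r * x * r⁻¹ * x⁻¹) * (x * r) := by group
    symm
    calc QuotientGroup.mk' (H.map S.subtype) (r * x) =
        QuotientGroup.mk' (H.map S.subtype) (r * x * r⁻¹ * x⁻¹) *
          QuotientGroup.mk' (H.map S.subtype) (x * r) := by rw [← _root_.map_mul, ← e]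
      _ = _ := by
        rw [show QuotientGroup.mk' (H.map S.subtype) (r * x * r⁻¹ * x⁻¹) = 1 from h1, one_mul]
  rw [commutator_eq_closure, Subgroup.closure_le]
  rintro _ ⟨a, b, rfl⟩
  have ha : a ∈ (Subgroup.center (G ⧸ H.map S.subtype)).comap
      (QuotientGroup.mk' (H.map S.subtype)) := by rw [hC]; trivial
  rw [Subgroup.mem_comap, Subgroup.mem_center_iff] at ha
  have h1 := ha (QuotientGroup.mk' _ b)
  change ⁅a, b⁆ ∈ H.map S.subtype
  rw [← QuotientGroup.eq_one_iff]
  change QuotientGroup.mk' (H.map S.subtype) ⁅a, b⁆ = 1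
  rw [map_commutatorElement, commutatorElement_eq_one_iff_mul_comm]
  exact h1.symm

end Grp

section Mat

variable {F : Type*} [Field F] {ι : Type} [Fintype ι] [DecidableEq ι]

/-- The set of reflections in the matrix group. -/
def reflSet (Q : QuadraticForm F (ι → F)) : Set (isometryGroup F ⇑Q) :=
  {g | ∃ v : ι → F, Q v ≠ 0 ∧ ((g : GL ι F) : Matrix ι ι F) = reflectionMatrix ⇑Q v}

theorem closure_reflSet {Q : QuadraticForm F (ι → F)}
    (hQ : (QuadraticMap.polarBilin Q).Nondegenerate)
    (h4 : (∃ c : F, c ≠ 0 ∧ c ≠ 1) ∨ Fintype.card ι ≠ 4) :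
    Subgroup.closure (reflSet Q) = ⊤ := by
  rw [← Module.finrank_fintype_fun_eq_card F] at h4
  set G := Subgroup.closure (reflSet Q) with hG
  have h1 : G.comap (isometryGroupEquiv Q).symm.toMonoidHom = ⊤ := by
    apply eq_top_of_reflO hQ h4
    intro w hw
    rw [Subgroup.mem_comap]
    exact Subgroup.subset_closure ⟨w, hw, coe_symm_reflO Q hw⟩
  rw [eq_top_iff]
  intro g _
  have h2 : isometryGroupEquiv Q g ∈ G.comap (isometryGroupEquiv Q).symm.toMonoidHom := by
    rw [h1]; trivial
  rw [Subgroup.mem_comap] at h2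
  have h3 : (isometryGroupEquiv Q).symm.toMonoidHom (isometryGroupEquiv Q g) = g :=
    (isometryGroupEquiv Q).symm_apply_apply g
  rwa [h3] at h2

lemma reflSet_mul_self {Q : QuadraticForm F (ι → F)} : ∀ r ∈ reflSet Q, r * r = 1 := by
  rintro r ⟨v, hv, hr⟩
  apply Subtype.ext
  apply Units.ext
  change ((r : GL ι F) : Matrix ι ι F) * ((r : GL ι F) : Matrix ι ι F) = 1
  rw [hr, CfsgLib.QuadMat.reflectionMatrix_mul_self Q hv]

lemma mem_special {Q : (ι → F) → F} (g : isometryGroup F Q) :
    g ∈ specialIsometryGroup F Q ↔ ((g : GL ι F) : Matrix ι ι F).det = 1 := by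
  rw [specialIsometryGroup, MonoidHom.mem_ker, MonoidHom.comp_apply, Units.ext_iff]
  rfl

lemma reflSet_not_mem_special (h2 : (2 : F) ≠ 0) {Q : QuadraticForm F (ι → F)} :
    ∀ r ∈ reflSet Q, r ∉ specialIsometryGroup F ⇑Q := by
  rintro r ⟨v, hv, hr⟩ h
  rw [mem_special, hr, CfsgLib.QuadMat.reflection_det Q hv] at h
  exact h2 (by linear_combination -h)

lemma index_special (h2 : (2 : F) ≠ 0) {Q : QuadraticForm F (ι → F)}
    (hQ : (QuadraticMap.polarBilin Q).Nondegenerate) (hv : ∃ v, Q v ≠ 0) :
    (specialIsometryGroup F ⇑Q).index = 2 := by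
  obtain ⟨v, hv⟩ := hv
  rw [Subgroup.index_eq_two_iff]
  refine ⟨CfsgLib.QuadMat.reflG Q v hv, fun b => ?_⟩
  have h1 : ((b * CfsgLib.QuadMat.reflG Q v hv : isometryGroup F ⇑Q) : GL ι F).1.det =
      -((b : GL ι F) : Matrix ι ι F).det := by
    change (((b : GL ι F) : Matrix ι ι F) * reflectionMatrix ⇑Q v).det = _
    rw [Matrix.det_mul, CfsgLib.QuadMat.reflection_det Q hv, mul_neg_one]
  rw [mem_special, mem_special, h1]
  rcases CfsgLib.QuadMat.det_isometry Q hQ b with h | h
  · right
    exact ⟨h, fun h' => h2 (by rw [h] at h'; linear_combination -h')⟩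
  · left
    exact ⟨by rw [h, neg_neg], fun h' => h2 (by rw [h] at h'; linear_combination -h')⟩

lemma special_eq_top (h2 : (2 : F) = 0) {Q : QuadraticForm F (ι → F)}
    (hQ : (QuadraticMap.polarBilin Q).Nondegenerate) : specialIsometryGroup F ⇑Q = ⊤ := by
  rw [eq_top_iff]
  intro g _
  rw [mem_special]
  rcases CfsgLib.QuadMat.det_isometry Q hQ g with h | h
  · exact h
  · rw [h]
    linear_combination -h2

theorem index_Omega_odd [Finite F] (h2 : (2 : F) ≠ 0) {Q : QuadraticForm F (ι → F)}
    (hQ : (QuadraticMap.polarBilin Q).Nondegenerate) (hn : 2 ≤ Fintype.card ι) :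
    (Omega F ⇑Q).index = 4 := by
  rw [← Module.finrank_fintype_fun_eq_card F] at hn
  rw [Omega, index_commutator_congr (isometryGroupEquiv Q)]
  exact index_commutator_odd h2 hQ hn

theorem index_Omega_even [Finite F] (h2 : (2 : F) = 0) {Q : QuadraticForm F (ι → F)}
    (hQ : (QuadraticMap.polarBilin Q).Nondegenerate) (hn : 0 < Fintype.card ι)
    (h4 : (∃ c : F, c ≠ 0 ∧ c ≠ 1) ∨ Fintype.card ι ≠ 4) :
    (Omega F ⇑Q).index = 2 := by
  rw [← Module.finrank_fintype_fun_eq_card F] at hn h4
  rw [Omega, index_commutator_congr (isometryGroupEquiv Q)]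
  exact index_commutator_even h2 hQ hn h4

lemma exists_two_elements {F : Type*} [Field F] [Fintype F] (h : Fintype.card F ≠ 2) :
    ∃ c : F, c ≠ 0 ∧ c ≠ 1 := by
  classical
  have h1 := Fintype.one_lt_card (α := F)
  have h3 : 2 < Fintype.card F := by omega
  obtain ⟨c, hc⟩ := Finset.exists_mem_notMem_of_card_lt_card (s := ({0, 1} : Finset F))
    (t := Finset.univ) (by
      rw [Finset.card_univ]
      exact lt_of_le_of_lt Finset.card_le_two h3)
  refine ⟨c, ?_, ?_⟩
  · rintro rfl; exact hc.2 (by simp)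
  · rintro rfl; exact hc.2 (by simp)

lemma Omega_le_special {Q : (ι → F) → F} : Omega F Q ≤ specialIsometryGroup F Q :=
  Abelianization.commutator_subset_ker _

theorem existsUnique_index_two [Finite F] {Q : QuadraticForm F (ι → F)}
    (hQ : (QuadraticMap.polarBilin Q).Nondegenerate) (hn : 2 ≤ Fintype.card ι)
    (h4 : (∃ c : F, c ≠ 0 ∧ c ≠ 1) ∨ Fintype.card ι ≠ 4) :
    ∃! H : Subgroup ↥(specialIsometryGroup F ⇑Q), H.index = 2 := by
  have hex : ∃ v, Q v ≠ 0 := exists_ne_zero_of_nondegenerate hQ (by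
    rw [Module.finrank_fintype_fun_eq_card]; omega)
  have hrel : (Omega F ⇑Q).relIndex (specialIsometryGroup F ⇑Q) = 2 := by
    have h5 := Subgroup.relIndex_mul_index (Omega_le_special (F := F) (Q := ⇑Q))
    by_cases h2 : (2 : F) = 0
    · rw [index_Omega_even h2 hQ (by omega) h4, special_eq_top h2 hQ, Subgroup.index_top,
        mul_one] at h5
      rw [special_eq_top h2 hQ]
      exact h5
    · rw [index_Omega_odd h2 hQ hn, index_special h2 hQ hex] at h5
      omega
  refine ⟨(Omega F ⇑Q).subgroupOf (specialIsometryGroup F ⇑Q), hrel, ?_⟩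
  intro H hH
  have hle : Omega F ⇑Q ≤ H.map (specialIsometryGroup F ⇑Q).subtype := by
    by_cases h2 : (2 : F) = 0
    · -- index two subgroups contain the commutator subgroup
      have h5 : (H.map (specialIsometryGroup F ⇑Q).subtype).index = 2 := by
        rw [Subgroup.index_map_subtype, hH, special_eq_top h2 hQ, Subgroup.index_top, mul_one]
      have h6 : (H.map (specialIsometryGroup F ⇑Q).subtype).Normal :=
        Subgroup.normal_of_index_eq_two h5
      have h7 : Nat.card (isometryGroup F ⇑Q ⧸ H.map (specialIsometryGroup F ⇑Q).subtype) = 2 := by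
        rw [← Subgroup.index_eq_card]; exact h5
      have hsq : ∀ x : isometryGroup F ⇑Q ⧸ H.map (specialIsometryGroup F ⇑Q).subtype,
          x * x = 1 := by
        intro x
        have := pow_card_eq_one' (x := x)
        rw [h7, pow_two] at this
        exact this
      rw [Omega, commutator_eq_closure, Subgroup.closure_le]
      rintro _ ⟨a, b, rfl⟩
      change ⁅a, b⁆ ∈ H.map (specialIsometryGroup F ⇑Q).subtype
      rw [← QuotientGroup.eq_one_iff]
      change QuotientGroup.mk' (H.map (specialIsometryGroup F ⇑Q).subtype) ⁅a, b⁆ = 1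
      rw [map_commutatorElement, commutatorElement_eq_one_iff_mul_comm]
      generalize QuotientGroup.mk' (H.map (specialIsometryGroup F ⇑Q).subtype) a = x
      generalize QuotientGroup.mk' (H.map (specialIsometryGroup F ⇑Q).subtype) b = y
      have h1 := hsq (x * y)
      have hx : x⁻¹ = x := inv_eq_of_mul_eq_one_left (hsq x)
      have hy : y⁻¹ = y := inv_eq_of_mul_eq_one_left (hsq y)
      calc x * y = (x * y)⁻¹ := (inv_eq_of_mul_eq_one_left h1).symm
        _ = y * x := by rw [mul_inv_rev, hx, hy]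
    · exact commutator_le_of_index_two reflSet_mul_self (closure_reflSet hQ h4) _
        (reflSet_not_mem_special h2) (index_special h2 hQ hex) H hH
  have hle2 : (Omega F ⇑Q).subgroupOf (specialIsometryGroup F ⇑Q) ≤ H := by
    intro x hx
    obtain ⟨y, hy, hyx⟩ := hle hx
    have : y = x := Subtype.ext hyx
    exact this ▸ hy
  have h5 := Subgroup.relIndex_mul_index hle2
  have h6 : ((Omega F ⇑Q).subgroupOf (specialIsometryGroup F ⇑Q)).index = 2 := hrel
  rw [hH, h6] at h5
  have h7 : ((Omega F ⇑Q).subgroupOf (specialIsometryGroup F ⇑Q)).relIndex H = 1 := by omega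
  rw [Subgroup.relIndex_eq_one] at h7
  exact le_antisymm h7 hle2

/-- `SO` is generated by products of two reflections. -/
theorem special_eq_closure (h2 : (2 : F) ≠ 0) {Q : QuadraticForm F (ι → F)}
    (hQ : (QuadraticMap.polarBilin Q).Nondegenerate) :
    specialIsometryGroup F ⇑Q = Subgroup.closure {g : ↥(isometryGroup F ⇑Q) |
      ∃ u v : ι → F, Q u ≠ 0 ∧ Q v ≠ 0 ∧ ((g : GL ι F) : Matrix ι ι F) =
        reflectionMatrix ⇑Q u * reflectionMatrix ⇑Q v} := by
  have hset : {g : ↥(isometryGroup F ⇑Q) |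
      ∃ u v : ι → F, Q u ≠ 0 ∧ Q v ≠ 0 ∧ ((g : GL ι F) : Matrix ι ι F) =
        reflectionMatrix ⇑Q u * reflectionMatrix ⇑Q v} =
      {x | ∃ a ∈ reflSet Q, ∃ b ∈ reflSet Q, x = a * b} := by
    ext g
    constructor
    · rintro ⟨u, v, hu, hv, hg⟩
      refine ⟨CfsgLib.QuadMat.reflG Q u hu, ⟨u, hu, rfl⟩, CfsgLib.QuadMat.reflG Q v hv,
        ⟨v, hv, rfl⟩, ?_⟩
      apply Subtype.ext
      apply Units.ext
      exact hg
    · rintro ⟨a, ⟨u, hu, ha⟩, b, ⟨v, hv, hb⟩, rfl⟩
      refine ⟨u, v, hu, hv, ?_⟩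
      rw [← ha, ← hb]
      rfl
  rw [hset]
  have hle : Subgroup.closure {x | ∃ a ∈ reflSet Q, ∃ b ∈ reflSet Q, x = a * b} ≤
      specialIsometryGroup F ⇑Q := by
    rw [Subgroup.closure_le]
    rintro _ ⟨a, ⟨u, hu, ha⟩, b, ⟨v, hv, hb⟩, rfl⟩
    change a * b ∈ specialIsometryGroup F ⇑Q
    rw [mem_special]
    change (((a : GL ι F) : Matrix ι ι F) * ((b : GL ι F) : Matrix ι ι F)).det = 1
    rw [Matrix.det_mul, ha, hb, CfsgLib.QuadMat.reflection_det Q hu,
      CfsgLib.QuadMat.reflection_det Q hv]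
    ring
  apply le_antisymm _ hle
  intro g hg
  have hgen := closure_reflSet hQ (Or.inl ⟨-1, neg_ne_zero.mpr one_ne_zero, fun h => h2 (by
    linear_combination -h)⟩)
  rcases mem_closure_pairs reflSet_mul_self hgen g with h | ⟨r, hr, h⟩
  · exact h
  · exfalso
    have h5 := hle h
    obtain ⟨v, hv, hrv⟩ := hr
    rw [mem_special] at h5 hg
    change (((g : GL ι F) : Matrix ι ι F) * ((r : GL ι F) : Matrix ι ι F)).det = 1 at h5
    rw [Matrix.det_mul, hg, hrv, CfsgLib.QuadMat.reflection_det Q hv] at h5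
    exact h2 (by linear_combination -h5)

end Mat

/-! ### Subgroups of index two -/

/-- `ℤˣ × ℤˣ` has three subgroups of index two. -/
lemma card_index_two_klein : Nat.card {H : Subgroup (ℤˣ × ℤˣ) // H.index = 2} = 3 := by
  have e : {x : ℤˣ × ℤˣ // x ≠ 1} ≃ {H : Subgroup (ℤˣ × ℤˣ) // H.index = 2} := by
    have hsq : ∀ x : ℤˣ × ℤˣ, x * x = 1 := by decide
    have hzp : ∀ x y : ℤˣ × ℤˣ, y ∈ Subgroup.zpowers x ↔ y = 1 ∨ y = x := by
      intro x y
      constructor
      · rintro ⟨k, rfl⟩
        rcases Int.even_or_odd k with ⟨l, rfl⟩ | ⟨l, rfl⟩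
        · left
          change x ^ (l + l) = 1
          rw [← two_mul, zpow_mul, zpow_two, hsq, one_zpow]
        · right
          change x ^ (2 * l + 1) = x
          rw [zpow_add, zpow_mul, zpow_two, hsq, one_zpow, one_mul, zpow_one]
      · rintro (rfl | rfl)
        · exact one_mem _
        · exact Subgroup.mem_zpowers _
    have hcardG : Nat.card (ℤˣ × ℤˣ) = 4 := by simp [Nat.card_prod]
    have hidx : ∀ x : ℤˣ × ℤˣ, x ≠ 1 → (Subgroup.zpowers x).index = 2 := by
      intro x hx
      have h1 := Subgroup.card_mul_index (Subgroup.zpowers x)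
      rw [Nat.card_zpowers, orderOf_eq_prime (by rw [pow_two]; exact hsq x) hx, hcardG] at h1
      omega
    refine Equiv.ofBijective (fun x => ⟨Subgroup.zpowers x.1, hidx x.1 x.2⟩) ⟨?_, ?_⟩
    · intro x y hxy
      have h1 : Subgroup.zpowers x.1 = Subgroup.zpowers y.1 := congrArg Subtype.val hxy
      have h2 : x.1 ∈ Subgroup.zpowers y.1 := by rw [← h1]; exact Subgroup.mem_zpowers _
      rw [hzp] at h2
      exact Subtype.ext (h2.resolve_left x.2)
    · rintro ⟨H, hH⟩
      have h1 := Subgroup.card_mul_index H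
      rw [hH, hcardG] at h1
      have h2 : Nat.card H = 2 := by omega
      have h3 : H ≠ ⊥ := by
        rintro rfl
        rw [Subgroup.card_bot] at h2
        omega
      obtain ⟨x, hx, hx1⟩ := (Subgroup.ne_bot_iff_exists_ne_one.mp h3) |>.elim fun a ha =>
        (⟨a.1, a.2, fun h => ha (Subtype.ext h)⟩ : ∃ x ∈ H, x ≠ 1)
      refine ⟨⟨x, hx1⟩, Subtype.ext ?_⟩
      change Subgroup.zpowers x = H
      apply Subgroup.eq_of_le_of_card_ge
      · rw [Subgroup.zpowers_le]; exact hx
      · rw [h2, Nat.card_zpowers, orderOf_eq_prime (by rw [pow_two]; exact hsq x) hx1]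
  rw [← Nat.card_congr e, Nat.card_eq_fintype_card]
  decide

/-- Subgroups of index two contain the commutator subgroup. -/
lemma commutator_le_of_index_eq_two {G : Type*} [Group G] {H : Subgroup G} (hH : H.index = 2) :
    commutator G ≤ H := by
  have h6 : H.Normal := Subgroup.normal_of_index_eq_two hH
  have h7 : Nat.card (G ⧸ H) = 2 := by
    rw [← Subgroup.index_eq_card]; exact hH
  have hsq : ∀ x : G ⧸ H, x * x = 1 := by
    intro x
    have := pow_card_eq_one' (x := x)
    rw [h7, pow_two] at this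
    exact this
  rw [commutator_eq_closure, Subgroup.closure_le]
  rintro _ ⟨a, b, rfl⟩
  change ⁅a, b⁆ ∈ H
  rw [← QuotientGroup.eq_one_iff]
  change QuotientGroup.mk' H ⁅a, b⁆ = 1
  rw [map_commutatorElement, commutatorElement_eq_one_iff_mul_comm]
  generalize QuotientGroup.mk' H a = x
  generalize QuotientGroup.mk' H b = y
  have h1 := hsq (x * y)
  have hx : x⁻¹ = x := inv_eq_of_mul_eq_one_left (hsq x)
  have hy : y⁻¹ = y := inv_eq_of_mul_eq_one_left (hsq y)
  calc x * y = (x * y)⁻¹ := (inv_eq_of_mul_eq_one_left h1).symm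
    _ = y * x := by rw [mul_inv_rev, hx, hy]

/-- A surjection whose kernel is the commutator subgroup induces a bijection on subgroups of
index two. -/
lemma card_index_two_of_ker {G E : Type*} [Group G] [Group E] (f : G →* E)
    (hf : Function.Surjective f) (hk : f.ker = commutator G) :
    Nat.card {H : Subgroup G // H.index = 2} = Nat.card {H : Subgroup E // H.index = 2} := by
  refine (Nat.card_congr (Equiv.ofBijective (fun H : {H : Subgroup E // H.index = 2} =>
    (⟨H.1.comap f, by rw [Subgroup.index_comap_of_surjective _ hf]; exact H.2⟩ :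
      {H : Subgroup G // H.index = 2})) ⟨?_, ?_⟩)).symm
  · intro H K hHK
    have h1 : H.1.comap f = K.1.comap f := congrArg Subtype.val hHK
    exact Subtype.ext (Subgroup.comap_injective hf h1)
  · rintro ⟨H, hH⟩
    have h1 : (H.map f).comap f = H := by
      rw [Subgroup.comap_map_eq, hk]
      exact sup_eq_left.mpr (commutator_le_of_index_eq_two hH)
    refine ⟨⟨H.map f, ?_⟩, Subtype.ext h1⟩
    rw [← Subgroup.index_comap_of_surjective _ hf, h1]
    exact hH

theorem card_index_two_congr {G H : Type*} [Group G] [Group H] (e : G ≃* H) :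
    Nat.card {K : Subgroup G // K.index = 2} = Nat.card {K : Subgroup H // K.index = 2} :=
  (Nat.card_congr (Equiv.ofBijective (fun K : {K : Subgroup H // K.index = 2} =>
    (⟨K.1.comap e.toMonoidHom, by
      rw [Subgroup.index_comap_of_surjective _ e.surjective]; exact K.2⟩ :
      {K : Subgroup G // K.index = 2})) ⟨fun A B h => Subtype.ext
        (Subgroup.comap_injective e.surjective (congrArg Subtype.val h)), fun K =>
        ⟨⟨K.1.comap e.symm.toMonoidHom, by
          rw [Subgroup.index_comap_of_surjective _ e.symm.surjective]; exact K.2⟩,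
          Subtype.ext (by ext x; simp [Subgroup.mem_comap])⟩⟩)).symm

end CfsgLib.Quad
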