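import Cfsg.Agent.Lib.Quad8

/-!
# Quadratic forms IX: `-1 ∈ Ω`, numbers of vectors of given value
-/

namespace CfsgLib.Quad

open Module CfsgLib.IsomDecomp Cfsg

set_option linter.unusedSimpArgs false
set_option linter.unusedSectionVars false

variable {F V : Type*} [Field F] [AddCommGroup V] [Module F V] [FiniteDimensional F V]

local notation "β[" Q "]" => QuadraticMap.polarBilin Q

/-- `-1`. -/
noncomputable def negO (Q : QuadraticForm F V) : O Q :=
  ⟨LinearEquiv.neg F, mem_O.mpr fun x => QuadraticMap.map_neg Q x⟩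

lemma negO_apply (Q : QuadraticForm F V) (x : V) : (negO Q).1 x = -x := rfl

lemma dick_negO (h2 : (2 : F) ≠ 0) {Q : QuadraticForm F V} (hQ : (β[Q]).Nondegenerate) :
    dick hQ (negO Q) = (-1) ^ finrank F V := by
  rw [dick_apply]
  have h : fixS (negO Q) = ⊥ := by
    rw [eq_bot_iff]
    intro x hx
    rw [mem_fixS, negO_apply] at hx
    have h3 : (2 : F) • x = 0 := by
      rw [two_smul]
      nth_rewrite 1 [← hx]
      exact neg_add_cancel x
    exact (smul_eq_zero.mp h3).resolve_left h2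
  rw [h, finrank_bot, add_zero]

lemma sgnO_negO [Finite F] (h2 : (2 : F) ≠ 0) {Q : QuadraticForm F V} {c : F} (hc : c ≠ 0)
    (k : ℕ) (hk : Nat.card {x : V // Q x = c} = 2 * k) : sgnO Q c (negO Q) = (-1) ^ k := by
  classical
  have hVf : Finite V := Module.finite_of_finite F
  have := Fintype.ofFinite V
  rw [← sign_of_mul_self (permX Q c (negO Q)) (by
    rw [← _root_.map_mul, ← _root_.map_one (permX Q c)]
    congr 1
    exact O_ext fun x => neg_neg x) k]
  · rw [sgnO, MonoidHom.comp_apply]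
    congr
    exact Subsingleton.elim _ _
  · rw [← hk, Nat.card_eq_fintype_card, ← Finset.card_univ]
    congr 1
    rw [Finset.eq_univ_iff_forall]
    intro x
    rw [Equiv.Perm.mem_support]
    intro h
    have h3 := congrArg Subtype.val h
    rw [permX_apply, negO_apply] at h3
    have h4 : (2 : F) • x.1 = 0 := by
      rw [two_smul]
      nth_rewrite 1 [← h3]
      exact neg_add_cancel x.1
    have h5 := (smul_eq_zero.mp h4).resolve_left h2
    apply hc
    rw [← x.2, h5, QuadraticMap.map_zero]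

/-- Numbers of vectors of a given value are equal if similarities exist. -/
lemma card_eq_of_similar [Finite F] {Q : QuadraticForm F V}
    (hs : ∀ c : F, c ≠ 0 → ∃ T : V ≃ₗ[F] V, ∀ v, Q (T v) = c * Q v) :
    Nat.card {x : V // Q x = 0} + (Nat.card F - 1) * Nat.card {x : V // Q x = 1} =
      Nat.card F ^ finrank F V := by
  classical
  have hVf : Finite V := Module.finite_of_finite F
  have := Fintype.ofFinite V
  have := Fintype.ofFinite F
  have h1 : Nat.card V = ∑ c : F, Nat.card {x : V // Q x = c} := by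
    rw [← Nat.card_sigma]
    exact Nat.card_congr (Equiv.sigmaFiberEquiv Q).symm
  rw [Module.natCard_eq_pow_finrank (K := F)] at h1
  rw [h1, ← Finset.add_sum_erase Finset.univ _ (Finset.mem_univ (0 : F))]
  congr 1
  rw [Finset.sum_congr rfl (g := fun _ => Nat.card {x : V // Q x = 1}), Finset.sum_const,
    Finset.card_erase_of_mem (Finset.mem_univ _), Finset.card_univ, smul_eq_mul,
    Nat.card_eq_fintype_card]
  intro c hc
  obtain ⟨T, hT⟩ := hs c (Finset.ne_of_mem_erase hc)
  refine (Nat.card_congr (T.toEquiv.subtypeEquiv fun v => ?_)).symm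
  change _ ↔ Q (T v) = c
  rw [hT]
  constructor
  · intro h; rw [h, mul_one]
  · intro h
    exact mul_left_cancel₀ (Finset.ne_of_mem_erase hc) (by rw [h, mul_one])

/-- Extension of a similarity to a hyperbolic sum. -/
noncomputable def hypSim (m : ℕ) {c : F} (hc : c ≠ 0) (T : V ≃ₗ[F] V) :
    ((Fin m → F × F) × V) ≃ₗ[F] ((Fin m → F × F) × V) where
  toFun x := (fun i => (c * (x.1 i).1, (x.1 i).2), T x.2)
  invFun x := (fun i => (c⁻¹ * (x.1 i).1, (x.1 i).2), T.symm x.2)
  map_add' x y := Prod.ext (funext fun i => Prod.ext (mul_add _ _ _) rfl) (_root_.map_add T _ _)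
  map_smul' a x := Prod.ext (funext fun i => Prod.ext (mul_left_comm _ _ _) rfl)
    (_root_.map_smul T _ _)
  left_inv x := Prod.ext (funext fun i => Prod.ext (by simp [hc]) rfl) (T.symm_apply_apply _)
  right_inv x := Prod.ext (funext fun i => Prod.ext (by simp [hc]) rfl) (T.apply_symm_apply _)

omit [FiniteDimensional F V] in
lemma hypSim_map (m : ℕ) {c : F} (hc : c ≠ 0) {Q : QuadraticForm F V} (T : V ≃ₗ[F] V)
    (hT : ∀ v, Q (T v) = c * Q v) (x : (Fin m → F × F) × V) :
    hypSum m Q (hypSim m hc T x) = c * hypSum m Q x := by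
  rw [hypSum_apply, hypSum_apply]
  change ∑ i, (c * (x.1 i).1) * (x.1 i).2 + Q (T x.2) = _
  rw [hT, mul_add, Finset.mul_sum]
  congr 1
  exact Finset.sum_congr rfl fun i _ => mul_assoc _ _ _

lemma sim_zeroQ (c : F) : ∀ v, zeroQ F ((LinearEquiv.refl F PUnit.{1}) v) = c * zeroQ F v := by
  intro v
  change (0 : F) = c * 0
  rw [mul_zero]

lemma sim_binQ [Finite F] {a b : F} (hab : Aniso a b) {c : F} (hc : c ≠ 0) :
    ∃ T : QK a b ≃ₗ[F] QK a b, ∀ v, binQ a b (T v) = c * binQ a b v := by
  have := hab.fact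
  have : Finite (QK a b) := Module.finite_of_finite F
  obtain ⟨u, hu⟩ := FiniteField.norm_surjective F (QK a b) c
  rw [algebraNorm_eq] at hu
  have hu0 : u ≠ 0 := by
    rintro rfl
    rw [QuadraticAlgebra.norm_zero] at hu
    exact hc hu.symm
  refine ⟨{ toFun := fun z => u * z
            invFun := fun z => u⁻¹ * z
            map_add' := fun x y => mul_add _ _ _
            map_smul' := fun r x => mul_smul_comm _ _ _
            left_inv := fun z => inv_mul_cancel_left₀ hu0 z
            right_inv := fun z => mul_inv_cancel_left₀ hu0 z }, fun v => ?_⟩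
  change binQ a b (u * v) = _
  rw [binQ_apply, binQ_apply, _root_.map_mul, hu]

section

variable [Finite F]

lemma card_one_plus (m : ℕ) :
    Nat.card {x : (Fin (m + 1) → F × F) × PUnit.{1} // hypSum (m + 1) (zeroQ F) x = 1} =
      Nat.card F ^ m * (Nat.card F ^ (m + 1) - 1) := by
  have h := card_eq_of_similar (Q := hypSum (m + 1) (zeroQ F)) (fun c hc =>
    ⟨hypSim (m + 1) hc (LinearEquiv.refl F PUnit.{1}), hypSim_map _ hc _ (sim_zeroQ c)⟩)
  have h0 := card_plus_zero (F := F) m
  have e : {v : Fin (m + 1) ⊕ Fin (m + 1) → F // quadFormPlus (m + 1) F v = 0} ≃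
      {x : (Fin (m + 1) → F × F) × PUnit.{1} // hypSum (m + 1) (zeroQ F) x = 0} :=
    (ePlus (m + 1) F).toEquiv.subtypeEquiv fun v => by
      rw [← ePlus_apply]; rfl
  rw [Nat.card_congr e] at h0
  rw [finrank_hypSum, finrank_eq_zero_of_subsingleton] at h
  have hq : 1 < Nat.card F := Finite.one_lt_card
  obtain ⟨d, hd⟩ := Nat.exists_eq_add_of_lt hq
  have h1 : 1 ≤ Nat.card F ^ (m + 1) := Nat.one_le_pow _ _ (by omega)
  obtain ⟨r, hr⟩ := Nat.exists_eq_add_of_le h1
  rw [hr, Nat.add_sub_cancel_left]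
  have hd' : Nat.card F - 1 = d + 1 := by omega
  rw [hd'] at h
  generalize Nat.card {x : (Fin (m + 1) → F × F) × PUnit.{1} // hypSum (m + 1) (zeroQ F) x = 1} =
    N₁ at *
  generalize Nat.card {x : (Fin (m + 1) → F × F) × PUnit.{1} // hypSum (m + 1) (zeroQ F) x = 0} =
    N₀ at *
  have e1 : Nat.card F ^ (2 * (m + 1) + 0) = Nat.card F ^ m * (1 + r) * Nat.card F := by
    rw [← hr]; ring
  have e2 : Nat.card F ^ (2 * m + 1) = Nat.card F ^ m * (1 + r) := by rw [← hr]; ring
  rw [e1] at h
  rw [e2, hr] at h0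
  have e3 : 1 + r = Nat.card F ^ m * Nat.card F := by rw [← hr]; ring
  rw [show 1 + d + 1 = d + 2 by ring] at hd
  rw [hd] at h e3 h0 ⊢
  generalize (d + 2) ^ m = P at *
  apply Nat.eq_of_mul_eq_mul_left (show 0 < d + 1 by omega)
  zify at *
  linear_combination h - h0 - (1 : ℤ) * e3

lemma card_one_minus {a b : F} (hab : Aniso a b) (m : ℕ) :
    Nat.card {x : (Fin m → F × F) × QK a b // hypSum m (binQ a b) x = 1} =
      Nat.card F ^ m * (Nat.card F ^ (m + 1) + 1) := by
  have h := card_eq_of_similar (Q := hypSum m (binQ a b)) (fun c hc => by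
    obtain ⟨T, hT⟩ := sim_binQ hab hc
    exact ⟨hypSim m hc T, hypSim_map _ hc _ hT⟩)
  have h0 := card_minus_zero hab m
  have e : {v : (Fin m ⊕ Fin m) ⊕ Fin 2 → F // quadFormMinus m F a b v = 0} ≃
      {x : (Fin m → F × F) × QK a b // hypSum m (binQ a b) x = 0} :=
    (eMinus m a b).toEquiv.subtypeEquiv fun v => by
      rw [← eMinus_apply]; rfl
  rw [Nat.card_congr e] at h0
  rw [finrank_hypSum, QuadraticAlgebra.finrank_eq_two] at h
  have hq : 1 < Nat.card F := Finite.one_lt_card
  obtain ⟨d, hd⟩ := Nat.exists_eq_add_of_lt hq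
  have hd' : Nat.card F - 1 = d + 1 := by omega
  rw [hd'] at h
  generalize Nat.card {x : (Fin m → F × F) × QK a b // hypSum m (binQ a b) x = 1} =
    N₁ at *
  generalize Nat.card {x : (Fin m → F × F) × QK a b // hypSum m (binQ a b) x = 0} =
    N₀ at *
  have e1 : Nat.card F ^ (2 * m + 2) = Nat.card F ^ m * Nat.card F ^ m * Nat.card F *
    Nat.card F := by ring
  have e2 : Nat.card F ^ (2 * m + 1) = Nat.card F ^ m * Nat.card F ^ m * Nat.card F := by ring
  have e3 : Nat.card F ^ (m + 1) = Nat.card F ^ m * Nat.card F := by ring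
  rw [e1] at h
  rw [e2, e3] at h0
  rw [e3]
  rw [show 1 + d + 1 = d + 2 by ring] at hd
  rw [hd] at h h0 ⊢
  generalize (d + 2) ^ m = P at *
  apply Nat.eq_of_mul_eq_mul_left (show 0 < d + 1 by omega)
  zify at *
  linear_combination h - h0

/-- Criterion for `-1 ∈ Ω` in even dimension. -/
theorem negO_mem_commutator_iff (h2 : (2 : F) ≠ 0) {Q : QuadraticForm F V}
    (hQ : (β[Q]).Nondegenerate) (hV : 2 ≤ finrank F V) (hev : Even (finrank F V)) (k : ℕ)
    (hk : Nat.card {x : V // Q x = 1} = 2 * k) : negO Q ∈ commutator (O Q) ↔ Even k := by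
  rw [commutator_eq_ker_chiO h2 hQ hV 1 one_ne_zero, MonoidHom.mem_ker]
  have h1 : chiO hQ 1 (negO Q) = (1, (-1) ^ k) :=
    Prod.ext (by
      change dick hQ (negO Q) = 1
      rw [dick_negO h2 hQ, Even.neg_one_pow hev]) (sgnO_negO h2 one_ne_zero k hk)
  rw [h1]
  constructor
  · intro h
    have h3 := congrArg Prod.snd h
    by_contra hodd
    rw [Nat.not_even_iff_odd] at hodd
    simp only [Odd.neg_one_pow hodd] at h3
    exact absurd h3 (by decide)
  · intro h
    rw [Even.neg_one_pow h]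
    rfl

end

section Mat

variable {ι : Type} [Fintype ι] [DecidableEq ι]

lemma map_mem_commutator {A B : Type*} [Group A] [Group B] (f : A →* B) (a : A)
    (ha : a ∈ commutator A) : f a ∈ commutator B := by
  rw [mem_commutator_iff] at ha ⊢
  have := congrArg (Abelianization.map f) ha
  rw [Abelianization.map_of, _root_.map_one] at this
  exact this

lemma mem_commutator_congr {G H : Type*} [Group G] [Group H] (e : G ≃* H) (g : G) :
    e g ∈ commutator H ↔ g ∈ commutator G := by
  constructor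
  · intro hg
    have := map_mem_commutator e.symm.toMonoidHom _ hg
    simpa using this
  · intro hg
    exact map_mem_commutator e.toMonoidHom _ hg

lemma exists_neg_iff (Qf : (ι → F) → F) (Q : QuadraticForm F V) (e : (ι → F) ≃ₗ[F] V)
    (h : ∀ v, Q (e v) = Qf v) :
    (∃ g : isometryGroup F Qf, g ∈ Omega F Qf ∧ ((g : GL ι F) : Matrix ι ι F) = -1) ↔
      negO Q ∈ commutator (O Q) := by
  constructor
  · rintro ⟨g, hg, hg1⟩
    have h1 : isoMat Qf Q e h g = negO Q := by
      apply O_ext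
      intro x
      obtain ⟨v, rfl⟩ := e.surjective x
      rw [isoMat_apply, hg1, negO_apply, Matrix.neg_mulVec, Matrix.one_mulVec, _root_.map_neg]
    rw [← h1, mem_commutator_congr]
    exact hg
  · intro hg
    refine ⟨(isoMat Qf Q e h).symm (negO Q), ?_, ?_⟩
    · rw [← mem_commutator_congr (isoMat Qf Q e h), MulEquiv.apply_symm_apply]
      exact hg
    · apply Matrix.mulVec_injective
      funext v
      apply e.injective
      rw [← isoMat_apply Qf Q e h, MulEquiv.apply_symm_apply, negO_apply, Matrix.neg_mulVec,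
        Matrix.one_mulVec, _root_.map_neg]

variable [Finite F]

theorem neg_mem_Omega_plus (h2 : (2 : F) ≠ 0) (m : ℕ) :
    (∃ g : isometryGroup F (quadFormPlus (m + 1) F), g ∈ Omega F (quadFormPlus (m + 1) F) ∧
      ((g : GL (Fin (m + 1) ⊕ Fin (m + 1)) F) :
        Matrix (Fin (m + 1) ⊕ Fin (m + 1)) (Fin (m + 1) ⊕ Fin (m + 1)) F) = -1) ↔
      Nat.card F ^ (m + 1) % 4 = 1 := by
  rw [exists_neg_iff _ _ _ (ePlus_apply (m + 1))]
  have hodd : Odd (Nat.card F) := Nat.odd_iff.mpr (card_odd_of_two_ne_zero h2)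
  have hodd1 : Odd (Nat.card F ^ (m + 1)) := hodd.pow
  have hodd2 : Odd (Nat.card F ^ m) := hodd.pow
  obtain ⟨k, hk⟩ := hodd1
  have hcard := card_one_plus (F := F) m
  rw [hk, Nat.add_sub_cancel] at hcard
  rw [negO_mem_commutator_iff h2 (hypSum_nondegenerate _ zeroQ_nondegenerate)
    (by rw [finrank_hypSum]; omega) (by
      rw [finrank_hypSum, finrank_eq_zero_of_subsingleton]
      exact ⟨m + 1, by ring⟩) (Nat.card F ^ m * k) (by rw [hcard]; ring), hk,
    Nat.even_mul]
  have : ¬ Even (Nat.card F ^ m) := by rw [Nat.not_even_iff_odd]; exact hodd2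
  rw [or_iff_right this, Nat.even_iff]
  omega

theorem neg_mem_Omega_minus (h2 : (2 : F) ≠ 0) {a b : F} (hab : Aniso a b) (m : ℕ) :
    (∃ g : isometryGroup F (quadFormMinus m F a b), g ∈ Omega F (quadFormMinus m F a b) ∧
      ((g : GL ((Fin m ⊕ Fin m) ⊕ Fin 2) F) :
        Matrix ((Fin m ⊕ Fin m) ⊕ Fin 2) ((Fin m ⊕ Fin m) ⊕ Fin 2) F) = -1) ↔
      Nat.card F ^ (m + 1) % 4 = 3 := by
  rw [exists_neg_iff _ _ _ (eMinus_apply m a b)]
  have hodd : Odd (Nat.card F) := Nat.odd_iff.mpr (card_odd_of_two_ne_zero h2)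
  have hodd1 : Odd (Nat.card F ^ (m + 1)) := hodd.pow
  have hodd2 : Odd (Nat.card F ^ m) := hodd.pow
  obtain ⟨k, hk⟩ := hodd1
  have hcard := card_one_minus hab m
  rw [hk] at hcard
  rw [negO_mem_commutator_iff h2 (hypSum_nondegenerate _ (binQ_nondegenerate hab))
    (by rw [finrank_hypSum, QuadraticAlgebra.finrank_eq_two]; omega) (by
      rw [finrank_hypSum, QuadraticAlgebra.finrank_eq_two]
      exact ⟨m + 1, by ring⟩) (Nat.card F ^ m * (k + 1)) (by rw [hcard]; ring), hk,
    Nat.even_mul]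
  have : ¬ Even (Nat.card F ^ m) := by rw [Nat.not_even_iff_odd]; exact hodd2
  rw [or_iff_right this, Nat.even_iff]
  omega

end Mat

end CfsgLib.Quad
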