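import Cfsg.Agent.Lib.FFTwoG
import Cfsg.Agent.Lib.JSub
import Cfsg.Agent.Lib.Coprime2
import Cfsg.Agent.Lib.PReg
import Cfsg.Agent.Lib.CFRed3
import Cfsg.Agent.Lib.WCFinal
import Cfsg.Agent.Lib.Solv
import Cfsg.Agent.Lib.Core2

/-! Solvable `S₄`-free groups with Sylow `2`-subgroups of class two. -/

set_option autoImplicit false

open scoped Pointwise commutatorElement
open CfsgLib.Coprime CfsgLib.SylBridge CfsgLib.JSub

universe u

namespace CfsgLib.FF2

variable {G : Type u} [Group G] [Finite G]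

/-- elements of order dividing `p` in the centre of `Q` -/
def OZ (p : ℕ) (Q : Subgroup G) : Subgroup G where
  carrier := {x | x ∈ Z Q ∧ x ^ p = 1}
  one_mem' := ⟨(Z Q).one_mem, one_pow _⟩
  mul_mem' := by
    rintro a b ⟨ha, ha'⟩ ⟨hb, hb'⟩
    refine ⟨(Z Q).mul_mem ha hb, ?_⟩
    have : Commute a b := (mem_Z.mp hb).2 a (mem_Z.mp ha).1
    rw [this.mul_pow, ha', hb', one_mul]
  inv_mem' := by
    rintro a ⟨ha, ha'⟩
    exact ⟨(Z Q).inv_mem ha, by rw [inv_pow, ha', inv_one]⟩

omit [Finite G] in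
theorem Z_normal {H : Subgroup G} (hH : H.Normal) : (Z H).Normal := by
  unfold Z
  infer_instance

omit [Finite G] in
theorem OZ_normal {p : ℕ} {H : Subgroup G} (hH : H.Normal) : (OZ p H).Normal := by
  constructor
  rintro x ⟨hx, hx'⟩ g
  exact ⟨(Z_normal hH).conj_mem x hx g, by rw [conj_pow, hx']; simp⟩

omit [Finite G] in
theorem OZ_comm {p : ℕ} {H : Subgroup G} : ∀ v ∈ OZ p H, ∀ w ∈ OZ p H, v * w = w * v := by
  rintro v ⟨hv, -⟩ w ⟨hw, -⟩
  exact (mem_Z.1 hw).2 v (mem_Z.1 hv).1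

omit [Finite G] in
theorem OZ_EA {p : ℕ} {H : Subgroup G} : EA p (OZ p H) := ⟨OZ_comm, fun v hv => hv.2⟩

omit [Finite G] in
theorem OZ_le {p : ℕ} {H : Subgroup G} : OZ p H ≤ H := fun v hv => (mem_Z.1 hv.1).1

variable {p : ℕ} [hp : Fact p.Prime]

/-- a `p'`-element centralizing `OZ` centralizes `Z` -/
theorem centralizer_OZ {Q : Subgroup G} (hQp : IsPGroup p Q) (hQn : Q.Normal) {x : G} (hx : (orderOf x).Coprime p)
    (hxV : x ∈ Subgroup.centralizer (OZ p Q : Set G)) : x ∈ Subgroup.centralizer (Z Q : Set G) := by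
  have hZab : IsMulCommutative (Z Q) := ⟨⟨fun a b => Subtype.ext ((mem_Z.mp b.2).2 a (mem_Z.mp a.2).1)⟩⟩
  have hZn := Z_normal hQn
  have hZp : IsPGroup p (Z Q) := hQp.to_le (Z_le Q)
  have h1 := le_centralizer_of_abelian_prime (A := Subgroup.zpowers x) (V := Z Q) hZab
    (by rw [Subgroup.normalizer_eq_top]; exact le_top) (by
      rw [Nat.card_zpowers]
      obtain ⟨n, hn⟩ := IsPGroup.iff_card.mp hZp
      rw [hn]; exact Nat.Coprime.pow_right n hx) (by
      intro v hv hpr a ha
      obtain ⟨i, rfl⟩ := ha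
      have hvp : v ^ p = 1 := by
        obtain ⟨k, hk⟩ := hZp ⟨v, hv⟩
        have h3 : v ^ p ^ k = 1 := congrArg Subtype.val hk
        have h4 := orderOf_dvd_of_pow_eq_one h3
        have h5 := (Nat.prime_dvd_prime_iff_eq hpr hp.out).mp (hpr.dvd_of_dvd_pow h4)
        rw [← h5, pow_orderOf_eq_one]
      have h6 : Commute x v := (Subgroup.mem_centralizer_iff.1 hxV v ⟨hv, hvp⟩).symm
      exact (h6.zpow_left i).eq)
  exact h1 (Subgroup.mem_zpowers x)

/-- a subgroup containing a Sylow subgroup and all `p'`-elements is everything -/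
theorem eq_top_of_ppelements {S K : Subgroup G} (hS : IsSyl p S ⊤) (hSK : S ≤ K)
    (h : ∀ x : G, (orderOf x).Coprime p → x ∈ K) : K = ⊤ := by
  have hn : (CfsgLib.PReg.OP p (⊤ : Subgroup G)).Normal := CfsgLib.PReg.OP_normal p ⊤
  have h1 := sup_eq_of_ppelements (R := CfsgLib.PReg.OP p (⊤ : Subgroup G)) (N := ⊤) le_top
    (by rw [Subgroup.normalizer_eq_top]) (fun g hg hc => CfsgLib.PReg.mem_OP hg hc) hS
  rw [eq_top_iff, ← h1]
  refine sup_le ?_ hSK
  refine (Subgroup.closure_le K).2 ?_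
  rintro x hx
  exact h x hx.2

/-- `p`-element and `p'`-element -/
theorem eq_one_of_mem {Q : Subgroup G} (hQ : IsPGroup p Q) {x : G} (hx : x ∈ Q) (h : (orderOf x).Coprime p) :
    x = 1 := by
  obtain ⟨n, hn⟩ := hQ ⟨x, hx⟩
  have h1 : x ^ p ^ n = 1 := congrArg Subtype.val hn
  have h2 := orderOf_dvd_of_pow_eq_one h1
  have h3 : (orderOf x).Coprime (p ^ n) := Nat.Coprime.pow_right n h
  exact orderOf_eq_one_iff.1 (Nat.Coprime.eq_one_of_dvd h3 h2)

/-- the easy case of the class two theorem -/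
theorem syl_normal_of_class_two {S : Subgroup G} (hS : IsSyl p S ⊤) (hcl : ⁅⁅S, S⁆, S⁆ = ⊥)
    (hC : Subgroup.centralizer (Cfsg.pCore p G : Set G) ≤ Cfsg.pCore p G)
    (hsup : S ⊔ Subgroup.centralizer (OZ p (Cfsg.pCore p G) : Set G) = ⊤) : S.Normal := by
  set Q := Cfsg.pCore p G with hQ
  have hQn : Q.Normal := CfsgLib.Core.pCore_normal p G
  have hQp : IsPGroup p Q := CfsgLib.Core.pCore_isPGroup p G
  have hQS : Q ≤ S := CfsgLib.CF.core_le_syl hS
  have hVn : (OZ p Q).Normal := OZ_normal hQn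
  have hodd : ∀ x : G, (orderOf x).Coprime p → x ∈ Subgroup.centralizer (Z Q : Set G) := by
    intro x hx
    exact centralizer_OZ hQp hQn hx (CfsgLib.CF.mem_centralizer_of_coprime hS.isPGroup hsup hx)
  have hZS : Z S ≤ Z Q := by
    intro z hz
    rw [mem_Z] at hz
    have h1 : z ∈ Q := by
      apply hC
      rw [Subgroup.mem_centralizer_iff]
      intro y hy
      exact hz.2 y (hQS hy)
    exact mem_Z.2 ⟨h1, fun y hy => hz.2 y (hQS hy)⟩
  have hcen : Subgroup.centralizer (Z S : Set G) = ⊤ := by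
    refine eq_top_of_ppelements hS (le_centralizer_Z S) ?_
    intro x hx
    exact Subgroup.centralizer_le hZS (hodd x hx)
  have hZSn : (Z S).Normal := by
    constructor
    intro z hz g
    have h1 : g ∈ Subgroup.centralizer (Z S : Set G) := by rw [hcen]; trivial
    have h2 := Subgroup.mem_centralizer_iff.1 h1 z hz
    rw [← h2]; simpa using hz
  set π := QuotientGroup.mk' (Z S) with hπ
  set X := (Subgroup.centralizer ((Q.map π : Subgroup (G ⧸ Z S)) : Set (G ⧸ Z S))).comap π with hX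
  have hXn : X.Normal := by
    have : (Q.map π).Normal := Subgroup.Normal.map hQn π (QuotientGroup.mk'_surjective _)
    rw [hX]; infer_instance
  have hXmem : ∀ x, x ∈ X ↔ ∀ q ∈ Q, ⁅q, x⁆ ∈ Z S := by
    intro x
    have h1 : x ∈ X ↔ ∀ q ∈ Q, π q * π x = π x * π q := by
      constructor
      · intro h q hq
        exact Subgroup.mem_centralizer_iff.1 h _ ⟨q, hq, rfl⟩
      · intro h
        refine Subgroup.mem_centralizer_iff.2 ?_
        rintro _ ⟨q, hq, rfl⟩
        exact h q hq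
    rw [h1]
    have h2 : ∀ q, π q * π x = π x * π q ↔ ⁅q, x⁆ ∈ Z S := by
      intro q
      rw [← commutatorElement_eq_one_iff_mul_comm, ← map_commutatorElement, ← MonoidHom.mem_ker, hπ,
        QuotientGroup.ker_mk']
    simp_rw [h2]
  have hSX : S ≤ X := by
    intro s hs
    rw [hXmem]
    intro q hq
    have h1 : ⁅q, s⁆ ∈ ⁅S, S⁆ := Subgroup.commutator_mem_commutator (hQS hq) hs
    have h2 : ⁅S, S⁆ ≤ Z S := le_inf (Subgroup.commutator_le_self S) (Subgroup.commutator_eq_bot_iff_le_centralizer.1 hcl)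
    exact h2 h1
  have hXodd : ∀ x ∈ X, (orderOf x).Coprime p → x = 1 := by
    intro x hx hxo
    have hcop : CopAct (Subgroup.zpowers x) Q := by
      refine ⟨by rw [Subgroup.normalizer_eq_top]; exact le_top, ?_, ?_⟩
      · obtain ⟨n, hn⟩ := IsPGroup.iff_card.1 hQp
        rw [hn, Nat.card_zpowers]
        exact Nat.Coprime.pow_right n hxo
      · left; infer_instance
    have h1 := hcop.le_centralizer_of_quotient (N := Z S) ?_ ?_
    · have h2 : x ∈ Q := hC (h1 (Subgroup.mem_zpowers x))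
      exact eq_one_of_mem hQp h2 hxo
    · rw [hcen]; exact le_top
    · rw [Subgroup.commutator_le]
      intro q hq y hy
      have : y ∈ X := (Subgroup.zpowers_le.2 hx) hy
      exact (hXmem y).1 this q hq
  have hXp : IsPGroup p X := by
    rw [← CfsgLib.PReg.OP_eq_bot_iff, eq_bot_iff]
    refine (Subgroup.closure_le _).2 ?_
    rintro x ⟨hx, hxo⟩
    rw [SetLike.mem_coe, Subgroup.mem_bot]
    exact hXodd x hx hxo
  have h1 : S = Q := le_antisymm (hSX.trans (CfsgLib.Core.le_pCore hXn hXp)) hQS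
  rw [h1]; exact hQn

omit hp in
/-- `O_{p'}` of overgroups of the core -/
theorem pPrimeCore_sub {H : Subgroup G} [hp : Fact p.Prime] (hQH : Cfsg.pCore p G ≤ H)
    (hC : Subgroup.centralizer (Cfsg.pCore p G : Set G) ≤ Cfsg.pCore p G) : Cfsg.pPrimeCore p H = ⊥ := by
  set Q := Cfsg.pCore p G with hQ
  have hQn : Q.Normal := CfsgLib.Core.pCore_normal p G
  have hQp : IsPGroup p Q := CfsgLib.Core.pCore_isPGroup p G
  have hNn := CfsgLib.Core.pPrimeCore_normal p H
  have hNc := CfsgLib.Core.card_pPrimeCore_coprime p H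
  have hQHn : (Q.subgroupOf H).Normal := inferInstance
  have hQHp : IsPGroup p (Q.subgroupOf H) := hQp.comap_of_injective _ H.subtype_injective
  have hdis : Disjoint (Cfsg.pPrimeCore p H) (Q.subgroupOf H) := by
    apply Subgroup.disjoint_of_coprime_natCard
    obtain ⟨n, hn⟩ := IsPGroup.iff_card.1 hQHp
    rw [hn]; exact Nat.Coprime.pow_right n hNc
  rw [Subgroup.eq_bot_iff_forall]
  intro x hx
  have h1 : (x : G) ∈ Subgroup.centralizer (Q : Set G) := by
    rw [Subgroup.mem_centralizer_iff]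
    intro q hq
    have h2 := Subgroup.commute_of_normal_of_disjoint _ _ hNn hQHn hdis x ⟨q, hQH hq⟩ hx hq
    exact congrArg (fun z : H => (z : G)) h2.eq.symm
  have h2 : (orderOf (x : G)).Coprime p := by
    rw [Subgroup.orderOf_coe]
    exact Nat.Coprime.coprime_dvd_left (Subgroup.orderOf_dvd_natCard _ hx) hNc
  exact Subtype.ext (eq_one_of_mem hQp (hC h1) h2)

/-- offender inequality -/
theorem ff_ineq {S V A : Subgroup G} (hVS : V ≤ S) (hV : EA p V) (hA : A ∈ maxEA p S) :
    Nat.card V * Nat.card (A ⊓ Subgroup.centralizer (V : Set G) : Subgroup G) ≤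
      Nat.card A * Nat.card (V ⊓ Subgroup.centralizer (A : Set G) : Subgroup G) := by
  set B := A ⊓ Subgroup.centralizer (V : Set G) with hB
  have hcomm : ∀ b ∈ B, ∀ v ∈ V, Commute b v := fun b hb v hv => ((Subgroup.mem_centralizer_iff.1 hb.2) v hv).symm
  have hBn : B ≤ Subgroup.normalizer (V : Set G) := by
    refine le_trans ?_ (centralizer_le_normalizer V)
    exact inf_le_right
  have hEA : EA p (V ⊔ B) := by
    constructor
    · intro x hx y hy
      obtain ⟨v1, hv1, b1, hb1, rfl⟩ := (mem_sup_iff hBn x).1 hx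
      obtain ⟨v2, hv2, b2, hb2, rfl⟩ := (mem_sup_iff hBn y).1 hy
      have e1 : Commute v1 v2 := hV.1 v1 hv1 v2 hv2
      have e2 : Commute b1 b2 := hA.2.1.1 b1 hb1.1 b2 hb2.1
      exact ((e1.mul_right (hcomm b2 hb2 v1 hv1).symm).mul_left ((hcomm b1 hb1 v2 hv2).mul_right e2)).eq
    · intro x hx
      obtain ⟨v, hv, b, hb, rfl⟩ := (mem_sup_iff hBn x).1 hx
      rw [(hcomm b hb v hv).symm.mul_pow, hV.2 v hv, hA.2.1.2 b hb.1, one_mul]
  have h1 := hA.2.2 _ (sup_le hVS (inf_le_left.trans hA.1)) hEA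
  have h2 := CfsgLib.CD.card_mul_card_le V B
  have h3 : Nat.card (V ⊓ B : Subgroup G) ≤ Nat.card (V ⊓ Subgroup.centralizer (A : Set G) : Subgroup G) := by
    apply Subgroup.card_le_of_le
    refine le_inf inf_le_left ?_
    rintro x ⟨hxV, hxB⟩
    refine Subgroup.mem_centralizer_iff.2 ?_
    intro a ha
    exact hA.2.1.1 a ha x (show x ∈ B from hxB).1
  exact h2.trans (Nat.mul_le_mul h1 h3)

theorem s2010_core (n : ℕ) : ∀ (G : Type u) [Group G] [Finite G], Nat.card G ≤ n → Group.IsSolvable G →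
    ¬ Cfsg.Involves (Equiv.Perm (Fin 4)) G → Cfsg.pPrimeCore 2 G = ⊥ →
    ∀ S : Subgroup G, IsSyl 2 S ⊤ → ⁅⁅S, S⁆, S⁆ = ⊥ → Subgroup.normalizer (J 2 S : Set G) = ⊤ := by
  haveI h2F : Fact (Nat.Prime 2) := ⟨Nat.prime_two⟩
  induction n with
  | zero =>
    intro G _ _ h
    have : 0 < Nat.card G := Nat.card_pos
    omega
  | succ n ih =>
    intro G _ _ hn hsol hS4 hO S hS hcl
    have hC := CfsgLib.Solv.centralizer_pCore_le hsol hO
    set Q := Cfsg.pCore 2 G with hQ
    have hQn : Q.Normal := CfsgLib.Core.pCore_normal 2 G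
    have hQp : IsPGroup 2 Q := CfsgLib.Core.pCore_isPGroup 2 G
    have hQS : Q ≤ S := CfsgLib.CF.core_le_syl hS
    -- overgroups
    have hover : ∀ H : Subgroup G, H ≠ ⊤ → S ≤ H → H ≤ Subgroup.normalizer (J 2 S : Set G) := by
      intro H hH hSH
      have hcard : Nat.card H ≤ n := by
        have h1 : Nat.card H < Nat.card G := CfsgLib.CF.card_subgroup_lt hH
        omega
      have hSm : (S.subgroupOf H).map H.subtype = S := Subgroup.map_subgroupOf_eq_of_le hSH
      have h1 := ih H hcard inferInstance (fun h => hS4 (CfsgLib.Inv.of_subgroup h))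
        (pPrimeCore_sub (hQS.trans hSH) hC) (S.subgroupOf H)
        (CfsgLib.WCFus.isSyl_sub (IsSyl.of_le' hS hSH le_top)) (by
          have h2 : (⁅⁅S.subgroupOf H, S.subgroupOf H⁆, S.subgroupOf H⁆ : Subgroup H).map H.subtype = ⊥ := by
            rw [Subgroup.map_commutator, Subgroup.map_commutator, hSm]; exact hcl
          rwa [Subgroup.map_eq_bot_iff_of_injective _ H.subtype_injective] at h2)
      have h3 : J 2 S = (J 2 (S.subgroupOf H)).map H.subtype := by
        rw [← J_map H.subtype (H.subtype_injective.injOn), hSm]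
      rw [h3]
      have h4 := Subgroup.normalizer_eq_top_iff.1 h1
      intro x hx
      apply CfsgLib.H7Basic.mem_normalizer_of_conj_mem
      rintro _ ⟨y, hy, rfl⟩
      exact ⟨⟨x, hx⟩ * y * ⟨x, hx⟩⁻¹, h4.conj_mem y hy _, rfl⟩
    set V := OZ 2 Q with hV
    have hVn : V.Normal := OZ_normal hQn
    set C := Subgroup.centralizer (V : Set G) with hCdef
    have hCn : C.Normal := inferInstance
    have hVQ : V ≤ Q := OZ_le
    have hQC : Q ≤ C := by
      intro q hq
      rw [hCdef, Subgroup.mem_centralizer_iff]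
      intro v hv
      exact ((mem_Z.1 hv.1).2 q hq).symm
    by_cases hsup : S ⊔ C = ⊤
    · have := syl_normal_of_class_two hS hcl hC hsup
      rw [eq_top_iff, ← Subgroup.normalizer_eq_top_iff.2 this]
      exact normalizer_le_normalizer_J 2 S
    have hSCJ := hover _ hsup le_sup_left
    have hCJ : C ≤ Subgroup.normalizer (J 2 S : Set G) := le_sup_right.trans hSCJ
    have hSJ : S ≤ Subgroup.normalizer (J 2 S : Set G) := le_sup_left.trans hSCJ
    set π := QuotientGroup.mk' C with hπ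
    have hSnorm : ∀ D : Subgroup G, D.Normal → S ≤ Subgroup.normalizer ((S ⊓ D : Subgroup G) : Set G) := by
      intro D hD s hs
      apply CfsgLib.H7Basic.mem_normalizer_of_conj_mem
      rintro x ⟨hx1, hx2⟩
      exact ⟨S.mul_mem (S.mul_mem hs hx1) (S.inv_mem hs), hD.conj_mem x hx2 s⟩
    have hfrat : ∀ D : Subgroup G, D.Normal → (⊤ : Subgroup G) ≤ D ⊔ Subgroup.normalizer ((S ⊓ D : Subgroup G) : Set G) := by
      intro D hD
      have h1 : IsSyl 2 (S ⊓ D) D := IsSyl.inf_normal hS le_top (by rw [Subgroup.normalizer_eq_top_iff.2 hD])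
      have h2 := IsSyl.frattini h1 le_top (by rw [Subgroup.normalizer_eq_top_iff.2 hD])
      rwa [top_inf_eq] at h2
    set D := (Cfsg.pCore 2 (G ⧸ C)).comap π with hD
    have hDn : D.Normal := by
      have := CfsgLib.Core.pCore_normal 2 (G ⧸ C)
      rw [hD]; infer_instance
    have hCD : C ≤ D := by
      intro c hc
      have : π c = 1 := (QuotientGroup.eq_one_iff c).2 hc
      rw [hD, Subgroup.mem_comap, this]; exact one_mem _
    have hDsup : C ⊔ (S ⊓ D) = D := by
      refine sup_eq_of_ppelements hCD (by rw [Subgroup.normalizer_eq_top_iff.2 hCn]; exact le_top) ?_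
        (IsSyl.inf_normal hS le_top (by rw [Subgroup.normalizer_eq_top_iff.2 hDn]))
      intro g hg hgo
      have h1 : π g = 1 := by
        refine eq_one_of_mem (CfsgLib.Core.pCore_isPGroup 2 (G ⧸ C)) hg ?_
        exact Nat.Coprime.coprime_dvd_left (orderOf_map_dvd π g) hgo
      exact (QuotientGroup.eq_one_iff g).1 h1
    by_cases hS0 : Subgroup.normalizer ((S ⊓ D : Subgroup G) : Set G) = ⊤
    swap
    · have h1 := hover _ hS0 (hSnorm D hDn)
      rw [eq_top_iff]
      refine (hfrat D hDn).trans (sup_le ?_ h1)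
      rw [← hDsup]
      exact sup_le hCJ (inf_le_left.trans hSJ)
    have h0 : S ⊓ D ≤ Q := CfsgLib.Core.le_pCore (Subgroup.normalizer_eq_top_iff.1 hS0) (hS.isPGroup.to_le inf_le_left)
    have hDC : D = C := by
      rw [← hDsup]
      exact sup_eq_left.2 (h0.trans hQC)
    have hcore : Cfsg.pCore 2 (G ⧸ C) = ⊥ := by
      rw [← Subgroup.map_comap_eq_self_of_surjective (QuotientGroup.mk'_surjective C) (Cfsg.pCore 2 (G ⧸ C)), ← hπ, ← hD,
        hDC, hπ, QuotientGroup.map_mk'_self]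
    by_cases hJC : J 2 S ≤ C
    · have h1 : J 2 (S ⊓ C) = J 2 S := J_eq_of_le (le_inf (J_le 2 S) hJC) inf_le_left
      rw [eq_top_iff]
      refine (hfrat C hCn).trans (sup_le hCJ ?_)
      rw [← h1]
      exact normalizer_le_normalizer_J 2 _
    · exfalso
      obtain ⟨A, hA, hAC⟩ : ∃ A ∈ maxEA 2 S, ¬ A ≤ C := by
        by_contra hc
        push Not at hc
        exact hJC (sSup_le hc)
      apply hS4
      have hfit := CfsgLib.Solv.centralizer_fitting_le (G := G ⧸ C) inferInstance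
      have hFn : (Cfsg.fittingSubgroup (G ⧸ C)).Normal := CfsgLib.Core.fitting_normal (G ⧸ C)
      have hFo : Odd (Nat.card (Cfsg.fittingSubgroup (G ⧸ C))) := by
        rw [← Nat.not_even_iff_odd, even_iff_two_dvd]
        exact CfsgLib.Core2.not_dvd_card_fitting hcore
      refine S4_of_ff (V := V) OZ_comm ?_ (F := Cfsg.fittingSubgroup (G ⧸ C)) hFo (A := A) ?_ ?_ ?_ hAC ?_
      · intro v hv
        have := hv.2
        rwa [pow_two] at this
      · intro a ha
        have := hA.2.1.2 a ha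
        rw [pow_two] at this
        rw [this]; exact one_mem _
      · rw [Subgroup.normalizer_eq_top_iff.2 hFn]; exact le_top
      · intro a ha h
        have h1 : π a ∈ Cfsg.fittingSubgroup (G ⧸ C) := by
          apply hfit
          rw [Subgroup.mem_centralizer_iff]
          intro f hf
          exact (h f hf).symm
        have h2 : π a = 1 := by
          have h3 : (π a) ^ 2 = 1 := by rw [← map_pow, hA.2.1.2 a ha, map_one]
          have h4 := orderOf_dvd_of_pow_eq_one h3
          have h5 := Subgroup.orderOf_dvd_natCard _ h1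
          have h6 := Nat.dvd_gcd h5 h4
          rw [Nat.Coprime.gcd_eq_one (Nat.coprime_two_right.2 hFo)] at h6
          exact orderOf_eq_one_iff.1 (Nat.dvd_one.1 h6)
        exact (QuotientGroup.eq_one_iff a).1 h2
      · exact ff_ineq (hVQ.trans hQS) OZ_EA hA

theorem s2010 [hsol : Group.IsSolvable G] (hS4 : ¬ Cfsg.Involves (Equiv.Perm (Fin 4)) G) (S : Sylow 2 G)
    (hcl : ⁅⁅(S : Subgroup G), (S : Subgroup G)⁆, (S : Subgroup G)⁆ = ⊥) :
    Subgroup.normalizer ((J 2 (S : Subgroup G)) : Set G) ⊔ Cfsg.pPrimeCore 2 G = ⊤ := by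
  haveI h2F : Fact (Nat.Prime 2) := ⟨Nat.prime_two⟩
  set N := Cfsg.pPrimeCore 2 G with hN
  have hNn : N.Normal := CfsgLib.Core.pPrimeCore_normal 2 G
  have hNc := CfsgLib.Core.card_pPrimeCore_coprime 2 G
  set π := QuotientGroup.mk' N with hπ
  have hS : IsSyl 2 (S : Subgroup G) ⊤ := isSyl_top_iff.2 ⟨S, rfl⟩
  have hSN : (S : Subgroup G) ⊓ N = ⊥ := by
    rw [← disjoint_iff]
    apply Subgroup.disjoint_of_coprime_natCard
    obtain ⟨n, hn⟩ := IsPGroup.iff_card.1 S.isPGroup'
    rw [hn]; exact Nat.Coprime.pow_left n hNc.symm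
  have hinj : Set.InjOn π (S : Subgroup G) := by
    intro x hx y hy h
    have h1 : x⁻¹ * y ∈ (S : Subgroup G) ⊓ N := by
      refine ⟨(S : Subgroup G).mul_mem ((S : Subgroup G).inv_mem hx) hy, ?_⟩
      exact QuotientGroup.eq.1 h
    rw [hSN, Subgroup.mem_bot] at h1
    exact (inv_mul_eq_one.1 h1)
  have hSb : IsSyl 2 ((S : Subgroup G).map π) ⊤ :=
    CfsgLib.CF.isSyl_map_surj π (QuotientGroup.mk'_surjective N) hS
  have h1 := s2010_core _ (G ⧸ N) le_rfl inferInstance (fun h => hS4 (CfsgLib.Inv.of_quotient h))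
    (CfsgLib.Solv.pPrimeCore_quotient 2 G) ((S : Subgroup G).map π) hSb (by
      rw [← Subgroup.map_commutator, ← Subgroup.map_commutator, hcl, Subgroup.map_bot])
  rw [J_map π hinj] at h1
  have h2 := Subgroup.normalizer_eq_top_iff.1 h1
  have h3 : (N ⊔ J 2 (S : Subgroup G)).Normal := by
    have h4 : ((J 2 (S : Subgroup G)).map π).comap π = N ⊔ J 2 (S : Subgroup G) := by
      rw [Subgroup.comap_map_eq, hπ, QuotientGroup.ker_mk', sup_comm]
    rw [← h4]; infer_instance
  have hJp : IsPGroup 2 (J 2 (S : Subgroup G)) := S.isPGroup'.to_le (J_le 2 _)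
  have hJsyl : IsSyl 2 (J 2 (S : Subgroup G)) (N ⊔ J 2 (S : Subgroup G)) := by
    rw [isSyl_iff]
    refine ⟨le_sup_right, hJp, ?_⟩
    have h5 : (J 2 (S : Subgroup G)).relIndex (N ⊔ J 2 (S : Subgroup G)) ∣ Nat.card N := by
      have e1 : N ⊓ J 2 (S : Subgroup G) = ⊥ := by
        rw [eq_bot_iff, ← hSN, inf_comm]
        exact inf_le_inf_right _ (J_le 2 _)
      have e2 := CfsgLib.Inv.card_sup_of_disjoint (T := N) e1
      have e3 := Subgroup.card_mul_index ((J 2 (S : Subgroup G)).subgroupOf (N ⊔ J 2 (S : Subgroup G)))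
      have e4 : Nat.card ((J 2 (S : Subgroup G)).subgroupOf (N ⊔ J 2 (S : Subgroup G))) = Nat.card (J 2 (S : Subgroup G)) :=
        Nat.card_congr (Subgroup.subgroupOfEquivOfLe le_sup_right).toEquiv
      rw [e4, e2, mul_comm] at e3
      have e5 : 0 < Nat.card (J 2 (S : Subgroup G)) := Nat.card_pos
      exact (Nat.eq_of_mul_eq_mul_right e5 e3).dvd
    intro h6
    have h7 := h6.trans h5
    have := Nat.Coprime.eq_one_of_dvd (Nat.coprime_comm.1 hNc) h7
    norm_num at this
  have h4 := IsSyl.frattini hJsyl le_top (by rw [Subgroup.normalizer_eq_top_iff.2 h3])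
  rw [top_inf_eq] at h4
  rw [eq_top_iff]
  refine h4.trans (sup_le (sup_le le_sup_right (Subgroup.le_normalizer.trans le_sup_left)) le_sup_left)

end CfsgLib.FF2
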