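import Cfsg.Agent.Lib.Transfer
import Cfsg.Agent.Lib.NPC
set_option autoImplicit false
set_option linter.style.haveILetI false

/-! Elementary tools for simple groups of small order. -/

namespace CfsgLib.SmS
open Subgroup MulAction CfsgLib.NPC

section count
variable {G : Type*} [Group G] [Finite G]

theorem fix_mul (H : Subgroup G) (x : G) : Nat.card (fixedBy (G ⧸ H) x) * Nat.card H = Nat.card {g : G // g⁻¹ * x * g ∈ H} := by
  have e := QuotientGroup.preimageMkEquivSubgroupProdSet H (fixedBy (G ⧸ H) x)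
  rw [mul_comm, ← Nat.card_prod, ← Nat.card_congr e]
  refine Nat.card_congr (Equiv.subtypeEquivRight fun g => ?_)
  change (x • (QuotientGroup.mk g : G ⧸ H) = QuotientGroup.mk g) ↔ _
  rw [MulAction.Quotient.smul_mk, eq_comm, QuotientGroup.eq]
  rw [smul_eq_mul, mul_assoc]

theorem conj_count (H : Subgroup G) (x : G) :
    Nat.card {g : G // g⁻¹ * x * g ∈ H} = Nat.card (centralizer ({x} : Set G)) * Nat.card {g : G // IsConj x g ∧ g ∈ H} := by
  have e : {g : G // g⁻¹ * x * g ∈ H} ≃ Σ y : {g : G // IsConj x g ∧ g ∈ H}, {g : G // g⁻¹ * x * g = y.1} :=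
    { toFun := fun g => ⟨⟨g.1⁻¹ * x * g.1, isConj_iff.mpr ⟨g.1⁻¹, by group⟩, g.2⟩, ⟨g.1, rfl⟩⟩
      invFun := fun p => ⟨p.2.1, by rw [p.2.2]; exact p.1.2.2⟩
      left_inv := fun g => rfl
      right_inv := by
        rintro ⟨⟨y, hy⟩, ⟨g, hg⟩⟩
        simp only at hg
        subst hg
        rfl }
  have hc : ∀ y : {g : G // IsConj x g ∧ g ∈ H}, Nat.card {g : G // g⁻¹ * x * g = y.1} = Nat.card (centralizer ({x} : Set G)) := by
    rintro ⟨y, hy, _⟩
    obtain ⟨c, hc⟩ := isConj_iff.mp hy
    refine Nat.card_congr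
      { toFun := fun g => ⟨g.1 * c, ?_⟩
        invFun := fun g => ⟨g.1 * c⁻¹, ?_⟩
        left_inv := fun g => Subtype.ext (by simp)
        right_inv := fun g => Subtype.ext (by simp) }
    · rw [mem_centralizer_singleton_iff]
      have h1 := g.2
      simp only at h1
      have h2 : g.1⁻¹ * x * g.1 = c * x * c⁻¹ := by rw [h1, hc]
      calc g.1 * c * x = g.1 * (c * x * c⁻¹) * c := by group
        _ = g.1 * (g.1⁻¹ * x * g.1) * c := by rw [h2]
        _ = x * (g.1 * c) := by group
    · have h1 := mem_centralizer_singleton_iff.mp g.2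
      simp only
      rw [← hc]
      calc (g.1 * c⁻¹)⁻¹ * x * (g.1 * c⁻¹) = c * g.1⁻¹ * (x * g.1) * c⁻¹ := by group
        _ = c * g.1⁻¹ * (g.1 * x) * c⁻¹ := by rw [h1]
        _ = c * x * c⁻¹ := by group
  haveI := Fintype.ofFinite {g : G // IsConj x g ∧ g ∈ H}
  rw [Nat.card_congr e, Nat.card_sigma, Finset.sum_congr rfl fun y _ => hc y, Finset.sum_const, Finset.card_univ, smul_eq_mul,
    mul_comm, ← Nat.card_eq_fintype_card]

theorem class_mul (x : G) : Nat.card (centralizer ({x} : Set G)) * Nat.card {g : G // IsConj x g} = Nat.card G := by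
  have h := conj_count (⊤ : Subgroup G) x
  have e1 : Nat.card {g : G // g⁻¹ * x * g ∈ (⊤ : Subgroup G)} = Nat.card G := Nat.card_congr (Equiv.subtypeUnivEquiv fun g => mem_top _)
  have e2 : Nat.card {g : G // IsConj x g ∧ g ∈ (⊤ : Subgroup G)} = Nat.card {g : G // IsConj x g} :=
    Nat.card_congr (Equiv.subtypeEquivRight fun g => ⟨fun h => h.1, fun h => ⟨h, mem_top _⟩⟩)
  rw [e1, e2] at h
  exact h.symm

end count

section simple
variable {G : Type*} [Group G] [Finite G] [IsSimpleGroup G]

theorem nonab (h : ¬ (Nat.card G).Prime) : ¬ IsMulCommutative G := by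
  intro hc
  haveI := hc
  letI : CommGroup G := { (inferInstance : Group G) with mul_comm := fun a b => hc.1.1 a b }
  exact h IsSimpleGroup.prime_card

theorem comm_top (hG : ¬ IsMulCommutative G) : commutator G = ⊤ := by
  rcases (inferInstance : (commutator G).Normal).eq_bot_or_eq_top with h | h
  · exfalso; apply hG
    have := (commutator_eq_bot_iff G).mp h
    exact this
  · exact h

/-- homomorphisms to commutative groups are trivial -/
theorem hom_comm (hG : ¬ IsMulCommutative G) {A : Type*} [CommGroup A] (f : G →* A) (g : G) : f g = 1 := by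
  have h : commutator G ≤ f.ker := Abelianization.commutator_subset_ker f
  rw [comm_top hG] at h
  exact h (mem_top g)

theorem sign_perm (hG : ¬ IsMulCommutative G) {α : Type*} [Fintype α] [DecidableEq α] (f : G →* Equiv.Perm α) (g : G) :
    Equiv.Perm.sign (f g) = 1 := hom_comm hG (Equiv.Perm.sign.comp f) g

/-- faithful action on cosets -/
theorem coset_inj (H : Subgroup G) (hH : H ≠ ⊤) : Function.Injective (toPermHom G (G ⧸ H)) := by
  rw [← MonoidHom.ker_eq_bot_iff]
  have hn : (toPermHom G (G ⧸ H)).ker.Normal := inferInstance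
  rcases hn.eq_bot_or_eq_top with h | h
  · exact h
  · exfalso; apply hH
    have h1 : (toPermHom G (G ⧸ H)).ker ≤ H := by
      rw [← normalCore_eq_ker]; exact normalCore_le H
    rw [h] at h1; exact top_le_iff.mp h1

theorem exists_alt (hG : ¬ IsMulCommutative G) (H : Subgroup G) (hH : H ≠ ⊤) :
    ∃ f : G →* ↥(alternatingGroup (Fin H.index)), Function.Injective f := by
  classical
  haveI := Fintype.ofFinite (G ⧸ H)
  have hc : Fintype.card (G ⧸ H) = H.index := by rw [Subgroup.index, Nat.card_eq_fintype_card]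
  let e : G ⧸ H ≃ Fin H.index := Fintype.equivFinOfCardEq hc
  let f : G →* Equiv.Perm (Fin H.index) := e.permCongrHom.toMonoidHom.comp (toPermHom G (G ⧸ H))
  have hf : Function.Injective f := e.permCongrHom.injective.comp (coset_inj H hH)
  refine ⟨f.codRestrict _ fun g => ?_, fun a b h => hf (congrArg Subtype.val h)⟩
  rw [Equiv.Perm.mem_alternatingGroup]
  exact sign_perm hG f g

theorem two_card_dvd (hG : ¬ IsMulCommutative G) (H : Subgroup G) (hH : H ≠ ⊤) : 2 * Nat.card G ∣ (H.index).factorial := by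
  obtain ⟨f, hf⟩ := exists_alt hG H hH
  have h1 : Nat.card G ∣ Nat.card ↥(alternatingGroup (Fin H.index)) := by
    rw [Nat.card_congr (MonoidHom.ofInjective hf).toEquiv]
    exact card_subgroup_dvd_card _
  have hn : 2 ≤ H.index := by
    have h0 : H.index ≠ 0 := index_ne_zero_of_finite
    have h1 : H.index ≠ 1 := fun h => hH (index_eq_one.mp h)
    omega
  haveI : Nontrivial (Fin H.index) := Fin.nontrivial_iff_two_le.mpr hn
  have h2 : 2 * Nat.card ↥(alternatingGroup (Fin H.index)) = (H.index).factorial := by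
    rw [Nat.card_eq_fintype_card, two_mul_card_alternatingGroup, Fintype.card_perm, Fintype.card_fin]
  rw [← h2]
  exact Nat.mul_dvd_mul_left 2 h1

variable {p : ℕ} [hp : Fact p.Prime]

theorem not_npc (hG : ¬ IsMulCommutative G) (hd : p ∣ Nat.card G) : ¬ NPC p G := by
  rintro ⟨N, hN, hc, k, hk⟩
  rcases hN.eq_bot_or_eq_top with h | h
  · subst h
    rw [index_bot] at hk
    have hP : IsPGroup p G := IsPGroup.of_card hk
    have hz := hP.isNilpotent
    have : Group.IsSolvable G := inferInstance
    exact hG (by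
      have h1 := comm_top hG
      have h2 := (inferInstance : Group.IsSolvable G)
      exact absurd h1 (ne_of_lt (IsSolvable.commutator_lt_top_of_nontrivial G)))
  · subst h
    rw [card_top] at hc
    exact (Nat.Prime.coprime_iff_not_dvd hp.out).mp hc.symm hd

theorem not_le_centralizer (hG : ¬ IsMulCommutative G) (hd : p ∣ Nat.card G) (P : Sylow p G) :
    ¬ normalizer ((P : Subgroup G) : Set G) ≤ centralizer ((P : Subgroup G) : Set G) := fun h =>
  not_npc hG hd (CfsgLib.Transfer.npc_of_normalizer_le P h)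

end simple

theorem card_mod_of_orbits {H X : Type*} [Group H] [MulAction H X] [Finite X] (m : ℕ) (x0 : X) (h0 : ∀ h : H, h • x0 = x0)
    (h : ∀ x : X, x ≠ x0 → m ∣ Nat.card (orbit H x)) : Nat.card X ≡ 1 [MOD m] := by
  classical
  haveI := Fintype.ofFinite X
  haveI : Fintype (Quotient (orbitRel H X)) := Fintype.ofFinite _
  have e := selfEquivSigmaOrbits H X
  have e2 : Nat.card X = ∑ ω : Quotient (orbitRel H X), Nat.card (orbit H ω.out) := by
    rw [Nat.card_congr e, Nat.card_sigma]
  rw [e2, ← Finset.add_sum_erase Finset.univ _ (Finset.mem_univ (⟦x0⟧ : Quotient (orbitRel H X)))]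
  have e3 : Nat.card (orbit H (⟦x0⟧ : Quotient (orbitRel H X)).out) = 1 := by
    have h1 : (⟦x0⟧ : Quotient (orbitRel H X)).out ∈ orbit H x0 := by
      have := Quotient.exact (Quotient.out_eq (⟦x0⟧ : Quotient (orbitRel H X)))
      exact this
    have h2 : (⟦x0⟧ : Quotient (orbitRel H X)).out = x0 := by
      obtain ⟨g, hg⟩ := h1
      rw [← hg]; exact h0 g
    rw [h2]
    have h3 : orbit H x0 = {x0} := by
      ext y
      constructor
      · rintro ⟨g, hg⟩; rw [Set.mem_singleton_iff, ← hg]; exact h0 g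
      · rintro rfl; exact mem_orbit_self _
    rw [h3]; simp
  rw [e3]
  have h4 : m ∣ ∑ ω ∈ Finset.univ.erase (⟦x0⟧ : Quotient (orbitRel H X)), Nat.card (orbit H ω.out) := by
    apply Finset.dvd_sum
    intro ω hω
    apply h
    intro h5
    apply (Finset.mem_erase.mp hω).1
    rw [← Quotient.out_eq ω, h5]
  obtain ⟨c, hc⟩ := h4
  rw [hc]
  exact (Nat.modEq_iff_dvd' (by omega)).mpr ⟨c, by omega⟩ |>.symm

theorem orbit_sylow {G : Type*} [Group G] [Finite G] {p : ℕ} [Fact p.Prime] (P R : Sylow p G) :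
    Nat.card (orbit ↥(P : Subgroup G) R) = ((R : Subgroup G).subgroupOf (P : Subgroup G)).index := by
  rw [Nat.card_congr (orbitEquivQuotientStabilizer ↥(P : Subgroup G) R)]
  change (stabilizer ↥(P : Subgroup G) R).index = _
  congr 1
  ext x
  rw [mem_stabilizer_iff, mem_subgroupOf]
  have h1 : x • R = (x : G) • R := rfl
  rw [h1, ← mem_stabilizer_iff, Sylow.stabilizer_eq_normalizer]
  have h2 := P.2.inf_normalizer_sylow R
  constructor
  · intro hx
    have : (x : G) ∈ (P : Subgroup G) ⊓ normalizer ((R : Subgroup G) : Set G) := ⟨x.2, hx⟩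
    have h3 : (x : G) ∈ (P : Subgroup G) ⊓ (R : Subgroup G) := h2 ▸ this
    exact h3.2
  · intro hx; exact le_normalizer hx

theorem exists_intersection {G : Type*} [Group G] [Finite G] (p k : ℕ) [hp : Fact p.Prime] (h : ¬ Nat.card (Sylow p G) ≡ 1 [MOD p ^ k])
    (P : Sylow p G) : ∃ R : Sylow p G, P ≠ R ∧ ((R : Subgroup G).subgroupOf (P : Subgroup G)).index ≤ p ^ (k - 1) := by
  by_contra hcon
  push Not at hcon
  apply h
  apply card_mod_of_orbits (H := ↥(P : Subgroup G)) _ P
  · intro g
    change (g : G) • P = P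
    rw [← mem_stabilizer_iff, Sylow.stabilizer_eq_normalizer]
    exact le_normalizer g.2
  · intro R hR
    rw [orbit_sylow]
    have h1 := hcon R fun h => hR h.symm
    obtain ⟨j, hj⟩ := IsPGroup.index P.2 ((R : Subgroup G).subgroupOf (P : Subgroup G))
    rw [hj] at h1 ⊢
    have h2 := (Nat.pow_lt_pow_iff_right hp.out.one_lt).mp h1
    exact pow_dvd_pow p (by omega)

theorem syl {G : Type*} [Group G] [Finite G] [IsSimpleGroup G] {p : ℕ} [hp : Fact p.Prime] (hG : ¬ IsMulCommutative G) (hd : p ∣ Nat.card G) (P : Sylow p G) :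
    Nat.card (Sylow p G) % p = 1 ∧ Nat.card (Sylow p G) * Nat.card (normalizer ((P : Subgroup G) : Set G)) = Nat.card G ∧
      Nat.card (Sylow p G) ≠ 1 ∧ 2 * Nat.card G ∣ (Nat.card (Sylow p G)).factorial ∧
      Nat.card (Sylow p G) = (normalizer ((P : Subgroup G) : Set G)).index ∧ normalizer ((P : Subgroup G) : Set G) ≠ ⊤ := by
  have h0 : Nat.card (Sylow p G) = (normalizer ((P : Subgroup G) : Set G)).index := P.card_eq_index_normalizer
  have h1 : normalizer ((P : Subgroup G) : Set G) ≠ ⊤ := by
    intro h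
    have hn : (P : Subgroup G).Normal := normalizer_eq_top_iff.mp h
    rcases hn.eq_bot_or_eq_top with h2 | h2
    · have := P.ne_bot_of_dvd_card hd
      exact this h2
    · have hP : IsPGroup p G := by
        have := P.2
        rw [h2] at this
        exact this.of_equiv topEquiv
      have : Group.IsNilpotent G := hP.isNilpotent
      have h3 : Group.IsSolvable G := inferInstance
      exact absurd (comm_top hG) (ne_of_lt (IsSolvable.commutator_lt_top_of_nontrivial G))
  refine ⟨?_, ?_, ?_, ?_, h0, h1⟩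
  · have := card_sylow_modEq_one p G
    have h2 : Nat.card (Sylow p G) % p = 1 % p := this
    rw [h2, Nat.mod_eq_of_lt hp.out.one_lt]
  · rw [h0, mul_comm]; exact card_mul_index _
  · rw [h0]; intro h; exact h1 (index_eq_one.mp h)
  · rw [h0]; exact two_card_dvd hG _ h1

end CfsgLib.SmS
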