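import Cfsg.Agent.Lib.SmS1
set_option autoImplicit false
set_option linter.style.haveILetI false

/-! More tools for simple groups of small order. -/

namespace CfsgLib.SmS
open Subgroup MulAction CfsgLib.NPC

section
variable {G : Type*} [Group G] [Finite G]

theorem relIndex_dvd (H : Subgroup G) : (centralizer (H : Set G)).relIndex (normalizer (H : Set G)) ∣ Nat.card (MulAut H) := by
  have key := card_dvd_of_injective _ (QuotientGroup.kerLift_injective H.normalizerMonoidHom)
  rw [normalizerMonoidHom_ker, ← index, ← relIndex] at key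
  exact key

theorem card_mulAut_dvd (X : Type*) [Group X] [Finite X] : Nat.card (MulAut X) ∣ (Nat.card X - 1).factorial := by
  classical
  haveI := Fintype.ofFinite X
  let f : MulAut X →* Equiv.Perm {x : X // x ≠ 1} :=
    { toFun := fun σ => σ.toEquiv.subtypeEquiv fun x => by
        constructor
        · intro h h'; exact h (by simpa using h')
        · intro h h'; exact h (by simp [h'])
      map_one' := by ext x; rfl
      map_mul' := fun σ τ => by ext x; rfl }
  have hf : Function.Injective f := by
    intro σ τ h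
    ext x
    by_cases hx : x = 1
    · subst hx; simp
    · have := congrArg (fun g : Equiv.Perm {x : X // x ≠ 1} => ((g ⟨x, hx⟩ : {x : X // x ≠ 1}) : X)) h
      exact this
  have h1 := card_dvd_of_injective f hf
  have h2 : Nat.card (Equiv.Perm {x : X // x ≠ 1}) = (Nat.card X - 1).factorial := by
    rw [Nat.card_eq_fintype_card, Fintype.card_perm, Fintype.card_subtype_compl, Fintype.card_subtype_eq, Nat.card_eq_fintype_card]
  rwa [h2] at h1

/-- centralizer of a subgroup of its normalizer -/
theorem centralizer_le_normalizer' (H : Subgroup G) : centralizer (H : Set G) ≤ normalizer (H : Set G) := by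
  intro x hx
  rw [mem_normalizer_iff]
  intro h
  have hc := mem_centralizer_iff.mp hx
  constructor
  · intro hh
    have : x * h * x⁻¹ = h := by rw [← hc h hh]; group
    rw [this]; exact hh
  · intro hh
    have h2 := hc _ hh
    have h3 : x * h * x⁻¹ = h := by
      have : x * h * x⁻¹ * x = x * (x * h * x⁻¹) := h2
      calc x * h * x⁻¹ = x⁻¹ * (x * (x * h * x⁻¹)) := by group
        _ = x⁻¹ * (x * h * x⁻¹ * x) := by rw [this]
        _ = h := by group
    rw [← h3]; exact hh

theorem card_cent_mul (H : Subgroup G) : (centralizer (H : Set G)).relIndex (normalizer (H : Set G)) * Nat.card (centralizer (H : Set G)) =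
    Nat.card (normalizer (H : Set G)) := by
  rw [mul_comm]
  have h := card_mul_index ((centralizer (H : Set G)).subgroupOf (normalizer (H : Set G)))
  rw [← h]
  congr 1
  exact (Nat.card_congr (subgroupOfEquivOfLe (centralizer_le_normalizer' H)).toEquiv).symm

theorem dvd_of_abelian {p : ℕ} [hp : Fact p.Prime] (P : Sylow p G) (hP : ∀ x ∈ (P : Subgroup G), ∀ y ∈ (P : Subgroup G), x * y = y * x) :
    ¬ p ∣ (centralizer ((P : Subgroup G) : Set G)).relIndex (normalizer ((P : Subgroup G) : Set G)) := by
  have h1 : (P : Subgroup G) ≤ centralizer ((P : Subgroup G) : Set G) := by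
    intro x hx; rw [mem_centralizer_iff]; intro y hy; exact hP y hy x hx
  intro h
  have h2 : (centralizer ((P : Subgroup G) : Set G)).relIndex (normalizer ((P : Subgroup G) : Set G)) ∣ (P : Subgroup G).index := by
    refine dvd_trans (relIndex_dvd_of_le_left _ h1) ?_
    exact relIndex_dvd_index_of_normal' P
  exact P.not_dvd_index (dvd_trans h h2)
where
  relIndex_dvd_index_of_normal' {p : ℕ} [hp : Fact p.Prime] (P : Sylow p G) :
      (P : Subgroup G).relIndex (normalizer ((P : Subgroup G) : Set G)) ∣ (P : Subgroup G).index := by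
    have := relIndex_mul_index (le_normalizer : (P : Subgroup G) ≤ normalizer ((P : Subgroup G) : Set G))
    exact ⟨_, this.symm⟩

theorem card_subgroupOf_eq (H K : Subgroup G) : Nat.card (H.subgroupOf K) = Nat.card (H ⊓ K : Subgroup G) := by
  rw [← subgroupOf_map_subtype]
  exact Nat.card_congr ((H.subgroupOf K).equivMapOfInjective K.subtype K.subtype_injective).toEquiv

theorem syl_index {p : ℕ} [hp : Fact p.Prime] (P : Sylow p G) : (normalizer ((P : Subgroup G) : Set G)).index = Nat.card (Sylow p G) :=
  P.card_eq_index_normalizer.symm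

theorem card_sylow_prime {p : ℕ} [hp : Fact p.Prime] (hd : p ∣ Nat.card G) (hd2 : ¬ p ^ 2 ∣ Nat.card G) (P : Sylow p G) : Nat.card P = p := by
  rw [P.card_eq_multiplicity]
  have h3 : (Nat.card G).factorization p = 1 := by
    have h0 : Nat.card G ≠ 0 := Nat.card_pos.ne'
    have h4 : 1 ≤ (Nat.card G).factorization p := (hp.out.dvd_iff_one_le_factorization h0).mp hd
    have h5 : ¬ 2 ≤ (Nat.card G).factorization p := fun h => hd2 ((hp.out.pow_dvd_iff_le_factorization h0).mpr h)
    omega
  rw [h3, pow_one]

theorem prime_relIndex {p : ℕ} [hp : Fact p.Prime] (P : Subgroup G) (hP : Nat.card P = p) :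
    (centralizer (P : Set G)).relIndex (normalizer (P : Set G)) ∣ p - 1 := by
  haveI : IsCyclic P := isCyclic_of_prime_card hP
  have h := relIndex_dvd P
  rw [IsCyclic.card_mulAut, hP, Nat.totient_prime hp.out] at h
  exact h

end

section simple
variable {G : Type*} [Group G] [Finite G] [IsSimpleGroup G] {p : ℕ} [hp : Fact p.Prime]

theorem relIndex_ne_one (hG : ¬ IsMulCommutative G) (hd : p ∣ Nat.card G) (P : Sylow p G) :
    (centralizer ((P : Subgroup G) : Set G)).relIndex (normalizer ((P : Subgroup G) : Set G)) ≠ 1 := fun h =>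
  not_le_centralizer hG hd P (relIndex_eq_one.mp h)

/-- all Sylow data when the Sylow subgroup has prime order -/
theorem syl_prime (hG : ¬ IsMulCommutative G) (hd : p ∣ Nat.card G) (hd2 : ¬ p ^ 2 ∣ Nat.card G) (P : Sylow p G) :
    Nat.card P = p ∧ ∃ n e c : ℕ, Nat.card (Sylow p G) = n ∧
      (centralizer ((P : Subgroup G) : Set G)).relIndex (normalizer ((P : Subgroup G) : Set G)) = e ∧
      Nat.card (centralizer ((P : Subgroup G) : Set G)) = c ∧ n % p = 1 ∧ n ≠ 1 ∧ e ∣ p - 1 ∧ e ≠ 1 ∧ p ∣ c ∧ n * (e * c) = Nat.card G ∧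
      2 * Nat.card G ∣ n.factorial := by
  have h1 : Nat.card P = p := by
    rw [P.card_eq_multiplicity]
    have h3 : (Nat.card G).factorization p = 1 := by
      have h0 : Nat.card G ≠ 0 := Nat.card_pos.ne'
      have h4 : 1 ≤ (Nat.card G).factorization p := (hp.out.dvd_iff_one_le_factorization h0).mp hd
      have h5 : ¬ 2 ≤ (Nat.card G).factorization p := fun h => hd2 ((hp.out.pow_dvd_iff_le_factorization h0).mpr h)
      omega
    rw [h3, pow_one]
  obtain ⟨a1, a2, a3, a4, a5, a6⟩ := syl hG hd P
  refine ⟨h1, _, _, _, rfl, rfl, rfl, a1, a3, prime_relIndex (P : Subgroup G) h1, relIndex_ne_one hG hd P, ?_, ?_, a4⟩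
  · have h2 : (P : Subgroup G) ≤ centralizer ((P : Subgroup G) : Set G) := by
      haveI : IsCyclic P := isCyclic_of_prime_card h1
      letI := IsCyclic.commGroup (α := P)
      intro x hx
      rw [mem_centralizer_iff]
      intro y hy
      exact congrArg Subtype.val (mul_comm (⟨y, hy⟩ : P) ⟨x, hx⟩)
    have := card_dvd_of_le h2
    rwa [h1] at this
  · rw [card_cent_mul, a2]

end simple

end CfsgLib.SmS
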