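import Cfsg.Agent.Lib.SmS2
set_option autoImplicit false
set_option linter.style.haveILetI false

/-! Fixed points and parity. -/

namespace CfsgLib.SmS
open Subgroup MulAction CfsgLib.NPC
open scoped Pointwise

section
variable {G : Type*} [Group G] [Finite G] {p : ℕ} [hp : Fact p.Prime]

theorem zpowers_eq_of_mem {P : Subgroup G} (hP : Nat.card P = p) {u : G} (hu : u ∈ P) (h1 : u ≠ 1) : zpowers u = P := by
  have h2 : zpowers u ≤ P := by rwa [zpowers_le]
  apply eq_of_le_of_card_ge h2
  have h3 : Nat.card (zpowers u) ∣ p := hP ▸ card_dvd_of_le h2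
  rcases (Nat.dvd_prime hp.out).mp h3 with h | h
  · exfalso; apply h1
    rw [Nat.card_zpowers, orderOf_eq_one_iff] at h; exact h
  · rw [h, hP]

theorem mem_of_orderOf (P : Sylow p G) {y : G} (hy : orderOf y = p) (hn : y ∈ normalizer ((P : Subgroup G) : Set G)) : y ∈ (P : Subgroup G) := by
  have hz : IsPGroup p (zpowers y) := IsPGroup.of_card (n := 1) (by rw [Nat.card_zpowers, hy, pow_one])
  have h := hz.inf_normalizer_sylow P
  have h2 : y ∈ zpowers y ⊓ normalizer ((P : Subgroup G) : Set G) := ⟨mem_zpowers y, hn⟩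
  have h3 : y ∈ zpowers y ⊓ (P : Subgroup G) := h ▸ h2
  exact h3.2

theorem fix_iff (H : Subgroup G) (x g : G) : x • (QuotientGroup.mk g : G ⧸ H) = QuotientGroup.mk g ↔ g⁻¹ * x * g ∈ H := by
  rw [MulAction.Quotient.smul_mk, eq_comm, QuotientGroup.eq, smul_eq_mul, mul_assoc]

theorem fix_one (P : Sylow p G) (hP : Nat.card P = p) {y : G} (hy : orderOf y = p) :
    Nat.card (fixedBy (G ⧸ normalizer ((P : Subgroup G) : Set G)) y) = 1 := by
  have hyp : Nat.card (zpowers y) = Nat.card P := by rw [Nat.card_zpowers, hy, hP]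
  let Q : Sylow p G := Sylow.ofCard (zpowers y) (by rw [hyp, P.card_eq_multiplicity])
  obtain ⟨g0, hg0⟩ := exists_smul_eq G P Q
  have hQ : (Q : Subgroup G) = zpowers y := rfl
  have key : ∀ g : G, g⁻¹ * y * g ∈ normalizer ((P : Subgroup G) : Set G) ↔ g • P = Q := by
    intro g
    constructor
    · intro h
      have ho : orderOf (g⁻¹ * y * g) = p := by
        rw [← hy]
        have : g⁻¹ * y * g = MulAut.conj g⁻¹ y := by simp
        rw [this, MulEquiv.orderOf_eq]
      have h1 := mem_of_orderOf P ho h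
      have h2 : zpowers (g⁻¹ * y * g) = (P : Subgroup G) := zpowers_eq_of_mem hP h1 (by
        intro h3; rw [h3, orderOf_one] at ho; exact hp.out.one_lt.ne ho)
      apply Sylow.ext
      have h4 : ((g • P : Sylow p G) : Subgroup G) = (MulAut.conj g) • (P : Subgroup G) := rfl
      rw [h4, ← h2, hQ]
      apply le_antisymm
      · intro x hx
        rw [mem_pointwise_smul_iff_inv_smul_mem] at hx
        obtain ⟨k, hk⟩ := mem_zpowers_iff.mp hx
        rw [mem_zpowers_iff]
        refine ⟨k, ?_⟩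
        have h5 : (MulAut.conj g)⁻¹ • x = g⁻¹ * x * g := by rw [← map_inv]; simp
        rw [h5] at hk
        have h6 : (g⁻¹ * y * g) ^ k = g⁻¹ * y ^ k * g := by
          have := (map_zpow (MulAut.conj g⁻¹) y k)
          simpa using this.symm
        rw [h6] at hk
        have := mul_left_cancel (mul_right_cancel hk)
        exact this
      · rw [zpowers_le, mem_pointwise_smul_iff_inv_smul_mem]
        have h5 : (MulAut.conj g)⁻¹ • y = g⁻¹ * y * g := by rw [← map_inv]; simp
        rw [h5]; exact mem_zpowers _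
    · intro h
      have h4 : ((g • P : Sylow p G) : Subgroup G) = (MulAut.conj g) • (P : Subgroup G) := rfl
      have h5 : y ∈ ((g • P : Sylow p G) : Subgroup G) := by rw [h, hQ]; exact mem_zpowers y
      rw [h4, mem_pointwise_smul_iff_inv_smul_mem] at h5
      have h6 : (MulAut.conj g)⁻¹ • y = g⁻¹ * y * g := by rw [← map_inv]; simp
      rw [h6] at h5
      exact le_normalizer h5
  rw [Nat.card_eq_one_iff_unique]
  refine ⟨⟨?_⟩, ⟨⟨QuotientGroup.mk g0, ?_⟩⟩⟩
  · rintro ⟨a, ha⟩ ⟨b, hb⟩
    obtain ⟨a, rfl⟩ := QuotientGroup.mk_surjective a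
    obtain ⟨b, rfl⟩ := QuotientGroup.mk_surjective b
    rw [mem_fixedBy, fix_iff, key] at ha hb
    apply Subtype.ext
    change (QuotientGroup.mk a : G ⧸ _) = QuotientGroup.mk b
    rw [QuotientGroup.eq]
    have h7 : a⁻¹ * b ∈ stabilizer G P := by rw [mem_stabilizer_iff, mul_smul, hb, ← ha, inv_smul_smul]
    rw [Sylow.stabilizer_eq_normalizer] at h7
    exact h7
  · rw [mem_fixedBy, fix_iff, key]; exact hg0

theorem fix_le (P : Sylow p G) (hP : Nat.card P = p) {x : G} (hx : x ∈ normalizer ((P : Subgroup G) : Set G))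
    (hxc : x ∉ centralizer ((P : Subgroup G) : Set G)) :
    Nat.card (fixedBy (G ⧸ normalizer ((P : Subgroup G) : Set G)) x) ≤
      Nat.card (orbitRel.Quotient ↥(P : Subgroup G) (G ⧸ normalizer ((P : Subgroup G) : Set G))) := by
  apply Nat.card_le_card_of_injective (fun a : fixedBy (G ⧸ normalizer ((P : Subgroup G) : Set G)) x =>
    (Quotient.mk'' a.1 : orbitRel.Quotient ↥(P : Subgroup G) (G ⧸ normalizer ((P : Subgroup G) : Set G))))
  rintro ⟨a, ha⟩ ⟨b, hb⟩ hab
  have h1 : a ∈ orbit ↥(P : Subgroup G) b := Quotient.exact hab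
  obtain ⟨u, hu⟩ := h1
  apply Subtype.ext
  change a = b
  rw [mem_fixedBy] at ha hb
  have hu' : (u : G) • b = a := hu
  by_cases h1 : (u : G) = 1
  · rw [h1, one_smul] at hu'; exact hu'.symm
  · have h2 : x * u * x⁻¹ ∈ (P : Subgroup G) := (mem_normalizer_iff.mp hx u).mp u.2
    have h3 : (x * u * x⁻¹) • b = (u : G) • b := by
      have : (x * (u : G) * x⁻¹) • b = x • (u : G) • x⁻¹ • b := by rw [mul_smul, mul_smul]
      rw [this, inv_smul_eq_iff.mpr hb.symm, hu', ha]
    set w := (u : G)⁻¹ * (x * u * x⁻¹) with hw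
    have h4 : w • b = b := by rw [hw, mul_smul, h3, inv_smul_smul]
    have h5 : w ∈ (P : Subgroup G) := mul_mem (inv_mem u.2) h2
    by_cases h6 : w = 1
    · exfalso; apply hxc
      have h7 : x * u = u * x := by
        have : x * (u : G) * x⁻¹ = u := by
          rw [hw, inv_mul_eq_one] at h6; exact h6.symm
        calc x * u = x * u * x⁻¹ * x := by group
          _ = u * x := by rw [this]
      rw [mem_centralizer_iff]
      intro y hy
      have h8 : y ∈ zpowers (u : G) := by rw [zpowers_eq_of_mem hP u.2 h1]; exact hy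
      obtain ⟨k, rfl⟩ := mem_zpowers_iff.mp h8
      have h9 : Commute x (u : G) := h7
      exact (h9.zpow_right k).symm
    · have h7 : (u : G) ∈ zpowers w := by rw [zpowers_eq_of_mem hP h5 h6]; exact u.2
      obtain ⟨k, hk⟩ := mem_zpowers_iff.mp h7
      have h8 : (u : G) ∈ stabilizer G b := by
        rw [← hk]; exact zpow_mem (mem_stabilizer_iff.mpr h4) k
      rw [← hu']; exact mem_stabilizer_iff.mp h8

/-- number of orbits of a Sylow subgroup of prime order on its conjugates -/
theorem orbits_mul (P : Sylow p G) (hP : Nat.card P = p) :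
    Nat.card (orbitRel.Quotient ↥(P : Subgroup G) (G ⧸ normalizer ((P : Subgroup G) : Set G))) * p = Nat.card (Sylow p G) + (p - 1) := by
  classical
  haveI := Fintype.ofFinite ↥(P : Subgroup G)
  haveI := Fintype.ofFinite (G ⧸ normalizer ((P : Subgroup G) : Set G))
  haveI : Fintype (orbitRel.Quotient ↥(P : Subgroup G) (G ⧸ normalizer ((P : Subgroup G) : Set G))) := Fintype.ofFinite _
  have h := sum_card_fixedBy_eq_card_orbits_mul_card_group ↥(P : Subgroup G) (G ⧸ normalizer ((P : Subgroup G) : Set G))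
  have h1 : Fintype.card ↥(P : Subgroup G) = p := by rw [← Nat.card_eq_fintype_card, hP]
  rw [h1, ← Finset.add_sum_erase Finset.univ _ (Finset.mem_univ (1 : ↥(P : Subgroup G)))] at h
  have h2 : Fintype.card (fixedBy (G ⧸ normalizer ((P : Subgroup G) : Set G)) (1 : ↥(P : Subgroup G))) = Nat.card (Sylow p G) := by
    rw [P.card_eq_index_normalizer, ← Nat.card_eq_fintype_card, Subgroup.index]
    exact Nat.card_congr (Equiv.subtypeUnivEquiv fun a => by rw [mem_fixedBy, one_smul])
  have h3 : ∀ u ∈ Finset.univ.erase (1 : ↥(P : Subgroup G)), Fintype.card (fixedBy (G ⧸ normalizer ((P : Subgroup G) : Set G)) u) = 1 := by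
    intro u hu
    have hu1 : (u : G) ≠ 1 := fun h => (Finset.mem_erase.mp hu).1 (Subtype.ext h)
    have ho : orderOf (u : G) = p := by
      rw [← Nat.card_zpowers, zpowers_eq_of_mem hP u.2 hu1, hP]
    rw [← fix_one P hP ho, ← Nat.card_eq_fintype_card]
    rfl
  rw [Finset.sum_congr rfl h3, h2, Finset.sum_const, Finset.card_erase_of_mem (Finset.mem_univ _), Finset.card_univ, h1, smul_eq_mul, mul_one] at h
  rw [Nat.card_eq_fintype_card]
  exact h.symm

theorem fix_bound (P : Sylow p G) (hP : Nat.card P = p) {x : G} (hx : x ∈ normalizer ((P : Subgroup G) : Set G))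
    (hxc : x ∉ centralizer ((P : Subgroup G) : Set G)) :
    Nat.card (fixedBy (G ⧸ normalizer ((P : Subgroup G) : Set G)) x) * p ≤ Nat.card (Sylow p G) + (p - 1) := by
  rw [← orbits_mul P hP]
  exact Nat.mul_le_mul_right p (fix_le P hP hx hxc)

theorem fix_pos (H : Subgroup G) {x : G} (hx : x ∈ H) : 0 < Nat.card (fixedBy (G ⧸ H) x) := by
  haveI : Nonempty (fixedBy (G ⧸ H) x) := ⟨⟨QuotientGroup.mk 1, by rw [mem_fixedBy, fix_iff]; simpa using hx⟩⟩
  exact Nat.card_pos

end

theorem perm_parity {α : Type*} [Fintype α] [DecidableEq α] (f : Equiv.Perm α) (hf : f ^ 2 = 1) (hs : Equiv.Perm.sign f = 1) :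
    4 ∣ f.support.card := by
  have h1 := Equiv.Perm.cycleType_of_pow_prime_eq_one (p := 2) hf
  have h2 := Equiv.Perm.sign_of_cycleType f
  rw [hs] at h2
  have h3 : f.support.card = 2 * f.cycleType.card := by
    rw [← Equiv.Perm.sum_cycleType]
    conv_lhs => rw [h1]
    rw [Multiset.sum_replicate, smul_eq_mul, mul_comm]
  have h4 : Even (f.cycleType.card) := by
    rw [Equiv.Perm.sum_cycleType, h3] at h2
    by_contra h
    rw [Nat.not_even_iff_odd] at h
    have : Odd (2 * f.cycleType.card + f.cycleType.card) := by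
      obtain ⟨k, hk⟩ := h
      exact ⟨3 * k + 1, by omega⟩
    rw [this.neg_one_pow] at h2
    exact absurd h2 (by decide)
  obtain ⟨k, hk⟩ := h4
  exact ⟨k, by omega⟩

section
variable {G : Type*} [Group G] [Finite G] [IsSimpleGroup G]

theorem invol_parity (hG : ¬ IsMulCommutative G) (H : Subgroup G) {x : G} (hx : x ^ 2 = 1) :
    ∃ k, H.index = Nat.card (fixedBy (G ⧸ H) x) + 4 * k := by
  classical
  haveI := Fintype.ofFinite (G ⧸ H)
  have h1 := sign_perm hG (toPermHom G (G ⧸ H)) x
  have h2 : (toPermHom G (G ⧸ H) x) ^ 2 = 1 := by rw [← map_pow, hx, map_one]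
  obtain ⟨k, hk⟩ := perm_parity _ h2 h1
  refine ⟨k, ?_⟩
  rw [← hk, Subgroup.index, Nat.card_eq_fintype_card, Nat.card_eq_fintype_card]
  have h3 : (toPermHom G (G ⧸ H) x).supportᶜ.card = Fintype.card (fixedBy (G ⧸ H) x) := by
    rw [← Set.toFinset_card]
    congr 1
    ext a
    simp [Equiv.Perm.mem_support, mem_fixedBy]
  rw [← h3, add_comm, Finset.card_add_card_compl]

end

end CfsgLib.SmS
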