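import Cfsg.Agent.Lib.Subnormal

/-! A sharpening of Wielandt's subnormality criterion. -/
set_option autoImplicit false
set_option linter.style.haveILetI false
set_option linter.unusedVariables false

namespace CfsgLib.SubnCrit

open CfsgLib.SZ CfsgLib.Core CfsgLib.Subnormal
open scoped commutatorElement Pointwise

universe u

theorem criterion (n : ℕ) : ∀ {G : Type u} [Group G] [Finite G], Nat.card G ≤ n → ∀ A : Subgroup G,
    (∀ a ∈ A, ∀ g : G, (A.subgroupOf (A ⊔ MulAut.conj (g⁻¹ * a * g) • A)).IsSubnormal) → A.IsSubnormal := by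
  induction n with
  | zero => intro G _ _ hn; exact absurd hn (not_le_of_gt Nat.card_pos)
  | succ n ih =>
    intro G _ _ hn A hA
    by_contra hns
    have hH : ∀ H : Subgroup G, A ≤ H → H ≠ ⊤ → (A.subgroupOf H).IsSubnormal := by
      intro H hAH hH
      have hc : Nat.card H ≤ n := by
        have : Nat.card H < Nat.card G := by
          rw [← Subgroup.card_top (G := G)]
          exact Set.ncard_lt_ncard (SetLike.coe_ssubset_coe.mpr (lt_top_iff_ne_top.mpr hH)) (Set.toFinite _)
        omega
      refine ih hc _ fun a ha h => ?_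
      rw [snIn_map_iff H.subtype H.subtype_injective, Subgroup.map_sup, Subgroup.map_subgroupOf_eq_of_le hAH,
        CfsgLib.SZ.map_conj, Subgroup.map_subgroupOf_eq_of_le hAH]
      exact hA a ha h
    obtain ⟨M, hM, hAM, hu⟩ := zipper _ A le_rfl hH hns
    have h1 : ∀ a ∈ A, ∀ g : G, MulAut.conj (g⁻¹ * a * g) • A ≤ M := by
      intro a ha g
      have h2 : A ⊔ MulAut.conj (g⁻¹ * a * g) • A ≠ ⊤ := by
        intro h
        have h3 := hA a ha g
        rw [h] at h3
        exact hns (Subgroup.IsSubnormal.trans le_top h3 Subgroup.IsSubnormal.top)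
      obtain ⟨K, hK, hle⟩ := (eq_top_or_exists_le_coatom (A ⊔ MulAut.conj (g⁻¹ * a * g) • A)).resolve_left h2
      rw [← hu K hK (le_sup_left.trans hle)]
      exact le_sup_right.trans hle
    have h2 : ∀ a ∈ A, ∀ g : G, g⁻¹ * a * g ∈ Subgroup.normalizer (M : Set G) := by
      intro a ha g
      set x := g⁻¹ * a * g with hx
      have h3 : IsCoatom (MulEquiv.mapSubgroup (MulAut.conj x⁻¹) M) := ((MulEquiv.mapSubgroup (MulAut.conj x⁻¹)).isCoatom_iff M).mpr hM
      have h4 : A ≤ MulEquiv.mapSubgroup (MulAut.conj x⁻¹) M := by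
        intro y hy
        refine ⟨x * y * x⁻¹, h1 a ha g ⟨y, hy, rfl⟩, ?_⟩
        show x⁻¹ * (x * y * x⁻¹) * x⁻¹⁻¹ = y
        group
      have h5 := hu _ h3 h4
      rw [← Subgroup.inv_mem_iff, Subgroup.mem_normalizer_iff]
      intro y
      constructor
      · intro hy
        rw [← h5]
        exact ⟨y, hy, rfl⟩
      · intro hy
        rw [← h5] at hy
        obtain ⟨z, hz, hzy⟩ := hy
        have hzy' : x⁻¹ * z * x⁻¹⁻¹ = x⁻¹ * y * x⁻¹⁻¹ := hzy
        have : z = y := by
          have h6 := mul_right_cancel hzy'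
          exact mul_left_cancel h6
        rw [← this]; exact hz
    by_cases hN : Subgroup.normalizer (M : Set G) = ⊤
    · have hMn : M.Normal := Subgroup.normalizer_eq_top_iff.mp hN
      exact hns (Subgroup.IsSubnormal.trans hAM (hH M hAM hM.1) (Subgroup.Normal.isSubnormal hMn))
    · have hNM : Subgroup.normalizer (M : Set G) = M := by
        rcases hM.le_iff.mp (Subgroup.le_normalizer (H := M)) with h | h
        · exact absurd h hN
        · exact h
      have h2' : Subgroup.normalClosure (A : Set G) ≤ M := by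
        rw [Subgroup.normalClosure, Subgroup.closure_le]
        intro x hx
        obtain ⟨a, ha, hax⟩ := Group.mem_conjugatesOfSet_iff.mp hx
        obtain ⟨c, rfl⟩ := isConj_iff.mp hax
        have h3 := h2 a ha c⁻¹
        rw [hNM, inv_inv] at h3
        exact h3
      have h3 : Subgroup.normalClosure (A : Set G) ≠ ⊤ := fun h => hM.1 (top_le_iff.mp (h ▸ h2'))
      have h4 := hH _ Subgroup.subset_normalClosure h3
      exact hns (Subgroup.IsSubnormal.trans Subgroup.subset_normalClosure h4 (Subgroup.Normal.isSubnormal inferInstance))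

end CfsgLib.SubnCrit
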