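import Mathlib
import Cfsg.Agent.Lib.Core
import Cfsg.Agent.Lib.Core2

/-!
helper3: SylCount. Counting Sylow subgroups through quotients and normal subgroups.
* `card_sylow_eq_mul` : n_p(X) = n_p(X/Y) * |Y : N_Y(P)|
* `card_sylow_congr` : isomorphic groups
* `card_sylow_of_normal` : n_p(M) = n_p(G) for M normal of index prime to p
* `exists_conj_le`, `exists_mul_normalizer`
-/

namespace CfsgLib.SylCount
open CfsgLib.Core CfsgLib.Core2 Subgroup

/-- a subgroup of index prime to r contains a conjugate of R -/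
theorem exists_conj_le {G : Type*} [Group G] [Finite G] {r : ℕ} [Fact r.Prime] (R : Sylow r G) (M : Subgroup G) (hM : ¬ r ∣ M.index) :
    ∃ g : G, (R : Subgroup G).map (MulAut.conj g).toMonoidHom ≤ M := by
  obtain ⟨S⟩ : Nonempty (Sylow r M) := inferInstance
  have h1 : ¬ r ∣ ((S : Subgroup M).map M.subtype).index := by
    rw [Subgroup.index_map_subtype]
    intro h
    rcases (Nat.Prime.dvd_mul Fact.out).1 h with h | h
    · exact S.not_dvd_index h
    · exact hM h
  have h2 : IsPGroup r ↥((S : Subgroup M).map M.subtype) := S.isPGroup'.map _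
  let S' : Sylow r G := h2.toSylow h1
  obtain ⟨g, hg⟩ := MulAction.exists_smul_eq G R S'
  refine ⟨g, ?_⟩
  have h3 : (R : Subgroup G).map (MulAut.conj g).toMonoidHom = (S' : Subgroup G) := by
    rw [← hg]; rfl
  rw [h3]
  exact Subgroup.map_subtype_le _

/-- if `R` and `gRg⁻¹` lie in `M` then `mg` normalizes `R` for some `m ∈ M` -/
theorem exists_mul_normalizer {G : Type*} [Group G] [Finite G] {r : ℕ} [Fact r.Prime] (R : Sylow r G) (M : Subgroup G) (g : G)
    (h1 : (R : Subgroup G) ≤ M) (h2 : (R : Subgroup G).map (MulAut.conj g).toMonoidHom ≤ M) :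
    ∃ m ∈ M, m * g ∈ normalizer ((R : Subgroup G) : Set G) := by
  let R1 : Sylow r M := R.subtype h1
  let R2 : Sylow r M := (g • R).subtype h2
  obtain ⟨m, hm⟩ := MulAction.exists_smul_eq M R2 R1
  refine ⟨m, m.2, ?_⟩
  rw [← map_conj_eq_iff, ← map_conj_mul]
  have h3 := congrArg (fun S : Sylow r M => (S : Subgroup M).map M.subtype) hm
  ext x
  constructor
  · rintro ⟨y, hy, rfl⟩
    have h4 : (⟨y, h2 hy⟩ : M) ∈ (R2 : Subgroup M) := hy
    have h5 : m * ⟨y, h2 hy⟩ * m⁻¹ ∈ (R1 : Subgroup M) := by
      rw [← hm]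
      exact ⟨⟨y, h2 hy⟩, h4, rfl⟩
    exact h5
  · intro hx
    have h4 : (⟨x, h1 hx⟩ : M) ∈ (R1 : Subgroup M) := hx
    rw [← hm] at h4
    obtain ⟨y, hy, hxy⟩ := h4
    exact ⟨y, hy, congrArg Subtype.val hxy⟩


theorem comap_normalizer {X : Type*} [Group X] [Finite X] {p : ℕ} [hp : Fact p.Prime] (P : Sylow p X) (Y : Subgroup X) [Y.Normal] :
    (normalizer (((P : Subgroup X).map (QuotientGroup.mk' Y) : Subgroup (X ⧸ Y)) : Set (X ⧸ Y))).comap (QuotientGroup.mk' Y) =
      Y ⊔ normalizer ((P : Subgroup X) : Set X) := by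
  apply le_antisymm
  · intro g hg
    rw [mem_comap, ← map_conj_eq_iff] at hg
    have h4 : (P : Subgroup X).map (MulAut.conj g).toMonoidHom ≤ Y ⊔ (P : Subgroup X) := by
      rintro _ ⟨x, hx, rfl⟩
      have h5 : QuotientGroup.mk' Y (g * x * g⁻¹) ∈ (P : Subgroup X).map (QuotientGroup.mk' Y) := by
        rw [← hg]
        refine ⟨QuotientGroup.mk' Y x, ⟨x, hx, rfl⟩, ?_⟩
        simp [MulAut.conj_apply]
      have h6 : g * x * g⁻¹ ∈ ((P : Subgroup X).map (QuotientGroup.mk' Y)).comap (QuotientGroup.mk' Y) := h5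
      rw [Subgroup.comap_map_eq, QuotientGroup.ker_mk', sup_comm] at h6
      exact h6
    obtain ⟨m, hm, hmg⟩ := exists_mul_normalizer P (Y ⊔ (P : Subgroup X)) g le_sup_right h4
    obtain ⟨a, ha, b, hb, rfl⟩ := Subgroup.mem_sup_of_normal_left.1 hm
    have h7 : g = a⁻¹ * (a * b * a⁻¹)⁻¹ * a * 1 * (a⁻¹ * (a * b * g)) := by group
    have h8 : b * g = a⁻¹ * (a * b * g) := by group
    -- b ∈ P normalizes P
    have h9 : b ∈ normalizer ((P : Subgroup X) : Set X) := le_normalizer hb
    have h10 : g = (b⁻¹ * a⁻¹ * b) * (b⁻¹ * (a * b * g)) := by group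
    rw [h10]
    apply Subgroup.mul_mem_sup
    · have := (inferInstance : Y.Normal).conj_mem a⁻¹ (Y.inv_mem ha) b⁻¹
      simpa using this
    · exact mul_mem (inv_mem h9) hmg
  · rw [sup_le_iff]
    constructor
    · intro y hy
      rw [mem_comap]
      have : QuotientGroup.mk' Y y = 1 := by rwa [← MonoidHom.mem_ker, QuotientGroup.ker_mk']
      rw [this]; exact one_mem _
    · intro g hg
      rw [mem_comap, ← map_conj_eq_iff]
      rw [← map_conj_eq_iff] at hg
      conv_rhs => rw [← hg]
      rw [Subgroup.map_map, Subgroup.map_map]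
      congr 1

/-- number of Sylow subgroups and quotients -/
theorem card_sylow_eq_mul {X : Type*} [Group X] [Finite X] {p : ℕ} [hp : Fact p.Prime] (P : Sylow p X) (Y : Subgroup X) [Y.Normal] :
    Nat.card (Sylow p X) = Nat.card (Sylow p (X ⧸ Y)) * (normalizer ((P : Subgroup X) : Set X)).relIndex Y := by
  have hP' : IsPGroup p ((P : Subgroup X).map (QuotientGroup.mk' Y)) := P.isPGroup'.map _
  have hidx : ¬ p ∣ ((P : Subgroup X).map (QuotientGroup.mk' Y)).index :=
    fun h => P.not_dvd_index (h.trans (Subgroup.index_map_dvd _ (QuotientGroup.mk'_surjective Y)))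
  let P' : Sylow p (X ⧸ Y) := hP'.toSylow hidx
  have h1 : Nat.card (Sylow p X) = (normalizer ((P : Subgroup X) : Set X)).index := P.card_eq_index_normalizer
  have h2 : Nat.card (Sylow p (X ⧸ Y)) = (normalizer (((P : Subgroup X).map (QuotientGroup.mk' Y) : Subgroup (X ⧸ Y)) : Set (X ⧸ Y))).index :=
    P'.card_eq_index_normalizer
  -- comap
  have h3 := comap_normalizer P Y
  have h4 := Subgroup.index_comap_of_surjective (normalizer (((P : Subgroup X).map (QuotientGroup.mk' Y) : Subgroup (X ⧸ Y)) : Set (X ⧸ Y))) (QuotientGroup.mk'_surjective Y)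
  rw [h3] at h4
  rw [h1, h2, ← h4, ← relIndex_sup_of_normal Y, mul_comm]
  exact (Subgroup.relIndex_mul_index le_sup_right).symm

theorem card_sylow_congr {A B : Type*} [Group A] [Group B] [Finite A] [Finite B] {p : ℕ} [Fact p.Prime] (e : A ≃* B) :
    Nat.card (Sylow p A) = Nat.card (Sylow p B) := by
  apply le_antisymm
  · have : Function.Injective (fun P : Sylow p A => P.mapSurjective (f := e.toMonoidHom) e.surjective) := by
      intro P Q h
      have h1 := congrArg (fun S : Sylow p B => (S : Subgroup B)) h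
      simp only [Sylow.coe_mapSurjective] at h1
      exact Sylow.ext (Subgroup.map_injective e.injective h1)
    exact Nat.card_le_card_of_injective _ this
  · have : Function.Injective (fun P : Sylow p B => P.mapSurjective (f := e.symm.toMonoidHom) e.symm.surjective) := by
      intro P Q h
      have h1 := congrArg (fun S : Sylow p A => (S : Subgroup A)) h
      simp only [Sylow.coe_mapSurjective] at h1
      exact Sylow.ext (Subgroup.map_injective e.symm.injective h1)
    exact Nat.card_le_card_of_injective _ this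

/-- Sylow subgroups of a normal subgroup of index prime to `p` -/
theorem card_sylow_of_normal {G : Type*} [Group G] [Finite G] {p : ℕ} [Fact p.Prime] (M : Subgroup G) [M.Normal] (hM : ¬ p ∣ M.index) :
    Nat.card (Sylow p M) = Nat.card (Sylow p G) := by
  have hle : ∀ P : Sylow p G, (P : Subgroup G) ≤ M := by
    intro P x hx
    have h1 : orderOf (QuotientGroup.mk' M x) ∣ orderOf x := orderOf_map_dvd _ _
    obtain ⟨c, hc⟩ := IsPGroup.iff_orderOf.1 P.isPGroup' ⟨x, hx⟩
    rw [Subgroup.orderOf_mk] at hc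
    rw [hc] at h1
    have h2 : orderOf (QuotientGroup.mk' M x) ∣ M.index := by
      rw [Subgroup.index_eq_card]; exact orderOf_dvd_natCard _
    have h3 : (p ^ c).Coprime M.index := Nat.Coprime.pow_left _ ((Nat.Prime.coprime_iff_not_dvd Fact.out).2 hM)
    have h4 := Nat.eq_one_of_dvd_coprimes h3 h1 h2
    rw [orderOf_eq_one_iff, mk_eq_one_iff] at h4
    exact h4
  apply le_antisymm
  · have h1 : ∀ S : Sylow p M, IsPGroup p ((S : Subgroup M).map M.subtype) := fun S => S.isPGroup'.map _
    have h2 : ∀ S : Sylow p M, ¬ p ∣ ((S : Subgroup M).map M.subtype).index := by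
      intro S h
      rw [Subgroup.index_map_subtype] at h
      rcases (Nat.Prime.dvd_mul Fact.out).1 h with h | h
      · exact S.not_dvd_index h
      · exact hM h
    apply Nat.card_le_card_of_injective (fun S : Sylow p M => ((h1 S).toSylow (h2 S) : Sylow p G))
    intro S T hST
    have h3 := congrArg (fun R : Sylow p G => (R : Subgroup G)) hST
    exact Sylow.ext (Subgroup.map_injective (subtype_injective M) h3)
  · apply Nat.card_le_card_of_injective (fun P : Sylow p G => P.subtype (hle P))
    intro P Q hPQ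
    have h3 := congrArg (fun R : Sylow p M => (R : Subgroup M)) hPQ
    simp only [Sylow.coe_subtype] at h3
    have h4 := congrArg (fun R : Subgroup M => R.map M.subtype) h3
    simp only [Subgroup.map_subgroupOf_eq_of_le (hle P), Subgroup.map_subgroupOf_eq_of_le (hle Q)] at h4
    exact Sylow.ext h4

/-- if the normalizer of a Sylow subgroup contains the normal subgroup `Y` then `n_p(X/Y) = n_p(X)` -/
theorem card_sylow_quotient {X : Type*} [Group X] [Finite X] {p : ℕ} [hp : Fact p.Prime] (P : Sylow p X) (Y : Subgroup X) [Y.Normal]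
    (h : Y ≤ normalizer ((P : Subgroup X) : Set X)) : Nat.card (Sylow p (X ⧸ Y)) = Nat.card (Sylow p X) := by
  have h1 := card_sylow_eq_mul P Y
  rw [Subgroup.relIndex_eq_one.2 h, mul_one] at h1
  exact h1.symm

end CfsgLib.SylCount
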