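import Mathlib
import Cfsg.Prelude.Def_SolvableStructure
import Cfsg.Agent.Lib.Hall
import Cfsg.Agent.Lib.SZ
import Cfsg.Agent.Lib.SolvStr2
import Cfsg.Agent.Lib.PStabN

/-!
# Hall complement systems and system normalizers
-/

set_option autoImplicit false
set_option linter.all false
open Pointwise
open scoped commutatorElement

namespace CfsgLib.SysN
open Subgroup MulAction Cfsg CfsgLib.SZ

universe u
variable {G : Type u} [Group G]

theorem crt [Finite G] (A : Nat.Primes → Subgroup G) (hA : ∀ p, ∃ k, (A p).index = (p:ℕ)^k) (g : Nat.Primes → G) :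
    ∃ x : G, ∀ p, (g p)⁻¹ * x ∈ A p := by
  classical
  let S := {p : Nat.Primes // (p:ℕ) ∈ (Nat.card G).primeFactors}
  haveI : Finite S := Finite.of_injective (fun p : S => (⟨(p.1 : ℕ), p.2⟩ : (Nat.card G).primeFactors)) (fun a b h => by
    have h1 := Subtype.ext_iff.1 h
    exact Subtype.ext (Subtype.ext h1))
  haveI : Fintype S := Fintype.ofFinite S
  let X := (p : S) → G ⧸ A p.1
  haveI : Finite X := Pi.finite
  let b : X := fun p => (QuotientGroup.mk 1)
  have hdiv : ∏ p : S, (A p.1).index ∣ Nat.card (orbit G b) := by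
    apply Fintype.prod_dvd_of_isRelPrime
    · intro p q hpq
      show IsRelPrime _ _
      obtain ⟨i, hi⟩ := hA p.1
      obtain ⟨j, hj⟩ := hA q.1
      simp only [hi, hj]
      rw [← Nat.coprime_iff_isRelPrime]
      exact Nat.Coprime.pow _ _ ((Nat.coprime_primes p.1.2 q.1.2).2 (fun h => hpq (Subtype.ext (Subtype.ext h))))
    · intro p
      rw [Nat.card_congr (orbitEquivQuotientStabilizer G b)]
      show (A p.1).index ∣ (stabilizer G b).index
      apply Subgroup.index_dvd_of_le
      intro x hx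
      have := congrFun (mem_stabilizer_iff.1 hx) p
      have h2 : (QuotientGroup.mk (x * 1) : G ⧸ A p.1) = QuotientGroup.mk 1 := this
      rw [QuotientGroup.eq] at h2
      simpa using h2
  have hcard : Nat.card X = ∏ p : S, (A p.1).index := Nat.card_pi
  have hXpos : 0 < Nat.card X := by
    haveI : Nonempty X := ⟨b⟩
    exact Nat.card_pos
  have htop : orbit G b = Set.univ := by
    haveI : Finite (orbit G b) := Subtype.finite
    rw [← hcard] at hdiv
    haveI : Nonempty (orbit G b) := ⟨⟨b, mem_orbit_self b⟩⟩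
    have hle : Nat.card X ≤ Nat.card (orbit G b) := Nat.le_of_dvd Nat.card_pos hdiv
    rw [Nat.card_coe_set_eq] at hle
    exact (Set.eq_of_subset_of_ncard_le (Set.subset_univ _) (by rw [Set.ncard_univ]; exact hle) Set.finite_univ)
  let y : X := fun p => QuotientGroup.mk (g p.1)
  obtain ⟨x, hx⟩ : y ∈ orbit G b := by rw [htop]; trivial
  refine ⟨x, fun p => ?_⟩
  by_cases hp : (p:ℕ) ∣ Nat.card G
  · have := congrFun hx ⟨p, Nat.mem_primeFactors.2 ⟨p.2, hp, Nat.card_pos.ne'⟩⟩
    have h2 : (QuotientGroup.mk (g p) : G ⧸ A p) = QuotientGroup.mk (x*1) := this.symm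
    rw [QuotientGroup.eq] at h2
    simpa using h2
  · obtain ⟨k, hk⟩ := hA p
    have h3 : (A p).index ∣ Nat.card G := index_dvd_card _
    have h4 : (A p).index = 1 := by
      rcases Nat.eq_zero_or_pos k with h | h
      · rw [hk, h, pow_zero]
      · exact absurd ((dvd_pow_self (p:ℕ) h.ne').trans (hk ▸ h3)) hp
    rw [Subgroup.index_eq_one] at h4
    rw [h4]
    trivial

theorem sys_cop [Finite G] {K : Nat.Primes → Subgroup G} (hK : IsComplementSystem K) (p : Nat.Primes) :
    (Nat.card (K p)).Coprime (p : ℕ) := by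
  have h1 := (K p).card_mul_index
  rw [hK p] at h1
  rw [Nat.coprime_comm, Nat.Prime.coprime_iff_not_dvd p.2]
  intro h
  have h2 : (p:ℕ) ^ ((Nat.card G).factorization p + 1) ∣ Nat.card G := by
    obtain ⟨c, hc⟩ := h
    refine ⟨c, ?_⟩
    conv_lhs => rw [← h1, hc]
    rw [pow_succ]; ring
  have h3 := (Nat.Prime.pow_dvd_iff_le_factorization p.2 Nat.card_pos.ne').1 h2
  omega

theorem relIndex_mul_index_sup {G : Type u} [Group G] [Finite G] (H N : Subgroup G) [N.Normal] : H.relIndex N * (H ⊔ N).index = H.index := by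
  have e1 : (H ⊓ N).relIndex N * N.index = (H ⊓ N).index := Subgroup.relIndex_mul_index inf_le_right
  have e2 : (H ⊓ N).relIndex H * H.index = (H ⊓ N).index := Subgroup.relIndex_mul_index inf_le_left
  rw [Subgroup.inf_relIndex_right] at e1
  rw [Subgroup.inf_relIndex_left] at e2
  have e3 : N.relIndex (H ⊔ N) * (H ⊔ N).index = N.index := Subgroup.relIndex_mul_index le_sup_right
  rw [Subgroup.relIndex_sup_right] at e3
  have h0 : 0 < N.relIndex H := Nat.pos_of_ne_zero (Subgroup.index_ne_zero_of_finite (H := N.subgroupOf H))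
  apply Nat.eq_of_mul_eq_mul_left h0
  rw [e2, ← e1, ← e3]
  ring

/-- conjugacy inside a subgroup -/
theorem conj_in [Finite G] [hs : Group.IsSolvable G] {p : Nat.Primes} {K L M : Subgroup G} (hK : (Nat.card K).Coprime (p:ℕ)) {k : ℕ}
    (hi : K.index = (p:ℕ) ^ k) (hKM : K ≤ M) (hLM : L ≤ M) (hc : Nat.card L = Nat.card K) : ∃ m ∈ M, MulAut.conj m • K = L := by
  have h1 : (Nat.card (K.subgroupOf M)) = Nat.card K := Nat.card_congr (Subgroup.subgroupOfEquivOfLe hKM).toEquiv
  have h1' : (Nat.card (L.subgroupOf M)) = Nat.card K := by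
    rw [← hc]; exact Nat.card_congr (Subgroup.subgroupOfEquivOfLe hLM).toEquiv
  have h2 : Nat.card M = Nat.card K * (K.subgroupOf M).index := by
    rw [← h1, Subgroup.card_mul_index]
  have h3 : (K.subgroupOf M).index ∣ (p:ℕ) ^ k := by
    rw [← hi]
    exact ⟨M.index, (Subgroup.relIndex_mul_index hKM).symm⟩
  have h4 : (Nat.card K).Coprime (K.subgroupOf M).index := (hK.pow_right k).coprime_dvd_right h3
  haveI : Group.IsSolvable M := inferInstance
  obtain ⟨g, hg⟩ := CfsgLib.Hall.exists_conj_eq (G := M) inferInstance h2 h4 (H := L.subgroupOf M) (K := K.subgroupOf M) h1' h1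
  exact ⟨g, g.2, conj_of_conj_subgroupOf hKM hLM g hg⟩

theorem norm_iff {K : Subgroup G} {x : G} : x ∈ normalizer (K : Set G) ↔ MulAut.conj x • K = K := by
  constructor
  · intro h
    ext y
    rw [mem_conj_iff]
    rw [mem_normalizer_iff'] at h
    have := h (x⁻¹ * y)
    constructor
    · intro hy
      have h2 := this.1 hy
      simpa using h2
    · intro hy
      apply this.2
      simpa using hy
  · intro h
    rw [mem_normalizer_iff]
    intro y
    constructor
    · intro hy
      rw [← h, mem_conj_iff]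
      have : x⁻¹ * (x * y * x⁻¹) * x = y := by group
      rw [this]; exact hy
    · intro hy
      rw [← h, mem_conj_iff] at hy
      have : x⁻¹ * (x * y * x⁻¹) * x = y := by group
      rwa [this] at hy

/-- the key covering property -/
theorem quot [Finite G] [hs : Group.IsSolvable G] {K : Nat.Primes → Subgroup G} (hK : IsComplementSystem K) (N : Subgroup G) [N.Normal] :
    systemNormalizer (fun p => (K p).map (QuotientGroup.mk' N)) = (systemNormalizer K).map (QuotientGroup.mk' N) := by
  apply le_antisymm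
  · intro xb hxb
    obtain ⟨x, rfl⟩ := QuotientGroup.mk'_surjective N xb
    rw [systemNormalizer, Subgroup.mem_iInf] at hxb
    have hM : ∀ p : Nat.Primes, MulAut.conj x • K p ≤ K p ⊔ N := by
      intro p y hy
      rw [mem_conj_iff] at hy
      have h1 := (mem_normalizer_iff.1 (hxb p) (QuotientGroup.mk' N (x⁻¹ * y * x))).1 (Subgroup.mem_map_of_mem _ hy)
      have h2 : QuotientGroup.mk' N x * QuotientGroup.mk' N (x⁻¹ * y * x) * (QuotientGroup.mk' N x)⁻¹ = QuotientGroup.mk' N y := by
        rw [← map_inv, ← map_mul, ← map_mul]; congr 1; group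
      rw [h2] at h1
      obtain ⟨z, hz, hzy⟩ := h1
      have h3 : z⁻¹ * y ∈ N := by
        rw [← QuotientGroup.ker_mk' N, MonoidHom.mem_ker, map_mul, map_inv, hzy, inv_mul_cancel]
      have h4 : y = z * (z⁻¹ * y) := by group
      rw [h4]
      exact Subgroup.mul_mem_sup hz h3
    have hn : ∀ p : Nat.Primes, ∃ n : N, MulAut.conj (n : G) • K p = MulAut.conj x • K p := by
      intro p
      obtain ⟨m, hm, hmK⟩ := conj_in (sys_cop hK p) (hK p) (le_sup_left : K p ≤ K p ⊔ N) (hM p) (by
        exact (Nat.card_congr (Subgroup.equivSMul (MulAut.conj x) (K p)).toEquiv).symm)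
      rw [sup_comm, Subgroup.mem_sup_of_normal_left] at hm
      obtain ⟨n, hn, k, hk, rfl⟩ := hm
      refine ⟨⟨n, hn⟩, ?_⟩
      rw [map_mul, mul_smul, norm_iff.1 (Subgroup.le_normalizer hk)] at hmK
      exact hmK
    choose n hn using hn
    obtain ⟨m, hm⟩ := crt (G := N) (fun p => (normalizer (K p : Set G)).subgroupOf N) (by
      intro p
      have h1 : ((normalizer (K p : Set G)).subgroupOf N).index ∣ (K p).index := by
        have h2 : ((normalizer (K p : Set G)).subgroupOf N).index ∣ ((K p).subgroupOf N).index :=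
          Subgroup.index_dvd_of_le (Subgroup.comap_mono Subgroup.le_normalizer)
        refine h2.trans ?_
        exact ⟨_, (relIndex_mul_index_sup (K p) N).symm⟩
      rw [hK p] at h1
      obtain ⟨k, -, hk⟩ := (Nat.dvd_prime_pow p.2).1 h1
      exact ⟨k, hk⟩) n
    refine ⟨(m : G)⁻¹ * x, ?_, ?_⟩
    · rw [SetLike.mem_coe, systemNormalizer, Subgroup.mem_iInf]
      intro p
      have h1 := hm p
      rw [Subgroup.mem_subgroupOf] at h1
      have h2 := norm_iff.1 h1
      rw [norm_iff, map_mul, mul_smul, ← hn p]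
      rw [Subgroup.coe_mul, map_mul, mul_smul] at h2
      have h3 : MulAut.conj (m : G) • K p = MulAut.conj (n p : G) • K p := by
        rw [Subgroup.coe_inv, map_inv, inv_smul_eq_iff] at h2
        exact h2
      rw [← h3, map_inv, inv_smul_smul]
    · rw [map_mul, map_inv, show QuotientGroup.mk' N (m : G) = 1 from (QuotientGroup.eq_one_iff _).2 m.2, inv_one, one_mul]
  · rw [Subgroup.map_le_iff_le_comap]
    intro x hx
    rw [Subgroup.mem_comap, systemNormalizer, Subgroup.mem_iInf]
    intro p
    have h1 : x ∈ normalizer (K p : Set G) := by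
      rw [systemNormalizer, Subgroup.mem_iInf] at hx
      exact hx p
    exact Subgroup.le_normalizer_map (QuotientGroup.mk' N) (Subgroup.mem_map_of_mem _ h1)

theorem quot_sys [Finite G] {K : Nat.Primes → Subgroup G} (hK : IsComplementSystem K) (N : Subgroup G) [N.Normal] :
    IsComplementSystem (fun p => (K p).map (QuotientGroup.mk' N)) := by
  intro p
  have h1 : ((K p).map (QuotientGroup.mk' N)).index ∣ (K p).index := by
    exact Subgroup.index_map_dvd _ (QuotientGroup.mk'_surjective N)
  rw [hK p] at h1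
  obtain ⟨k, -, hk⟩ := (Nat.dvd_prime_pow p.2).1 h1
  have h2 := ((K p).map (QuotientGroup.mk' N)).card_mul_index
  have h3 : ((Nat.card ((K p).map (QuotientGroup.mk' N)))).Coprime (p:ℕ) :=
    (sys_cop hK p).coprime_dvd_left (Subgroup.card_map_dvd _ _)
  have h4 : (Nat.card (G ⧸ N)).factorization p = k := by
    rw [← h2, hk, Nat.factorization_mul Nat.card_pos.ne' (pow_ne_zero _ p.2.ne_zero), Finsupp.add_apply, p.2.factorization_pow,
      Finsupp.single_eq_same, Nat.factorization_eq_zero_of_not_dvd, zero_add]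
    intro h
    exact (Nat.Prime.coprime_iff_not_dvd p.2).1 h3.symm h
  rw [h4]
  exact hk

/-- the normal closure of a system normalizer -/
theorem closure_top [Finite G] [hs : Group.IsSolvable G] {K : Nat.Primes → Subgroup G} (hK : IsComplementSystem K) :
    Subgroup.normalClosure ((systemNormalizer K : Subgroup G) : Set G) = ⊤ := by
  by_contra hne
  set N := Subgroup.normalClosure ((systemNormalizer K : Subgroup G) : Set G) with hN
  haveI : Nontrivial (G ⧸ N) := by
    by_contra h
    rw [not_nontrivial_iff_subsingleton] at h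
    exact hne (QuotientGroup.subgroup_eq_top_of_subsingleton N h)
  have hlt : commutator (G ⧸ N) < ⊤ := IsSolvable.commutator_lt_top_of_nontrivial (G ⧸ N)
  let M : Subgroup G := (commutator (G ⧸ N)).comap (QuotientGroup.mk' N)
  haveI : M.Normal := inferInstance
  have hNM : N ≤ M := by
    intro x hx
    show QuotientGroup.mk' N x ∈ commutator (G ⧸ N)
    rw [show QuotientGroup.mk' N x = 1 from (QuotientGroup.eq_one_iff _).2 hx]
    exact one_mem _
  have hMt : M ≠ ⊤ := by
    intro h
    apply hlt.ne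
    rw [eq_top_iff]
    intro y _
    obtain ⟨x, rfl⟩ := QuotientGroup.mk'_surjective N y
    have : x ∈ M := by rw [h]; trivial
    exact this
  have hcomm : commutator G ≤ M := by
    have h1 : (commutator G).map (QuotientGroup.mk' N) ≤ commutator (G ⧸ N) := by
      rw [_root_.commutator_def, _root_.commutator_def, Subgroup.map_commutator]
      exact Subgroup.commutator_mono le_top le_top
    exact Subgroup.map_le_iff_le_comap.1 h1
  have h1 := quot hK M
  have h2 : (systemNormalizer K).map (QuotientGroup.mk' M) = ⊥ := by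
    rw [Subgroup.map_eq_bot_iff, QuotientGroup.ker_mk']
    exact Subgroup.subset_normalClosure.trans hNM
  have h3 : systemNormalizer (fun p => (K p).map (QuotientGroup.mk' M)) = ⊤ := by
    rw [systemNormalizer, eq_top_iff]
    refine le_iInf fun p => ?_
    intro x _
    rw [mem_normalizer_iff]
    intro y
    have hc : x * y * x⁻¹ = y := by
      obtain ⟨a, rfl⟩ := QuotientGroup.mk'_surjective M x
      obtain ⟨b, rfl⟩ := QuotientGroup.mk'_surjective M y
      rw [← map_inv, ← map_mul, ← map_mul]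
      show (QuotientGroup.mk (a * b * a⁻¹) : G ⧸ M) = QuotientGroup.mk b
      rw [QuotientGroup.eq]
      have h5 : (a * b * a⁻¹)⁻¹ * b = ⁅a, b⁻¹⁆ := by rw [commutatorElement_def]; group
      rw [h5]
      exact hcomm (Subgroup.commutator_mem_commutator (Subgroup.mem_top _) (Subgroup.mem_top _))
    rw [hc]
  rw [h2, h3] at h1
  apply hMt
  rw [eq_top_iff]
  intro x _
  have : QuotientGroup.mk' M x ∈ (⊥ : Subgroup (G ⧸ M)) := by rw [← h1]; trivial
  exact (QuotientGroup.eq_one_iff _).1 (Subgroup.mem_bot.1 this)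

/-- central chief factors are covered -/
theorem cover [Finite G] [hs : Group.IsSolvable G] {K : Nat.Primes → Subgroup G} (hK : IsComplementSystem K) (A B : Subgroup G)
    [A.Normal] [B.Normal] (hAB : A ≤ B) (hc : ⁅B, (⊤ : Subgroup G)⁆ ≤ A) : B ≤ A ⊔ systemNormalizer K := by
  intro b hb
  have h1 : QuotientGroup.mk' A b ∈ systemNormalizer (fun p => (K p).map (QuotientGroup.mk' A)) := by
    rw [systemNormalizer, Subgroup.mem_iInf]
    intro p
    rw [mem_normalizer_iff]
    intro y
    have hc' : QuotientGroup.mk' A b * y * (QuotientGroup.mk' A b)⁻¹ = y := by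
      obtain ⟨a, rfl⟩ := QuotientGroup.mk'_surjective A y
      rw [← map_inv, ← map_mul, ← map_mul]
      show (QuotientGroup.mk (b * a * b⁻¹) : G ⧸ A) = QuotientGroup.mk a
      rw [QuotientGroup.eq]
      have h5 : (b * a * b⁻¹)⁻¹ * a = ⁅b, a⁻¹⁆ := by rw [commutatorElement_def]; group
      rw [h5]
      exact hc (Subgroup.commutator_mem_commutator hb (Subgroup.mem_top _))
    rw [hc']
  rw [quot hK A] at h1
  obtain ⟨d, hd, hdb⟩ := h1
  have h2 : b * d⁻¹ ∈ A := by
    rw [← QuotientGroup.ker_mk' A, MonoidHom.mem_ker, map_mul, map_inv, hdb, mul_inv_cancel]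
  have h3 : b = (b * d⁻¹) * d := by group
  rw [h3]
  exact Subgroup.mul_mem_sup h2 hd

/-- noncentral minimal normal subgroups are avoided -/
theorem avoid_aux [Finite G] [hs : Group.IsSolvable G] {K : Nat.Primes → Subgroup G} (hK : IsComplementSystem K) (B : Subgroup G)
    [hBn : B.Normal] (hB : B ≠ ⊥) (hmin : ∀ N : Subgroup G, N.Normal → N ≤ B → N = ⊥ ∨ N = B)
    (hnc : ¬ ⁅B, (⊤ : Subgroup G)⁆ ≤ ⊥) : B ⊓ systemNormalizer K = ⊥ := by
  obtain ⟨hBc, p, d, hp, hd, hcard⟩ := CfsgLib.SolvStr2.minimal_normal_abelian inferInstance B hB hmin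
  haveI : Fact p.Prime := ⟨hp⟩
  have hBp : IsPGroup p B := IsPGroup.of_card hcard
  set C : Subgroup G := centralizer (B : Set G) with hC
  haveI : C.Normal := inferInstance
  have hCt : C ≠ ⊤ := by
    intro h
    apply hnc
    rw [Subgroup.commutator_le]
    intro b hb g _
    rw [Subgroup.mem_bot, commutatorElement_eq_one_iff_mul_comm]
    have : g ∈ C := by rw [h]; trivial
    exact mem_centralizer_iff.1 this b hb
  haveI : Nontrivial (G ⧸ C) := by
    by_contra h
    rw [not_nontrivial_iff_subsingleton] at h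
    exact hCt (QuotientGroup.subgroup_eq_top_of_subsingleton C h)
  obtain ⟨M, hMn, -, hMb, -, hMc, q, hq, hMq⟩ := CfsgLib.SZ.exists_minimal_normal_le (⊤ : Subgroup (G ⧸ C)) inferInstance top_ne_bot
  haveI : Fact q.Prime := ⟨hq⟩
  let R : Subgroup G := M.comap (QuotientGroup.mk' C)
  haveI hRn : R.Normal := inferInstance
  have hRC : ¬ R ≤ C := by
    intro h
    apply hMb
    rw [eq_bot_iff]
    intro y hy
    obtain ⟨x, rfl⟩ := QuotientGroup.mk'_surjective C y
    exact Subgroup.mem_bot.2 ((QuotientGroup.eq_one_iff _).2 (h (show x ∈ R from hy)))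
  have hqp : p ≠ q := by
    rintro rfl
    apply hRC
    refine CfsgLib.PStabN.le_centralizer_of_min hBp hBn hB hmin hRn fun r hr => ⟨1, ?_⟩
    rw [pow_one, ← hC]
    have h1 := hMq _ (show QuotientGroup.mk' C r ∈ M from hr)
    rw [← map_pow] at h1
    exact (QuotientGroup.eq_one_iff _).1 h1
  set P : Nat.Primes := ⟨p, hp⟩ with hP
  have hRK : R ≤ C ⊔ K P := by
    rw [← Subgroup.relIndex_eq_one]
    have h1 : (C ⊔ K P).relIndex R ∣ p ^ (Nat.card G).factorization p := by
      have h2 : (C ⊔ K P).relIndex R ∣ (C ⊔ K P).index := ⟨_, (relIndex_mul_index_sup (C ⊔ K P) R).symm⟩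
      have h3 : (C ⊔ K P).index ∣ (K P).index := Subgroup.index_dvd_of_le le_sup_right
      have h4 := hK P
      exact (h2.trans h3).trans (dvd_of_eq h4)
    have h2 : ∃ e, (C ⊔ K P).relIndex R ∣ q ^ e := by
      have hMq' : IsPGroup q M := fun x => ⟨1, by rw [pow_one]; exact Subtype.ext (hMq x x.2)⟩
      obtain ⟨e, he⟩ := IsPGroup.iff_card.1 hMq'
      refine ⟨e, ?_⟩
      rw [← he]
      have h3 : (C ⊔ K P).relIndex R ∣ C.relIndex R := Subgroup.relIndex_dvd_of_le_left R le_sup_left
      have h4 : C.relIndex R = Nat.card M := by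
        have h5 : C = (⊥ : Subgroup (G ⧸ C)).comap (QuotientGroup.mk' C) := by
          rw [MonoidHom.comap_bot, QuotientGroup.ker_mk']
        conv_lhs => rw [h5]
        rw [Subgroup.relIndex_comap, Subgroup.map_comap_eq_self_of_surjective (QuotientGroup.mk'_surjective C), Subgroup.relIndex_bot_left]
      rw [h4] at h3
      exact h3
    obtain ⟨e, he⟩ := h2
    exact Nat.eq_one_of_dvd_coprimes (Nat.Coprime.pow _ _ ((Nat.coprime_primes hp hq).2 hqp)) h1 he
  rw [eq_bot_iff]
  rintro x ⟨hxB, hxD⟩
  have hxK : ∀ k ∈ K P, k * x = x * k := by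
    intro k hk
    have hxn : x ∈ normalizer (K P : Set G) := by
      have hxD' : x ∈ ⨅ p : Nat.Primes, normalizer (K p : Set G) := hxD
      rw [Subgroup.mem_iInf] at hxD'
      exact hxD' P
    have h1 : x * k * x⁻¹ * k⁻¹ ∈ K P := (K P).mul_mem ((mem_normalizer_iff.1 hxn k).1 hk) ((K P).inv_mem hk)
    have h2 : x * k * x⁻¹ * k⁻¹ ∈ B := by
      have : x * k * x⁻¹ * k⁻¹ = x * (k * x⁻¹ * k⁻¹) := by group
      rw [this]
      exact B.mul_mem hxB (hBn.conj_mem _ (B.inv_mem hxB) k)
    have h3 : orderOf (x * k * x⁻¹ * k⁻¹) ∣ Nat.card (K P) := by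
      have := orderOf_dvd_natCard (⟨_, h1⟩ : K P)
      rwa [Subgroup.orderOf_mk] at this
    have h4 : orderOf (x * k * x⁻¹ * k⁻¹) ∣ p ^ d := by
      have := orderOf_dvd_natCard (⟨_, h2⟩ : B)
      rwa [Subgroup.orderOf_mk, hcard] at this
    have h5 : orderOf (x * k * x⁻¹ * k⁻¹) = 1 :=
      Nat.eq_one_of_dvd_coprimes ((sys_cop hK P).pow_right d) h3 h4
    rw [orderOf_eq_one_iff, mul_inv_eq_one, mul_inv_eq_iff_eq_mul] at h5
    exact h5.symm
  have hxKR : C ⊔ K P ≤ centralizer {x} := by
    rw [sup_le_iff]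
    constructor
    · intro c hc
      rw [mem_centralizer_singleton_iff]
      exact (mem_centralizer_iff.1 hc x hxB).symm
    · intro k hk
      rw [mem_centralizer_singleton_iff]
      exact hxK k hk
  have hxR : x ∈ B ⊓ centralizer (R : Set G) := ⟨hxB, by
    show x ∈ centralizer (R : Set G)
    rw [mem_centralizer_iff]
    intro r hr
    exact mem_centralizer_singleton_iff.1 (hxKR (hRK hr))⟩
  rcases hmin _ (inferInstance : (B ⊓ centralizer (R : Set G)).Normal) inf_le_left with h | h
  · rw [h] at hxR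
    exact hxR
  · exfalso
    apply hRC
    have h2 : B ≤ centralizer (R : Set G) := by rw [← h]; exact inf_le_right
    exact Subgroup.le_centralizer_iff.1 h2

theorem avoid [Finite G] [hs : Group.IsSolvable G] {K : Nat.Primes → Subgroup G} (hK : IsComplementSystem K) (A B : Subgroup G)
    [A.Normal] [B.Normal] (hAB : A < B) (hchief : ∀ N : Subgroup G, N.Normal → A ≤ N → N ≤ B → N = A ∨ N = B)
    (hnc : ¬ ⁅B, (⊤ : Subgroup G)⁆ ≤ A) : B ⊓ systemNormalizer K ≤ A := by
  have hs' := quot_sys hK A
  have hsur := QuotientGroup.mk'_surjective A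
  haveI : (B.map (QuotientGroup.mk' A)).Normal := Subgroup.Normal.map inferInstance _ hsur
  have hBb : B.map (QuotientGroup.mk' A) ≠ ⊥ := by
    intro h
    rw [Subgroup.map_eq_bot_iff, QuotientGroup.ker_mk'] at h
    exact hAB.not_ge h
  have h := avoid_aux hs' (B.map (QuotientGroup.mk' A)) hBb (by
    intro N hN hNB
    have h1 := hchief (N.comap (QuotientGroup.mk' A)) inferInstance (by
      intro a ha
      show QuotientGroup.mk' A a ∈ N
      rw [show QuotientGroup.mk' A a = 1 from (QuotientGroup.eq_one_iff _).2 ha]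
      exact one_mem _) (by
      intro x hx
      obtain ⟨b, hb, hbx⟩ := hNB hx
      have h2 : b⁻¹ * x ∈ A := by
        rw [← QuotientGroup.ker_mk' A, MonoidHom.mem_ker, map_mul, map_inv, hbx, inv_mul_cancel]
      have h3 : x = b * (b⁻¹ * x) := by group
      rw [h3]
      exact B.mul_mem hb (hAB.le h2))
    have h4 := Subgroup.map_comap_eq_self_of_surjective hsur N
    rcases h1 with h1 | h1
    · left
      rw [← h4, h1, Subgroup.map_eq_bot_iff, QuotientGroup.ker_mk']
    · right
      rw [← h4, h1]) (by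
    intro h
    apply hnc
    rw [Subgroup.commutator_le]
    intro b hb g _
    have h1 : ⁅QuotientGroup.mk' A b, QuotientGroup.mk' A g⁆ ∈ (⊥ : Subgroup (G ⧸ A)) :=
      h (Subgroup.commutator_mem_commutator (Subgroup.mem_map_of_mem _ hb) (Subgroup.mem_top _))
    rw [← map_commutatorElement, Subgroup.mem_bot] at h1
    exact (QuotientGroup.eq_one_iff _).1 h1)
  rintro x ⟨hxB, hxD⟩
  have h1 : QuotientGroup.mk' A x ∈ B.map (QuotientGroup.mk' A) ⊓ systemNormalizer (fun p => (K p).map (QuotientGroup.mk' A)) := by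
    refine ⟨Subgroup.mem_map_of_mem _ hxB, ?_⟩
    rw [quot hK A]
    exact Subgroup.mem_map_of_mem _ hxD
  rw [h] at h1
  exact (QuotientGroup.eq_one_iff _).1 (Subgroup.mem_bot.1 h1)

end CfsgLib.SysN
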