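import Cfsg.Agent.Lib.ThmA8
import Cfsg.Agent.Lib.CFRed3
/-! Control of strong fusion by `Z(J(D))` for strongly closed `D`. -/
set_option autoImplicit false
set_option linter.style.haveILetI false

universe u v

namespace CfsgLib.DFus
open CfsgLib.ThmA CfsgLib.CF CfsgLib.ZJ3 CfsgLib.ZJ4 CfsgLib.PSt CfsgLib.PSt2 CfsgLib.ZJ5
open CfsgLib CfsgLib.Coprime CfsgLib.SylBridge
open scoped commutatorElement Pointwise

variable {p : ℕ} [hp : Fact p.Prime]
variable {X : Type u} [Group X]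

/-- strongly closed -/
def SC (D S : Subgroup X) : Prop := D ≤ S ∧ ∀ x ∈ D, ∀ g : X, g * x * g⁻¹ ∈ S → g * x * g⁻¹ ∈ D

/-- strong control -/
def Ctl (N S : Subgroup X) : Prop :=
  ∀ (A : Set X) (g : X), A ⊆ S → (∀ a ∈ A, g * a * g⁻¹ ∈ S) → ∃ n ∈ N, ∀ a ∈ A, n * a * n⁻¹ = g * a * g⁻¹

omit hp in
theorem SC.subgroupOf {D S H : Subgroup X} (h : SC D S) : SC (D.subgroupOf H) (S.subgroupOf H) := by
  refine ⟨fun x hx => h.1 hx, ?_⟩
  intro x hx g hg
  exact h.2 x hx g hg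

theorem SC.map [Finite X] {D S : Subgroup X} (h : SC D S) (hS : IsSyl p S ⊤) (K : Subgroup X) [K.Normal] :
    SC (D.map (QuotientGroup.mk' K)) (S.map (QuotientGroup.mk' K)) := by
  refine ⟨Subgroup.map_mono h.1, ?_⟩
  rintro _ ⟨d, hd, rfl⟩ g hg
  obtain ⟨g, rfl⟩ := QuotientGroup.mk'_surjective K g
  rw [← map_inv, ← map_mul, ← map_mul] at hg ⊢
  have h1 : g * d * g⁻¹ ∈ S ⊔ K := by
    have h2 : g * d * g⁻¹ ∈ (S.map (QuotientGroup.mk' K)).comap (QuotientGroup.mk' K) := hg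
    rw [Subgroup.comap_map_eq, QuotientGroup.ker_mk'] at h2
    exact h2
  have hSM : IsSyl p S (S ⊔ K) := CfsgLib.SylBridge.IsSyl.of_le' hS le_sup_left le_top
  have h2 : Subgroup.zpowers (g * d * g⁻¹) ≤ S ⊔ K := by rwa [Subgroup.zpowers_le]
  have h3 : IsPGroup p (Subgroup.zpowers (g * d * g⁻¹)) := by
    have h4 : Subgroup.zpowers (g * d * g⁻¹) = (Subgroup.zpowers d).map (MulAut.conj g).toMonoidHom := by
      rw [MonoidHom.map_zpowers]; rfl
    rw [h4]
    exact (hS.isPGroup.to_le (by rw [Subgroup.zpowers_le]; exact h.1 hd)).map _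
  obtain ⟨m, hm, hmS⟩ := exists_conj_le hSM h3 h2
  have h4 : m * (g * d * g⁻¹) * m⁻¹ ∈ S := hmS (conj_mem_smul (Subgroup.mem_zpowers _))
  rw [← SetLike.mem_coe, Subgroup.mul_normal S K] at hm
  obtain ⟨s, hs, k, hk, hsk⟩ := hm
  simp only at hsk
  have h5 : (k * g) * d * (k * g)⁻¹ ∈ S := by
    have e : (k * g) * d * (k * g)⁻¹ = s⁻¹ * (m * (g * d * g⁻¹) * m⁻¹) * s := by rw [← hsk]; group
    rw [e]
    exact S.mul_mem (S.mul_mem (S.inv_mem hs) h4) hs
  refine ⟨_, h.2 d hd (k * g) h5, ?_⟩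
  have hk1 : QuotientGroup.mk' K k = 1 := by rw [← MonoidHom.mem_ker, QuotientGroup.ker_mk']; exact hk
  simp only [map_mul, map_inv, hk1, one_mul, mul_inv_rev, inv_one, mul_one]

omit hp in
/-- control in a proper subgroup -/
theorem Ctl.of_subgroup [Finite X] {D S H : Subgroup X} (hDS : D ≤ S) (hSH : S ≤ H) {e : ℕ}
    (h : Ctl (Subgroup.normalizer (ZM e (D.subgroupOf H) : Set H)) (S.subgroupOf H))
    {A : Set X} (hA : A ⊆ S) {g : X} (hg : g ∈ H) (hAg : ∀ a ∈ A, g * a * g⁻¹ ∈ S) :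
    ∃ n ∈ H ⊓ Subgroup.normalizer (ZM e D : Set X), ∀ a ∈ A, n * a * n⁻¹ = g * a * g⁻¹ := by
  obtain ⟨n, hn, hna⟩ := h (H.subtype ⁻¹' A) ⟨g, hg⟩ (fun a ha => hA ha) (fun a ha => hAg a ha)
  refine ⟨n, ⟨n.2, ?_⟩, ?_⟩
  · have e1 : (ZM e (D.subgroupOf H)).map H.subtype = ZM e D := by
      rw [ZM_map H.subtype H.subtype_injective, Subgroup.map_subgroupOf_eq_of_le (hDS.trans hSH)]
    apply mem_normalizer_of_conj_mem
    intro u hu
    rw [← e1] at hu ⊢
    obtain ⟨w, hw, rfl⟩ := hu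
    exact ⟨n * w * n⁻¹, (Subgroup.mem_normalizer_iff.mp hn w).mp hw, rfl⟩
  · intro a ha
    exact congrArg Subtype.val (hna ⟨a, hSH (hA ha)⟩ ha)

omit hp in
theorem ZM_le_normalizer {D S : Subgroup X} (h : SC D S) (e : ℕ) : S ≤ Subgroup.normalizer (ZM e D : Set X) := by
  have h1 : S ≤ Subgroup.normalizer (D : Set X) := by
    intro s hs
    rw [Subgroup.mem_normalizer_iff]
    intro x
    constructor
    · intro hx
      exact h.2 x hx s (S.mul_mem (S.mul_mem hs (h.1 hx)) (S.inv_mem hs))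
    · intro hx
      have h2 := h.2 _ hx s⁻¹
      have e1 : s⁻¹ * (s * x * s⁻¹) * s⁻¹⁻¹ = x := by group
      rw [e1] at h2
      apply h2
      have h3 := S.mul_mem (S.mul_mem (S.inv_mem hs) (h.1 hx)) hs
      have e2 : s⁻¹ * (s * x * s⁻¹) * s = x := by group
      rw [e2] at h3
      exact h3
  exact h1.trans (normalizer_le_normalizer_ZM e D)

/-- the inductive statement -/
def Ind (p : ℕ) (e : ℕ) (X : Type u) [Group X] : Prop :=
  ∀ D S : Subgroup X, IsSyl p S ⊤ → SC D S → Ctl (Subgroup.normalizer (ZM e D : Set X)) S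

theorem Ind.proper [Finite X] {e : ℕ} {H S D : Subgroup X} (h : Ind p e H) (hS : IsSyl p S ⊤) (hD : SC D S) (hSH : S ≤ H)
    {A : Set X} (hA : A ⊆ S) {g : X} (hg : g ∈ H) (hAg : ∀ a ∈ A, g * a * g⁻¹ ∈ S) :
    ∃ n ∈ H ⊓ Subgroup.normalizer (ZM e D : Set X), ∀ a ∈ A, n * a * n⁻¹ = g * a * g⁻¹ := by
  have hS' : IsSyl p (S.subgroupOf H) ⊤ := by
    have h1 : IsSyl p S H := CfsgLib.SylBridge.IsSyl.of_le' hS hSH le_top
    rw [← isSyl_map_iff H.subtype H.subtype_injective, Subgroup.map_subgroupOf_eq_of_le hSH, ← MonoidHom.range_eq_map, Subgroup.range_subtype]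
    exact h1
  exact Ctl.of_subgroup hD.1 hSH (h _ _ hS' hD.subgroupOf) hA hg hAg

/-- quotient by a `p'`-subgroup -/
theorem ctl_of_quotient' [Finite X] {e : ℕ} {D S : Subgroup X} (hS : IsSyl p S ⊤) (hD : SC D S) (K : Subgroup X) [K.Normal]
    (hK : (Nat.card K).Coprime p) (h : Ctl (Subgroup.normalizer (ZM e (D.map (QuotientGroup.mk' K)) : Set (X ⧸ K))) (S.map (QuotientGroup.mk' K))) :
    Ctl (Subgroup.normalizer (ZM e D : Set X)) S := by
  intro A g hA hAg
  have hSp := hS.isPGroup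
  set π := QuotientGroup.mk' K with hπ
  have hSb : IsSyl p (S.map π) ⊤ := isSyl_map_surj π (QuotientGroup.mk'_surjective K) hS
  obtain ⟨nb, hnb, hnbA⟩ := h (π '' A) (π g) (by
    rintro _ ⟨a, ha, rfl⟩; exact Subgroup.mem_map_of_mem π (hA ha)) (by
    rintro _ ⟨a, ha, rfl⟩
    rw [← map_inv, ← map_mul, ← map_mul]
    exact Subgroup.mem_map_of_mem π (hAg a ha))
  have hDK : D ⊓ K = ⊥ := by
    rw [inf_comm]
    exact inf_eq_bot_of_coprime hK (hSp.to_le hD.1)
  rw [← ZM_map_mk (p := p) e D hDK] at hnb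
  set V := ZM e D with hV
  have hVp : IsPGroup p V := hSp.to_le ((ZM_le e D).trans hD.1)
  obtain ⟨n1, hn1, rfl⟩ := exists_lift_normalizer K hK hVp hnb
  have hSV : S ≤ Subgroup.normalizer (V : Set X) := ZM_le_normalizer hD e
  set M := Subgroup.normalizer (V : Set X) ⊓ (S ⊔ K) with hM
  have hSM : IsSyl p S M := CfsgLib.SylBridge.IsSyl.of_le' hS (le_inf hSV le_sup_left) le_top
  have hBn : ∀ b ∈ A, n1 * b * n1⁻¹ ∈ S ⊔ K := by
    intro b hb
    have h1 := hnbA (π b) ⟨b, hb, rfl⟩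
    have e : S ⊔ K = (S.map π).comap π := by
      rw [Subgroup.comap_map_eq, hπ, QuotientGroup.ker_mk']
    rw [e, Subgroup.mem_comap, map_mul, map_mul, map_inv]
    change π n1 * π b * (π n1)⁻¹ ∈ _
    rw [h1, ← map_inv, ← map_mul, ← map_mul]
    exact Subgroup.mem_map_of_mem π (hAg b hb)
  have hD1 : MulAut.conj n1 • Subgroup.closure A ≤ M := by
    refine le_inf ?_ ?_
    · rw [smul_le_iff]
      intro a ha
      have haS : a ∈ S := (Subgroup.closure_le S).2 hA ha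
      exact mul_mem (mul_mem hn1 (hSV haS)) (inv_mem hn1)
    · rw [smul_le_iff]
      exact sub_closure_conj hBn
  have hDp : IsPGroup p (MulAut.conj n1 • Subgroup.closure A : Subgroup X) :=
    isPGroup_smul (hSp.to_le ((Subgroup.closure_le S).2 hA))
  obtain ⟨m, hm, hmS⟩ := exists_conj_le hSM hDp hD1
  have hm2 : m ∈ S ⊔ K := hm.2
  rw [← SetLike.mem_coe, Subgroup.mul_normal S K] at hm2
  obtain ⟨s, hs, k, hk, hsk⟩ := hm2
  simp only at hsk
  have hkm : k = s⁻¹ * m := by rw [← hsk]; group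
  have hkN : k ∈ Subgroup.normalizer (V : Set X) := by
    rw [hkm]; exact mul_mem (inv_mem (hSV hs)) hm.1
  refine ⟨k * n1, mul_mem hkN hn1, ?_⟩
  intro a ha
  have h1 : k * n1 * a * (k * n1)⁻¹ ∈ S := by
    have h1 := hmS (conj_mem_smul (g := m) (conj_mem_smul (g := n1) (Subgroup.subset_closure ha)))
    have e : k * n1 * a * (k * n1)⁻¹ = s⁻¹ * (m * (n1 * a * n1⁻¹) * m⁻¹) * s := by rw [hkm]; group
    rw [e]
    exact S.mul_mem (S.mul_mem (S.inv_mem hs) h1) hs
  have h2 := mk_injOn (K := K) hK hSp ((k * n1 * a * (k * n1)⁻¹) * (g * a * g⁻¹)⁻¹)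
    (S.mul_mem h1 (S.inv_mem (hAg a ha))) (by
      have h3 := hnbA (π a) ⟨a, ha, rfl⟩
      have hk1 : π k = 1 := by rw [← MonoidHom.mem_ker, hπ, QuotientGroup.ker_mk']; exact hk
      change π _ = 1
      have h4 : π (k * n1 * a * (k * n1)⁻¹) = π (g * a * g⁻¹) := by
        rw [map_mul, map_mul, map_mul, map_inv, map_mul, hk1, one_mul, map_mul, map_mul, map_inv]
        exact h3
      rw [map_mul, map_inv, h4, mul_inv_cancel])
  exact mul_inv_eq_one.1 h2

theorem ctl_of_quotient [Finite X] {e : ℕ} {D S : Subgroup X} (hS : IsSyl p S ⊤) (hD : SC D S) (K : Subgroup X) [K.Normal]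
    (hK : (Nat.card K).Coprime p) (h : Ind p e (X ⧸ K)) : Ctl (Subgroup.normalizer (ZM e D : Set X)) S :=
  ctl_of_quotient' hS hD K hK (h _ _ (isSyl_map_surj _ (QuotientGroup.mk'_surjective K) hS) (hD.map hS K))

/-- main theorem -/
theorem ind_of_free (hp2 : p ≠ 2) {e : ℕ} (he : p ∣ e) (n : ℕ) : ∀ (X : Type u) [Group X] [Finite X], Nat.card X = n →
    ¬ Cfsg.Involves ↥(Cfsg.qd p) X → Ind p e X := by
  classical
  induction n using Nat.strong_induction_on with
  | _ n IH =>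
  intro X _ _ hn hfree D S hS hD
  have IHsub : ∀ H : Subgroup X, H ≠ ⊤ → Ind p e H := fun H hH =>
    IH _ (by rw [← hn]; exact card_subgroup_lt hH) H rfl (fun h => hfree (CfsgLib.Inv.of_subgroup h))
  have IHq : ∀ (K : Subgroup X) [K.Normal], K ≠ ⊥ → Ind p e (X ⧸ K) := by
    intro K _ hK
    refine IH _ ?_ (X ⧸ K) rfl (fun h => hfree (CfsgLib.Inv.of_hom (QuotientGroup.mk' K) (QuotientGroup.mk'_surjective K) h))
    rw [← hn]
    have h1 := K.card_mul_index
    have h2 : 1 < Nat.card K := by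
      rw [Subgroup.one_lt_card_iff_ne_bot]; exact hK
    have h3 : K.index = Nat.card (X ⧸ K) := rfl
    rw [← h3, ← h1]
    have h4 : 0 < K.index := Nat.pos_of_ne_zero Subgroup.index_ne_zero_of_finite
    nlinarith
  have hST := ZM_le_normalizer hD e
  -- reduction to O_{p'} = 1
  by_cases hO : Cfsg.pPrimeCore p X ≠ ⊥
  · haveI : (Cfsg.pPrimeCore p X).Normal := CfsgLib.Core.pPrimeCore_normal p X
    exact ctl_of_quotient hS hD (Cfsg.pPrimeCore p X) (CfsgLib.Core.card_pPrimeCore_coprime p X) (IHq _ hO)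
  push Not at hO
  -- reduction to ZM e S normal
  obtain ⟨PS, hPS⟩ := CfsgLib.SylBridge.isSyl_top_iff.1 hS
  by_cases hM : Subgroup.normalizer (ZM e S : Set X) ≠ ⊤
  · have h1 := fc_of_free hp2 he hfree X (Sect.refl X)
    have h2 := controlsStrongFusion_of_fc (WZ_char he) h1 PS
    rw [WZ_induced, hPS] at h2
    obtain ⟨T, hT, hTA⟩ := h2
    have hM1 : Ctl (Subgroup.normalizer (ZM e S : Set X)) S := by
      intro A g hA hAg
      obtain ⟨c, hc, hca⟩ := (h1 S hS) A g trivial hA hAg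
      have hSN : S ≤ Subgroup.normalizer (ZM e S : Set X) := Subgroup.le_normalizer.trans (normalizer_le_normalizer_ZM e S)
      have hcN : c ∈ Subgroup.normalizer (ZM e S : Set X) := by
        clear hca
        induction hc with
        | one _ => exact one_mem _
        | @step c n hc hn _ ih =>
          rw [mem_steps_ind] at hn
          obtain ⟨W, hW, -, hnW⟩ := hn
          rw [Set.mem_singleton_iff] at hW
          subst hW
          rw [WZ_induced] at hnW
          exact mul_mem hnW ih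
      exact ⟨c, hcN, hca⟩
    intro A g hA hAg
    obtain ⟨m, hm, hma⟩ := hM1 A g hA hAg
    have hSM : S ≤ Subgroup.normalizer (ZM e S : Set X) := Subgroup.le_normalizer.trans (normalizer_le_normalizer_ZM e S)
    obtain ⟨n, hn, hna⟩ := (IHsub _ hM).proper hS hD hSM hA hm (fun a ha => by rw [hma a ha]; exact hAg a ha)
    exact ⟨n, hn.2, fun a ha => by rw [hna a ha, hma a ha]⟩
  push Not at hM
  -- the constrained case
  have htriv : (ZM e D).Normal → Ctl (Subgroup.normalizer (ZM e D : Set X)) S := by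
    intro h A g hA hAg
    refine ⟨g, ?_, fun _ _ => rfl⟩
    rw [Subgroup.normalizer_eq_top_iff.2 h]; trivial
  by_cases hC : Cons p X
  · apply htriv
    subst hPS
    exact ZM_normal_sc hp2 hC (stab_of_normalizer (nstable_of_free hp2 hfree)) PS e hD.1 hD.2
  haveI hTn : (Cfsg.pCore p X).Normal := CfsgLib.Core.pCore_normal p X
  haveI hCn : (Subgroup.centralizer (Cfsg.pCore p X : Set X)).Normal := by infer_instance
  by_cases hY : S ⊔ Subgroup.centralizer (Cfsg.pCore p X : Set X) ≠ ⊤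
  · obtain ⟨M, hSM, hM, hfac⟩ := exists_factor hS hO hC
    intro A g hA hAg
    obtain ⟨m, hm, c, hc, rfl⟩ := hfac g
    have hD' : Subgroup.closure A ≤ S := (Subgroup.closure_le S).2 hA
    have hDg : MulAut.conj (m * c) • Subgroup.closure A ≤ S := by
      rw [smul_le_iff]; exact sub_closure_conj hAg
    obtain ⟨y, hy, m', hm', hmy, hyS⟩ := exists_decomp hS hSM hD' hm hc hDg
    obtain ⟨n1, hn1, hn1a⟩ := (IHsub _ hY).proper hS hD le_sup_left hA hy (fun a ha => hyS (conj_mem_smul (Subgroup.subset_closure ha)))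
    obtain ⟨n2, hn2, hn2a⟩ := (IHsub _ hM).proper hS hD hSM (A := (fun a => y * a * y⁻¹) '' A) (by
      rintro _ ⟨a, ha, rfl⟩
      exact hyS (conj_mem_smul (Subgroup.subset_closure ha))) hm' (by
      rintro _ ⟨a, ha, rfl⟩
      have := hAg a ha
      rw [hmy] at this
      simpa [mul_assoc] using this)
    refine ⟨n2 * n1, mul_mem hn2.2 hn1.2, ?_⟩
    intro a ha
    have e1 := hn1a a ha
    have e2 := hn2a _ ⟨a, ha, rfl⟩
    calc n2 * n1 * a * (n2 * n1)⁻¹ = n2 * (n1 * a * n1⁻¹) * n2⁻¹ := by group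
      _ = n2 * (y * a * y⁻¹) * n2⁻¹ := by rw [e1]
      _ = m' * (y * a * y⁻¹) * m'⁻¹ := e2
      _ = m' * y * a * (m' * y)⁻¹ := by group
      _ = m * c * a * (m * c)⁻¹ := by rw [hmy]
  push Not at hY
  -- the case X = S C
  by_cases hDT : D ≤ Cfsg.pCore p X
  · apply htriv
    have hDn : D.Normal := by
      refine ⟨fun d hd g => ?_⟩
      exact hD.2 d hd g (core_le_syl hS (hTn.conj_mem _ (hDT hd) g))
    rw [← Subgroup.normalizer_eq_top_iff, eq_top_iff, ← Subgroup.normalizer_eq_top_iff.2 hDn]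
    exact normalizer_le_normalizer_ZM e D
  have hST' : ¬ S ≤ Cfsg.pCore p X := not_syl_le_core hS hO hC
  set T := Cfsg.pCore p X with hT
  have hTS : T ≤ S := core_le_syl hS
  set π := QuotientGroup.mk' T with hπ
  have hT0 : T ≠ ⊥ := by
    intro h
    apply hC
    -- if T = 1 then C = X, S ⊔ C = ⊤; ZM e S normal is a normal p-subgroup
    exfalso
    have h1 : (ZM e S).Normal := Subgroup.normalizer_eq_top_iff.1 hM
    have h2 : ZM e S ≤ T := CfsgLib.Core.le_pCore h1 (hS.isPGroup.to_le (ZM_le e S))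
    rw [h, le_bot_iff] at h2
    refine ZM_ne_bot hS.isPGroup ?_ he h2
    intro h3
    apply hST'
    rw [h3]; exact bot_le
  have hSb : IsSyl p (S.map π) ⊤ := isSyl_map_surj π (QuotientGroup.mk'_surjective T) hS
  have hDb : SC (D.map π) (S.map π) := hD.map hS T
  set Vb := ZM e (D.map π) with hVb
  set L := (Subgroup.normalizer (Vb : Set (X ⧸ T))).comap π with hL
  have hSL : S ≤ L := by
    rw [hL, ← Subgroup.map_le_iff_le_comap]
    exact ZM_le_normalizer hDb e
  have hLtop : L ≠ ⊤ := by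
    intro h
    have h1 : Subgroup.normalizer (Vb : Set (X ⧸ T)) = ⊤ := by
      rw [eq_top_iff]
      intro x _
      obtain ⟨y, rfl⟩ := QuotientGroup.mk'_surjective T x
      have : y ∈ L := by rw [h]; trivial
      exact this
    have h2 : Vb.Normal := Subgroup.normalizer_eq_top_iff.1 h1
    have h3 : (Vb.comap π).Normal := inferInstance
    have hle : Vb.comap π ≤ S := by
      have h4 : Vb.comap π ≤ (S.map π).comap π := Subgroup.comap_mono ((ZM_le e _).trans hDb.1)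
      rw [Subgroup.comap_map_eq, hπ, QuotientGroup.ker_mk'] at h4
      exact h4.trans (sup_le le_rfl (core_le_syl hS))
    have h5 := CfsgLib.Core.le_pCore h3 (hS.isPGroup.to_le hle)
    have h6 : Vb = ⊥ := by
      rw [eq_bot_iff]
      intro v hv
      obtain ⟨y, rfl⟩ := QuotientGroup.mk'_surjective T v
      have : y ∈ T := h5 hv
      rw [Subgroup.mem_bot, ← MonoidHom.mem_ker, QuotientGroup.ker_mk']
      exact this
    refine ZM_ne_bot (hSb.isPGroup.to_le hDb.1) ?_ he h6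
    intro h7
    apply hDT
    intro s hs
    have : π s ∈ D.map π := Subgroup.mem_map_of_mem π hs
    rw [h7, Subgroup.mem_bot, ← MonoidHom.mem_ker, hπ, QuotientGroup.ker_mk'] at this
    exact this
  have hmod : ∀ (A : Set X), A ⊆ S → ∀ g : X, (∀ a ∈ A, g * a * g⁻¹ ∈ S) →
      ∃ c ∈ Subgroup.normalizer (ZM e D : Set X), (∀ a ∈ A, c * a * c⁻¹ ∈ S) ∧ ∀ a ∈ A, c * a * c⁻¹ * (g * a * g⁻¹)⁻¹ ∈ T := by
    intro A hA g hAg
    obtain ⟨nb, hnb, hnbA⟩ := (IHq T hT0) (D.map π) (S.map π) hSb hDb (π '' A) (π g) (by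
      rintro _ ⟨a, ha, rfl⟩; exact Subgroup.mem_map_of_mem π (hA ha)) (by
      rintro _ ⟨a, ha, rfl⟩
      rw [← map_inv, ← map_mul, ← map_mul]
      exact Subgroup.mem_map_of_mem π (hAg a ha))
    obtain ⟨l, rfl⟩ := QuotientGroup.mk'_surjective T nb
    have hlL : l ∈ L := hnb
    have hlS : ∀ a ∈ A, l * a * l⁻¹ ∈ S := by
      intro b hb
      have h3 := hnbA (π b) ⟨b, hb, rfl⟩
      have h4 : π (l * b * l⁻¹) ∈ S.map π := by
        rw [map_mul, map_mul, map_inv]
        change π l * π b * (π l)⁻¹ ∈ _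
        rw [h3, ← map_inv, ← map_mul, ← map_mul]
        exact Subgroup.mem_map_of_mem π (hAg b hb)
      rw [← Subgroup.mem_comap, Subgroup.comap_map_eq, hπ, QuotientGroup.ker_mk', sup_eq_left.2 (core_le_syl hS)] at h4
      exact h4
    obtain ⟨c, hc, hca⟩ := (IHsub L hLtop).proper hS hD hSL hA hlL hlS
    refine ⟨c, hc.2, fun a ha => by rw [hca a ha]; exact hlS a ha, ?_⟩
    intro a ha
    rw [hca a ha]
    have h3 := hnbA (π a) ⟨a, ha, rfl⟩
    rw [← QuotientGroup.ker_mk' T, MonoidHom.mem_ker, map_mul, map_inv, map_mul, map_mul, map_inv, map_mul, map_mul, map_inv]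
    change π l * π a * (π l)⁻¹ * (π g * π a * (π g)⁻¹)⁻¹ = 1
    rw [h3, mul_inv_cancel]
  have main : ∀ E0 : Subgroup X, T ≤ E0 → E0 ≤ S → ∀ g : X, MulAut.conj g • E0 ≤ S →
      ∃ n ∈ Subgroup.normalizer (ZM e D : Set X), ∀ a ∈ E0, n * a * n⁻¹ = g * a * g⁻¹ := by
    intro D0 hTD hDS g hg
    have cg := fun (g : X) (hg : MulAut.conj g • D0 ≤ S) =>
      hmod (D0 : Set X) hDS g (fun a ha => hg (conj_mem_smul ha))
    obtain ⟨h, hh, -, hsyl⟩ := exists_fully_normalized hS hDS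
    obtain ⟨c1, hc1, hc1S, hc1h⟩ := cg h hh
    obtain ⟨c2, hc2, hc2S, hc2g⟩ := cg g hg
    -- general: congruent elements give the same conjugate
    have same : ∀ c g : X, (∀ a ∈ D0, c * a * c⁻¹ * (g * a * g⁻¹)⁻¹ ∈ T) → MulAut.conj c • D0 = MulAut.conj g • D0 := by
      intro c g hcg
      refine Subgroup.eq_of_le_of_card_ge ?_ (by rw [CfsgLib.CD.card_smul, CfsgLib.CD.card_smul])
      rw [smul_le_iff]
      intro a ha
      have h1 : T ≤ MulAut.conj g • D0 := by
        intro t ht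
        rw [mem_smul]
        apply hTD
        have := hTn.conj_mem t ht g⁻¹
        simpa using this
      have h2 : c * a * c⁻¹ = (c * a * c⁻¹ * (g * a * g⁻¹)⁻¹) * (g * a * g⁻¹) := by group
      rw [h2]
      exact mul_mem (h1 (hcg a ha)) (conj_mem_smul ha)
    have hE : MulAut.conj c1 • D0 = MulAut.conj h • D0 := same _ _ hc1h
    set E := MulAut.conj h • D0 with hEdef
    have hTE : T ≤ E := by
      intro t ht
      rw [hEdef, mem_smul]
      apply hTD
      have := hTn.conj_mem t ht h⁻¹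
      simpa using this
    set x := c2⁻¹ * g with hx
    have hxD : ∀ a ∈ D0, x * a * x⁻¹ * a⁻¹ ∈ T := by
      intro a ha
      have h1 := inv_mem (hc2g a ha)
      have h2 := hTn.conj_mem _ h1 c2⁻¹
      have e1 : c2⁻¹ * (c2 * a * c2⁻¹ * (g * a * g⁻¹)⁻¹)⁻¹ * c2⁻¹⁻¹ = x * a * x⁻¹ * a⁻¹ := by rw [hx]; group
      rwa [e1] at h2
    have hxN : MulAut.conj x • D0 = D0 := by
      rw [hx, smul_mul, ← same _ _ hc2g, inv_smul_smul']
    have hx' : c1 * x * c1⁻¹ ∈ BB E T := by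
      constructor
      · apply mem_normalizer_of_smul_eq
        rw [smul_mul, smul_mul, ← hE, inv_smul_smul', hxN]
      · intro e he
        rw [← hE, mem_smul] at he
        have h2 := hTn.conj_mem _ (hxD _ he) c1
        have e1 : c1 * (x * (c1⁻¹ * e * c1) * x⁻¹ * (c1⁻¹ * e * c1)⁻¹) * c1⁻¹ =
          c1 * x * c1⁻¹ * e * (c1 * x * c1⁻¹)⁻¹ * e⁻¹ := by group
        rwa [e1] at h2
    obtain ⟨s, hs, hse⟩ := exists_mul_of_mem_BB hS hh hTE hY hsyl hx'
    refine ⟨c2 * (c1⁻¹ * s * c1), mul_mem hc2 (mul_mem (mul_mem (inv_mem hc1) (hST hs)) hc1), ?_⟩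
    intro a ha
    have h1 := hse (c1 * a * c1⁻¹) (by rw [← hE]; exact conj_mem_smul ha)
    have e1 : c2 * (c1⁻¹ * s * c1) * a * (c2 * (c1⁻¹ * s * c1))⁻¹ = c2 * (c1⁻¹ * (s * (c1 * a * c1⁻¹) * s⁻¹) * c1) * c2⁻¹ := by group
    rw [e1, h1, hx]
    group
  intro A g hA hAg
  have h1 : Subgroup.closure A ≤ S := (Subgroup.closure_le _).2 hA
  have h2 : MulAut.conj g • Subgroup.closure A ≤ S := by
    rw [smul_le_iff]; exact sub_closure_conj hAg
  obtain ⟨n, hn, hna⟩ := main (Subgroup.closure A ⊔ T) le_sup_right (sup_le h1 hTS) g (conj_sup_le hTS h2)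
  exact ⟨n, hn, fun a ha => hna a ((le_sup_left : Subgroup.closure A ≤ Subgroup.closure A ⊔ T) (Subgroup.subset_closure ha))⟩

end CfsgLib.DFus
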