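import Mathlib
import Cfsg.Agent.Lib.OrbitProd

/-! Products over orbits of a group generated by subgroups; the case `p = 2`. -/

set_option autoImplicit false

namespace CfsgLib.WC2

open MulAction Finset

variable {p : ℕ} [hp : Fact p.Prime]

theorem orbit_split {R : Type*} [Group R] [Finite R] {Ω : Type*} [MulAction R Ω] [Finite Ω]
    {B : Type*} [CommGroup B] (h : Ω → B) (q₀ : Ω) {R₀ : Subgroup R} (hidx : R₀.index = p) (hn : R₀.Normal)
    (hle : stabilizer R q₀ ≤ R₀) {w : R} (hwR : w ∉ R₀)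
    [Fintype (orbit R q₀)] [Fintype (orbit R₀ q₀)] :
    ∏ x ∈ range p ×ˢ (orbit R₀ q₀).toFinset, h (w ^ x.1 • x.2) = ∏ q ∈ (orbit R q₀).toFinset, h q := by
  classical
  have hcard : Nat.card (R ⧸ R₀) = p := by rw [← Subgroup.index_eq_card]; exact hidx
  have hord : orderOf (QuotientGroup.mk w : R ⧸ R₀) = p := by
    have h1 : (QuotientGroup.mk w : R ⧸ R₀) ≠ 1 := by
      intro h2
      exact hwR ((QuotientGroup.eq_one_iff w).1 h2)
    have h2 : orderOf (QuotientGroup.mk w : R ⧸ R₀) ∣ p := by rw [← hcard]; exact orderOf_dvd_natCard _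
    rcases (Nat.dvd_prime hp.out).1 h2 with h3 | h3
    · exact absurd (orderOf_eq_one_iff.1 h3) h1
    · exact h3
  set B0 := (orbit R₀ q₀).toFinset with hB0
  refine Finset.prod_nbij (fun x => w ^ x.1 • x.2) ?_ ?_ ?_ (fun _ _ => rfl)
  · rintro ⟨i, q⟩ hx
    simp only [mem_product, mem_range, hB0, Set.mem_toFinset] at hx
    obtain ⟨r, rfl⟩ := hx.2
    simp only [Set.mem_toFinset]
    exact ⟨w ^ i * r, by simp only; rw [mul_smul]; rfl⟩
  · rintro ⟨i, q⟩ hx ⟨j, q'⟩ hx' heq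
    simp only [coe_product, Set.mem_prod, mem_coe, mem_range, hB0, Set.mem_toFinset] at hx hx' heq
    obtain ⟨r, rfl⟩ := hx.2
    obtain ⟨r', rfl⟩ := hx'.2
    have h1 : (w ^ j * (r' : R))⁻¹ * (w ^ i * (r : R)) ∈ R₀ := by
      apply hle
      rw [mem_stabilizer_iff, mul_smul, inv_smul_eq_iff, mul_smul, mul_smul]
      exact heq
    have h2 : (w ^ j)⁻¹ * w ^ i ∈ R₀ := by
      have h3 := R₀.mul_mem (R₀.mul_mem r'.2 h1) (R₀.inv_mem r.2)
      have e : (r' : R) * ((w ^ j * (r' : R))⁻¹ * (w ^ i * (r : R))) * (r : R)⁻¹ = (w ^ j)⁻¹ * w ^ i := by group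
      rwa [e] at h3
    have h3 : (QuotientGroup.mk w : R ⧸ R₀) ^ i = (QuotientGroup.mk w : R ⧸ R₀) ^ j := by
      have := QuotientGroup.eq.2 h2
      exact this.symm
    have hij : i = j := pow_injOn_Iio_orderOf (by rw [Set.mem_Iio, hord]; exact hx.1)
      (by rw [Set.mem_Iio, hord]; exact hx'.1) h3
    subst hij
    have h4 : (r : R₀) • q₀ = (r' : R₀) • q₀ := by
      exact smul_left_cancel _ heq
    exact Prod.ext rfl h4
  · rintro q hq'
    simp only [mem_coe, Set.mem_toFinset] at hq'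
    obtain ⟨r, rfl⟩ := hq'
    have h1 : (QuotientGroup.mk r : R ⧸ R₀) ∈ Subgroup.zpowers (QuotientGroup.mk w : R ⧸ R₀) := by
      have : Subgroup.zpowers (QuotientGroup.mk w : R ⧸ R₀) = ⊤ := by
        rw [← Subgroup.card_eq_iff_eq_top, Nat.card_zpowers, hord, hcard]
      rw [this]; trivial
    rw [mem_zpowers_iff_mem_range_orderOf, hord] at h1
    obtain ⟨i, hi, hir⟩ := Finset.mem_image.1 h1
    have h2 : (w ^ i)⁻¹ * r ∈ R₀ := by
      rw [← QuotientGroup.eq]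
      exact hir
    refine ⟨(i, (⟨(w ^ i)⁻¹ * r, h2⟩ : R₀) • q₀), ?_, ?_⟩
    · simp only [coe_product, Set.mem_prod, mem_coe, hi, true_and, hB0, Set.mem_toFinset]
      exact ⟨_, rfl⟩
    · simp only
      show w ^ i • ((w ^ i)⁻¹ * r) • q₀ = r • q₀
      rw [← mul_smul, mul_inv_cancel_left]

omit hp in
/-- orbits of size at least `4` of quadratically acting groups -/
theorem orbit_two {A : Type*} [Group A] [Finite A] (hA : IsPGroup 2 A) {Ω : Type*} [MulAction A Ω] [Finite Ω]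
    {B : Type*} [CommGroup B] (hB : ∀ b : B, b * b = 1) (h : Ω → B) (q₀ : Ω) (hne : ∃ a : A, a • q₀ ≠ q₀)
    (hq : ∀ a b : A, h (a • b • q₀) * h (b • q₀) = h (a • q₀) * h q₀)
    (hno : (stabilizer A q₀).index ≠ 2) [Fintype (orbit A q₀)] :
    ∏ q ∈ (orbit A q₀).toFinset, h q = 1 := by
  classical
  haveI : Fact (Nat.Prime 2) := ⟨Nat.prime_two⟩
  have hst : stabilizer A q₀ ≠ ⊤ := by
    intro h1
    obtain ⟨r, hr⟩ := hne
    apply hr
    have : r ∈ stabilizer A q₀ := by rw [h1]; trivial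
    exact this
  obtain ⟨R₀, hR₀, hle⟩ := (eq_top_or_exists_le_coatom (stabilizer A q₀)).resolve_left hst
  have hidx := CfsgLib.PGrp.index_of_coatom hA hR₀
  have hn : R₀.Normal := CfsgLib.PGrp.normal_of_index_prime hA hidx
  obtain ⟨w, hw⟩ : ∃ w : A, w ∉ R₀ := by
    by_contra hcon
    push Not at hcon
    exact hR₀.1 (eq_top_iff.2 fun x _ => hcon x)
  haveI : Fintype (orbit R₀ q₀) := Fintype.ofFinite _
  rw [← orbit_split (p := 2) h q₀ hidx hn hle hw, Finset.prod_product_right]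
  have h1 : ∀ q ∈ (orbit R₀ q₀).toFinset, ∏ x ∈ range 2, h (w ^ (x, q).1 • (x, q).2) = h (w • q₀) * h q₀ := by
    intro q hq'
    rw [Set.mem_toFinset] at hq'
    obtain ⟨r, rfl⟩ := hq'
    rw [Finset.prod_range_succ, Finset.prod_range_one, pow_zero, one_smul, pow_one, ← hq w r, mul_comm]
    rfl
  rw [Finset.prod_congr rfl h1, Finset.prod_const]
  obtain ⟨n, hn'⟩ := (hA.to_subgroup R₀).card_orbit q₀
  have h2 : (orbit R₀ q₀).toFinset.card = 2 ^ n := by
    rw [Set.toFinset_card, ← Nat.card_eq_fintype_card, hn']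
  rw [h2]
  rcases Nat.eq_zero_or_pos n with h0 | hpos
  · exfalso
    apply hno
    rw [h0, pow_zero] at hn'
    have h3 : R₀ ≤ stabilizer A q₀ := by
      intro r hr
      have hs : Subsingleton (orbit R₀ q₀) := (Nat.card_eq_one_iff_unique.1 hn').1
      have h4 : (⟨(⟨r, hr⟩ : R₀) • q₀, ⟨⟨r, hr⟩, rfl⟩⟩ : orbit R₀ q₀) = ⟨q₀, mem_orbit_self q₀⟩ := Subsingleton.elim _ _
      exact congrArg Subtype.val h4
    rw [le_antisymm hle h3]; exact hidx
  · obtain ⟨m, rfl⟩ := Nat.exists_eq_succ_of_ne_zero hpos.ne'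
    rw [pow_succ, mul_comm, pow_mul, pow_two, hB]

omit hp in
theorem prod_of_orbits {A : Type*} [Group A] {Ω : Type*} [MulAction A Ω] [Finite Ω]
    {B : Type*} [CommGroup B] (h : Ω → B) (n : ℕ) :
    ∀ Δ : Finset Ω, Δ.card ≤ n → (∀ r : A, ∀ q ∈ Δ, r • q ∈ Δ) →
      (∀ q ∈ Δ, ∀ [Fintype (orbit A q)], ∏ q' ∈ (orbit A q).toFinset, h q' = 1) → ∏ q ∈ Δ, h q = 1 := by
  classical
  induction n with
  | zero =>
    intro Δ hΔ _ _
    have : Δ = ∅ := Finset.card_eq_zero.1 (Nat.le_zero.1 hΔ)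
    subst this; simp
  | succ n ih =>
    intro Δ hΔ hinv hfix
    by_cases hne : Δ.Nonempty
    swap
    · rw [Finset.not_nonempty_iff_eq_empty] at hne
      subst hne; simp
    obtain ⟨q₀, hq₀⟩ := hne
    haveI : Fintype (orbit A q₀) := Fintype.ofFinite _
    have hO := hfix q₀ hq₀
    have hsub : (orbit A q₀).toFinset ⊆ Δ := by
      intro q hq
      rw [Set.mem_toFinset] at hq
      obtain ⟨r, rfl⟩ := hq
      exact hinv r q₀ hq₀
    rw [← Finset.prod_sdiff hsub, hO, mul_one]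
    apply ih
    · have h1 : q₀ ∈ (orbit A q₀).toFinset := by rw [Set.mem_toFinset]; exact mem_orbit_self q₀
      have h2 : (Δ \ (orbit A q₀).toFinset).card < Δ.card := by
        apply Finset.card_lt_card
        refine ⟨Finset.sdiff_subset, fun h3 => ?_⟩
        have := h3 hq₀
        rw [Finset.mem_sdiff] at this
        exact this.2 h1
      omega
    · intro r q hq
      rw [Finset.mem_sdiff, Set.mem_toFinset] at hq ⊢
      refine ⟨hinv r q hq.1, fun h1 => hq.2 ?_⟩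
      obtain ⟨s, hs⟩ := h1
      refine ⟨r⁻¹ * s, ?_⟩
      simp only at hs ⊢
      rw [mul_smul, hs, inv_smul_smul]
    · intro q hq
      exact hfix q (Finset.mem_sdiff.1 hq).1

/-- nontrivial orbits of a `p`-group generated by subgroups whose nontrivial orbits have product `1` -/
theorem orbit_of_subgroups {R : Type*} [Group R] [Finite R] (hR : IsPGroup p R) {Ω : Type*} [MulAction R Ω] [Finite Ω]
    {B : Type*} [CommGroup B] (𝒰 : Set (Subgroup R)) (hU : sSup 𝒰 = ⊤) (h : Ω → B)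
    (hv : ∀ A ∈ 𝒰, ∀ q : Ω, (∃ a : A, a • q ≠ q) → ∀ [Fintype (orbit A q)], ∏ q' ∈ (orbit A q).toFinset, h q' = 1)
    (q₀ : Ω) (hq : ∃ r : R, r • q₀ ≠ q₀) [Fintype (orbit R q₀)] : ∏ q ∈ (orbit R q₀).toFinset, h q = 1 := by
  classical
  have hst : stabilizer R q₀ ≠ ⊤ := by
    intro h1
    obtain ⟨r, hr⟩ := hq
    apply hr
    have : r ∈ stabilizer R q₀ := by rw [h1]; trivial
    exact this
  obtain ⟨R₀, hR₀, hle⟩ := (eq_top_or_exists_le_coatom (stabilizer R q₀)).resolve_left hst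
  have hidx := CfsgLib.PGrp.index_of_coatom hR hR₀
  have hn : R₀.Normal := CfsgLib.PGrp.normal_of_index_prime hR hidx
  obtain ⟨A, hAU, hAR⟩ : ∃ A ∈ 𝒰, ¬ A ≤ R₀ := by
    by_contra hcon
    push Not at hcon
    apply hR₀.1
    rw [eq_top_iff, ← hU]
    exact sSup_le hcon
  refine prod_of_orbits (A := A) h _ _ le_rfl ?_ ?_
  · intro a q hq'
    rw [Set.mem_toFinset] at hq' ⊢
    obtain ⟨r, rfl⟩ := hq'
    exact ⟨a * r, by simp only; rw [mul_smul]; rfl⟩
  · intro q hq' _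
    rw [Set.mem_toFinset] at hq'
    obtain ⟨r, rfl⟩ := hq'
    apply hv A hAU
    by_contra hcon
    push Not at hcon
    apply hAR
    intro a ha
    have h1 := hcon ⟨a, ha⟩
    have h2 : a • r • q₀ = r • q₀ := h1
    have h3 : r⁻¹ * a * r ∈ stabilizer R q₀ := by
      rw [mem_stabilizer_iff, mul_smul, mul_smul, h2, inv_smul_smul]
    have h4 := hn.conj_mem _ (hle h3) r
    have e : r * (r⁻¹ * a * r) * r⁻¹ = a := by group
    rwa [e] at h4

theorem prod_eq_fixed {R : Type*} [Group R] [Finite R] (hR : IsPGroup p R) {Ω : Type*} [MulAction R Ω] [Fintype Ω]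
    {B : Type*} [CommGroup B] (𝒰 : Set (Subgroup R)) (hU : sSup 𝒰 = ⊤) (h : Ω → B)
    (hv : ∀ A ∈ 𝒰, ∀ q : Ω, (∃ a : A, a • q ≠ q) → ∀ [Fintype (orbit A q)], ∏ q' ∈ (orbit A q).toFinset, h q' = 1)
    (q₁ : Ω) (h1 : ∀ r : R, r • q₁ = q₁)
    (h2 : ∀ q, (∀ r : R, r • q = q) → q = q₁) : ∏ q, h q = h q₁ := by
  classical
  rw [← Finset.mul_prod_erase Finset.univ h (Finset.mem_univ q₁)]
  rw [prod_of_orbits (A := R) h _ (Finset.univ.erase q₁) le_rfl, mul_one]
  · intro r q hq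
    rw [Finset.mem_erase] at hq ⊢
    refine ⟨fun h3 => hq.1 ?_, Finset.mem_univ _⟩
    rw [← inv_smul_smul r q, h3, h1]
  · intro q hq _
    apply orbit_of_subgroups hR 𝒰 hU h hv
    by_contra hcon
    push Not at hcon
    exact (Finset.mem_erase.1 hq).1 (h2 q hcon)

end CfsgLib.WC2
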