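import Cfsg.Agent.Lib.WCDesc
import Cfsg.Agent.Lib.WC2Orb

/-! Weak closure of elements for `p = 2`: the descending argument. -/

set_option autoImplicit false

open scoped Pointwise commutatorElement
open CfsgLib.CF CfsgLib.Coprime CfsgLib.SylBridge

namespace CfsgLib.WC2

variable {X : Type*} [Group X] [Finite X]

local notation "ZQ" => (Cfsg.pCore 2 X ⊓ Subgroup.centralizer (Cfsg.pCore 2 X : Set X))

theorem desc {S M : Subgroup X} (hS : IsSyl 2 S ⊤) (hSM : S ≤ M) (hMmax : ∀ L : Subgroup X, L ≠ ⊤ → S ≤ L → L ≤ M)
    (𝒰 : Set (Subgroup X)) (hUS : ∀ A ∈ 𝒰, A ≤ S)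
    (hUconj : ∀ A ∈ 𝒰, ∀ g : X, MulAut.conj g • A ≤ S → MulAut.conj g • A ∈ 𝒰)
    (hUne : ∃ A ∈ 𝒰, ¬ A ≤ Cfsg.pCore 2 X)
    (hUab : ∀ A ∈ 𝒰, ∀ a ∈ A, ∀ b ∈ A, a * b = b * a)
    (hUq : ∀ A ∈ 𝒰, ∀ a ∈ A, ∀ b ∈ A, ∀ v ∈ ZQ, b * (a * v * a⁻¹ * v⁻¹) = (a * v * a⁻¹ * v⁻¹) * b)
    (hUno : ∀ A ∈ 𝒰, ∀ g : X, (MulAut.conj g • M).relIndex A ≠ 2) :
    ZQ ⊓ Subgroup.centralizer (M : Set X) ≤ Subgroup.center X := by
  classical
  haveI h2F : Fact (Nat.Prime 2) := ⟨Nat.prime_two⟩
  have hPn := CfsgLib.Core.pCore_normal 2 X
  have hZn : (ZQ).Normal := CfsgLib.WCDesc.ZQ_normal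
  have hPS : Cfsg.pCore 2 X ≤ S := core_le_syl hS
  have hPp : IsPGroup 2 (Cfsg.pCore 2 X) := CfsgLib.Core.pCore_isPGroup 2 X
  have hZcomm : ∀ a ∈ ZQ, ∀ b ∈ ZQ, a * b = b * a := by
    rintro a ⟨ha, -⟩ b ⟨-, hb⟩
    exact Subgroup.mem_centralizer_iff.1 hb a ha
  set R : Subgroup X := sSup 𝒰 with hR
  have hRS : R ≤ S := sSup_le hUS
  have hRp : IsPGroup 2 R := hS.isPGroup.to_le hRS
  have hRweak : ∀ g : X, MulAut.conj g • R ≤ S → g ∈ Subgroup.normalizer (R : Set X) := by
    intro g hg
    apply mem_normalizer_of_smul_eq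
    refine Subgroup.eq_of_le_of_card_ge ?_ (CfsgLib.CD.card_smul _ _).ge
    have h1 : R ≤ MulAut.conj g⁻¹ • R := by
      apply sSup_le
      intro A hA
      have h2 : MulAut.conj g • A ≤ S := (smul_le_smul (le_sSup hA)).trans hg
      have h3 : MulAut.conj g • A ≤ R := le_sSup (hUconj A hA g h2)
      have h4 := smul_le_smul (g := g⁻¹) h3
      rwa [← smul_mul, inv_mul_cancel, map_one, one_smul] at h4
    have h4 := smul_le_smul (g := g) h1
    rwa [← smul_mul, mul_inv_cancel, map_one, one_smul] at h4
  have hSN : S ≤ Subgroup.normalizer (R : Set X) := by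
    intro s hs
    apply hRweak
    rw [smul_le_iff]
    intro a ha
    exact S.mul_mem (S.mul_mem hs (hRS ha)) (S.inv_mem hs)
  have hNM : Subgroup.normalizer (R : Set X) ≤ M := by
    refine hMmax _ ?_ hSN
    intro h
    have h1 : R.Normal := Subgroup.normalizer_eq_top_iff.1 h
    obtain ⟨A, hA, hAP⟩ := hUne
    exact hAP ((le_sSup hA).trans (CfsgLib.Core.le_pCore h1 hRp))
  -- fixed points of `R` on `X / M`
  have hfix : ∀ q : X ⧸ M, (∀ r : R, r • q = q) → q = QuotientGroup.mk 1 := by
    intro q hq
    induction q using QuotientGroup.induction_on with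
    | H g =>
      have h1 : MulAut.conj g⁻¹ • R ≤ M := by
        rw [smul_le_iff]
        intro r hr
        have h2 := hq ⟨r, hr⟩
        have h3 : (QuotientGroup.mk (r * g) : X ⧸ M) = QuotientGroup.mk g := h2
        rw [QuotientGroup.eq] at h3
        have h4 := M.inv_mem h3
        simpa [mul_assoc] using h4
      obtain ⟨m, hm, hmS⟩ := exists_conj_le (CfsgLib.SylBridge.IsSyl.of_le' hS hSM le_top) (isPGroup_smul hRp) h1
      rw [← smul_mul] at hmS
      have h5 := hNM (hRweak _ hmS)
      rw [QuotientGroup.eq, mul_one]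
      have h6 := M.mul_mem (M.inv_mem hm) h5
      simpa using h6
  have hfix1 : ∀ r : R, r • (QuotientGroup.mk 1 : X ⧸ M) = QuotientGroup.mk 1 := by
    intro r
    show (QuotientGroup.mk ((r : X) * 1) : X ⧸ M) = QuotientGroup.mk 1
    rw [QuotientGroup.eq]
    simpa using hSM (hRS r.2)
  haveI : Fintype (X ⧸ M) := Fintype.ofFinite _
  -- descend
  have main : ∀ n : ℕ, ∀ A : Subgroup X, Nat.card A ≤ n → A.Normal → A ≤ ZQ →
      A ⊓ Subgroup.centralizer (M : Set X) ≤ Subgroup.center X := by
    intro n
    induction n with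
    | zero =>
      intro A hA _ _
      have : 0 < Nat.card A := Nat.card_pos
      omega
    | succ n ih =>
      intro A hA hAn hAZ
      by_cases hA1 : A = ⊥
      · rw [hA1, bot_inf_eq]; exact bot_le
      obtain ⟨B, hAB⟩ := CfsgLib.ChiefP.exists_chief hAn hA1
      haveI hBn := hAB.2.2.1
      haveI := hAn
      rintro x ⟨hxA, hxM⟩
      letI : CommGroup A := { (inferInstance : Group A) with
        mul_comm := by
          rintro ⟨a, ha⟩ ⟨b, hb⟩
          exact Subtype.ext (hZcomm a (hAZ ha) b (hAZ hb)) }
      -- the function on cosets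
      let f : X ⧸ M → A := fun q => ⟨q.out * x * q.out⁻¹, hAn.conj_mem x hxA q.out⟩
      have hf : ∀ g : X, (f (QuotientGroup.mk g) : X) = g * x * g⁻¹ := by
        intro g
        have h1 : (QuotientGroup.mk ((QuotientGroup.mk g : X ⧸ M).out) : X ⧸ M) = QuotientGroup.mk g :=
          QuotientGroup.out_eq' _
        set o := (QuotientGroup.mk g : X ⧸ M).out with ho
        have h2 : o⁻¹ * g ∈ M := QuotientGroup.eq.1 h1
        show o * x * o⁻¹ = g * x * g⁻¹
        have h3 := Subgroup.mem_centralizer_iff.1 hxM _ h2
        have e : g = o * (o⁻¹ * g) := by group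
        calc o * x * o⁻¹ = o * (x * (o⁻¹ * g)) * (o⁻¹ * g)⁻¹ * o⁻¹ := by group
          _ = o * ((o⁻¹ * g) * x) * (o⁻¹ * g)⁻¹ * o⁻¹ := by rw [h3]
          _ = g * x * g⁻¹ := by group
      set y : A := ∏ q : X ⧸ M, f q with hy
      -- `y` is central
      have hyc : (y : X) ∈ Subgroup.center X := by
        rw [Subgroup.mem_center_iff]
        intro g
        let c : A →* A := (MulAut.conjNormal g : MulAut A).toMonoidHom
        have h1 : c y = y := by
          rw [hy, map_prod]
          refine Fintype.prod_equiv (MulAction.toPerm g : Equiv.Perm (X ⧸ M)) _ _ ?_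
          intro q
          induction q using QuotientGroup.induction_on with
          | H k =>
            apply Subtype.ext
            have h2 : (MulAction.toPerm g : Equiv.Perm (X ⧸ M)) (QuotientGroup.mk k) = QuotientGroup.mk (g * k) := rfl
            rw [h2, hf]
            show ((MulAut.conjNormal g : MulAut A) (f (QuotientGroup.mk k)) : X) = _
            rw [MulAut.conjNormal_apply, hf]
            group
        have h2 : g * (y : X) * g⁻¹ = y := by
          have h2 : ((c y : A) : X) = (y : X) := by rw [h1]
          have h3 : ((c y : A) : X) = g * (y : X) * g⁻¹ :=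
            MulAut.conjNormal_apply g y
          rw [← h3, h2]
        calc g * (y : X) = g * (y : X) * g⁻¹ * g := by group
          _ = y * g := by rw [h2]
      have hyA : (y : X) ∈ A := y.2
      -- product modulo `B`
      set K := B.subgroupOf A with hK
      let ψ : A →* (A ⧸ K) := QuotientGroup.mk' K
      have hψ : ∀ a : A, ψ a = 1 ↔ (a : X) ∈ B := fun a => QuotientGroup.eq_one_iff a
      have hexp : ∀ b : A ⧸ K, b * b = 1 := by
        intro b
        obtain ⟨a, rfl⟩ := QuotientGroup.mk'_surjective K b
        have h1 := CfsgLib.ChiefP.chief_pow hPp hAB (hAZ.trans inf_le_left) a.2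
        rw [pow_two] at h1
        rw [← map_mul]
        exact (hψ (a * a)).2 h1
      -- the family inside `R`
      set 𝒰' : Set (Subgroup R) := (fun A => A.subgroupOf R) '' 𝒰 with h𝒰'
      have hU' : sSup 𝒰' = ⊤ := by
        have h1 : (sSup 𝒰').map R.subtype = R := by
          apply le_antisymm (Subgroup.map_subtype_le _)
          conv_lhs => rw [hR]
          apply sSup_le
          intro A' hA'
          have h2 : (A'.subgroupOf R).map R.subtype = A' := Subgroup.map_subgroupOf_eq_of_le (le_sSup hA')
          have h3 : A'.subgroupOf R ∈ 𝒰' := ⟨A', hA', rfl⟩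
          rw [← h2]
          exact Subgroup.map_mono (le_sSup h3)
        have h2 : (sSup 𝒰').map R.subtype = (⊤ : Subgroup R).map R.subtype := by
          rw [h1, ← MonoidHom.range_eq_map, Subgroup.range_subtype]
        exact Subgroup.map_injective R.subtype_injective h2
      have horb := prod_eq_fixed (p := 2) (R := R) hRp (Ω := X ⧸ M) 𝒰' hU'
        (fun q => ψ (f q)) (by
          rintro _ ⟨A', hA', rfl⟩ q hne _
          refine orbit_two (hRp.to_subgroup _) hexp _ q hne ?_ ?_
          · intro a b
            induction q using QuotientGroup.induction_on with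
            | H g =>
            have ha : ((a : R) : X) ∈ A' := a.2
            have hb : ((b : R) : X) ∈ A' := b.2
            have e1 : b • (QuotientGroup.mk g : X ⧸ M) = QuotientGroup.mk (((b : R) : X) * g) := rfl
            have e2 : a • (QuotientGroup.mk (((b : R) : X) * g) : X ⧸ M) = QuotientGroup.mk (((a : R) : X) * (((b : R) : X) * g)) := rfl
            have e3 : a • (QuotientGroup.mk g : X ⧸ M) = QuotientGroup.mk (((a : R) : X) * g) := rfl
            simp only [e1, e2, e3]
            -- replace `z` by `z⁻¹`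
            have hinv : ∀ z : A ⧸ K, z⁻¹ = z := fun z => inv_eq_of_mul_eq_one_right (hexp z)
            rw [← hinv (ψ (f (QuotientGroup.mk (((b : R) : X) * g)))), ← hinv (ψ (f (QuotientGroup.mk g))),
              ← map_inv, ← map_inv, ← map_mul, ← map_mul]
            congr 1
            apply Subtype.ext
            rw [Subgroup.coe_mul, Subgroup.coe_mul, Subgroup.coe_inv, Subgroup.coe_inv, hf, hf, hf, hf]
            generalize ((a : R) : X) = α at ha
            generalize ((b : R) : X) = β at hb
            have hv : g * x * g⁻¹ ∈ ZQ := hAZ (hAn.conj_mem x hxA g)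
            have h5 := hUq A' hA' α ha β hb _ hv
            have h6 := hUab A' hA' α ha β hb
            set v := g * x * g⁻¹ with hv'
            calc α * (β * g) * x * (α * (β * g))⁻¹ * (β * g * x * (β * g)⁻¹)⁻¹
                = (α * β) * v * (α * β)⁻¹ * (β * v * β⁻¹)⁻¹ := by rw [hv']; group
              _ = (β * α) * v * (β * α)⁻¹ * (β * v * β⁻¹)⁻¹ := by rw [h6]
              _ = (β * (α * v * α⁻¹ * v⁻¹)) * β⁻¹ := by group
              _ = α * v * α⁻¹ * v⁻¹ := by rw [h5]; group
              _ = α * g * x * (α * g)⁻¹ * (g * x * g⁻¹)⁻¹ := by rw [hv']; group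
          · induction q using QuotientGroup.induction_on with
            | H g =>
            have h1 := hUno A' hA' g
            have h2 : ((MulAction.stabilizer (A'.subgroupOf R) (QuotientGroup.mk g : X ⧸ M)).map (A'.subgroupOf R).subtype).map R.subtype =
                A' ⊓ MulAut.conj g • M := by
              ext z
              constructor
              · rintro ⟨_, ⟨w, hw, rfl⟩, rfl⟩
                refine ⟨w.2, ?_⟩
                change _ ∈ MulAut.conj g • M
                have h3 : (QuotientGroup.mk (((w : R) : X) * g) : X ⧸ M) = QuotientGroup.mk g := hw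
                rw [mem_smul]
                rw [QuotientGroup.eq] at h3
                have h4 := M.inv_mem h3
                simpa [mul_assoc] using h4
              · rintro ⟨hz1, hz2⟩
                have hzR : z ∈ R := (le_sSup hA' : A' ≤ R) hz1
                refine ⟨⟨z, hzR⟩, ⟨⟨⟨z, hzR⟩, hz1⟩, ?_, rfl⟩, rfl⟩
                show (QuotientGroup.mk (z * g) : X ⧸ M) = QuotientGroup.mk g
                change z ∈ MulAut.conj g • M at hz2
                rw [mem_smul] at hz2
                rw [QuotientGroup.eq]
                have h4 := M.inv_mem hz2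
                simpa [mul_assoc] using h4
            have h3 : (MulAction.stabilizer (A'.subgroupOf R) (QuotientGroup.mk g : X ⧸ M)).index =
                (MulAut.conj g • M).relIndex A' := by
              rw [← Subgroup.inf_relIndex_right, inf_comm, ← h2]
              have e1 : ((⊤ : Subgroup (A'.subgroupOf R)).map (A'.subgroupOf R).subtype).map R.subtype = A' := by
                rw [← MonoidHom.range_eq_map, Subgroup.range_subtype]
                exact (Subgroup.map_subgroupOf_eq_of_le (le_sSup hA'))
              generalize hst : MulAction.stabilizer (A'.subgroupOf R) (QuotientGroup.mk g : X ⧸ M) = st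
              have e2 : ((st.map (A'.subgroupOf R).subtype).map R.subtype).relIndex A' =
                ((st.map (A'.subgroupOf R).subtype).map R.subtype).relIndex
                  (((⊤ : Subgroup (A'.subgroupOf R)).map (A'.subgroupOf R).subtype).map R.subtype) := by rw [e1]
              rw [e2, Subgroup.relIndex_map_map_of_injective _ _ R.subtype_injective,
                Subgroup.relIndex_map_map_of_injective _ _ (A'.subgroupOf R).subtype_injective,
                Subgroup.relIndex_top_right]
            rw [h3]
            exact h1)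
        (QuotientGroup.mk 1) hfix1 hfix
      have h3 : ψ y = ψ ⟨x, hxA⟩ := by
        rw [hy, map_prod, horb]
        congr 1
        apply Subtype.ext
        rw [hf]; simp
      have h4 : (y : X)⁻¹ * x ∈ B := by
        have h5 : ψ (y⁻¹ * ⟨x, hxA⟩) = 1 := by rw [map_mul, map_inv, h3, inv_mul_cancel]
        exact (hψ _).1 h5
      have h5 : (y : X)⁻¹ * x ∈ Subgroup.center X := by
        refine ih B ?_ hBn (hAB.1.le.trans hAZ) ⟨h4, ?_⟩
        · have := card_lt_of_lt hAB.1; omega
        · refine (Subgroup.centralizer (M : Set X)).mul_mem ((Subgroup.centralizer (M : Set X)).inv_mem ?_) hxM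
          exact (Subgroup.center_le_centralizer _) hyc
      have h6 := mul_mem hyc h5
      simpa using h6
  exact main _ ZQ le_rfl hZn le_rfl

end CfsgLib.WC2
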