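import Cfsg.Agent.Lib.WC2Desc
import Cfsg.Agent.Lib.JA1
import Cfsg.Agent.Lib.S2010L
import Cfsg.Agent.Lib.BaerSuzuki

/-! Weak closure of elements for `p = 2`, `S₄`-free groups: local analysis. -/

set_option autoImplicit false

open scoped Pointwise commutatorElement
open CfsgLib.CF CfsgLib.Coprime CfsgLib.SylBridge CfsgLib.JA CfsgLib.ZJ3 CfsgLib.ZJ2

universe u

namespace CfsgLib.WC2

/-- members of `MA 0 S` with maximal intersection with `C` act quadratically -/
theorem quadratic_of_max {G : Type u} [Group G] [Finite G] {p : ℕ} [hp : Fact p.Prime] {S Q V C A : Subgroup G}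
    (hS : IsPGroup p S) (hVS : V ≤ S)
    (hVab : ∀ x ∈ V, ∀ y ∈ V, x * y = y * x) (hVQ : ∀ x ∈ V, ∀ y ∈ Q, x * y = y * x)
    (hVn : S ≤ Subgroup.normalizer (V : Set G)) (hVC : V ≤ C) (hCV : ∀ c ∈ C, ∀ v ∈ V, c * v = v * c)
    (hA : A ∈ MA 0 S) (hAQ : ¬ A ≤ Q)
    (hmax : ∀ B ∈ MA 0 S, ¬ B ≤ Q → Nat.card (B ⊓ C : Subgroup G) ≤ Nat.card (A ⊓ C : Subgroup G)) :
    V ≤ Subgroup.normalizer (A : Set G) := by
  by_contra hnot
  have hAS : A ≤ S := hA.1
  set A' : Subgroup S := A.subgroupOf S with hA'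
  set V' : Subgroup S := V.subgroupOf S with hV'
  have hA'map : A'.map S.subtype = A := Subgroup.map_subgroupOf_eq_of_le hAS
  have hV'map : V'.map S.subtype = V := Subgroup.map_subgroupOf_eq_of_le hVS
  haveI : V'.Normal := Subgroup.normal_subgroupOf_of_le_normalizer hVn
  have hS' : IsPGroup p S := hS
  have hV'c : IsMulCommutative V' := ⟨⟨fun x y => Subtype.ext (Subtype.ext (hVab _ x.2 _ y.2))⟩⟩
  have hA'c : IsMulCommutative A' := ⟨⟨fun x y => Subtype.ext (Subtype.ext (CfsgLib.PL1.comm_of hA.2.1.1 x.2 y.2))⟩⟩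
  have hbot : ⁅V', V'⁆ = ⊥ := by
    rw [eq_bot_iff, Subgroup.commutator_le]
    intro a ha b hb
    rw [Subgroup.mem_bot, commutatorElement_eq_one_iff_mul_comm]
    exact Subtype.ext (hVab _ ha _ hb)
  have hnot' : ¬ V' ≤ Subgroup.normalizer (A' : Set S) := by
    intro hle
    apply hnot
    rw [← hV'map, ← hA'map]
    exact (Subgroup.map_mono hle).trans (Subgroup.le_normalizer_map _)
  obtain ⟨b, hb, hbN, hbA⟩ := CfsgLib.PL4.exists_normalizing_normalizer hS' V' (Subgroup.normalizer (A' : Set S)) hnot'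
  obtain ⟨r1, r2, r3, r4, r5, r6, r7, r8, r9, r10⟩ := replacement hS' V' (fun _ => hV'c) A' hA'c
    (by rw [hbot]; exact bot_le) b hb hbN hbA
  set B := (Ast A' b).map S.subtype with hB
  have hBS : B ≤ S := Subgroup.map_subtype_le _
  have hcardA : Nat.card A' = Nat.card A := by
    rw [← hA'map, Subgroup.card_map_of_injective S.subtype_injective]
  have hcardB : Nat.card B = Nat.card A := by
    rw [hB, Subgroup.card_map_of_injective S.subtype_injective, r1, hcardA]
  have hBc : IsMulCommutative B := by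
    apply CfsgLib.PL1.mul_comm_mk
    rintro _ ⟨x, hx, rfl⟩ _ ⟨y, hy, rfl⟩
    rw [← map_mul, ← map_mul, CfsgLib.PL1.comm_of r2 hx hy]
  have hBM : B ∈ MA 0 S := by
    rw [mem_MA_zero] at hA ⊢
    exact ⟨hBS, hBc, fun C hC hC' => by rw [hcardB]; exact hA.2.2 C hC hC'⟩
  have hbV : (b : G) ∈ V := hb
  have hlt : Nat.card (A ⊓ C : Subgroup G) < Nat.card (B ⊓ C : Subgroup G) := by
    apply CfsgLib.H7Basic.card_lt_card_of_lt
    refine lt_of_le_of_ne ?_ ?_
    · rintro c ⟨hcA, hcC⟩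
      refine ⟨?_, hcC⟩
      refine ⟨⟨c, hAS hcA⟩, ?_, rfl⟩
      refine Subgroup.mem_sup_left ⟨hcA, ?_⟩
      change (⟨c, hAS hcA⟩ : S) ∈ cb A' b
      rw [mem_cb]
      change (b : G) * c * (b : G)⁻¹ ∈ A
      rw [← hCV c hcC _ hbV]
      simpa using hcA
    · intro heq
      obtain ⟨y, hy, hyn⟩ := SetLike.exists_of_lt r4
      apply hyn
      refine ⟨?_, hy.2⟩
      have h1 : (y : G) ∈ B ⊓ C := ⟨⟨y, hy.1, rfl⟩, hVC hy.2⟩
      rw [← heq] at h1
      exact h1.1
  by_cases hBQ : B ≤ Q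
  · have h1 : V ≤ B := le_of_centralizes hBM hVS hVab (fun x hx y hy => (hVQ y hy x (hBQ hx)).symm)
    apply r5.ne
    rw [inf_eq_right]
    intro x hx
    have h2 : (x : G) ∈ B := h1 (by
      have : (x : G) ∈ V'.map S.subtype := ⟨x, hx, rfl⟩
      rwa [hV'map] at this)
    obtain ⟨y, hy, hyx⟩ := h2
    have : y = x := Subtype.ext hyx
    rwa [← this]
  · exact absurd (hmax B hBM hBQ) (not_le.2 hlt)

/-- a product of two commuting abelian subgroups is abelian -/
theorem sup_comm {G : Type u} [Group G] {A B : Subgroup G} (hA : ∀ x ∈ A, ∀ y ∈ A, x * y = y * x)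
    (hB : ∀ x ∈ B, ∀ y ∈ B, x * y = y * x) (hAB : ∀ x ∈ A, ∀ y ∈ B, x * y = y * x) :
    ∀ x ∈ A ⊔ B, ∀ y ∈ A ⊔ B, x * y = y * x := by
  have h1 : A ⊔ B ≤ Subgroup.centralizer ((A ⊔ B : Subgroup G) : Set G) := by
    rw [sup_le_iff]
    constructor
    · intro x hx
      rw [Subgroup.mem_centralizer_iff]
      have h2 : A ⊔ B ≤ Subgroup.centralizer {x} := by
        rw [sup_le_iff]
        constructor
        · intro y hy
          rw [Subgroup.mem_centralizer_singleton_iff]; exact hA _ hy _ hx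
        · intro y hy
          rw [Subgroup.mem_centralizer_singleton_iff]; exact (hAB _ hx _ hy).symm
      intro y hy
      exact Subgroup.mem_centralizer_singleton_iff.1 (h2 hy)
    · intro x hx
      rw [Subgroup.mem_centralizer_iff]
      have h2 : A ⊔ B ≤ Subgroup.centralizer {x} := by
        rw [sup_le_iff]
        constructor
        · intro y hy
          rw [Subgroup.mem_centralizer_singleton_iff]; exact (hAB _ hy _ hx)
        · intro y hy
          rw [Subgroup.mem_centralizer_singleton_iff]; exact hB _ hy _ hx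
      intro y hy
      exact Subgroup.mem_centralizer_singleton_iff.1 (h2 hy)
  intro x hx y hy
  exact Subgroup.mem_centralizer_iff.1 (h1 hy) _ hx

/-- two involutions whose product is a `2`-element generate a `2`-group -/
theorem closure_isPGroup {G : Type u} [Group G] [Finite G] {a b : G} (ha : a * a = 1) (hb : b * b = 1)
    (h : ∃ k, (a * b) ^ 2 ^ k = 1) : IsPGroup 2 (Subgroup.closure ({a, b} : Set G)) := by
  haveI : Fact (Nat.Prime 2) := ⟨Nat.prime_two⟩
  obtain ⟨k, hk⟩ := h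
  have hK : IsPGroup 2 (Subgroup.zpowers (a * b)) := by
    obtain ⟨l, _, hl⟩ := (Nat.dvd_prime_pow Nat.prime_two).1 (orderOf_dvd_of_pow_eq_one hk)
    exact IsPGroup.of_card (by rw [Nat.card_zpowers, hl])
  have hA : IsPGroup 2 (Subgroup.zpowers a) := by
    obtain ⟨l, _, hl⟩ := (Nat.dvd_prime_pow (i := orderOf a) (m := 1) Nat.prime_two).1
      (orderOf_dvd_of_pow_eq_one (by rw [pow_one, pow_two]; exact ha))
    exact IsPGroup.of_card (by rw [Nat.card_zpowers, hl])
  have hN : Subgroup.zpowers a ≤ Subgroup.normalizer (Subgroup.zpowers (a * b) : Set G) := by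
    rw [Subgroup.zpowers_le]
    apply CfsgLib.H7Basic.mem_normalizer_of_conj_mem
    rintro _ ⟨i, rfl⟩
    have ha' : a⁻¹ = a := inv_eq_of_mul_eq_one_right ha
    have hb' : b⁻¹ = b := inv_eq_of_mul_eq_one_right hb
    have e : a * (a * b) * a⁻¹ = (a * b)⁻¹ := by
      rw [mul_inv_rev, ha', hb', ← mul_assoc, ha, one_mul]
    have e2 : a * (a * b) ^ i * a⁻¹ = (a * b) ^ (-i) := by
      rw [← conj_zpow, e, inv_zpow, zpow_neg]
    exact ⟨-i, e2.symm⟩
  have h1 : IsPGroup 2 (Subgroup.zpowers a ⊔ Subgroup.zpowers (a * b) : Subgroup G) :=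
    IsPGroup.to_sup_of_normal_right' hA hK hN
  refine h1.to_le ?_
  rw [Subgroup.closure_le]
  rintro x (rfl | rfl)
  · exact Subgroup.mem_sup_left (Subgroup.mem_zpowers _)
  · have h2 := mul_mem (Subgroup.mem_sup_left (Subgroup.mem_zpowers a) : a ∈ Subgroup.zpowers a ⊔ Subgroup.zpowers (a * x))
      (Subgroup.mem_sup_right (Subgroup.mem_zpowers (a * x)))
    rwa [← mul_assoc, ha, one_mul] at h2

section Local

variable {X : Type u} [Group X] [Finite X]

local notation "ZQ" => (Cfsg.pCore 2 X ⊓ Subgroup.centralizer (Cfsg.pCore 2 X : Set X) : Subgroup X)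

/-- an element acting as a transvection gives `S₄` -/
theorem S4_of_transvection (hcore : ∀ (C : Subgroup X) [C.Normal], C = Subgroup.centralizer ((ZQ : Subgroup X) : Set X) → Cfsg.pCore 2 (X ⧸ C) = ⊥)
    {a : X} (ha2 : a * a ∈ Subgroup.centralizer ((ZQ : Subgroup X) : Set X)) (haC : a ∉ Subgroup.centralizer ((ZQ : Subgroup X) : Set X))
    {U : Subgroup X} (hUV : U ≤ ZQ) (hcard : Nat.card (ZQ : Subgroup X) ≤ 2 * Nat.card U) (haU : ∀ u ∈ U, a * u = u * a) :
    Cfsg.Involves (Equiv.Perm (Fin 4)) X := by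
  classical
  haveI h2F : Fact (Nat.Prime 2) := ⟨Nat.prime_two⟩
  set Q := Cfsg.pCore 2 X with hQ
  have hQn : Q.Normal := CfsgLib.Core.pCore_normal 2 X
  have hQp : IsPGroup 2 Q := CfsgLib.Core.pCore_isPGroup 2 X
  set V : Subgroup X := Q ⊓ Subgroup.centralizer (Q : Set X) with hV
  have hVn : V.Normal := CfsgLib.WCDesc.ZQ_normal
  have hVc : ∀ x ∈ V, ∀ y ∈ V, x * y = y * x := by
    rintro a ⟨ha, -⟩ b ⟨-, hb⟩
    exact Subgroup.mem_centralizer_iff.1 hb a ha
  set C := Subgroup.centralizer (V : Set X) with hC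
  have hCn : C.Normal := inferInstance
  set π := QuotientGroup.mk' C with hπ
  have hπ1 : ∀ g : X, π g = 1 ↔ g ∈ C := fun g => QuotientGroup.eq_one_iff g
  have ha2' : π a * π a = 1 := by rw [← map_mul]; exact (hπ1 _).2 ha2
  -- Baer-Suzuki
  obtain ⟨g, hg⟩ : ∃ g : X ⧸ C, ¬ IsPGroup 2 (Subgroup.closure ({π a, g * π a * g⁻¹} : Set (X ⧸ C))) := by
    by_contra hcon
    push Not at hcon
    obtain ⟨N, hN, hNp, haN⟩ := CfsgLib.BaerSuzuki.baer_suzuki_elt (π a) hcon
    have h1 := CfsgLib.Core.le_pCore hN hNp haN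
    rw [hcore C rfl, Subgroup.mem_bot] at h1
    exact haC ((hπ1 a).1 h1)
  obtain ⟨g, rfl⟩ := QuotientGroup.mk'_surjective C g
  set b := g * a * g⁻¹ with hb
  have hb2 : b * b ∈ C := by
    have h1 := hCn.conj_mem _ ha2 g
    have e : g * (a * a) * g⁻¹ = b * b := by rw [hb]; group
    rwa [e] at h1
  have hπb : π b = π g * π a * (π g)⁻¹ := by rw [hb, map_mul, map_mul, map_inv]
  have hb2' : π b * π b = 1 := by rw [← map_mul]; exact (hπ1 _).2 hb2
  have hnot : ¬ ∃ k, (π a * π b) ^ 2 ^ k = 1 := by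
    intro h
    apply hg
    rw [← hπ, ← hπb]
    exact closure_isPGroup ha2' hb2' h
  set c := a * b with hc
  obtain ⟨i, j, hij, ⟨k, hk⟩, hj⟩ := CfsgLib.Core.exists_ppart c 2
  set y := c ^ j with hy
  have hyodd : Odd (orderOf y) := by
    rw [← Nat.not_even_iff_odd, even_iff_two_dvd]; exact hj
  have hycop : (orderOf y).Coprime 2 := by rwa [Nat.coprime_two_right]
  have hyC : y ∉ C := by
    intro h
    apply hnot
    refine ⟨k, ?_⟩
    have h1 : π c = π (c ^ i) := by
      conv_lhs => rw [hij]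
      rw [map_mul, (hπ1 _).2 h, mul_one]
    rw [← map_mul, ← hc, h1, ← map_pow, ← hk, pow_orderOf_eq_one, map_one]
  have hay : π (a * y * a⁻¹) = (π y)⁻¹ := by
    have ha' : (π a)⁻¹ = π a := inv_eq_of_mul_eq_one_right ha2'
    have hb' : (π b)⁻¹ = π b := inv_eq_of_mul_eq_one_right hb2'
    have e : π a * (π a * π b) * (π a)⁻¹ = (π a * π b)⁻¹ := by
      rw [mul_inv_rev, ha', hb', ← mul_assoc, ha2', one_mul]
    rw [hy, map_mul, map_mul, map_inv, map_pow, hc, map_mul, ← conj_pow, e, inv_pow]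
  -- `Ω₁(V)`
  set V₁ : Subgroup X := CfsgLib.FF2.OZ 2 Q with hV₁
  have hV₁n : V₁.Normal := CfsgLib.FF2.OZ_normal hQn
  have hV₁V : V₁ ≤ V := fun v hv => hv.1
  have hV₁c : ∀ v ∈ V₁, ∀ w ∈ V₁, v * w = w * v := CfsgLib.FF2.OZ_comm
  have hV₁2 : ∀ v ∈ V₁, v * v = 1 := fun v hv => by rw [← pow_two]; exact hv.2
  have hCC : C ≤ Subgroup.centralizer (V₁ : Set X) := Subgroup.centralizer_le hV₁V
  have hy1 : y ∉ Subgroup.centralizer (V₁ : Set X) := by
    intro h
    exact hyC (CfsgLib.FF2.centralizer_OZ hQp hQn hycop h)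
  have hy1' : ∃ v ∈ V₁, y * v * y⁻¹ ≠ v := by
    by_contra hcon
    push Not at hcon
    exact hy1 (CfsgLib.FF2.mem_centralizer_iff_conj.2 hcon)
  -- commutators with `a`
  have hU2 : ∀ v ∈ V, ∀ w ∈ V, v ∉ U → w ∉ U → v⁻¹ * w ∈ U := by
    intro v hv w hw hvU hwU
    have h1 : U.relIndex V ≤ 2 := by
      have e := Subgroup.card_mul_index (U.subgroupOf V)
      have e1 : Nat.card (U.subgroupOf V) = Nat.card U := Nat.card_congr (Subgroup.subgroupOfEquivOfLe hUV).toEquiv
      rw [e1] at e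
      have e2 : U.relIndex V = (U.subgroupOf V).index := rfl
      rw [e2]
      have e3 : 0 < Nat.card U := Nat.card_pos
      by_contra hcon
      push Not at hcon
      have e4 : Nat.card U * 3 ≤ Nat.card U * (U.subgroupOf V).index := Nat.mul_le_mul_left _ hcon
      omega
    have h2 : U.relIndex V = 2 := by
      have h3 : U.relIndex V ≠ 0 := by
        have : (U.subgroupOf V).index ≠ 0 := Subgroup.index_ne_zero_of_finite
        exact this
      have h4 : U.relIndex V ≠ 1 := by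
        intro h4
        rw [Subgroup.relIndex_eq_one] at h4
        exact hvU (h4 hv)
      omega
    have h3 := (Subgroup.mul_mem_iff_of_index_two (H := U.subgroupOf V) h2 (a := (⟨v, hv⟩ : V)⁻¹) (b := ⟨w, hw⟩))
    have h4 : (⟨v, hv⟩ : V)⁻¹ * ⟨w, hw⟩ ∈ U.subgroupOf V := by
      rw [h3]
      constructor
      · intro h5
        exact absurd ((U.subgroupOf V).inv_mem h5) (by rw [inv_inv]; exact hvU)
      · intro h5
        exact absurd h5 hwU
    exact h4
  have hcom : ∀ v ∈ V, ∀ w ∈ V, v⁻¹ * w ∈ U → a * w * a⁻¹ * w⁻¹ = a * v * a⁻¹ * v⁻¹ := by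
    intro v hv w hw h
    set z := v⁻¹ * w with hz
    have e : w = v * z := by rw [hz]; group
    have h1 : a * z * a⁻¹ = z := by rw [haU z h]; group
    calc a * w * a⁻¹ * w⁻¹ = (a * v * a⁻¹) * (a * z * a⁻¹) * z⁻¹ * v⁻¹ := by rw [e]; group
      _ = a * v * a⁻¹ * v⁻¹ := by rw [h1]; group
  letI := CfsgLib.FF2.cgroup V₁ hV₁c
  set ρ := CfsgLib.FF2.rho V₁ hV₁c with hρ
  set σ := QuotientGroup.mk' (Subgroup.centralizer (V₁ : Set X)) with hσ
  have hσ1 : ∀ g : X, σ g = 1 ↔ g ∈ Subgroup.centralizer (V₁ : Set X) := fun g => QuotientGroup.eq_one_iff g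
  have hρa : ∀ (g : X) (v : Additive V₁), ((Additive.toMul (ρ (σ g) v) : V₁) : X) = g * (Additive.toMul v : V₁) * g⁻¹ :=
    fun g v => rfl
  have hcomV : ∀ w : Additive V₁, ((Additive.toMul (ρ (σ a) w - w) : V₁) : X) =
      a * (Additive.toMul w : V₁) * a⁻¹ * ((Additive.toMul w : V₁) : X)⁻¹ := by
    intro w
    rw [sub_eq_add_neg, toMul_add, toMul_neg, Subgroup.coe_mul, hρa]
    rfl
  have hcomVU : ∀ w : Additive V₁, ((Additive.toMul w : V₁) : X) ∈ U → ρ (σ a) w - w = 0 := by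
    intro w hw
    apply Additive.toMul.injective
    apply Subtype.ext
    rw [hcomV, haU _ hw]
    simp
  have key : ∃ t : Additive V₁, ∀ w : Additive V₁, ρ (σ a) w - w = 0 ∨ ρ (σ a) w - w = t := by
    by_cases h : ∃ w : Additive V₁, ρ (σ a) w - w ≠ 0
    · obtain ⟨w₀, hw₀⟩ := h
      refine ⟨ρ (σ a) w₀ - w₀, fun w => ?_⟩
      by_cases hw : ρ (σ a) w - w = 0
      · exact Or.inl hw
      · right
        apply Additive.toMul.injective
        apply Subtype.ext
        rw [hcomV, hcomV]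
        have h1 : ((Additive.toMul w : V₁) : X) ∉ U := fun h => hw (hcomVU w h)
        have h2 : ((Additive.toMul w₀ : V₁) : X) ∉ U := fun h => hw₀ (hcomVU w₀ h)
        exact hcom _ (hV₁V (Additive.toMul w₀ : V₁).2) _ (hV₁V (Additive.toMul w : V₁).2)
          (hU2 _ (hV₁V (Additive.toMul w₀ : V₁).2) _ (hV₁V (Additive.toMul w : V₁).2) h2 h1)
    · push Not at h
      exact ⟨0, fun w => Or.inl (h w)⟩
  obtain ⟨t, ht⟩ := key
  have hfx : ∀ w : Additive V₁, w ∈ CfsgLib.FF2.fx ρ (⊥ : Subgroup (X ⧸ Subgroup.centralizer (V₁ : Set X))) := by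
    intro w
    rw [CfsgLib.FF2.mem_fx]
    intro z hz
    rw [Subgroup.mem_bot] at hz
    rw [hz, map_one]; rfl
  have hcube := CfsgLib.FF2.cube_of_transvection ρ (fun m => by
      apply Additive.toMul.injective
      apply Subtype.ext
      rw [toMul_add]
      exact hV₁2 _ (Additive.toMul m : V₁).2) (B := ⊥) (y := σ y) (a := σ a) (by
      exact hyodd.of_dvd_nat (orderOf_map_dvd σ y)) (by
      intro z hz
      rw [Subgroup.mem_bot] at hz
      rw [hz, one_mul, mul_one]) (by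
      intro z hz
      rw [Subgroup.mem_bot] at hz
      rw [hz, one_mul, mul_one]) (by
      rw [← map_mul]; exact (hσ1 _).2 (hCC ha2)) (by
      have h1 : π (a * y * a⁻¹ * y) = 1 := by rw [map_mul, hay, inv_mul_cancel]
      have h2 : σ (a * y * a⁻¹ * y) = 1 := (hσ1 _).2 (hCC ((hπ1 _).1 h1))
      rw [map_mul, map_mul, map_mul, map_inv] at h2
      exact eq_inv_of_mul_eq_one_left h2) (t := t) (hfx t) (fun w _ => ht w)
  refine CfsgLib.Inv.S4_abelian (V := V₁) hV₁c hV₁2 y a hy1' ?_ ?_ ?_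
  · intro v hv
    have h1 := hcube (Additive.ofMul ⟨v, hv⟩) (hfx _)
    have h2 := congrArg (fun w : Additive V₁ => ((Additive.toMul w : V₁) : X)) h1
    simp only [← map_pow, hρa] at h2
    exact h2
  · intro v hv
    have h1 : a ^ 2 ∈ Subgroup.centralizer (V₁ : Set X) := by rw [pow_two]; exact hCC ha2
    exact CfsgLib.FF2.mem_centralizer_iff_conj.1 h1 v hv
  · intro v hv
    have h1 : π (y * (a * y * a⁻¹)) = 1 := by rw [map_mul, hay, mul_inv_cancel]
    have h2 := CfsgLib.FF2.mem_centralizer_iff_conj.1 (hCC ((hπ1 _).1 h1)) v hv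
    calc (a * y * a⁻¹) * v * (a * y * a⁻¹)⁻¹ = y⁻¹ * ((y * (a * y * a⁻¹)) * v * (y * (a * y * a⁻¹))⁻¹) * y := by group
      _ = y⁻¹ * v * y := by rw [h2]

end Local

end CfsgLib.WC2
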